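import Mathlib
import Groth.Agent.Lib.Helper8.Gor7
import Groth.Agent.Lib.Helper8.LCFlat2
import Groth.Agent.Lib.Lead.Flat6

/-!
# Gorenstein local rings along flat local homomorphisms with `m_A B = m_B` (helper20)
-/

open TensorProduct IsLocalRing

namespace Groth.Agent.Helper20.GorFlat

universe u

section Torsion

variable {A : Type u} [CommRing A] {B : Type u} [CommRing B] [Algebra A B] [Module.Flat A B]
variable {n : ℕ} (x : Fin n → A) (H : Type u) [AddCommGroup H] [Module A H]

/-- the map `h ↦ (x_i h)_i` -/
noncomputable def smulPi : H →ₗ[A] (Fin n → H) :=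
  LinearMap.pi fun i => (x i) • (LinearMap.id : H →ₗ[A] H)

theorem ker_smulPi : LinearMap.ker (smulPi x H) = Submodule.torsionBySet A H (Set.range x) := by
  ext h
  rw [LinearMap.mem_ker, Submodule.mem_torsionBySet_iff]
  constructor
  · rintro h0 ⟨_, i, rfl⟩
    exact congrFun h0 i
  · intro h0
    funext i
    exact h0 ⟨x i, i, rfl⟩

theorem piRight_lTensor_smulPi (z : B ⊗[A] H) (i : Fin n) :
    TensorProduct.piRight A B B (fun _ : Fin n => H)
      (AlgebraTensorModule.lTensor B B (smulPi x H) z) i = algebraMap A B (x i) • z := by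
  induction z using TensorProduct.induction_on with
  | zero => simp
  | tmul b h =>
    rw [AlgebraTensorModule.lTensor_tmul, TensorProduct.piRight_apply,
      TensorProduct.piRightHom_tmul]
    show b ⊗ₜ[A] (x i • h) = _
    rw [TensorProduct.tmul_smul, algebraMap_smul]
  | add a b ha hb =>
    rw [map_add, map_add, Pi.add_apply, ha, hb, smul_add]

theorem ker_lTensor_smulPi :
    LinearMap.ker (AlgebraTensorModule.lTensor B B (smulPi x H)) =
      Submodule.torsionBySet B (B ⊗[A] H) (Set.range (algebraMap A B ∘ x)) := by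
  ext z
  rw [LinearMap.mem_ker, Submodule.mem_torsionBySet_iff,
    ← (TensorProduct.piRight A B B (fun _ : Fin n => H)).map_eq_zero_iff]
  constructor
  · rintro h0 ⟨_, i, rfl⟩
    have := congrFun h0 i
    rw [piRight_lTensor_smulPi] at this
    exact this
  · intro h0
    funext i
    rw [piRight_lTensor_smulPi]
    exact h0 ⟨_, i, rfl⟩

/-- torsion commutes with flat base change (generators form) -/
noncomputable def torsionRangeBaseChange :
    B ⊗[A] Submodule.torsionBySet A H (Set.range x) ≃ₗ[B]
      Submodule.torsionBySet B (B ⊗[A] H) (Set.range (algebraMap A B ∘ x)) :=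
  (Groth.Agent.Helper8.LC.equivBaseChange B (LinearEquiv.ofEq _ _ (ker_smulPi x H).symm)) ≪≫ₗ
    LinearMap.tensorKerEquiv B B (smulPi x H) ≪≫ₗ LinearEquiv.ofEq _ _ (ker_lTensor_smulPi x H)

end Torsion

section TorsionIdeal

variable {A : Type u} [CommRing A] [IsNoetherianRing A] {B : Type u} [CommRing B] [Algebra A B]
  [Module.Flat A B]

/-- torsion commutes with flat base change (ideal form) -/
theorem nonempty_torsion_baseChange (I : Ideal A) (H : Type u) [AddCommGroup H] [Module A H] :
    Nonempty (B ⊗[A] Submodule.torsionBySet A H (I : Set A) ≃ₗ[B]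
      Submodule.torsionBySet B (B ⊗[A] H) ((I.map (algebraMap A B) : Ideal B) : Set B)) := by
  obtain ⟨n, x, hx⟩ := Submodule.fg_iff_exists_fin_generating_family.1
    (IsNoetherian.noetherian I)
  have h1 : Submodule.torsionBySet A H (I : Set A) =
      Submodule.torsionBySet A H (Set.range x) := by
    have : I = Ideal.span (Set.range x) := hx.symm
    rw [this, ← Submodule.torsionBySet_eq_torsionBySet_span (Set.range x)]
  have h2 : Submodule.torsionBySet B (B ⊗[A] H) ((I.map (algebraMap A B) : Ideal B) : Set B) =
      Submodule.torsionBySet B (B ⊗[A] H) (Set.range (algebraMap A B ∘ x)) := by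
    rw [Submodule.torsionBySet_eq_torsionBySet_span (Set.range (algebraMap A B ∘ x))]
    congr 1
    have : I = Ideal.span (Set.range x) := hx.symm
    rw [this, Ideal.map_span, Set.range_comp]
  exact ⟨Groth.Agent.Helper8.LC.equivBaseChange B (LinearEquiv.ofEq _ _ h1) ≪≫ₗ
    torsionRangeBaseChange x H ≪≫ₗ LinearEquiv.ofEq _ _ h2.symm⟩

end TorsionIdeal

section Simple

variable {A : Type u} [CommRing A] {B : Type u} [CommRing B] [Algebra A B]

/-- simplicity descends along faithfully flat base change -/
theorem isSimpleModule_of_baseChange [Module.FaithfullyFlat A B] (V : Type u) [AddCommGroup V]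
    [Module A V] (h : IsSimpleModule B (B ⊗[A] V)) : IsSimpleModule A V := by
  haveI : Nontrivial V := by
    by_contra hV
    rw [not_nontrivial_iff_subsingleton] at hV
    haveI := hV
    haveI := IsSimpleModule.nontrivial B (B ⊗[A] V)
    exact not_subsingleton (B ⊗[A] V) inferInstance
  haveI : Nontrivial (Submodule A V) := (Submodule.nontrivial_iff A).2 inferInstance
  refine { eq_bot_or_eq_top := fun W => ?_ }
  rcases eq_bot_or_eq_top (LinearMap.range (W.subtype.baseChange B)) with h0 | h1
  · left
    have hinj : Function.Injective (W.subtype.baseChange B) :=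
      Module.Flat.lTensor_preserves_injective_linearMap W.subtype W.injective_subtype
    haveI : Subsingleton (B ⊗[A] W) := by
      refine ⟨fun a b => hinj ?_⟩
      have ha : W.subtype.baseChange B a ∈ LinearMap.range (W.subtype.baseChange B) := ⟨a, rfl⟩
      have hb : W.subtype.baseChange B b ∈ LinearMap.range (W.subtype.baseChange B) := ⟨b, rfl⟩
      rw [h0, Submodule.mem_bot] at ha hb
      rw [ha, hb]
    haveI : Subsingleton W :=
      Module.FaithfullyFlat.lTensor_reflects_triviality A B W
    exact Submodule.subsingleton_iff_eq_bot.1 inferInstance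
  · right
    have hex : Function.Exact (W.subtype.baseChange B) (W.mkQ.baseChange B) :=
      Module.Flat.lTensor_exact B (LinearMap.exact_subtype_mkQ W)
    have hsurj : Function.Surjective (W.mkQ.baseChange B) :=
      LinearMap.lTensor_surjective B (Submodule.mkQ_surjective W)
    haveI : Subsingleton (B ⊗[A] (V ⧸ W)) := by
      refine ⟨fun a b => ?_⟩
      obtain ⟨a', rfl⟩ := hsurj a
      obtain ⟨b', rfl⟩ := hsurj b
      have ha : a' ∈ LinearMap.range (W.subtype.baseChange B) := by rw [h1]; trivial
      have hb : b' ∈ LinearMap.range (W.subtype.baseChange B) := by rw [h1]; trivial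
      rw [(hex a').2 ha, (hex b').2 hb]
    haveI : Subsingleton (V ⧸ W) :=
      Module.FaithfullyFlat.lTensor_reflects_triviality A B (V ⧸ W)
    exact Submodule.Quotient.subsingleton_iff.1 inferInstance

variable [IsLocalRing A] [IsLocalRing B]

/-- simplicity ascends when `m_A B = m_B` -/
theorem isSimpleModule_baseChange
    (hmap : (maximalIdeal A).map (algebraMap A B) = maximalIdeal B) (V : Type u) [AddCommGroup V]
    [Module A V] (h : IsSimpleModule A V) : IsSimpleModule B (B ⊗[A] V) := by
  obtain ⟨J, hJ, ⟨e⟩⟩ := isSimpleModule_iff_quot_maximal.1 h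
  obtain rfl : J = maximalIdeal A := IsLocalRing.eq_maximalIdeal hJ
  rw [isSimpleModule_iff_quot_maximal]
  refine ⟨maximalIdeal B, maximalIdeal.isMaximal B, ⟨?_⟩⟩
  have e1 : B ⊗[A] V ≃ₗ[B] B ⊗[A] (A ⧸ maximalIdeal A) :=
    Groth.Agent.Helper8.LC.equivBaseChange B e
  have e2 := (Groth.Agent.Lead.FlatDepth.fibreEquiv (S := B) (maximalIdeal A) B).symm
  have h3 : ((maximalIdeal A).map (algebraMap A B) • (⊤ : Submodule B B)) = maximalIdeal B := by
    rw [smul_eq_mul, Ideal.mul_top, hmap]
  exact e1 ≪≫ₗ e2 ≪≫ₗ Submodule.quotEquivOfEq _ _ h3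

end Simple

end Groth.Agent.Helper20.GorFlat
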