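import Mathlib
import Groth.Agent.Lib.Helper20.GorFlat1

/-!
# Gorenstein local rings along flat local homomorphisms with `m_A B = m_B`: the equivalence (helper20)
-/

open TensorProduct IsLocalRing

namespace Groth.Agent.Helper20.GorFlat

open Groth.Agent.Helper8 Groth.Agent.Helper8.LC Groth.Agent.Helper8.Gor

universe u

variable (A B : Type u) [CommRing A] [CommRing B] [IsLocalRing A] [IsLocalRing B]
  [IsNoetherianRing A] [IsNoetherianRing B] [Algebra A B] [IsLocalHom (algebraMap A B)]
  [Module.Flat A B]

/-- flat base change of local cohomology for a flat local homomorphism with `m_A B = m_B` -/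
theorem nonempty_baseChange_H_equiv
    (hmap : (maximalIdeal A).map (algebraMap A B) = maximalIdeal B) (i : ℕ) :
    Nonempty (B ⊗[A] H (maximalIdeal A) i A ≃ₗ[B] H (maximalIdeal B) i B) := by
  obtain ⟨e1⟩ := exists_equiv_baseChange (R' := B) (maximalIdeal A) i ⟨A⟩
  exact ⟨e1 ≪≫ₗ Hcongr _ i (TensorProduct.AlgebraTensorModule.rid A B B) ≪≫ₗ HcongrIdeal hmap i B⟩

/-- **Gorenstein transfers along flat local homomorphisms whose closed fibre is a field** -/
theorem gorenstein_iff_of_map_eq
    (hmap : (maximalIdeal A).map (algebraMap A B) = maximalIdeal B) :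
    LocCoh.IsGorensteinLocalRing A ↔ LocCoh.IsGorensteinLocalRing B := by
  haveI : Module.FaithfullyFlat A B := Module.FaithfullyFlat.of_flat_of_isLocalHom
  rw [gorenstein_iff_socle A, gorenstein_iff_socle B]
  have hsub : ∀ i : ℕ, Subsingleton (H (maximalIdeal B) i B) ↔
      Subsingleton (H (maximalIdeal A) i A) := by
    intro i
    obtain ⟨e⟩ := nonempty_baseChange_H_equiv A B hmap i
    rw [← e.toEquiv.subsingleton_congr]
    exact Module.FaithfullyFlat.subsingleton_tensorProduct_iff_right A B
  have hsim : ∀ d : ℕ, IsSimpleModule B (Submodule.torsionBySet B (H (maximalIdeal B) d B)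
        (maximalIdeal B : Set B)) ↔
      IsSimpleModule A (Submodule.torsionBySet A (H (maximalIdeal A) d A)
        (maximalIdeal A : Set A)) := by
    intro d
    obtain ⟨e⟩ := nonempty_baseChange_H_equiv A B hmap d
    obtain ⟨e2⟩ := nonempty_torsion_baseChange (B := B) (maximalIdeal A) (H (maximalIdeal A) d A)
    rw [hmap] at e2
    have e3 := e2 ≪≫ₗ Groth.Agent.Helper8.Uniq.torsionBySetCongr e (maximalIdeal B : Set B)
    constructor
    · intro h
      haveI : IsSimpleModule B (B ⊗[A] Submodule.torsionBySet A (H (maximalIdeal A) d A)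
          (maximalIdeal A : Set A)) := IsSimpleModule.congr e3
      exact isSimpleModule_of_baseChange (B := B) _ inferInstance
    · intro h
      haveI := isSimpleModule_baseChange hmap _ h
      exact IsSimpleModule.congr e3.symm
  constructor
  · rintro ⟨d, h1, h2⟩
    exact ⟨d, fun i hi => (hsub i).2 (h1 i hi), (hsim d).2 h2⟩
  · rintro ⟨d, h1, h2⟩
    exact ⟨d, fun i hi => (hsub i).1 (h1 i hi), (hsim d).1 h2⟩

end Groth.Agent.Helper20.GorFlat
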