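import Mathlib
import Groth.Agent.Lib.Helper20.GorFlat2
import Groth.Agent.Lib.Lead.Flat5
import Groth.Agent.Lib.Lead.Flat1
import Groth.Agent.Lib.Lead.Depth17
import Groth.Agent.S0343

/-!
# Gorenstein local rings: ring isomorphisms, and ascent along flat local homomorphisms whose
closed fibre has a principal maximal ideal generated by a regular element (helper20)
-/

open TensorProduct IsLocalRing

namespace Groth.Agent.Helper20.GorFlat

universe u

/-- the Gorenstein property is invariant under ring isomorphisms -/
theorem isGorensteinLocalRing_of_ringEquiv {A B : Type u} [CommRing A] [CommRing B]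
    (e : A ≃+* B) [hA : LocCoh.IsGorensteinLocalRing A] : LocCoh.IsGorensteinLocalRing B := by
  haveI : IsLocalRing B := e.isLocalRing
  haveI : IsNoetherianRing B := isNoetherianRing_of_ringEquiv A e
  letI : Algebra A B := e.toRingHom.toAlgebra
  haveI : IsLocalHom (algebraMap A B) := IsLocalHom.of_surjective _ e.surjective
  haveI : Module.Flat A B := by
    let l : A ≃ₗ[A] B :=
      { e with
        map_smul' := fun r x => by
          show e (r * x) = e r * e x
          exact map_mul e r x }
    exact Module.Flat.of_linearEquiv l.symm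
  have hmap : (maximalIdeal A).map (algebraMap A B) = maximalIdeal B :=
    IsLocalRing.map_maximalIdeal_of_surjective _ e.surjective
  exact (gorenstein_iff_of_map_eq A B hmap).1 hA

section Ascent

variable (A B : Type u) [CommRing A] [CommRing B] [IsLocalRing A] [IsLocalRing B]
  [IsNoetherianRing A] [IsNoetherianRing B] [Algebra A B] [IsLocalHom (algebraMap A B)]
  [Module.Flat A B]

/-- ascent of the Gorenstein property along a flat local homomorphism whose closed fibre has
maximal ideal generated by one regular element -/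
theorem gorenstein_of_flat_of_fibre_regular (hA : LocCoh.IsGorensteinLocalRing A)
    (y : B) (hy : y ∈ maximalIdeal B)
    (hspan : maximalIdeal B = (maximalIdeal A).map (algebraMap A B) ⊔ Ideal.span {y})
    (hreg : IsSMulRegular (B ⧸ (maximalIdeal A).map (algebraMap A B)) y) :
    LocCoh.IsGorensteinLocalRing B := by
  -- `y` is regular on the closed fibre in tensor form
  have e1 : (B ⧸ (maximalIdeal A).map (algebraMap A B)) ≃ₗ[B] B ⊗[A] (A ⧸ maximalIdeal A) :=
    Submodule.quotEquivOfEq _ _ (by rw [smul_eq_mul, Ideal.mul_top]) ≪≫ₗ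
      Groth.Agent.Lead.FlatDepth.fibreEquiv (S := B) (maximalIdeal A) B
  have hreg' : IsSMulRegular (B ⊗[A] (A ⧸ maximalIdeal A)) y :=
    (e1.isSMulRegular_congr y).1 hreg
  obtain ⟨hyreg, hflat⟩ :=
    Groth.Agent.Lead.FlatDepth.isSMulRegular_and_flat_of_fibre (R := A) (S := B) B y hreg'
  -- the quotient ring
  have hne : Ideal.span {y} ≠ ⊤ := by
    intro h
    have h2 : Ideal.span {y} ≤ maximalIdeal B := (Ideal.span_singleton_le_iff_mem _).mpr hy
    rw [h] at h2
    exact (maximalIdeal.isMaximal B).ne_top (top_le_iff.1 h2)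
  haveI : Nontrivial (B ⧸ Ideal.span {y}) := Ideal.Quotient.nontrivial_iff.mpr hne
  haveI : IsLocalRing (B ⧸ Ideal.span {y}) :=
    IsLocalRing.of_surjective' (Ideal.Quotient.mk (Ideal.span {y})) Ideal.Quotient.mk_surjective
  haveI : IsLocalHom (Ideal.Quotient.mk (Ideal.span {y})) :=
    IsLocalHom.of_surjective _ Ideal.Quotient.mk_surjective
  haveI : IsLocalHom (algebraMap A (B ⧸ Ideal.span {y})) := by
    have : algebraMap A (B ⧸ Ideal.span {y}) =
        (Ideal.Quotient.mk (Ideal.span {y})).comp (algebraMap A B) := rfl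
    rw [this]
    exact RingHom.isLocalHom_comp _ _
  haveI : Module.Flat A (B ⧸ Ideal.span {y}) :=
    Module.Flat.of_linearEquiv ((Groth.Agent.Lead.Depth.quotSpanSelfEquiv y).restrictScalars A)
  have hmap : (maximalIdeal A).map (algebraMap A (B ⧸ Ideal.span {y})) =
      maximalIdeal (B ⧸ Ideal.span {y}) := by
    have h1 : algebraMap A (B ⧸ Ideal.span {y}) =
        (Ideal.Quotient.mk (Ideal.span {y})).comp (algebraMap A B) := rfl
    rw [h1, ← Ideal.map_map,
      ← IsLocalRing.map_maximalIdeal_of_surjective (Ideal.Quotient.mk (Ideal.span {y}))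
        Ideal.Quotient.mk_surjective, hspan, Ideal.map_sup]
    have h2 : (Ideal.span {y}).map (Ideal.Quotient.mk (Ideal.span {y})) = ⊥ := by
      rw [Ideal.map_span, Set.image_singleton, Ideal.span_singleton_eq_bot]
      exact Ideal.Quotient.eq_zero_iff_mem.2 (Ideal.subset_span rfl)
    rw [h2, sup_bot_eq]
  haveI : LocCoh.IsGorensteinLocalRing (B ⧸ Ideal.span {y}) :=
    (gorenstein_iff_of_map_eq A (B ⧸ Ideal.span {y}) hmap).1 hA
  exact (Groth.Agent.S0343.result B y hy hyreg).2 inferInstance

/-- ascent of the Gorenstein property along a flat local homomorphism whose closed fibre is a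
principal ideal domain -/
theorem gorenstein_of_flat_of_fibre_pid (hA : LocCoh.IsGorensteinLocalRing A)
    [IsDomain (B ⧸ (maximalIdeal A).map (algebraMap A B))]
    [IsPrincipalIdealRing (B ⧸ (maximalIdeal A).map (algebraMap A B))] :
    LocCoh.IsGorensteinLocalRing B := by
  set J := (maximalIdeal A).map (algebraMap A B) with hJ
  have hJle : J ≤ maximalIdeal B := by
    rw [hJ, Ideal.map_le_iff_le_comap]
    intro a ha
    exact Groth.Agent.Lead.Depth.algebraMap_mem_maximalIdeal ha
  obtain ⟨ybar, hybar⟩ := (IsPrincipalIdealRing.principal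
    ((maximalIdeal B).map (Ideal.Quotient.mk J))).principal
  obtain ⟨y, rfl⟩ := Ideal.Quotient.mk_surjective ybar
  have hcomap : maximalIdeal B = J ⊔ Ideal.span {y} := by
    have h1 : ((maximalIdeal B).map (Ideal.Quotient.mk J)).comap (Ideal.Quotient.mk J) =
        maximalIdeal B := by
      rw [Ideal.comap_map_of_surjective _ Ideal.Quotient.mk_surjective, ← RingHom.ker_eq_comap_bot,
        Ideal.mk_ker]
      exact sup_eq_left.2 hJle
    rw [← h1, hybar]
    have h2 : (Submodule.span (B ⧸ J) {Ideal.Quotient.mk J y} : Ideal (B ⧸ J)) =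
        (Ideal.span {y}).map (Ideal.Quotient.mk J) := by
      rw [Ideal.map_span, Set.image_singleton]
    rw [h2, Ideal.comap_map_of_surjective _ Ideal.Quotient.mk_surjective,
      ← RingHom.ker_eq_comap_bot, Ideal.mk_ker, sup_comm]
  have hy : y ∈ maximalIdeal B := by
    rw [hcomap]
    exact Ideal.mem_sup_right (Ideal.subset_span rfl)
  by_cases h0 : Ideal.Quotient.mk J y = 0
  · -- the fibre is a field
    have hyJ : y ∈ J := Ideal.Quotient.eq_zero_iff_mem.1 h0
    have hmap : J = maximalIdeal B := by
      rw [hcomap]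
      exact (sup_eq_left.2 ((Ideal.span_singleton_le_iff_mem _).2 hyJ)).symm
    exact (gorenstein_iff_of_map_eq A B hmap).1 hA
  · refine gorenstein_of_flat_of_fibre_regular A B hA y hy hcomap ?_
    intro a b hab
    obtain ⟨a, rfl⟩ := Ideal.Quotient.mk_surjective a
    obtain ⟨b, rfl⟩ := Ideal.Quotient.mk_surjective b
    have h1 : Ideal.Quotient.mk J y * Ideal.Quotient.mk J a =
        Ideal.Quotient.mk J y * Ideal.Quotient.mk J b := hab
    exact mul_left_cancel₀ h0 h1

end Ascent

end Groth.Agent.Helper20.GorFlat
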