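import Mathlib
import Groth.Prelude.Def_Coh
import Groth.Prelude.Def_KLin
import Groth.Agent.Lib.Helper26.HomGlob
import Groth.Agent.Lib.Lead.HomSh4
import Groth.Agent.Lib.Helper13.FinProj7

/-!
# Finiteness of Hom between coherent sheaves on a proper scheme over a field / Noetherian ring
-/

set_option autoImplicit false
set_option maxHeartbeats 400000
universe u
open CategoryTheory CategoryTheory.Limits AlgebraicGeometry Opposite TopologicalSpace
open RefHull Groth.Agent.Lead.HomSh Groth.Agent.Helper13.DirImgFull Groth.Agent.Helper26.HomGlob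

namespace Groth.Agent.Helper20.HomFin

variable (A : Type u) [CommRing A] {X : Scheme.{u}} [X.Over (Spec (CommRingCat.of A))]
  (F G : X.Modules)

/-- `H⁰` of the sheaf Hom maps linearly onto the module of morphisms. -/
noncomputable def Lam : Coh.HH X (homSh F G) 0 →ₗ[A] (F ⟶ G) where
  toFun x := homOfSec (h0 _ x)
  map_add' x y := by rw [map_add, homOfSec_add]
  map_smul' a x := by
    have e1 : h0 (homSh F G) (a • x) =
        toΓ (Coh.toGlobal (X ↘ Spec (CommRingCat.of A)) a) • h0 _ x :=
      h0_smul _ _ x
    rw [e1]
    apply Scheme.Modules.hom_ext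
    intro U
    ext m
    rw [homOfSec_smul_app]
    exact (KLin.smul_app_apply a (homOfSec (h0 _ x)) U m).symm

lemma Lam_surjective : Function.Surjective (Lam A F G) := fun φ => by
  obtain ⟨g, hg⟩ := (homOfSec_bijective (F := F) (G := G)).2 φ
  obtain ⟨x, hx⟩ := (h0 (homSh F G)).surjective g
  exact ⟨x, by change homOfSec (h0 _ x) = φ; rw [hx, hg]⟩

/-- Morphisms between coherent modules on a proper scheme over a Noetherian ring form a finite
module. -/
theorem finite_hom [IsNoetherianRing A] [IsProper (X ↘ Spec (CommRingCat.of A))]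
    (hF : Coh.IsCoh F) (hG : Coh.IsCoh G) : Module.Finite A (F ⟶ G) := by
  have : IsLocallyNoetherian (Spec (CommRingCat.of A)) := inferInstance
  have : IsLocallyNoetherian X :=
    LocallyOfFiniteType.isLocallyNoetherian (X ↘ Spec (CommRingCat.of A))
  have hH : Coh.IsCoh (homSh F G) := isCoh_homSh hF hG
  have : Module.Finite A (Coh.HH X (homSh F G) 0) :=
    Groth.Agent.Helper13.FinProj.finite_HH_of_isProper A X _ hH 0
  exact Module.Finite.of_surjective (Lam A F G) (Lam_surjective A F G)

end Groth.Agent.Helper20.HomFin
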