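import Mathlib

/-!
# Indecomposable objects and local endomorphism rings (pure algebra / category theory)
-/

set_option autoImplicit false
universe u v

namespace Groth.Agent.Helper20.IndecEnd

open CategoryTheory CategoryTheory.Limits

section Alg

open Polynomial


/-- In a finite-dimensional algebra with only trivial idempotents every element is a unit or
nilpotent. -/
theorem isUnit_or_isNilpotent (k : Type*) [Field k] {R : Type*} [Ring R] [Algebra k R] [Module.Finite k R]
    (hid : ∀ e : R, e * e = e → e = 0 ∨ e = 1) (f : R) :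
    IsUnit f ∨ IsNilpotent f := by
  have hint : IsIntegral k f := Algebra.IsIntegral.isIntegral f
  set P := minpoly k f with hPdef
  have hP0 : P ≠ 0 := minpoly.ne_zero hint
  have hP : aeval f P = 0 := minpoly.aeval k f
  obtain ⟨Q, hPQ, hQ⟩ := exists_eq_pow_rootMultiplicity_mul_and_not_dvd P hP0 (0 : k)
  set m := rootMultiplicity (0 : k) P with hm
  rw [map_zero, sub_zero] at hPQ hQ
  have h0 : aeval f (X ^ (m + 1) * Q) = 0 := by
    rw [pow_succ', mul_assoc, ← hPQ, map_mul, hP, mul_zero]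
  have hcop : IsCoprime ((X : k[X]) ^ (m + 1)) Q :=
    IsCoprime.pow_left ((Irreducible.coprime_iff_not_dvd irreducible_X).mpr hQ)
  obtain ⟨a, b, hab⟩ := hcop
  have e : (a * X ^ (m + 1)) * (a * X ^ (m + 1)) =
      a * X ^ (m + 1) - (a * b) * (X ^ (m + 1) * Q) := by
    linear_combination (a * X ^ (m + 1)) * hab
  have huu : aeval f (a * X ^ (m + 1)) * aeval f (a * X ^ (m + 1)) = aeval f (a * X ^ (m + 1)) := by
    rw [← map_mul, e, map_sub, map_mul (aeval f) (a * b), h0, mul_zero, sub_zero]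
  rcases hid _ huu with hu | hu
  · right
    have hv : aeval f (b * Q) = 1 := by
      have := congrArg (aeval f) hab
      rw [map_add, hu, zero_add, map_one] at this
      exact this
    refine ⟨m + 1, ?_⟩
    have e1 : (X : k[X]) ^ (m + 1) * (b * Q) = b * (X ^ (m + 1) * Q) := by ring
    calc f ^ (m + 1) = aeval f ((X : k[X]) ^ (m + 1)) * aeval f (b * Q) := by
          rw [hv, mul_one, map_pow, aeval_X]
      _ = aeval f (b * (X ^ (m + 1) * Q)) := by
          rw [← map_mul, e1]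
      _ = 0 := by rw [map_mul, h0, mul_zero]
  · left
    rw [isUnit_iff_exists]
    have e1 : (X : k[X]) * (X ^ m * a) = a * X ^ (m + 1) := by ring
    have e2 : ((X : k[X]) ^ m * a) * X = a * X ^ (m + 1) := by ring
    refine ⟨aeval f ((X : k[X]) ^ m * a), ?_, ?_⟩
    · calc f * aeval f ((X : k[X]) ^ m * a) = aeval f ((X : k[X]) * (X ^ m * a)) := by
            rw [map_mul (aeval f) (X : k[X]), aeval_X]
        _ = aeval f (a * X ^ (m + 1)) := by rw [e1]
        _ = 1 := hu
    · calc aeval f ((X : k[X]) ^ m * a) * f = aeval f (((X : k[X]) ^ m * a) * X) := by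
            rw [map_mul (aeval f) _ (X : k[X]), aeval_X]
        _ = aeval f (a * X ^ (m + 1)) := by rw [e2]
        _ = 1 := hu

/-- A finite-dimensional algebra with only trivial idempotents is local: if a sum is a unit then one
of the summands is. -/
theorem isUnit_or_isUnit_of_isUnit_add (k : Type*) [Field k] {R : Type*} [Ring R] [Algebra k R] [Module.Finite k R]
    (hid : ∀ e : R, e * e = e → e = 0 ∨ e = 1) (f₁ f₂ : R)
    (h : IsUnit (f₁ + f₂)) : IsUnit f₁ ∨ IsUnit f₂ := by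
  obtain ⟨w, hw⟩ := h
  have h1 : (↑w⁻¹ : R) * f₁ + ↑w⁻¹ * f₂ = 1 := by
    rw [← mul_add, ← hw, Units.inv_mul]
  rcases isUnit_or_isNilpotent k hid ((↑w⁻¹ : R) * f₁) with hu | hn
  · left
    exact (Units.isUnit_units_mul _ _).mp hu
  · right
    have : (↑w⁻¹ : R) * f₂ = 1 - ↑w⁻¹ * f₁ := by rw [← h1]; abel
    have hu : IsUnit ((↑w⁻¹ : R) * f₂) := this ▸ hn.isUnit_one_sub
    exact (Units.isUnit_units_mul _ _).mp hu

/-- In a finite-dimensional nontrivial algebra with only trivial idempotents, an element has at most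
one "eigenvalue". -/
theorem eigenvalue_unique (k : Type*) [Field k] {R : Type*} [Ring R] [Algebra k R] [Module.Finite k R]
    (hid : ∀ e : R, e * e = e → e = 0 ∨ e = 1) (h10 : (1 : R) ≠ 0)
    (f : R) (a b : k) (ha : ¬ IsUnit (f - a • (1 : R))) (hb : ¬ IsUnit (f - b • (1 : R))) :
    a = b := by
  have hna : IsNilpotent (f - a • (1 : R)) := (isUnit_or_isNilpotent k hid _).resolve_left ha
  have hnb : IsNilpotent (f - b • (1 : R)) := (isUnit_or_isNilpotent k hid _).resolve_left hb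
  have hcomm : Commute (f - a • (1 : R)) (f - b • (1 : R)) := by
    have h1 : Commute f (b • (1 : R)) := by
      rw [commute_iff_eq, mul_smul_comm, smul_mul_assoc, mul_one, one_mul]
    have h2 : Commute (a • (1 : R)) f := by
      rw [commute_iff_eq, mul_smul_comm, smul_mul_assoc, mul_one, one_mul]
    have h3 : Commute (a • (1 : R)) (b • (1 : R)) := by
      rw [commute_iff_eq, mul_smul_comm, smul_mul_assoc, mul_one, smul_mul_assoc, mul_smul_comm,
        mul_one, smul_comm]
    exact ((Commute.refl f).sub_left h2).sub_right (h1.sub_left h3)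
  have hn : IsNilpotent ((f - a • (1 : R)) - (f - b • (1 : R))) := hcomm.isNilpotent_sub hna hnb
  have e : (f - a • (1 : R)) - (f - b • (1 : R)) = (b - a) • (1 : R) := by
    rw [sub_smul]; abel
  rw [e] at hn
  obtain ⟨n, hn⟩ := hn
  rw [_root_.smul_pow, one_pow] at hn
  rcases smul_eq_zero.mp hn with h | h
  · have := pow_eq_zero_iff (M₀ := k) (a := b - a) (n := n) (by
      rintro rfl
      simp at h) |>.mp h
    exact (sub_eq_zero.mp this).symm
  · exact absurd h h10

end Alg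

section Cat

variable {C : Type u} [Category.{v} C] [Preadditive C] [HasBinaryBiproducts C]

/-- If the endomorphism ring of `E` is local (in the sum form), `E` has no nontrivial decomposition. -/
theorem decomp_of_local {E : C}
    (h : ∀ f₁ f₂ : E ⟶ E, IsIso (f₁ + f₂) → IsIso f₁ ∨ IsIso f₂) (E₁ E₂ : C)
    (φ : E ≅ E₁ ⊞ E₂) : IsZero E₁ ∨ IsZero E₂ := by
  have hsum : φ.hom ≫ (biprod.fst ≫ biprod.inl) ≫ φ.inv + φ.hom ≫ (biprod.snd ≫ biprod.inr) ≫ φ.inv
      = 𝟙 E := by
    rw [← Preadditive.comp_add, ← Preadditive.add_comp, biprod.total, Category.id_comp,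
      Iso.hom_inv_id]
  have hiso : IsIso (φ.hom ≫ (biprod.fst ≫ biprod.inl) ≫ φ.inv +
      φ.hom ≫ (biprod.snd ≫ biprod.inr) ≫ φ.inv) := by rw [hsum]; infer_instance
  rcases h _ _ hiso with h1 | h2
  · right
    have h1' : IsIso ((biprod.fst ≫ biprod.inl : E₁ ⊞ E₂ ⟶ E₁ ⊞ E₂)) := by
      have : (biprod.fst ≫ biprod.inl : E₁ ⊞ E₂ ⟶ E₁ ⊞ E₂) =
          φ.inv ≫ (φ.hom ≫ (biprod.fst ≫ biprod.inl) ≫ φ.inv) ≫ φ.hom := by simp
      rw [this]; infer_instance
    rw [IsZero.iff_id_eq_zero]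
    have : (biprod.inr : E₂ ⟶ E₁ ⊞ E₂) = 0 := by
      rw [← cancel_mono (biprod.fst ≫ biprod.inl : E₁ ⊞ E₂ ⟶ E₁ ⊞ E₂)]
      simp
    rw [← biprod.inr_snd (X := E₁) (Y := E₂), this, Limits.zero_comp]
  · left
    have h2' : IsIso ((biprod.snd ≫ biprod.inr : E₁ ⊞ E₂ ⟶ E₁ ⊞ E₂)) := by
      have : (biprod.snd ≫ biprod.inr : E₁ ⊞ E₂ ⟶ E₁ ⊞ E₂) =
          φ.inv ≫ (φ.hom ≫ (biprod.snd ≫ biprod.inr) ≫ φ.inv) ≫ φ.hom := by simp
      rw [this]; infer_instance
    rw [IsZero.iff_id_eq_zero]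
    have : (biprod.inl : E₁ ⟶ E₁ ⊞ E₂) = 0 := by
      rw [← cancel_mono (biprod.snd ≫ biprod.inr : E₁ ⊞ E₂ ⟶ E₁ ⊞ E₂)]
      simp
    rw [← biprod.inl_fst (X := E₁) (Y := E₂), this, Limits.zero_comp]

/-- In an idempotent complete preadditive category with binary biproducts, an object with no
nontrivial decomposition has only trivial idempotent endomorphisms. -/
theorem idem_trivial_of_indec [IsIdempotentComplete C] {E : C}
    (h : ∀ E₁ E₂ : C, Nonempty (E ≅ E₁ ⊞ E₂) → IsZero E₁ ∨ IsZero E₂)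
    (e : E ⟶ E) (he : e ≫ e = e) : e = 0 ∨ e = 𝟙 E := by
  obtain ⟨Y₁, i₁, p₁, h1, h1'⟩ := IsIdempotentComplete.idempotents_split E e he
  have he' : (𝟙 E - e) ≫ (𝟙 E - e) = 𝟙 E - e := by
    rw [Preadditive.sub_comp, Preadditive.comp_sub, Preadditive.comp_sub, he]
    simp
  obtain ⟨Y₂, i₂, p₂, h2, h2'⟩ := IsIdempotentComplete.idempotents_split E (𝟙 E - e) he'
  have hi1e : i₁ ≫ e = i₁ := by rw [← h1', ← Category.assoc, h1, Category.id_comp]
  have hi2e : i₂ ≫ (𝟙 E - e) = i₂ := by rw [← h2', ← Category.assoc, h2, Category.id_comp]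
  have hep1 : e ≫ p₁ = p₁ := by rw [← h1', Category.assoc, h1, Category.comp_id]
  have hep2 : (𝟙 E - e) ≫ p₂ = p₂ := by rw [← h2', Category.assoc, h2, Category.comp_id]
  have h12 : i₁ ≫ p₂ = 0 := by
    rw [← hi1e, ← hep2, Category.assoc, ← Category.assoc e, Preadditive.comp_sub, he]
    simp
  have h21 : i₂ ≫ p₁ = 0 := by
    rw [← hi2e, ← hep1, Category.assoc, ← Category.assoc (𝟙 E - e), Preadditive.sub_comp, he]
    simp
  let φ : E ≅ Y₁ ⊞ Y₂ :=
    { hom := biprod.lift p₁ p₂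
      inv := biprod.desc i₁ i₂
      hom_inv_id := by
        rw [biprod.lift_desc, h1', h2']; simp
      inv_hom_id := by
        apply biprod.hom_ext' <;> apply biprod.hom_ext <;> simp [h1, h2, h12, h21] }
  rcases h Y₁ Y₂ ⟨φ⟩ with hz | hz
  · left
    rw [← h1', hz.eq_of_tgt p₁ 0, Limits.zero_comp]
  · right
    have : 𝟙 E - e = 0 := by rw [← h2', hz.eq_of_tgt p₂ 0, Limits.zero_comp]
    exact (sub_eq_zero.mp this).symm

end Cat

end Groth.Agent.Helper20.IndecEnd
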