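import Mathlib
import Groth.Prelude.Def_Coh
import Groth.Prelude.Def_KLin
import Groth.Prelude.Def_FlatMod2
import Groth.Agent.Lib.Helper20.IndecEnd
import Groth.Agent.Lib.Helper20.HomFin
import Groth.Agent.Lib.Helper9.ResVan

/-!
# Indecomposable coherent modules on proper schemes over a field: local endomorphism rings
-/

set_option autoImplicit false
set_option maxHeartbeats 400000
universe u
open CategoryTheory CategoryTheory.Limits AlgebraicGeometry Opposite TopologicalSpace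

namespace Groth.Agent.Helper20.VBIndec

section Nonzero

lemma not_isZero_structureModule (U : Scheme.{u}) [Nonempty U] :
    ¬ IsZero (Coh.structureModule U) := by
  intro hz
  have h1 : 𝟙 (Coh.structureModule U) = 0 := hz.eq_of_src _ _
  have h2 : (𝟙 (Coh.structureModule U) : _ ⟶ _).app ⊤ =
      (0 : Coh.structureModule U ⟶ Coh.structureModule U).app ⊤ := by rw [h1]
  have h3 : (1 : Γ(U, ⊤)) = 0 := by
    have := congrArg (fun f => (ConcreteCategory.hom f) (1 : Γ(U, ⊤))) h2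
    exact this
  have h4 : U.basicOpen (1 : Γ(U, ⊤)) = ⊤ := U.basicOpen_of_isUnit isUnit_one
  rw [h3, Scheme.basicOpen_zero] at h4
  obtain ⟨x⟩ := (inferInstance : Nonempty U)
  have : x ∈ (⊥ : U.Opens) := h4 ▸ (trivial : x ∈ (⊤ : U.Opens))
  exact this

lemma not_isZero_freeMod (U : Scheme.{u}) [Nonempty U] (r : ℕ) (hr : 0 < r) :
    ¬ IsZero (FlatMod.freeMod U r) := by
  intro hz
  apply not_isZero_structureModule U
  rw [IsZero.iff_id_eq_zero]
  have : Sigma.ι (fun _ : Fin r => Coh.structureModule U) ⟨0, hr⟩ ≫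
      Sigma.desc (fun _ => 𝟙 (Coh.structureModule U)) = 𝟙 _ := by simp
  rw [← this, hz.eq_of_tgt (Sigma.ι _ _) 0, zero_comp]

lemma not_isZero_of_isFinLocFreeOfRank {X : Scheme.{u}} [Nonempty X] (r : ℕ) (hr : 0 < r)
    (E : X.Modules) (hE : FlatMod.IsFinLocFreeOfRank r E) : ¬ IsZero E := by
  intro hz
  obtain ⟨x⟩ := (inferInstance : Nonempty X)
  obtain ⟨U, hxU, ⟨e⟩⟩ := hE x
  have : Nonempty (U : Scheme.{u}) := ⟨⟨x, hxU⟩⟩
  have h1 : IsZero (E.restrict U.ι) := (Scheme.Modules.restrictFunctor U.ι).map_isZero hz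
  exact not_isZero_freeMod (U : Scheme.{u}) r hr (h1.of_iso e.symm)

lemma isFinLocFree_of_rank {X : Scheme.{u}} (r : ℕ) (E : X.Modules)
    (hE : FlatMod.IsFinLocFreeOfRank r E) : FlatMod.IsFinLocFree E := fun x => by
  obtain ⟨U, hxU, e⟩ := hE x
  exact ⟨U, r, hxU, e⟩

end Nonzero

section Lin

lemma toSheaf_map_smul_id (k : Type u) [Field k] {X : Scheme.{u}} [X.Over (Spec (CommRingCat.of k))]
    (E : X.Modules) (a : k) :
    (SheafOfModules.toSheaf X.ringCatSheaf).map (a • 𝟙 E) =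
      Coh.smulAb E (Coh.toGlobal (X ↘ Spec (CommRingCat.of k)) a) := by
  ext ⟨U⟩ m
  have h3 := Coh.smulAb_app E (Coh.toGlobal (X ↘ Spec (CommRingCat.of k)) a) (op U) m
  exact (KLin.smul_app_apply a (𝟙 E) U m).trans h3.symm

/-- trivial idempotents for an indecomposable module. -/
lemma idem_trivial {X : Scheme.{u}} (E : X.Modules)
    (hind : ∀ (E₁ E₂ : X.Modules), Nonempty (E ≅ E₁ ⊞ E₂) → IsZero E₁ ∨ IsZero E₂)
    (e : End E) (he : e * e = e) : e = 0 ∨ e = 1 :=
  IndecEnd.idem_trivial_of_indec hind e he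

theorem local_of_indec (k : Type u) [Field k] {X : Scheme.{u}} [X.Over (Spec (CommRingCat.of k))]
    [IsProper (X ↘ Spec (CommRingCat.of k))] (E : X.Modules) (hE : Coh.IsCoh E)
    (hind : ∀ (E₁ E₂ : X.Modules), Nonempty (E ≅ E₁ ⊞ E₂) → IsZero E₁ ∨ IsZero E₂)
    (f₁ f₂ : E ⟶ E) (h : IsIso (f₁ + f₂)) : IsIso f₁ ∨ IsIso f₂ := by
  have : Module.Finite k (End E) := HomFin.finite_hom k E E hE hE
  have h' : IsUnit (End.of f₁ + End.of f₂) := (isUnit_iff_isIso _).mpr h
  rcases IndecEnd.isUnit_or_isUnit_of_isUnit_add k (idem_trivial E hind) (End.of f₁) (End.of f₂) h'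
    with h1 | h2
  · exact Or.inl ((isUnit_iff_isIso _).mp h1)
  · exact Or.inr ((isUnit_iff_isIso _).mp h2)

theorem eigenvalue_unique (k : Type u) [Field k] {X : Scheme.{u}} [X.Over (Spec (CommRingCat.of k))]
    [IsProper (X ↘ Spec (CommRingCat.of k))] (E : X.Modules) (hE : Coh.IsCoh E) (h0 : ¬ IsZero E)
    (hind : ∀ (E₁ E₂ : X.Modules), Nonempty (E ≅ E₁ ⊞ E₂) → IsZero E₁ ∨ IsZero E₂)
    (f : E ⟶ E) (a b : k)
    (ha : ¬ IsIso ((SheafOfModules.toSheaf X.ringCatSheaf).map f -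
      Coh.smulAb E (Coh.toGlobal (X ↘ Spec (CommRingCat.of k)) a)))
    (hb : ¬ IsIso ((SheafOfModules.toSheaf X.ringCatSheaf).map f -
      Coh.smulAb E (Coh.toGlobal (X ↘ Spec (CommRingCat.of k)) b))) : a = b := by
  have : Module.Finite k (End E) := HomFin.finite_hom k E E hE hE
  have h10 : (1 : End E) ≠ 0 := fun h => h0 ((IsZero.iff_id_eq_zero E).mpr h)
  have key : ∀ c : k, ¬ IsIso ((SheafOfModules.toSheaf X.ringCatSheaf).map f -
      Coh.smulAb E (Coh.toGlobal (X ↘ Spec (CommRingCat.of k)) c)) →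
      ¬ IsUnit (End.of f - c • (1 : End E)) := by
    intro c hc hu
    apply hc
    have h1 : IsIso (f - c • 𝟙 E) := (isUnit_iff_isIso _).mp hu
    have h2 : (SheafOfModules.toSheaf X.ringCatSheaf).map (f - c • 𝟙 E) =
        (SheafOfModules.toSheaf X.ringCatSheaf).map f -
          (SheafOfModules.toSheaf X.ringCatSheaf).map (c • 𝟙 E) := Functor.map_sub _
    rw [← toSheaf_map_smul_id, ← h2]
    exact @Functor.map_isIso _ _ _ _ _ _ (SheafOfModules.toSheaf X.ringCatSheaf) (f - c • 𝟙 E) h1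
  exact IndecEnd.eigenvalue_unique k (idem_trivial E hind) h10 (End.of f) a b (key a ha) (key b hb)

end Lin

end Groth.Agent.Helper20.VBIndec
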