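import Groth.Agent.Lib.Helper20.PerInd5
import Groth.Agent.Lib.Helper12.IndexBC
import Groth.Agent.Lib.Helper17.SN2
import Groth.Agent.S0192
import Groth.Agent.S0193

set_option autoImplicit false
universe u v w w'

namespace Groth.Agent.Helper20.PerInd
open scoped TensorProduct
open Groth.Agent.Helper20.PCoc Groth.Agent.Helper20.TPow

section IndexBasics
variable (k : Type u) [Field k] (X : Type w) [Ring X] [Algebra k X]
  [Algebra.IsCentral k X] [IsSimpleRing X] [FiniteDimensional k X]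

/-- every central simple algebra has an index -/
theorem exists_isIndex : ∃ d : ℕ, CSAGal.IsIndex k X d := by
  haveI : IsArtinianRing X := IsArtinianRing.of_finite k X
  obtain ⟨n, hn, D, _, _, _, ⟨e⟩⟩ := IsSimpleRing.exists_algEquiv_matrix_divisionRing_finite k X
  have hn0 : 0 < n := Nat.pos_of_ne_zero hn.out
  haveI : Algebra.IsCentral k (Matrix (Fin n) (Fin n) D) := isCentral_of_algEquiv e
  haveI : Algebra.IsCentral k D := Groth.Agent.Helper20.CycAlg.isCentral_of_matrix k D n hn0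
  obtain ⟨d, hd⟩ := Groth.Agent.S0192.result k D
  have hpos : 0 < Module.finrank k D := Module.finrank_pos
  refine ⟨d, ?_, n, D, _, _, hn0, by rw [hd, sq], ⟨e⟩⟩
  rcases Nat.eq_zero_or_pos d with h | h
  · rw [hd, h] at hpos; exact absurd hpos (by norm_num)
  · exact h

variable {k X} in
/-- the index is an isomorphism invariant (across universes) -/
theorem isIndex_unique {Y : Type w'} [Ring Y] [Algebra k Y] [Algebra.IsCentral k Y] [IsSimpleRing Y]
    [FiniteDimensional k Y] (f : X ≃ₐ[k] Y) {d d' : ℕ}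
    (h : CSAGal.IsIndex k X d) (h' : CSAGal.IsIndex k Y d') : d = d' := by
  obtain ⟨m, D, _, _, _, _, hd0, hm, hdD, ⟨iso⟩⟩ := IsIndex.exists h
  obtain ⟨m', D', _, _, _, _, hd0', hm', hdD', ⟨iso'⟩⟩ := IsIndex.exists h'
  obtain ⟨g⟩ := Groth.Agent.S0193.result k D D' m m' hm.ne' hm'.ne'
    ((iso.symm.trans f).trans iso')
  have := g.toLinearEquiv.finrank_eq
  rw [hdD, hdD'] at this
  exact Nat.pow_left_injective (n := 2) (by norm_num) this

end IndexBasics

section BaseChange
variable {κ : Type u} [Field κ] {L : Type u} [Field L] [Algebra κ L] [FiniteDimensional κ L]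
  {A : Type v} [Ring A] [Algebra κ A] [Algebra.IsCentral κ A] [IsSimpleRing A]
  [FiniteDimensional κ A]

/-- index under base change -/
theorem index_baseChange {d d' : ℕ} (h : CSAGal.IsIndex κ A d)
    (h' : CSAGal.IsIndex L (L ⊗[κ] A) d') : d' ∣ d ∧ d ∣ Module.finrank κ L * d' := by
  haveI : IsSimpleRing (L ⊗[κ] A) := Groth.Agent.Helper17.isSimpleRing_tensor κ L A
  haveI : Algebra.IsCentral L (L ⊗[κ] A) := Groth.Agent.Helper17.isCentral_baseChange κ L A
  obtain ⟨m, D, _, _, _, _, hd0, hm, hdD, ⟨iso⟩⟩ := IsIndex.exists h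
  obtain ⟨m', D', _, _, _, _, hd0', hm', hdD', ⟨iso'⟩⟩ := IsIndex.exists h'
  exact Groth.Agent.Helper12.IndexBC.index_dvd κ L A D m iso d hdD D' m' iso' d' hdD'

/-- prime-to-period extensions do not change "index divides `n`" -/
theorem index_dvd_iff_baseChange {n : ℕ} (hn : 0 < n)
    (hcop : Nat.Coprime n (Module.finrank κ L))
    (hper : Curves.Splits κ (CSAGal.tpow κ A n) κ) :
    (∃ d : ℕ, CSAGal.IsIndex κ A d ∧ d ∣ n) ↔
      (∃ d' : ℕ, CSAGal.IsIndex L (L ⊗[κ] A) d' ∧ d' ∣ n) := by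
  haveI : IsSimpleRing (L ⊗[κ] A) := Groth.Agent.Helper17.isSimpleRing_tensor κ L A
  haveI : Algebra.IsCentral L (L ⊗[κ] A) := Groth.Agent.Helper17.isCentral_baseChange κ L A
  constructor
  · rintro ⟨d, hd, hdn⟩
    obtain ⟨d', hd'⟩ := exists_isIndex L (L ⊗[κ] A)
    exact ⟨d', hd', dvd_trans (index_baseChange hd hd').1 hdn⟩
  · rintro ⟨d', hd', hdn'⟩
    obtain ⟨d, hd⟩ := exists_isIndex κ A
    refine ⟨d, hd, ?_⟩
    have h1 := (index_baseChange hd hd').2
    have hcop' : Nat.Coprime d (Module.finrank κ L) := by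
      by_contra hnc
      obtain ⟨p, hp, hpd, hpL⟩ := Nat.Prime.not_coprime_iff_dvd.mp hnc
      obtain ⟨m, D, _, _, _, _, hd0, hm, hdD, ⟨iso⟩⟩ := IsIndex.exists hd
      have hpn : p ∣ n := prime_dvd_of_splits_tpow iso hdD hn hper hp hpd
      exact Nat.Prime.not_coprime_iff_dvd.mpr ⟨p, hp, hpn, hpL⟩ hcop
    exact dvd_trans (hcop'.dvd_of_dvd_mul_left h1) hdn'

end BaseChange

section PeriodIndexCrit
variable {k : Type u} [Field k] {A : Type v} [Ring A] [Algebra k A] [Algebra.IsCentral k A]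
  [IsSimpleRing A] [FiniteDimensional k A]

theorem isIndex_period_iff {n : ℕ} (hper : CSAGal.IsPeriod k A n) :
    CSAGal.IsIndex k A n ↔
      ∃ (k' : Type u) (_ : Field k') (_ : Algebra k k') (_ : FiniteDimensional k k'),
        Nat.Coprime n (Module.finrank k k') ∧
          ∃ d' : ℕ, CSAGal.IsIndex k' (k' ⊗[k] A) d' ∧ d' ∣ n := by
  constructor
  · intro h
    haveI : IsSimpleRing (k ⊗[k] A) := Groth.Agent.Helper17.isSimpleRing_tensor k k A
    haveI : Algebra.IsCentral k (k ⊗[k] A) := Groth.Agent.Helper17.isCentral_baseChange k k A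
    obtain ⟨d', hd'⟩ := exists_isIndex k (k ⊗[k] A)
    have hdd : d' = n := isIndex_unique (Algebra.TensorProduct.lid k A) hd' h
    refine ⟨k, inferInstance, inferInstance, inferInstance, ?_, d', hd', by rw [hdd]⟩
    rw [Module.finrank_self]
    exact Nat.coprime_one_right n
  · rintro ⟨k', _, _, _, hcop, hex⟩
    obtain ⟨d, hd, hdn⟩ := (index_dvd_iff_baseChange hper.1 hcop hper.2.1).mpr hex
    have hnd : n ∣ d := (period_index hd hper).1
    rwa [Nat.dvd_antisymm hnd hdn]

end PeriodIndexCrit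

end Groth.Agent.Helper20.PerInd
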