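import Mathlib

/-!
# The coaction `R → R[G]` of a `G`-graded ring and the twisting automorphism of `R[G]` (helper20)

For a ring `R` graded by an abelian group `ι`, the coaction `θ : R → R[ι]`, `r ↦ ∑ r_g T^g` is a
ring homomorphism; `Φ : R[ι] → R[ι]`, `r T^h ↦ θ(r) T^h` is a ring automorphism with `Φ ∘ c = θ`
(`c` the inclusion of constants).
-/

set_option autoImplicit false

open DirectSum

namespace Groth.Agent.Helper20.GA

universe u

variable {ι : Type} [AddCommGroup ι] [DecidableEq ι]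
variable {R : Type u} [CommRing R] (𝒜 : ι → AddSubgroup R) [GradedRing 𝒜]

/-- the coaction twisted by an endomorphism `ε` of the grading group, on the direct sum -/
noncomputable def coactAux (ε : ι →+ ι) : (⨁ i, 𝒜 i) →+* AddMonoidAlgebra R ι :=
  DirectSum.toSemiring
    (fun i => (AddMonoidAlgebra.singleAddHom (ε i)).comp (𝒜 i).subtype)
    (by
      change AddMonoidAlgebra.single (ε 0) (1 : R) = 1
      rw [map_zero]; rfl)
    (by
      intro i j ai aj
      change AddMonoidAlgebra.single (ε (i + j)) ((ai : R) * (aj : R)) =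
        AddMonoidAlgebra.single (ε i) (ai : R) * AddMonoidAlgebra.single (ε j) (aj : R)
      rw [AddMonoidAlgebra.single_mul_single, map_add])

/-- the coaction `r ↦ ∑ r_g T^{ε g}` -/
noncomputable def coact (ε : ι →+ ι) : R →+* AddMonoidAlgebra R ι :=
  (coactAux 𝒜 ε).comp (DirectSum.decomposeRingEquiv 𝒜).toRingHom

theorem coact_of_mem (ε : ι →+ ι) {i : ι} {r : R} (hr : r ∈ 𝒜 i) :
    coact 𝒜 ε r = AddMonoidAlgebra.single (ε i) r := by
  show coactAux 𝒜 ε (decompose 𝒜 r) = _
  rw [decompose_of_mem 𝒜 hr]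
  unfold coactAux
  rw [DirectSum.toSemiring_of]
  rfl

theorem coact_id_coeff (r : R) (n : ι) :
    (coact 𝒜 (AddMonoidHom.id ι) r).coeff n = (decompose 𝒜 r n : R) := by
  classical
  induction r using DirectSum.Decomposition.inductionOn 𝒜 with
  | zero => simp
  | @homogeneous i x =>
    rw [coact_of_mem 𝒜 _ x.2, AddMonoidHom.id_apply, AddMonoidAlgebra.coeff_single]
    by_cases h : n = i
    · subst h
      rw [Finsupp.single_eq_same, decompose_of_mem_same 𝒜 x.2]
    · rw [Finsupp.single_eq_of_ne h, decompose_of_mem_ne 𝒜 x.2 (Ne.symm h)]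
  | add a b ha hb =>
    rw [map_add, decompose_add, DirectSum.add_apply, AddSubgroup.coe_add, ← ha, ← hb]
    rfl

/-- the endomorphism `Φ_ε` of `R[ι]` extending the coaction and fixing the `T^h` -/
noncomputable def phi (ε : ι →+ ι) : AddMonoidAlgebra R ι →+* AddMonoidAlgebra R ι :=
  AddMonoidAlgebra.liftNCRingHom (coact 𝒜 ε) (AddMonoidAlgebra.of R ι) (fun _ _ => Commute.all _ _)

theorem phi_single (ε : ι →+ ι) (h : ι) (r : R) :
    phi 𝒜 ε (AddMonoidAlgebra.single h r) = coact 𝒜 ε r * AddMonoidAlgebra.single h 1 := by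
  unfold phi
  rw [AddMonoidAlgebra.liftNCRingHom_single]
  rfl

theorem phi_single_of_mem (ε : ι →+ ι) (h : ι) {g : ι} {r : R} (hr : r ∈ 𝒜 g) :
    phi 𝒜 ε (AddMonoidAlgebra.single h r) = AddMonoidAlgebra.single (ε g + h) r := by
  rw [phi_single, coact_of_mem 𝒜 ε hr, AddMonoidAlgebra.single_mul_single, mul_one]

omit [DecidableEq ι] in
theorem algebraMap_eq_single (r : R) :
    algebraMap R (AddMonoidAlgebra R ι) r = AddMonoidAlgebra.single 0 r := rfl

theorem phi_algebraMap (ε : ι →+ ι) (r : R) :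
    phi 𝒜 ε (algebraMap R (AddMonoidAlgebra R ι) r) = coact 𝒜 ε r := by
  rw [algebraMap_eq_single, phi_single]
  show _ * (1 : AddMonoidAlgebra R ι) = _
  rw [mul_one]

theorem phi_single_one (ε : ι →+ ι) (h : ι) :
    phi 𝒜 ε (AddMonoidAlgebra.single h (1 : R)) = AddMonoidAlgebra.single h 1 := by
  rw [phi_single, map_one, one_mul]

theorem phi_coact {ε ε' : ι →+ ι} (hε : ∀ i, ε i + ε' i = 0) (r : R) :
    phi 𝒜 ε (coact 𝒜 ε' r) = algebraMap R (AddMonoidAlgebra R ι) r := by
  classical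
  induction r using DirectSum.Decomposition.inductionOn 𝒜 with
  | zero => simp
  | @homogeneous i x =>
    rw [coact_of_mem 𝒜 ε' x.2, phi_single_of_mem 𝒜 ε _ x.2, hε]
    rfl
  | add a b ha hb => rw [map_add, map_add, ha, hb, map_add]

theorem phi_phi {ε ε' : ι →+ ι} (hε : ∀ i, ε i + ε' i = 0) (f : AddMonoidAlgebra R ι) :
    phi 𝒜 ε (phi 𝒜 ε' f) = f := by
  induction f using AddMonoidAlgebra.induction_linear with
  | zero => rw [map_zero, map_zero]
  | add p q hp hq => rw [map_add, map_add, hp, hq]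
  | single h r =>
    rw [phi_single, map_mul, phi_coact 𝒜 hε, phi_single_one, algebraMap_eq_single,
      AddMonoidAlgebra.single_mul_single, zero_add, mul_one]

/-- negation on the grading group -/
def negHom : ι →+ ι := -AddMonoidHom.id ι

omit [DecidableEq ι] in
theorem id_add_neg (i : ι) : (AddMonoidHom.id ι) i + (negHom (ι := ι)) i = 0 := by
  simp [negHom]

omit [DecidableEq ι] in
theorem neg_add_id (i : ι) : (negHom (ι := ι)) i + (AddMonoidHom.id ι) i = 0 := by
  simp [negHom]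

/-- the coaction `θ : R → R[ι]`, `r ↦ ∑ r_g T^g` -/
noncomputable abbrev theta : R →+* AddMonoidAlgebra R ι := coact 𝒜 (AddMonoidHom.id ι)

/-- **the twisting automorphism** `Φ` of `R[ι]` with `Φ ∘ c = θ` -/
noncomputable def phiEquiv : AddMonoidAlgebra R ι ≃+* AddMonoidAlgebra R ι :=
  RingEquiv.ofRingHom (phi 𝒜 (AddMonoidHom.id ι)) (phi 𝒜 negHom)
    (RingHom.ext fun f => phi_phi 𝒜 id_add_neg f)
    (RingHom.ext fun f => phi_phi 𝒜 neg_add_id f)

theorem phiEquiv_apply (f : AddMonoidAlgebra R ι) :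
    phiEquiv 𝒜 f = phi 𝒜 (AddMonoidHom.id ι) f := rfl

theorem phiEquiv_symm_apply (f : AddMonoidAlgebra R ι) :
    (phiEquiv 𝒜).symm f = phi 𝒜 negHom f := rfl

theorem phiEquiv_algebraMap (r : R) :
    phiEquiv 𝒜 (algebraMap R (AddMonoidAlgebra R ι) r) = theta 𝒜 r := phi_algebraMap 𝒜 _ r

theorem phiEquiv_single_of_mem (h : ι) {g : ι} {r : R} (hr : r ∈ 𝒜 g) :
    phiEquiv 𝒜 (AddMonoidAlgebra.single h r) = AddMonoidAlgebra.single (g + h) r :=
  phi_single_of_mem 𝒜 _ h hr

theorem phiEquiv_symm_single_of_mem (h : ι) {g : ι} {r : R} (hr : r ∈ 𝒜 g) :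
    (phiEquiv 𝒜).symm (AddMonoidAlgebra.single h r) = AddMonoidAlgebra.single (-g + h) r := by
  rw [phiEquiv_symm_apply, phi_single_of_mem 𝒜 _ h hr]
  simp [negHom]

theorem phiEquiv_single_one (h : ι) :
    phiEquiv 𝒜 (AddMonoidAlgebra.single h (1 : R)) = AddMonoidAlgebra.single h 1 :=
  phi_single_one 𝒜 _ h

theorem phiEquiv_symm_single_one (h : ι) :
    (phiEquiv 𝒜).symm (AddMonoidAlgebra.single h (1 : R)) = AddMonoidAlgebra.single h 1 :=
  phi_single_one 𝒜 _ h

end Groth.Agent.Helper20.GA
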