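import Mathlib
import Groth.Agent.Lib.Helper20.GA1

/-!
# The extension `p R[ι]` of a prime ideal to the group algebra (helper20)
-/

set_option autoImplicit false

open DirectSum

namespace Groth.Agent.Helper20.GA

universe u

section Map

variable {ι : Type} [AddCommGroup ι]
variable {R : Type u} [CommRing R]

/-- The extension of an ideal `I` of `R` to `R[ι]` consists of the elements all of whose
coefficients lie in `I`. -/
theorem mem_map_algebraMap_iff {I : Ideal R} {f : AddMonoidAlgebra R ι} :
    f ∈ I.map (algebraMap R (AddMonoidAlgebra R ι)) ↔ ∀ n : ι, f.coeff n ∈ I := by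
  classical
  constructor
  · intro hf
    refine Submodule.span_induction ?_ ?_ ?_ ?_ hf
    · rintro f ⟨x, hx, rfl⟩ n
      rw [algebraMap_eq_single, AddMonoidAlgebra.coeff_single, Finsupp.single_apply]
      split_ifs
      · exact hx
      · exact I.zero_mem
    · intro n
      rw [AddMonoidAlgebra.coeff_zero, Finsupp.zero_apply]
      exact I.zero_mem
    · intro f g _ _ hf hg n
      rw [AddMonoidAlgebra.coeff_add, Finsupp.add_apply]
      exact I.add_mem (hf n) (hg n)
    · intro g f _ hf n
      rw [smul_eq_mul]
      induction g using AddMonoidAlgebra.induction_linear generalizing n with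
      | zero =>
        rw [zero_mul, AddMonoidAlgebra.coeff_zero, Finsupp.zero_apply]
        exact I.zero_mem
      | add p q hp hq =>
        rw [add_mul, AddMonoidAlgebra.coeff_add, Finsupp.add_apply]
        exact I.add_mem (hp n) (hq n)
      | single m a =>
        rw [AddMonoidAlgebra.coeff_single_mul_apply]
        exact I.mul_mem_left _ (hf _)
  · intro hf
    rw [← AddMonoidAlgebra.sum_coeff_single f, Finsupp.sum]
    refine Ideal.sum_mem _ fun n _ => ?_
    have h1 : (AddMonoidAlgebra.single n (f.coeff n) : AddMonoidAlgebra R ι) =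
        algebraMap R (AddMonoidAlgebra R ι) (f.coeff n) * AddMonoidAlgebra.single n 1 := by
      rw [algebraMap_eq_single, AddMonoidAlgebra.single_mul_single, zero_add, mul_one]
    rw [h1]
    exact Ideal.mul_mem_right _ _ (Ideal.mem_map_of_mem _ (hf n))

theorem comap_map_algebraMap (I : Ideal R) :
    (I.map (algebraMap R (AddMonoidAlgebra R ι))).comap (algebraMap R (AddMonoidAlgebra R ι)) =
      I := by
  classical
  ext r
  rw [Ideal.mem_comap, mem_map_algebraMap_iff]
  constructor
  · intro h
    have := h 0
    rwa [algebraMap_eq_single, AddMonoidAlgebra.coeff_single, Finsupp.single_eq_same] at this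
  · intro h n
    rw [algebraMap_eq_single, AddMonoidAlgebra.coeff_single, Finsupp.single_apply]
    split_ifs
    · exact h
    · exact I.zero_mem

theorem ker_mapRingHom_mk (p : Ideal R) :
    RingHom.ker (AddMonoidAlgebra.mapRingHom ι (Ideal.Quotient.mk p)) =
      p.map (algebraMap R (AddMonoidAlgebra R ι)) := by
  ext f
  rw [RingHom.mem_ker, mem_map_algebraMap_iff]
  constructor
  · intro h n
    have h1 := congrArg (fun g : AddMonoidAlgebra (R ⧸ p) ι => g.coeff n) h
    simp only [AddMonoidAlgebra.coeff_mapRingHom, AddMonoidAlgebra.coeff_zero,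
      Finsupp.zero_apply] at h1
    exact Ideal.Quotient.eq_zero_iff_mem.1 h1
  · intro h
    apply AddMonoidAlgebra.ext
    ext n
    rw [AddMonoidAlgebra.coeff_mapRingHom, AddMonoidAlgebra.coeff_zero, Finsupp.zero_apply]
    exact Ideal.Quotient.eq_zero_iff_mem.2 (h n)

/-- the extension of a prime ideal to the group algebra of a torsion-free group is prime -/
theorem isPrime_map_algebraMap [UniqueSums ι] (p : Ideal R) [hp : p.IsPrime] :
    (p.map (algebraMap R (AddMonoidAlgebra R ι))).IsPrime := by
  rw [← ker_mapRingHom_mk]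
  exact RingHom.ker_isPrime _

end Map

section Core

variable {ι : Type} [AddCommGroup ι] [DecidableEq ι]
variable {R : Type u} [CommRing R] (𝒜 : ι → AddSubgroup R) [GradedRing 𝒜]

/-- the preimage of `p R[ι]` under the coaction is the homogeneous core `p*` -/
theorem comap_theta_map (p : Ideal R) :
    (p.map (algebraMap R (AddMonoidAlgebra R ι))).comap (theta 𝒜) =
      (p.homogeneousCore 𝒜).toIdeal := by
  classical
  ext r
  rw [Ideal.mem_comap, mem_map_algebraMap_iff]
  simp only [coact_id_coeff]
  constructor
  · intro h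
    rw [← sum_support_decompose 𝒜 r]
    refine Ideal.sum_mem _ fun n _ => ?_
    exact Ideal.mem_homogeneousCore_of_homogeneous_of_mem ⟨n, (decompose 𝒜 r n).2⟩ (h n)
  · intro h n
    exact Ideal.toIdeal_homogeneousCore_le 𝒜 p ((p.homogeneousCore 𝒜).isHomogeneous n h)

/-- the homogeneous core of a prime ideal is prime (grading group with unique sums) -/
theorem isPrime_homogeneousCore [UniqueSums ι] (p : Ideal R) [p.IsPrime] :
    (p.homogeneousCore 𝒜).toIdeal.IsPrime := by
  rw [← comap_theta_map 𝒜 p]
  haveI := isPrime_map_algebraMap (ι := ι) p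
  exact Ideal.comap_isPrime _ _

/-- the preimage of `p R[ι]` under `Φ ∘ c` is the homogeneous core `p*` -/
theorem comap_phiEquiv_comap (p : Ideal R) :
    ((p.map (algebraMap R (AddMonoidAlgebra R ι))).comap
      (phiEquiv 𝒜 : AddMonoidAlgebra R ι →+* AddMonoidAlgebra R ι)).comap
        (algebraMap R (AddMonoidAlgebra R ι)) = (p.homogeneousCore 𝒜).toIdeal := by
  rw [← comap_theta_map 𝒜 p]
  ext r
  rw [Ideal.mem_comap, Ideal.mem_comap, Ideal.mem_comap]
  show phiEquiv 𝒜 (algebraMap R (AddMonoidAlgebra R ι) r) ∈ _ ↔ _
  rw [phiEquiv_algebraMap]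

end Core

end Groth.Agent.Helper20.GA
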