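import Mathlib
import Groth.Agent.Lib.Helper20.GA2

/-!
# The twisting automorphism of `R[ι] ⊗ M` for a graded module `M` (helper20)

`Ψ : R[ι] ⊗_R M → R[ι] ⊗_R M`, `s ⊗ m_g ↦ Φ(s) T^g ⊗ m_g` is an additive bijection, semilinear with
respect to the ring automorphism `Φ` of `R[ι]`.
-/

set_option autoImplicit false

open DirectSum TensorProduct

namespace Groth.Agent.Helper20.GA

universe u

variable {ι : Type} [AddCommGroup ι] [DecidableEq ι]
variable {R : Type u} [CommRing R] (𝒜 : ι → AddSubgroup R) [GradedRing 𝒜]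
variable {M : Type u} [AddCommGroup M] [Module R M] (ℳ : ι → AddSubgroup M)
  [DirectSum.Decomposition ℳ] [SetLike.GradedSMul 𝒜 ℳ]

/-- the coaction on a graded module, `m ↦ ∑ T^{ε g} ⊗ m_g` -/
noncomputable def coactM (ε : ι →+ ι) : M →+ (AddMonoidAlgebra R ι) ⊗[R] M :=
  (DirectSum.toAddMonoid (fun g : ι =>
    ((TensorProduct.mk R (AddMonoidAlgebra R ι) M
      (AddMonoidAlgebra.single (ε g) (1 : R))).toAddMonoidHom.comp (ℳ g).subtype))).comp
    (DirectSum.decomposeAddEquiv ℳ).toAddMonoidHom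

omit [AddCommGroup ι] in
theorem coactM_of_mem {ι : Type} [AddCommGroup ι] [DecidableEq ι] (ℳ : ι → AddSubgroup M)
    [DirectSum.Decomposition ℳ] (ε : ι →+ ι) {g : ι} {m : M} (hm : m ∈ ℳ g) :
    coactM (R := R) ℳ ε m = AddMonoidAlgebra.single (ε g) (1 : R) ⊗ₜ[R] m := by
  unfold coactM
  rw [AddMonoidHom.comp_apply]
  show (DirectSum.toAddMonoid _) (DirectSum.decompose ℳ m) = _
  rw [DirectSum.decompose_of_mem ℳ hm, DirectSum.toAddMonoid_of]
  rfl

theorem coactM_smul (ε : ι →+ ι) (r : R) (m : M) :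
    coactM (R := R) ℳ ε (r • m) = coact 𝒜 ε r • coactM (R := R) ℳ ε m := by
  classical
  induction r using DirectSum.Decomposition.inductionOn 𝒜 with
  | zero => rw [zero_smul, map_zero, map_zero, zero_smul]
  | add a b ha hb => rw [add_smul, map_add, ha, hb, map_add, add_smul]
  | @homogeneous h x =>
    induction m using DirectSum.Decomposition.inductionOn ℳ with
    | zero => rw [smul_zero, map_zero, smul_zero]
    | add a b ha hb => rw [smul_add, map_add, ha, hb, map_add, smul_add]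
    | @homogeneous g y =>
      have hxy : (x : R) • (y : M) ∈ ℳ (h + g) := by
        have := SetLike.GradedSMul.smul_mem (A := 𝒜) (B := ℳ) x.2 y.2
        rwa [vadd_eq_add] at this
      rw [coactM_of_mem ℳ ε hxy, coactM_of_mem ℳ ε y.2, coact_of_mem 𝒜 ε x.2,
        TensorProduct.smul_tmul', smul_eq_mul, AddMonoidAlgebra.single_mul_single, mul_one,
        ← TensorProduct.smul_tmul, map_add]
      congr 1
      rw [AddMonoidAlgebra.smul_single, smul_eq_mul, mul_one]

/-- the additive map `s ⊗ m ↦ Φ_ε(s) • coactM(m)` -/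
noncomputable def psi (ε : ι →+ ι) :
    (AddMonoidAlgebra R ι) ⊗[R] M →+ (AddMonoidAlgebra R ι) ⊗[R] M :=
  TensorProduct.liftAddHom
    (AddMonoidHom.mk' (fun s : AddMonoidAlgebra R ι =>
      (AddMonoidHom.mk' (fun m : M => phi 𝒜 ε s • coactM (R := R) ℳ ε m) (by
        intro a b
        rw [map_add, smul_add])))
      (by
        intro a b
        ext m
        show phi 𝒜 ε (a + b) • coactM (R := R) ℳ ε m =
          phi 𝒜 ε a • coactM (R := R) ℳ ε m + phi 𝒜 ε b • coactM (R := R) ℳ ε m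
        rw [map_add, add_smul]))
    (by
      intro r s m
      show phi 𝒜 ε (r • s) • coactM (R := R) ℳ ε m = phi 𝒜 ε s • coactM (R := R) ℳ ε (r • m)
      rw [coactM_smul 𝒜 ℳ, Algebra.smul_def, map_mul, phi_algebraMap, mul_comm, mul_smul])

theorem psi_tmul (ε : ι →+ ι) (s : AddMonoidAlgebra R ι) (m : M) :
    psi 𝒜 ℳ ε (s ⊗ₜ[R] m) = phi 𝒜 ε s • coactM (R := R) ℳ ε m := rfl

theorem psi_smul (ε : ι →+ ι) (t : AddMonoidAlgebra R ι) (x : (AddMonoidAlgebra R ι) ⊗[R] M) :
    psi 𝒜 ℳ ε (t • x) = phi 𝒜 ε t • psi 𝒜 ℳ ε x := by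
  induction x using TensorProduct.induction_on with
  | zero => rw [smul_zero, map_zero, smul_zero]
  | add a b ha hb => rw [smul_add, map_add, ha, hb, map_add, smul_add]
  | tmul s m =>
    rw [TensorProduct.smul_tmul', psi_tmul, psi_tmul, smul_eq_mul, map_mul, mul_smul]

theorem psi_psi {ε ε' : ι →+ ι} (hε : ∀ i, ε i + ε' i = 0)
    (x : (AddMonoidAlgebra R ι) ⊗[R] M) : psi 𝒜 ℳ ε (psi 𝒜 ℳ ε' x) = x := by
  classical
  induction x using TensorProduct.induction_on with
  | zero => rw [map_zero, map_zero]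
  | add a b ha hb => rw [map_add, map_add, ha, hb]
  | tmul s m =>
    induction m using DirectSum.Decomposition.inductionOn ℳ with
    | zero => rw [TensorProduct.tmul_zero, map_zero, map_zero]
    | add a b ha hb => rw [TensorProduct.tmul_add, map_add, map_add, ha, hb]
    | @homogeneous g y =>
      rw [psi_tmul, coactM_of_mem ℳ ε' y.2, psi_smul, psi_tmul, coactM_of_mem ℳ ε y.2,
        phi_phi 𝒜 hε, phi_single_one, TensorProduct.smul_tmul', TensorProduct.smul_tmul',
        smul_eq_mul, smul_eq_mul, AddMonoidAlgebra.single_mul_single, mul_one, add_comm, hε]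
      congr 1
      show s * (1 : AddMonoidAlgebra R ι) = s
      rw [mul_one]

/-- **the twisting bijection** `Ψ` of `R[ι] ⊗ M`, semilinear with respect to `Φ` -/
noncomputable def psiEquiv :
    (AddMonoidAlgebra R ι) ⊗[R] M ≃+ (AddMonoidAlgebra R ι) ⊗[R] M :=
  { psi 𝒜 ℳ (AddMonoidHom.id ι) with
    invFun := psi 𝒜 ℳ negHom
    left_inv := fun x => psi_psi 𝒜 ℳ neg_add_id x
    right_inv := fun x => psi_psi 𝒜 ℳ id_add_neg x }

theorem psiEquiv_smul (t : AddMonoidAlgebra R ι) (x : (AddMonoidAlgebra R ι) ⊗[R] M) :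
    psiEquiv 𝒜 ℳ (t • x) = phiEquiv 𝒜 t • psiEquiv 𝒜 ℳ x :=
  psi_smul 𝒜 ℳ _ t x

end Groth.Agent.Helper20.GA
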