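import Mathlib
import Groth.Prelude
import Groth.Agent.Lib.Lead.Depth21
import Groth.Agent.Lib.Lead.DimF3

/-!
# Transport of depth and dimension of localized modules along a semilinear isomorphism (helper20)
-/

set_option autoImplicit false

open LocCoh

namespace Groth.Agent.Helper20.GA

universe u

open Groth.Agent.Lead.Depth Groth.Agent.Lead.DimF

section Transport

variable {B₁ B₂ : Type u} [CommRing B₁] [CommRing B₂] [IsNoetherianRing B₁] [IsNoetherianRing B₂]
  (e : B₁ ≃+* B₂) {N₁ N₂ : Type u} [AddCommGroup N₁] [Module B₁ N₁] [AddCommGroup N₂]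
  [Module B₂ N₂] [Module.Finite B₂ N₂]
  (f : N₁ ≃+ N₂) (hf : ∀ (b : B₁) (x : N₁), f (b • x) = e b • f x)
  (P₁ : Ideal B₁) [P₁.IsPrime] (P₂ : Ideal B₂) [P₂.IsPrime] (hP : P₁ = P₂.comap (e : B₁ →+* B₂))

include hf hP in
/-- depth and dimension of the localizations of modules corresponding under a semilinear
isomorphism -/
theorem depth_supportDim_transport :
    LocCoh.depth (Localization.AtPrime P₁) (LocalizedModule P₁.primeCompl N₁) =
      LocCoh.depth (Localization.AtPrime P₂) (LocalizedModule P₂.primeCompl N₂) ∧
    Module.supportDim (Localization.AtPrime P₁) (LocalizedModule P₁.primeCompl N₁) =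
      Module.supportDim (Localization.AtPrime P₂) (LocalizedModule P₂.primeCompl N₂) := by
  have hmem : ∀ b : B₁, b ∈ P₁ ↔ e b ∈ P₂ := by
    intro b
    rw [hP]
    rfl
  have hmap : P₁.primeCompl.map (e.toMonoidHom) = P₂.primeCompl := by
    ext y
    constructor
    · rintro ⟨x, hx, rfl⟩
      intro hy
      exact hx ((hmem x).2 hy)
    · intro hy
      refine ⟨e.symm y, ?_, e.apply_symm_apply y⟩
      intro hx
      apply hy
      have := (hmem (e.symm y)).1 hx
      rwa [e.apply_symm_apply] at this
  let σ : Localization.AtPrime P₁ ≃+* Localization.AtPrime P₂ :=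
    IsLocalization.ringEquivOfRingEquiv (M := P₁.primeCompl) (T := P₂.primeCompl) _ _ e hmap
  have hσ : ∀ b : B₁, σ (algebraMap B₁ (Localization.AtPrime P₁) b) =
      algebraMap B₂ (Localization.AtPrime P₂) (e b) := fun b =>
    IsLocalization.ringEquivOfRingEquiv_eq hmap b
  letI alg : Algebra (Localization.AtPrime P₁) (Localization.AtPrime P₂) :=
    σ.toRingHom.toAlgebra
  have hsurj : Function.Surjective
      (algebraMap (Localization.AtPrime P₁) (Localization.AtPrime P₂)) := σ.surjective
  letI modA₁ : Module (Localization.AtPrime P₁) (LocalizedModule P₂.primeCompl N₂) :=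
    Module.compHom (LocalizedModule P₂.primeCompl N₂)
      (algebraMap (Localization.AtPrime P₁) (Localization.AtPrime P₂))
  haveI tower1 : IsScalarTower (Localization.AtPrime P₁) (Localization.AtPrime P₂)
      (LocalizedModule P₂.primeCompl N₂) :=
    IsScalarTower.of_algebraMap_smul fun r x => rfl
  letI modB₁ : Module B₁ (LocalizedModule P₂.primeCompl N₂) :=
    Module.compHom (LocalizedModule P₂.primeCompl N₂)
      (algebraMap B₁ (Localization.AtPrime P₁))
  haveI tower2 : IsScalarTower B₁ (Localization.AtPrime P₁)
      (LocalizedModule P₂.primeCompl N₂) :=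
    IsScalarTower.of_algebraMap_smul fun r x => rfl
  have hsm : ∀ (b : B₁) (y : LocalizedModule P₂.primeCompl N₂), b • y = e b • y := by
    intro b y
    show σ (algebraMap B₁ (Localization.AtPrime P₁) b) • y = e b • y
    rw [hσ]
    exact algebraMap_smul (Localization.AtPrime P₂) (e b) y
  let g : N₁ →ₗ[B₁] LocalizedModule P₂.primeCompl N₂ :=
    { toFun := fun x => LocalizedModule.mkLinearMap P₂.primeCompl N₂ (f x)
      map_add' := fun x y => by rw [map_add, map_add]
      map_smul' := fun b x => by
        rw [hf, map_smul, RingHom.id_apply, hsm] }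
  have hg : ∀ x, g x = LocalizedModule.mkLinearMap P₂.primeCompl N₂ (f x) := fun x => rfl
  haveI hloc : IsLocalizedModule P₁.primeCompl g := by
    refine ⟨?_, ?_, ?_⟩
    · intro s
      rw [Module.End.isUnit_iff]
      have h1 := IsLocalizedModule.map_units (S := P₂.primeCompl)
        (LocalizedModule.mkLinearMap P₂.primeCompl N₂) ⟨e s, by
          rw [← hmap]
          exact ⟨s, s.2, rfl⟩⟩
      rw [Module.End.isUnit_iff] at h1
      have h2 : ⇑((algebraMap B₁ (Module.End B₁ (LocalizedModule P₂.primeCompl N₂))) (s : B₁)) =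
          ⇑((algebraMap B₂ (Module.End B₂ (LocalizedModule P₂.primeCompl N₂))) (e s)) := by
        ext y
        rw [Module.algebraMap_end_apply, Module.algebraMap_end_apply, hsm]
      rw [h2]
      exact h1
    · intro y
      obtain ⟨⟨n, t⟩, hnt⟩ := IsLocalizedModule.surj P₂.primeCompl
        (LocalizedModule.mkLinearMap P₂.primeCompl N₂) y
      refine ⟨⟨f.symm n, ⟨e.symm t, ?_⟩⟩, ?_⟩
      · intro hx
        apply t.2
        have := (hmem (e.symm t)).1 hx
        rwa [e.apply_symm_apply] at this
      · show (e.symm (t : B₂)) • y = g (f.symm n)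
        rw [hsm, e.apply_symm_apply, hg, f.apply_symm_apply]
        exact hnt
    · intro x x' hxx'
      rw [hg, hg] at hxx'
      obtain ⟨t, ht⟩ := IsLocalizedModule.exists_of_eq (S := P₂.primeCompl) hxx'
      refine ⟨⟨e.symm t, ?_⟩, ?_⟩
      · intro hx
        apply t.2
        have := (hmem (e.symm t)).1 hx
        rwa [e.apply_symm_apply] at this
      · show (e.symm (t : B₂)) • x = (e.symm (t : B₂)) • x'
        apply f.injective
        rw [hf, hf, e.apply_symm_apply]
        exact ht
  haveI : Module.Finite (Localization.AtPrime P₂) (LocalizedModule P₂.primeCompl N₂) :=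
    Module.Finite.of_isLocalizedModule P₂.primeCompl
      (LocalizedModule.mkLinearMap P₂.primeCompl N₂)
  constructor
  · rw [depth_localizedModule_eq_of_isLocalizedModule P₁ g]
    exact depth_eq_of_surjective hsurj _
  · have e1 : LocalizedModule P₁.primeCompl N₁ ≃ₗ[Localization.AtPrime P₁]
        LocalizedModule P₂.primeCompl N₂ :=
      (IsLocalizedModule.linearEquiv P₁.primeCompl
        (LocalizedModule.mkLinearMap P₁.primeCompl N₁) g).extendScalarsOfIsLocalization
          P₁.primeCompl (Localization.AtPrime P₁)
    rw [Module.supportDim_eq_of_equiv e1]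
    exact supportDim_eq_of_surjective hsurj _

end Transport

end Groth.Agent.Helper20.GA
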