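import Mathlib
import Groth.Prelude
import Groth.Agent.Lib.Lead.Depth12

/-!
# The group algebra of a finitely generated free abelian group over a field is regular (helper20)
-/

set_option autoImplicit false

namespace Groth.Agent.Helper20.GA

universe u

section Loc

/-- a localization of a regular ring is regular -/
theorem isRegularRing_of_isLocalization {A : Type*} [CommRing A] (M : Submonoid A) (T : Type*)
    [CommRing T] [Algebra A T] [IsLocalization M T] [IsRegularRing A] : IsRegularRing T := by
  haveI : IsNoetherianRing T := IsLocalization.isNoetherianRing M T inferInstance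
  rw [isRegularRing_iff]
  intro Q hQ
  haveI : IsLocalization.AtPrime (Localization.AtPrime Q) (Q.comap (algebraMap A T)) :=
    IsLocalization.isLocalization_isLocalization_atPrime_isLocalization M _ Q
  have e : Localization.AtPrime (Q.comap (algebraMap A T)) ≃ₐ[A] Localization.AtPrime Q :=
    IsLocalization.algEquiv (Q.comap (algebraMap A T)).primeCompl _ _
  exact IsRegularLocalRing.of_ringEquiv e.toRingEquiv

end Loc

section Laurent

variable (K : Type u) [CommRing K] (σ : Type) [Finite σ]

/-- the inclusion of exponent vectors `ℕ^σ → ℤ^σ` -/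
noncomputable def castHom : (σ →₀ ℕ) →+ (σ →₀ ℤ) := Finsupp.mapRange.addMonoidHom (Nat.castAddMonoidHom ℤ)

theorem castHom_apply (n : σ →₀ ℕ) (i : σ) : castHom σ n i = (n i : ℤ) := rfl

theorem castHom_injective : Function.Injective (castHom σ) := by
  intro a b h
  ext i
  have := DFunLike.congr_fun h i
  rw [castHom_apply, castHom_apply] at this
  exact_mod_cast this

/-- the inclusion of the polynomial ring into the Laurent polynomial ring -/
noncomputable def jHom : MvPolynomial σ K →+* AddMonoidAlgebra K (σ →₀ ℤ) :=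
  AddMonoidAlgebra.mapDomainRingHom K (castHom σ)

theorem jHom_single (n : σ →₀ ℕ) (a : K) :
    jHom K σ (AddMonoidAlgebra.single n a : AddMonoidAlgebra K (σ →₀ ℕ)) =
      AddMonoidAlgebra.single (castHom σ n) a := by
  unfold jHom
  rw [AddMonoidAlgebra.mapDomainRingHom_apply, AddMonoidAlgebra.mapDomain_single]

theorem jHom_injective : Function.Injective (jHom K σ) :=
  AddMonoidAlgebra.mapDomain_injective (castHom_injective σ)

/-- the monomials -/
noncomputable def monos : Submonoid (MvPolynomial σ K) :=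
  Submonoid.map (AddMonoidAlgebra.of K (σ →₀ ℕ)) ⊤

theorem mem_monos {x : MvPolynomial σ K} :
    x ∈ monos K σ ↔ ∃ n : σ →₀ ℕ, x = (AddMonoidAlgebra.single n 1 : AddMonoidAlgebra K (σ →₀ ℕ)) := by
  constructor
  · rintro ⟨m, -, rfl⟩
    exact ⟨m.toAdd, rfl⟩
  · rintro ⟨n, rfl⟩
    exact ⟨Multiplicative.ofAdd n, trivial, rfl⟩

theorem single_mem_monos (n : σ →₀ ℕ) :
    (AddMonoidAlgebra.single n 1 : AddMonoidAlgebra K (σ →₀ ℕ)) ∈ monos K σ :=
  (mem_monos K σ).2 ⟨n, rfl⟩

theorem isLocalization_laurent :
    @IsLocalization (MvPolynomial σ K) _ (monos K σ) (AddMonoidAlgebra K (σ →₀ ℤ)) _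
      (jHom K σ).toAlgebra := by
  letI : Algebra (MvPolynomial σ K) (AddMonoidAlgebra K (σ →₀ ℤ)) := (jHom K σ).toAlgebra
  have halg : ∀ x, algebraMap (MvPolynomial σ K) (AddMonoidAlgebra K (σ →₀ ℤ)) x = jHom K σ x :=
    fun x => rfl
  refine ⟨?_, ?_, ?_⟩
  · rintro ⟨x, hx⟩
    obtain ⟨n, rfl⟩ := (mem_monos K σ).1 hx
    rw [halg, jHom_single]
    refine ⟨⟨AddMonoidAlgebra.single (castHom σ n) 1, AddMonoidAlgebra.single (-castHom σ n) 1,
      ?_, ?_⟩, rfl⟩
    · rw [AddMonoidAlgebra.single_mul_single, add_neg_cancel, mul_one]; rfl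
    · rw [AddMonoidAlgebra.single_mul_single, neg_add_cancel, mul_one]; rfl
  · intro z
    induction z using AddMonoidAlgebra.induction_linear with
    | zero => exact ⟨⟨0, 1⟩, by rw [zero_mul, map_zero]⟩
    | add z₁ z₂ h₁ h₂ =>
      obtain ⟨⟨x₁, m₁⟩, h₁⟩ := h₁
      obtain ⟨⟨x₂, m₂⟩, h₂⟩ := h₂
      refine ⟨⟨x₁ * m₂ + x₂ * m₁, m₁ * m₂⟩, ?_⟩
      simp only at h₁ h₂ ⊢
      rw [Submonoid.coe_mul, map_mul, map_add, map_mul, map_mul, ← h₁, ← h₂]
      ring
    | single g a =>
      refine ⟨⟨(AddMonoidAlgebra.single (g.mapRange Int.toNat rfl) a :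
          AddMonoidAlgebra K (σ →₀ ℕ)),
        ⟨(AddMonoidAlgebra.single (g.mapRange (fun k : ℤ => (-k).toNat) rfl) 1 :
          AddMonoidAlgebra K (σ →₀ ℕ)), single_mem_monos K σ _⟩⟩, ?_⟩
      simp only
      rw [halg, halg, jHom_single, jHom_single, AddMonoidAlgebra.single_mul_single, mul_one]
      congr 1
      ext i
      rw [Finsupp.add_apply, castHom_apply, castHom_apply, Finsupp.mapRange_apply,
        Finsupp.mapRange_apply]
      omega
  · intro x y hxy
    rw [halg, halg] at hxy
    exact ⟨1, by rw [jHom_injective K σ hxy]⟩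

theorem isRegularRing_laurent (K : Type u) [Field K] (σ : Type) [Finite σ] :
    IsRegularRing (AddMonoidAlgebra K (σ →₀ ℤ)) := by
  letI : Algebra (MvPolynomial σ K) (AddMonoidAlgebra K (σ →₀ ℤ)) := (jHom K σ).toAlgebra
  haveI := isLocalization_laurent K σ
  exact isRegularRing_of_isLocalization (monos K σ) _

end Laurent

section Free

variable (K : Type u) [Field K] (ι : Type) [AddCommGroup ι] [Module.Free ℤ ι] [Module.Finite ℤ ι]

/-- the group algebra of a finitely generated free abelian group over a field is regular -/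
theorem isRegularRing_addMonoidAlgebra : IsRegularRing (AddMonoidAlgebra K ι) := by
  let b := Module.Free.chooseBasis ℤ ι
  haveI := isRegularRing_laurent K (Module.Free.ChooseBasisIndex ℤ ι)
  exact IsRegularRing.of_ringEquiv
    (AddMonoidAlgebra.domCongr K K b.repr.toAddEquiv).symm.toRingEquiv

open Groth.Agent.Lead.Depth in
/-- the group algebra of a finitely generated free abelian group over a field is Cohen–Macaulay -/
theorem isCohenMacaulayRing_addMonoidAlgebra :
    LocCoh.IsCohenMacaulayRing (AddMonoidAlgebra K ι) := by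
  haveI := isRegularRing_addMonoidAlgebra K ι
  exact { isCohenMacaulayLocalRing_localization := fun p _ =>
    isCohenMacaulayLocalRing_of_isRegularLocalRing }

end Free

end Groth.Agent.Helper20.GA
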