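import Mathlib
import Groth.Prelude
import Groth.Agent.Lib.Helper20.GA5
import Groth.Agent.Lib.Lead.FibLoc2

/-!
# The fibre local rings of `R → R[ι]` (helper20)
-/

set_option autoImplicit false

open LocCoh IsLocalRing

namespace Groth.Agent.Helper20.GA

universe u

open Groth.Agent.Lead.Depth Groth.Agent.Lead.Fib Groth.Agent.Lead.FibLoc

section FibMod

variable (A B : Type u) [CommRing A] [CommRing B] [Algebra A B] [IsNoetherianRing B]
  (q : Ideal B) [q.IsPrime]

/-- depth and dimension of the fibre module `B_q / p B_q` over `B_q` are those of the ring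
`FL p q` -/
theorem fibLocMod_self :
    LocCoh.depth (Localization.AtPrime q) (EGA4.FibLocMod A B q B) =
      LocCoh.depth (FL (q.comap (algebraMap A B)) q) (FL (q.comap (algebraMap A B)) q) ∧
    Module.supportDim (Localization.AtPrime q) (EGA4.FibLocMod A B q B) =
      ringKrullDim (FL (q.comap (algebraMap A B)) q) := by
  let e0 : LocalizedModule q.primeCompl B ≃ₗ[Localization.AtPrime q] Localization.AtPrime q :=
    (IsLocalizedModule.linearEquiv q.primeCompl (LocalizedModule.mkLinearMap q.primeCompl B)
      (Algebra.linearMap B (Localization.AtPrime q))).extendScalarsOfIsLocalization q.primeCompl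
      (Localization.AtPrime q)
  let e1 : EGA4.FibLocMod A B q B ≃ₗ[Localization.AtPrime q]
      (Localization.AtPrime q ⧸ ((q.comap (algebraMap A B)).map
        (algebraMap A (Localization.AtPrime q)) •
          (⊤ : Submodule (Localization.AtPrime q) (Localization.AtPrime q)))) :=
    Submodule.Quotient.equiv _ _ e0 (by
      rw [Submodule.map_smul'', Submodule.map_top, LinearEquiv.range])
  let e2 : (Localization.AtPrime q ⧸ ((q.comap (algebraMap A B)).map
        (algebraMap A (Localization.AtPrime q)) •
          (⊤ : Submodule (Localization.AtPrime q) (Localization.AtPrime q))))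
      ≃ₗ[Localization.AtPrime q]
      (Localization.AtPrime q ⧸ (q.comap (algebraMap A B)).map
        (algebraMap A (Localization.AtPrime q))) :=
    Submodule.quotEquivOfEq _ _ (by rw [smul_eq_mul, Ideal.mul_top])
  constructor
  · rw [depth_congr (e1 ≪≫ₗ e2)]
    exact depth_eq_of_surjective (R₁ := Localization.AtPrime q)
      (R₂ := FL (q.comap (algebraMap A B)) q) Ideal.Quotient.mk_surjective _
  · rw [Module.supportDim_eq_of_equiv (e1 ≪≫ₗ e2)]
    exact Module.supportDim_quotient_eq_ringKrullDim _

/-- if `q = p B` with `p = q ∩ A`, the fibre local module is the residue field -/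
theorem fibLocMod_of_eq_map (hq : q = (q.comap (algebraMap A B)).map (algebraMap A B)) :
    LocCoh.depth (Localization.AtPrime q) (EGA4.FibLocMod A B q B) = 0 ∧
    Module.supportDim (Localization.AtPrime q) (EGA4.FibLocMod A B q B) = 0 := by
  obtain ⟨h1, h2⟩ := fibLocMod_self A B q
  have hJ : (q.comap (algebraMap A B)).map (algebraMap A (Localization.AtPrime q)) =
      maximalIdeal (Localization.AtPrime q) := by
    rw [IsScalarTower.algebraMap_eq A B (Localization.AtPrime q), ← Ideal.map_map, ← hq,
      Localization.AtPrime.map_eq_maximalIdeal]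
  have hfield : IsField (FL (q.comap (algebraMap A B)) q) := by
    rw [← Ideal.Quotient.maximal_ideal_iff_isField_quotient, hJ]
    exact maximalIdeal.isMaximal _
  have hdim : ringKrullDim (FL (q.comap (algebraMap A B)) q) = 0 :=
    ringKrullDim_eq_zero_of_isField hfield
  refine ⟨?_, by rw [h2, hdim]⟩
  rw [h1]
  have h3 := depth_self_le_ringKrullDim (R := FL (q.comap (algebraMap A B)) q)
  rw [hdim] at h3
  have h4 : LocCoh.depth (FL (q.comap (algebraMap A B)) q) (FL (q.comap (algebraMap A B)) q) ≤ 0 := by
    exact_mod_cast h3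
  exact le_antisymm h4 zero_le

end FibMod

section CM

/-- a regular ring is Cohen–Macaulay -/
theorem isCohenMacaulayRing_of_isRegularRing (A : Type u) [CommRing A] [IsRegularRing A] :
    LocCoh.IsCohenMacaulayRing A :=
  { isCohenMacaulayLocalRing_localization := fun p _ =>
      isCohenMacaulayLocalRing_of_isRegularLocalRing }

variable (R : Type u) [CommRing R] [IsNoetherianRing R] (ι : Type) [AddCommGroup ι]
  [Module.Free ℤ ι] [Module.Finite ℤ ι]

theorem addMonoid_fg : AddMonoid.FG ι :=
  AddGroup.fg_iff_addMonoid_fg.1 (Module.Finite.iff_addGroup_fg.1 inferInstance)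

theorem isAddTorsionFree : IsAddTorsionFree ι :=
  Module.isTorsionFree_int_iff_isAddTorsionFree.1 inferInstance

theorem uniqueSums : UniqueSums ι := by
  haveI := addMonoid_fg ι
  haveI := isAddTorsionFree ι
  haveI : TwoUniqueSums ι := AffineAddMonoid.to_twoUniqueSums
  infer_instance

theorem isNoetherianRing_addMonoidAlgebra : IsNoetherianRing (AddMonoidAlgebra R ι) := by
  haveI := addMonoid_fg ι
  exact Algebra.FiniteType.isNoetherianRing R (AddMonoidAlgebra R ι)

/-- the fibre rings of `R → R[ι]` are Cohen–Macaulay -/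
theorem isCohenMacaulayRing_fiber (p : Ideal R) [p.IsPrime] :
    LocCoh.IsCohenMacaulayRing (p.Fiber (AddMonoidAlgebra R ι)) := by
  haveI := isRegularRing_addMonoidAlgebra p.ResidueField ι
  haveI : IsRegularRing (p.Fiber (AddMonoidAlgebra R ι)) :=
    IsRegularRing.of_ringEquiv
      (AddMonoidAlgebra.scalarTensorEquiv R p.ResidueField (M := ι)).symm.toRingEquiv
  exact isCohenMacaulayRing_of_isRegularRing _

/-- the fibre local modules of `R → R[ι]` are Cohen–Macaulay -/
theorem fibLocMod_cm (q : Ideal (AddMonoidAlgebra R ι)) [q.IsPrime] :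
    ((LocCoh.depth (Localization.AtPrime q)
      (EGA4.FibLocMod R (AddMonoidAlgebra R ι) q (AddMonoidAlgebra R ι)) : ℕ∞) : WithBot ℕ∞) =
    Module.supportDim (Localization.AtPrime q)
      (EGA4.FibLocMod R (AddMonoidAlgebra R ι) q (AddMonoidAlgebra R ι)) := by
  haveI := isNoetherianRing_addMonoidAlgebra R ι
  obtain ⟨h1, h2⟩ := fibLocMod_self R (AddMonoidAlgebra R ι) q
  have h3 := (isCohenMacaulayRing_fiber_iff (S := AddMonoidAlgebra R ι)
    (q.comap (algebraMap R (AddMonoidAlgebra R ι)))).1
    (isCohenMacaulayRing_fiber R ι _) q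
  rw [h1, h2, ← h3, IsLocalRing.maximalIdeal_height_eq_ringKrullDim]

end CM

end Groth.Agent.Helper20.GA
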