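import Mathlib
import Groth.Prelude.Def_GrLC

open DirectSum

namespace Groth.Agent.Helper20.GrInj

universe u

variable {ι : Type} [AddCommGroup ι] [DecidableEq ι]
variable {R : Type u} [CommRing R]
variable {M : Type u} [AddCommGroup M] [Module R M] (ℳ : ι → AddSubgroup M)
  [DirectSum.Decomposition ℳ]
variable {N : Type u} [AddCommGroup N] [Module R N] (𝒩 : ι → AddSubgroup N)
  [DirectSum.Decomposition 𝒩]

/-- graded maps commute with taking homogeneous components -/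
theorem decompose_map {f : M →ₗ[R] N} (hf : GrLC.IsGrHom ℳ 𝒩 f) (m : M) (i : ι) :
    (decompose 𝒩 (f m) i : N) = f (decompose ℳ m i) := by
  induction m using DirectSum.Decomposition.inductionOn ℳ with
  | zero => simp
  | @homogeneous j m =>
    have hm : f (m : M) ∈ 𝒩 j := hf j m m.2
    by_cases hij : j = i
    · subst hij
      rw [decompose_of_mem_same 𝒩 hm, decompose_of_mem_same ℳ m.2]
    · rw [decompose_of_mem_ne 𝒩 hm hij, decompose_of_mem_ne ℳ m.2 hij, map_zero]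
  | add m m' h h' =>
    rw [map_add, decompose_add, decompose_add, DirectSum.add_apply, DirectSum.add_apply, AddSubgroup.coe_add,
      AddSubgroup.coe_add, map_add, h, h']

theorem ker_isHomogeneous {f : M →ₗ[R] N} (hf : GrLC.IsGrHom ℳ 𝒩 f) :
    (LinearMap.ker f).IsHomogeneous ℳ := by
  intro i m hm
  rw [LinearMap.mem_ker] at hm ⊢
  rw [← decompose_map ℳ 𝒩 hf, hm, decompose_zero, DirectSum.zero_apply, ZeroMemClass.coe_zero]

theorem range_isHomogeneous {f : M →ₗ[R] N} (hf : GrLC.IsGrHom ℳ 𝒩 f) :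
    (LinearMap.range f).IsHomogeneous 𝒩 := by
  rintro i _ ⟨m, rfl⟩
  exact ⟨_, (decompose_map ℳ 𝒩 hf m i).symm⟩

omit [DirectSum.Decomposition ℳ] in
/-- a graded map out of a *essential extension which is injective on the base is injective -/
theorem injective_of_starEss {L : Type u} [AddCommGroup L] [Module R L] (𝓛 : ι → AddSubgroup L)
    [DirectSum.Decomposition 𝓛]
    {f : M →ₗ[R] N} (hf : GrLC.IsStarEss ℳ 𝒩 f) {β : N →ₗ[R] L} (hβ : GrLC.IsGrHom 𝒩 𝓛 β)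
    (hinj : Function.Injective (β ∘ₗ f)) : Function.Injective β := by
  rw [← LinearMap.ker_eq_bot]
  by_contra hne
  apply hf.essential _ (ker_isHomogeneous 𝒩 𝓛 hβ) hne
  rw [eq_bot_iff]
  rintro x ⟨hx1, ⟨m, rfl⟩⟩
  rw [SetLike.mem_coe, LinearMap.mem_ker] at hx1
  have : m = 0 := hinj (by rw [LinearMap.comp_apply, hx1, map_zero])
  rw [this, map_zero]
  exact Submodule.zero_mem _

/-- unbundled form of the *injective extension property -/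
theorem starInj_extend {σ : Type u} [SetLike σ R] [AddSubgroupClass σ R] (𝒜 : ι → σ)
    [GradedRing 𝒜] [SetLike.GradedSMul 𝒜 ℳ] (hI : GrLC.IsStarInj 𝒜 ℳ)
    {A : Type u} [AddCommGroup A] [Module R A] (𝓐 : ι → AddSubgroup A)
    [DirectSum.Decomposition 𝓐] [SetLike.GradedSMul 𝒜 𝓐]
    {B : Type u} [AddCommGroup B] [Module R B] (𝓑 : ι → AddSubgroup B)
    [DirectSum.Decomposition 𝓑] [SetLike.GradedSMul 𝒜 𝓑]
    (f : A →ₗ[R] B) (hf : GrLC.IsGrHom 𝓐 𝓑 f) (hinj : Function.Injective f)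
    (g : A →ₗ[R] M) (hg : GrLC.IsGrHom 𝓐 ℳ g) :
    ∃ h : B →ₗ[R] M, GrLC.IsGrHom 𝓑 ℳ h ∧ h ∘ₗ f = g :=
  hI (GrLC.GMod.of 𝒜 A 𝓐) (GrLC.GMod.of 𝒜 B 𝓑) f hf hinj g hg

theorem starInjHull_unique {σ : Type u} [SetLike σ R] [AddSubgroupClass σ R] (𝒜 : ι → σ)
    [GradedRing 𝒜] [SetLike.GradedSMul 𝒜 ℳ]
    {E₁ : Type u} [AddCommGroup E₁] [Module R E₁] (𝓔₁ : ι → AddSubgroup E₁)
    [DirectSum.Decomposition 𝓔₁] [SetLike.GradedSMul 𝒜 𝓔₁]
    {E₂ : Type u} [AddCommGroup E₂] [Module R E₂] (𝓔₂ : ι → AddSubgroup E₂)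
    [DirectSum.Decomposition 𝓔₂] [SetLike.GradedSMul 𝒜 𝓔₂]
    (f₁ : M →ₗ[R] E₁) (f₂ : M →ₗ[R] E₂) (h₁ : GrLC.IsStarInjHull 𝒜 ℳ 𝓔₁ f₁)
    (h₂ : GrLC.IsStarInjHull 𝒜 ℳ 𝓔₂ f₂) :
    ∃ β : E₁ ≃ₗ[R] E₂, GrLC.IsGrHom 𝓔₁ 𝓔₂ β.toLinearMap ∧ β.toLinearMap ∘ₗ f₁ = f₂ := by
  obtain ⟨β, hβgr, hβ⟩ := starInj_extend 𝓔₂ 𝒜 h₂.starInj ℳ 𝓔₁ f₁
    h₁.grHom h₁.injective f₂ h₂.grHom
  have hβinj : Function.Injective β :=
    injective_of_starEss ℳ 𝓔₁ 𝓔₂ h₁.toIsStarEss hβgr (by rw [hβ]; exact h₂.injective)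
  obtain ⟨ρ, hρgr, hρ⟩ := starInj_extend 𝓔₁ 𝒜 h₁.starInj 𝓔₁ 𝓔₂ β
    hβgr hβinj LinearMap.id (fun _ _ h => h)
  have hρinj : Function.Injective ρ := by
    apply injective_of_starEss ℳ 𝓔₂ 𝓔₁ h₂.toIsStarEss hρgr
    rw [← hβ, ← LinearMap.comp_assoc, hρ, LinearMap.id_comp]
    exact h₁.injective
  have hβsurj : Function.Surjective β := by
    intro y
    refine ⟨ρ y, hρinj ?_⟩
    have := congrArg (fun φ => φ (ρ y)) hρ
    simpa using this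
  refine ⟨LinearEquiv.ofBijective β ⟨hβinj, hβsurj⟩, hβgr, ?_⟩
  ext m
  exact congrArg (fun φ => φ m) hβ

end Groth.Agent.Helper20.GrInj
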