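import Mathlib
import Groth.Agent.Lib.Helper20.GrInj1

open DirectSum

namespace Groth.Agent.Helper20.GrInj

universe u

variable {ι : Type} [AddCommGroup ι] [DecidableEq ι]
variable {R : Type u} [CommRing R]
variable {X : Type u} [AddCommGroup X] [Module R X] (𝒳 : ι → AddSubgroup X)

section
variable [DirectSum.Decomposition 𝒳]

omit [AddCommGroup ι] in
theorem decompose_sum_homog (s : Finset ι) (c : ι → X) (hc : ∀ i, c i ∈ 𝒳 i) (j : ι) :
    (decompose 𝒳 (∑ i ∈ s, c i) j : X) = if j ∈ s then c j else 0 := by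
  rw [decompose_sum, DFinsupp.finsetSum_apply, AddSubmonoidClass.coe_finsetSum]
  have : ∀ i ∈ s, ((decompose 𝒳 (c i)) j : X) = if i = j then c j else 0 := by
    intro i _
    by_cases hij : i = j
    · subst hij
      rw [if_pos rfl, decompose_of_mem_same 𝒳 (hc i)]
    · rw [if_neg hij, decompose_of_mem_ne 𝒳 (hc i) hij]
  rw [Finset.sum_congr rfl this, Finset.sum_ite_eq' s j]

end

omit [AddCommGroup ι] in
/-- criterion for an internal direct sum of additive subgroups -/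
theorem isInternal_of {N : Type*} [AddCommGroup N] (𝒩 : ι → AddSubgroup N)
    (hspan : ∀ n : N, ∃ (s : Finset ι) (c : ι → N), (∀ i, c i ∈ 𝒩 i) ∧ n = ∑ i ∈ s, c i)
    (hind : ∀ (s : Finset ι) (c : ι → N), (∀ i, c i ∈ 𝒩 i) → ∑ i ∈ s, c i = 0 → ∀ i ∈ s, c i = 0) :
    DirectSum.IsInternal 𝒩 := by
  classical
  constructor
  · rw [injective_iff_map_eq_zero]
    intro x hx
    rw [DirectSum.coeAddMonoidHom_eq_dfinsuppSum, DFinsupp.sum] at hx
    have h := hind x.support (fun i => (x i : N)) (fun i => (x i).2) hx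
    ext i
    by_cases hi : i ∈ x.support
    · rw [h i hi]; rfl
    · rw [DFinsupp.notMem_support_iff] at hi
      rw [hi]
      rfl
  · intro n
    obtain ⟨s, c, hc, rfl⟩ := hspan n
    refine ⟨∑ i ∈ s, DirectSum.of (fun i => 𝒩 i) i ⟨c i, hc i⟩, ?_⟩
    rw [map_sum]
    apply Finset.sum_congr rfl
    intro i _
    rw [DirectSum.coeAddMonoidHom_of]

section Sub
variable [DirectSum.Decomposition 𝒳] (P : Submodule R X)

/-- pieces of a submodule of a graded module -/
def subGr : ι → AddSubgroup P := fun g => (𝒳 g).comap P.subtype.toAddMonoidHom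

omit [AddCommGroup ι] [DecidableEq ι] [Decomposition 𝒳] in
theorem mem_subGr {g : ι} {x : P} : x ∈ subGr 𝒳 P g ↔ (x : X) ∈ 𝒳 g := Iff.rfl

omit [AddCommGroup ι] in
theorem subGr_isInternal (hP : P.IsHomogeneous 𝒳) : DirectSum.IsInternal (subGr 𝒳 P) := by
  classical
  apply isInternal_of
  · intro x
    refine ⟨(decompose 𝒳 (x : X)).support, fun i => ⟨decompose 𝒳 (x : X) i, hP i x.2⟩,
      fun i => (decompose 𝒳 (x : X) i).2, ?_⟩
    apply Subtype.ext
    rw [Submodule.coe_sum]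
    exact (sum_support_decompose 𝒳 (x : X)).symm
  · intro s c hc hsum i hi
    have h := congrArg (fun y : P => (decompose 𝒳 (y : X) i : X)) hsum
    simp only at h
    rw [Submodule.coe_sum, decompose_sum_homog 𝒳 s (fun i => (c i : X)) hc i, if_pos hi] at h
    apply Subtype.ext
    rw [h]
    simp

/-- pieces of a quotient of a graded module -/
def quotGrM : ι → AddSubgroup (X ⧸ P) := fun g => (𝒳 g).map P.mkQ.toAddMonoidHom

omit [AddCommGroup ι] [DecidableEq ι] [Decomposition 𝒳] in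
theorem mem_quotGrM {g : ι} {x : X ⧸ P} : x ∈ quotGrM 𝒳 P g ↔ ∃ y ∈ 𝒳 g, P.mkQ y = x := Iff.rfl

omit [AddCommGroup ι] in
theorem quotGrM_isInternal (hP : P.IsHomogeneous 𝒳) : DirectSum.IsInternal (quotGrM 𝒳 P) := by
  classical
  apply isInternal_of
  · intro n
    obtain ⟨x, rfl⟩ := P.mkQ_surjective n
    refine ⟨(decompose 𝒳 x).support, fun i => P.mkQ (decompose 𝒳 x i),
      fun i => ⟨_, (decompose 𝒳 x i).2, rfl⟩, ?_⟩
    rw [← map_sum, sum_support_decompose 𝒳 x]
  · intro s c hc hsum i hi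
    choose y hy1 hy2 using hc
    have h1 : ∑ j ∈ s, y j ∈ P := by
      rw [← Submodule.Quotient.mk_eq_zero, ← Submodule.mkQ_apply, map_sum]
      rw [← hsum]
      exact Finset.sum_congr rfl (fun j _ => hy2 j)
    have h2 := hP i h1
    rw [decompose_sum_homog 𝒳 s y hy1 i, if_pos hi] at h2
    rw [← hy2 i]
    show P.mkQ (y i) = 0
    rw [Submodule.mkQ_apply, Submodule.Quotient.mk_eq_zero]
    exact h2

end Sub

section GMods
variable {σ : Type u} [SetLike σ R] [AddSubgroupClass σ R] (𝒜 : ι → σ) [GradedRing 𝒜]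
variable [DirectSum.Decomposition 𝒳] [SetLike.GradedSMul 𝒜 𝒳] (P : Submodule R X)

omit [DecidableEq ι] [Decomposition 𝒳] [GradedRing 𝒜] in
theorem subGr_gradedSMul : SetLike.GradedSMul 𝒜 (subGr 𝒳 P) :=
  ⟨fun {i j} {r} {m} hr hm => by
    rw [mem_subGr] at hm ⊢
    rw [Submodule.coe_smul]
    exact SetLike.GradedSMul.smul_mem hr hm⟩

omit [DecidableEq ι] [Decomposition 𝒳] [GradedRing 𝒜] in
theorem quotGrM_gradedSMul : SetLike.GradedSMul 𝒜 (quotGrM 𝒳 P) :=
  ⟨fun {i j} {r} {m} hr hm => by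
    rw [mem_quotGrM] at hm ⊢
    obtain ⟨y, hy, rfl⟩ := hm
    exact ⟨r • y, SetLike.GradedSMul.smul_mem hr hy, map_smul _ _ _⟩⟩

/-- a homogeneous submodule as a bundled graded module -/
noncomputable def subGMod (hP : P.IsHomogeneous 𝒳) : GrLC.GMod.{u} 𝒜 :=
  letI := (subGr_isInternal 𝒳 P hP).chooseDecomposition
  letI := subGr_gradedSMul 𝒳 𝒜 P
  GrLC.GMod.of 𝒜 P (subGr 𝒳 P)

/-- the quotient by a homogeneous submodule as a bundled graded module -/
noncomputable def quotGMod (hP : P.IsHomogeneous 𝒳) : GrLC.GMod.{u} 𝒜 :=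
  letI := (quotGrM_isInternal 𝒳 P hP).chooseDecomposition
  letI := quotGrM_gradedSMul 𝒳 𝒜 P
  GrLC.GMod.of 𝒜 (X ⧸ P) (quotGrM 𝒳 P)

end GMods

end Groth.Agent.Helper20.GrInj
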