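import Mathlib
import Groth.Prelude
import Groth.Agent.Lib.Helper20.GA3
import Groth.Agent.Lib.Helper20.GA4
import Groth.Agent.Lib.Helper20.GA6
import Groth.Agent.Lib.Helper20.GrInj2
import Groth.Agent.Lib.Lead.Depth20

/-!
# Depth and dimension of `M_p` versus `M_{p*}` for a module graded by a free abelian group
(helper20)
-/

set_option autoImplicit false

open LocCoh IsLocalRing DirectSum TensorProduct

namespace Groth.Agent.Helper20.GA

universe u

open Groth.Agent.Lead.Depth Groth.Agent.Lead.Fib Groth.Agent.Lead.FibLoc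
  Groth.Agent.Helper20.GrInj

section Congr

variable {R : Type u} [CommRing R] (M : Type u) [AddCommGroup M] [Module R M]

theorem depth_localized_congr {q q' : Ideal R} [hq : q.IsPrime] [hq' : q'.IsPrime] (h : q = q') :
    LocCoh.depth (Localization.AtPrime q) (LocalizedModule q.primeCompl M) =
      LocCoh.depth (Localization.AtPrime q') (LocalizedModule q'.primeCompl M) := by
  subst h
  rfl

theorem supportDim_localized_congr {q q' : Ideal R} [hq : q.IsPrime] [hq' : q'.IsPrime]
    (h : q = q') :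
    Module.supportDim (Localization.AtPrime q) (LocalizedModule q.primeCompl M) =
      Module.supportDim (Localization.AtPrime q') (LocalizedModule q'.primeCompl M) := by
  subst h
  rfl

theorem nontrivial_localized_congr {q q' : Ideal R} [hq : q.IsPrime] [hq' : q'.IsPrime]
    (h : q = q') (hn : Nontrivial (LocalizedModule q.primeCompl M)) :
    Nontrivial (LocalizedModule q'.primeCompl M) := by
  subst h
  exact hn

end Congr

section Quot

variable {R : Type u} [CommRing R] [IsNoetherianRing R]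

/-- the dimension of `(R/I)_s` over `R_s` is the height of `s/I` -/
theorem supportDim_localizedModule_quotient (I s : Ideal R) [I.IsPrime] [s.IsPrime] (h : I ≤ s) :
    Nontrivial (LocalizedModule s.primeCompl (R ⧸ I)) ∧
    Module.supportDim (Localization.AtPrime s) (LocalizedModule s.primeCompl (R ⧸ I)) =
      (((s.map (Ideal.Quotient.mk I)).height : ℕ∞) : WithBot ℕ∞) := by
  haveI hloc : IsLocalization (Algebra.algebraMapSubmonoid (R ⧸ I) s.primeCompl)
      (Localization.AtPrime s ⧸ I.map (algebraMap R (Localization.AtPrime s))) := inferInstance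
  let e : LocalizedModule s.primeCompl (R ⧸ I) ≃ₗ[Localization.AtPrime s]
      (Localization.AtPrime s ⧸ I.map (algebraMap R (Localization.AtPrime s))) :=
    (IsLocalizedModule.linearEquiv s.primeCompl (LocalizedModule.mkLinearMap s.primeCompl (R ⧸ I))
      (IsScalarTower.toAlgHom R (R ⧸ I)
        (Localization.AtPrime s ⧸ I.map (algebraMap R (Localization.AtPrime s)))).toLinearMap
      ).extendScalarsOfIsLocalization s.primeCompl (Localization.AtPrime s)
  have hne : I.map (algebraMap R (Localization.AtPrime s)) ≠ ⊤ := by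
    intro htop
    have h1 : I.map (algebraMap R (Localization.AtPrime s)) ≤
        maximalIdeal (Localization.AtPrime s) := by
      rw [← Localization.AtPrime.map_eq_maximalIdeal]
      exact Ideal.map_mono h
    rw [htop] at h1
    exact (maximalIdeal.isMaximal (Localization.AtPrime s)).ne_top (top_le_iff.mp h1)
  haveI : Nontrivial (Localization.AtPrime s ⧸ I.map (algebraMap R (Localization.AtPrime s))) :=
    Ideal.Quotient.nontrivial_iff.2 hne
  refine ⟨e.toEquiv.nontrivial, ?_⟩
  rw [Module.supportDim_eq_of_equiv e, Module.supportDim_quotient_eq_ringKrullDim,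
    ringKrullDim_localization_quotient_map I s h]

end Quot

section Core

variable {ι : Type} [AddCommGroup ι] [DecidableEq ι] [Module.Free ℤ ι] [Module.Finite ℤ ι]
variable {R : Type u} [CommRing R] [IsNoetherianRing R] (𝒜 : ι → AddSubgroup R) [GradedRing 𝒜]
variable {M : Type u} [AddCommGroup M] [Module R M] [Module.Finite R M]
variable (p : Ideal R) [p.IsPrime] [hc : (p.homogeneousCore 𝒜).toIdeal.IsPrime]
  [hP : (p.map (algebraMap R (AddMonoidAlgebra R ι))).IsPrime]
  [hP' : ((p.map (algebraMap R (AddMonoidAlgebra R ι))).comap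
    (phiEquiv 𝒜 : AddMonoidAlgebra R ι →+* AddMonoidAlgebra R ι)).IsPrime]

/-- the depth formula with the fibre term -/
theorem depth_core (ℳ : ι → AddSubgroup M) [DirectSum.Decomposition ℳ]
    [SetLike.GradedSMul 𝒜 ℳ] :
    LocCoh.depth (Localization.AtPrime p) (LocalizedModule p.primeCompl M) =
      LocCoh.depth (Localization.AtPrime (p.homogeneousCore 𝒜).toIdeal)
        (LocalizedModule (p.homogeneousCore 𝒜).toIdeal.primeCompl M) +
      LocCoh.depth (Localization.AtPrime ((p.map (algebraMap R (AddMonoidAlgebra R ι))).comap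
          (phiEquiv 𝒜 : AddMonoidAlgebra R ι →+* AddMonoidAlgebra R ι)))
        (EGA4.FibLocMod R (AddMonoidAlgebra R ι)
          ((p.map (algebraMap R (AddMonoidAlgebra R ι))).comap
            (phiEquiv 𝒜 : AddMonoidAlgebra R ι →+* AddMonoidAlgebra R ι))
          (AddMonoidAlgebra R ι)) := by
  haveI := isNoetherianRing_addMonoidAlgebra R ι
  have hc1 : (p.map (algebraMap R (AddMonoidAlgebra R ι))).comap
      (algebraMap R (AddMonoidAlgebra R ι)) = p := comap_map_algebraMap p
  have hc2 := comap_phiEquiv_comap 𝒜 p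
  obtain ⟨h1, -⟩ := depth_dim_tensor R (AddMonoidAlgebra R ι)
    (p.map (algebraMap R (AddMonoidAlgebra R ι))) M (AddMonoidAlgebra R ι)
  obtain ⟨h2, -⟩ := depth_dim_tensor R (AddMonoidAlgebra R ι)
    ((p.map (algebraMap R (AddMonoidAlgebra R ι))).comap
      (phiEquiv 𝒜 : AddMonoidAlgebra R ι →+* AddMonoidAlgebra R ι)) M (AddMonoidAlgebra R ι)
  obtain ⟨h3, -⟩ := depth_supportDim_transport (phiEquiv 𝒜) (psiEquiv 𝒜 ℳ) (psiEquiv_smul 𝒜 ℳ)
    ((p.map (algebraMap R (AddMonoidAlgebra R ι))).comap
      (phiEquiv 𝒜 : AddMonoidAlgebra R ι →+* AddMonoidAlgebra R ι))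
    (p.map (algebraMap R (AddMonoidAlgebra R ι))) rfl
  have h4 := (fibLocMod_of_eq_map R (AddMonoidAlgebra R ι)
    (p.map (algebraMap R (AddMonoidAlgebra R ι))) (by rw [hc1])).1
  rw [h4, add_zero, depth_localized_congr M hc1] at h1
  rw [depth_localized_congr M hc2] at h2
  rw [← h1, ← h3, h2]

/-- the dimension formula with the fibre term -/
theorem dim_core (ℳ : ι → AddSubgroup M) [DirectSum.Decomposition ℳ]
    [SetLike.GradedSMul 𝒜 ℳ] (hnt : Nontrivial (LocalizedModule p.primeCompl M))
    (hnt' : Nontrivial (LocalizedModule (p.homogeneousCore 𝒜).toIdeal.primeCompl M)) :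
    Module.supportDim (Localization.AtPrime p) (LocalizedModule p.primeCompl M) =
      Module.supportDim (Localization.AtPrime (p.homogeneousCore 𝒜).toIdeal)
        (LocalizedModule (p.homogeneousCore 𝒜).toIdeal.primeCompl M) +
      Module.supportDim (Localization.AtPrime ((p.map (algebraMap R (AddMonoidAlgebra R ι))).comap
          (phiEquiv 𝒜 : AddMonoidAlgebra R ι →+* AddMonoidAlgebra R ι)))
        (EGA4.FibLocMod R (AddMonoidAlgebra R ι)
          ((p.map (algebraMap R (AddMonoidAlgebra R ι))).comap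
            (phiEquiv 𝒜 : AddMonoidAlgebra R ι →+* AddMonoidAlgebra R ι))
          (AddMonoidAlgebra R ι)) := by
  haveI := isNoetherianRing_addMonoidAlgebra R ι
  have hc1 : (p.map (algebraMap R (AddMonoidAlgebra R ι))).comap
      (algebraMap R (AddMonoidAlgebra R ι)) = p := comap_map_algebraMap p
  have hc2 := comap_phiEquiv_comap 𝒜 p
  obtain ⟨-, h1⟩ := depth_dim_tensor R (AddMonoidAlgebra R ι)
    (p.map (algebraMap R (AddMonoidAlgebra R ι))) M (AddMonoidAlgebra R ι)
  obtain ⟨-, h2⟩ := depth_dim_tensor R (AddMonoidAlgebra R ι)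
    ((p.map (algebraMap R (AddMonoidAlgebra R ι))).comap
      (phiEquiv 𝒜 : AddMonoidAlgebra R ι →+* AddMonoidAlgebra R ι)) M (AddMonoidAlgebra R ι)
  obtain ⟨-, h3⟩ := depth_supportDim_transport (phiEquiv 𝒜) (psiEquiv 𝒜 ℳ) (psiEquiv_smul 𝒜 ℳ)
    ((p.map (algebraMap R (AddMonoidAlgebra R ι))).comap
      (phiEquiv 𝒜 : AddMonoidAlgebra R ι →+* AddMonoidAlgebra R ι))
    (p.map (algebraMap R (AddMonoidAlgebra R ι))) rfl
  have h4 := (fibLocMod_of_eq_map R (AddMonoidAlgebra R ι)
    (p.map (algebraMap R (AddMonoidAlgebra R ι))) (by rw [hc1])).2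
  have h1' := h1 (nontrivial_localized_congr M hc1.symm hnt)
  have h2' := h2 (nontrivial_localized_congr M hc2.symm hnt')
  rw [h4, add_zero, supportDim_localized_congr M hc1] at h1'
  rw [supportDim_localized_congr M hc2] at h2'
  rw [← h1', ← h3, h2']

end Core

section Final

variable {ι : Type} [AddCommGroup ι] [DecidableEq ι] [Module.Free ℤ ι] [Module.Finite ℤ ι]
variable (R : Type u) [CommRing R] [IsNoetherianRing R] (𝒜 : ι → AddSubgroup R) [GradedRing 𝒜]
variable (p : Ideal R) [p.IsPrime] [hc : (p.homogeneousCore 𝒜).toIdeal.IsPrime]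
  [hP : (p.map (algebraMap R (AddMonoidAlgebra R ι))).IsPrime]
  [hP' : ((p.map (algebraMap R (AddMonoidAlgebra R ι))).comap
    (phiEquiv 𝒜 : AddMonoidAlgebra R ι →+* AddMonoidAlgebra R ι)).IsPrime]

/-- the fibre term is `ht (p/p*)` -/
theorem fibre_term (d : ℕ)
    (hd : (p.map (Ideal.Quotient.mk (p.homogeneousCore 𝒜).toIdeal)).height = d) :
    LocCoh.depth (Localization.AtPrime ((p.map (algebraMap R (AddMonoidAlgebra R ι))).comap
          (phiEquiv 𝒜 : AddMonoidAlgebra R ι →+* AddMonoidAlgebra R ι)))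
        (EGA4.FibLocMod R (AddMonoidAlgebra R ι)
          ((p.map (algebraMap R (AddMonoidAlgebra R ι))).comap
            (phiEquiv 𝒜 : AddMonoidAlgebra R ι →+* AddMonoidAlgebra R ι))
          (AddMonoidAlgebra R ι)) = d ∧
    Module.supportDim (Localization.AtPrime ((p.map (algebraMap R (AddMonoidAlgebra R ι))).comap
          (phiEquiv 𝒜 : AddMonoidAlgebra R ι →+* AddMonoidAlgebra R ι)))
        (EGA4.FibLocMod R (AddMonoidAlgebra R ι)
          ((p.map (algebraMap R (AddMonoidAlgebra R ι))).comap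
            (phiEquiv 𝒜 : AddMonoidAlgebra R ι →+* AddMonoidAlgebra R ι))
          (AddMonoidAlgebra R ι)) = (d : WithBot ℕ∞) := by
  have hI : ((p.homogeneousCore 𝒜).toIdeal : Submodule R R).IsHomogeneous 𝒜 :=
    (p.homogeneousCore 𝒜).isHomogeneous
  letI decD := (quotGrM_isInternal 𝒜 (p.homogeneousCore 𝒜).toIdeal hI).chooseDecomposition
  letI smD := quotGrM_gradedSMul 𝒜 𝒜 (p.homogeneousCore 𝒜).toIdeal
  obtain ⟨hntp, hdimp⟩ := supportDim_localizedModule_quotient (p.homogeneousCore 𝒜).toIdeal p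
    (Ideal.toIdeal_homogeneousCore_le 𝒜 p)
  obtain ⟨hntI, hdimI⟩ := supportDim_localizedModule_quotient (p.homogeneousCore 𝒜).toIdeal
    (p.homogeneousCore 𝒜).toIdeal le_rfl
  have hdim := dim_core 𝒜 (M := R ⧸ (p.homogeneousCore 𝒜).toIdeal) p
    (quotGrM 𝒜 (p.homogeneousCore 𝒜).toIdeal) hntp hntI
  rw [hdimp, hdimI, Ideal.map_quotient_self, Ideal.height_bot, hd] at hdim
  have hcm := fibLocMod_cm R ι ((p.map (algebraMap R (AddMonoidAlgebra R ι))).comap
    (phiEquiv 𝒜 : AddMonoidAlgebra R ι →+* AddMonoidAlgebra R ι))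
  have h0 : (((0 : ℕ∞) : WithBot ℕ∞)) = 0 := rfl
  rw [h0, zero_add] at hdim
  refine ⟨?_, hdim.symm⟩
  rw [← hcm] at hdim
  have : ((d : ℕ∞) : WithBot ℕ∞) = ((LocCoh.depth (Localization.AtPrime
      ((p.map (algebraMap R (AddMonoidAlgebra R ι))).comap
        (phiEquiv 𝒜 : AddMonoidAlgebra R ι →+* AddMonoidAlgebra R ι)))
      (EGA4.FibLocMod R (AddMonoidAlgebra R ι)
        ((p.map (algebraMap R (AddMonoidAlgebra R ι))).comap
          (phiEquiv 𝒜 : AddMonoidAlgebra R ι →+* AddMonoidAlgebra R ι))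
        (AddMonoidAlgebra R ι)) : ℕ∞) : WithBot ℕ∞) := hdim
  exact (WithBot.coe_injective this).symm

end Final

section Statements

variable {ι : Type} [AddCommGroup ι] [DecidableEq ι] [Module.Free ℤ ι] [Module.Finite ℤ ι]
variable (R : Type u) [CommRing R] [IsNoetherianRing R] (𝒜 : ι → AddSubgroup R) [GradedRing 𝒜]
variable (M : Type u) [AddCommGroup M] [Module R M] [Module.Finite R M]
variable (p : Ideal R) [p.IsPrime] [hc : (p.homogeneousCore 𝒜).toIdeal.IsPrime]

/-- **`depth M_p = depth M_{p*} + ht (p/p*)`** -/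
theorem depth_eq_depth_core_add (ℳ : ι → AddSubgroup M)
    [DirectSum.Decomposition ℳ] [SetLike.GradedSMul 𝒜 ℳ] (d : ℕ)
    (hd : (p.map (Ideal.Quotient.mk (p.homogeneousCore 𝒜).toIdeal)).height = d) :
    LocCoh.depth (Localization.AtPrime p) (LocalizedModule p.primeCompl M) =
      LocCoh.depth (Localization.AtPrime (p.homogeneousCore 𝒜).toIdeal)
        (LocalizedModule (p.homogeneousCore 𝒜).toIdeal.primeCompl M) + d := by
  haveI := uniqueSums ι
  haveI hP : (p.map (algebraMap R (AddMonoidAlgebra R ι))).IsPrime := isPrime_map_algebraMap p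
  haveI hP' : ((p.map (algebraMap R (AddMonoidAlgebra R ι))).comap
      (phiEquiv 𝒜 : AddMonoidAlgebra R ι →+* AddMonoidAlgebra R ι)).IsPrime :=
    Ideal.comap_isPrime _ _
  rw [depth_core 𝒜 p ℳ, (fibre_term R 𝒜 p d hd).1]

/-- **`dim M_p = dim M_{p*} + ht (p/p*)`** for `p` in the support of `M` -/
theorem supportDim_eq_supportDim_core_add (ℳ : ι → AddSubgroup M)
    [DirectSum.Decomposition ℳ] [SetLike.GradedSMul 𝒜 ℳ] (d : ℕ)
    (hd : (p.map (Ideal.Quotient.mk (p.homogeneousCore 𝒜).toIdeal)).height = d)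
    (hsupp : Nontrivial (LocalizedModule p.primeCompl M)) :
    Module.supportDim (Localization.AtPrime p) (LocalizedModule p.primeCompl M) =
      Module.supportDim (Localization.AtPrime (p.homogeneousCore 𝒜).toIdeal)
        (LocalizedModule (p.homogeneousCore 𝒜).toIdeal.primeCompl M) + (d : WithBot ℕ∞) := by
  haveI := uniqueSums ι
  haveI hP : (p.map (algebraMap R (AddMonoidAlgebra R ι))).IsPrime := isPrime_map_algebraMap p
  haveI hP' : ((p.map (algebraMap R (AddMonoidAlgebra R ι))).comap
      (phiEquiv 𝒜 : AddMonoidAlgebra R ι →+* AddMonoidAlgebra R ι)).IsPrime :=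
    Ideal.comap_isPrime _ _
  have hnt' : Nontrivial (LocalizedModule (p.homogeneousCore 𝒜).toIdeal.primeCompl M) := by
    by_contra hcon
    rw [not_nontrivial_iff_subsingleton] at hcon
    have h1 := depth_eq_depth_core_add R 𝒜 M p ℳ d hd
    rw [depth_eq_top_of_subsingleton (R := Localization.AtPrime (p.homogeneousCore 𝒜).toIdeal)
      (LocalizedModule (p.homogeneousCore 𝒜).toIdeal.primeCompl M), top_add] at h1
    haveI : Module.Finite (Localization.AtPrime p) (LocalizedModule p.primeCompl M) :=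
      Module.Finite.of_isLocalizedModule p.primeCompl (LocalizedModule.mkLinearMap p.primeCompl M)
    exact depth_ne_top (R := Localization.AtPrime p) (LocalizedModule p.primeCompl M) h1
  rw [dim_core 𝒜 p ℳ hsupp hnt', (fibre_term R 𝒜 p d hd).2]

end Statements

end Groth.Agent.Helper20.GA
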