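import Mathlib

open DirectSum

namespace Groth.Agent.Helper20.GrInj

universe u

section Coact

variable {R : Type u} [CommRing R] (𝒜 : ℤ → AddSubgroup R) [GradedRing 𝒜]
variable {S : Type u} [CommRing S] (φ : R →+* S)

/-- the "coaction" `g ↦ ∑ φ(g_i) T^i` into the Laurent polynomial ring over `S`. -/
noncomputable def coactAux : (⨁ i, 𝒜 i) →+* AddMonoidAlgebra S ℤ :=
  DirectSum.toSemiring
    (fun i => (AddMonoidAlgebra.singleAddHom i).comp (φ.toAddMonoidHom.comp (𝒜 i).subtype))
    (by
      change AddMonoidAlgebra.single (0 : ℤ) (φ ((1 : R))) = 1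
      rw [map_one]; rfl)
    (by
      intro i j ai aj
      change AddMonoidAlgebra.single (i + j) (φ ((ai : R) * (aj : R))) =
        AddMonoidAlgebra.single i (φ ai) * AddMonoidAlgebra.single j (φ aj)
      rw [AddMonoidAlgebra.single_mul_single, map_mul])

noncomputable def coact : R →+* AddMonoidAlgebra S ℤ :=
  (coactAux 𝒜 φ).comp (DirectSum.decomposeRingEquiv 𝒜).toRingHom

theorem coact_of_mem {i : ℤ} {r : R} (hr : r ∈ 𝒜 i) :
    coact 𝒜 φ r = AddMonoidAlgebra.single i (φ r) := by
  unfold coact coactAux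
  simp only [RingEquiv.toRingHom_eq_coe, RingHom.coe_comp, RingHom.coe_coe, Function.comp_apply]
  rw [show (DirectSum.decomposeRingEquiv 𝒜) r = DirectSum.decompose 𝒜 r from rfl,
    DirectSum.decompose_of_mem 𝒜 hr, DirectSum.toSemiring_of]
  rfl

theorem coact_coeff (g : R) (i : ℤ) :
    (coact 𝒜 φ g).coeff i = φ (DirectSum.decompose 𝒜 g i : R) := by
  classical
  induction g using DirectSum.Decomposition.inductionOn 𝒜 with
  | zero => simp
  | @homogeneous j m =>
    rw [coact_of_mem 𝒜 φ m.2, DirectSum.decompose_coe, AddMonoidAlgebra.coeff_single]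
    by_cases hij : j = i
    · subst hij; simp
    · rw [Finsupp.single_eq_of_ne' hij, DirectSum.of_eq_of_ne _ _ _ (Ne.symm hij)]
      simp
  | add a b ha hb =>
    rw [map_add, AddMonoidAlgebra.coeff_add, Finsupp.add_apply, ha, hb, DirectSum.decompose_add,
      DirectSum.add_apply, AddSubgroup.coe_add, map_add]

end Coact


section Deg

variable {S : Type u} [CommRing S]

theorem coeff_mul_top (x y : AddMonoidAlgebra S ℤ) (a b : ℤ)
    (hx : ∀ i, a < i → x.coeff i = 0) (hy : ∀ j, b < j → y.coeff j = 0) :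
    (x * y).coeff (a + b) = x.coeff a * y.coeff b ∧ ∀ n, a + b < n → (x * y).coeff n = 0 := by
  classical
  have hxs : ∀ i ∈ x.coeff.support, i ≤ a := fun i hi => by
    by_contra h; exact (Finsupp.mem_support_iff.1 hi) (hx i (not_le.1 h))
  have hys : ∀ j ∈ y.coeff.support, j ≤ b := fun j hj => by
    by_contra h; exact (Finsupp.mem_support_iff.1 hj) (hy j (not_le.1 h))
  constructor
  · rw [AddMonoidAlgebra.coeff_mul]
    unfold Finsupp.sum
    have h1 : ∀ i ∈ x.coeff.support, (∑ j ∈ y.coeff.support,
        if i + j = a + b then x.coeff i * y.coeff j else 0) =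
        if i = a then x.coeff a * y.coeff b else 0 := by
      intro i hi
      by_cases hia : i = a
      · subst hia
        rw [if_pos rfl]
        have : ∀ j ∈ y.coeff.support, (if i + j = i + b then x.coeff i * y.coeff j else 0) =
            if j = b then x.coeff i * y.coeff b else 0 := by
          intro j _
          by_cases hjb : j = b
          · subst hjb; simp
          · rw [if_neg hjb, if_neg (by omega)]
        rw [Finset.sum_congr rfl this, Finset.sum_ite_eq']
        split_ifs with hb
        · rfl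
        · rw [Finsupp.notMem_support_iff.1 hb, mul_zero]
      · rw [if_neg hia]
        refine Finset.sum_eq_zero fun j hj => ?_
        have h1 := hxs i hi
        have h2 := hys j hj
        rw [if_neg (by omega)]
    rw [Finset.sum_congr rfl h1, Finset.sum_ite_eq']
    split_ifs with ha
    · rfl
    · rw [Finsupp.notMem_support_iff.1 ha, zero_mul]
  · intro n hn
    rw [AddMonoidAlgebra.coeff_mul]
    unfold Finsupp.sum
    refine Finset.sum_eq_zero fun i hi => Finset.sum_eq_zero fun j hj => ?_
    have h1 := hxs i hi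
    have h2 := hys j hj
    show (if i + j = n then x.coeff i * y.coeff j else 0) = 0
    rw [if_neg (by omega)]

theorem coeff_mul_bot (x y : AddMonoidAlgebra S ℤ) (a b : ℤ)
    (hx : ∀ i, i < a → x.coeff i = 0) (hy : ∀ j, j < b → y.coeff j = 0) :
    (x * y).coeff (a + b) = x.coeff a * y.coeff b ∧ ∀ n, n < a + b → (x * y).coeff n = 0 := by
  have key := coeff_mul_top (LaurentPolynomial.invert x) (LaurentPolynomial.invert y) (-a) (-b)
    (fun i hi => by rw [LaurentPolynomial.invert_apply]; exact hx _ (by omega))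
    (fun j hj => by rw [LaurentPolynomial.invert_apply]; exact hy _ (by omega))
  rw [← map_mul] at key
  constructor
  · have := key.1
    rw [LaurentPolynomial.invert_apply, LaurentPolynomial.invert_apply,
      LaurentPolynomial.invert_apply] at this
    rw [show -(-a + -b) = a + b by ring, neg_neg, neg_neg] at this
    exact this
  · intro n hn
    have := key.2 (-n) (by omega)
    rw [LaurentPolynomial.invert_apply] at this
    simpa using this

/-- top degree (junk value `0` at `0`) -/
noncomputable def topD (x : AddMonoidAlgebra S ℤ) : ℤ :=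
  if h : x.coeff.support.Nonempty then x.coeff.support.max' h else 0

/-- bottom degree (junk value `0` at `0`) -/
noncomputable def botD (x : AddMonoidAlgebra S ℤ) : ℤ :=
  if h : x.coeff.support.Nonempty then x.coeff.support.min' h else 0

/-- width -/
noncomputable def wd (x : AddMonoidAlgebra S ℤ) : ℕ := (topD x - botD x).toNat

theorem support_nonempty {x : AddMonoidAlgebra S ℤ} (hx : x ≠ 0) : x.coeff.support.Nonempty := by
  rw [Finsupp.support_nonempty_iff]
  intro h
  exact hx (AddMonoidAlgebra.coeff_injective (by simpa using h))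

theorem coeff_topD_ne_zero {x : AddMonoidAlgebra S ℤ} (hx : x ≠ 0) : x.coeff (topD x) ≠ 0 := by
  have h := support_nonempty hx
  rw [topD, dif_pos h]
  exact Finsupp.mem_support_iff.1 (Finset.max'_mem _ h)

theorem coeff_botD_ne_zero {x : AddMonoidAlgebra S ℤ} (hx : x ≠ 0) : x.coeff (botD x) ≠ 0 := by
  have h := support_nonempty hx
  rw [botD, dif_pos h]
  exact Finsupp.mem_support_iff.1 (Finset.min'_mem _ h)

theorem le_topD {x : AddMonoidAlgebra S ℤ} {i : ℤ} (hi : x.coeff i ≠ 0) : i ≤ topD x := by
  have h : x.coeff.support.Nonempty := ⟨i, Finsupp.mem_support_iff.2 hi⟩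
  rw [topD, dif_pos h]
  exact Finset.le_max' _ _ (Finsupp.mem_support_iff.2 hi)

theorem botD_le {x : AddMonoidAlgebra S ℤ} {i : ℤ} (hi : x.coeff i ≠ 0) : botD x ≤ i := by
  have h : x.coeff.support.Nonempty := ⟨i, Finsupp.mem_support_iff.2 hi⟩
  rw [botD, dif_pos h]
  exact Finset.min'_le _ _ (Finsupp.mem_support_iff.2 hi)

theorem coeff_eq_zero_of_topD_lt {x : AddMonoidAlgebra S ℤ} {i : ℤ} (hi : topD x < i) :
    x.coeff i = 0 := by
  by_contra h
  exact absurd (le_topD h) (not_le.2 hi)

theorem coeff_eq_zero_of_lt_botD {x : AddMonoidAlgebra S ℤ} {i : ℤ} (hi : i < botD x) :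
    x.coeff i = 0 := by
  by_contra h
  exact absurd (botD_le h) (not_le.2 hi)

theorem botD_le_topD (x : AddMonoidAlgebra S ℤ) : botD x ≤ topD x := by
  by_cases hx : x = 0
  · subst hx; simp [botD, topD]
  · exact botD_le (coeff_topD_ne_zero hx)

theorem topD_eq {x : AddMonoidAlgebra S ℤ} {a : ℤ} (h1 : x.coeff a ≠ 0)
    (h2 : ∀ i, a < i → x.coeff i = 0) : topD x = a := by
  refine le_antisymm ?_ (le_topD h1)
  by_contra h
  have hx : x ≠ 0 := by rintro rfl; simp at h1
  exact coeff_topD_ne_zero hx (h2 _ (not_le.1 h))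

theorem botD_eq {x : AddMonoidAlgebra S ℤ} {a : ℤ} (h1 : x.coeff a ≠ 0)
    (h2 : ∀ i, i < a → x.coeff i = 0) : botD x = a := by
  refine le_antisymm (botD_le h1) ?_
  by_contra h
  have hx : x ≠ 0 := by rintro rfl; simp at h1
  exact coeff_botD_ne_zero hx (h2 _ (not_le.1 h))

theorem wd_cast (x : AddMonoidAlgebra S ℤ) : ((wd x : ℕ) : ℤ) = topD x - botD x := by
  rw [wd, Int.toNat_of_nonneg (sub_nonneg.2 (botD_le_topD x))]

theorem topD_mul [NoZeroDivisors S] {x y : AddMonoidAlgebra S ℤ} (hx : x ≠ 0) (hy : y ≠ 0) :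
    topD (x * y) = topD x + topD y := by
  have h := coeff_mul_top x y (topD x) (topD y) (fun i hi => coeff_eq_zero_of_topD_lt hi)
    (fun j hj => coeff_eq_zero_of_topD_lt hj)
  exact topD_eq (by rw [h.1]; exact mul_ne_zero (coeff_topD_ne_zero hx) (coeff_topD_ne_zero hy)) h.2

theorem botD_mul [NoZeroDivisors S] {x y : AddMonoidAlgebra S ℤ} (hx : x ≠ 0) (hy : y ≠ 0) :
    botD (x * y) = botD x + botD y := by
  have h := coeff_mul_bot x y (botD x) (botD y) (fun i hi => coeff_eq_zero_of_lt_botD hi)
    (fun j hj => coeff_eq_zero_of_lt_botD hj)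
  exact botD_eq (by rw [h.1]; exact mul_ne_zero (coeff_botD_ne_zero hx) (coeff_botD_ne_zero hy)) h.2

theorem mul_ne_zero' [NoZeroDivisors S] {x y : AddMonoidAlgebra S ℤ} (hx : x ≠ 0) (hy : y ≠ 0) :
    x * y ≠ 0 := by
  have h := coeff_mul_top x y (topD x) (topD y) (fun i hi => coeff_eq_zero_of_topD_lt hi)
    (fun j hj => coeff_eq_zero_of_topD_lt hj)
  intro h0
  rw [h0] at h
  exact mul_ne_zero (coeff_topD_ne_zero hx) (coeff_topD_ne_zero hy) (by rw [← h.1]; simp)

theorem wd_mul [NoZeroDivisors S] {x y : AddMonoidAlgebra S ℤ} (hx : x ≠ 0) (hy : y ≠ 0) :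
    wd (x * y) = wd x + wd y := by
  have h1 := wd_cast (x * y)
  have h2 := wd_cast x
  have h3 := wd_cast y
  rw [topD_mul hx hy, botD_mul hx hy] at h1
  omega

theorem topD_single {a : ℤ} {s : S} (hs : s ≠ 0) : topD (AddMonoidAlgebra.single a s) = a := by
  classical
  refine topD_eq ?_ ?_
  · rw [AddMonoidAlgebra.coeff_single, Finsupp.single_eq_same]; exact hs
  · intro i hi
    rw [AddMonoidAlgebra.coeff_single, Finsupp.single_eq_of_ne (by omega)]

theorem botD_single {a : ℤ} {s : S} (hs : s ≠ 0) : botD (AddMonoidAlgebra.single a s) = a := by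
  classical
  refine botD_eq ?_ ?_
  · rw [AddMonoidAlgebra.coeff_single, Finsupp.single_eq_same]; exact hs
  · intro i hi
    rw [AddMonoidAlgebra.coeff_single, Finsupp.single_eq_of_ne (by omega)]

theorem wd_single {a : ℤ} {s : S} (hs : s ≠ 0) : wd (AddMonoidAlgebra.single a s) = 0 := by
  rw [wd, topD_single hs, botD_single hs]; simp

theorem single_ne_zero {a : ℤ} {s : S} (hs : s ≠ 0) : AddMonoidAlgebra.single a s ≠ 0 := by
  intro h
  have := congrArg (fun z => z.coeff a) h
  simp only [AddMonoidAlgebra.coeff_single, Finsupp.single_eq_same] at this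
  exact hs (by simpa using this)

end Deg

end Groth.Agent.Helper20.GrInj
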