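import Mathlib
import Groth.Agent.Lib.Helper20.GrHt1

/-!
# No prime lies strictly between `p*` and `p` (ℤ-graded rings)  (helper20)
-/

open DirectSum

namespace Groth.Agent.Helper20.GrInj

universe u

section Width

variable {R : Type u} [CommRing R] (𝒜 : ℤ → AddSubgroup R) [GradedRing 𝒜]
variable (P₀ : Ideal R)

/-- `g ↦ ∑ (g_i mod P₀) T^i` -/
noncomputable abbrev Psi : R →+* AddMonoidAlgebra (R ⧸ P₀) ℤ := coact 𝒜 (Ideal.Quotient.mk P₀)

variable {𝒜 P₀}

theorem Psi_eq_zero_iff (hP₀ : P₀.IsHomogeneous 𝒜) (g : R) : Psi 𝒜 P₀ g = 0 ↔ g ∈ P₀ := by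
  constructor
  · intro h
    rw [hP₀.mem_iff]
    intro i
    have := congrArg (fun z => z.coeff i) h
    simp only [coact_coeff, AddMonoidAlgebra.coeff_zero, Finsupp.coe_zero, Pi.zero_apply] at this
    exact Ideal.Quotient.eq_zero_iff_mem.1 this
  · intro h
    apply AddMonoidAlgebra.coeff_injective
    ext i
    rw [coact_coeff]
    simp only [AddMonoidAlgebra.coeff_zero, Finsupp.coe_zero, Pi.zero_apply]
    exact Ideal.Quotient.eq_zero_iff_mem.2 (hP₀.mem_iff.1 h i)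

theorem Psi_of_mem {i : ℤ} {s : R} (hs : s ∈ 𝒜 i) :
    Psi 𝒜 P₀ s = AddMonoidAlgebra.single i (Ideal.Quotient.mk P₀ s) := coact_of_mem 𝒜 _ hs

theorem Psi_decompose (g : R) (a : ℤ) :
    Psi 𝒜 P₀ (decompose 𝒜 g a : R) = AddMonoidAlgebra.single a ((Psi 𝒜 P₀ g).coeff a) := by
  rw [Psi_of_mem (decompose 𝒜 g a).2, coact_coeff]

theorem decompose_topD_notMem (hP₀ : P₀.IsHomogeneous 𝒜) {g : R} (hg : g ∉ P₀) :
    (decompose 𝒜 g (topD (Psi 𝒜 P₀ g)) : R) ∉ P₀ := by
  intro h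
  have h1 : Psi 𝒜 P₀ g ≠ 0 := fun h0 => hg ((Psi_eq_zero_iff hP₀ g).1 h0)
  have h2 := coeff_topD_ne_zero h1
  rw [coact_coeff] at h2
  exact h2 (Ideal.Quotient.eq_zero_iff_mem.2 h)

/-- the key "division" lemma: a prime-like ideal `P` whose elements outside `P₀` have width at
least that of `f ∈ P` is, up to homogeneous multipliers, generated by `f` modulo `P₀`. -/
theorem exists_homog_mul_mem (hP₀ : P₀.IsHomogeneous 𝒜) [hpr : P₀.IsPrime] (P : Ideal R)
    {f : R} (hfP : f ∈ P) (hf0 : f ∉ P₀)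
    (hmin : ∀ g ∈ P, g ∉ P₀ → wd (Psi 𝒜 P₀ f) ≤ wd (Psi 𝒜 P₀ g)) :
    ∀ g ∈ P, ∃ (i : ℤ) (s : R), s ∈ 𝒜 i ∧ s ∉ P₀ ∧ s * g ∈ Ideal.span {f} ⊔ P₀ := by
  intro g
  induction hn : wd (Psi 𝒜 P₀ g) using Nat.strong_induction_on generalizing g with
  | _ n ih =>
    intro hgP
    by_cases hg0 : g ∈ P₀
    · exact ⟨0, 1, SetLike.GradedOne.one_mem, fun h => hpr.ne_top ((Ideal.eq_top_iff_one _).2 h),
        by rw [one_mul]; exact Ideal.mem_sup_right hg0⟩
    set X := Psi 𝒜 P₀ f with hX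
    set Y := Psi 𝒜 P₀ g with hY
    have hX0 : X ≠ 0 := fun h0 => hf0 ((Psi_eq_zero_iff hP₀ f).1 h0)
    have hY0 : Y ≠ 0 := fun h0 => hg0 ((Psi_eq_zero_iff hP₀ g).1 h0)
    set a := topD X with ha
    set b := topD Y with hb
    set fa : R := (decompose 𝒜 f a : R) with hfa
    set gb : R := (decompose 𝒜 g b : R) with hgb
    have hfa0 : fa ∉ P₀ := decompose_topD_notMem hP₀ hf0
    have hPfa : Psi 𝒜 P₀ fa = AddMonoidAlgebra.single a (X.coeff a) := Psi_decompose f a
    have hPgb : Psi 𝒜 P₀ gb = AddMonoidAlgebra.single b (Y.coeff b) := Psi_decompose g b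
    set g' : R := fa * g - gb * f with hg'
    have hg'P : g' ∈ P := P.sub_mem (P.mul_mem_left _ hgP) (P.mul_mem_left _ hfP)
    by_cases hg'0 : g' ∈ P₀
    · refine ⟨a, fa, (decompose 𝒜 f a).2, hfa0, ?_⟩
      have : fa * g = gb * f + g' := by rw [hg']; ring
      rw [this]
      exact Ideal.add_mem _ (Ideal.mem_sup_left (Ideal.mul_mem_left _ _
        (Ideal.mem_span_singleton_self f))) (Ideal.mem_sup_right hg'0)
    · set Z := Psi 𝒜 P₀ g' with hZ
      have hZ0 : Z ≠ 0 := fun h0 => hg'0 ((Psi_eq_zero_iff hP₀ g').1 h0)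
      have hZeq : Z = AddMonoidAlgebra.single a (X.coeff a) * Y -
          AddMonoidAlgebra.single b (Y.coeff b) * X := by
        rw [hZ, hg', map_sub, map_mul, map_mul, hPfa, hPgb]
      have hXa : X.coeff a ≠ 0 := coeff_topD_ne_zero hX0
      have hYb : Y.coeff b ≠ 0 := coeff_topD_ne_zero hY0
      -- tops
      have t1 := coeff_mul_top (AddMonoidAlgebra.single a (X.coeff a)) Y a b
        (fun i hi => by
          have := topD_single (a := a) hXa
          exact coeff_eq_zero_of_topD_lt (by rw [this]; exact hi))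
        (fun j hj => coeff_eq_zero_of_topD_lt hj)
      have t2 := coeff_mul_top (AddMonoidAlgebra.single b (Y.coeff b)) X b a
        (fun i hi => by
          have := topD_single (a := b) hYb
          exact coeff_eq_zero_of_topD_lt (by rw [this]; exact hi))
        (fun j hj => coeff_eq_zero_of_topD_lt hj)
      have htop : ∀ i, a + b ≤ i → Z.coeff i = 0 := by
        intro i hi
        rw [hZeq, AddMonoidAlgebra.coeff_sub, Finsupp.sub_apply]
        rcases eq_or_lt_of_le hi with h | h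
        · rw [← h, t1.1]
          have := t2.1
          rw [add_comm b a] at this
          rw [this]
          simp only [AddMonoidAlgebra.coeff_single, Finsupp.single_eq_same]
          rw [mul_comm, sub_self]
        · rw [t1.2 i h, t2.2 i (by omega), sub_zero]
      have htopZ : topD Z < a + b := by
        by_contra h
        exact coeff_topD_ne_zero hZ0 (htop _ (not_lt.1 h))
      -- bottoms
      have b1 := coeff_mul_bot (AddMonoidAlgebra.single a (X.coeff a)) Y a (botD Y)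
        (fun i hi => by
          have := botD_single (a := a) hXa
          exact coeff_eq_zero_of_lt_botD (by rw [this]; exact hi))
        (fun j hj => coeff_eq_zero_of_lt_botD hj)
      have b2 := coeff_mul_bot (AddMonoidAlgebra.single b (Y.coeff b)) X b (botD X)
        (fun i hi => by
          have := botD_single (a := b) hYb
          exact coeff_eq_zero_of_lt_botD (by rw [this]; exact hi))
        (fun j hj => coeff_eq_zero_of_lt_botD hj)
      have hw : wd X ≤ wd Y := hmin g hgP hg0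
      have hwX := wd_cast X
      have hwY := wd_cast Y
      have hbot : ∀ i, i < a + botD Y → Z.coeff i = 0 := by
        intro i hi
        rw [hZeq, AddMonoidAlgebra.coeff_sub, Finsupp.sub_apply, b1.2 i hi,
          b2.2 i (by omega), sub_zero]
      have hbotZ : a + botD Y ≤ botD Z := by
        by_contra h
        exact coeff_botD_ne_zero hZ0 (hbot _ (not_le.1 h))
      have hwZ := wd_cast Z
      have hlt : wd Z < n := by
        rw [← hn]
        omega
      obtain ⟨i', s', hs', hs'0, hmem⟩ := ih (wd Z) hlt g' rfl hg'P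
      refine ⟨i' + a, s' * fa, SetLike.GradedMul.mul_mem hs' (decompose 𝒜 f a).2, ?_, ?_⟩
      · intro h
        rcases hpr.mem_or_mem h with h | h
        · exact hs'0 h
        · exact hfa0 h
      · have : s' * fa * g = s' * g' + (s' * gb) * f := by rw [hg']; ring
        rw [this]
        exact Ideal.add_mem _ hmem (Ideal.mem_sup_left (Ideal.mul_mem_left _ _
          (Ideal.mem_span_singleton_self f)))

/-- existence of an element of minimal width -/
theorem exists_min_wd (P : Ideal R) (h : ∃ g ∈ P, g ∉ P₀) :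
    ∃ f ∈ P, f ∉ P₀ ∧ ∀ g ∈ P, g ∉ P₀ → wd (Psi 𝒜 P₀ f) ≤ wd (Psi 𝒜 P₀ g) := by
  classical
  have hex : ∃ n : ℕ, ∃ g ∈ P, g ∉ P₀ ∧ wd (Psi 𝒜 P₀ g) = n := by
    obtain ⟨g, hg, hg0⟩ := h
    exact ⟨_, g, hg, hg0, rfl⟩
  obtain ⟨f, hf, hf0, hfn⟩ := Nat.find_spec hex
  refine ⟨f, hf, hf0, fun g hg hg0 => ?_⟩
  rw [hfn]
  exact Nat.find_min' hex ⟨g, hg, hg0, rfl⟩

/-- **BH 1.5.8, key step**: for a prime `p` of a ℤ-graded ring there is no prime strictly
between `p*` and `p`. -/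
theorem not_lt_lt_core (p q : Ideal R) [hp : p.IsPrime] [hq : q.IsPrime]
    (h1 : (p.homogeneousCore 𝒜).toIdeal < q) (h2 : q < p) : False := by
  set P₀ : Ideal R := (p.homogeneousCore 𝒜).toIdeal with hP₀def
  haveI hpr : P₀.IsPrime := Ideal.IsPrime.homogeneousCore hp
  have hP₀ : P₀.IsHomogeneous 𝒜 := (p.homogeneousCore 𝒜).isHomogeneous
  have hP₀p : P₀ ≤ p := Ideal.toIdeal_homogeneousCore_le 𝒜 p
  have hcore : ∀ (i : ℤ) (s : R), s ∈ 𝒜 i → s ∈ p → s ∈ P₀ := fun i s hs hsp =>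
    Ideal.mem_homogeneousCore_of_homogeneous_of_mem ⟨i, hs⟩ hsp
  obtain ⟨f, hfp, hf0, hfmin⟩ := exists_min_wd (𝒜 := 𝒜) (P₀ := P₀) p (by
    obtain ⟨x, hx, hx'⟩ := SetLike.exists_of_lt (lt_trans h1 h2); exact ⟨x, hx, hx'⟩)
  obtain ⟨fQ, hfQq, hfQ0, hfQmin⟩ := exists_min_wd (𝒜 := 𝒜) (P₀ := P₀) q (by
    obtain ⟨x, hx, hx'⟩ := SetLike.exists_of_lt h1; exact ⟨x, hx, hx'⟩)
  have claim := exists_homog_mul_mem hP₀ p hfp hf0 hfmin
  obtain ⟨i, s, hs, hs0, hmem⟩ := claim fQ (h2.le hfQq)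
  obtain ⟨y, hy, z, hz, hyz⟩ := Submodule.mem_sup.1 hmem
  obtain ⟨h, rfl⟩ := Ideal.mem_span_singleton'.1 hy
  have hhf : h * f ∈ q := by
    have : h * f = s * fQ - z := by rw [← hyz]; ring
    rw [this]
    exact q.sub_mem (q.mul_mem_left _ hfQq) (h1.le hz)
  rcases hq.mem_or_mem hhf with hhq | hfq
  · -- `h ∈ q`
    have hh0 : h ∉ P₀ := by
      intro hh0
      have : s * fQ ∈ P₀ := by rw [← hyz]; exact P₀.add_mem (P₀.mul_mem_right _ hh0) hz
      rcases hpr.mem_or_mem this with h' | h'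
      · exact hs0 h'
      · exact hfQ0 h'
    have hPs : Psi 𝒜 P₀ s = AddMonoidAlgebra.single i (Ideal.Quotient.mk P₀ s) := Psi_of_mem hs
    have hmk : Ideal.Quotient.mk P₀ s ≠ 0 := fun h0 => hs0 (Ideal.Quotient.eq_zero_iff_mem.1 h0)
    have heq : Psi 𝒜 P₀ s * Psi 𝒜 P₀ fQ = Psi 𝒜 P₀ h * Psi 𝒜 P₀ f := by
      rw [← map_mul, ← map_mul, ← hyz, map_add, (Psi_eq_zero_iff hP₀ z).2 hz, add_zero]
    have n1 : Psi 𝒜 P₀ fQ ≠ 0 := fun h0 => hfQ0 ((Psi_eq_zero_iff hP₀ fQ).1 h0)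
    have n2 : Psi 𝒜 P₀ h ≠ 0 := fun h0 => hh0 ((Psi_eq_zero_iff hP₀ h).1 h0)
    have n3 : Psi 𝒜 P₀ f ≠ 0 := fun h0 => hf0 ((Psi_eq_zero_iff hP₀ f).1 h0)
    have n4 : Psi 𝒜 P₀ s ≠ 0 := by rw [hPs]; exact single_ne_zero hmk
    have w1 : wd (Psi 𝒜 P₀ s * Psi 𝒜 P₀ fQ) = wd (Psi 𝒜 P₀ fQ) := by
      rw [wd_mul n4 n1, hPs, wd_single hmk, zero_add]
    have w2 := wd_mul n2 n3
    have w3 := hfQmin h hhq hh0
    rw [heq] at w1
    have hw0 : wd (Psi 𝒜 P₀ f) = 0 := by omega
    -- `f` is homogeneous modulo `P₀`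
    set a := topD (Psi 𝒜 P₀ f) with ha
    have hfa0 : (decompose 𝒜 f a : R) ∉ P₀ := decompose_topD_notMem hP₀ hf0
    have hsub : f - (decompose 𝒜 f a : R) ∈ P₀ := by
      rw [← Psi_eq_zero_iff hP₀, map_sub, Psi_decompose]
      apply AddMonoidAlgebra.coeff_injective
      ext j
      classical
      rw [AddMonoidAlgebra.coeff_sub, Finsupp.sub_apply, AddMonoidAlgebra.coeff_single]
      simp only [AddMonoidAlgebra.coeff_zero, Finsupp.coe_zero, Pi.zero_apply]
      by_cases hja : j = a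
      · subst hja; rw [Finsupp.single_eq_same, sub_self]
      · rw [Finsupp.single_eq_of_ne hja, sub_zero]
        have hc := wd_cast (Psi 𝒜 P₀ f)
        rw [hw0] at hc
        rcases lt_or_gt_of_ne hja with hlt | hgt
        · exact coeff_eq_zero_of_lt_botD (by rw [← ha] at hc; push_cast at hc; omega)
        · exact coeff_eq_zero_of_topD_lt hgt
    have : (decompose 𝒜 f a : R) ∈ p := by
      have h3 : (decompose 𝒜 f a : R) = f - (f - (decompose 𝒜 f a : R)) := by ring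
      rw [h3]
      exact p.sub_mem hfp (hP₀p hsub)
    exact hfa0 (hcore a _ (decompose 𝒜 f a).2 this)
  · -- `f ∈ q`
    apply not_le_of_gt h2
    intro g hg
    obtain ⟨j, t, ht, ht0, htm⟩ := claim g hg
    have htq : t * g ∈ q := by
      refine (sup_le ?_ h1.le) htm
      rw [Ideal.span_singleton_le_iff_mem]; exact hfq
    rcases hq.mem_or_mem htq with h' | h'
    · exact absurd (hcore j t ht (h2.le h')) ht0
    · exact h'

end Width

end Groth.Agent.Helper20.GrInj
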