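import Mathlib
import Groth.Agent.Lib.Helper20.GrHt2

/-!
# Heights of primes in ℤ-graded Noetherian rings (BH 1.5.8)  (helper20)

`height p ≤ grHeight (p*) + (0 or 1)`.
-/

open DirectSum

namespace Groth.Agent.Helper20.GrInj

universe u

section Ht

variable {R : Type u} [CommRing R] (𝒜 : ℤ → AddSubgroup R) [GradedRing 𝒜]

/-- the poset of homogeneous primes -/
abbrev HPrime := {q : PrimeSpectrum R // q.asIdeal.IsHomogeneous 𝒜}

/-- `p ↦ p*` -/
noncomputable def coreH (p : PrimeSpectrum R) : HPrime 𝒜 :=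
  ⟨⟨(p.asIdeal.homogeneousCore 𝒜).toIdeal, Ideal.IsPrime.homogeneousCore p.2⟩,
    (p.asIdeal.homogeneousCore 𝒜).isHomogeneous⟩

variable {𝒜}

theorem coreH_le (p : PrimeSpectrum R) : (coreH 𝒜 p).1 ≤ p :=
  Ideal.toIdeal_homogeneousCore_le 𝒜 p.asIdeal

theorem coreH_mono : Monotone (coreH 𝒜 (R := R)) := fun p q h => by
  change (p.asIdeal.homogeneousCore 𝒜).toIdeal ≤ (q.asIdeal.homogeneousCore 𝒜).toIdeal
  exact Ideal.homogeneousCore_mono 𝒜 h

theorem coreH_eq_of_homog (p : PrimeSpectrum R) (h : p.asIdeal.IsHomogeneous 𝒜) :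
    coreH 𝒜 p = ⟨p, h⟩ := by
  apply Subtype.ext
  apply PrimeSpectrum.ext
  exact h.toIdeal_homogeneousCore_eq_self

theorem le_coreH (q : HPrime 𝒜) (p : PrimeSpectrum R) (h : q.1 ≤ p) : q ≤ coreH 𝒜 p := by
  change q.1.asIdeal ≤ (p.asIdeal.homogeneousCore 𝒜).toIdeal
  have := Ideal.homogeneousCore_mono 𝒜 (show q.1.asIdeal ≤ p.asIdeal from h)
  rw [← q.2.toIdeal_homogeneousCore_eq_self]
  exact this

theorem coreH_lt_of_not_homog (p : PrimeSpectrum R) (h : ¬ p.asIdeal.IsHomogeneous 𝒜) :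
    (coreH 𝒜 p).1 < p := by
  refine lt_of_le_of_ne (coreH_le p) ?_
  intro he
  apply h
  rw [← he]
  exact (coreH 𝒜 p).2

/-- minimal primes over a homogeneous ideal are homogeneous -/
theorem isHomogeneous_of_mem_minimalPrimes {I : Ideal R} (hI : I.IsHomogeneous 𝒜) {p : Ideal R}
    (hp : p ∈ I.minimalPrimes) : p.IsHomogeneous 𝒜 := by
  haveI := hp.1.1
  have h1 : (p.homogeneousCore 𝒜).toIdeal.IsPrime := Ideal.IsPrime.homogeneousCore hp.1.1
  have h2 : I ≤ (p.homogeneousCore 𝒜).toIdeal := by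
    rw [← hI.toIdeal_homogeneousCore_eq_self]
    exact Ideal.homogeneousCore_mono 𝒜 hp.1.2
  have h3 := hp.2 ⟨h1, h2⟩ (Ideal.toIdeal_homogeneousCore_le 𝒜 p)
  have : p = (p.homogeneousCore 𝒜).toIdeal := le_antisymm h3 (Ideal.toIdeal_homogeneousCore_le 𝒜 p)
  rw [this]
  exact (p.homogeneousCore 𝒜).isHomogeneous

/-- the Krull step: if `q₀ < q < p` with `q₀, p` homogeneous primes, there is a homogeneous prime
`p'` with `q₀ < p' < p`. -/
theorem exists_homog_between [IsNoetherianRing R] (q₀ p : HPrime 𝒜) (q : PrimeSpectrum R)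
    (h1 : q₀.1 < q) (h2 : q < p.1) : ∃ p' : HPrime 𝒜, q₀ < p' ∧ p' < p := by
  -- a homogeneous element of `p` outside `q₀`
  obtain ⟨x, hxp, hxq⟩ := SetLike.exists_of_lt (show q₀.1.asIdeal < p.1.asIdeal from lt_trans h1 h2)
  have hxq' : x ∉ q₀.1.asIdeal := hxq
  rw [q₀.2.mem_iff] at hxq'
  push Not at hxq'
  obtain ⟨i, hi⟩ := hxq'
  set a : R := (decompose 𝒜 x i : R) with ha
  have hap : a ∈ p.1.asIdeal := p.2.mem_iff.1 hxp i
  have hhom : (Ideal.span {a}).IsHomogeneous 𝒜 :=
    Ideal.homogeneous_span 𝒜 _ (by rintro y rfl; exact ⟨i, (decompose 𝒜 x i).2⟩)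
  set I : Ideal R := q₀.1.asIdeal ⊔ Ideal.span {a} with hI
  have hIhom : I.IsHomogeneous 𝒜 := q₀.2.sup hhom
  have hIp : I ≤ p.1.asIdeal := sup_le (lt_trans h1 h2).le
    (by rw [Ideal.span_singleton_le_iff_mem]; exact hap)
  obtain ⟨p', hp', hp'le⟩ := Ideal.exists_minimalPrimes_le hIp
  have hp'hom := isHomogeneous_of_mem_minimalPrimes hIhom hp'
  haveI := hp'.1.1
  refine ⟨⟨⟨p', hp'.1.1⟩, hp'hom⟩, ?_, ?_⟩
  · refine lt_of_le_of_ne (show q₀.1.asIdeal ≤ p' from le_sup_left.trans hp'.1.2) ?_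
    intro he
    apply hi
    have : a ∈ p' := hp'.1.2 (Ideal.mem_sup_right (Ideal.mem_span_singleton_self a))
    have he' : q₀.1.asIdeal = p' := congrArg (fun z : HPrime 𝒜 => z.1.asIdeal) he
    rw [he']; exact this
  · refine lt_of_le_of_ne (show p' ≤ p.1.asIdeal from hp'le) ?_
    intro he
    have he' : p' = p.1.asIdeal := congrArg (fun z : HPrime 𝒜 => z.1.asIdeal) he
    rw [he'] at hp'
    have hht := Ideal.map_height_le_one_of_mem_minimalPrimes hp'
    -- but `⊥ < q̄ < p̄`
    set f := Ideal.Quotient.mk q₀.1.asIdeal with hf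
    have hker : RingHom.ker f = q₀.1.asIdeal := Ideal.mk_ker
    have hfs : Function.Surjective f := Ideal.Quotient.mk_surjective
    haveI : (p.1.asIdeal.map f).IsPrime :=
      Ideal.map_isPrime_of_surjective hfs (by rw [hker]; exact (lt_trans h1 h2).le)
    haveI hqpr : (q.asIdeal.map f).IsPrime :=
      Ideal.map_isPrime_of_surjective hfs (by rw [hker]; exact h1.le)
    rw [show (1 : ℕ∞) = ((1 : ℕ) : ℕ∞) from rfl, Ideal.height_le_iff] at hht
    have hlt : q.asIdeal.map f < p.1.asIdeal.map f := by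
      refine lt_of_le_of_ne (Ideal.map_mono h2.le) ?_
      intro he
      have := congrArg (Ideal.comap f) he
      rw [Ideal.comap_map_of_surjective f hfs, Ideal.comap_map_of_surjective f hfs,
        ← RingHom.ker_eq_comap_bot, hker, sup_eq_left.2 (show q₀.1.asIdeal ≤ q.asIdeal from h1.le),
        sup_eq_left.2 (show q₀.1.asIdeal ≤ p.1.asIdeal from (lt_trans h1 h2).le)] at this
      exact absurd (PrimeSpectrum.ext this) h2.ne
    have h0 := hht _ hqpr hlt
    have h0' : (q.asIdeal.map f).height = 0 := by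
      rw [Nat.cast_one] at h0
      exact ENat.lt_one_iff_eq_zero.1 h0
    haveI : (q₀.1.asIdeal).IsPrime := q₀.1.2
    rw [Ideal.height_eq_zero_iff_eq_bot] at h0'
    have : q.asIdeal ≤ q₀.1.asIdeal := by
      rw [← hker, RingHom.ker_eq_comap_bot, ← h0']
      exact Ideal.le_comap_map
    exact absurd (show q ≤ q₀.1 from this) (not_le_of_gt h1)

open Classical in
/-- **BH 1.5.8** (height form) -/
theorem height_le_grHeight [IsNoetherianRing R] (p : PrimeSpectrum R) :
    Order.height p ≤ Order.height (coreH 𝒜 p) +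
      (if p.asIdeal.IsHomogeneous 𝒜 then 0 else 1) := by
  classical
  have key : ∀ n : ℕ, ∀ p : PrimeSpectrum R, Order.height p = n →
      (n : ℕ∞) ≤ Order.height (coreH 𝒜 p) + (if p.asIdeal.IsHomogeneous 𝒜 then 0 else 1) := by
    intro n
    induction n with
    | zero => intro p _; simp
    | succ k ih =>
      intro p hp
      rw [Nat.cast_add, Nat.cast_one, Order.height_eq_coe_add_one_iff] at hp
      obtain ⟨-, ⟨q, hqp, hq⟩, -⟩ := hp
      have ihq := ih q hq
      by_cases hph : p.asIdeal.IsHomogeneous 𝒜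
      · rw [if_pos hph, add_zero]
        by_cases hqh : q.asIdeal.IsHomogeneous 𝒜
        · rw [if_pos hqh, add_zero] at ihq
          have hlt : coreH 𝒜 q < coreH 𝒜 p := by
            rw [coreH_eq_of_homog q hqh, coreH_eq_of_homog p hph]
            exact hqp
          calc ((k + 1 : ℕ) : ℕ∞) = (k : ℕ∞) + 1 := by push_cast; rfl
            _ ≤ Order.height (coreH 𝒜 q) + 1 := by gcongr
            _ ≤ Order.height (coreH 𝒜 p) := Order.height_add_one_le hlt
        · rw [if_neg hqh] at ihq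
          have h1 := coreH_lt_of_not_homog q hqh
          obtain ⟨p', hp'1, hp'2⟩ := exists_homog_between (coreH 𝒜 q) ⟨p, hph⟩ q h1 hqp
          rw [coreH_eq_of_homog p hph]
          calc ((k + 1 : ℕ) : ℕ∞) = (k : ℕ∞) + 1 := by push_cast; rfl
            _ ≤ (Order.height (coreH 𝒜 q) + 1) + 1 := by gcongr
            _ ≤ Order.height p' + 1 := by gcongr; exact Order.height_add_one_le hp'1
            _ ≤ Order.height (⟨p, hph⟩ : HPrime 𝒜) := Order.height_add_one_le hp'2
      · rw [if_neg hph]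
        by_cases hqh : q.asIdeal.IsHomogeneous 𝒜
        · rw [if_pos hqh, add_zero] at ihq
          have hle : coreH 𝒜 q ≤ coreH 𝒜 p := coreH_mono hqp.le
          calc ((k + 1 : ℕ) : ℕ∞) = (k : ℕ∞) + 1 := by push_cast; rfl
            _ ≤ Order.height (coreH 𝒜 q) + 1 := by gcongr
            _ ≤ Order.height (coreH 𝒜 p) + 1 := by gcongr
        · rw [if_neg hqh] at ihq
          have hle : coreH 𝒜 q ≤ coreH 𝒜 p := coreH_mono hqp.le
          rcases eq_or_lt_of_le hle with he | hlt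
          · exfalso
            have h1 := coreH_lt_of_not_homog q hqh
            rw [he] at h1
            haveI := p.2
            haveI := q.2
            exact not_lt_lt_core (𝒜 := 𝒜) p.asIdeal q.asIdeal h1 hqp
          · calc ((k + 1 : ℕ) : ℕ∞) = (k : ℕ∞) + 1 := by push_cast; rfl
              _ ≤ (Order.height (coreH 𝒜 q) + 1) + 1 := by gcongr
              _ ≤ Order.height (coreH 𝒜 p) + 1 := by gcongr; exact Order.height_add_one_le hlt
  have hfin : Order.height p ≠ ⊤ := by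
    rw [← PrimeSpectrum.height_eq_orderHeight]
    haveI := p.2
    exact Ideal.height_ne_top_of_isPrime
  obtain ⟨n, hn⟩ := ENat.ne_top_iff_exists.1 hfin
  rw [← hn]
  exact key n p hn.symm

end Ht

end Groth.Agent.Helper20.GrInj
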