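import Mathlib
import Groth.Prelude
import Groth.Agent.Lib.Helper20.GrHt3

/-!
# `dim R = ht m` for a *local ℤ-graded Noetherian ring whose *maximal ideal is maximal (helper20)
-/

open DirectSum

namespace Groth.Agent.Helper20.GrInj

universe u

section Dim

variable {R : Type u} [CommRing R] {𝒜 : ℤ → AddSubgroup R} [GradedRing 𝒜]

/-- in a Noetherian *local ring every proper homogeneous ideal lies in the *maximal ideal -/
theorem le_of_isStarLocal [IsNoetherianRing R] (m : HomogeneousIdeal 𝒜)
    (hm : GrLC.IsStarLocal 𝒜 m) (J : HomogeneousIdeal 𝒜) (hJ : J ≠ ⊤) : J ≤ m := by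
  let S : Set (Ideal R) := {K | K.IsHomogeneous 𝒜 ∧ J.toIdeal ≤ K ∧ K ≠ ⊤}
  have hne : S.Nonempty := ⟨J.toIdeal, J.isHomogeneous, le_rfl, fun h => hJ
    (HomogeneousIdeal.toIdeal_injective (by rw [h, HomogeneousIdeal.toIdeal_top]))⟩
  obtain ⟨K₀, ⟨hK₀h, hJK₀, hK₀t⟩, hmax⟩ :=
    (set_has_maximal_iff_noetherian (R := R) (M := R)).2 inferInstance S hne
  let K : HomogeneousIdeal 𝒜 := ⟨K₀, hK₀h⟩
  have hco : IsCoatom K := by
    refine ⟨fun h => hK₀t (by
      have := congrArg HomogeneousIdeal.toIdeal h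
      rwa [HomogeneousIdeal.toIdeal_top] at this), ?_⟩
    intro L hL
    by_contra hLt
    have hLS : L.toIdeal ∈ S := ⟨L.isHomogeneous, hJK₀.trans (show K₀ ≤ L.toIdeal from hL.le),
      fun h => hLt (HomogeneousIdeal.toIdeal_injective (by rw [h, HomogeneousIdeal.toIdeal_top]))⟩
    exact hmax _ hLS (show K₀ < L.toIdeal from hL)
  have := hm.2 K hco
  rw [← this]
  exact hJK₀

theorem grHeight_le_height (x : HPrime 𝒜) : Order.height x ≤ Order.height x.1 :=
  Order.height_le_height_apply_of_strictMono (fun y : HPrime 𝒜 => y.1) (fun _ _ h => h) x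

/-- **`dim R = ht m`** for a *local Noetherian ℤ-graded ring `(R, m)` with `m` a maximal ideal
(e.g. `R` positively graded). -/
theorem ringKrullDim_eq_height_of_isStarLocal [IsNoetherianRing R] (m : HomogeneousIdeal 𝒜)
    (hm : GrLC.IsStarLocal 𝒜 m) (hmax : m.toIdeal.IsMaximal) :
    ringKrullDim R = m.toIdeal.height := by
  classical
  haveI : m.toIdeal.IsPrime := hmax.isPrime
  haveI : Nontrivial R := by
    by_contra h
    rw [not_nontrivial_iff_subsingleton] at h
    exact hmax.ne_top (Subsingleton.elim _ _)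
  refine le_antisymm ?_ Ideal.height_le_ringKrullDim_of_isPrime
  rw [← Ideal.sup_isPrime_height_eq_ringKrullDim, WithBot.coe_le_coe]
  refine iSup₂_le fun I hI => ?_
  let p : PrimeSpectrum R := ⟨I, hI⟩
  let M : PrimeSpectrum R := ⟨m.toIdeal, hmax.isPrime⟩
  let MH : HPrime 𝒜 := ⟨M, m.isHomogeneous⟩
  have hp : I.height = Order.height p := PrimeSpectrum.height_eq_orderHeight p
  have hM : m.toIdeal.height = Order.height M := PrimeSpectrum.height_eq_orderHeight M
  rw [hp, hM]
  have hprop : ∀ x : HPrime 𝒜, x ≤ MH := by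
    intro x
    have := le_of_isStarLocal m hm ⟨x.1.asIdeal, x.2⟩ (fun h => x.1.2.ne_top (by
      have := congrArg HomogeneousIdeal.toIdeal h
      rwa [HomogeneousIdeal.toIdeal_top] at this))
    exact this
  by_cases hph : p.asIdeal.IsHomogeneous 𝒜
  · exact Order.height_mono (hprop ⟨p, hph⟩)
  · have h1 := height_le_grHeight (𝒜 := 𝒜) p
    rw [if_neg hph] at h1
    have hlt : coreH 𝒜 p < MH := by
      refine lt_of_le_of_ne (hprop _) ?_
      intro he
      have h2 : M ≤ p := by
        have := coreH_le (𝒜 := 𝒜) p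
        rw [he] at this
        exact this
      have h3 : m.toIdeal = I := hmax.eq_of_le hI.ne_top h2
      apply hph
      change I.IsHomogeneous 𝒜
      rw [← h3]
      exact m.isHomogeneous
    calc Order.height p ≤ Order.height (coreH 𝒜 p) + 1 := h1
      _ ≤ Order.height MH := Order.height_add_one_le hlt
      _ ≤ Order.height M := grHeight_le_height MH

end Dim

end Groth.Agent.Helper20.GrInj
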