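import Mathlib

/-!
# The coaction `R → R[T;T⁻¹]` of a `ℤ`-graded ring and the associated automorphism (helper20)

For a `ℤ`-graded ring `R` the map `r ↦ Σ r_n T^n` is a ring homomorphism `R → R[T;T⁻¹]`, and
`C r * T^j ↦ coact r * T^j` is a ring automorphism `Θ` of `R[T;T⁻¹]`.
-/

open LaurentPolynomial DirectSum

namespace Groth.Agent.Helper20.Lau

universe u

section Unit

variable {R : Type u} [CommRing R]

/-- the unit `T` of the Laurent polynomial ring -/
noncomputable def unitT : (R[T;T⁻¹])ˣ :=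
  ⟨T 1, T (-1), by rw [← T_add]; simp, by rw [← T_add]; simp⟩

theorem unitT_zpow (n : ℤ) : ((unitT (R := R) ^ n : (R[T;T⁻¹])ˣ) : R[T;T⁻¹]) = T n := by
  induction n using Int.induction_on with
  | zero => simp
  | succ i ih =>
    rw [zpow_add_one, Units.val_mul, ih]
    show T (i : ℤ) * T 1 = _
    rw [← T_add]
  | pred i ih =>
    rw [zpow_sub_one, Units.val_mul, ih]
    show T (-(i : ℤ)) * T (-1) = _
    rw [← T_add, sub_eq_add_neg]

end Unit

variable {R : Type u} [CommRing R] (𝒜 : ℤ → AddSubgroup R) [GradedRing 𝒜]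

/-- the degree `i` piece of the coaction (with sign `ε`) -/
noncomputable def coactPiece (ε i : ℤ) : 𝒜 i →+ R[T;T⁻¹] :=
  (AddMonoidHom.mulRight (T (ε * i))).comp
    ((C : R →+* R[T;T⁻¹]).toAddMonoidHom.comp (𝒜 i).subtype)

theorem coactPiece_apply (ε i : ℤ) (x : 𝒜 i) :
    coactPiece 𝒜 ε i x = C (x : R) * T (ε * i) := rfl

/-- the coaction on the direct sum -/
noncomputable def coactAux (ε : ℤ) : (⨁ i, 𝒜 i) →+* R[T;T⁻¹] :=
  DirectSum.toSemiring (coactPiece 𝒜 ε)
    (by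
      rw [coactPiece_apply, SetLike.coe_gOne, mul_zero, T_zero, mul_one, map_one])
    (by
      intro i j ai aj
      rw [coactPiece_apply, coactPiece_apply, coactPiece_apply, SetLike.coe_gMul, map_mul,
        mul_add, T_add]
      rw [mul_mul_mul_comm])

/-- **the coaction** `r ↦ Σ r_n T^{ε n}` -/
noncomputable def coact (ε : ℤ) : R →+* R[T;T⁻¹] :=
  (coactAux 𝒜 ε).comp (decomposeRingEquiv 𝒜).toRingHom

theorem coact_of_mem (ε : ℤ) {i : ℤ} {r : R} (hr : r ∈ 𝒜 i) :
    coact 𝒜 ε r = C r * T (ε * i) := by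
  show coactAux 𝒜 ε (decompose 𝒜 r) = _
  rw [decompose_of_mem 𝒜 hr]
  exact DirectSum.toSemiring_of (A := fun i => 𝒜 i) (coactPiece 𝒜 ε) _ _ i (⟨r, hr⟩ : 𝒜 i)

theorem coact_coeff (r : R) (n : ℤ) : (coact 𝒜 1 r).coeff n = (decompose 𝒜 r n : R) := by
  classical
  induction r using DirectSum.Decomposition.inductionOn 𝒜 with
  | zero => simp
  | @homogeneous i x =>
    rw [coact_of_mem 𝒜 1 x.2, one_mul, ← single_eq_C_mul_T, AddMonoidAlgebra.coeff_single]
    by_cases h : n = i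
    · subst h
      rw [Finsupp.single_eq_same, decompose_of_mem_same 𝒜 x.2]
    · rw [Finsupp.single_eq_of_ne h, decompose_of_mem_ne 𝒜 x.2 (Ne.symm h)]
  | add a b ha hb =>
    rw [map_add, decompose_add, DirectSum.add_apply, AddSubgroup.coe_add, ← ha, ← hb]
    rfl

/-- the endomorphism `Θ_ε` of `R[T;T⁻¹]` extending the coaction, fixing `T` -/
noncomputable def theta (ε : ℤ) : R[T;T⁻¹] →+* R[T;T⁻¹] :=
  LaurentPolynomial.eval₂ (coact 𝒜 ε) unitT

theorem theta_C (ε : ℤ) (r : R) : theta 𝒜 ε (C r) = coact 𝒜 ε r :=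
  LaurentPolynomial.eval₂_C _ _ r

theorem theta_T (ε : ℤ) (n : ℤ) : theta 𝒜 ε (T n) = T n := by
  unfold theta
  rw [LaurentPolynomial.eval₂_T, unitT_zpow]

theorem theta_coact (ε : ℤ) (r : R) : theta 𝒜 ε (coact 𝒜 (-ε) r) = C r := by
  classical
  induction r using DirectSum.Decomposition.inductionOn 𝒜 with
  | zero => simp
  | @homogeneous i x =>
    rw [coact_of_mem 𝒜 (-ε) x.2, map_mul, theta_C, theta_T, coact_of_mem 𝒜 ε x.2, mul_assoc,
      ← T_add, neg_mul, add_neg_cancel, T_zero, mul_one]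
  | add a b ha hb => rw [map_add, map_add, ha, hb, map_add]

theorem theta_theta (ε : ℤ) (f : R[T;T⁻¹]) : theta 𝒜 ε (theta 𝒜 (-ε) f) = f := by
  induction f using LaurentPolynomial.induction_on' with
  | add p q hp hq => rw [map_add, map_add, hp, hq]
  | C_mul_T n a => rw [map_mul, map_mul, theta_C, theta_T, theta_T, theta_coact]

/-- **the automorphism** `Θ` of `R[T;T⁻¹]` with `Θ ∘ C = coact` -/
noncomputable def thetaEquiv : R[T;T⁻¹] ≃+* R[T;T⁻¹] :=
  RingEquiv.ofRingHom (theta 𝒜 1) (theta 𝒜 (-1))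
    (RingHom.ext fun f => by
      show theta 𝒜 1 (theta 𝒜 (-1) f) = f
      exact theta_theta 𝒜 1 f)
    (RingHom.ext fun f => by
      show theta 𝒜 (-1) (theta 𝒜 1 f) = f
      have := theta_theta 𝒜 (-1) f
      rwa [neg_neg] at this)

theorem thetaEquiv_C (r : R) : thetaEquiv 𝒜 (C r) = coact 𝒜 1 r := theta_C 𝒜 1 r

theorem thetaEquiv_T (n : ℤ) : thetaEquiv 𝒜 (T n) = T n := theta_T 𝒜 1 n

end Groth.Agent.Helper20.Lau
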