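import Mathlib
import Groth.Agent.Lib.Helper20.Lau1

/-!
# The extension `p R[T;T⁻¹]` of a prime ideal (helper20)
-/

open LaurentPolynomial DirectSum

namespace Groth.Agent.Helper20.Lau

universe u

section Map

variable {R : Type u} [CommRing R]

theorem coeff_C (r : R) (n : ℤ) : (C r : R[T;T⁻¹]).coeff n = if n = 0 then r else 0 := by
  rw [← single_eq_C, AddMonoidAlgebra.coeff_single, Finsupp.single_apply]
  by_cases h : n = 0
  · rw [if_pos h, if_pos h.symm]
  · rw [if_neg h, if_neg (Ne.symm h)]

theorem coeff_C_mul_T_mul (a : R) (m : ℤ) (f : R[T;T⁻¹]) (n : ℤ) :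
    (C a * T m * f).coeff n = a * f.coeff (-m + n) := by
  rw [← single_eq_C_mul_T, AddMonoidAlgebra.coeff_single_mul_apply]

/-- a Laurent polynomial is the sum of its monomials -/
theorem eq_sum_C_mul_T (f : R[T;T⁻¹]) :
    f = ∑ n ∈ f.coeff.support, C (f.coeff n) * T n := by
  induction f using LaurentPolynomial.induction_on' with
  | add p q hp hq =>
    classical
    have hsub1 : p.coeff.support ⊆ p.coeff.support ∪ q.coeff.support := Finset.subset_union_left
    have hsub2 : q.coeff.support ⊆ p.coeff.support ∪ q.coeff.support := Finset.subset_union_right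
    have hsub3 : (p + q).coeff.support ⊆ p.coeff.support ∪ q.coeff.support := by
      rw [AddMonoidAlgebra.coeff_add]
      exact Finsupp.support_add
    have e1 : ∀ g : R[T;T⁻¹], ∀ s : Finset ℤ, g.coeff.support ⊆ s →
        ∑ n ∈ g.coeff.support, C (g.coeff n) * T n = ∑ n ∈ s, C (g.coeff n) * T n := by
      intro g s hs
      apply Finset.sum_subset hs
      intro n _ hn
      rw [Finsupp.notMem_support_iff.1 hn, map_zero, zero_mul]
    rw [e1 _ _ hsub3]
    conv_lhs => rw [hp, hq, e1 _ _ hsub1, e1 _ _ hsub2]
    rw [← Finset.sum_add_distrib]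
    apply Finset.sum_congr rfl
    intro n _
    rw [AddMonoidAlgebra.coeff_add, Finsupp.add_apply, map_add, add_mul]
  | C_mul_T n a =>
    by_cases ha : a = 0
    · subst ha
      simp
    · have hc : (C a * T n : R[T;T⁻¹]).coeff = Finsupp.single n a := by
        rw [← single_eq_C_mul_T, AddMonoidAlgebra.coeff_single]
      rw [hc, Finsupp.support_single _ ha, Finset.sum_singleton, Finsupp.single_eq_same]

/-- The extension of an ideal `I` of `R` to `R[T;T⁻¹]` consists of the Laurent polynomials all of
whose coefficients lie in `I`. -/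
theorem mem_map_C_iff {I : Ideal R} {f : R[T;T⁻¹]} :
    f ∈ I.map (C : R →+* R[T;T⁻¹]) ↔ ∀ n : ℤ, f.coeff n ∈ I := by
  constructor
  · intro hf
    refine Submodule.span_induction ?_ ?_ ?_ ?_ hf
    · rintro f ⟨x, hx, rfl⟩ n
      rw [coeff_C]
      split_ifs
      · exact hx
      · exact I.zero_mem
    · intro n
      rw [AddMonoidAlgebra.coeff_zero, Finsupp.zero_apply]
      exact I.zero_mem
    · intro f g _ _ hf hg n
      rw [AddMonoidAlgebra.coeff_add, Finsupp.add_apply]
      exact I.add_mem (hf n) (hg n)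
    · intro g f _ hf n
      rw [smul_eq_mul]
      induction g using LaurentPolynomial.induction_on' generalizing n with
      | add p q hp hq =>
        rw [add_mul, AddMonoidAlgebra.coeff_add, Finsupp.add_apply]
        exact I.add_mem (hp n) (hq n)
      | C_mul_T m a =>
        rw [coeff_C_mul_T_mul]
        exact I.mul_mem_left _ (hf _)
  · intro hf
    rw [eq_sum_C_mul_T f]
    exact Ideal.sum_mem _ fun n _ =>
      Ideal.mul_mem_right _ _ (Ideal.mem_map_of_mem _ (hf n))

theorem comap_C_map_C (I : Ideal R) : (I.map (C : R →+* R[T;T⁻¹])).comap C = I := by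
  ext r
  rw [Ideal.mem_comap, mem_map_C_iff]
  constructor
  · intro h
    have := h 0
    rwa [coeff_C, if_pos rfl] at this
  · intro h n
    rw [coeff_C]
    split_ifs
    · exact h
    · exact I.zero_mem

/-- the extension of a prime ideal to the Laurent polynomial ring is prime -/
theorem isPrime_map_C (p : Ideal R) [hp : p.IsPrime] :
    (p.map (C : R →+* R[T;T⁻¹])).IsPrime := by
  have hker : RingHom.ker (AddMonoidAlgebra.mapRingHom ℤ (Ideal.Quotient.mk p)) =
      p.map (C : R →+* R[T;T⁻¹]) := by
    ext f
    rw [RingHom.mem_ker, mem_map_C_iff]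
    constructor
    · intro h n
      have h1 := congrArg (fun g : (R ⧸ p)[T;T⁻¹] => g.coeff n) h
      simp only [AddMonoidAlgebra.coeff_mapRingHom, AddMonoidAlgebra.coeff_zero,
        Finsupp.zero_apply] at h1
      exact Ideal.Quotient.eq_zero_iff_mem.1 h1
    · intro h
      apply LaurentPolynomial.ext
      intro n
      rw [AddMonoidAlgebra.coeff_mapRingHom, AddMonoidAlgebra.coeff_zero, Finsupp.zero_apply]
      exact Ideal.Quotient.eq_zero_iff_mem.2 (h n)
  rw [← hker]
  exact RingHom.ker_isPrime _

end Map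

section Core

variable {R : Type u} [CommRing R] (𝒜 : ℤ → AddSubgroup R) [GradedRing 𝒜]

/-- the preimage of `p R[T;T⁻¹]` under the coaction is the homogeneous core `p*` -/
theorem comap_coact_map_C (p : Ideal R) :
    (p.map (C : R →+* R[T;T⁻¹])).comap (coact 𝒜 1) = (p.homogeneousCore 𝒜).toIdeal := by
  classical
  ext r
  rw [Ideal.mem_comap, mem_map_C_iff]
  simp only [coact_coeff]
  constructor
  · intro h
    rw [← sum_support_decompose 𝒜 r]
    refine Ideal.sum_mem _ fun n _ => ?_
    exact Ideal.mem_homogeneousCore_of_homogeneous_of_mem ⟨n, (decompose 𝒜 r n).2⟩ (h n)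
  · intro h n
    exact Ideal.toIdeal_homogeneousCore_le 𝒜 p ((p.homogeneousCore 𝒜).isHomogeneous n h)

end Core

end Groth.Agent.Helper20.Lau
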