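import Mathlib
import Groth.Agent.Lib.Helper20.Lau2
import Groth.Agent.Lib.Lead.Fib1

/-!
# Fibres of `R → R[T;T⁻¹]`: local rings of the fibres are principal ideal domains (helper20)
-/

open LaurentPolynomial TensorProduct

namespace Groth.Agent.Helper20.Lau

universe u

section PID

/-- a localization of a principal ideal ring is a principal ideal ring -/
theorem isPrincipalIdealRing_of_isLocalization {R : Type*} [CommRing R] (M : Submonoid R)
    (S : Type*) [CommRing S] [Algebra R S] [IsLocalization M S] [IsPrincipalIdealRing R] :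
    IsPrincipalIdealRing S := by
  refine ⟨fun I => ?_⟩
  obtain ⟨a, ha⟩ := (IsPrincipalIdealRing.principal (I.under R)).principal
  refine ⟨⟨algebraMap R S a, ?_⟩⟩
  have h1 := IsLocalization.map_under M S I
  rw [ha] at h1
  rw [← h1]
  show Ideal.map (algebraMap R S) (Ideal.span {a}) = Ideal.span {algebraMap R S a}
  rw [Ideal.map_span, Set.image_singleton]

/-- Laurent polynomials over a field form a principal ideal domain -/
instance isPrincipalIdealRing_laurent (K : Type*) [Field K] : IsPrincipalIdealRing K[T;T⁻¹] :=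
  isPrincipalIdealRing_of_isLocalization (Submonoid.powers (Polynomial.X : Polynomial K)) _

end PID

section Fibre

variable {R : Type u} [CommRing R]

/-- the fibre ring of `R → R[T;T⁻¹]` over a prime is a domain -/
theorem isDomain_fiber (p : Ideal R) [p.IsPrime] : IsDomain (p.Fiber R[T;T⁻¹]) :=
  (AddMonoidAlgebra.scalarTensorEquiv R p.ResidueField (M := ℤ)).toRingEquiv.toMulEquiv.isDomain _

/-- the fibre ring of `R → R[T;T⁻¹]` over a prime is a principal ideal ring -/
theorem isPrincipalIdealRing_fiber (p : Ideal R) [p.IsPrime] :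
    IsPrincipalIdealRing (p.Fiber R[T;T⁻¹]) :=
  IsPrincipalIdealRing.of_surjective
    (AddMonoidAlgebra.scalarTensorEquiv R p.ResidueField (M := ℤ)).symm.toRingEquiv.toRingHom
    (AddMonoidAlgebra.scalarTensorEquiv R p.ResidueField (M := ℤ)).symm.surjective

open Groth.Agent.Lead.Fib in
/-- the local rings `S_r / p S_r` of the fibres of `R → S = R[T;T⁻¹]` are principal ideal domains -/
theorem isDomain_and_isPrincipalIdealRing_FL (p : Ideal R) [p.IsPrime] (r : Ideal R[T;T⁻¹])
    [r.IsPrime] [r.LiesOver p] : IsDomain (FL p r) ∧ IsPrincipalIdealRing (FL p r) := by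
  haveI := isDomain_fiber p
  haveI := isPrincipalIdealRing_fiber p
  obtain ⟨q, hq⟩ := exists_fiber_prime p r
  haveI : q.asIdeal.IsPrime := q.isPrime
  have key : ∀ (r' : Ideal R[T;T⁻¹]) [r'.IsPrime] [r'.LiesOver p], r' = r →
      (IsDomain (FL p r') ∧ IsPrincipalIdealRing (FL p r')) →
      (IsDomain (FL p r) ∧ IsPrincipalIdealRing (FL p r)) := by
    intro r' _ _ h
    subst h
    exact id
  refine key _ hq ?_
  have e := fiberLocEquiv (S := R[T;T⁻¹]) p q.asIdeal
  haveI : IsPrincipalIdealRing (Localization.AtPrime q.asIdeal) :=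
    isPrincipalIdealRing_of_isLocalization (R := p.Fiber R[T;T⁻¹]) q.asIdeal.primeCompl
      (Localization.AtPrime q.asIdeal)
  exact ⟨e.symm.toMulEquiv.isDomain _,
    IsPrincipalIdealRing.of_surjective e.toRingHom e.surjective⟩

end Fibre

end Groth.Agent.Helper20.Lau
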