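import Mathlib
import Groth.Agent.Lib.Helper20.Lau3
import Groth.Agent.Lib.Helper20.GorFlat3

/-!
# The Gorenstein property at `p` follows from the Gorenstein property at the homogeneous core `p*`
(helper20)
-/

open LaurentPolynomial IsLocalRing

namespace Groth.Agent.Helper20.Lau

universe u

variable {R : Type u} [CommRing R]

instance isNoetherianRing_laurent [IsNoetherianRing R] : IsNoetherianRing R[T;T⁻¹] :=
  IsLocalization.isNoetherianRing (Submonoid.powers (Polynomial.X : Polynomial R)) R[T;T⁻¹]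
    inferInstance

open Groth.Agent.Lead.Fib Groth.Agent.Helper20.GorFlat

/-- for a prime `P` of `S` over `p` with `P = p S`: `R_p` Gorenstein iff `S_P` Gorenstein -/
theorem gorenstein_iff_of_map_eq_prime {S : Type u} [CommRing S] [Algebra R S] [IsNoetherianRing R]
    [IsNoetherianRing S] [Module.Flat R S] (p : Ideal R) [p.IsPrime] (P : Ideal S) [P.IsPrime]
    [P.LiesOver p] (hP : P = p.map (algebraMap R S)) :
    LocCoh.IsGorensteinLocalRing (Localization.AtPrime p) ↔
      LocCoh.IsGorensteinLocalRing (Localization.AtPrime P) := by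
  letI : Algebra (Localization.AtPrime p) (Localization.AtPrime P) :=
    Localization.AtPrime.algebraOfLiesOver p P
  haveI : IsLocalHom (algebraMap (Localization.AtPrime p) (Localization.AtPrime P)) :=
    Localization.isLocalHom_localRingHom _ _ _ _
  have hmap : p.map (algebraMap R (Localization.AtPrime P)) =
      (maximalIdeal (Localization.AtPrime p)).map
        (algebraMap (Localization.AtPrime p) (Localization.AtPrime P)) := by
    rw [← Localization.AtPrime.map_eq_maximalIdeal, Ideal.map_map, ← IsScalarTower.algebraMap_eq]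
  refine gorenstein_iff_of_map_eq _ _ ?_
  rw [← hmap, ← Localization.AtPrime.map_eq_maximalIdeal]
  rw [congrArg (Ideal.map (algebraMap S (Localization.AtPrime P))) hP, Ideal.map_map,
    ← IsScalarTower.algebraMap_eq]

/-- ascent of Gorenstein along `R → R[T;T⁻¹]` at any prime -/
theorem gorenstein_laurent_of_gorenstein [IsNoetherianRing R] (p : Ideal R) [p.IsPrime]
    (P : Ideal R[T;T⁻¹]) [P.IsPrime] [P.LiesOver p]
    (hG : LocCoh.IsGorensteinLocalRing (Localization.AtPrime p)) :
    LocCoh.IsGorensteinLocalRing (Localization.AtPrime P) := by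
  letI : Algebra (Localization.AtPrime p) (Localization.AtPrime P) :=
    Localization.AtPrime.algebraOfLiesOver p P
  haveI : IsLocalHom (algebraMap (Localization.AtPrime p) (Localization.AtPrime P)) :=
    Localization.isLocalHom_localRingHom _ _ _ _
  have hmap : p.map (algebraMap R (Localization.AtPrime P)) =
      (maximalIdeal (Localization.AtPrime p)).map
        (algebraMap (Localization.AtPrime p) (Localization.AtPrime P)) := by
    rw [← Localization.AtPrime.map_eq_maximalIdeal, Ideal.map_map, ← IsScalarTower.algebraMap_eq]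
  obtain ⟨h1, h2⟩ := isDomain_and_isPrincipalIdealRing_FL p P
  have key : ∀ (I J : Ideal (Localization.AtPrime P)), I = J →
      IsDomain (Localization.AtPrime P ⧸ I) → IsPrincipalIdealRing (Localization.AtPrime P ⧸ I) →
      IsDomain (Localization.AtPrime P ⧸ J) ∧ IsPrincipalIdealRing (Localization.AtPrime P ⧸ J) := by
    intro I J h
    subst h
    exact fun a b => ⟨a, b⟩
  obtain ⟨h3, h4⟩ := key _ _ hmap h1 h2
  exact gorenstein_of_flat_of_fibre_pid (Localization.AtPrime p) (Localization.AtPrime P) hG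

variable (𝒜 : ℤ → AddSubgroup R) [GradedRing 𝒜]

/-- **the Gorenstein property at a prime follows from that at its homogeneous core** -/
theorem gorenstein_of_gorenstein_homogeneousCore [IsNoetherianRing R] (p : Ideal R) [p.IsPrime]
    (q : Ideal R) [q.IsPrime] (hq : q = (p.homogeneousCore 𝒜).toIdeal)
    (hG : LocCoh.IsGorensteinLocalRing (Localization.AtPrime q)) :
    LocCoh.IsGorensteinLocalRing (Localization.AtPrime p) := by
  haveI hPprime : (p.map (C : R →+* R[T;T⁻¹])).IsPrime := isPrime_map_C p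
  haveI hPover : (p.map (C : R →+* R[T;T⁻¹])).LiesOver p := ⟨(comap_C_map_C p).symm⟩
  -- the twisted prime
  haveI hP'prime : ((p.map (C : R →+* R[T;T⁻¹])).comap
      (thetaEquiv 𝒜 : R[T;T⁻¹] →+* R[T;T⁻¹])).IsPrime := Ideal.comap_isPrime _ _
  haveI hP'over : ((p.map (C : R →+* R[T;T⁻¹])).comap
      (thetaEquiv 𝒜 : R[T;T⁻¹] →+* R[T;T⁻¹])).LiesOver q := by
    refine ⟨?_⟩
    rw [hq, ← comap_coact_map_C 𝒜 p]
    ext r
    show r ∈ (p.map (C : R →+* R[T;T⁻¹])).comap (coact 𝒜 1) ↔
      (thetaEquiv 𝒜) (algebraMap R R[T;T⁻¹] r) ∈ p.map (C : R →+* R[T;T⁻¹])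
    rw [← C_eq_algebraMap, thetaEquiv_C]
    rfl
  -- Gorenstein at the twisted prime
  have h1 := gorenstein_laurent_of_gorenstein q ((p.map (C : R →+* R[T;T⁻¹])).comap
      (thetaEquiv 𝒜 : R[T;T⁻¹] →+* R[T;T⁻¹])) hG
  -- transport along `Θ`
  have hcomap : (p.map (C : R →+* R[T;T⁻¹])).primeCompl.comap
      ((thetaEquiv 𝒜 : R[T;T⁻¹] ≃+* R[T;T⁻¹]) : R[T;T⁻¹] →* R[T;T⁻¹]) =
      ((p.map (C : R →+* R[T;T⁻¹])).comap
        (thetaEquiv 𝒜 : R[T;T⁻¹] →+* R[T;T⁻¹])).primeCompl := by
    ext x
    rfl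
  have e : Localization.AtPrime ((p.map (C : R →+* R[T;T⁻¹])).comap
      (thetaEquiv 𝒜 : R[T;T⁻¹] →+* R[T;T⁻¹])) ≃+*
      Localization.AtPrime (p.map (C : R →+* R[T;T⁻¹])) :=
    IsLocalization.ringEquivOfRingEquiv (M := ((p.map (C : R →+* R[T;T⁻¹])).comap
        (thetaEquiv 𝒜 : R[T;T⁻¹] →+* R[T;T⁻¹])).primeCompl)
      (T := (p.map (C : R →+* R[T;T⁻¹])).primeCompl) _ _ (thetaEquiv 𝒜) (by
        rw [← hcomap]
        exact Submonoid.map_comap_eq_of_surjective (thetaEquiv 𝒜).surjective _)
  have h2 : LocCoh.IsGorensteinLocalRing (Localization.AtPrime (p.map (C : R →+* R[T;T⁻¹]))) :=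
    isGorensteinLocalRing_of_ringEquiv e
  exact (gorenstein_iff_of_map_eq_prime p (p.map (C : R →+* R[T;T⁻¹])) rfl).2 h2

end Groth.Agent.Helper20.Lau
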