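import Mathlib
import Groth.Prelude
import Groth.Agent.Lib.Helper20.Lau4
import Groth.Agent.Lib.Helper20.GrHt4
import Groth.Agent.Lib.Helper8.CanonId2

/-!
# A *local ring is Gorenstein as soon as its localization at the *maximal ideal is (helper20)
-/

open IsLocalRing

namespace Groth.Agent.Helper20.Lau

universe u

variable {R : Type u} [CommRing R]

open Groth.Agent.Helper20.GorFlat

/-- localizations of a Gorenstein localization: if `R_m` is Gorenstein and `q ≤ m`, then `R_q` is
Gorenstein -/
theorem gorenstein_localization_of_le (m q : Ideal R) [m.IsPrime] [q.IsPrime] (hqm : q ≤ m)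
    (hG : LocCoh.IsGorensteinLocalRing (Localization.AtPrime m)) :
    LocCoh.IsGorensteinLocalRing (Localization.AtPrime q) := by
  have hdisj : Disjoint (m.primeCompl : Set R) (q : Set R) := by
    rw [Set.disjoint_left]
    intro x hx hxq
    exact hx (hqm hxq)
  haveI hprime : (q.map (algebraMap R (Localization.AtPrime m))).IsPrime :=
    IsLocalization.isPrime_of_isPrime_disjoint m.primeCompl _ q inferInstance hdisj
  have hcomap : (q.map (algebraMap R (Localization.AtPrime m))).comap
      (algebraMap R (Localization.AtPrime m)) = q :=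
    IsLocalization.under_map_of_isPrime_disjoint m.primeCompl _ inferInstance hdisj
  haveI := Groth.Agent.Helper8.CanonId.isGorensteinLocalRing_localization (Localization.AtPrime m)
    (q.map (algebraMap R (Localization.AtPrime m)))
  have e := IsLocalization.localizationLocalizationAtPrimeIsoLocalization m.primeCompl
    (q.map (algebraMap R (Localization.AtPrime m)))
  have key : ∀ (q' : Ideal R) [q'.IsPrime], q' = q →
      LocCoh.IsGorensteinLocalRing (Localization.AtPrime q') →
      LocCoh.IsGorensteinLocalRing (Localization.AtPrime q) := by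
    intro q' _ h
    subst h
    exact id
  haveI hcp : ((q.map (algebraMap R (Localization.AtPrime m))).comap
      (algebraMap R (Localization.AtPrime m))).IsPrime := Ideal.comap_isPrime _ _
  exact key _ hcomap (isGorensteinLocalRing_of_ringEquiv e.symm.toRingEquiv)

variable (𝒜 : ℤ → AddSubgroup R) [GradedRing 𝒜]

/-- **a Noetherian ℤ-graded ring in which every homogeneous prime lies in a prime `m` with `R_m`
Gorenstein is a Gorenstein ring** -/
theorem isGorensteinRing_of_localization [IsNoetherianRing R] (m : Ideal R) [m.IsPrime]
    (hle : ∀ q : Ideal R, q.IsPrime → q.IsHomogeneous 𝒜 → q ≤ m)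
    (hG : LocCoh.IsGorensteinLocalRing (Localization.AtPrime m)) : LocCoh.IsGorensteinRing R := by
  refine { isGorensteinLocalRing_localization := fun p _ => ?_ }
  haveI hq : (p.homogeneousCore 𝒜).toIdeal.IsPrime := Ideal.IsPrime.homogeneousCore inferInstance
  have h1 := gorenstein_localization_of_le m (p.homogeneousCore 𝒜).toIdeal
    (hle _ hq (p.homogeneousCore 𝒜).isHomogeneous) hG
  exact gorenstein_of_gorenstein_homogeneousCore 𝒜 p _ rfl h1

/-- **a *local Noetherian ℤ-graded ring `(R, m)` with `R_m` Gorenstein is a Gorenstein ring** -/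
theorem isGorensteinRing_of_isStarLocal [IsNoetherianRing R] (m : HomogeneousIdeal 𝒜)
    (hm : GrLC.IsStarLocal 𝒜 m) [m.toIdeal.IsPrime]
    (hG : LocCoh.IsGorensteinLocalRing (Localization.AtPrime m.toIdeal)) :
    LocCoh.IsGorensteinRing R := by
  refine isGorensteinRing_of_localization 𝒜 m.toIdeal ?_ hG
  intro q hq hqh
  have := Groth.Agent.Helper20.GrInj.le_of_isStarLocal m hm ⟨q, hqh⟩ (by
    intro h
    apply hq.ne_top
    have := congrArg HomogeneousIdeal.toIdeal h
    rwa [HomogeneousIdeal.toIdeal_top] at this)
  exact this

end Groth.Agent.Helper20.Lau
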