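import Mathlib
import Groth.Prelude
import Groth.Agent.Lib.Helper20.Lau5
import Groth.Agent.Lib.Helper20.GA7
import Groth.Agent.Lib.Lead.Depth21
import Groth.Agent.Lib.Lead.Cat2
import Groth.Agent.S0343

/-!
# Cohen–Macaulay and Gorenstein: quotients by a regular element, *local graded rings (helper20)
-/

set_option autoImplicit false

open IsLocalRing LocCoh

namespace Groth.Agent.Helper20.RE

universe u

open Groth.Agent.Lead.Depth Groth.Agent.Helper20.GorFlat

section Equiv

/-- the Cohen–Macaulay property is invariant under ring isomorphisms -/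
theorem isCohenMacaulayLocalRing_of_ringEquiv {B C : Type u} [CommRing B] [CommRing C]
    (e : B ≃+* C) [hB : LocCoh.IsCohenMacaulayLocalRing B] :
    LocCoh.IsCohenMacaulayLocalRing C := by
  haveI : IsLocalRing C := e.isLocalRing
  haveI : IsNoetherianRing C := isNoetherianRing_of_ringEquiv B e
  refine { supportDim_eq_depth := ?_ }
  rw [Module.supportDim_self_eq_ringKrullDim, ← ringKrullDim_eq_of_ringEquiv e,
    ← depth_self_eq_of_ringEquiv e, ← Module.supportDim_self_eq_ringKrullDim]
  exact hB.supportDim_eq_depth

theorem isCohenMacaulayLocalRing_iff {B : Type u} [CommRing B] [IsLocalRing B]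
    [IsNoetherianRing B] :
    LocCoh.IsCohenMacaulayLocalRing B ↔
      ringKrullDim B = ((LocCoh.depth B B : ℕ∞) : WithBot ℕ∞) := by
  constructor
  · intro h
    rw [← Module.supportDim_self_eq_ringKrullDim]
    exact h.supportDim_eq_depth
  · intro h
    refine { supportDim_eq_depth := ?_ }
    rw [Module.supportDim_self_eq_ringKrullDim]
    exact h

theorem withBot_enat_add_one_inj {a b : WithBot ℕ∞} : a + 1 = b + 1 ↔ a = b := by
  constructor
  · intro h
    induction a using WithBot.recBotCoe with
    | bot =>
      induction b using WithBot.recBotCoe with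
      | bot => rfl
      | coe b =>
        exfalso
        rw [WithBot.bot_add] at h
        exact WithBot.bot_ne_coe (a := b + 1) (by exact_mod_cast h)
    | coe a =>
      induction b using WithBot.recBotCoe with
      | bot =>
        exfalso
        rw [WithBot.bot_add] at h
        exact WithBot.coe_ne_bot (a := a + 1) (by exact_mod_cast h)
      | coe b =>
        have h' : a + 1 = b + 1 := by exact_mod_cast h
        have : a = b := by
          induction a using ENat.recTopCoe with
          | top =>
            induction b using ENat.recTopCoe with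
            | top => rfl
            | coe b =>
              exfalso
              rw [top_add] at h'
              exact ENat.top_ne_natCast (b + 1) (by exact_mod_cast h')
          | coe a =>
            induction b using ENat.recTopCoe with
            | top =>
              exfalso
              rw [top_add] at h'
              exact ENat.natCast_ne_top (a + 1) (by exact_mod_cast h')
            | coe b =>
              have : a + 1 = b + 1 := by exact_mod_cast h'
              have : a = b := by omega
              rw [this]
        rw [this]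
  · rintro rfl
    rfl

end Equiv

section LocalQuot

variable {B : Type u} [CommRing B] [IsLocalRing B] [IsNoetherianRing B]

/-- a Noetherian local ring is Cohen–Macaulay iff its quotient by a regular element is -/
theorem isCohenMacaulayLocalRing_quotient_iff (f : B) (hf : f ∈ maximalIdeal B)
    (hreg : IsSMulRegular B f) :
    LocCoh.IsCohenMacaulayLocalRing B ↔ LocCoh.IsCohenMacaulayLocalRing (B ⧸ Ideal.span {f}) := by
  have hne : Ideal.span {f} ≠ ⊤ := by
    intro h
    have h1 : (1 : B) ∈ maximalIdeal B := by
      have h2 : Ideal.span {f} ≤ maximalIdeal B := (Ideal.span_singleton_le_iff_mem _).mpr hf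
      exact h2 (h ▸ Submodule.mem_top)
    exact (Ideal.ne_top_iff_one _).mp (maximalIdeal.isMaximal B).ne_top h1
  haveI : Nontrivial (B ⧸ Ideal.span {f}) := Ideal.Quotient.nontrivial_iff.mpr hne
  haveI : IsLocalRing (B ⧸ Ideal.span {f}) :=
    IsLocalRing.of_surjective' (Ideal.Quotient.mk (Ideal.span {f})) Ideal.Quotient.mk_surjective
  rw [isCohenMacaulayLocalRing_iff, isCohenMacaulayLocalRing_iff]
  have h1 := ringKrullDim_quotient_span_singleton_succ_eq_ringKrullDim hreg hf
  have h2 := idealDepth_quotient_span_singleton_self_add_one (maximalIdeal B)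
    (maximalIdeal.isMaximal B).ne_top f hf hreg
  have h3 : LocCoh.depth B (B ⧸ Ideal.span {f}) =
      LocCoh.depth (B ⧸ Ideal.span {f}) (B ⧸ Ideal.span {f}) :=
    depth_eq_of_surjective (R₁ := B) (R₂ := B ⧸ Ideal.span {f}) Ideal.Quotient.mk_surjective _
  rw [← depth_def, ← depth_def, h3] at h2
  rw [← h1, ← h2, ← withBot_enat_add_one_inj (a := ringKrullDim (B ⧸ Ideal.span {f}))]
  push_cast
  rfl

end LocalQuot

section Quot

variable {B : Type u} [CommRing B]

/-- `(B/t)_{q/t} ≅ B_q/(t)` -/
theorem nonempty_quotLocEquiv (t : B) (q : Ideal B) [q.IsPrime] (htq : t ∈ q)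
    [(q.map (Ideal.Quotient.mk (Ideal.span {t}))).IsPrime] :
    Nonempty (Localization.AtPrime (q.map (Ideal.Quotient.mk (Ideal.span {t}))) ≃+*
      (Localization.AtPrime q ⧸ Ideal.span {algebraMap B (Localization.AtPrime q) t})) := by
  have hIq : Ideal.span {t} ≤ q := (Ideal.span_singleton_le_iff_mem q).mpr htq
  have h1 : IsLocalization (Algebra.algebraMapSubmonoid (B ⧸ Ideal.span {t}) q.primeCompl)
      (Localization.AtPrime q ⧸ (Ideal.span {t}).map (algebraMap B (Localization.AtPrime q))) :=
    inferInstance
  rw [algebraMapSubmonoid_quotient_primeCompl (Ideal.span {t}) q hIq] at h1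
  haveI hloc : IsLocalization.AtPrime
      (Localization.AtPrime q ⧸ (Ideal.span {t}).map (algebraMap B (Localization.AtPrime q)))
      (q.map (Ideal.Quotient.mk (Ideal.span {t}))) := h1
  have e := IsLocalization.algEquiv (q.map (Ideal.Quotient.mk (Ideal.span {t}))).primeCompl
    (Localization.AtPrime (q.map (Ideal.Quotient.mk (Ideal.span {t}))))
    (Localization.AtPrime q ⧸ (Ideal.span {t}).map (algebraMap B (Localization.AtPrime q)))
  have h3 : (Ideal.span {t}).map (algebraMap B (Localization.AtPrime q)) =
      Ideal.span {algebraMap B (Localization.AtPrime q) t} := by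
    rw [Ideal.map_span, Set.image_singleton]
  exact ⟨e.toRingEquiv.trans (Ideal.quotEquivOfEq h3)⟩

variable [IsNoetherianRing B]

theorem isSMulRegular_algebraMap_localization (t : B) (ht : t ∈ nonZeroDivisors B) (q : Ideal B)
    [q.IsPrime] :
    IsSMulRegular (Localization.AtPrime q) (algebraMap B (Localization.AtPrime q) t) :=
  IsSMulRegular.of_isLocalization (Localization.AtPrime q) q.primeCompl
    ((isRegular_iff_mem_nonZeroDivisors.mpr ht).left.isSMulRegular)

/-- Gorenstein at `q/t` iff Gorenstein at `q` -/
theorem gorenstein_quotient_localization_iff (t : B) (ht : t ∈ nonZeroDivisors B) (q : Ideal B)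
    [q.IsPrime] (htq : t ∈ q) [(q.map (Ideal.Quotient.mk (Ideal.span {t}))).IsPrime] :
    LocCoh.IsGorensteinLocalRing
        (Localization.AtPrime (q.map (Ideal.Quotient.mk (Ideal.span {t})))) ↔
      LocCoh.IsGorensteinLocalRing (Localization.AtPrime q) := by
  obtain ⟨e⟩ := nonempty_quotLocEquiv t q htq
  rw [Groth.Agent.S0343.result (Localization.AtPrime q) (algebraMap B (Localization.AtPrime q) t)
    ((IsLocalization.AtPrime.to_map_mem_maximal_iff _ q t).mpr htq)
    (isSMulRegular_algebraMap_localization t ht q)]
  exact ⟨fun h => isGorensteinLocalRing_of_ringEquiv e,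
    fun h => isGorensteinLocalRing_of_ringEquiv e.symm⟩

/-- Cohen–Macaulay at `q/t` iff Cohen–Macaulay at `q` -/
theorem cm_quotient_localization_iff (t : B) (ht : t ∈ nonZeroDivisors B) (q : Ideal B)
    [q.IsPrime] (htq : t ∈ q) [(q.map (Ideal.Quotient.mk (Ideal.span {t}))).IsPrime] :
    LocCoh.IsCohenMacaulayLocalRing
        (Localization.AtPrime (q.map (Ideal.Quotient.mk (Ideal.span {t})))) ↔
      LocCoh.IsCohenMacaulayLocalRing (Localization.AtPrime q) := by
  obtain ⟨e⟩ := nonempty_quotLocEquiv t q htq
  rw [isCohenMacaulayLocalRing_quotient_iff (algebraMap B (Localization.AtPrime q) t)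
    ((IsLocalization.AtPrime.to_map_mem_maximal_iff _ q t).mpr htq)
    (isSMulRegular_algebraMap_localization t ht q)]
  exact ⟨fun h => isCohenMacaulayLocalRing_of_ringEquiv e,
    fun h => isCohenMacaulayLocalRing_of_ringEquiv e.symm⟩

theorem gorenstein_localization_congr {C : Type u} [CommRing C] {q q' : Ideal C} [q.IsPrime]
    [q'.IsPrime] (h : q = q') (hG : LocCoh.IsGorensteinLocalRing (Localization.AtPrime q)) :
    LocCoh.IsGorensteinLocalRing (Localization.AtPrime q') := by
  subst h
  exact hG

theorem cm_localization_congr {C : Type u} [CommRing C] {q q' : Ideal C} [q.IsPrime]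
    [q'.IsPrime] (h : q = q') (hG : LocCoh.IsCohenMacaulayLocalRing (Localization.AtPrime q)) :
    LocCoh.IsCohenMacaulayLocalRing (Localization.AtPrime q') := by
  subst h
  exact hG

/-- the quotient of a Gorenstein ring by a regular element is Gorenstein -/
theorem isGorensteinRing_quotient (t : B) (ht : t ∈ nonZeroDivisors B)
    (hB : LocCoh.IsGorensteinRing B) : LocCoh.IsGorensteinRing (B ⧸ Ideal.span {t}) := by
  refine { isGorensteinLocalRing_localization := ?_ }
  intro Q hQ
  haveI hq : (Q.comap (Ideal.Quotient.mk (Ideal.span {t}))).IsPrime := Ideal.comap_isPrime _ _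
  have hmap : (Q.comap (Ideal.Quotient.mk (Ideal.span {t}))).map
      (Ideal.Quotient.mk (Ideal.span {t})) = Q :=
    Ideal.map_comap_of_surjective _ Ideal.Quotient.mk_surjective Q
  haveI : ((Q.comap (Ideal.Quotient.mk (Ideal.span {t}))).map
      (Ideal.Quotient.mk (Ideal.span {t}))).IsPrime := by rw [hmap]; exact hQ
  have htq : t ∈ Q.comap (Ideal.Quotient.mk (Ideal.span {t})) := by
    rw [Ideal.mem_comap]
    have : Ideal.Quotient.mk (Ideal.span {t}) t = 0 :=
      Ideal.Quotient.eq_zero_iff_mem.mpr (Ideal.mem_span_singleton_self t)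
    rw [this]
    exact Ideal.zero_mem _
  exact gorenstein_localization_congr hmap
    ((gorenstein_quotient_localization_iff t ht _ htq).mpr
      (hB.isGorensteinLocalRing_localization _))

/-- the quotient of a Cohen–Macaulay ring by a regular element is Cohen–Macaulay -/
theorem isCohenMacaulayRing_quotient (t : B) (ht : t ∈ nonZeroDivisors B)
    (hB : LocCoh.IsCohenMacaulayRing B) : LocCoh.IsCohenMacaulayRing (B ⧸ Ideal.span {t}) := by
  refine { isCohenMacaulayLocalRing_localization := ?_ }
  intro Q hQ
  haveI hq : (Q.comap (Ideal.Quotient.mk (Ideal.span {t}))).IsPrime := Ideal.comap_isPrime _ _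
  have hmap : (Q.comap (Ideal.Quotient.mk (Ideal.span {t}))).map
      (Ideal.Quotient.mk (Ideal.span {t})) = Q :=
    Ideal.map_comap_of_surjective _ Ideal.Quotient.mk_surjective Q
  haveI : ((Q.comap (Ideal.Quotient.mk (Ideal.span {t}))).map
      (Ideal.Quotient.mk (Ideal.span {t}))).IsPrime := by rw [hmap]; exact hQ
  have htq : t ∈ Q.comap (Ideal.Quotient.mk (Ideal.span {t})) := by
    rw [Ideal.mem_comap]
    have : Ideal.Quotient.mk (Ideal.span {t}) t = 0 :=
      Ideal.Quotient.eq_zero_iff_mem.mpr (Ideal.mem_span_singleton_self t)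
    rw [this]
    exact Ideal.zero_mem _
  exact cm_localization_congr hmap
    ((cm_quotient_localization_iff t ht _ htq).mpr
      (hB.isCohenMacaulayLocalRing_localization _))

end Quot

end Groth.Agent.Helper20.RE
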