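import Mathlib
import Groth.Prelude
import Groth.Agent.Lib.Lead.Depth4
import Groth.Agent.Lib.Lead.Depth8
import Groth.Agent.Lib.Lead.Depth21
import Groth.Agent.Lib.Helper20.RE3

/-!
# `L/(a ∩ b)` is Cohen–Macaulay when `L/a`, `L/b`, `L/(a+b)` are, of dimensions `e, e, e-1` (helper20)
-/

set_option autoImplicit false

open LocCoh IsLocalRing

namespace Groth.Agent.Helper20.CMInf

universe u

section Order

variable {α : Type*} [Preorder α]

theorem krullDim_union_le (s t : Set α) (hs : IsUpperSet s) (ht : IsUpperSet t) :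
    Order.krullDim ↥(s ∪ t) ≤ max (Order.krullDim ↥s) (Order.krullDim ↥t) := by
  unfold Order.krullDim
  apply iSup_le
  intro p
  have hmono : ∀ i, p.head ≤ p i := fun i => LTSeries.head_le p i
  rcases p.head.2 with h | h
  · refine le_trans ?_ (le_max_left _ _)
    let q : LTSeries ↥s :=
      { length := p.length
        toFun := fun i => ⟨(p i).1, hs (hmono i) h⟩
        step := fun i => p.step i }
    exact le_iSup (fun q : LTSeries ↥s => (q.length : WithBot ℕ∞)) q
  · refine le_trans ?_ (le_max_right _ _)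
    let q : LTSeries ↥t :=
      { length := p.length
        toFun := fun i => ⟨(p i).1, ht (hmono i) h⟩
        step := fun i => p.step i }
    exact le_iSup (fun q : LTSeries ↥t => (q.length : WithBot ℕ∞)) q

end Order

section Dim

variable {L : Type u} [CommRing L]

theorem ringKrullDim_quotient_inf_le (a b : Ideal L) :
    ringKrullDim (L ⧸ (a ⊓ b)) ≤ max (ringKrullDim (L ⧸ a)) (ringKrullDim (L ⧸ b)) := by
  rw [ringKrullDim_quotient, ringKrullDim_quotient, ringKrullDim_quotient,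
    PrimeSpectrum.zeroLocus_inf]
  apply krullDim_union_le
  · intro x y hxy hx
    exact le_trans (show (a : Set L) ⊆ x.asIdeal from hx) hxy
  · intro x y hxy hx
    exact le_trans (show (b : Set L) ⊆ x.asIdeal from hx) hxy

end Dim

section Exact

variable {L : Type u} [CommRing L] (a b : Ideal L)

/-- `L/(a ∩ b) → L/a × L/b` -/
noncomputable def fMap : (L ⧸ (a ⊓ b)) →ₗ[L] (L ⧸ a) × (L ⧸ b) :=
  LinearMap.prod (Submodule.mapQ (a ⊓ b) a LinearMap.id (fun _ hx => hx.1))
    (Submodule.mapQ (a ⊓ b) b LinearMap.id (fun _ hx => hx.2))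

/-- `L/a × L/b → L/(a + b)` -/
noncomputable def gMap : (L ⧸ a) × (L ⧸ b) →ₗ[L] (L ⧸ (a ⊔ b)) :=
  LinearMap.coprod (Submodule.mapQ a (a ⊔ b) LinearMap.id (fun _ hx => Submodule.mem_sup_left hx))
    (-(Submodule.mapQ b (a ⊔ b) LinearMap.id (fun _ hx => Submodule.mem_sup_right hx)))

theorem fMap_mk (x : L) :
    fMap a b (Submodule.Quotient.mk x) = (Submodule.Quotient.mk x, Submodule.Quotient.mk x) := rfl

theorem gMap_mk (x y : L) :
    gMap a b (Submodule.Quotient.mk x, Submodule.Quotient.mk y) =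
      Submodule.Quotient.mk (x - y) := by
  unfold gMap
  rw [LinearMap.coprod_apply, LinearMap.neg_apply, Submodule.mapQ_apply, Submodule.mapQ_apply,
    LinearMap.id_apply, LinearMap.id_apply, Submodule.Quotient.mk_sub, sub_eq_add_neg]

theorem fMap_injective : Function.Injective (fMap a b) := by
  rw [← LinearMap.ker_eq_bot, LinearMap.ker_eq_bot']
  intro x hx
  obtain ⟨y, rfl⟩ := Submodule.Quotient.mk_surjective _ x
  rw [fMap_mk, Prod.mk_eq_zero] at hx
  rw [Submodule.Quotient.mk_eq_zero]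
  exact ⟨(Submodule.Quotient.mk_eq_zero _).1 hx.1, (Submodule.Quotient.mk_eq_zero _).1 hx.2⟩

theorem gMap_surjective : Function.Surjective (gMap a b) := by
  intro z
  obtain ⟨y, rfl⟩ := Submodule.Quotient.mk_surjective _ z
  refine ⟨(Submodule.Quotient.mk y, Submodule.Quotient.mk 0), ?_⟩
  rw [gMap_mk, sub_zero]

theorem exact_fMap_gMap : Function.Exact (fMap a b) (gMap a b) := by
  intro z
  constructor
  · intro hz
    obtain ⟨z1, z2⟩ := z
    obtain ⟨x, rfl⟩ := Submodule.Quotient.mk_surjective _ z1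
    obtain ⟨y, rfl⟩ := Submodule.Quotient.mk_surjective _ z2
    rw [gMap_mk, Submodule.Quotient.mk_eq_zero] at hz
    obtain ⟨α, hα, β, hβ, hαβ⟩ := Submodule.mem_sup.1 hz
    refine ⟨Submodule.Quotient.mk (x - α), ?_⟩
    rw [fMap_mk]
    refine Prod.ext ?_ ?_
    · show (Submodule.Quotient.mk (x - α) : L ⧸ a) = Submodule.Quotient.mk x
      rw [Submodule.Quotient.eq]
      have : x - α - x = -α := by ring
      rw [this]
      exact a.neg_mem hα
    · show (Submodule.Quotient.mk (x - α) : L ⧸ b) = Submodule.Quotient.mk y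
      rw [Submodule.Quotient.eq]
      have : x - α - y = β := by
        have h1 : x - α - y = (x - y) - α := by ring
        rw [h1, ← hαβ]; ring
      rw [this]
      exact hβ
  · rintro ⟨w, rfl⟩
    obtain ⟨x, rfl⟩ := Submodule.Quotient.mk_surjective _ w
    rw [fMap_mk, gMap_mk, sub_self, Submodule.Quotient.mk_zero]

end Exact

section Main

variable {L : Type u} [CommRing L] [IsLocalRing L] [IsNoetherianRing L]

open Groth.Agent.Lead.Depth Groth.Agent.Helper20.RE

theorem depth_quotient_eq (a : Ideal L) (e : ℕ) [ha : IsCohenMacaulayLocalRing (L ⧸ a)]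
    (hda : ringKrullDim (L ⧸ a) = (e : WithBot ℕ∞)) :
    idealDepth (maximalIdeal L) (L ⧸ a) = (e : ℕ∞) := by
  have h1 : LocCoh.depth L (L ⧸ a) = LocCoh.depth (L ⧸ a) (L ⧸ a) :=
    depth_eq_of_surjective (R₁ := L) (R₂ := L ⧸ a) Ideal.Quotient.mk_surjective (L ⧸ a)
  have h2 := (isCohenMacaulayLocalRing_iff (B := L ⧸ a)).1 ha
  rw [hda] at h2
  have h3 : (e : ℕ∞) = LocCoh.depth (L ⧸ a) (L ⧸ a) := by exact_mod_cast h2
  rw [← depth_def, h1, ← h3]

theorem main (a b : Ideal L) (e : ℕ) (he : 1 ≤ e)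
    [ha : IsCohenMacaulayLocalRing (L ⧸ a)] [hb : IsCohenMacaulayLocalRing (L ⧸ b)]
    [hab : IsCohenMacaulayLocalRing (L ⧸ (a ⊔ b))]
    (hda : ringKrullDim (L ⧸ a) = (e : WithBot ℕ∞))
    (hdb : ringKrullDim (L ⧸ b) = (e : WithBot ℕ∞))
    (hdab : ringKrullDim (L ⧸ (a ⊔ b)) = ((e - 1 : ℕ) : WithBot ℕ∞)) :
    ∃ (_ : IsCohenMacaulayLocalRing (L ⧸ (a ⊓ b))),
      ringKrullDim (L ⧸ (a ⊓ b)) = (e : WithBot ℕ∞) := by
  have hant : a ≠ ⊤ := by
    intro h
    haveI : Nontrivial (L ⧸ a) := ha.toIsLocalRing.toNontrivial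
    exact (Ideal.Quotient.nontrivial_iff.1 this) h
  haveI : Nontrivial (L ⧸ (a ⊓ b)) :=
    Ideal.Quotient.nontrivial_iff.2 (fun h => hant (top_le_iff.1 (h ▸ inf_le_left)))
  haveI : IsLocalRing (L ⧸ (a ⊓ b)) :=
    IsLocalRing.of_surjective' (Ideal.Quotient.mk (a ⊓ b)) Ideal.Quotient.mk_surjective
  have d1 := depth_quotient_eq a e hda
  have d2 := depth_quotient_eq b e hdb
  have d3 := depth_quotient_eq (a ⊔ b) (e - 1) hdab
  -- depth of the product
  have d4 : (e : ℕ∞) ≤ idealDepth (maximalIdeal L) ((L ⧸ a) × (L ⧸ b)) := by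
    have := (idealDepth_shortExact (maximalIdeal L) (L ⧸ a) ((L ⧸ a) × (L ⧸ b)) (L ⧸ b)
      (LinearMap.inl L (L ⧸ a) (L ⧸ b)) (LinearMap.snd L (L ⧸ a) (L ⧸ b))
      LinearMap.inl_injective LinearMap.snd_surjective (by
        intro z
        constructor
        · intro hz
          exact ⟨z.1, Prod.ext rfl (by simpa using hz.symm)⟩
        · rintro ⟨w, rfl⟩
          rfl)).1
    rw [d1, d2, min_self] at this
    exact this
  have d5 : (e : ℕ∞) ≤ idealDepth (maximalIdeal L) (L ⧸ (a ⊓ b)) := by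
    have := (idealDepth_shortExact (maximalIdeal L) (L ⧸ (a ⊓ b)) ((L ⧸ a) × (L ⧸ b))
      (L ⧸ (a ⊔ b)) (fMap a b) (gMap a b) (fMap_injective a b) (gMap_surjective a b)
      (exact_fMap_gMap a b)).2.2
    rw [d3] at this
    refine le_trans (le_min d4 ?_) this
    have : ((e - 1 : ℕ) : ℕ∞) + 1 = (e : ℕ∞) := by
      have : e - 1 + 1 = e := Nat.sub_add_cancel he
      exact_mod_cast this
    rw [this]
  have d6 : LocCoh.depth L (L ⧸ (a ⊓ b)) = LocCoh.depth (L ⧸ (a ⊓ b)) (L ⧸ (a ⊓ b)) :=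
    depth_eq_of_surjective (R₁ := L) (R₂ := L ⧸ (a ⊓ b)) Ideal.Quotient.mk_surjective
      (L ⧸ (a ⊓ b))
  rw [← depth_def, d6] at d5
  have d7 : ringKrullDim (L ⧸ (a ⊓ b)) ≤ (e : WithBot ℕ∞) := by
    have := ringKrullDim_quotient_inf_le a b
    rwa [hda, hdb, max_self] at this
  have d8 := depth_self_le_ringKrullDim (R := L ⧸ (a ⊓ b))
  have d9 : ((e : ℕ∞) : WithBot ℕ∞) ≤ ((LocCoh.depth (L ⧸ (a ⊓ b)) (L ⧸ (a ⊓ b)) : ℕ∞) :
      WithBot ℕ∞) := by exact_mod_cast d5
  have d10 : ringKrullDim (L ⧸ (a ⊓ b)) = (e : WithBot ℕ∞) :=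
    le_antisymm d7 (le_trans (by exact_mod_cast d9) d8)
  refine ⟨(isCohenMacaulayLocalRing_iff (B := L ⧸ (a ⊓ b))).2 ?_, d10⟩
  exact le_antisymm (by rw [d10]; exact_mod_cast d9) d8

end Main

end Groth.Agent.Helper20.CMInf
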