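import Mathlib
import Groth.Prelude
import Groth.Agent.Lib.Helper20.GrInj2

/-!
# The quotient of a graded ring by a homogeneous ideal, as a graded ring (helper20)
-/

set_option autoImplicit false

open DirectSum

namespace Groth.Agent.Helper20.GrQuot

open Groth.Agent.Helper20.GrInj

universe u

variable {ι : Type} [AddCommGroup ι] [DecidableEq ι] {R : Type u} [CommRing R]
  (𝒜 : ι → AddSubgroup R) [GradedRing 𝒜] (I : Ideal R)

/-- the pieces of the quotient ring -/
def quotGrR : ι → AddSubgroup (R ⧸ I) := fun g => (𝒜 g).map (Ideal.Quotient.mk I).toAddMonoidHom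

omit [AddCommGroup ι] [DecidableEq ι] [GradedRing 𝒜] in
theorem mem_quotGrR {g : ι} {x : R ⧸ I} :
    x ∈ quotGrR 𝒜 I g ↔ ∃ y ∈ 𝒜 g, Ideal.Quotient.mk I y = x := Iff.rfl

omit [DecidableEq ι] in
instance quotGrR_gradedMonoid : SetLike.GradedMonoid (quotGrR 𝒜 I) where
  one_mem := (mem_quotGrR 𝒜 I).2 ⟨1, SetLike.GradedOne.one_mem, map_one _⟩
  mul_mem := by
    intro i j a b ha hb
    rw [mem_quotGrR] at ha hb ⊢
    obtain ⟨x, hx, rfl⟩ := ha
    obtain ⟨y, hy, rfl⟩ := hb
    exact ⟨x * y, SetLike.GradedMul.mul_mem hx hy, map_mul _ _ _⟩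

variable (hI : I.IsHomogeneous 𝒜)

include hI in
theorem quotGrR_isInternal : DirectSum.IsInternal (quotGrR 𝒜 I) :=
  quotGrM_isInternal 𝒜 (I : Submodule R R) hI

/-- the quotient of a graded ring by a homogeneous ideal is a graded ring -/
@[instance_reducible]
noncomputable def quotGradedRing : GradedRing (quotGrR 𝒜 I) :=
  { quotGrR_gradedMonoid 𝒜 I with
    toDecomposition := (quotGrR_isInternal 𝒜 I hI).chooseDecomposition }

theorem decompose_mk (x : R) (n : ι) :
    letI := quotGradedRing 𝒜 I hI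
    (decompose (quotGrR 𝒜 I) (Ideal.Quotient.mk I x) n : R ⧸ I) =
      Ideal.Quotient.mk I (decompose 𝒜 x n : R) := by
  classical
  letI := quotGradedRing 𝒜 I hI
  have h1 : Ideal.Quotient.mk I x =
      ∑ i ∈ (decompose 𝒜 x).support, Ideal.Quotient.mk I (decompose 𝒜 x i : R) := by
    rw [← map_sum, sum_support_decompose 𝒜 x]
  have hmem : ∀ i, Ideal.Quotient.mk I (decompose 𝒜 x i : R) ∈ quotGrR 𝒜 I i :=
    fun i => (mem_quotGrR 𝒜 I).2 ⟨_, (decompose 𝒜 x i).2, rfl⟩
  conv_lhs => rw [h1]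
  rw [decompose_sum, DFinsupp.finsetSum_apply, AddSubmonoidClass.coe_finsetSum]
  by_cases hn : n ∈ (decompose 𝒜 x).support
  · rw [Finset.sum_eq_single n]
    · rw [decompose_of_mem_same _ (hmem n)]
    · intro j _ hj
      rw [decompose_of_mem_ne _ (hmem j) hj]
    · intro h
      exact absurd hn h
  · rw [Finset.sum_eq_zero]
    · rw [DFinsupp.notMem_support_iff] at hn
      rw [hn]
      simp
    · intro j hj
      have hjn : j ≠ n := fun h => hn (h ▸ hj)
      rw [decompose_of_mem_ne _ (hmem j) hjn]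

end Groth.Agent.Helper20.GrQuot
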