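import Mathlib

/-!
# Extending an `ℕ`-grading of a ring to a `ℤ`-grading by additive subgroups (helper20)
-/

open DirectSum

namespace Groth.Agent.Helper20.NatInt

variable {A : Type*} [CommRing A] {σ : Type*} [SetLike σ A] [AddSubgroupClass σ A]
  (𝒜 : ℕ → σ)

/-- the `ℤ`-grading extending an `ℕ`-grading by zero in negative degrees -/
def intGr : ℤ → AddSubgroup A := fun n =>
  if 0 ≤ n then AddSubgroup.ofClass (𝒜 n.toNat) else ⊥

theorem mem_intGr_natCast {n : ℕ} {x : A} : x ∈ intGr 𝒜 (n : ℤ) ↔ x ∈ 𝒜 n := by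
  unfold intGr
  rw [if_pos (Int.natCast_nonneg n), Int.toNat_natCast]
  rfl

theorem mem_intGr_of_neg {n : ℤ} (hn : n < 0) {x : A} : x ∈ intGr 𝒜 n ↔ x = 0 := by
  unfold intGr
  rw [if_neg (not_le.2 hn)]
  exact AddSubgroup.mem_bot

theorem mem_intGr_iff {n : ℤ} {x : A} :
    x ∈ intGr 𝒜 n ↔ (0 ≤ n ∧ x ∈ 𝒜 n.toNat) ∨ (n < 0 ∧ x = 0) := by
  by_cases hn : 0 ≤ n
  · obtain ⟨k, rfl⟩ := Int.eq_ofNat_of_zero_le hn
    rw [mem_intGr_natCast, Int.toNat_natCast]
    constructor
    · intro h; exact Or.inl ⟨hn, h⟩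
    · rintro (h | h)
      · exact h.2
      · exact absurd h.1 (not_lt.2 hn)
  · rw [mem_intGr_of_neg 𝒜 (not_le.1 hn)]
    constructor
    · intro h; exact Or.inr ⟨not_le.1 hn, h⟩
    · rintro (h | h)
      · exact absurd h.1 hn
      · exact h.2

variable [GradedRing 𝒜]

instance intGr_gradedMonoid : SetLike.GradedMonoid (intGr 𝒜) where
  one_mem := by
    have : (1 : A) ∈ intGr 𝒜 ((0 : ℕ) : ℤ) :=
      (mem_intGr_natCast 𝒜).2 (SetLike.GradedOne.one_mem (A := 𝒜))
    simpa using this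
  mul_mem := by
    intro i j x y hx hy
    rw [mem_intGr_iff] at hx hy
    rcases hx with ⟨hi, hx⟩ | ⟨hi, rfl⟩
    · rcases hy with ⟨hj, hy⟩ | ⟨hj, rfl⟩
      · obtain ⟨a, rfl⟩ := Int.eq_ofNat_of_zero_le hi
        obtain ⟨b, rfl⟩ := Int.eq_ofNat_of_zero_le hj
        rw [Int.toNat_natCast] at hx hy
        have h := SetLike.GradedMul.mul_mem (A := 𝒜) hx hy
        have : x * y ∈ intGr 𝒜 ((a + b : ℕ) : ℤ) := (mem_intGr_natCast 𝒜).2 h
        rwa [Nat.cast_add] at this
      · rw [mul_zero]; exact zero_mem _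
    · rw [zero_mul]; exact zero_mem _

/-- the decomposition map -/
noncomputable def decFun : A →+ ⨁ n : ℤ, intGr 𝒜 n :=
  (DirectSum.toAddMonoid (fun n : ℕ =>
    (DirectSum.of (fun n : ℤ => intGr 𝒜 n) (n : ℤ)).comp
      ({ toFun := fun x => ⟨(x : A), (mem_intGr_natCast 𝒜).2 x.2⟩
         map_zero' := rfl
         map_add' := fun _ _ => rfl } : 𝒜 n →+ intGr 𝒜 (n : ℤ)))).comp
    (DirectSum.decomposeAddEquiv 𝒜).toAddMonoidHom

theorem decFun_of_mem {n : ℕ} {x : A} (hx : x ∈ 𝒜 n) :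
    decFun 𝒜 x = DirectSum.of (fun n : ℤ => intGr 𝒜 n) (n : ℤ) ⟨x, (mem_intGr_natCast 𝒜).2 hx⟩ := by
  unfold decFun
  simp only [AddMonoidHom.coe_comp, Function.comp_apply, AddEquiv.coe_toAddMonoidHom,
    DirectSum.decomposeAddEquiv_apply]
  rw [DirectSum.decompose_of_mem 𝒜 hx, DirectSum.toAddMonoid_of]
  rfl

theorem coeAddMonoidHom_decFun (x : A) :
    DirectSum.coeAddMonoidHom (intGr 𝒜) (decFun 𝒜 x) = x := by
  classical
  induction x using DirectSum.Decomposition.inductionOn 𝒜 with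
  | zero => simp
  | homogeneous x =>
    rename_i i
    rw [decFun_of_mem 𝒜 x.2, DirectSum.coeAddMonoidHom_of]
  | add x y hx hy => rw [map_add, map_add, hx, hy]

theorem decFun_coeAddMonoidHom (x : ⨁ n : ℤ, intGr 𝒜 n) :
    decFun 𝒜 (DirectSum.coeAddMonoidHom (intGr 𝒜) x) = x := by
  classical
  induction x using DirectSum.induction_on with
  | zero => simp
  | of n x =>
    rw [DirectSum.coeAddMonoidHom_of]
    by_cases hn : 0 ≤ n
    · obtain ⟨k, rfl⟩ := Int.eq_ofNat_of_zero_le hn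
      rw [decFun_of_mem 𝒜 ((mem_intGr_natCast 𝒜).1 x.2)]
    · have h0 : (x : A) = 0 := (mem_intGr_of_neg 𝒜 (not_le.1 hn)).1 x.2
      have hx : x = 0 := Subtype.ext h0
      rw [hx]
      simp
  | add x y hx hy => rw [map_add, map_add, hx, hy]

noncomputable instance intGr_decomposition : DirectSum.Decomposition (intGr 𝒜) where
  decompose' := decFun 𝒜
  left_inv := coeAddMonoidHom_decFun 𝒜
  right_inv := decFun_coeAddMonoidHom 𝒜

noncomputable instance intGr_gradedRing : GradedRing (intGr 𝒜) :=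
  { intGr_gradedMonoid 𝒜, intGr_decomposition 𝒜 with }

theorem decompose_intGr_natCast (x : A) (n : ℕ) :
    (decompose (intGr 𝒜) x (n : ℤ) : A) = (decompose 𝒜 x n : A) := by
  classical
  induction x using DirectSum.Decomposition.inductionOn 𝒜 with
  | zero => simp
  | homogeneous x =>
    rename_i i
    have hx : (x : A) ∈ intGr 𝒜 (i : ℤ) := (mem_intGr_natCast 𝒜).2 x.2
    by_cases hin : i = n
    · subst hin
      rw [DirectSum.decompose_of_mem_same _ hx, DirectSum.decompose_of_mem_same _ x.2]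
    · rw [DirectSum.decompose_of_mem_ne _ hx (by exact_mod_cast hin),
        DirectSum.decompose_of_mem_ne _ x.2 hin]
  | add x y hx hy =>
    rw [decompose_add, decompose_add, DirectSum.add_apply, DirectSum.add_apply,
      AddMemClass.coe_add, AddMemClass.coe_add, hx, hy]

theorem decompose_intGr_of_neg (x : A) {n : ℤ} (hn : n < 0) :
    (decompose (intGr 𝒜) x n : A) = 0 :=
  (mem_intGr_of_neg 𝒜 hn).1 (decompose (intGr 𝒜) x n).2

theorem isHomogeneous_intGr_iff (I : Ideal A) :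
    I.IsHomogeneous (intGr 𝒜) ↔ I.IsHomogeneous 𝒜 := by
  constructor
  · intro h n r hr
    have := h (n : ℤ) hr
    rwa [decompose_intGr_natCast] at this
  · intro h n r hr
    by_cases hn : 0 ≤ n
    · obtain ⟨k, rfl⟩ := Int.eq_ofNat_of_zero_le hn
      rw [decompose_intGr_natCast]
      exact h k hr
    · rw [decompose_intGr_of_neg 𝒜 r (not_le.1 hn)]
      exact zero_mem _

end Groth.Agent.Helper20.NatInt
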