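import Mathlib
import Groth.Prelude
import Groth.Agent.Lib.Helper20.NatInt
import Groth.Agent.Lib.Helper20.GrQuot1
import Groth.Agent.Lib.Helper20.GrHt4

/-!
# `dim A/X = ht (A₊/X)` for an `ℕ`-graded Noetherian ring with `A₀` a field, `X` homogeneous (helper20)
-/

set_option autoImplicit false

open DirectSum

namespace Groth.Agent.Helper20.NatInt

open Groth.Agent.Helper20.GrQuot Groth.Agent.Helper20.GrInj

universe u

variable {A : Type u} [CommRing A] {σ : Type*} [SetLike σ A] [AddSubgroupClass σ A]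
  (𝒜 : ℕ → σ) [GradedRing 𝒜]

theorem sub_decompose_zero_mem_irrelevant (x : A) :
    x - (decompose 𝒜 x 0 : A) ∈ (HomogeneousIdeal.irrelevant 𝒜).toIdeal := by
  change (decompose 𝒜 (x - (decompose 𝒜 x 0 : A)) 0 : A) = 0
  rw [decompose_sub, DirectSum.sub_apply, AddSubgroupClass.coe_sub,
    DirectSum.decompose_of_mem_same 𝒜 (decompose 𝒜 x 0).2, sub_self]

theorem mem_irrelevant_of_decompose_zero {x : A} (h : (decompose 𝒜 x 0 : A) = 0) :
    x ∈ (HomogeneousIdeal.irrelevant 𝒜).toIdeal := by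
  exact h

theorem decompose_zero_of_mem_irrelevant {x : A}
    (h : x ∈ (HomogeneousIdeal.irrelevant 𝒜).toIdeal) : (decompose 𝒜 x 0 : A) = 0 := by
  exact h

variable (h0 : ∀ a ∈ 𝒜 0, a ≠ 0 → IsUnit a) (X : Ideal A) (hX : X.IsHomogeneous 𝒜) (hXt : X ≠ ⊤)

include h0 hX hXt in
theorem irrelevant_map_isMaximal :
    ((HomogeneousIdeal.irrelevant 𝒜).toIdeal.map (Ideal.Quotient.mk X)).IsMaximal := by
  rw [Ideal.isMaximal_iff]
  constructor
  · intro h1
    rw [Ideal.mem_map_iff_of_surjective _ Ideal.Quotient.mk_surjective] at h1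
    obtain ⟨y, hy, hy1⟩ := h1
    have h2 : y - 1 ∈ X := by
      rw [← Ideal.Quotient.eq, hy1, map_one]
    have h3 := hX 0 h2
    rw [decompose_sub, DirectSum.sub_apply, AddSubgroupClass.coe_sub,
      decompose_zero_of_mem_irrelevant 𝒜 hy,
      DirectSum.decompose_of_mem_same 𝒜 (SetLike.GradedOne.one_mem (A := 𝒜)), zero_sub] at h3
    apply hXt
    rw [Ideal.eq_top_iff_one]
    have := X.neg_mem h3
    rwa [neg_neg] at this
  · intro J x hJ hx hxJ
    obtain ⟨y, rfl⟩ := Ideal.Quotient.mk_surjective x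
    have h1 : Ideal.Quotient.mk X (y - (decompose 𝒜 y 0 : A)) ∈ J :=
      hJ (Ideal.mem_map_of_mem _ (sub_decompose_zero_mem_irrelevant 𝒜 y))
    have h2 : Ideal.Quotient.mk X (decompose 𝒜 y 0 : A) ∈ J := by
      have := J.sub_mem hxJ h1
      rwa [← map_sub, sub_sub_cancel] at this
    have h3 : (decompose 𝒜 y 0 : A) ≠ 0 := by
      intro h
      exact hx (Ideal.mem_map_of_mem _ (mem_irrelevant_of_decompose_zero 𝒜 h))
    have h4 : IsUnit (Ideal.Quotient.mk X (decompose 𝒜 y 0 : A)) :=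
      (h0 _ (decompose 𝒜 y 0).2 h3).map _
    rw [← Ideal.eq_top_iff_one]
    exact Ideal.eq_top_of_isUnit_mem _ h2 h4

theorem isHomogeneous_intGr (hX : X.IsHomogeneous 𝒜) : X.IsHomogeneous (intGr 𝒜) :=
  (isHomogeneous_intGr_iff 𝒜 X).2 hX

include h0 in
theorem le_irrelevant_map (N : Ideal (A ⧸ X))
    (hN : letI := quotGradedRing (intGr 𝒜) X (isHomogeneous_intGr 𝒜 X hX)
      N.IsHomogeneous (quotGrR (intGr 𝒜) X)) (hNt : N ≠ ⊤) :
    N ≤ (HomogeneousIdeal.irrelevant 𝒜).toIdeal.map (Ideal.Quotient.mk X) := by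
  letI := quotGradedRing (intGr 𝒜) X (isHomogeneous_intGr 𝒜 X hX)
  intro x hx
  obtain ⟨y, rfl⟩ := Ideal.Quotient.mk_surjective x
  have h1 := hN 0 hx
  rw [decompose_mk (intGr 𝒜) X (isHomogeneous_intGr 𝒜 X hX) y 0] at h1
  have h2 : (decompose (intGr 𝒜) y 0 : A) = (decompose 𝒜 y 0 : A) := by
    have := decompose_intGr_natCast 𝒜 y 0
    simpa using this
  rw [h2] at h1
  have h3 : (decompose 𝒜 y 0 : A) = 0 := by
    by_contra h
    apply hNt
    exact Ideal.eq_top_of_isUnit_mem _ h1 ((h0 _ (decompose 𝒜 y 0).2 h).map _)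
  exact Ideal.mem_map_of_mem _ (mem_irrelevant_of_decompose_zero 𝒜 h3)

theorem irrelevant_map_isHomogeneous :
    letI := quotGradedRing (intGr 𝒜) X (isHomogeneous_intGr 𝒜 X hX)
    ((HomogeneousIdeal.irrelevant 𝒜).toIdeal.map (Ideal.Quotient.mk X)).IsHomogeneous
      (quotGrR (intGr 𝒜) X) := by
  letI := quotGradedRing (intGr 𝒜) X (isHomogeneous_intGr 𝒜 X hX)
  intro n x hx
  rw [Ideal.mem_map_iff_of_surjective _ Ideal.Quotient.mk_surjective] at hx
  obtain ⟨y, hy, rfl⟩ := hx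
  rw [decompose_mk (intGr 𝒜) X (isHomogeneous_intGr 𝒜 X hX) y n]
  apply Ideal.mem_map_of_mem
  exact (isHomogeneous_intGr_iff 𝒜 _).2 (HomogeneousIdeal.irrelevant 𝒜).isHomogeneous n hy

include h0 hX hXt in
/-- `dim A/X = ht (A₊/X)` -/
theorem ringKrullDim_quotient_eq_height [IsNoetherianRing A] :
    ringKrullDim (A ⧸ X) =
      ((((HomogeneousIdeal.irrelevant 𝒜).toIdeal.map (Ideal.Quotient.mk X)).height : ℕ∞) :
        WithBot ℕ∞) := by
  letI := quotGradedRing (intGr 𝒜) X (isHomogeneous_intGr 𝒜 X hX)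
  have hmax := irrelevant_map_isMaximal 𝒜 h0 X hX hXt
  let m : HomogeneousIdeal (quotGrR (intGr 𝒜) X) :=
    ⟨(HomogeneousIdeal.irrelevant 𝒜).toIdeal.map (Ideal.Quotient.mk X),
      irrelevant_map_isHomogeneous 𝒜 X hX⟩
  have hle : ∀ b : HomogeneousIdeal (quotGrR (intGr 𝒜) X), b ≠ ⊤ → b ≤ m := by
    intro b hb
    have hb' : b.toIdeal ≠ ⊤ := by
      intro h
      apply hb
      apply HomogeneousIdeal.toIdeal_injective
      rw [h, HomogeneousIdeal.toIdeal_top]
    exact le_irrelevant_map 𝒜 h0 X hX b.toIdeal b.isHomogeneous hb'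
  have hmne : m ≠ ⊤ := by
    intro h
    have := congrArg HomogeneousIdeal.toIdeal h
    rw [HomogeneousIdeal.toIdeal_top] at this
    exact hmax.ne_top this
  have hstar : GrLC.IsStarLocal (quotGrR (intGr 𝒜) X) m := by
    refine ⟨⟨hmne, ?_⟩, ?_⟩
    · intro b hb
      by_contra hbt
      exact absurd (hle b hbt) (not_le_of_gt hb)
    · intro n hn
      have h1 := hle n hn.1
      rcases eq_or_lt_of_le h1 with h | h
      · exact h
      · exact absurd (hn.2 m h) hmne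
  exact ringKrullDim_eq_height_of_isStarLocal m hstar hmax

end Groth.Agent.Helper20.NatInt
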