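import Mathlib
import Groth.Prelude
import Groth.Agent.Lib.Helper20.CMInf
import Groth.Agent.Lib.Helper20.GrDimIrr
import Groth.Agent.Lib.Lead.Depth20

/-!
# Assembly for S11276 (helper20)
-/

set_option autoImplicit false

open LocCoh IsLocalRing DirectSum

namespace Groth.Agent.Helper20.CMInf

universe u

open Groth.Agent.Lead.Depth Groth.Agent.Helper20.RE Groth.Agent.Helper20.NatInt

/-- `(B/X)_{q/X} ≅ B_q/X B_q` -/
theorem nonempty_quotLocEquiv' {B : Type u} [CommRing B] (X q : Ideal B) [q.IsPrime]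
    (hXq : X ≤ q) [(q.map (Ideal.Quotient.mk X)).IsPrime] :
    Nonempty (Localization.AtPrime (q.map (Ideal.Quotient.mk X)) ≃+*
      (Localization.AtPrime q ⧸ X.map (algebraMap B (Localization.AtPrime q)))) := by
  have h1 : IsLocalization (Algebra.algebraMapSubmonoid (B ⧸ X) q.primeCompl)
      (Localization.AtPrime q ⧸ X.map (algebraMap B (Localization.AtPrime q))) :=
    inferInstance
  rw [algebraMapSubmonoid_quotient_primeCompl X q hXq] at h1
  haveI hloc : IsLocalization.AtPrime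
      (Localization.AtPrime q ⧸ X.map (algebraMap B (Localization.AtPrime q)))
      (q.map (Ideal.Quotient.mk X)) := h1
  have e := IsLocalization.algEquiv (q.map (Ideal.Quotient.mk X)).primeCompl
    (Localization.AtPrime (q.map (Ideal.Quotient.mk X)))
    (Localization.AtPrime q ⧸ X.map (algebraMap B (Localization.AtPrime q)))
  exact ⟨e.toRingEquiv⟩

variable {A : Type u} [CommRing A] {σ : Type*} [SetLike σ A] [AddSubgroupClass σ A]
  (𝒜 : ℕ → σ) [GradedRing 𝒜]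

theorem le_irrelevant (h0 : ∀ a ∈ 𝒜 0, a ≠ 0 → IsUnit a) (X : Ideal A)
    (hX : X.IsHomogeneous 𝒜) (hXt : X ≠ ⊤) : X ≤ (HomogeneousIdeal.irrelevant 𝒜).toIdeal := by
  intro x hx
  apply mem_irrelevant_of_decompose_zero
  by_contra h
  exact hXt (Ideal.eq_top_of_isUnit_mem _ (hX 0 hx) (h0 _ (decompose 𝒜 x 0).2 h))

theorem irrelevant_isMaximal (h0 : ∀ a ∈ 𝒜 0, a ≠ 0 → IsUnit a) (X : Ideal A)
    (hX : X.IsHomogeneous 𝒜) (hXt : X ≠ ⊤) :
    (HomogeneousIdeal.irrelevant 𝒜).toIdeal.IsMaximal := by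
  have h1 := irrelevant_map_isMaximal 𝒜 h0 X hX hXt
  have h2 := Ideal.comap_isMaximal_of_surjective (Ideal.Quotient.mk X)
    Ideal.Quotient.mk_surjective (K := (HomogeneousIdeal.irrelevant 𝒜).toIdeal.map
      (Ideal.Quotient.mk X))
  rw [Ideal.comap_map_of_surjective _ Ideal.Quotient.mk_surjective, ← RingHom.ker_eq_comap_bot,
    Ideal.mk_ker, sup_eq_left.2 (le_irrelevant 𝒜 h0 X hX hXt)] at h2
  exact h2

variable [IsNoetherianRing A]

/-- transport of the hypotheses to `A_M / X A_M` -/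
theorem quotient_localization_cm (h0 : ∀ a ∈ 𝒜 0, a ≠ 0 → IsUnit a) (X : Ideal A)
    (hX : X.IsHomogeneous 𝒜) (d : ℕ) (hcm : IsCohenMacaulayRing (A ⧸ X))
    (hdim : ringKrullDim (A ⧸ X) = (d : WithBot ℕ∞))
    [hM : (HomogeneousIdeal.irrelevant 𝒜).toIdeal.IsPrime] :
    IsCohenMacaulayLocalRing
        (Localization.AtPrime (HomogeneousIdeal.irrelevant 𝒜).toIdeal ⧸
          X.map (algebraMap A (Localization.AtPrime (HomogeneousIdeal.irrelevant 𝒜).toIdeal))) ∧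
      ringKrullDim
        (Localization.AtPrime (HomogeneousIdeal.irrelevant 𝒜).toIdeal ⧸
          X.map (algebraMap A (Localization.AtPrime (HomogeneousIdeal.irrelevant 𝒜).toIdeal))) =
        (d : WithBot ℕ∞) := by
  have hXt : X ≠ ⊤ := by
    intro h
    haveI : Subsingleton (A ⧸ X) := by
      rw [h]; exact Ideal.Quotient.subsingleton_iff.2 rfl
    rw [ringKrullDim_eq_bot_of_subsingleton] at hdim
    exact WithBot.bot_ne_coe.symm hdim.symm |>.elim
  have hmax := irrelevant_map_isMaximal 𝒜 h0 X hX hXt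
  haveI := hmax.isPrime
  obtain ⟨e⟩ := nonempty_quotLocEquiv' X (HomogeneousIdeal.irrelevant 𝒜).toIdeal
    (le_irrelevant 𝒜 h0 X hX hXt)
  haveI := hcm.isCohenMacaulayLocalRing_localization
    ((HomogeneousIdeal.irrelevant 𝒜).toIdeal.map (Ideal.Quotient.mk X))
  refine ⟨isCohenMacaulayLocalRing_of_ringEquiv e, ?_⟩
  rw [← ringKrullDim_eq_of_ringEquiv e,
    IsLocalization.AtPrime.ringKrullDim_eq_height
      ((HomogeneousIdeal.irrelevant 𝒜).toIdeal.map (Ideal.Quotient.mk X)),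
    ← ringKrullDim_quotient_eq_height 𝒜 h0 X hX hXt, hdim]

theorem main_graded (h0 : ∀ a ∈ 𝒜 0, a ≠ 0 → IsUnit a) (I J : Ideal A)
    (hI : I.IsHomogeneous 𝒜) (hJ : J.IsHomogeneous 𝒜) (e : ℕ) (he : 1 ≤ e)
    (hIcm : IsCohenMacaulayRing (A ⧸ I)) (hJcm : IsCohenMacaulayRing (A ⧸ J))
    (hIJcm : IsCohenMacaulayRing (A ⧸ (I ⊔ J)))
    (hIdim : ringKrullDim (A ⧸ I) = (e : WithBot ℕ∞))
    (hJdim : ringKrullDim (A ⧸ J) = (e : WithBot ℕ∞))
    (hIJdim : ringKrullDim (A ⧸ (I ⊔ J)) = ((e - 1 : ℕ) : WithBot ℕ∞))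
    [hm : ((HomogeneousIdeal.irrelevant 𝒜).toIdeal.map (Ideal.Quotient.mk (I ⊓ J))).IsPrime] :
    IsCohenMacaulayLocalRing (Localization.AtPrime
        ((HomogeneousIdeal.irrelevant 𝒜).toIdeal.map (Ideal.Quotient.mk (I ⊓ J)))) ∧
      ringKrullDim (Localization.AtPrime
        ((HomogeneousIdeal.irrelevant 𝒜).toIdeal.map (Ideal.Quotient.mk (I ⊓ J)))) =
        (e : WithBot ℕ∞) := by
  have hIt : I ≠ ⊤ := by
    intro h
    haveI : Subsingleton (A ⧸ I) := by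
      rw [h]; exact Ideal.Quotient.subsingleton_iff.2 rfl
    rw [ringKrullDim_eq_bot_of_subsingleton] at hIdim
    exact WithBot.bot_ne_coe.symm hIdim.symm |>.elim
  haveI hM : (HomogeneousIdeal.irrelevant 𝒜).toIdeal.IsPrime :=
    (irrelevant_isMaximal 𝒜 h0 I hI hIt).isPrime
  obtain ⟨c1, c2⟩ := quotient_localization_cm 𝒜 h0 I hI e hIcm hIdim
  obtain ⟨c3, c4⟩ := quotient_localization_cm 𝒜 h0 J hJ e hJcm hJdim
  obtain ⟨c5, c6⟩ := quotient_localization_cm 𝒜 h0 (I ⊔ J) (hI.sup hJ) (e - 1) hIJcm hIJdim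
  rw [Ideal.map_sup] at c5 c6
  obtain ⟨c7, c8⟩ := main (I.map (algebraMap A (Localization.AtPrime
    (HomogeneousIdeal.irrelevant 𝒜).toIdeal))) (J.map (algebraMap A (Localization.AtPrime
    (HomogeneousIdeal.irrelevant 𝒜).toIdeal))) e he c2 c4 c6
  rw [← IsLocalization.map_inf (HomogeneousIdeal.irrelevant 𝒜).toIdeal.primeCompl] at c7 c8
  have hIJt : I ⊓ J ≠ ⊤ := fun h => hIt (top_le_iff.1 (h ▸ inf_le_left))
  obtain ⟨e'⟩ := nonempty_quotLocEquiv' (I ⊓ J) (HomogeneousIdeal.irrelevant 𝒜).toIdeal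
    (le_irrelevant 𝒜 h0 (I ⊓ J) (hI.inf hJ) hIJt)
  refine ⟨isCohenMacaulayLocalRing_of_ringEquiv e'.symm, ?_⟩
  rw [ringKrullDim_eq_of_ringEquiv e', c8]

end Groth.Agent.Helper20.CMInf
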