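import Mathlib
import Groth.Prelude
import Groth.Agent.Lib.Helper12.GorLink4
import Groth.Agent.Lib.Lead.Bass3
import Groth.Agent.Lib.Lead.Depth21
import Groth.Agent.Lib.Helper20.RE3

/-!
# Linkage in a Gorenstein local ring: `depth (A/ann I) ≥ d` when `depth (A/I) ≥ d = dim A` (helper20)
-/

set_option autoImplicit false
set_option linter.style.haveILetI false

universe u

open CategoryTheory Abelian RingTheory.Sequence LocCoh Pointwise IsLocalRing

namespace Groth.Agent.Helper20.Link

open Groth.Agent.Lead.Depth Groth.Agent.Helper12.GorLink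

theorem isSMulRegular_quot_annihilator {A : Type u} [CommRing A] (I : Ideal A) (x : A)
    (hx : IsSMulRegular A x) : IsSMulRegular (A ⧸ Submodule.annihilator I) x := by
  intro a b hab
  obtain ⟨a, rfl⟩ := Ideal.Quotient.mk_surjective a
  obtain ⟨b, rfl⟩ := Ideal.Quotient.mk_surjective b
  have h1 : Ideal.Quotient.mk (Submodule.annihilator I) (x * a) =
      Ideal.Quotient.mk (Submodule.annihilator I) (x * b) := hab
  rw [Ideal.Quotient.eq, Submodule.mem_annihilator] at h1
  rw [Ideal.Quotient.eq, Submodule.mem_annihilator]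
  intro i hi
  have h2 := h1 i hi
  rw [smul_eq_mul] at h2 ⊢
  apply hx
  show x * ((a - b) * i) = x * 0
  rw [mul_zero, ← h2]
  ring

theorem depth_self_eq {A : Type u} [CommRing A] [LocCoh.IsGorensteinLocalRing A] (d : ℕ)
    (hd : ringKrullDim A = d) : LocCoh.depth A A = (d : ℕ∞) := by
  haveI := isCohenMacaulayLocalRing_of_isGorensteinLocalRing A
  have h := (inferInstance : LocCoh.IsCohenMacaulayLocalRing A).supportDim_eq_depth
  rw [Module.supportDim_self_eq_ringKrullDim, hd] at h
  exact_mod_cast h.symm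

theorem depth_quot_annihilator : ∀ (d : ℕ) (A : Type u) [CommRing A]
    [LocCoh.IsGorensteinLocalRing A] (_ : ringKrullDim A = d) (I : Ideal A)
    (_ : (d : ℕ∞) ≤ LocCoh.depth A (A ⧸ I)),
    (d : ℕ∞) ≤ LocCoh.depth A (A ⧸ Submodule.annihilator I) := by
  intro d
  induction d with
  | zero =>
    intro A _ _ _ I _
    exact zero_le
  | succ d ih =>
    intro A _ _ hd I hdep
    by_cases hann : Submodule.annihilator I = ⊤
    · haveI : Subsingleton (A ⧸ Submodule.annihilator I) := by
        rw [hann]; exact Ideal.Quotient.subsingleton_iff.2 rfl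
      rw [depth_eq_top_of_subsingleton]
      exact le_top
    by_cases hI : I = ⊤
    · subst hI
      have hbot : Submodule.annihilator (⊤ : Ideal A) = ⊥ := by
        rw [eq_bot_iff]
        intro a ha
        rw [Submodule.mem_annihilator] at ha
        have := ha 1 Submodule.mem_top
        simpa using this
      rw [hbot]
      have e : (A ⧸ (⊥ : Ideal A)) ≃ₗ[A] A := Submodule.quotEquivOfEqBot _ rfl
      rw [depth_congr e, depth_self_eq (d + 1) hd]
    -- choose a regular element
    have hdA : LocCoh.depth A A = ((d + 1 : ℕ) : ℕ∞) := depth_self_eq (d + 1) hd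
    have h1 : ((1 : ℕ) : ℕ∞) ≤ idealDepth (maximalIdeal A) A := by
      rw [← depth_def, hdA]
      exact_mod_cast Nat.succ_le_succ (Nat.zero_le d)
    obtain ⟨rs, hlen, hreg, hmem⟩ := exists_of_le_idealDepth (maximalIdeal A) A
      (maximalIdeal_smul_top_ne_top A) 1 h1
    obtain ⟨x, rfl⟩ := List.length_eq_one_iff.mp hlen
    have hxreg : IsSMulRegular A x := ((isWeaklyRegular_cons_iff A x []).mp hreg).1
    have hxm : x ∈ maximalIdeal A := hmem x (List.mem_singleton.mpr rfl)
    have hne : Ideal.span {x} ≠ ⊤ := by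
      intro h
      have h2 : Ideal.span {x} ≤ maximalIdeal A := (Ideal.span_singleton_le_iff_mem _).mpr hxm
      exact (maximalIdeal.isMaximal A).ne_top (top_le_iff.mp (h ▸ h2))
    haveI : Nontrivial (A ⧸ Ideal.span {x}) := Ideal.Quotient.nontrivial_iff.mpr hne
    haveI : IsLocalRing (A ⧸ Ideal.span {x}) :=
      IsLocalRing.of_surjective' (Ideal.Quotient.mk (Ideal.span {x}))
        Ideal.Quotient.mk_surjective
    haveI : LocCoh.IsGorensteinLocalRing (A ⧸ Ideal.span {x}) :=
      (Groth.Agent.S0343.result A x hxm hxreg).mp inferInstance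
    have h4 := ringKrullDim_quotient_span_singleton_succ_eq_ringKrullDim_of_mem_jacobson hxreg
      (by rw [← Ideal.jacobson_bot]; exact (IsLocalRing.maximalIdeal_le_jacobson ⊥) hxm)
    have hd' : ringKrullDim (A ⧸ Ideal.span {x}) = (d : WithBot ℕ∞) := by
      rw [hd] at h4
      have e : (((d + 1 : ℕ) : ℕ∞) : WithBot ℕ∞) = ((d : ℕ) : WithBot ℕ∞) + 1 := by
        push_cast; rfl
      have e' : ((d + 1 : ℕ) : WithBot ℕ∞) = ((d : ℕ) : WithBot ℕ∞) + 1 := by
        push_cast; rfl
      rw [e'] at h4
      exact (Groth.Agent.Helper20.RE.withBot_enat_add_one_inj).1 h4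
    have hdep' := depth_step d hd I hI hdep x hxreg hxm
    have ih' := ih (A ⧸ Ideal.span {x}) hd' (I.map (Ideal.Quotient.mk (Ideal.span {x}))) hdep'
    have h6a := colon_span_le (d + 1) hd I hdep x hxreg
    rw [annihilator_map_eq I x h6a] at ih'
    -- transfer to `A`
    have h7 : LocCoh.depth A ((A ⧸ Ideal.span {x}) ⧸
        (Submodule.annihilator I).map (Ideal.Quotient.mk (Ideal.span {x}))) =
        LocCoh.depth (A ⧸ Ideal.span {x}) ((A ⧸ Ideal.span {x}) ⧸
        (Submodule.annihilator I).map (Ideal.Quotient.mk (Ideal.span {x}))) :=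
      depth_eq_of_surjective (R₁ := A) (R₂ := A ⧸ Ideal.span {x}) Ideal.Quotient.mk_surjective _
    rw [← h7, depth_def, ← idealDepth_congr (maximalIdeal A)
      (quotQuotEquiv (Submodule.annihilator I) x)] at ih'
    haveI : Nontrivial (A ⧸ Submodule.annihilator I) := Ideal.Quotient.nontrivial_iff.mpr hann
    have h8 := idealDepth_quotSMulTop_add_one (maximalIdeal A) (A ⧸ Submodule.annihilator I)
      (maximalIdeal_smul_top_ne_top _) x hxm (isSMulRegular_quot_annihilator I x hxreg)
    rw [depth_def, ← h8]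
    have : ((d + 1 : ℕ) : ℕ∞) = (d : ℕ∞) + 1 := by push_cast; rfl
    rw [this]
    gcongr

end Groth.Agent.Helper20.Link
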