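import Mathlib
import Groth.Prelude
import Groth.Agent.Lib.Helper20.Link1
import Groth.Agent.Lib.Helper12.Liaison1
import Groth.Agent.Lib.Lead.Depth9
import Groth.Agent.Lib.Lead.Depth13
import Groth.Agent.Lib.Lead.Depth8

/-!
# Linkage in a Gorenstein local ring: Cohen–Macaulayness passes to the linked ideal (helper20)
-/

set_option autoImplicit false
set_option linter.style.haveILetI false

universe u

open CategoryTheory Abelian RingTheory.Sequence LocCoh Pointwise IsLocalRing

namespace Groth.Agent.Helper20.Link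

open Groth.Agent.Lead.Depth Groth.Agent.Helper12.GorLink Groth.Agent.Helper20.RE

theorem colon_bot_eq_annihilator {A : Type u} [CommRing A] (b : Ideal A) :
    (⊥ : Ideal A).colon (b : Set A) = Submodule.annihilator b := by
  ext r
  rw [Submodule.mem_colon, Submodule.mem_annihilator]
  constructor
  · intro h i hi
    have := h i hi
    rwa [Submodule.mem_bot] at this
  · intro h i hi
    rw [Submodule.mem_bot]
    exact h i hi

variable {Λ : Type u} [CommRing Λ] [LocCoh.IsGorensteinLocalRing Λ]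

/-- for an annihilator ideal `a = ann b ≠ ⊤` in a Gorenstein local ring, `dim Λ/a = dim Λ` -/
theorem le_ringKrullDim_quot_annihilator (d : ℕ) (hd : ringKrullDim Λ = d) (b : Ideal Λ)
    (hne : Submodule.annihilator b ≠ ⊤) :
    (d : WithBot ℕ∞) ≤ ringKrullDim (Λ ⧸ Submodule.annihilator b) := by
  haveI : Nontrivial (Λ ⧸ Submodule.annihilator b) := Ideal.Quotient.nontrivial_iff.mpr hne
  obtain ⟨q, hq⟩ := associatedPrimes.nonempty Λ (Λ ⧸ Submodule.annihilator b)
  have h1 : q ∈ associatedPrimes Λ (Λ ⧸ (⊥ : Ideal Λ)) := by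
    have := Groth.Agent.Helper12.Liaison.associatedPrimes_quotient_colon_subset (⊥ : Ideal Λ) b
    rw [colon_bot_eq_annihilator] at this
    exact this hq
  have e : (Λ ⧸ (⊥ : Ideal Λ)) ≃ₗ[Λ] Λ := Submodule.quotEquivOfEqBot _ rfl
  rw [LinearEquiv.AssociatedPrimes.eq e] at h1
  have h2 := depth_le_ringKrullDim_quotient_of_mem_associatedPrimes Λ q h1
  rw [depth_self_eq d hd] at h2
  have h3 : Submodule.annihilator b ≤ q := by
    have := annihilator_le_of_mem_associatedPrimes (Λ ⧸ Submodule.annihilator b) q hq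
    rwa [Ideal.annihilator_quotient] at this
  have h4 : ringKrullDim (Λ ⧸ q) ≤ ringKrullDim (Λ ⧸ Submodule.annihilator b) :=
    ringKrullDim_le_of_surjective (Ideal.Quotient.factor h3) (Ideal.Quotient.factor_surjective h3)
  exact le_trans (by exact_mod_cast h2) h4

/-- **Linkage, local form**: if `a = ann b`, `b = ann a` in a Gorenstein local ring and `Λ/a` is
Cohen–Macaulay (or zero), then `Λ/b` is Cohen–Macaulay. -/
theorem cm_quot_of_ann (a b : Ideal Λ) (hab : Submodule.annihilator a = b)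
    (hba : Submodule.annihilator b = a)
    (ha : a ≠ ⊤ → LocCoh.IsCohenMacaulayLocalRing (Λ ⧸ a)) (hb : b ≠ ⊤) :
    LocCoh.IsCohenMacaulayLocalRing (Λ ⧸ b) := by
  obtain ⟨d, hd⟩ := exists_nat_ringKrullDim (R := Λ)
  have key : (d : ℕ∞) ≤ LocCoh.depth Λ (Λ ⧸ a) := by
    by_cases hat : a = ⊤
    · haveI : Subsingleton (Λ ⧸ a) := by
        rw [hat]; exact Ideal.Quotient.subsingleton_iff.2 rfl
      rw [depth_eq_top_of_subsingleton]
      exact le_top
    · haveI hcm := ha hat
      have h1 : LocCoh.depth Λ (Λ ⧸ a) = LocCoh.depth (Λ ⧸ a) (Λ ⧸ a) :=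
        depth_eq_of_surjective (R₁ := Λ) (R₂ := Λ ⧸ a) Ideal.Quotient.mk_surjective (Λ ⧸ a)
      have h2 := (isCohenMacaulayLocalRing_iff (B := Λ ⧸ a)).1 hcm
      have h3 : (d : WithBot ℕ∞) ≤ ringKrullDim (Λ ⧸ a) := by
        have := le_ringKrullDim_quot_annihilator d hd b (by rw [hba]; exact hat)
        rwa [hba] at this
      rw [h2] at h3
      rw [h1]
      exact_mod_cast h3
  have h4 := depth_quot_annihilator d Λ hd a key
  rw [hab] at h4
  haveI : Nontrivial (Λ ⧸ b) := Ideal.Quotient.nontrivial_iff.mpr hb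
  haveI : IsLocalRing (Λ ⧸ b) :=
    IsLocalRing.of_surjective' (Ideal.Quotient.mk b) Ideal.Quotient.mk_surjective
  have h5 : LocCoh.depth Λ (Λ ⧸ b) = LocCoh.depth (Λ ⧸ b) (Λ ⧸ b) :=
    depth_eq_of_surjective (R₁ := Λ) (R₂ := Λ ⧸ b) Ideal.Quotient.mk_surjective (Λ ⧸ b)
  rw [h5] at h4
  have h6 : ringKrullDim (Λ ⧸ b) ≤ (d : WithBot ℕ∞) := by
    rw [← hd]
    exact ringKrullDim_le_of_surjective (Ideal.Quotient.mk b) Ideal.Quotient.mk_surjective
  have h7 := depth_self_le_ringKrullDim (R := Λ ⧸ b)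
  have h8 : ((d : ℕ∞) : WithBot ℕ∞) ≤ ((LocCoh.depth (Λ ⧸ b) (Λ ⧸ b) : ℕ∞) : WithBot ℕ∞) := by
    exact_mod_cast h4
  rw [isCohenMacaulayLocalRing_iff]
  exact le_antisymm (le_trans h6 (by exact_mod_cast h8)) h7

end Groth.Agent.Helper20.Link
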