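import Mathlib
import Groth.Prelude
import Groth.Agent.Lib.Helper20.Link2
import Groth.Agent.Lib.Helper20.CMInf2
import Groth.Agent.Lib.Helper20.GorFlat3
import Groth.Agent.Lib.Helper12.Liaison5

/-!
# Linkage by a Gorenstein ideal preserves Cohen–Macaulayness (global form) (helper20)
-/

set_option autoImplicit false
set_option linter.style.haveILetI false

universe u

open LocCoh IsLocalRing

namespace Groth.Agent.Helper20.Link

open Groth.Agent.Helper20.RE Groth.Agent.Helper20.CMInf Groth.Agent.Helper20.GorFlat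

section LemmaG

variable {R : Type u} [CommRing R] [IsNoetherianRing R]

/-- `R/J` is a Cohen–Macaulay ring iff all `R_P/J R_P` (`P ⊇ J`) are Cohen–Macaulay local rings -/
theorem isCohenMacaulayRing_quotient_iff (J : Ideal R) :
    LocCoh.IsCohenMacaulayRing (R ⧸ J) ↔
      ∀ (P : Ideal R) [P.IsPrime], J ≤ P → LocCoh.IsCohenMacaulayLocalRing
        (Localization.AtPrime P ⧸ J.map (algebraMap R (Localization.AtPrime P))) := by
  have hsurj : Function.Surjective (Ideal.Quotient.mk J) := Ideal.Quotient.mk_surjective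
  constructor
  · intro h P hP hJP
    haveI : (P.map (Ideal.Quotient.mk J)).IsPrime :=
      Ideal.map_isPrime_of_surjective hsurj (by rw [Ideal.mk_ker]; exact hJP)
    obtain ⟨e⟩ := nonempty_quotLocEquiv' J P hJP
    haveI := h.isCohenMacaulayLocalRing_localization (P.map (Ideal.Quotient.mk J))
    exact isCohenMacaulayLocalRing_of_ringEquiv e
  · intro h
    refine { isCohenMacaulayLocalRing_localization := ?_ }
    intro Q hQ
    haveI hP : (Q.comap (Ideal.Quotient.mk J)).IsPrime := Ideal.comap_isPrime _ _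
    have hJP : J ≤ Q.comap (Ideal.Quotient.mk J) := by
      intro x hx
      rw [Ideal.mem_comap, Ideal.Quotient.eq_zero_iff_mem.2 hx]
      exact Q.zero_mem
    have hmap : (Q.comap (Ideal.Quotient.mk J)).map (Ideal.Quotient.mk J) = Q :=
      Ideal.map_comap_of_surjective _ hsurj Q
    haveI : ((Q.comap (Ideal.Quotient.mk J)).map (Ideal.Quotient.mk J)).IsPrime := by
      rw [hmap]; exact hQ
    obtain ⟨e⟩ := nonempty_quotLocEquiv' J (Q.comap (Ideal.Quotient.mk J)) hJP
    haveI := h (Q.comap (Ideal.Quotient.mk J)) hJP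
    exact cm_localization_congr hmap (isCohenMacaulayLocalRing_of_ringEquiv e.symm)

end LemmaG

section Local

variable {R : Type u} [CommRing R] [IsNoetherianRing R]

theorem cm_local_of_linked (𝔠 I J : Ideal R) [hG : LocCoh.IsGorensteinRing (R ⧸ 𝔠)]
    (hIJ : 𝔠.colon (I : Set R) = J) (hJI : 𝔠.colon (J : Set R) = I) (P : Ideal R) [P.IsPrime]
    (hJP : J ≤ P)
    (hI : I ≤ P → LocCoh.IsCohenMacaulayLocalRing
      (Localization.AtPrime P ⧸ I.map (algebraMap R (Localization.AtPrime P)))) :
    LocCoh.IsCohenMacaulayLocalRing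
      (Localization.AtPrime P ⧸ J.map (algebraMap R (Localization.AtPrime P))) := by
  have h𝔠J : 𝔠 ≤ J := hIJ ▸ Ideal.le_colon
  have h𝔠I : 𝔠 ≤ I := hJI ▸ Ideal.le_colon
  have h𝔠P : 𝔠 ≤ P := h𝔠J.trans hJP
  have hsurj : Function.Surjective (Ideal.Quotient.mk 𝔠) := Ideal.Quotient.mk_surjective
  haveI : (P.map (Ideal.Quotient.mk 𝔠)).IsPrime :=
    Ideal.map_isPrime_of_surjective hsurj (by rw [Ideal.mk_ker]; exact h𝔠P)
  obtain ⟨e₀⟩ := nonempty_quotLocEquiv' 𝔠 P h𝔠P
  haveI := hG.isGorensteinLocalRing_localization (P.map (Ideal.Quotient.mk 𝔠))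
  set f := algebraMap R (Localization.AtPrime P) with hf
  haveI hGL : LocCoh.IsGorensteinLocalRing (Localization.AtPrime P ⧸ 𝔠.map f) :=
    isGorensteinLocalRing_of_ringEquiv e₀
  set π := Ideal.Quotient.mk (𝔠.map f) with hπ
  have hπs : Function.Surjective π := Ideal.Quotient.mk_surjective
  -- colon identities in the localization
  have c1 : J.map f = (𝔠.map f).colon ((I.map f : Ideal _) : Set (Localization.AtPrime P)) := by
    rw [← hIJ]
    exact Groth.Agent.Helper12.Liaison.map_colon_eq P.primeCompl (Localization.AtPrime P) 𝔠 I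
      (IsNoetherian.noetherian I)
  have c2 : I.map f = (𝔠.map f).colon ((J.map f : Ideal _) : Set (Localization.AtPrime P)) := by
    rw [← hJI]
    exact Groth.Agent.Helper12.Liaison.map_colon_eq P.primeCompl (Localization.AtPrime P) 𝔠 J
      (IsNoetherian.noetherian J)
  have hab : Submodule.annihilator ((I.map f).map π) = (J.map f).map π := by
    have := Groth.Agent.Helper12.Liaison.map_mk_colon_eq_ann (𝔠.map f) (I.map f)
    rw [← c1] at this
    exact this.symm
  have hba : Submodule.annihilator ((J.map f).map π) = (I.map f).map π := by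
    have := Groth.Agent.Helper12.Liaison.map_mk_colon_eq_ann (𝔠.map f) (J.map f)
    rw [← c2] at this
    exact this.symm
  have hmax : P.map f = maximalIdeal (Localization.AtPrime P) :=
    IsLocalization.AtPrime.map_eq_maximalIdeal P (Localization.AtPrime P)
  have hb : (J.map f).map π ≠ ⊤ := by
    intro h
    have h1 : (1 : Localization.AtPrime P ⧸ 𝔠.map f) ∈ (J.map f).map π := h ▸ Submodule.mem_top
    rw [Ideal.mem_map_iff_of_surjective π hπs] at h1
    obtain ⟨y, hy, hy1⟩ := h1
    have h2 : y - 1 ∈ 𝔠.map f := by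
      rw [← Ideal.Quotient.eq, hy1, map_one]
    have h3 : y ∈ maximalIdeal (Localization.AtPrime P) := by
      rw [← hmax]; exact Ideal.map_mono hJP hy
    have h4 : y - 1 ∈ maximalIdeal (Localization.AtPrime P) := by
      rw [← hmax]; exact Ideal.map_mono h𝔠P h2
    have h5 : (1 : Localization.AtPrime P) ∈ maximalIdeal (Localization.AtPrime P) := by
      have := Ideal.sub_mem _ h3 h4
      rwa [sub_sub_cancel] at this
    exact (maximalIdeal.isMaximal (Localization.AtPrime P)).ne_top
      ((Ideal.eq_top_iff_one _).2 h5)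
  have ha : (I.map f).map π ≠ ⊤ → LocCoh.IsCohenMacaulayLocalRing
      ((Localization.AtPrime P ⧸ 𝔠.map f) ⧸ (I.map f).map π) := by
    intro hat
    have hIP : I ≤ P := by
      by_contra hn
      obtain ⟨i, hiI, hiP⟩ := Set.not_subset.1 hn
      apply hat
      have h1 : I.map f = ⊤ := by
        apply Ideal.eq_top_of_isUnit_mem _ (Ideal.mem_map_of_mem f hiI)
        exact IsLocalization.map_units (Localization.AtPrime P) (⟨i, hiP⟩ : P.primeCompl)
      rw [h1, Ideal.map_top]
    haveI := hI hIP
    exact isCohenMacaulayLocalRing_of_ringEquiv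
      (DoubleQuot.quotQuotEquivQuotOfLE (Ideal.map_mono h𝔠I : 𝔠.map f ≤ I.map f)).symm
  haveI := cm_quot_of_ann ((I.map f).map π) ((J.map f).map π) hab hba ha hb
  exact isCohenMacaulayLocalRing_of_ringEquiv
    (DoubleQuot.quotQuotEquivQuotOfLE (Ideal.map_mono h𝔠J : 𝔠.map f ≤ J.map f))

/-- **Linkage by a Gorenstein ideal preserves the Cohen–Macaulay property.** -/
theorem cm_of_linked (𝔠 I J : Ideal R) [hG : LocCoh.IsGorensteinRing (R ⧸ 𝔠)]
    (hIJ : 𝔠.colon (I : Set R) = J) (hJI : 𝔠.colon (J : Set R) = I)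
    (hI : LocCoh.IsCohenMacaulayRing (R ⧸ I)) : LocCoh.IsCohenMacaulayRing (R ⧸ J) := by
  rw [isCohenMacaulayRing_quotient_iff] at hI ⊢
  intro P hP hJP
  exact cm_local_of_linked 𝔠 I J hIJ hJI P hJP (fun hIP => hI P hIP)

end Local

end Groth.Agent.Helper20.Link
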