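import Mathlib
import Groth.Prelude
import Groth.Agent.Lib.Helper20.Link3
import Groth.Agent.Lib.Helper28.BlowCM
import Groth.Agent.Lib.Helper8.Canon8
import Groth.Agent.Lib.Helper8.LDual1
import Groth.Agent.S0343

/-!
# Complete intersections in Gorenstein rings are Gorenstein (helper20)
-/

set_option autoImplicit false
set_option linter.style.haveILetI false

universe u

open LocCoh IsLocalRing RingTheory.Sequence

namespace Groth.Agent.Helper20.Link

open Groth.Agent.Helper20.RE Groth.Agent.Helper20.CMInf Groth.Agent.Helper20.GorFlat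

section Local

/-- a Gorenstein local ring modulo a regular sequence in the maximal ideal is Gorenstein -/
theorem gor_quot_ofList : ∀ (n : ℕ) (A : Type u) [CommRing A] [LocCoh.IsGorensteinLocalRing A]
    (rs : List A), rs.length = n → (∀ r ∈ rs, r ∈ maximalIdeal A) → IsWeaklyRegular A rs →
    LocCoh.IsGorensteinLocalRing (A ⧸ Ideal.ofList rs) := by
  intro n
  induction n with
  | zero =>
    intro A _ hA rs hlen _ _
    have hnil : rs = [] := List.length_eq_zero_iff.mp hlen
    subst hnil
    have h0 : Ideal.ofList ([] : List A) = ⊥ := Ideal.ofList_nil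
    exact isGorensteinLocalRing_of_ringEquiv
      ((RingEquiv.quotientBot A).symm.trans (Ideal.quotEquivOfEq h0.symm))
  | succ n ih =>
    intro A _ hA rs hlen hmem hreg
    match rs, hlen, hmem, hreg with
    | r :: rs', hlen, hmem, hreg =>
      obtain ⟨h1, h2⟩ := Groth.Agent.Helper28.BlowCM.isWeaklyRegular_quotient r rs' hreg
      have hrm : r ∈ maximalIdeal A := hmem r List.mem_cons_self
      have hrreg : IsSMulRegular A r := by
        have := ((isWeaklyRegular_cons_iff A r rs').mp hreg).1
        exact this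
      haveI hA' : LocCoh.IsGorensteinLocalRing (A ⧸ Ideal.span {r}) :=
        (Groth.Agent.S0343.result A r hrm hrreg).mp hA
      have hlen' : (rs'.map (Ideal.Quotient.mk (Ideal.span {r}))).length = n := by
        rw [List.length_map]
        simpa using hlen
      have hmem' : ∀ x ∈ rs'.map (Ideal.Quotient.mk (Ideal.span {r})),
          x ∈ maximalIdeal (A ⧸ Ideal.span {r}) := by
        intro x hx
        obtain ⟨y, hy, rfl⟩ := List.mem_map.mp hx
        rw [← IsLocalRing.map_maximalIdeal_of_surjective (Ideal.Quotient.mk (Ideal.span {r}))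
          Ideal.Quotient.mk_surjective]
        exact Ideal.mem_map_of_mem _ (hmem y (List.mem_cons_of_mem _ hy))
      have ih' := ih (A ⧸ Ideal.span {r}) (rs'.map (Ideal.Quotient.mk (Ideal.span {r}))) hlen'
        hmem' h2
      have e : Nonempty ((A ⧸ Ideal.span {r}) ⧸
          Ideal.ofList (rs'.map (Ideal.Quotient.mk (Ideal.span {r}))) ≃+*
          A ⧸ Ideal.ofList (r :: rs')) := by
        rw [← Ideal.map_ofList, Ideal.ofList_cons]
        exact ⟨DoubleQuot.quotQuotEquivQuotSup (Ideal.span {r}) (Ideal.ofList rs')⟩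
      obtain ⟨e⟩ := e
      exact isGorensteinLocalRing_of_ringEquiv e

theorem encard_setOf_mem_le {α : Type*} (l : List α) : {x | x ∈ l}.encard ≤ (l.length : ℕ∞) := by
  classical
  have h1 : {x | x ∈ l} = ((l.toFinset : Finset α) : Set α) := by
    ext x; simp
  rw [h1, Set.encard_coe_eq_coe_finsetCard]
  exact_mod_cast List.toFinset_card_le l

/-- a Gorenstein local ring modulo `c` elements generating an ideal of height `≥ c` is
Gorenstein -/
theorem gor_quot_of_height (A : Type u) [CommRing A] [hA : LocCoh.IsGorensteinLocalRing A]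
    (rs : List A) (hmem : ∀ r ∈ rs, r ∈ maximalIdeal A)
    (hht : (rs.length : ℕ∞) ≤ (Ideal.ofList rs).height) :
    LocCoh.IsGorensteinLocalRing (A ⧸ Ideal.ofList rs) := by
  have hle : Ideal.ofList rs ≤ maximalIdeal A := by
    rw [Ideal.ofList, Ideal.span_le]
    exact fun x hx => hmem x hx
  have hne : Ideal.ofList rs ≠ ⊤ := fun h =>
    (maximalIdeal.isMaximal A).ne_top (top_le_iff.mp (h ▸ hle))
  haveI : Nontrivial (A ⧸ Ideal.ofList rs) := Ideal.Quotient.nontrivial_iff.mpr hne
  haveI : IsLocalRing (A ⧸ Ideal.ofList rs) :=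
    IsLocalRing.of_surjective' (Ideal.Quotient.mk _) Ideal.Quotient.mk_surjective
  obtain ⟨s, hs⟩ := Groth.Agent.Lead.Depth.exists_nat_ringKrullDim (R := A)
  obtain ⟨d, hd⟩ := Groth.Agent.Lead.Depth.exists_nat_ringKrullDim (R := A ⧸ Ideal.ofList rs)
  have hfin : (Ideal.ofList rs).height ≠ ⊤ := Ideal.height_ne_top hne
  obtain ⟨g, hg⟩ := ENat.ne_top_iff_exists.mp hfin
  have hsgd : s = g + d :=
    Groth.Agent.Helper8.LDual.height_add_eq hs (Ideal.ofList rs) hne d hd g hg.symm
  have hlg : rs.length ≤ g := by
    rw [← hg] at hht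
    exact_mod_cast hht
  have h1 : ringKrullDim A ≤ ringKrullDim (A ⧸ Ideal.ofList rs) + ({x | x ∈ rs}.encard : ℕ∞) := by
    have := ringKrullDim_le_ringKrullDim_quotient_add_encard {x | x ∈ rs} (R := A) (by
      intro x hx
      rw [IsLocalRing.ringJacobson_eq_maximalIdeal]
      exact hmem x hx)
    exact this
  have h2 : s ≤ d + rs.length := by
    have h3 : ringKrullDim A ≤ ringKrullDim (A ⧸ Ideal.ofList rs) + ((rs.length : ℕ∞) : WithBot ℕ∞) := by
      refine h1.trans ?_
      gcongr
      exact_mod_cast encard_setOf_mem_le rs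
    rw [hs, hd] at h3
    exact_mod_cast h3
  have hsd : d + rs.length = s := by omega
  haveI hCM : LocCoh.IsCohenMacaulayLocalRing A :=
    Groth.Agent.Lead.Depth.isCohenMacaulayLocalRing_of_isGorensteinLocalRing A
  have hIeq : (Ideal.ofList rs • ⊤ : Submodule A A) = Ideal.ofList rs := by
    change Ideal.ofList rs • (⊤ : Ideal A) = Ideal.ofList rs
    rw [smul_eq_mul, Ideal.mul_top]
  have hdim : Module.supportDim A (A ⧸ (Ideal.ofList rs • ⊤ : Submodule A A)) +
      (rs.length : WithBot ℕ∞) = Module.supportDim A A := by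
    rw [Module.supportDim_self_eq_ringKrullDim, hs,
      Module.supportDim_eq_of_equiv (Submodule.quotEquivOfEq _ _ hIeq),
      Module.supportDim_quotient_eq_ringKrullDim, hd]
    exact_mod_cast hsd
  have hreg : IsWeaklyRegular A rs :=
    Groth.Agent.Helper8.Canon.isWeaklyRegular_of_supportDim_drop rs A
      hCM.supportDim_eq_depth hmem hdim
  exact gor_quot_ofList rs.length A rs rfl hmem hreg

end Local

section Global

variable {R : Type u} [CommRing R]

theorem gor_localization_congr {C : Type u} [CommRing C] {q q' : Ideal C} [q.IsPrime]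
    [q'.IsPrime] (h : q = q') (hG : LocCoh.IsGorensteinLocalRing (Localization.AtPrime q)) :
    LocCoh.IsGorensteinLocalRing (Localization.AtPrime q') := by
  subst h
  exact hG

/-- `R/J` is a Gorenstein ring as soon as all `R_P/J R_P` (`P ⊇ J`) are Gorenstein local rings -/
theorem isGorensteinRing_quotient_of_forall [IsNoetherianRing R] (J : Ideal R)
    (h : ∀ (P : Ideal R) [P.IsPrime], J ≤ P → LocCoh.IsGorensteinLocalRing
        (Localization.AtPrime P ⧸ J.map (algebraMap R (Localization.AtPrime P)))) :
    LocCoh.IsGorensteinRing (R ⧸ J) := by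
  have hsurj : Function.Surjective (Ideal.Quotient.mk J) := Ideal.Quotient.mk_surjective
  refine { isGorensteinLocalRing_localization := ?_ }
  intro Q hQ
  haveI hP : (Q.comap (Ideal.Quotient.mk J)).IsPrime := Ideal.comap_isPrime _ _
  have hJP : J ≤ Q.comap (Ideal.Quotient.mk J) := by
    intro x hx
    rw [Ideal.mem_comap, Ideal.Quotient.eq_zero_iff_mem.2 hx]
    exact Q.zero_mem
  have hmap : (Q.comap (Ideal.Quotient.mk J)).map (Ideal.Quotient.mk J) = Q :=
    Ideal.map_comap_of_surjective _ hsurj Q
  haveI : ((Q.comap (Ideal.Quotient.mk J)).map (Ideal.Quotient.mk J)).IsPrime := by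
    rw [hmap]; exact hQ
  obtain ⟨e⟩ := nonempty_quotLocEquiv' J (Q.comap (Ideal.Quotient.mk J)) hJP
  haveI := h (Q.comap (Ideal.Quotient.mk J)) hJP
  exact gor_localization_congr hmap (isGorensteinLocalRing_of_ringEquiv e.symm)

/-- the quotient of a Gorenstein ring by an ideal of height `≥ c` generated by `c` elements is a
Gorenstein ring -/
theorem isGorensteinRing_quotient_ofList [hR : LocCoh.IsGorensteinRing R] (gs : List R)
    (hht : (gs.length : ℕ∞) ≤ (Ideal.ofList gs).height) :
    LocCoh.IsGorensteinRing (R ⧸ Ideal.ofList gs) := by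
  apply isGorensteinRing_quotient_of_forall
  intro P hP hJP
  haveI := hR.isGorensteinLocalRing_localization P
  set f := algebraMap R (Localization.AtPrime P) with hf
  have hmem : ∀ r ∈ gs.map f, r ∈ maximalIdeal (Localization.AtPrime P) := by
    intro r hr
    obtain ⟨y, hy, rfl⟩ := List.mem_map.mp hr
    exact (IsLocalization.AtPrime.to_map_mem_maximal_iff (Localization.AtPrime P) P y).mpr
      (hJP (Ideal.subset_span hy))
  have hht' : ((gs.map f).length : ℕ∞) ≤ (Ideal.ofList (gs.map f)).height := by
    rw [List.length_map, ← Ideal.map_ofList,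
      ← IsLocalization.height_under P.primeCompl ((Ideal.ofList gs).map f)]
    exact hht.trans (Ideal.height_mono Ideal.le_comap_map)
  have := gor_quot_of_height (Localization.AtPrime P) (gs.map f) hmem hht'
  rw [← Ideal.map_ofList] at this
  exact this

end Global

end Groth.Agent.Helper20.Link
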