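import Mathlib
import Groth.Prelude
import Groth.Agent.Lib.Helper20.Link4
import Groth.Agent.Lib.Helper8.CanonEx2
import Groth.Agent.Lib.Helper8.Canon15
import Groth.Agent.Lib.Lead.RLR7

/-!
# A cyclic canonical module: quotient of a Gorenstein local ring by the annihilator of an element
(helper20)
-/

set_option autoImplicit false
set_option linter.style.haveILetI false

universe u

open LocCoh IsLocalRing CategoryTheory

namespace Groth.Agent.Helper20.Link

open Groth.Agent.Helper8 Groth.Agent.Helper8.Canon Groth.Agent.Helper8.CanonEx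

section Local

variable (Λ : Type u) [CommRing Λ] [hG : LocCoh.IsGorensteinLocalRing Λ]

/-- a proper annihilator of a nonzero element of a Cohen–Macaulay local ring has height `0` -/
theorem height_annihilator_span_singleton_eq_zero (φ : Λ) (hφ : φ ≠ 0) :
    (Submodule.annihilator (Ideal.span {φ} : Ideal Λ)).height = 0 := by
  haveI hCM : LocCoh.IsCohenMacaulayLocalRing Λ :=
    Groth.Agent.Lead.Depth.isCohenMacaulayLocalRing_of_isGorensteinLocalRing Λ
  obtain ⟨p, hp, hle⟩ := exists_le_isAssociatedPrime_of_isNoetherianRing Λ φ hφ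
  haveI hpp : p.IsPrime := hp.isPrime
  have hp' : p ∈ associatedPrimes Λ Λ := hp
  have h1 := Groth.Agent.Lead.Depth.ringKrullDim_quotient_eq_of_mem_associatedPrimes Λ
    hCM.supportDim_eq_depth p hp'
  rw [Module.supportDim_self_eq_ringKrullDim] at h1
  obtain ⟨s, hs⟩ := Groth.Agent.Lead.Depth.exists_nat_ringKrullDim (R := Λ)
  have h2 := Groth.Agent.Lead.RLR.height_add_ringKrullDim_quotient_le p
  rw [h1, hs] at h2
  have hp0 : p.height = 0 := by
    have hfin : p.height ≠ ⊤ := Ideal.height_ne_top hpp.ne_top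
    obtain ⟨g, hg⟩ := ENat.ne_top_iff_exists.mp hfin
    rw [← hg] at h2 ⊢
    have : g + s ≤ s := by exact_mod_cast h2
    have : g = 0 := by omega
    rw [this]; rfl
  have hle' : Submodule.annihilator (Ideal.span {φ} : Ideal Λ) ≤ p := by
    intro r hr
    apply hle
    rw [Submodule.mem_colon_singleton, Submodule.mem_bot]
    exact (Submodule.mem_annihilator.mp hr) φ (Ideal.subset_span rfl)
  exact le_antisymm (hp0 ▸ Ideal.height_mono hle') zero_le

/-- **Quotient of a Gorenstein local ring by a linked ideal whose link is principal**: if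
`b = ann φ`, `ann b = (φ)` and `Λ/b` is Cohen–Macaulay then `Λ/b` is Gorenstein. -/
theorem gor_quot_of_ann_principal (b : Ideal Λ) (φ : Λ)
    (hab : Submodule.annihilator (Ideal.span {φ} : Ideal Λ) = b)
    (hba : Submodule.annihilator b = Ideal.span {φ}) (hb : b ≠ ⊤)
    [hT : LocCoh.IsCohenMacaulayLocalRing (Λ ⧸ b)] : LocCoh.IsGorensteinLocalRing (Λ ⧸ b) := by
  have hφ : φ ≠ 0 := by
    rintro rfl
    apply hb
    rw [← hab]
    rw [eq_top_iff]
    intro r _
    rw [Submodule.mem_annihilator]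
    intro x hx
    rw [Ideal.mem_span_singleton, zero_dvd_iff] at hx
    rw [hx, smul_zero]
  have hsurj : Function.Surjective (algebraMap Λ (Λ ⧸ b)) := Ideal.Quotient.mk_surjective
  have hker : RingHom.ker (algebraMap Λ (Λ ⧸ b)) = b := by
    rw [Ideal.Quotient.algebraMap_eq, Ideal.mk_ker]
  have hg : (RingHom.ker (algebraMap Λ (Λ ⧸ b))).height = ((0 : ℕ) : ℕ∞) := by
    rw [hker, ← hab]
    exact_mod_cast height_annihilator_span_singleton_eq_zero Λ φ hφ
  obtain ⟨n, hn⟩ := Groth.Agent.Lead.Depth.exists_nat_ringKrullDim (R := Λ ⧸ b)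
  obtain ⟨E, _, _, f, hf⟩ :=
    Groth.Agent.Helper1.exists_injectiveHull (R := Λ ⧸ b) (ResidueField (Λ ⧸ b))
  obtain ⟨K, _, _, _, _, hfin, ⟨e1⟩, ⟨eK⟩⟩ := exists_canonical_ext (R' := Λ) (R := Λ ⧸ b) hsurj n hn hf 0 hg
  haveI := hfin
  -- `Ext^0(Λ/b, Λ) ≃ Hom(Λ/b, Λ) ≃ Λ[b] = (φ) ≃ Λ/ann φ = Λ/b`
  have e2 : Abelian.Ext (ModuleCat.of Λ (Λ ⧸ RingHom.ker (algebraMap Λ (Λ ⧸ b))))
      (ModuleCat.of Λ Λ) 0 ≃ₗ[Λ]
      Submodule.torsionBySet Λ Λ ((RingHom.ker (algebraMap Λ (Λ ⧸ b)) : Ideal Λ) : Set Λ) :=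
    (hom0 (Λ ⧸ RingHom.ker (algebraMap Λ (Λ ⧸ b))) Λ).symm ≪≫ₗ
      homQuotEquivTorsion (RingHom.ker (algebraMap Λ (Λ ⧸ b))) Λ
  have htor : Submodule.torsionBySet Λ Λ ((RingHom.ker (algebraMap Λ (Λ ⧸ b)) : Ideal Λ) : Set Λ) =
      LinearMap.range (LinearMap.toSpanSingleton Λ Λ φ) := by
    rw [hker]
    ext x
    rw [Submodule.mem_torsionBySet_iff, LinearMap.mem_range]
    constructor
    · intro hx
      have hxa : x ∈ Submodule.annihilator b := by
        rw [Submodule.mem_annihilator]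
        intro y hy
        have := hx ⟨y, hy⟩
        rw [smul_eq_mul] at this ⊢
        rw [mul_comm]; exact this
      rw [hba, Ideal.mem_span_singleton'] at hxa
      obtain ⟨a, rfl⟩ := hxa
      exact ⟨a, by rw [LinearMap.toSpanSingleton_apply, smul_eq_mul]⟩
    · rintro ⟨a, rfl⟩ y
      rw [LinearMap.toSpanSingleton_apply]
      have hy : (y : Λ) ∈ Submodule.annihilator (Ideal.span {φ} : Ideal Λ) := hab ▸ y.2
      have := (Submodule.mem_annihilator.mp hy) φ (Ideal.subset_span rfl)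
      rw [smul_comm, this, smul_zero]
  have hkerφ : LinearMap.ker (LinearMap.toSpanSingleton Λ Λ φ) = b := by
    rw [← hab]
    ext r
    rw [LinearMap.mem_ker, LinearMap.toSpanSingleton_apply, Submodule.mem_annihilator]
    constructor
    · intro h x hx
      rw [Ideal.mem_span_singleton'] at hx
      obtain ⟨a, rfl⟩ := hx
      rw [smul_eq_mul, mul_left_comm, ← smul_eq_mul r φ, h, mul_zero]
    · intro h
      exact h φ (Ideal.subset_span rfl)
  have e3 : LinearMap.range (LinearMap.toSpanSingleton Λ Λ φ) ≃ₗ[Λ] (Λ ⧸ b) :=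
    (LinearMap.quotKerEquivRange (LinearMap.toSpanSingleton Λ Λ φ)).symm ≪≫ₗ
      Submodule.quotEquivOfEq _ _ hkerφ
  have e4 : K ≃ₗ[Λ] (Λ ⧸ b) := e1 ≪≫ₗ e2 ≪≫ₗ LinearEquiv.ofEq _ _ htor ≪≫ₗ e3
  have e5 : K ≃ₗ[Λ ⧸ b] (Λ ⧸ b) := e4.extendScalarsOfSurjective hsurj
  have h1 : HasInjectiveDimensionLT (ModuleCat.of (Λ ⧸ b) K) (n + 1) :=
    hasInjectiveDimensionLT_canon hn hf eK
  have h2 : HasInjectiveDimensionLT (ModuleCat.of (Λ ⧸ b) (Λ ⧸ b)) (n + 1) :=
    hasInjectiveDimensionLT_of_iso e5.toModuleIso (n + 1)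
  exact { exists_hasInjectiveDimensionLT := ⟨n + 1, h2⟩ }

end Local

end Groth.Agent.Helper20.Link
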