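import Mathlib
import Groth.Prelude
import Groth.Agent.Lib.Helper20.Link5

/-!
# Linkage of an almost complete intersection by a Gorenstein ideal gives a Gorenstein ideal
(helper20)
-/

set_option autoImplicit false
set_option linter.style.haveILetI false

universe u

open LocCoh IsLocalRing

namespace Groth.Agent.Helper20.Link

open Groth.Agent.Helper20.RE Groth.Agent.Helper20.CMInf Groth.Agent.Helper20.GorFlat

section Local

variable {R : Type u} [CommRing R] [IsNoetherianRing R]

/-- the local picture of a linkage `I ~ J` by a Gorenstein ideal `𝔠` at a prime `P ⊇ J` -/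
theorem linked_local_setup (𝔠 I J : Ideal R) [hG : LocCoh.IsGorensteinRing (R ⧸ 𝔠)]
    (hIJ : 𝔠.colon (I : Set R) = J) (hJI : 𝔠.colon (J : Set R) = I) (P : Ideal R) [P.IsPrime]
    (hJP : J ≤ P) :
    LocCoh.IsGorensteinLocalRing
        (Localization.AtPrime P ⧸ 𝔠.map (algebraMap R (Localization.AtPrime P))) ∧
      Submodule.annihilator ((I.map (algebraMap R (Localization.AtPrime P))).map
        (Ideal.Quotient.mk (𝔠.map (algebraMap R (Localization.AtPrime P))))) =
        (J.map (algebraMap R (Localization.AtPrime P))).map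
          (Ideal.Quotient.mk (𝔠.map (algebraMap R (Localization.AtPrime P)))) ∧
      Submodule.annihilator ((J.map (algebraMap R (Localization.AtPrime P))).map
        (Ideal.Quotient.mk (𝔠.map (algebraMap R (Localization.AtPrime P))))) =
        (I.map (algebraMap R (Localization.AtPrime P))).map
          (Ideal.Quotient.mk (𝔠.map (algebraMap R (Localization.AtPrime P)))) ∧
      (J.map (algebraMap R (Localization.AtPrime P))).map
          (Ideal.Quotient.mk (𝔠.map (algebraMap R (Localization.AtPrime P)))) ≠ ⊤ ∧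
      ((I.map (algebraMap R (Localization.AtPrime P))).map
          (Ideal.Quotient.mk (𝔠.map (algebraMap R (Localization.AtPrime P)))) ≠ ⊤ → I ≤ P) := by
  have h𝔠J : 𝔠 ≤ J := hIJ ▸ Ideal.le_colon
  have h𝔠I : 𝔠 ≤ I := hJI ▸ Ideal.le_colon
  have h𝔠P : 𝔠 ≤ P := h𝔠J.trans hJP
  have hsurj : Function.Surjective (Ideal.Quotient.mk 𝔠) := Ideal.Quotient.mk_surjective
  haveI : (P.map (Ideal.Quotient.mk 𝔠)).IsPrime :=
    Ideal.map_isPrime_of_surjective hsurj (by rw [Ideal.mk_ker]; exact h𝔠P)
  obtain ⟨e₀⟩ := nonempty_quotLocEquiv' 𝔠 P h𝔠P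
  haveI := hG.isGorensteinLocalRing_localization (P.map (Ideal.Quotient.mk 𝔠))
  set f := algebraMap R (Localization.AtPrime P) with hf
  haveI hGL : LocCoh.IsGorensteinLocalRing (Localization.AtPrime P ⧸ 𝔠.map f) :=
    isGorensteinLocalRing_of_ringEquiv e₀
  set π := Ideal.Quotient.mk (𝔠.map f) with hπ
  have hπs : Function.Surjective π := Ideal.Quotient.mk_surjective
  -- colon identities in the localization
  have c1 : J.map f = (𝔠.map f).colon ((I.map f : Ideal _) : Set (Localization.AtPrime P)) := by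
    rw [← hIJ]
    exact Groth.Agent.Helper12.Liaison.map_colon_eq P.primeCompl (Localization.AtPrime P) 𝔠 I
      (IsNoetherian.noetherian I)
  have c2 : I.map f = (𝔠.map f).colon ((J.map f : Ideal _) : Set (Localization.AtPrime P)) := by
    rw [← hJI]
    exact Groth.Agent.Helper12.Liaison.map_colon_eq P.primeCompl (Localization.AtPrime P) 𝔠 J
      (IsNoetherian.noetherian J)
  have hab : Submodule.annihilator ((I.map f).map π) = (J.map f).map π := by
    have := Groth.Agent.Helper12.Liaison.map_mk_colon_eq_ann (𝔠.map f) (I.map f)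
    rw [← c1] at this
    exact this.symm
  have hba : Submodule.annihilator ((J.map f).map π) = (I.map f).map π := by
    have := Groth.Agent.Helper12.Liaison.map_mk_colon_eq_ann (𝔠.map f) (J.map f)
    rw [← c2] at this
    exact this.symm
  have hmax : P.map f = maximalIdeal (Localization.AtPrime P) :=
    IsLocalization.AtPrime.map_eq_maximalIdeal P (Localization.AtPrime P)
  have hb : (J.map f).map π ≠ ⊤ := by
    intro h
    have h1 : (1 : Localization.AtPrime P ⧸ 𝔠.map f) ∈ (J.map f).map π := h ▸ Submodule.mem_top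
    rw [Ideal.mem_map_iff_of_surjective π hπs] at h1
    obtain ⟨y, hy, hy1⟩ := h1
    have h2 : y - 1 ∈ 𝔠.map f := by
      rw [← Ideal.Quotient.eq, hy1, map_one]
    have h3 : y ∈ maximalIdeal (Localization.AtPrime P) := by
      rw [← hmax]; exact Ideal.map_mono hJP hy
    have h4 : y - 1 ∈ maximalIdeal (Localization.AtPrime P) := by
      rw [← hmax]; exact Ideal.map_mono h𝔠P h2
    have h5 : (1 : Localization.AtPrime P) ∈ maximalIdeal (Localization.AtPrime P) := by
      have := Ideal.sub_mem _ h3 h4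
      rwa [sub_sub_cancel] at this
    exact (maximalIdeal.isMaximal (Localization.AtPrime P)).ne_top
      ((Ideal.eq_top_iff_one _).2 h5)
  have ha : (I.map f).map π ≠ ⊤ → I ≤ P := by
    intro hat
    by_contra hn
    obtain ⟨i, hiI, hiP⟩ := Set.not_subset.1 hn
    apply hat
    have h1 : I.map f = ⊤ := by
      apply Ideal.eq_top_of_isUnit_mem _ (Ideal.mem_map_of_mem f hiI)
      exact IsLocalization.map_units (Localization.AtPrime P) (⟨i, hiP⟩ : P.primeCompl)
    rw [h1, Ideal.map_top]
  exact ⟨hGL, hab, hba, hb, ha⟩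

theorem gor_local_of_linked (𝔠 I J : Ideal R) [hG : LocCoh.IsGorensteinRing (R ⧸ 𝔠)]
    (hIJ : 𝔠.colon (I : Set R) = J) (hJI : 𝔠.colon (J : Set R) = I) (φ : R)
    (hIφ : I = 𝔠 ⊔ Ideal.span {φ}) (P : Ideal R) [P.IsPrime]
    (hJP : J ≤ P)
    (hI : I ≤ P → LocCoh.IsCohenMacaulayLocalRing
      (Localization.AtPrime P ⧸ I.map (algebraMap R (Localization.AtPrime P)))) :
    LocCoh.IsGorensteinLocalRing
      (Localization.AtPrime P ⧸ J.map (algebraMap R (Localization.AtPrime P))) := by
  have h𝔠J : 𝔠 ≤ J := hIJ ▸ Ideal.le_colon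
  have h𝔠I : 𝔠 ≤ I := hJI ▸ Ideal.le_colon
  obtain ⟨hGL, hab, hba, hb, ha⟩ := linked_local_setup 𝔠 I J hIJ hJI P hJP
  set f := algebraMap R (Localization.AtPrime P) with hf
  set π := Ideal.Quotient.mk (𝔠.map f) with hπ
  haveI := hGL
  have ha' : (I.map f).map π ≠ ⊤ → LocCoh.IsCohenMacaulayLocalRing
      ((Localization.AtPrime P ⧸ 𝔠.map f) ⧸ (I.map f).map π) := by
    intro hat
    haveI := hI (ha hat)
    exact isCohenMacaulayLocalRing_of_ringEquiv
      (DoubleQuot.quotQuotEquivQuotOfLE (Ideal.map_mono h𝔠I : 𝔠.map f ≤ I.map f)).symm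
  haveI hCM := cm_quot_of_ann ((I.map f).map π) ((J.map f).map π) hab hba ha' hb
  have hprin : (I.map f).map π = Ideal.span {π (f φ)} := by
    rw [hIφ, Ideal.map_sup, Ideal.map_sup, hπ, Ideal.map_quotient_self, bot_sup_eq,
      Ideal.map_span, Ideal.map_span, Set.image_singleton, Set.image_singleton]
  rw [hprin] at hab hba
  haveI := gor_quot_of_ann_principal (Localization.AtPrime P ⧸ 𝔠.map f) ((J.map f).map π)
    (π (f φ)) hab hba hb
  exact isGorensteinLocalRing_of_ringEquiv
    (DoubleQuot.quotQuotEquivQuotOfLE (Ideal.map_mono h𝔠J : 𝔠.map f ≤ J.map f))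

/-- **Linking an almost complete intersection `I = 𝔠 + (φ)` with `R/I` Cohen–Macaulay by a
Gorenstein ideal `𝔠` gives a Gorenstein ideal.** -/
theorem gor_of_linked_principal (𝔠 I J : Ideal R) [hG : LocCoh.IsGorensteinRing (R ⧸ 𝔠)]
    (hIJ : 𝔠.colon (I : Set R) = J) (hJI : 𝔠.colon (J : Set R) = I) (φ : R)
    (hIφ : I = 𝔠 ⊔ Ideal.span {φ})
    (hI : LocCoh.IsCohenMacaulayRing (R ⧸ I)) : LocCoh.IsGorensteinRing (R ⧸ J) := by
  rw [isCohenMacaulayRing_quotient_iff] at hI
  apply isGorensteinRing_quotient_of_forall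
  intro P hP hJP
  exact gor_local_of_linked 𝔠 I J hIJ hJI φ hIφ P hJP (fun hIP => hI P hIP)

end Local

end Groth.Agent.Helper20.Link
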