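import Mathlib
import Groth.Prelude
import Groth.Agent.Lib.Helper20.Link6
import Groth.Agent.Lib.Helper8.Canon14
import Groth.Agent.Lib.Helper12.GorLink1

/-!
# The sum of two geometrically linked ideals in a Gorenstein local ring is Gorenstein (helper20)
-/

set_option autoImplicit false
set_option linter.style.haveILetI false

universe u

open LocCoh IsLocalRing CategoryTheory

namespace Groth.Agent.Helper20.Link

open Groth.Agent.Helper8 Groth.Agent.Helper8.LC Groth.Agent.Helper8.Canon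
  Groth.Agent.Helper8.CanonEx Groth.Agent.Helper20.CMInf Groth.Agent.Lead.Depth
  Groth.Agent.Helper20.RE

section Seq

variable {Λ : Type u} [CommRing Λ] (a₁ a₂ : Ideal Λ)

/-- `Λ → Λ/a₁ × Λ/a₂` -/
noncomputable def iMap : Λ →ₗ[Λ] (Λ ⧸ a₁) × (Λ ⧸ a₂) :=
  fMap a₁ a₂ ∘ₗ Submodule.mkQ (a₁ ⊓ a₂)

theorem iMap_apply (x : Λ) :
    iMap a₁ a₂ x = (Submodule.Quotient.mk x, Submodule.Quotient.mk x) := rfl

theorem isSES_iMap (hinf : a₁ ⊓ a₂ = ⊥) : IsSES (iMap a₁ a₂) (gMap a₁ a₂) where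
  inj := by
    rw [← LinearMap.ker_eq_bot, LinearMap.ker_eq_bot']
    intro x hx
    rw [iMap_apply, Prod.mk_eq_zero] at hx
    have : x ∈ a₁ ⊓ a₂ :=
      ⟨(Submodule.Quotient.mk_eq_zero _).1 hx.1, (Submodule.Quotient.mk_eq_zero _).1 hx.2⟩
    rw [hinf] at this
    exact this
  exact := by
    rw [LinearMap.exact_iff]
    have h1 : LinearMap.range (iMap a₁ a₂) = LinearMap.range (fMap a₁ a₂) :=
      LinearMap.range_comp_of_range_eq_top _ (Submodule.range_mkQ _)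
    rw [h1]
    exact (LinearMap.exact_iff.1 (exact_fMap_gMap a₁ a₂))
  surj := gMap_surjective a₁ a₂

theorem mem_sup_iff_exists_hom (h12 : Submodule.annihilator a₁ = a₂)
    (h21 : Submodule.annihilator a₂ = a₁) (x : Λ) :
    x ∈ a₁ ⊔ a₂ ↔ ∃ v : ((Λ ⧸ a₁) × (Λ ⧸ a₂)) →ₗ[Λ] Λ,
      v ∘ₗ iMap a₁ a₂ = LinearMap.toSpanSingleton Λ Λ x := by
  constructor
  · intro hx
    obtain ⟨x₁, hx₁, x₂, hx₂, rfl⟩ := Submodule.mem_sup.1 hx
    have k1 : (a₁ : Submodule Λ Λ) ≤ LinearMap.ker (LinearMap.toSpanSingleton Λ Λ x₂) := by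
      intro y hy
      rw [LinearMap.mem_ker, LinearMap.toSpanSingleton_apply, smul_eq_mul, mul_comm]
      have : x₂ ∈ Submodule.annihilator a₁ := h12 ▸ hx₂
      exact (Submodule.mem_annihilator.1 this) y hy
    have k2 : (a₂ : Submodule Λ Λ) ≤ LinearMap.ker (LinearMap.toSpanSingleton Λ Λ x₁) := by
      intro y hy
      rw [LinearMap.mem_ker, LinearMap.toSpanSingleton_apply, smul_eq_mul, mul_comm]
      have : x₁ ∈ Submodule.annihilator a₂ := h21 ▸ hx₁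
      exact (Submodule.mem_annihilator.1 this) y hy
    refine ⟨(Submodule.liftQ (a₁ : Submodule Λ Λ) (LinearMap.toSpanSingleton Λ Λ x₂) k1) ∘ₗ
      LinearMap.fst Λ _ _ +
      (Submodule.liftQ (a₂ : Submodule Λ Λ) (LinearMap.toSpanSingleton Λ Λ x₁) k2) ∘ₗ
      LinearMap.snd Λ _ _, ?_⟩
    apply LinearMap.ext_ring
    rw [LinearMap.comp_apply, iMap_apply, LinearMap.add_apply, LinearMap.comp_apply,
      LinearMap.comp_apply, LinearMap.fst_apply, LinearMap.snd_apply, Submodule.liftQ_apply,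
      Submodule.liftQ_apply, LinearMap.toSpanSingleton_apply, LinearMap.toSpanSingleton_apply,
      LinearMap.toSpanSingleton_apply, one_smul, one_smul, one_smul, add_comm]
  · rintro ⟨v, hv⟩
    have h0 := LinearMap.congr_fun hv 1
    rw [LinearMap.comp_apply, iMap_apply, LinearMap.toSpanSingleton_apply, one_smul] at h0
    have hsplit : ((Submodule.Quotient.mk (1 : Λ) : Λ ⧸ a₁), (Submodule.Quotient.mk (1 : Λ) : Λ ⧸ a₂)) =
        ((Submodule.Quotient.mk (1 : Λ) : Λ ⧸ a₁), (0 : Λ ⧸ a₂)) +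
          ((0 : Λ ⧸ a₁), (Submodule.Quotient.mk (1 : Λ) : Λ ⧸ a₂)) := by
      rw [Prod.mk_add_mk, add_zero, zero_add]
    rw [hsplit, map_add] at h0
    rw [← h0]
    have m1 : v ((Submodule.Quotient.mk (1 : Λ) : Λ ⧸ a₁), (0 : Λ ⧸ a₂)) ∈ a₂ := by
      have hgoal : v ((Submodule.Quotient.mk (1 : Λ) : Λ ⧸ a₁), (0 : Λ ⧸ a₂)) ∈
          Submodule.annihilator a₁ := ?_
      · exact h12 ▸ hgoal
      rw [Submodule.mem_annihilator]
      intro y hy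
      rw [smul_eq_mul, mul_comm, ← smul_eq_mul, ← map_smul, Prod.smul_mk, smul_zero,
        ← Submodule.Quotient.mk_smul, smul_eq_mul, mul_one,
        (Submodule.Quotient.mk_eq_zero _).2 hy]
      exact map_zero v
    have m2 : v ((0 : Λ ⧸ a₁), (Submodule.Quotient.mk (1 : Λ) : Λ ⧸ a₂)) ∈ a₁ := by
      have hgoal : v ((0 : Λ ⧸ a₁), (Submodule.Quotient.mk (1 : Λ) : Λ ⧸ a₂)) ∈
          Submodule.annihilator a₂ := ?_
      · exact h21 ▸ hgoal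
      rw [Submodule.mem_annihilator]
      intro y hy
      rw [smul_eq_mul, mul_comm, ← smul_eq_mul, ← map_smul, Prod.smul_mk, smul_zero,
        ← Submodule.Quotient.mk_smul, smul_eq_mul, mul_one,
        (Submodule.Quotient.mk_eq_zero _).2 hy]
      exact map_zero v
    exact Submodule.add_mem _ (Submodule.mem_sup_right m1) (Submodule.mem_sup_left m2)

open Abelian in
theorem homδ_surjective_of_subsingleton {R : Type u} [CommRing R] {N F M : Type u}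
    [AddCommGroup N] [Module R N] [AddCommGroup F] [Module R F] [AddCommGroup M] [Module R M]
    {ι : N →ₗ[R] F} {π : F →ₗ[R] M} (hS : IsSES ι π) (K : Type u) [AddCommGroup K] [Module R K]
    (hvan : Subsingleton (Abelian.Ext (ModuleCat.of R F) (ModuleCat.of R K) 1)) :
    Function.Surjective (homδ hS K) := by
  intro x₃
  have h0 : (Ext.mk₀ hS.sc.g).comp x₃ (zero_add (0 + 1)) = 0 := Subsingleton.elim _ _
  obtain ⟨x₁, hx₁⟩ := Ext.contravariant_sequence_exact₃ hS.shortExact (ModuleCat.of R K) x₃ h0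
    (add_comm 1 0)
  obtain ⟨u, rfl⟩ := (hom0 N K).surjective x₁
  exact ⟨u, hx₁⟩

open Abelian in
/-- `Ext¹(Λ/(a₁+a₂), Λ) ≅ Λ/(a₁+a₂)` for geometrically linked `a₁`, `a₂` -/
theorem nonempty_ext_one_equiv (h12 : Submodule.annihilator a₁ = a₂)
    (h21 : Submodule.annihilator a₂ = a₁) (hinf : a₁ ⊓ a₂ = ⊥)
    (hvan : Subsingleton (Abelian.Ext (ModuleCat.of Λ ((Λ ⧸ a₁) × (Λ ⧸ a₂)))
      (ModuleCat.of Λ Λ) 1)) :
    Nonempty (Abelian.Ext (ModuleCat.of Λ (Λ ⧸ (a₁ ⊔ a₂))) (ModuleCat.of Λ Λ) 1 ≃ₗ[Λ]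
      (Λ ⧸ (a₁ ⊔ a₂))) := by
  have hS := isSES_iMap a₁ a₂ hinf
  let Φ : Λ →ₗ[Λ] Abelian.Ext (ModuleCat.of Λ (Λ ⧸ (a₁ ⊔ a₂))) (ModuleCat.of Λ Λ) 1 :=
    homδ hS Λ ∘ₗ (LinearMap.ringLmapEquivSelf Λ Λ Λ).symm.toLinearMap
  have hΦ : Function.Surjective Φ :=
    (homδ_surjective_of_subsingleton hS Λ hvan).comp (LinearMap.ringLmapEquivSelf Λ Λ Λ).symm.surjective
  have hker : LinearMap.ker Φ = a₁ ⊔ a₂ := by
    ext x
    rw [LinearMap.mem_ker, mem_sup_iff_exists_hom a₁ a₂ h12 h21]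
    have h1 : Φ x = homδ hS Λ (LinearMap.toSpanSingleton Λ Λ x) := rfl
    rw [h1, (homδ_exact hS Λ) (LinearMap.toSpanSingleton Λ Λ x)]
    rfl
  exact ⟨(Submodule.quotEquivOfEq _ _ hker.symm ≪≫ₗ Φ.quotKerEquivOfSurjective hΦ).symm⟩

end Seq

section Main

variable (Λ : Type u) [CommRing Λ] [hG : LocCoh.IsGorensteinLocalRing Λ] (a₁ a₂ : Ideal Λ)

/-- an ideal with zero annihilator in a Noetherian ring has height `≥ 1` -/
theorem one_le_height_of_annihilator_eq_bot {A : Type u} [CommRing A] [IsNoetherianRing A]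
    (I : Ideal A) (hann : Submodule.annihilator I = ⊥) : 1 ≤ I.height := by
  rw [Ideal.height_eq_inf_minimalPrimes]
  refine le_iInf₂ fun q hq => ?_
  haveI : q.IsPrime := hq.1.1
  rw [Order.one_le_iff_ne_zero]
  intro h0
  rw [Ideal.height_eq_zero_iff] at h0
  have h1 : q ∈ associatedPrimes A A := by
    have := Module.associatedPrimes.minimalPrimes_annihilator_subset_associatedPrimes A A
    rw [Module.annihilator_eq_bot.mpr inferInstance] at this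
    exact this h0
  obtain ⟨-, z, hz⟩ := (isAssociatedPrime_iff).mp h1
  have hz0 : z ∈ Submodule.annihilator I := by
    rw [Submodule.mem_annihilator]
    intro y hy
    have : y ∈ q := hq.1.2 hy
    rw [hz, Submodule.mem_colon_singleton, Submodule.mem_bot] at this
    rw [smul_eq_mul, mul_comm]
    exact this
  rw [hann, Submodule.mem_bot] at hz0
  subst hz0
  have : (1 : A) ∈ q := by
    rw [hz, Submodule.mem_colon_singleton, smul_zero]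
    exact Submodule.zero_mem _
  exact hq.1.1.ne_top ((Ideal.eq_top_iff_one _).2 this)

/-- **the sum of two geometrically linked ideals is a Gorenstein ideal of height one** -/
theorem gor_quot_sup (h12 : Submodule.annihilator a₁ = a₂)
    (h21 : Submodule.annihilator a₂ = a₁) (hinf : a₁ ⊓ a₂ = ⊥) (h1 : a₁ ≠ ⊤) (h2 : a₂ ≠ ⊤)
    [hc1 : LocCoh.IsCohenMacaulayLocalRing (Λ ⧸ a₁)]
    [hc2 : LocCoh.IsCohenMacaulayLocalRing (Λ ⧸ a₂)] :
    ∃ (_ : LocCoh.IsGorensteinLocalRing (Λ ⧸ (a₁ ⊔ a₂))),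
      ringKrullDim (Λ ⧸ (a₁ ⊔ a₂)) + 1 = ringKrullDim Λ := by
  obtain ⟨d, hd⟩ := exists_nat_ringKrullDim (R := Λ)
  have hle : a₁ ⊔ a₂ ≤ maximalIdeal Λ :=
    sup_le (IsLocalRing.le_maximalIdeal h1) (IsLocalRing.le_maximalIdeal h2)
  have hne : a₁ ⊔ a₂ ≠ ⊤ := fun h =>
    (maximalIdeal.isMaximal Λ).ne_top (top_le_iff.mp (h ▸ hle))
  haveI : Nontrivial (Λ ⧸ (a₁ ⊔ a₂)) := Ideal.Quotient.nontrivial_iff.mpr hne
  haveI : IsLocalRing (Λ ⧸ (a₁ ⊔ a₂)) :=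
    IsLocalRing.of_surjective' (Ideal.Quotient.mk _) Ideal.Quotient.mk_surjective
  -- dimensions of `Λ/aᵢ`
  have hd1 : ringKrullDim (Λ ⧸ a₁) = d := by
    apply le_antisymm
    · rw [← hd]; exact ringKrullDim_quotient_le a₁
    · have := le_ringKrullDim_quot_annihilator d hd a₂ (h21 ▸ h1)
      rwa [h21] at this
  have hd2 : ringKrullDim (Λ ⧸ a₂) = d := by
    apply le_antisymm
    · rw [← hd]; exact ringKrullDim_quotient_le a₂
    · have := le_ringKrullDim_quot_annihilator d hd a₁ (h12 ▸ h2)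
      rwa [h12] at this
  have d1 := depth_quotient_eq a₁ d hd1
  have d2 := depth_quotient_eq a₂ d hd2
  have d4 : (d : ℕ∞) ≤ idealDepth (maximalIdeal Λ) ((Λ ⧸ a₁) × (Λ ⧸ a₂)) := by
    have := (idealDepth_shortExact (maximalIdeal Λ) (Λ ⧸ a₁) ((Λ ⧸ a₁) × (Λ ⧸ a₂)) (Λ ⧸ a₂)
      (LinearMap.inl Λ (Λ ⧸ a₁) (Λ ⧸ a₂)) (LinearMap.snd Λ (Λ ⧸ a₁) (Λ ⧸ a₂))
      LinearMap.inl_injective LinearMap.snd_surjective (by
        intro z
        constructor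
        · intro hz
          exact ⟨z.1, Prod.ext rfl (by simpa using hz.symm)⟩
        · rintro ⟨w, rfl⟩
          rfl)).1
    rw [d1, d2, min_self] at this
    exact this
  have dΛ : idealDepth (maximalIdeal Λ) Λ = (d : ℕ∞) := depth_self_eq d hd
  have hS := isSES_iMap a₁ a₂ hinf
  -- height
  have hann : Submodule.annihilator (a₁ ⊔ a₂) = ⊥ := by
    rw [eq_bot_iff]
    intro z hz
    rw [Submodule.mem_annihilator] at hz
    have z1 : z ∈ Submodule.annihilator a₁ :=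
      Submodule.mem_annihilator.2 fun y hy => hz y (Submodule.mem_sup_left hy)
    have z2 : z ∈ Submodule.annihilator a₂ :=
      Submodule.mem_annihilator.2 fun y hy => hz y (Submodule.mem_sup_right hy)
    rw [h12] at z1
    rw [h21] at z2
    rw [← hinf]
    exact ⟨z2, z1⟩
  have hht := one_le_height_of_annihilator_eq_bot (a₁ ⊔ a₂) hann
  obtain ⟨e, he⟩ := exists_nat_ringKrullDim (R := Λ ⧸ (a₁ ⊔ a₂))
  have hfin : (a₁ ⊔ a₂).height ≠ ⊤ := Ideal.height_ne_top hne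
  obtain ⟨g, hg⟩ := ENat.ne_top_iff_exists.mp hfin
  have hdge : d = g + e :=
    Groth.Agent.Helper8.LDual.height_add_eq hd (a₁ ⊔ a₂) hne e he g hg.symm
  have hg1 : 1 ≤ g := by
    rw [← hg] at hht
    exact_mod_cast hht
  -- depth of the quotient
  have d5 : ((d - 1 : ℕ) : ℕ∞) ≤ idealDepth (maximalIdeal Λ) (Λ ⧸ (a₁ ⊔ a₂)) := by
    have := (idealDepth_shortExact (maximalIdeal Λ) Λ ((Λ ⧸ a₁) × (Λ ⧸ a₂))
      (Λ ⧸ (a₁ ⊔ a₂)) (iMap a₁ a₂) (gMap a₁ a₂) hS.inj hS.surj hS.exact).2.1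
    rw [dΛ] at this
    refine le_trans (le_min ?_ ?_) this
    · exact le_trans (by exact_mod_cast Nat.sub_le d 1) d4
    · have : ((d - 1 : ℕ) : ℕ∞) = (d : ℕ∞) - 1 := by
        push_cast
        rfl
      rw [this]
  have d6 : LocCoh.depth Λ (Λ ⧸ (a₁ ⊔ a₂)) = LocCoh.depth (Λ ⧸ (a₁ ⊔ a₂)) (Λ ⧸ (a₁ ⊔ a₂)) :=
    depth_eq_of_surjective (R₁ := Λ) (R₂ := Λ ⧸ (a₁ ⊔ a₂)) Ideal.Quotient.mk_surjective
      (Λ ⧸ (a₁ ⊔ a₂))
  rw [← depth_def, d6] at d5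
  have d8 := depth_self_le_ringKrullDim (R := Λ ⧸ (a₁ ⊔ a₂))
  rw [he] at d8
  have d9 : ((d - 1 : ℕ) : ℕ∞) ≤ (e : ℕ∞) := by
    have : (((d - 1 : ℕ) : ℕ∞) : WithBot ℕ∞) ≤ ((e : ℕ∞) : WithBot ℕ∞) :=
      le_trans (by exact_mod_cast d5) d8
    exact_mod_cast this
  have hde : d - 1 ≤ e := by exact_mod_cast d9
  have hed : e + 1 = d := by omega
  have hg' : g = 1 := by omega
  have hdepth : LocCoh.depth (Λ ⧸ (a₁ ⊔ a₂)) (Λ ⧸ (a₁ ⊔ a₂)) = (e : ℕ∞) := by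
    apply le_antisymm
    · exact_mod_cast d8
    · have : d - 1 = e := by omega
      rw [← this]; exact d5
  haveI hCMS : LocCoh.IsCohenMacaulayLocalRing (Λ ⧸ (a₁ ⊔ a₂)) := by
    rw [isCohenMacaulayLocalRing_iff, he, hdepth]
    rfl
  have hdim : ringKrullDim (Λ ⧸ (a₁ ⊔ a₂)) + 1 = ringKrullDim Λ := by
    rw [he, hd]
    exact_mod_cast hed
  refine ⟨?_, hdim⟩
  -- the canonical module
  have hsurj : Function.Surjective (algebraMap Λ (Λ ⧸ (a₁ ⊔ a₂))) := Ideal.Quotient.mk_surjective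
  have hker : RingHom.ker (algebraMap Λ (Λ ⧸ (a₁ ⊔ a₂))) = a₁ ⊔ a₂ := by
    rw [Ideal.Quotient.algebraMap_eq, Ideal.mk_ker]
  have hgk : (RingHom.ker (algebraMap Λ (Λ ⧸ (a₁ ⊔ a₂)))).height = ((1 : ℕ) : ℕ∞) := by
    rw [hker, ← hg, hg']
  obtain ⟨E, _, _, f, hf⟩ :=
    Groth.Agent.Helper1.exists_injectiveHull (R := Λ ⧸ (a₁ ⊔ a₂))
      (ResidueField (Λ ⧸ (a₁ ⊔ a₂)))
  obtain ⟨K, _, _, _, _, hfinK, ⟨e1⟩, ⟨eK⟩⟩ :=
    exists_canonical_ext (R' := Λ) (R := Λ ⧸ (a₁ ⊔ a₂)) hsurj e he hf 1 hgk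
  haveI := hfinK
  have hvan : Subsingleton (Abelian.Ext (ModuleCat.of Λ ((Λ ⧸ a₁) × (Λ ⧸ a₂)))
      (ModuleCat.of Λ Λ) 1) :=
    Groth.Agent.Helper12.GorLink.ext_self_subsingleton_of_depth d hd d ((Λ ⧸ a₁) × (Λ ⧸ a₂))
      d4 1 (by omega)
  obtain ⟨e2⟩ := nonempty_ext_one_equiv a₁ a₂ h12 h21 hinf hvan
  have e3 : Abelian.Ext (ModuleCat.of Λ (Λ ⧸ RingHom.ker (algebraMap Λ (Λ ⧸ (a₁ ⊔ a₂)))))
      (ModuleCat.of Λ Λ) 1 ≃ₗ[Λ]
      Abelian.Ext (ModuleCat.of Λ (Λ ⧸ (a₁ ⊔ a₂))) (ModuleCat.of Λ Λ) 1 :=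
    extCongrLeft (Submodule.quotEquivOfEq _ _ hker.symm) (ModuleCat.of Λ Λ) 1
  have e4 : K ≃ₗ[Λ] (Λ ⧸ (a₁ ⊔ a₂)) := e1 ≪≫ₗ e3 ≪≫ₗ e2
  have e5 : K ≃ₗ[Λ ⧸ (a₁ ⊔ a₂)] (Λ ⧸ (a₁ ⊔ a₂)) := e4.extendScalarsOfSurjective hsurj
  have k1 : HasInjectiveDimensionLT (ModuleCat.of (Λ ⧸ (a₁ ⊔ a₂)) K) (e + 1) :=
    hasInjectiveDimensionLT_canon he hf eK
  have k2 : HasInjectiveDimensionLT (ModuleCat.of (Λ ⧸ (a₁ ⊔ a₂)) (Λ ⧸ (a₁ ⊔ a₂))) (e + 1) :=
    hasInjectiveDimensionLT_of_iso e5.toModuleIso (e + 1)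
  exact { exists_hasInjectiveDimensionLT := ⟨e + 1, k2⟩ }

end Main

end Groth.Agent.Helper20.Link
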