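import Mathlib
import Groth.Prelude
import Groth.Agent.Lib.Helper20.Link7

/-!
# Geometric linkage: `R/(I₁ + I₂)` is Gorenstein when `R/(I₁ ∩ I₂)` is Gorenstein and `R/I₁`,
`R/I₂` are Cohen–Macaulay (helper20)
-/

set_option autoImplicit false
set_option linter.style.haveILetI false

universe u

open LocCoh IsLocalRing

namespace Groth.Agent.Helper20.Link

open Groth.Agent.Helper20.RE Groth.Agent.Helper20.CMInf Groth.Agent.Helper20.GorFlat

section Local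

variable {R : Type u} [CommRing R] [IsNoetherianRing R]

theorem gor_local_of_geomLinked (I₁ I₂ : Ideal R)
    [hG : LocCoh.IsGorensteinRing (R ⧸ (I₁ ⊓ I₂))]
    (h12 : (I₁ ⊓ I₂).colon (I₁ : Set R) = I₂) (h21 : (I₁ ⊓ I₂).colon (I₂ : Set R) = I₁)
    (P : Ideal R) [P.IsPrime] (h1P : I₁ ≤ P) (h2P : I₂ ≤ P)
    [hc1 : LocCoh.IsCohenMacaulayLocalRing
      (Localization.AtPrime P ⧸ I₁.map (algebraMap R (Localization.AtPrime P)))]
    [hc2 : LocCoh.IsCohenMacaulayLocalRing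
      (Localization.AtPrime P ⧸ I₂.map (algebraMap R (Localization.AtPrime P)))] :
    ∃ (_ : LocCoh.IsGorensteinLocalRing
      (Localization.AtPrime P ⧸ (I₁ ⊔ I₂).map (algebraMap R (Localization.AtPrime P)))),
      ringKrullDim (Localization.AtPrime P ⧸
        (I₁ ⊔ I₂).map (algebraMap R (Localization.AtPrime P))) + 1 =
      ringKrullDim (Localization.AtPrime P ⧸
        (I₁ ⊓ I₂).map (algebraMap R (Localization.AtPrime P))) := by
  obtain ⟨hGL, hab, hba, hb, -⟩ := linked_local_setup (I₁ ⊓ I₂) I₁ I₂ h12 h21 P h2P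
  obtain ⟨-, -, -, ha, -⟩ := linked_local_setup (I₁ ⊓ I₂) I₂ I₁ h21 h12 P h1P
  set f := algebraMap R (Localization.AtPrime P) with hf
  set π := Ideal.Quotient.mk ((I₁ ⊓ I₂).map f) with hπ
  haveI := hGL
  have hX1 : (I₁ ⊓ I₂).map f ≤ I₁.map f := Ideal.map_mono inf_le_left
  have hX2 : (I₁ ⊓ I₂).map f ≤ I₂.map f := Ideal.map_mono inf_le_right
  have hXJ : (I₁ ⊓ I₂).map f ≤ (I₁ ⊔ I₂).map f := Ideal.map_mono (inf_le_left.trans le_sup_left)
  have hinf : (I₁.map f).map π ⊓ (I₂.map f).map π = ⊥ := by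
    rw [eq_bot_iff]
    rintro z ⟨hz1, hz2⟩
    obtain ⟨y, rfl⟩ := Ideal.Quotient.mk_surjective z
    rw [SetLike.mem_coe, Ideal.mem_quotient_iff_mem hX1] at hz1
    rw [SetLike.mem_coe, Ideal.mem_quotient_iff_mem hX2] at hz2
    have : y ∈ (I₁ ⊓ I₂).map f := by
      rw [IsLocalization.map_inf P.primeCompl]
      exact ⟨hz1, hz2⟩
    rw [Submodule.mem_bot]
    exact Ideal.Quotient.eq_zero_iff_mem.2 this
  haveI : LocCoh.IsCohenMacaulayLocalRing
      ((Localization.AtPrime P ⧸ (I₁ ⊓ I₂).map f) ⧸ (I₁.map f).map π) :=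
    isCohenMacaulayLocalRing_of_ringEquiv (DoubleQuot.quotQuotEquivQuotOfLE hX1).symm
  haveI : LocCoh.IsCohenMacaulayLocalRing
      ((Localization.AtPrime P ⧸ (I₁ ⊓ I₂).map f) ⧸ (I₂.map f).map π) :=
    isCohenMacaulayLocalRing_of_ringEquiv (DoubleQuot.quotQuotEquivQuotOfLE hX2).symm
  have H := gor_quot_sup (Localization.AtPrime P ⧸ (I₁ ⊓ I₂).map f) ((I₁.map f).map π)
    ((I₂.map f).map π) hab hba hinf ha hb
  have hsup : (I₁.map f).map π ⊔ (I₂.map f).map π = ((I₁ ⊔ I₂).map f).map π := by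
    rw [Ideal.map_sup, Ideal.map_sup]
  rw [hsup] at H
  obtain ⟨hGS, hdim⟩ := H
  haveI := hGS
  refine ⟨isGorensteinLocalRing_of_ringEquiv (DoubleQuot.quotQuotEquivQuotOfLE hXJ), ?_⟩
  rw [← hdim, ringKrullDim_eq_of_ringEquiv (DoubleQuot.quotQuotEquivQuotOfLE hXJ)]

/-- **Geometric linkage**: if `I₁`, `I₂` are linked by `I₁ ∩ I₂`, `R/(I₁ ∩ I₂)` is Gorenstein and
`R/I₁`, `R/I₂` are Cohen–Macaulay, then `R/(I₁ + I₂)` is Gorenstein. -/
theorem gor_sup_of_geomLinked (I₁ I₂ : Ideal R)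
    [hG : LocCoh.IsGorensteinRing (R ⧸ (I₁ ⊓ I₂))]
    (h12 : (I₁ ⊓ I₂).colon (I₁ : Set R) = I₂) (h21 : (I₁ ⊓ I₂).colon (I₂ : Set R) = I₁)
    (hc1 : LocCoh.IsCohenMacaulayRing (R ⧸ I₁)) (hc2 : LocCoh.IsCohenMacaulayRing (R ⧸ I₂)) :
    LocCoh.IsGorensteinRing (R ⧸ (I₁ ⊔ I₂)) := by
  rw [isCohenMacaulayRing_quotient_iff] at hc1 hc2
  apply isGorensteinRing_quotient_of_forall
  intro P hP hJP
  haveI := hc1 P (le_sup_left.trans hJP)
  haveI := hc2 P (le_sup_right.trans hJP)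
  exact (gor_local_of_geomLinked I₁ I₂ h12 h21 P (le_sup_left.trans hJP)
    (le_sup_right.trans hJP)).1

end Local

end Groth.Agent.Helper20.Link
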