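import Mathlib
import Groth.Prelude
import Groth.Agent.Lib.Helper20.Link8
import Groth.Agent.Lib.Helper28.GorUnmixed
import Groth.Agent.Lib.Helper28.GorLink

/-!
# Homogeneous Cohen–Macaulay ideals of a polynomial ring: unmixedness, colons, heights (helper20)
-/

set_option autoImplicit false
set_option linter.style.haveILetI false

universe u

open LocCoh IsLocalRing

namespace Groth.Agent.Helper20.Link

section General

variable {A : Type u} [CommRing A]

/-- `ht (q/J) = dim (A_q / J A_q)` -/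
theorem height_map_mk_eq_ringKrullDim (J q : Ideal A) [q.IsPrime] (hJq : J ≤ q) :
    (((q.map (Ideal.Quotient.mk J)).height : ℕ∞) : WithBot ℕ∞) =
      ringKrullDim (Localization.AtPrime q ⧸ J.map (algebraMap A (Localization.AtPrime q))) := by
  haveI : (q.map (Ideal.Quotient.mk J)).IsPrime :=
    Ideal.map_isPrime_of_surjective Ideal.Quotient.mk_surjective (by rw [Ideal.mk_ker]; exact hJq)
  obtain ⟨e⟩ := Groth.Agent.Helper20.CMInf.nonempty_quotLocEquiv' J q hJq
  rw [← ringKrullDim_eq_of_ringEquiv e,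
    IsLocalization.AtPrime.ringKrullDim_eq_height (q.map (Ideal.Quotient.mk J))]

theorem inf_colon_eq [IsNoetherianRing A] (I₁ I₂ : Ideal A)
    (h : ∀ p ∈ associatedPrimes A (A ⧸ I₂), ¬ I₁ ≤ p) :
    (I₁ ⊓ I₂).colon (I₁ : Set A) = I₂ := by
  apply le_antisymm
  · intro x hx
    by_contra hx2
    have hne : (Ideal.Quotient.mk I₂ x : A ⧸ I₂) ≠ 0 := fun h0 =>
      hx2 (Ideal.Quotient.eq_zero_iff_mem.1 h0)
    obtain ⟨p, hp, hle⟩ := exists_le_isAssociatedPrime_of_isNoetherianRing A
      (Ideal.Quotient.mk I₂ x : A ⧸ I₂) hne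
    apply h p hp
    intro i hi
    apply hle
    rw [Submodule.mem_colon_singleton, Submodule.mem_bot]
    have h1 : i * x ∈ I₁ ⊓ I₂ := by
      rw [mul_comm]
      exact (Submodule.mem_colon.1 hx) i hi
    change i • (Ideal.Quotient.mk I₂ x : A ⧸ I₂) = 0
    rw [Algebra.smul_def, Ideal.Quotient.algebraMap_eq, ← map_mul]
    exact Ideal.Quotient.eq_zero_iff_mem.2 h1.2
  · intro y hy
    rw [Submodule.mem_colon]
    intro i hi
    rw [smul_eq_mul]
    exact ⟨Ideal.mul_mem_left _ _ hi, Ideal.mul_mem_right _ _ hy⟩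

theorem height_inf_eq (I₁ I₂ : Ideal A) (c : ℕ∞) (h₁ : I₁.height = c) (h₂ : I₂.height = c) :
    (I₁ ⊓ I₂).height = c := by
  apply le_antisymm
  · rw [← h₁]; exact Ideal.height_mono inf_le_left
  · rw [Ideal.height_eq_inf_minimalPrimes]
    refine le_iInf₂ fun q hq => ?_
    haveI : q.IsPrime := hq.1.1
    rcases (Ideal.IsPrime.inf_le inferInstance).1 hq.1.2 with h | h
    · rw [← h₁]; exact Ideal.height_mono h
    · rw [← h₂]; exact Ideal.height_mono h

end General

section Poly

variable (K : Type u) [Field K] (n : ℕ)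

/-- homogeneous Cohen–Macaulay ideals of a polynomial ring are unmixed -/
theorem unmixed_of_cm (I : Ideal (MvPolynomial (Fin n) K))
    (hI : I.IsHomogeneous (GrSyz.stdGr K (Fin n)))
    [hCM : LocCoh.IsCohenMacaulayRing (MvPolynomial (Fin n) K ⧸ I)]
    (p : Ideal (MvPolynomial (Fin n) K))
    (hp : p ∈ associatedPrimes (MvPolynomial (Fin n) K) (MvPolynomial (Fin n) K ⧸ I)) :
    p ∈ I.minimalPrimes ∧ p.height = I.height := by
  have hCMI : ∀ (p : Ideal (MvPolynomial (Fin n) K ⧸ I)) [p.IsPrime],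
      LocCoh.IsCohenMacaulayLocalRing (Localization.AtPrime p) := fun p _ =>
    LocCoh.IsCohenMacaulayRing.isCohenMacaulayLocalRing_localization p
  have hmin := Groth.Agent.Helper28.GorLink.mem_minimalPrimes_of_mem_associatedPrimes
    (MvPolynomial (Fin n) K) I hCMI p hp
  exact ⟨hmin,
    Groth.Agent.Helper28.GorUnmixed.height_eq_of_mem_minimalPrimes K n I hI hCMI p hmin⟩

/-- `ht J + dim (R/J)_𝔪 = n` for a proper homogeneous ideal with `R/J` Cohen–Macaulay -/
theorem height_add_height_irrelevant (J : Ideal (MvPolynomial (Fin n) K))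
    (hJ : J.IsHomogeneous (GrSyz.stdGr K (Fin n))) (hne : J ≠ ⊤)
    [hCM : LocCoh.IsCohenMacaulayRing (MvPolynomial (Fin n) K ⧸ J)] :
    J.height + ((RingHom.ker (MvPolynomial.constantCoeff :
      MvPolynomial (Fin n) K →+* K)).map (Ideal.Quotient.mk J)).height = n := by
  have hCMJ : ∀ (p : Ideal (MvPolynomial (Fin n) K ⧸ J)) [p.IsPrime],
      LocCoh.IsCohenMacaulayLocalRing (Localization.AtPrime p) := fun p _ =>
    LocCoh.IsCohenMacaulayRing.isCohenMacaulayLocalRing_localization p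
  obtain ⟨P, hP⟩ := Ideal.nonempty_minimalPrimes hne
  rw [← Groth.Agent.Helper28.GorUnmixed.height_eq_of_mem_minimalPrimes K n J hJ hCMJ P hP]
  exact Groth.Agent.Helper28.GorUnmixed.height_add_eq K n J hJ hCMJ P hP

end Poly

end Groth.Agent.Helper20.Link
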