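import Mathlib

/-! Jointly faithfully flat families of algebras: descent of bijectivity of a ring map. -/

set_option autoImplicit false
universe u v w

namespace Groth.Agent.Helper20.FlatCover
open scoped TensorProduct
open CategoryTheory Limits

section JF

variable {R : Type u} [CommRing R] {ι : Type v} (T : ι → Type u)
  [∀ i, CommRing (T i)] [∀ i, Algebra R (T i)] [∀ i, Module.Flat R (T i)]

/-- A family of flat algebras such that every proper ideal stays proper in one of them
is jointly faithful. -/
theorem subsingleton_of_forall_tensor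
    (hT : ∀ I : Ideal R, I ≠ ⊤ → ∃ i, I.map (algebraMap R (T i)) ≠ ⊤)
    (M : Type w) [AddCommGroup M] [Module R M] (hM : ∀ i, Subsingleton (M ⊗[R] T i)) :
    Subsingleton M := by
  by_contra hne
  rw [not_subsingleton_iff_nontrivial] at hne
  obtain ⟨m, hm⟩ := exists_ne (0 : M)
  let φ : R →ₗ[R] M := LinearMap.toSpanSingleton R M m
  let I : Ideal R := LinearMap.ker φ
  have hI : I ≠ ⊤ := by
    intro h
    have h1 : (1 : R) ∈ I := h ▸ Submodule.mem_top
    rw [LinearMap.mem_ker] at h1
    apply hm
    simpa [φ] using h1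
  obtain ⟨i, hi⟩ := hT I hI
  let ψ : (R ⧸ I) →ₗ[R] M := Submodule.liftQ I φ le_rfl
  have hψ : Function.Injective ψ := by
    rw [← LinearMap.ker_eq_bot]
    exact Submodule.ker_liftQ_eq_bot _ _ _ le_rfl
  have h1 : Function.Injective (ψ.rTensor (T i)) :=
    Module.Flat.rTensor_preserves_injective_linearMap ψ hψ
  have := hM i
  have h2 : Subsingleton ((R ⧸ I) ⊗[R] T i) := h1.subsingleton
  let J := I.map (algebraMap R (T i))
  let a1 : (R ⧸ I) →ₐ[R] (T i ⧸ J) := Ideal.Quotient.liftₐ I (Algebra.ofId R (T i ⧸ J)) (by
    intro a ha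
    show algebraMap R (T i ⧸ J) a = 0
    rw [IsScalarTower.algebraMap_apply R (T i) (T i ⧸ J), Ideal.Quotient.algebraMap_eq,
      Ideal.Quotient.eq_zero_iff_mem]
    exact Ideal.mem_map_of_mem _ ha)
  let a2 : T i →ₐ[R] (T i ⧸ J) := Ideal.Quotient.mkₐ R J
  let p := Algebra.TensorProduct.productMap a1 a2
  have h3 : (1 : T i ⧸ J) = 0 := by
    rw [← map_one p, Subsingleton.elim (1 : (R ⧸ I) ⊗[R] T i) 0, map_zero]
  apply hi
  rw [Ideal.eq_top_iff_one, ← Ideal.Quotient.eq_zero_iff_mem]
  exact h3

variable {S : Type u} [CommRing S] [Algebra R S]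

theorem bijective_of_forall_includeRight
    (hT : ∀ I : Ideal R, I ≠ ⊤ → ∃ i, I.map (algebraMap R (T i)) ≠ ⊤)
    (h : ∀ i, Function.Bijective (Algebra.TensorProduct.includeRight : T i →ₐ[R] S ⊗[R] T i)) :
    Function.Bijective (algebraMap R S) := by
  let f : R →ₗ[R] S := Algebra.linearMap R S
  have hf : ∀ i, Function.Bijective (f.rTensor (T i)) := by
    intro i
    have : (f.rTensor (T i) : R ⊗[R] T i → S ⊗[R] T i) =
        (Algebra.TensorProduct.includeRight : T i →ₐ[R] S ⊗[R] T i) ∘ (TensorProduct.lid R (T i)) := by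
      funext x
      induction x using TensorProduct.induction_on with
      | zero => simp
      | tmul r t =>
        simp only [LinearMap.rTensor_tmul, Function.comp_apply, TensorProduct.lid_tmul,
          Algebra.TensorProduct.includeRight_apply, f, Algebra.linearMap_apply]
        rw [Algebra.algebraMap_eq_smul_one, TensorProduct.smul_tmul]
      | add x y hx hy => simp only [map_add, hx, hy, Function.comp_apply]
    rw [this]
    exact (h i).comp (TensorProduct.lid R (T i)).bijective
  constructor
  · have hK : Subsingleton (LinearMap.ker f) := subsingleton_of_forall_tensor T hT _ (fun i => by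
      have h1 : Function.Injective ((LinearMap.ker f).subtype.rTensor (T i)) :=
        Module.Flat.rTensor_preserves_injective_linearMap _ (Submodule.injective_subtype _)
      have h2 : f.rTensor (T i) ∘ₗ (LinearMap.ker f).subtype.rTensor (T i) = 0 := by
        rw [← LinearMap.rTensor_comp, LinearMap.comp_ker_subtype, LinearMap.rTensor_zero]
      refine ⟨fun x y => h1 ((hf i).1 ?_)⟩
      have hx := LinearMap.congr_fun h2 x
      have hy := LinearMap.congr_fun h2 y
      simp only [LinearMap.comp_apply, LinearMap.zero_apply] at hx hy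
      rw [hx, hy])
    rw [injective_iff_map_eq_zero]
    intro r hr
    have := Subsingleton.elim (⟨r, hr⟩ : LinearMap.ker f) 0
    exact congrArg Subtype.val this
  · have hC : Subsingleton (S ⧸ LinearMap.range f) := subsingleton_of_forall_tensor T hT _ (fun i => by
      have h1 : Function.Surjective ((LinearMap.range f).mkQ.rTensor (T i)) :=
        LinearMap.rTensor_surjective _ (Submodule.mkQ_surjective _)
      have h2 : (LinearMap.range f).mkQ.rTensor (T i) ∘ₗ f.rTensor (T i) = 0 := by
        rw [← LinearMap.rTensor_comp, LinearMap.range_mkQ_comp, LinearMap.rTensor_zero]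
      refine ⟨fun x y => ?_⟩
      obtain ⟨x', rfl⟩ := h1 x
      obtain ⟨x'', rfl⟩ := (hf i).2 x'
      obtain ⟨y', rfl⟩ := h1 y
      obtain ⟨y'', rfl⟩ := (hf i).2 y'
      have hx := LinearMap.congr_fun h2 x''
      have hy := LinearMap.congr_fun h2 y''
      simp only [LinearMap.comp_apply, LinearMap.zero_apply] at hx hy
      rw [hx, hy])
    intro s
    have h0 : (LinearMap.range f).mkQ s = 0 := Subsingleton.elim _ _
    rw [Submodule.mkQ_apply, Submodule.Quotient.mk_eq_zero] at h0
    obtain ⟨r, hr⟩ := h0
    exact ⟨r, hr⟩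

end JF

/-- Categorical form: if `pushout.inr φ (ψ i)` is an isomorphism for a jointly faithfully flat family
`ψ i : R ⟶ T i`, then `φ` is an isomorphism. -/
theorem isIso_of_forall_isIso_pushout_inr {R S : CommRingCat.{u}} (φ : R ⟶ S) {ι : Type v}
    (T : ι → CommRingCat.{u}) (ψ : ∀ i, R ⟶ T i) (hflat : ∀ i, (ψ i).hom.Flat)
    (hT : ∀ I : Ideal R, I ≠ ⊤ → ∃ i, I.map (ψ i).hom ≠ ⊤)
    (h : ∀ i, IsIso (pushout.inr φ (ψ i))) : IsIso φ := by
  letI : Algebra R S := φ.hom.toAlgebra
  letI : ∀ i, Algebra R (T i) := fun i => (ψ i).hom.toAlgebra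
  haveI : ∀ i, Module.Flat R (T i) := fun i => hflat i
  have key : Function.Bijective (algebraMap R S) :=
    bijective_of_forall_includeRight (fun i => (T i : Type u)) hT (fun i => by
      have hp := CommRingCat.isPushout_tensorProduct R S (T i)
      have he : CommRingCat.ofHom (S := S ⊗[R] T i) (Algebra.TensorProduct.includeRight.toRingHom) =
          pushout.inr φ (ψ i) ≫ hp.isoPushout.inv := by
        rw [Iso.eq_comp_inv]
        exact hp.inr_isoPushout_hom
      have := h i
      have hiso : IsIso (CommRingCat.ofHom (S := S ⊗[R] T i)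
          (Algebra.TensorProduct.includeRight.toRingHom)) := by
        rw [he]; infer_instance
      exact ConcreteCategory.bijective_of_isIso (CommRingCat.ofHom (S := S ⊗[R] T i)
          (Algebra.TensorProduct.includeRight.toRingHom)))
  exact (ConcreteCategory.isIso_iff_bijective φ).mpr key

end Groth.Agent.Helper20.FlatCover
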