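import Mathlib

/-!
# Degree one Ext classes and short exact sequences (helper20)
-/

set_option autoImplicit false
set_option linter.unusedSectionVars false
set_option linter.style.haveILetI false
set_option backward.defeqAttrib.useBackward true
set_option backward.isDefEq.respectTransparency false
universe w v u

namespace Groth.Agent.Helper20.YonedaExt

open CategoryTheory Limits Pretriangulated DerivedCategory

variable {C : Type u} [Category.{v} C] [Abelian C]

section Derived

variable [HasDerivedCategory.{w} C]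

/-- a distinguished triangle of single complexes gives a short exact sequence -/
theorem shortExact_of_distinguished {A X Z : C} (f : A ⟶ X) (g : X ⟶ Z)
    (h : (singleFunctor C 0).obj Z ⟶ ((singleFunctor C 0).obj A)⟦(1 : ℤ)⟧)
    (hT : Triangle.mk ((singleFunctor C 0).map f) ((singleFunctor C 0).map g) h ∈
      distTriang (DerivedCategory C)) :
    ∃ w : f ≫ g = 0, (ShortComplex.mk f g w).ShortExact := by
  have hw : f ≫ g = 0 := by
    apply (singleFunctor C 0).map_injective
    rw [Functor.map_comp, Functor.map_zero]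
    exact comp_distTriang_mor_zero₁₂ _ hT
  refine ⟨hw, ?_⟩
  have hmono : Mono f := by
    apply Preadditive.mono_of_cancel_zero
    intro W t ht
    apply (singleFunctor C 0).map_injective
    rw [Functor.map_zero]
    have h1 : (singleFunctor C 0).map t ≫ (Triangle.mk ((singleFunctor C 0).map f)
        ((singleFunctor C 0).map g) h).invRotate.mor₂ = 0 := by
      show (singleFunctor C 0).map t ≫ (singleFunctor C 0).map f = 0
      rw [← Functor.map_comp, ht, Functor.map_zero]
    obtain ⟨s, hs⟩ := Triangle.coyoneda_exact₂ _ (inv_rot_of_distTriang _ hT) _ h1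
    have : TStructure.t.IsGE (((singleFunctor C 0).obj Z)⟦(-1 : ℤ)⟧) 1 :=
      TStructure.t.isGE_shift ((singleFunctor C 0).obj Z) 0 (-1) 1 (by lia)
    have hs0 : s = 0 := TStructure.t.zero_of_isLE_of_isGE s 0 1 (by lia) inferInstance this
    rw [hs, hs0]
    exact zero_comp
  have hepi : Epi g := by
    apply Preadditive.epi_of_cancel_zero
    intro W t ht
    apply (singleFunctor C 0).map_injective
    rw [Functor.map_zero]
    have h1 : (Triangle.mk ((singleFunctor C 0).map f)
        ((singleFunctor C 0).map g) h).mor₂ ≫ (singleFunctor C 0).map t = 0 := by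
      show (singleFunctor C 0).map g ≫ (singleFunctor C 0).map t = 0
      rw [← Functor.map_comp, ht, Functor.map_zero]
    obtain ⟨s, hs⟩ := Triangle.yoneda_exact₃ _ hT _ h1
    have : TStructure.t.IsLE (((singleFunctor C 0).obj A)⟦(1 : ℤ)⟧) (-1) :=
      TStructure.t.isLE_shift ((singleFunctor C 0).obj A) 0 1 (-1) (by lia)
    have hs0 : s = 0 := TStructure.t.zero_of_isLE_of_isGE s (-1) 0 (by lia) this inferInstance
    rw [hs, hs0]
    exact comp_zero
  have hex : (ShortComplex.mk f g hw).Exact := by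
    rw [ShortComplex.exact_iff_exact_up_to_refinements]
    intro W t ht
    have h1 : (singleFunctor C 0).map t ≫ (Triangle.mk ((singleFunctor C 0).map f)
        ((singleFunctor C 0).map g) h).mor₂ = 0 := by
      show (singleFunctor C 0).map t ≫ (singleFunctor C 0).map g = 0
      rw [← Functor.map_comp]
      have : t ≫ g = 0 := ht
      rw [this, Functor.map_zero]
    obtain ⟨s, hs⟩ := Triangle.coyoneda_exact₂ _ hT _ h1
    obtain ⟨s₀, rfl⟩ := (singleFunctor C 0).map_surjective s
    refine ⟨W, 𝟙 W, inferInstance, s₀, ?_⟩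
    apply (singleFunctor C 0).map_injective
    rw [Category.id_comp, hs, Functor.map_comp]
    rfl
  exact ShortComplex.ShortExact.mk' hex hmono hepi

/-- the connecting morphism of a distinguished triangle of single complexes is determined -/
theorem eq_singleδ_of_distinguished {S : ShortComplex C} (hS : S.ShortExact)
    (h : (singleFunctor C 0).obj S.X₃ ⟶ ((singleFunctor C 0).obj S.X₁)⟦(1 : ℤ)⟧)
    (hT : Triangle.mk ((singleFunctor C 0).map S.f) ((singleFunctor C 0).map S.g) h ∈
      distTriang (DerivedCategory C)) :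
    h = hS.singleδ := by
  obtain ⟨c, hc1, hc2⟩ := complete_distinguished_triangle_morphism _ _ hT
    hS.singleTriangle_distinguished (𝟙 _) (𝟙 _) (by simp)
  obtain ⟨c₀, rfl⟩ := (singleFunctor C 0).map_surjective c
  have hc0 : c₀ = 𝟙 _ := by
    haveI := hS.epi_g
    rw [← cancel_epi S.g]
    apply (singleFunctor C 0).map_injective
    rw [Functor.map_comp, Category.comp_id]
    simpa using hc1
  subst hc0
  simpa using hc2

end Derived

section Ext

open CategoryTheory.Abelian

variable [HasExt.{w} C]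

/-- every class in `Ext^1` is the class of a short exact sequence -/
theorem exists_shortExact_extClass_eq {A Z : C} (x : Ext Z A 1) :
    ∃ (X : C) (f : A ⟶ X) (g : X ⟶ Z) (w : f ≫ g = 0)
      (hS : (ShortComplex.mk f g w).ShortExact), hS.extClass = x := by
  letI := HasDerivedCategory.standard C
  obtain ⟨Y, f', g', hT⟩ := distinguished_cocone_triangle₂ x.hom
  have h1 : TStructure.t.IsLE Y 0 :=
    TStructure.t.isLE₂ _ hT 0 (inferInstanceAs (TStructure.t.IsLE ((singleFunctor C 0).obj A) 0))
      (inferInstanceAs (TStructure.t.IsLE ((singleFunctor C 0).obj Z) 0))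
  have h2 : TStructure.t.IsGE Y 0 :=
    TStructure.t.isGE₂ _ hT 0 (inferInstanceAs (TStructure.t.IsGE ((singleFunctor C 0).obj A) 0))
      (inferInstanceAs (TStructure.t.IsGE ((singleFunctor C 0).obj Z) 0))
  obtain ⟨X, ⟨e⟩⟩ := exists_iso_singleFunctor_obj_of_isGE_of_isLE Y 0
  obtain ⟨f, hf⟩ := (singleFunctor C 0).map_surjective (f' ≫ e.hom)
  obtain ⟨g, hg⟩ := (singleFunctor C 0).map_surjective (e.inv ≫ g')
  have hT' : Triangle.mk ((singleFunctor C 0).map f) ((singleFunctor C 0).map g) x.hom ∈
      distTriang (DerivedCategory C) := by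
    refine isomorphic_distinguished _ hT _ ?_
    refine Triangle.isoMk _ _ (Iso.refl _) e.symm (Iso.refl _) ?_ ?_ ?_
    · simp [hf]
    · simp [hg]
    · simp
  obtain ⟨w, hS⟩ := shortExact_of_distinguished f g x.hom hT'
  refine ⟨X, f, g, w, hS, ?_⟩
  apply Ext.ext
  rw [hS.extClass_hom]
  exact (eq_singleδ_of_distinguished hS x.hom hT').symm

/-- two short exact sequences with the same class are isomorphic -/
theorem exists_iso_of_extClass_eq {A X₁ X₂ Z : C} (f₁ : A ⟶ X₁) (g₁ : X₁ ⟶ Z) (w₁ : f₁ ≫ g₁ = 0)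
    (h₁ : (ShortComplex.mk f₁ g₁ w₁).ShortExact)
    (f₂ : A ⟶ X₂) (g₂ : X₂ ⟶ Z) (w₂ : f₂ ≫ g₂ = 0)
    (h₂ : (ShortComplex.mk f₂ g₂ w₂).ShortExact) (h : h₁.extClass = h₂.extClass) :
    ∃ φ : X₁ ≅ X₂, f₁ ≫ φ.hom = f₂ ∧ φ.hom ≫ g₂ = g₁ := by
  letI := HasDerivedCategory.standard C
  have hδ : h₁.singleδ = h₂.singleδ := by
    rw [← h₁.extClass_hom, ← h₂.extClass_hom, h]
  obtain ⟨b, hb1, hb2⟩ := complete_distinguished_triangle_morphism₂ _ _
    h₁.singleTriangle_distinguished h₂.singleTriangle_distinguished (𝟙 _) (𝟙 _)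
    (by simpa using hδ)
  obtain ⟨φ, rfl⟩ := (singleFunctor C 0).map_surjective b
  have e1 : f₁ ≫ φ = f₂ := by
    apply (singleFunctor C 0).map_injective
    rw [Functor.map_comp]
    simpa using hb1
  have e2 : φ ≫ g₂ = g₁ := by
    apply (singleFunctor C 0).map_injective
    rw [Functor.map_comp]
    simpa using hb2.symm
  let ψ : ShortComplex.mk f₁ g₁ w₁ ⟶ ShortComplex.mk f₂ g₂ w₂ :=
    { τ₁ := 𝟙 _
      τ₂ := φ
      τ₃ := 𝟙 _
      comm₁₂ := by simp [e1]
      comm₂₃ := by simp [e2] }
  haveI : IsIso ψ.τ₁ := by dsimp [ψ]; infer_instance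
  haveI : IsIso ψ.τ₃ := by dsimp [ψ]; infer_instance
  haveI : IsIso φ := ShortComplex.isIso₂_of_shortExact_of_isIso₁₃ ψ h₁ h₂
  exact ⟨asIso φ, e1, e2⟩

end Ext

end Groth.Agent.Helper20.YonedaExt
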