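import Mathlib
import Groth.Agent.Lib.Helper18.InvEnd6
import Groth.Agent.Lib.Helper13.Retract
import Groth.Agent.Lib.Helper13.ResFinLocFree

/-!
# The stalk-rank function of a finite locally free module; retracts; additivity
-/

set_option autoImplicit false
set_option maxHeartbeats 400000
universe u
open CategoryTheory CategoryTheory.Limits AlgebraicGeometry Opposite TopologicalSpace
open RefHull
open Groth.Agent.Helper13.Inv Groth.Agent.Helper13.GenLoc Groth.Agent.Lead.HomSh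
open Groth.Agent.Helper13.QCoh Groth.Agent.Helper13.StalkBasis
open Groth.Agent.Helper13.FinType Groth.Agent.Helper13.LocFree
open Groth.Agent.Helper13.LocalLift Groth.Agent.Helper13.TensorFinLocFree
open Groth.Agent.Helper18.InvEnd

namespace Groth.Agent.Helper20.RankFn

variable {X : Scheme.{u}}

/-- a local trivialization gives bases of the stalks. -/
theorem exists_basis_of_iso (E : X.Modules) (U : X.Opens) (e : ℕ)
    (ε : E.restrict U.ι ≅ FlatMod.freeMod (↑U) e) (y : X) (hy : y ∈ U) :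
    Nonempty (Module.Basis (Fin e) (X.presheaf.stalk y) (E.presheaf.stalk y)) := by
  let s' : Fin e → Γ(E.restrict U.ι, ⊤) := fun i =>
    Groth.Agent.Helper13.GenLoc.sec (E.restrict U.ι) (ι e i ≫ ε.inv)
  have he : ε.inv = descSec (E.restrict U.ι) s' := eq_descSec _ ε.inv
  have : IsIso (descSec (E.restrict U.ι) s') := by rw [← he]; infer_instance
  let s₀ : Fin e → Γ(E, U.ι ''ᵁ ⊤) := fun i => s' i
  have hbas : ∀ z : (U : Scheme.{u}), IsBasisAt E s₀ (U.ι z) ⟨z, trivial, rfl⟩ := by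
    intro z
    rw [← isBasisAt_restrict_iff U.ι E (U := ⊤) s₀ z trivial]
    exact isBasisAt_of_isIso_descSec (E.restrict U.ι) s' z
  exact ⟨basisOf E s₀ y _ (hbas ⟨y, hy⟩)⟩

/-- the rank of the stalk. -/
noncomputable def rk (E : X.Modules) (y : X) : ℕ :=
  Module.finrank (X.presheaf.stalk y) (E.presheaf.stalk y)

lemma rk_eq_of_iso (E : X.Modules) (U : X.Opens) (e : ℕ)
    (ε : E.restrict U.ι ≅ FlatMod.freeMod (↑U) e) (y : X) (hy : y ∈ U) : rk E y = e := by
  obtain ⟨b⟩ := exists_basis_of_iso E U e ε y hy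
  rw [rk, Module.finrank_eq_card_basis b, Fintype.card_fin]

lemma isLocallyConstant_rk (E : X.Modules) (hE : FlatMod.IsFinLocFree E) :
    IsLocallyConstant (rk E) := by
  rw [IsLocallyConstant.iff_exists_open]
  intro x
  obtain ⟨U, n, hxU, ⟨ε⟩⟩ := hE x
  exact ⟨U.1, U.2, hxU, fun y hy =>
    (rk_eq_of_iso E U n ε y hy).trans (rk_eq_of_iso E U n ε x hxU).symm⟩

theorem isFinLocFreeOfRank_of_preconnected [PreconnectedSpace X] (E : X.Modules)
    (hE : FlatMod.IsFinLocFree E) (x₀ : X) : FlatMod.IsFinLocFreeOfRank (rk E x₀) E := by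
  intro x
  obtain ⟨U, n, hxU, ⟨ε⟩⟩ := hE x
  have h1 : rk E x = n := rk_eq_of_iso E U n ε x hxU
  have h2 : rk E x = rk E x₀ := (isLocallyConstant_rk E hE).apply_eq_of_preconnectedSpace x x₀
  have h3 : n = rk E x₀ := h1.symm.trans h2
  subst h3
  exact ⟨U, hxU, ⟨ε⟩⟩

lemma rk_eq_of_isFinLocFreeOfRank (E : X.Modules) (r : ℕ) (hE : FlatMod.IsFinLocFreeOfRank r E)
    (y : X) : rk E y = r := by
  obtain ⟨U, hyU, ⟨ε⟩⟩ := hE y
  exact rk_eq_of_iso E U r ε y hyU

lemma free_finite_stalk (E : X.Modules) (hE : FlatMod.IsFinLocFree E) (y : X) :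
    Module.Free (X.presheaf.stalk y) (E.presheaf.stalk y) ∧
      Module.Finite (X.presheaf.stalk y) (E.presheaf.stalk y) := by
  obtain ⟨U, n, hyU, ⟨ε⟩⟩ := hE y
  obtain ⟨b⟩ := exists_basis_of_iso E U n ε y hyU
  exact ⟨Module.Free.of_basis b, Module.Finite.of_basis b⟩

/-- a retract of a finite locally free module is finite locally free. -/
theorem isFinLocFree_of_retract {M E : X.Modules} (hE : FlatMod.IsFinLocFree E) (i : M ⟶ E)
    (p : E ⟶ M) (h : i ≫ p = 𝟙 M) : FlatMod.IsFinLocFree M := by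
  have hEq : E.IsQuasicoherent :=
    Groth.Agent.Helper13.ResFinLocFree.isQuasicoherent_of_isFinLocFree E hE
  have hMq : M.IsQuasicoherent := isQuasicoherent_of_retract i p h
  rw [isFinLocFree_iff_projective_sections]
  intro U hU
  obtain ⟨hfin, hproj⟩ := (isFinLocFree_iff_projective_sections E).mp hE U hU
  have hpi : appLinearMap p U ∘ₗ appLinearMap i U = LinearMap.id := by
    ext a
    change (i ≫ p).app U a = a
    rw [h]
    rfl
  have hsurj : Function.Surjective (appLinearMap p U) :=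
    fun a => ⟨appLinearMap i U a, LinearMap.congr_fun hpi a⟩
  exact ⟨Module.Finite.of_surjective (appLinearMap p U) hsurj,
    Module.Projective.of_split (appLinearMap i U) (appLinearMap p U) hpi⟩

/-- ranks add on binary biproducts. -/
theorem rk_biprod {E E₁ E₂ : X.Modules} (φ : E ≅ E₁ ⊞ E₂) (h₁ : FlatMod.IsFinLocFree E₁)
    (h₂ : FlatMod.IsFinLocFree E₂) (y : X) : rk E y = rk E₁ y + rk E₂ y := by
  obtain ⟨hf1, hfin1⟩ := free_finite_stalk E₁ h₁ y
  obtain ⟨hf2, hfin2⟩ := free_finite_stalk E₂ h₂ y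
  let i₁ : E₁ ⟶ E := biprod.inl ≫ φ.inv
  let i₂ : E₂ ⟶ E := biprod.inr ≫ φ.inv
  let p₁ : E ⟶ E₁ := φ.hom ≫ biprod.fst
  let p₂ : E ⟶ E₂ := φ.hom ≫ biprod.snd
  have h11 : i₁ ≫ p₁ = 𝟙 _ := by simp [i₁, p₁]
  have h22 : i₂ ≫ p₂ = 𝟙 _ := by simp [i₂, p₂]
  have h12 : i₁ ≫ p₂ = 0 := by simp [i₁, p₂]
  have h21 : i₂ ≫ p₁ = 0 := by simp [i₂, p₁]
  have htot : p₁ ≫ i₁ + p₂ ≫ i₂ = 𝟙 E := by
    simp only [i₁, i₂, p₁, p₂, Category.assoc]
    rw [← Preadditive.comp_add, ← Category.assoc biprod.fst, ← Category.assoc biprod.snd,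
      ← Preadditive.add_comp, biprod.total, Category.id_comp, Iso.hom_inv_id]
  let e : (E.presheaf.stalk y) ≃ₗ[X.presheaf.stalk y]
      ((E₁.presheaf.stalk y) × (E₂.presheaf.stalk y)) :=
    LinearEquiv.ofLinearMap ((stalkMapₗ p₁ y).prod (stalkMapₗ p₂ y))
      ((stalkMapₗ i₁ y).coprod (stalkMapₗ i₂ y))
      (by
        apply LinearMap.ext
        rintro ⟨a, b⟩
        change ((stalkMapₗ p₁ y) (stalkMapₗ i₁ y a + stalkMapₗ i₂ y b),
          (stalkMapₗ p₂ y) (stalkMapₗ i₁ y a + stalkMapₗ i₂ y b)) = (a, b)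
        rw [map_add, map_add, ← stalkMapₗ_comp, ← stalkMapₗ_comp, ← stalkMapₗ_comp,
          ← stalkMapₗ_comp, h11, h22, h12, h21, stalkMapₗ_id, stalkMapₗ_id, stalkMapₗ_zero,
          stalkMapₗ_zero, add_zero, zero_add])
      (by
        apply LinearMap.ext
        intro m
        change stalkMapₗ i₁ y (stalkMapₗ p₁ y m) + stalkMapₗ i₂ y (stalkMapₗ p₂ y m) = m
        rw [← stalkMapₗ_comp, ← stalkMapₗ_comp, ← stalkMapₗ_add, htot, stalkMapₗ_id])
  rw [rk, rk, rk, LinearEquiv.finrank_eq e, Module.finrank_prod]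

end Groth.Agent.Helper20.RankFn
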