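import Mathlib
import Groth.Prelude.Def_ModFun2
import Groth.Agent.Lib.Helper20.RankFn
import Groth.Agent.Lib.Helper20.VBIndec
import Groth.Agent.S1524

/-!
# Slope-stable bundles are indecomposable
-/

set_option autoImplicit false
set_option maxHeartbeats 400000
universe u
open CategoryTheory CategoryTheory.Limits AlgebraicGeometry Opposite TopologicalSpace
open RefHull Groth.Agent.Helper18.InvEnd

namespace Groth.Agent.Helper20.RankFn

variable {X : Scheme.{u}}

lemma isZero_of_rk_eq_zero (E : X.Modules) (hE : FlatMod.IsFinLocFree E)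
    (h : ∀ y, rk E y = 0) : IsZero E := by
  rw [IsZero.iff_id_eq_zero]
  apply eq_zero_of_stalkMapₗ
  intro x m
  rw [stalkMapₗ_id]
  obtain ⟨hf, hfin⟩ := free_finite_stalk E hE x
  have : Subsingleton (E.presheaf.stalk x) :=
    (Module.finrank_eq_zero_iff_of_free (X.presheaf.stalk x) (E.presheaf.stalk x)).mp (h x)
  exact Subsingleton.elim _ _

theorem indec_of_stable (k : Type u) [Field k] [X.Over (Spec (CommRingCat.of k))]
    [IsIntegral X] [IsProper (X ↘ Spec (CommRingCat.of k))]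
    (r : ℕ) (E : X.Modules) (hE : FlatMod.IsFinLocFreeOfRank r E)
    (hEst : ModFun.IsSlopeStable k X E r) (E₁ E₂ : X.Modules) (φ : E ≅ E₁ ⊞ E₂) :
    IsZero E₁ ∨ IsZero E₂ := by
  by_contra hcon
  push Not at hcon
  obtain ⟨hz1, hz2⟩ := hcon
  have hfl : FlatMod.IsFinLocFree E := VBIndec.isFinLocFree_of_rank r E hE
  have hfl1 : FlatMod.IsFinLocFree E₁ :=
    isFinLocFree_of_retract hfl (biprod.inl ≫ φ.inv) (φ.hom ≫ biprod.fst) (by simp)
  have hfl2 : FlatMod.IsFinLocFree E₂ :=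
    isFinLocFree_of_retract hfl (biprod.inr ≫ φ.inv) (φ.hom ≫ biprod.snd) (by simp)
  obtain ⟨x₀⟩ := (inferInstance : Nonempty X)
  have hr1 : FlatMod.IsFinLocFreeOfRank (rk E₁ x₀) E₁ :=
    isFinLocFreeOfRank_of_preconnected E₁ hfl1 x₀
  have hr2 : FlatMod.IsFinLocFreeOfRank (rk E₂ x₀) E₂ :=
    isFinLocFreeOfRank_of_preconnected E₂ hfl2 x₀
  have hsum : r = rk E₁ x₀ + rk E₂ x₀ := by
    rw [← rk_eq_of_isFinLocFreeOfRank E r hE x₀]
    exact rk_biprod φ hfl1 hfl2 x₀
  have hpos1 : 0 < rk E₁ x₀ := by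
    rcases Nat.eq_zero_or_pos (rk E₁ x₀) with h0 | h0
    · exfalso
      apply hz1
      apply isZero_of_rk_eq_zero E₁ hfl1
      intro y
      rw [rk_eq_of_isFinLocFreeOfRank E₁ _ hr1 y, h0]
    · exact h0
  have hpos2 : 0 < rk E₂ x₀ := by
    rcases Nat.eq_zero_or_pos (rk E₂ x₀) with h0 | h0
    · exfalso
      apply hz2
      apply isZero_of_rk_eq_zero E₂ hfl2
      intro y
      rw [rk_eq_of_isFinLocFreeOfRank E₂ _ hr2 y, h0]
    · exact h0
  -- Euler characteristics add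
  have hc : Coh.IsCoh E := Groth.Agent.Helper9.ResVan.isCoh_of_isFinLocFree E hfl
  have hc1 : Coh.IsCoh E₁ := Groth.Agent.Helper9.ResVan.isCoh_of_isFinLocFree E₁ hfl1
  have hc2 : Coh.IsCoh E₂ := Groth.Agent.Helper9.ResVan.isCoh_of_isFinLocFree E₂ hfl2
  let S : ShortComplex X.Modules :=
    ShortComplex.mk (biprod.inl ≫ φ.inv) (φ.hom ≫ biprod.snd) (by simp)
  have hS : S.ShortExact :=
    (ShortComplex.Splitting.mk (φ.hom ≫ biprod.fst) (biprod.inr ≫ φ.inv) (by simp [S])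
      (by simp [S]) (by
        simp only [S, Category.assoc]
        rw [← Category.assoc biprod.fst, ← Category.assoc biprod.snd, ← Preadditive.comp_add,
          ← Preadditive.add_comp, biprod.total, Category.id_comp, Iso.hom_inv_id])).shortExact
  have heul : Curv2.euler k X E = Curv2.euler k X E₁ + Curv2.euler k X E₂ :=
    Groth.Agent.S1524.result k X S hS hc1 hc hc2
  have m1 : Mono (biprod.inl ≫ φ.inv) := inferInstance
  have m2 : Mono (biprod.inr ≫ φ.inv) := inferInstance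
  have hs1 := hEst E₁ (rk E₁ x₀) (biprod.inl ≫ φ.inv) m1 hpos1 (by omega) hr1
  have hs2 := hEst E₂ (rk E₂ x₀) (biprod.inr ≫ φ.inv) m2 hpos2 (by omega) hr2
  unfold Curv2.deg at hs1 hs2
  rw [heul] at hs1 hs2
  have hsum' : (r : ℤ) = (rk E₁ x₀ : ℤ) + (rk E₂ x₀ : ℤ) := by exact_mod_cast hsum
  rw [hsum'] at hs1 hs2
  nlinarith [hs1, hs2]

end Groth.Agent.Helper20.RankFn
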