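import Mathlib
import Groth.Prelude.Def_CurvBase
import Groth.Agent.Lib.Helper20.RankFn
import Groth.Agent.Lib.Helper20.StableIndec
import Groth.Agent.Lib.Helper14.SmoothReg
import Groth.Agent.Lib.Helper3.TorsFreeDim1
import Groth.Agent.Lib.Helper13.StalkLength
import Groth.Agent.Lib.Helper13.QCohKer
import Groth.Agent.Lib.Helper24.CohExt2
import Groth.Agent.S1524

/-!
# Maps of vector bundles on a smooth proper curve: kernels and images are vector bundles,
ranks and degrees are additive
-/

set_option autoImplicit false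
set_option maxHeartbeats 400000
set_option linter.style.haveILetI false
set_option linter.unusedSectionVars false
universe u
open CategoryTheory CategoryTheory.Limits AlgebraicGeometry Opposite TopologicalSpace
open Groth.Agent.Helper13.QCoh Groth.Agent.Helper13.FinType Groth.Agent.Helper13.LocFree
open Groth.Agent.Helper20.RankFn

namespace Groth.Agent.Helper20.VBMap

/-- a smooth scheme over a field has regular local rings. -/
theorem isRegularLocalRing_stalk_of_smooth (R : Type u) [CommRing R] [IsRegularRing R]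
    {X : Scheme.{u}} (f : X ⟶ Spec (CommRingCat.of R)) [Smooth f] (x : X) :
    IsRegularLocalRing (X.presheaf.stalk x) := by
  obtain ⟨V, hV, hxV⟩ : ∃ V : X.Opens, IsAffineOpen V ∧ x ∈ V := by
    obtain ⟨_, ⟨V, hV, rfl⟩, hxV, -⟩ :=
      X.isBasis_affineOpens.exists_subset_of_mem_open (Set.mem_univ x) isOpen_univ
    exact ⟨V, hV, hxV⟩
  let φ : CommRingCat.of R ⟶ Γ(X, V) :=
    (Scheme.ΓSpecIso (CommRingCat.of R)).inv ≫ f.appLE ⊤ V le_top
  have hsm : φ.hom.Smooth := by
    rw [CommRingCat.hom_comp, RingHom.Smooth.respectsIso.cancel_left_isIso]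
    exact HasRingHomProperty.appLE (P := @Smooth) f inferInstance ⟨⊤, isAffineOpen_top _⟩
      ⟨V, hV⟩ le_top
  letI := φ.hom.toAlgebra
  have : Algebra.Smooth R Γ(X, V) := hsm
  have : IsRegularRing Γ(X, V) := Groth.Agent.Helper14.SmoothReg.isRegularRing_of_smooth R _
  let q := hV.primeIdealOf ⟨x, hxV⟩
  letI : Algebra Γ(X, V) (X.presheaf.stalk x) :=
    TopCat.Presheaf.algebra_section_stalk X.presheaf (⟨x, hxV⟩ : V)
  have : IsLocalization.AtPrime (X.presheaf.stalk x) q.asIdeal :=
    hV.isLocalization_stalk ⟨x, hxV⟩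
  exact IsRegularLocalRing.of_ringEquiv (IsLocalization.algEquiv q.asIdeal.primeCompl
    (Localization.AtPrime q.asIdeal) (X.presheaf.stalk x)).toRingEquiv

section Curve

variable {X : Scheme.{u}} [IsIntegral X] [IsLocallyNoetherian X]
  (hreg : ∀ x : X, IsRegularLocalRing (X.presheaf.stalk x))
  (hdim : topologicalKrullDim X ≤ 1)

include hreg hdim in
/-- a coherent submodule of a vector bundle on a regular curve is a vector bundle. -/
theorem isFinLocFree_of_mono {G F : X.Modules} (hG : Coh.IsCoh G) (hF : FlatMod.IsFinLocFree F)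
    (i : G ⟶ F) [Mono i] : FlatMod.IsFinLocFree G := by
  have hFc : Coh.IsCoh F := Groth.Agent.Helper9.ResVan.isCoh_of_isFinLocFree F hF
  rw [← Groth.Agent.Helper3.TorsFreeDim1.main X hreg hdim G hG]
  intro x
  have hFx : NoZeroSMulDivisors (X.presheaf.stalk x) (F.presheaf.stalk x) :=
    (Groth.Agent.Helper3.TorsFreeDim1.main X hreg hdim F hFc).mpr hF x
  exact Function.Injective.noZeroSMulDivisors (stalkLinearMap i x)
    (Groth.Agent.Helper13.Ext.stalkMap_injective_of_mono i x) (map_zero _)
    (fun c m => map_smul (stalkLinearMap i x) c m)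

omit [IsLocallyNoetherian X] in
/-- ranks are additive in short exact sequences (at a point where the middle stalk is finite). -/
theorem rk_shortExact (S : ShortComplex X.Modules) (hS : S.ShortExact) (y : X)
    [Module.Finite (X.presheaf.stalk y) (S.X₂.presheaf.stalk y)] :
    rk S.X₂ y = rk S.X₁ y + rk S.X₃ y := by
  have := hS.mono_f
  have := hS.epi_g
  have hinj : Function.Injective (stalkLinearMap S.f y) :=
    Groth.Agent.Helper13.Ext.stalkMap_injective_of_mono S.f y
  have hsurj : Function.Surjective (stalkLinearMap S.g y) := stalkMap_surjective_of_epi S.g y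
  have hex : LinearMap.ker (stalkLinearMap S.g y) = LinearMap.range (stalkLinearMap S.f y) := by
    ext m
    constructor
    · intro hm
      obtain ⟨m₁, h⟩ := stalk_exact_of_exact_of_mono S hS.exact y m hm
      exact ⟨m₁, h⟩
    · rintro ⟨m₁, rfl⟩
      change stalkMap S.g y (stalkMap S.f y m₁) = 0
      rw [← Groth.Agent.Helper13.PbInv.stalkMap_comp, S.zero,
        Groth.Agent.Helper13.PbInv.stalkMap_zero]
  have h1 := Submodule.finrank_quotient_add_finrank (LinearMap.ker (stalkLinearMap S.g y))
  have h2 : Module.finrank (X.presheaf.stalk y)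
      (S.X₂.presheaf.stalk y ⧸ LinearMap.ker (stalkLinearMap S.g y)) = rk S.X₃ y :=
    ((stalkLinearMap S.g y).quotKerEquivOfSurjective hsurj).finrank_eq
  have h3 : Module.finrank (X.presheaf.stalk y) (LinearMap.ker (stalkLinearMap S.g y)) =
      rk S.X₁ y := by
    rw [hex]
    exact (LinearEquiv.ofInjective (stalkLinearMap S.f y) hinj).finrank_eq.symm
  rw [h2, h3] at h1
  unfold rk at h1 ⊢
  omega

end Curve

section Euler

variable (k : Type u) [Field k] {X : Scheme.{u}} [X.Over (Spec (CommRingCat.of k))]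
  [IsProper (X ↘ Spec (CommRingCat.of k))]

lemma euler_eq_zero_of_isZero (Z : X.Modules) (hz : IsZero Z) (hc : Coh.IsCoh Z) :
    Curv2.euler k X Z = 0 := by
  let S : ShortComplex X.Modules := ShortComplex.mk (𝟙 Z) (𝟙 Z) (hz.eq_of_src _ _)
  have hS : S.ShortExact :=
    { exact := ShortComplex.exact_of_isZero_X₂ S hz
      mono_f := (inferInstance : Mono (𝟙 Z))
      epi_g := (inferInstance : Epi (𝟙 Z)) }
  have := Groth.Agent.S1524.result k X S hS hc hc hc
  change Curv2.euler k X Z = Curv2.euler k X Z + Curv2.euler k X Z at this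
  omega

/-- degrees are additive in short exact sequences when ranks are. -/
lemma deg_shortExact (S : ShortComplex X.Modules) (hS : S.ShortExact)
    (h₁ : Coh.IsCoh S.X₁) (h₂ : Coh.IsCoh S.X₂) (h₃ : Coh.IsCoh S.X₃) (r₁ r₂ r₃ : ℕ)
    (hr : r₂ = r₁ + r₃) :
    Curv2.deg k X S.X₂ r₂ = Curv2.deg k X S.X₁ r₁ + Curv2.deg k X S.X₃ r₃ := by
  unfold Curv2.deg
  rw [Groth.Agent.S1524.result k X S hS h₁ h₂ h₃, hr]
  push_cast
  ring

end Euler

section Pkg

variable (k : Type u) [Field k] {X : Scheme.{u}} [X.Over (Spec (CommRingCat.of k))] [IsIntegral X]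
  [IsProper (X ↘ Spec (CommRingCat.of k))] [Smooth (X ↘ Spec (CommRingCat.of k))]

include k in
lemma isLocallyNoetherian_of_proper : IsLocallyNoetherian X := by
  have : IsLocallyNoetherian (Spec (CommRingCat.of k)) := inferInstance
  exact LocallyOfFiniteType.isLocallyNoetherian (X ↘ Spec (CommRingCat.of k))

include k in
lemma hreg_of_smooth (x : X) : IsRegularLocalRing (X.presheaf.stalk x) :=
  isRegularLocalRing_stalk_of_smooth k (X ↘ Spec (CommRingCat.of k)) x

/-- kernel and coimage of a map of vector bundles on a smooth proper curve. -/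
theorem ker_coim_pkg (hdim : topologicalKrullDim X = 1) {F G : X.Modules} (rF : ℕ)
    (hF : FlatMod.IsFinLocFreeOfRank rF F) (hG : FlatMod.IsFinLocFree G) (g : F ⟶ G) :
    ∃ rK rI : ℕ, FlatMod.IsFinLocFreeOfRank rK (kernel g) ∧
      FlatMod.IsFinLocFreeOfRank rI (Abelian.coimage g) ∧ rF = rK + rI ∧
      Curv2.deg k X F rF = Curv2.deg k X (kernel g) rK + Curv2.deg k X (Abelian.coimage g) rI ∧
      (rK = 0 → IsZero (kernel g)) ∧ (rI = 0 → IsZero (Abelian.coimage g)) ∧
      (rK = 0 → Curv2.deg k X (kernel g) rK = 0) ∧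
      (rI = 0 → Curv2.deg k X (Abelian.coimage g) rI = 0) := by
  have hN : IsLocallyNoetherian X := isLocallyNoetherian_of_proper k
  have hreg : ∀ x : X, IsRegularLocalRing (X.presheaf.stalk x) := hreg_of_smooth k
  have hFl : FlatMod.IsFinLocFree F := VBIndec.isFinLocFree_of_rank rF F hF
  have hFc : Coh.IsCoh F := Groth.Agent.Helper9.ResVan.isCoh_of_isFinLocFree F hFl
  have hGc : Coh.IsCoh G := Groth.Agent.Helper9.ResVan.isCoh_of_isFinLocFree G hG
  have hKc : Coh.IsCoh (kernel g) := Groth.Agent.Helper24.CohExt.isCoh_kernel hFc hGc g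
  have hIc : Coh.IsCoh (Abelian.coimage g) := by
    have h1 : F.IsQuasicoherent := hFc.1
    have h2 : (kernel g).IsQuasicoherent := hKc.1
    have h3 : SheafOfModules.IsFiniteType (R := X.ringCatSheaf) F := hFc.2
    exact ⟨Groth.Agent.Helper13.QCohLocal.isQuasicoherent_cokernel (kernel.ι g),
      Groth.Agent.Helper13.FinType.isFiniteType_of_epi (cokernel.π (kernel.ι g))⟩
  have hKl : FlatMod.IsFinLocFree (kernel g) :=
    isFinLocFree_of_mono hreg hdim.le hKc hFl (kernel.ι g)
  have hIl : FlatMod.IsFinLocFree (Abelian.coimage g) :=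
    isFinLocFree_of_mono hreg hdim.le hIc hG (Abelian.factorThruCoimage g)
  obtain ⟨x₀⟩ := (inferInstance : Nonempty X)
  have hKr := isFinLocFreeOfRank_of_preconnected (kernel g) hKl x₀
  have hIr := isFinLocFreeOfRank_of_preconnected (Abelian.coimage g) hIl x₀
  let S : ShortComplex X.Modules :=
    ShortComplex.mk (kernel.ι g) (Abelian.coimage.π g) (cokernel.condition _)
  have hS : S.ShortExact :=
    { exact := ShortComplex.exact_cokernel (kernel.ι g)
      mono_f := (inferInstance : Mono (kernel.ι g))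
      epi_g := (inferInstance : Epi (cokernel.π (kernel.ι g))) }
  have hfin : Module.Finite (X.presheaf.stalk x₀) (S.X₂.presheaf.stalk x₀) :=
    (free_finite_stalk F hFl x₀).2
  have hrk : rF = rk (kernel g) x₀ + rk (Abelian.coimage g) x₀ := by
    rw [← rk_eq_of_isFinLocFreeOfRank F rF hF x₀]
    exact rk_shortExact S hS x₀
  refine ⟨rk (kernel g) x₀, rk (Abelian.coimage g) x₀, hKr, hIr, hrk,
    deg_shortExact k S hS hKc hFc hIc _ _ _ hrk, ?_, ?_, ?_, ?_⟩
  · intro h0
    apply isZero_of_rk_eq_zero (kernel g) hKl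
    intro y
    rw [rk_eq_of_isFinLocFreeOfRank (kernel g) _ hKr y, h0]
  · intro h0
    apply isZero_of_rk_eq_zero (Abelian.coimage g) hIl
    intro y
    rw [rk_eq_of_isFinLocFreeOfRank (Abelian.coimage g) _ hIr y, h0]
  · intro h0
    have hz : IsZero (kernel g) := by
      apply isZero_of_rk_eq_zero (kernel g) hKl
      intro y
      rw [rk_eq_of_isFinLocFreeOfRank (kernel g) _ hKr y, h0]
    unfold Curv2.deg
    rw [euler_eq_zero_of_isZero k (kernel g) hz hKc, h0]
    simp
  · intro h0
    have hz : IsZero (Abelian.coimage g) := by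
      apply isZero_of_rk_eq_zero (Abelian.coimage g) hIl
      intro y
      rw [rk_eq_of_isFinLocFreeOfRank (Abelian.coimage g) _ hIr y, h0]
    unfold Curv2.deg
    rw [euler_eq_zero_of_isZero k (Abelian.coimage g) hz hIc, h0]
    simp

end Pkg

end Groth.Agent.Helper20.VBMap
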