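import Mathlib
import Groth.Prelude.Def_ModFun2
import Groth.Agent.Lib.Helper20.VBMap1
import Groth.Agent.Lib.Helper20.VBIndec
import Groth.Agent.Lib.Helper13.TwistSES

/-!
# Slopes of semistable twisted tuples on a curve
-/

set_option autoImplicit false
set_option maxHeartbeats 400000
set_option linter.style.haveILetI false
set_option linter.unusedSectionVars false
set_option linter.unusedVariables false
universe u
open CategoryTheory CategoryTheory.Limits AlgebraicGeometry Opposite TopologicalSpace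
open Groth.Agent.Helper20.RankFn Groth.Agent.Helper13 Groth.Agent.Helper13.TwistSES

namespace Groth.Agent.Helper20.VBMap

/-- the whiskering appearing in the statements is `Tensor.map j (𝟙 L)`. -/
lemma whisker_eq {X : Scheme.{u}} {G E : X.Modules} (j : G ⟶ E) (L : X.Modules) :
    (CohB1.sheafifyMod X).map (MonoidalCategoryStruct.whiskerRight (C := CohB1.PMod X) j.val
      (CohB1.toPMod L)) = Tensor.map j (𝟙 L) := by
  unfold Tensor.map Tensor.preMap
  congr 1

/-- tensoring with an invertible module preserves monomorphisms. -/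
lemma mono_map_id {X : Scheme.{u}} {G E : X.Modules} (j : G ⟶ E) [Mono j] (L : X.Modules)
    (hL : PicF.IsInvertible L) : Mono (Tensor.map j (𝟙 L)) := by
  let S : ShortComplex X.Modules := ShortComplex.mk j (cokernel.π j) (cokernel.condition j)
  have hS : S.ShortExact :=
    ShortComplex.ShortExact.mk' (ShortComplex.exact_of_g_is_cokernel _ (cokernelIsCokernel j))
      (inferInstanceAs (Mono j)) (inferInstanceAs (Epi (cokernel.π j)))
  exact (tensorSC_shortExact S hS L hL).mono_f

variable (k : Type u) [Field k] {X : Scheme.{u}} [X.Over (Spec (CommRingCat.of k))] [IsIntegral X]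
  [IsProper (X ↘ Spec (CommRingCat.of k))] [Smooth (X ↘ Spec (CommRingCat.of k))]

theorem slope_le_of_tuple_hom (hdim : topologicalKrullDim X = 1)
    (ι : Type) (L : ι → X.Modules) (hL : ∀ i, PicF.IsInvertible (L i))
    (r s : ℕ) (hs : 0 < s)
    (E F : X.Modules) (hE : FlatMod.IsFinLocFreeOfRank r E) (hF : FlatMod.IsFinLocFreeOfRank s F)
    (φ : ∀ i, E ⟶ CohB1.tensorMod E (L i)) (ψ : ∀ i, F ⟶ CohB1.tensorMod F (L i))
    (hEss : ∀ (G : X.Modules) (n : ℕ) (j : G ⟶ E), Mono j → 0 < n →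
      FlatMod.IsFinLocFreeOfRank n G →
      (∀ i, ∃ χ : G ⟶ CohB1.tensorMod G (L i), χ ≫ Tensor.map j (𝟙 (L i)) = j ≫ φ i) →
      Curv2.deg k X G n * (r : ℤ) ≤ Curv2.deg k X E r * (n : ℤ))
    (hFss : ∀ (G : X.Modules) (n : ℕ) (j : G ⟶ F), Mono j → 0 < n →
      FlatMod.IsFinLocFreeOfRank n G →
      (∀ i, ∃ χ : G ⟶ CohB1.tensorMod G (L i), χ ≫ Tensor.map j (𝟙 (L i)) = j ≫ ψ i) →
      Curv2.deg k X G n * (s : ℤ) ≤ Curv2.deg k X F s * (n : ℤ))
    (f : E ⟶ F) (hf : ∀ i, f ≫ ψ i = φ i ≫ Tensor.map f (𝟙 (L i))) (hne : f ≠ 0) :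
    Curv2.deg k X E r * (s : ℤ) ≤ Curv2.deg k X F s * (r : ℤ) := by
  obtain ⟨rK, rI, hKr, hIr, hrk, hdeg, hK0, hI0, hKdeg0, hIdeg0⟩ :=
    ker_coim_pkg k hdim r hE (VBIndec.isFinLocFree_of_rank s F hF) f
  have hIpos : 0 < rI := by
    rcases Nat.eq_zero_or_pos rI with h0 | h
    · exfalso
      apply hne
      rw [← Abelian.coimage.fac f, (hI0 h0).eq_of_tgt (Abelian.coimage.π f) 0, zero_comp]
    · exact h
  have hfac : Abelian.coimage.π f ≫ Abelian.factorThruCoimage f = f := Abelian.coimage.fac f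
  -- the key vanishing
  have hmono : ∀ i, Mono (Tensor.map (Abelian.factorThruCoimage f) (𝟙 (L i))) := fun i =>
    mono_map_id _ (L i) (hL i)
  have hcomp : ∀ i, Tensor.map (Abelian.coimage.π f) (𝟙 (L i)) ≫
      Tensor.map (Abelian.factorThruCoimage f) (𝟙 (L i)) = Tensor.map f (𝟙 (L i)) := by
    intro i
    rw [← Tensor.map_comp, hfac, Category.comp_id]
  have hkey : ∀ i, kernel.ι f ≫ φ i ≫ Tensor.map (Abelian.coimage.π f) (𝟙 (L i)) = 0 := by
    intro i
    have := hmono i
    rw [← cancel_mono (Tensor.map (Abelian.factorThruCoimage f) (𝟙 (L i))), zero_comp]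
    rw [Category.assoc, Category.assoc, hcomp, ← hf i, kernel.condition_assoc, zero_comp]
  -- the image is invariant
  have hI : Curv2.deg k X (Abelian.coimage f) rI * (s : ℤ) ≤ Curv2.deg k X F s * (rI : ℤ) := by
    refine hFss (Abelian.coimage f) rI (Abelian.factorThruCoimage f) inferInstance hIpos hIr ?_
    intro i
    refine ⟨cokernel.desc (kernel.ι f) (φ i ≫ Tensor.map (Abelian.coimage.π f) (𝟙 (L i)))
      (hkey i), ?_⟩
    rw [← cancel_epi (Abelian.coimage.π f)]
    change cokernel.π (kernel.ι f) ≫ cokernel.desc (kernel.ι f) _ _ ≫ _ = _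
    rw [cokernel.π_desc_assoc, Category.assoc, hcomp, ← hf i, ← Category.assoc]
    congr 1
    exact hfac.symm
  -- the kernel is invariant
  have hK : Curv2.deg k X (kernel f) rK * (r : ℤ) ≤ Curv2.deg k X E r * (rK : ℤ) := by
    rcases Nat.eq_zero_or_pos rK with h0 | hKpos
    · rw [hKdeg0 h0, h0]
      simp
    · refine hEss (kernel f) rK (kernel.ι f) inferInstance hKpos hKr ?_
      intro i
      let S : ShortComplex X.Modules :=
        ShortComplex.mk (kernel.ι f) (Abelian.coimage.π f) (cokernel.condition (kernel.ι f))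
      have hS : S.ShortExact :=
        ShortComplex.ShortExact.mk'
          (ShortComplex.exact_of_g_is_cokernel _ (cokernelIsCokernel (kernel.ι f)))
          (inferInstanceAs (Mono (kernel.ι f)))
          (inferInstanceAs (Epi (cokernel.π (kernel.ι f))))
      have hT := tensorSC_shortExact S hS (L i) (hL i)
      have := hT.mono_f
      refine ⟨hT.exact.lift (kernel.ι f ≫ φ i) ?_, hT.exact.lift_f _ _⟩
      exact (Category.assoc _ _ _).trans (hkey i)
  have hrk' : (r : ℤ) = (rK : ℤ) + (rI : ℤ) := by exact_mod_cast hrk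
  have hrI : (0 : ℤ) < (rI : ℤ) := by exact_mod_cast hIpos
  have hs' : (0 : ℤ) < (s : ℤ) := by exact_mod_cast hs
  have hr0 : (0 : ℤ) ≤ (r : ℤ) := by positivity
  set dE := Curv2.deg k X E r
  set dF := Curv2.deg k X F s
  set dK := Curv2.deg k X (kernel f) rK
  set dI := Curv2.deg k X (Abelian.coimage f) rI
  have h1 : dE * (rI : ℤ) ≤ dI * (r : ℤ) := by
    rw [hdeg, hrk'] at hK ⊢
    nlinarith
  have h2 : (rI : ℤ) * (dE * (s : ℤ)) ≤ (rI : ℤ) * (dF * (r : ℤ)) := by
    have h3 : dE * (rI : ℤ) * (s : ℤ) ≤ dI * (r : ℤ) * (s : ℤ) :=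
      mul_le_mul_of_nonneg_right h1 hs'.le
    have h4 : dI * (s : ℤ) * (r : ℤ) ≤ dF * (rI : ℤ) * (r : ℤ) :=
      mul_le_mul_of_nonneg_right hI hr0
    nlinarith
  exact le_of_mul_le_mul_left h2 hrI

end Groth.Agent.Helper20.VBMap
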