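import Mathlib
import Groth.Prelude.Def_ModFun2
import Groth.Agent.Lib.Helper20.VBMap1

/-!
# Slope arguments for maps of vector bundles on a smooth proper curve
-/

set_option autoImplicit false
set_option maxHeartbeats 400000
set_option linter.style.haveILetI false
set_option linter.unusedSectionVars false
set_option linter.unusedVariables false
universe u
open CategoryTheory CategoryTheory.Limits AlgebraicGeometry Opposite TopologicalSpace
open Groth.Agent.Helper20.RankFn

namespace Groth.Agent.Helper20.VBMap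

variable (k : Type u) [Field k] {X : Scheme.{u}} [X.Over (Spec (CommRingCat.of k))] [IsIntegral X]
  [IsProper (X ↘ Spec (CommRingCat.of k))] [Smooth (X ↘ Spec (CommRingCat.of k))]

/-- no maps from a semistable bundle to a bundle of smaller maximal slope. -/
theorem hom_eq_zero_of_slope (hdim : topologicalKrullDim X = 1)
    (r s : ℕ) (E F : X.Modules)
    (hE : FlatMod.IsFinLocFreeOfRank r E) (hF : FlatMod.IsFinLocFreeOfRank s F)
    (hEss : ModFun.IsSlopeSemistable k X E r)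
    (hmax : ∀ (G : X.Modules) (r' : ℕ) (i : G ⟶ F), Mono i → 0 < r' →
      FlatMod.IsFinLocFreeOfRank r' G →
      Curv2.deg k X G r' * (r : ℤ) < Curv2.deg k X E r * (r' : ℤ))
    (f : E ⟶ F) : f = 0 := by
  by_contra hf
  obtain ⟨rK, rI, hKr, hIr, hrk, hdeg, hK0, hI0, hKdeg0, hIdeg0⟩ :=
    ker_coim_pkg k hdim r hE (VBIndec.isFinLocFree_of_rank s F hF) f
  have hIpos : 0 < rI := by
    rcases Nat.eq_zero_or_pos rI with h0 | h
    · exfalso
      apply hf
      rw [← Abelian.coimage.fac f, (hI0 h0).eq_of_tgt (Abelian.coimage.π f) 0, zero_comp]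
    · exact h
  have h1 := hmax (Abelian.coimage f) rI (Abelian.factorThruCoimage f) inferInstance hIpos hIr
  have h2 : Curv2.deg k X (kernel f) rK * (r : ℤ) ≤ Curv2.deg k X E r * (rK : ℤ) := by
    rcases Nat.eq_zero_or_pos rK with h0 | h
    · rw [hKdeg0 h0, h0]; simp
    · exact hEss (kernel f) rK (kernel.ι f) inferInstance h hKr
  have hrk' : (r : ℤ) = (rK : ℤ) + (rI : ℤ) := by exact_mod_cast hrk
  rw [hdeg, hrk'] at h1 h2
  nlinarith [h1, h2]

/-- the maximal slope of a biproduct is at most the larger of the maximal slopes. -/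
theorem slope_le_max_biprod (hdim : topologicalKrullDim X = 1)
    (r₁ r₂ : ℕ) (E₁ E₂ : X.Modules)
    (hE₁ : FlatMod.IsFinLocFreeOfRank r₁ E₁) (hE₂ : FlatMod.IsFinLocFreeOfRank r₂ E₂) (m₁ m₂ : ℚ)
    (h₁ : ∀ (G : X.Modules) (r' : ℕ) (i : G ⟶ E₁), Mono i → 0 < r' →
      FlatMod.IsFinLocFreeOfRank r' G → (Curv2.deg k X G r' : ℚ) / r' ≤ m₁)
    (h₂ : ∀ (G : X.Modules) (r' : ℕ) (i : G ⟶ E₂), Mono i → 0 < r' →
      FlatMod.IsFinLocFreeOfRank r' G → (Curv2.deg k X G r' : ℚ) / r' ≤ m₂)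
    (F : X.Modules) (r' : ℕ) (i : F ⟶ E₁ ⊞ E₂) (hi : Mono i) (hr' : 0 < r')
    (hF : FlatMod.IsFinLocFreeOfRank r' F) :
    (Curv2.deg k X F r' : ℚ) / r' ≤ max m₁ m₂ := by
  obtain ⟨rK, rI, hKr, hIr, hrk, hdeg, hK0, hI0, hKdeg0, hIdeg0⟩ :=
    ker_coim_pkg k hdim r' hF (VBIndec.isFinLocFree_of_rank r₂ E₂ hE₂) (i ≫ biprod.snd)
  -- the kernel embeds in `E₁`
  have hmono : Mono (kernel.ι (i ≫ biprod.snd) ≫ i ≫ biprod.fst) := by
    apply Preadditive.mono_of_cancel_zero
    intro T a ha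
    have h0 : (a ≫ kernel.ι (i ≫ biprod.snd)) ≫ i = 0 := by
      apply biprod.hom_ext
      · simpa [Category.assoc] using ha
      · have := kernel.condition (i ≫ biprod.snd)
        simp only [Category.assoc, zero_comp]
        rw [this, comp_zero]
    have h1 : a ≫ kernel.ι (i ≫ biprod.snd) = 0 := by
      rw [← cancel_mono i, h0, zero_comp]
    rw [← cancel_mono (kernel.ι (i ≫ biprod.snd)), h1, zero_comp]
  have hK : (Curv2.deg k X (kernel (i ≫ biprod.snd)) rK : ℚ) ≤ m₁ * rK := by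
    rcases Nat.eq_zero_or_pos rK with h0 | h
    · rw [hKdeg0 h0, h0]; simp
    · have := h₁ _ rK _ hmono h hKr
      rwa [div_le_iff₀ (by exact_mod_cast h)] at this
  have hI : (Curv2.deg k X (Abelian.coimage (i ≫ biprod.snd)) rI : ℚ) ≤ m₂ * rI := by
    rcases Nat.eq_zero_or_pos rI with h0 | h
    · rw [hIdeg0 h0, h0]; simp
    · have := h₂ _ rI (Abelian.factorThruCoimage (i ≫ biprod.snd)) inferInstance h hIr
      rwa [div_le_iff₀ (by exact_mod_cast h)] at this
  have hr'pos : (0 : ℚ) < r' := by exact_mod_cast hr'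
  rw [div_le_iff₀ hr'pos, hdeg, hrk]
  push_cast
  have hm1 : m₁ * rK ≤ max m₁ m₂ * rK :=
    mul_le_mul_of_nonneg_right (le_max_left _ _) (by positivity)
  have hm2 : m₂ * rI ≤ max m₁ m₂ * rI :=
    mul_le_mul_of_nonneg_right (le_max_right _ _) (by positivity)
  linarith

end Groth.Agent.Helper20.VBMap
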