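import Mathlib
import Groth.Prelude.Def_ModFun2
import Groth.Agent.Lib.Helper20.VBMap2
import Groth.Agent.Lib.Helper26.DevD
import Groth.Agent.Lib.Helper13.CurveGen1
import Groth.Agent.Lib.Helper13.CurveGen2
import Groth.Agent.Lib.Helper13.FinProj7
import Groth.Agent.Lib.Helper26.HomGlob

/-!
# A full-rank subbundle of the same degree is everything; stable bundles
-/

set_option autoImplicit false
set_option maxHeartbeats 400000
set_option linter.style.haveILetI false
set_option linter.unusedSectionVars false
set_option linter.unusedVariables false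
universe u
open CategoryTheory CategoryTheory.Limits AlgebraicGeometry Opposite TopologicalSpace
open Groth.Agent.Helper13.QCoh Groth.Agent.Helper13.FinType Groth.Agent.Helper13.LocFree
open Groth.Agent.Helper20.RankFn

namespace Groth.Agent.Helper20.VBMap

lemma subsingleton_of_finrank_eq_zero_of_isField {R M : Type*} [CommRing R] [AddCommGroup M]
    [Module R M] [Module.Finite R M] (hR : IsField R) (h : Module.finrank R M = 0) :
    Subsingleton M := by
  letI := hR.toField
  exact (Module.finrank_eq_zero_iff_of_free R M).mp h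

variable (k : Type u) [Field k] {X : Scheme.{u}} [X.Over (Spec (CommRingCat.of k))] [IsIntegral X]
  [IsProper (X ↘ Spec (CommRingCat.of k))] [Smooth (X ↘ Spec (CommRingCat.of k))]

/-- a coherent module with zero generic stalk and zero Euler characteristic on a proper curve is
zero. -/
theorem isZero_of_generic_stalk_of_euler (hdim : topologicalKrullDim X = 1) (Q : X.Modules)
    (hQ : Coh.IsCoh Q) (hη : Subsingleton (Q.presheaf.stalk (genericPoint X)))
    (he : Curv2.euler k X Q = 0) : IsZero Q := by
  have hN : IsLocallyNoetherian X := isLocallyNoetherian_of_proper k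
  set T : Set X := CohB1.support Q with hTdef
  have hT : IsClosed T := Groth.Agent.Helper26.DevD.isClosed_support Q hQ
  have hηT : genericPoint X ∉ T := fun h => h hη
  let U : X.Opens := ⟨Tᶜ, hT.isOpen_compl⟩
  have hUd : Dense (U : Set X) := hT.isOpen_compl.dense ⟨genericPoint X, hηT⟩
  have h0 : ∀ x ∈ T, IsClosed ({x} : Set X) := fun x hx =>
    Groth.Agent.Helper13.CurveGen.isClosed_singleton_of_notMem_dense hdim.le U hUd x
      (fun hxU => hxU hx)
  have hsupp : ∀ x : X, x ∉ T → Subsingleton (Q.presheaf.stalk x) := fun x hx => not_not.mp hx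
  have hvan : ∀ q : ℕ, 0 < q → Subsingleton (Coh.HH X Q q) := fun q hq =>
    Groth.Agent.Helper13.CurveGen.HH_subsingleton_of_support_subset Q T hT h0 hsupp q hq
  have hfl := Groth.Agent.Helper13.CurveGen.isFlasque_of_support_subset Q T hT h0 hsupp
  -- Euler characteristic is `h⁰`
  have heul : Curv2.euler k X Q = (Module.finrank k (Coh.HH X Q 0) : ℤ) := by
    unfold Curv2.euler
    rw [finsum_eq_single _ 0]
    · simp
    · intro i hi
      have := hvan i (Nat.pos_of_ne_zero hi)
      rw [Module.finrank_zero_of_subsingleton]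
      simp
  have hfin : Module.Finite k (Coh.HH X Q 0) :=
    Groth.Agent.Helper13.FinProj.finite_HH_of_isProper k X Q hQ 0
  have h00 : Module.finrank k (Coh.HH X Q 0) = 0 := by
    have := heul.symm.trans he
    exact_mod_cast this
  have hsub : Subsingleton (Coh.HH X Q 0) := (Module.finrank_eq_zero_iff_of_free k _).mp h00
  have hΓ : Subsingleton Γ(Q, ⊤) := (Groth.Agent.Helper26.HomGlob.h0 Q).symm.subsingleton
  -- all sections vanish by flasqueness
  rw [IsZero.iff_id_eq_zero]
  apply Scheme.Modules.hom_ext
  intro W
  ext s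
  have hepi : Epi ((Coh.toAb Q).obj.map (homOfLE (le_top : W ≤ ⊤)).op) := hfl.epi _
  rw [AddCommGrpCat.epi_iff_surjective] at hepi
  obtain ⟨t, ht⟩ := hepi s
  have ht0 : t = 0 := Subsingleton.elim (α := Γ(Q, ⊤)) t 0
  have hs0 : s = 0 := by rw [← ht, ht0]; exact map_zero _
  rw [hs0]
  simp

end Groth.Agent.Helper20.VBMap
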