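import Mathlib
import Groth.Prelude.Def_ModFun2
import Groth.Agent.Lib.Helper20.VBMap2

/-!
# More slope arguments (semistable/stable bundles on a smooth proper curve)
-/

set_option autoImplicit false
set_option maxHeartbeats 400000
set_option linter.style.haveILetI false
set_option linter.unusedSectionVars false
set_option linter.unusedVariables false
universe u
open CategoryTheory CategoryTheory.Limits AlgebraicGeometry Opposite TopologicalSpace
open Groth.Agent.Helper20.RankFn
open Groth.Agent.Helper13.QCoh Groth.Agent.Helper13.FinType Groth.Agent.Helper13.LocFree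

namespace Groth.Agent.Helper20.VBMap

variable (k : Type u) [Field k] {X : Scheme.{u}} [X.Over (Spec (CommRingCat.of k))] [IsIntegral X]
  [IsProper (X ↘ Spec (CommRingCat.of k))] [Smooth (X ↘ Spec (CommRingCat.of k))]

/-- no maps from a semistable bundle to a semistable bundle of smaller slope. -/
theorem hom_eq_zero_of_semistable (hdim : topologicalKrullDim X = 1)
    (r s : ℕ) (hr : 0 < r) (hs : 0 < s) (E F : X.Modules)
    (hE : FlatMod.IsFinLocFreeOfRank r E) (hF : FlatMod.IsFinLocFreeOfRank s F)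
    (hEss : ∀ (G : X.Modules) (r' : ℕ) (i : G ⟶ E), Mono i → 0 < r' →
      FlatMod.IsFinLocFreeOfRank r' G →
      Curv2.deg k X G r' * (r : ℤ) ≤ Curv2.deg k X E r * (r' : ℤ))
    (hFss : ∀ (G : X.Modules) (r' : ℕ) (i : G ⟶ F), Mono i → 0 < r' →
      FlatMod.IsFinLocFreeOfRank r' G →
      Curv2.deg k X G r' * (s : ℤ) ≤ Curv2.deg k X F s * (r' : ℤ))
    (hslope : Curv2.deg k X F s * (r : ℤ) < Curv2.deg k X E r * (s : ℤ)) (f : E ⟶ F) : f = 0 := by
  refine hom_eq_zero_of_slope k hdim r s E F hE hF hEss ?_ f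
  intro G r' i hi hr' hG
  have h1 := hFss G r' i hi hr' hG
  have hsZ : (0 : ℤ) < s := by exact_mod_cast hs
  have hrZ : (0 : ℤ) < r := by exact_mod_cast hr
  have hr'Z : (0 : ℤ) < r' := by exact_mod_cast hr'
  have e1 : Curv2.deg k X G r' * (s : ℤ) * r ≤ Curv2.deg k X F s * (r' : ℤ) * r :=
    mul_le_mul_of_nonneg_right h1 hrZ.le
  have e2 : Curv2.deg k X F s * (r : ℤ) * r' < Curv2.deg k X E r * (s : ℤ) * r' :=
    mul_lt_mul_of_pos_right hslope hr'Z
  have e3 : (Curv2.deg k X G r' * (r : ℤ)) * s < (Curv2.deg k X E r * (r' : ℤ)) * s := by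
    nlinarith [e1, e2]
  exact lt_of_mul_lt_mul_right e3 hsZ.le

/-- a nonzero endomorphism of a stable bundle (stability tested on proper subbundles) is an
isomorphism. -/
theorem isIso_of_stable' (hdim : topologicalKrullDim X = 1)
    (r : ℕ) (hr : 0 < r) (E : X.Modules) (hE : FlatMod.IsFinLocFreeOfRank r E)
    (hEst : ∀ (G : X.Modules) (r' : ℕ) (i : G ⟶ E), Mono i → 0 < r' →
      FlatMod.IsFinLocFreeOfRank r' G → (¬ IsIso i) →
      Curv2.deg k X G r' * (r : ℤ) < Curv2.deg k X E r * (r' : ℤ))
    (f : E ⟶ E) (hf : f ≠ 0) : IsIso f := by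
  obtain ⟨rK, rI, hKr, hIr, hrk, hdeg, hK0, hI0, hKdeg0, hIdeg0⟩ :=
    ker_coim_pkg k hdim r hE (VBIndec.isFinLocFree_of_rank r E hE) f
  have hIpos : 0 < rI := by
    rcases Nat.eq_zero_or_pos rI with h0 | h
    · exfalso
      apply hf
      rw [← Abelian.coimage.fac f, (hI0 h0).eq_of_tgt (Abelian.coimage.π f) 0, zero_comp]
    · exact h
  have hrk' : (r : ℤ) = (rK : ℤ) + (rI : ℤ) := by exact_mod_cast hrk
  obtain ⟨x₀⟩ := (inferInstance : Nonempty X)
  -- if the image inclusion is an isomorphism then its rank is `r`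
  have hιrank : IsIso (Abelian.factorThruCoimage f) → rI = r := by
    intro hiso
    have e := asIso (Abelian.factorThruCoimage f)
    have h1 : rk (Abelian.coimage f) x₀ = rk E x₀ :=
      (LinearEquiv.ofBijective (Groth.Agent.Helper13.FinType.stalkLinearMap e.hom x₀)
        ⟨Groth.Agent.Helper13.Ext.stalkMap_injective_of_mono e.hom x₀,
          stalkMap_surjective_of_epi e.hom x₀⟩).finrank_eq
    rw [rk_eq_of_isFinLocFreeOfRank _ _ hIr, rk_eq_of_isFinLocFreeOfRank _ _ hE] at h1
    exact h1
  have hK : rK = 0 := by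
    by_contra hne
    have hKpos : 0 < rK := Nat.pos_of_ne_zero hne
    have hnotiso : ¬ IsIso (kernel.ι f) := by
      intro hiso
      apply hf
      rw [← cancel_epi (kernel.ι f), kernel.condition, comp_zero]
    have h1 := hEst (kernel f) rK (kernel.ι f) inferInstance hKpos hKr hnotiso
    have hnotiso2 : ¬ IsIso (Abelian.factorThruCoimage f) := fun h => by
      have := hιrank h
      omega
    have h2 := hEst (Abelian.coimage f) rI (Abelian.factorThruCoimage f) inferInstance hIpos hIr
      hnotiso2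
    rw [hdeg, hrk'] at h1 h2
    nlinarith [h1, h2]
  have hKz : IsZero (kernel f) := hK0 hK
  have hrI : rI = r := by omega
  have hπm : Mono (Abelian.coimage.π f) := by
    apply Preadditive.mono_of_cancel_zero
    intro T a ha
    have h0 : a ≫ f = 0 := by rw [← Abelian.coimage.fac f, ← Category.assoc, ha, zero_comp]
    have h1 : a = kernel.lift f a h0 ≫ kernel.ι f := (kernel.lift_ι f a h0).symm
    rw [h1, hKz.eq_of_tgt (kernel.lift f a h0) 0, zero_comp]
  have hπ : IsIso (Abelian.coimage.π f) := isIso_of_mono_of_epi _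
  have hι : IsIso (Abelian.factorThruCoimage f) := by
    by_contra hnot
    have h2 := hEst (Abelian.coimage f) rI (Abelian.factorThruCoimage f) inferInstance hIpos hIr
      hnot
    rw [hdeg, hKdeg0 hK, hrI] at h2
    simp at h2
  rw [← Abelian.coimage.fac f]
  infer_instance

end Groth.Agent.Helper20.VBMap
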