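import Mathlib
import Groth.Prelude.Def_ModFun2
import Groth.Agent.Lib.Helper20.VBMap6

/-!
# Semistability in short exact sequences of bundles of equal slopes
-/

set_option autoImplicit false
set_option maxHeartbeats 800000
set_option linter.style.haveILetI false
set_option linter.unusedSectionVars false
set_option linter.unusedVariables false
universe u
open CategoryTheory CategoryTheory.Limits AlgebraicGeometry Opposite TopologicalSpace
open Groth.Agent.Helper20.RankFn
open Groth.Agent.Helper13.QCoh Groth.Agent.Helper13.FinType Groth.Agent.Helper13.LocFree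

namespace Groth.Agent.Helper20.VBMap

variable (k : Type u) [Field k] {X : Scheme.{u}} [X.Over (Spec (CommRingCat.of k))] [IsIntegral X]
  [IsProper (X ↘ Spec (CommRingCat.of k))] [Smooth (X ↘ Spec (CommRingCat.of k))]

lemma isCoh_cokernel' [IsLocallyNoetherian X] {M N : X.Modules} (hM : Coh.IsCoh M)
    (hN : Coh.IsCoh N) (φ : M ⟶ N) : Coh.IsCoh (cokernel φ) := by
  have h1 : M.IsQuasicoherent := hM.1
  have h2 : N.IsQuasicoherent := hN.1
  have h3 : SheafOfModules.IsFiniteType (R := X.ringCatSheaf) N := hN.2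
  exact ⟨Groth.Agent.Helper13.QCohLocal.isQuasicoherent_cokernel φ,
    Groth.Agent.Helper13.FinType.isFiniteType_of_epi (cokernel.π φ)⟩

theorem semistable_ses_iff (hdim : topologicalKrullDim X = 1)
    (T : ShortComplex X.Modules) (hT : T.ShortExact)
    (r₁ r r₂ : ℕ) (hr₁ : 0 < r₁) (hr : 0 < r) (hr₂ : 0 < r₂)
    (hE₁ : FlatMod.IsFinLocFreeOfRank r₁ T.X₁) (hE : FlatMod.IsFinLocFreeOfRank r T.X₂)
    (hE₂ : FlatMod.IsFinLocFreeOfRank r₂ T.X₃)
    (hμ₁ : Curv2.deg k X T.X₁ r₁ * (r : ℤ) = Curv2.deg k X T.X₂ r * (r₁ : ℤ))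
    (hμ₂ : Curv2.deg k X T.X₃ r₂ * (r : ℤ) = Curv2.deg k X T.X₂ r * (r₂ : ℤ)) :
    (∀ (G : X.Modules) (r' : ℕ) (i : G ⟶ T.X₂), Mono i → 0 < r' →
      FlatMod.IsFinLocFreeOfRank r' G →
      Curv2.deg k X G r' * (r : ℤ) ≤ Curv2.deg k X T.X₂ r * (r' : ℤ)) ↔
      ((∀ (G : X.Modules) (r' : ℕ) (i : G ⟶ T.X₁), Mono i → 0 < r' →
        FlatMod.IsFinLocFreeOfRank r' G →
        Curv2.deg k X G r' * (r₁ : ℤ) ≤ Curv2.deg k X T.X₁ r₁ * (r' : ℤ)) ∧
       (∀ (G : X.Modules) (r' : ℕ) (i : G ⟶ T.X₃), Mono i → 0 < r' →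
        FlatMod.IsFinLocFreeOfRank r' G →
        Curv2.deg k X G r' * (r₂ : ℤ) ≤ Curv2.deg k X T.X₃ r₂ * (r' : ℤ))) := by
  have hN : IsLocallyNoetherian X := isLocallyNoetherian_of_proper k
  have hreg : ∀ x : X, IsRegularLocalRing (X.presheaf.stalk x) := hreg_of_smooth k
  have := hT.mono_f
  have := hT.epi_g
  have hl₁ := VBIndec.isFinLocFree_of_rank r₁ _ hE₁
  have hl := VBIndec.isFinLocFree_of_rank r _ hE
  have hl₂ := VBIndec.isFinLocFree_of_rank r₂ _ hE₂
  have hc₁ : Coh.IsCoh T.X₁ := Groth.Agent.Helper9.ResVan.isCoh_of_isFinLocFree _ hl₁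
  have hc : Coh.IsCoh T.X₂ := Groth.Agent.Helper9.ResVan.isCoh_of_isFinLocFree _ hl
  have hc₂ : Coh.IsCoh T.X₃ := Groth.Agent.Helper9.ResVan.isCoh_of_isFinLocFree _ hl₂
  obtain ⟨x₀⟩ := (inferInstance : Nonempty X)
  have hfinT : Module.Finite (X.presheaf.stalk x₀) (T.X₂.presheaf.stalk x₀) :=
    (free_finite_stalk _ hl x₀).2
  have hrT : r = r₁ + r₂ := by
    have h := rk_shortExact T hT x₀
    rw [rk_eq_of_isFinLocFreeOfRank _ _ hE, rk_eq_of_isFinLocFreeOfRank _ _ hE₁,
      rk_eq_of_isFinLocFreeOfRank _ _ hE₂] at h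
    exact h
  have heT := Groth.Agent.S1524.result k X T hT hc₁ hc hc₂
  have hrZ : (0 : ℤ) < r := by exact_mod_cast hr
  have hr₁Z : (0 : ℤ) < r₁ := by exact_mod_cast hr₁
  have hr₂Z : (0 : ℤ) < r₂ := by exact_mod_cast hr₂
  constructor
  · intro hss
    refine ⟨?_, ?_⟩
    · intro G r' i hi hr' hG
      have : Mono (i ≫ T.f) := mono_comp _ _
      have h1 := hss G r' (i ≫ T.f) inferInstance hr' hG
      have e1 : Curv2.deg k X G r' * (r : ℤ) * r₁ ≤ Curv2.deg k X T.X₂ r * (r' : ℤ) * r₁ :=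
        mul_le_mul_of_nonneg_right h1 hr₁Z.le
      have e2 : (Curv2.deg k X G r' * (r₁ : ℤ)) * r ≤ (Curv2.deg k X T.X₁ r₁ * (r' : ℤ)) * r := by
        nlinarith [e1, hμ₁]
      exact le_of_mul_le_mul_right e2 hrZ
    · intro G r' i hi hr' hG
      have hGl := VBIndec.isFinLocFree_of_rank r' _ hG
      have hGc : Coh.IsCoh G := Groth.Agent.Helper9.ResVan.isCoh_of_isFinLocFree _ hGl
      have hQc : Coh.IsCoh (cokernel i) := isCoh_cokernel' hGc hc₂ i
      -- the preimage of `G` in `T.X₂`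
      let q : T.X₂ ⟶ cokernel i := T.g ≫ cokernel.π i
      have hG'c : Coh.IsCoh (kernel q) := Groth.Agent.Helper24.CohExt.isCoh_kernel hc hQc q
      have hG'l : FlatMod.IsFinLocFree (kernel q) :=
        isFinLocFree_of_mono hreg hdim.le hG'c hl (kernel.ι q)
      have hG'r := isFinLocFreeOfRank_of_preconnected (kernel q) hG'l x₀
      let A : ShortComplex X.Modules := ShortComplex.mk (kernel.ι q) q (kernel.condition q)
      have hA : A.ShortExact :=
        { exact := ShortComplex.exact_kernel q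
          mono_f := (inferInstance : Mono (kernel.ι q))
          epi_g := (epi_comp T.g (cokernel.π i) : Epi q) }
      let B : ShortComplex X.Modules := ShortComplex.mk i (cokernel.π i) (cokernel.condition i)
      have hB : B.ShortExact :=
        { exact := ShortComplex.exact_cokernel i
          mono_f := hi
          epi_g := (inferInstance : Epi (cokernel.π i)) }
      have hfinA : Module.Finite (X.presheaf.stalk x₀) (A.X₂.presheaf.stalk x₀) := hfinT
      have hfinB : Module.Finite (X.presheaf.stalk x₀) (B.X₂.presheaf.stalk x₀) :=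
        (free_finite_stalk _ hl₂ x₀).2
      have hrA := rk_shortExact A hA x₀
      have hrB := rk_shortExact B hB x₀
      change rk T.X₂ x₀ = rk (kernel q) x₀ + rk (cokernel i) x₀ at hrA
      change rk T.X₃ x₀ = rk G x₀ + rk (cokernel i) x₀ at hrB
      rw [rk_eq_of_isFinLocFreeOfRank _ _ hE] at hrA
      rw [rk_eq_of_isFinLocFreeOfRank _ _ hE₂, rk_eq_of_isFinLocFreeOfRank _ _ hG] at hrB
      have hrG' : rk (kernel q) x₀ = r₁ + r' := by omega
      rw [hrG'] at hG'r
      have heA := Groth.Agent.S1524.result k X A hA hG'c hc hQc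
      have heB := Groth.Agent.S1524.result k X B hB hGc hc₂ hQc
      change Curv2.euler k X T.X₂ = Curv2.euler k X (kernel q) + Curv2.euler k X (cokernel i)
        at heA
      change Curv2.euler k X T.X₃ = Curv2.euler k X G + Curv2.euler k X (cokernel i) at heB
      have h1 := hss (kernel q) (r₁ + r') (kernel.ι q) inferInstance (by omega) hG'r
      have hdG' : Curv2.deg k X (kernel q) (r₁ + r') =
          Curv2.deg k X T.X₁ r₁ + Curv2.deg k X G r' := by
        unfold Curv2.deg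
        push_cast
        linarith
      rw [hdG'] at h1
      push_cast at h1
      have e1 : Curv2.deg k X G r' * (r : ℤ) ≤ Curv2.deg k X T.X₂ r * (r' : ℤ) := by
        nlinarith [h1, hμ₁]
      have e2 : (Curv2.deg k X G r' * (r₂ : ℤ)) * r ≤ (Curv2.deg k X T.X₃ r₂ * (r' : ℤ)) * r := by
        have := mul_le_mul_of_nonneg_right e1 hr₂Z.le
        nlinarith [this, hμ₂]
      exact le_of_mul_le_mul_right e2 hrZ
  · rintro ⟨hss₁, hss₂⟩ G r' i hi hr' hG
    obtain ⟨rK, rI, hKr, hIr, hrk, hdeg, hK0, hI0, hKdeg0, hIdeg0⟩ :=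
      ker_coim_pkg k hdim r' hG hl₂ (i ≫ T.g)
    -- the kernel embeds in `T.X₁`
    have hw : (kernel.ι (i ≫ T.g) ≫ i) ≫ T.g = 0 := by
      rw [Category.assoc]; exact kernel.condition _
    let j : kernel (i ≫ T.g) ⟶ T.X₁ := hT.fIsKernel.lift (KernelFork.ofι _ hw)
    have hj : j ≫ T.f = kernel.ι (i ≫ T.g) ≫ i := hT.fIsKernel.fac _ WalkingParallelPair.zero
    have hjm : Mono j := by
      have : Mono (j ≫ T.f) := by rw [hj]; exact mono_comp _ _
      exact mono_of_mono j T.f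
    have hK : Curv2.deg k X (kernel (i ≫ T.g)) rK * (r : ℤ) ≤
        Curv2.deg k X T.X₂ r * (rK : ℤ) := by
      rcases Nat.eq_zero_or_pos rK with h0 | h
      · rw [hKdeg0 h0, h0]; simp
      · have h1 := hss₁ _ rK j hjm h hKr
        have e1 := mul_le_mul_of_nonneg_right h1 hrZ.le
        have e2 : (Curv2.deg k X (kernel (i ≫ T.g)) rK * (r : ℤ)) * r₁ ≤
            (Curv2.deg k X T.X₂ r * (rK : ℤ)) * r₁ := by nlinarith [e1, hμ₁]
        exact le_of_mul_le_mul_right e2 hr₁Z
    have hI : Curv2.deg k X (Abelian.coimage (i ≫ T.g)) rI * (r : ℤ) ≤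
        Curv2.deg k X T.X₂ r * (rI : ℤ) := by
      rcases Nat.eq_zero_or_pos rI with h0 | h
      · rw [hIdeg0 h0, h0]; simp
      · have h1 := hss₂ _ rI (Abelian.factorThruCoimage (i ≫ T.g)) inferInstance h hIr
        have e1 := mul_le_mul_of_nonneg_right h1 hrZ.le
        have e2 : (Curv2.deg k X (Abelian.coimage (i ≫ T.g)) rI * (r : ℤ)) * r₂ ≤
            (Curv2.deg k X T.X₂ r * (rI : ℤ)) * r₂ := by nlinarith [e1, hμ₂]
        exact le_of_mul_le_mul_right e2 hr₂Z
    rw [hdeg, hrk]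
    push_cast
    nlinarith [hK, hI]

end Groth.Agent.Helper20.VBMap
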