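import Mathlib
import Groth.Prelude.Def_ModFun2
import Groth.Prelude.Def_RefHull
import Groth.Agent.Lib.Helper20.VBMap8
import Groth.Agent.Lib.Lead.HomSh5
import Groth.Agent.Lib.Helper13.LocFree4
import Groth.Agent.Lib.Helper20.VBMap3

/-!
# Saturation of a subsheaf of a vector bundle on a smooth proper curve

The saturation of `i : I ⟶ F` is the kernel of `F ⟶ Q ⟶ Q^{**}`, `Q = coker i`.
-/

set_option autoImplicit false
set_option maxHeartbeats 400000
set_option linter.style.haveILetI false
set_option linter.unusedSectionVars false
set_option linter.unusedVariables false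
universe u
open CategoryTheory CategoryTheory.Limits AlgebraicGeometry Opposite TopologicalSpace
open Groth.Agent.Helper20.RankFn RefHull
open Groth.Agent.Helper13.QCoh Groth.Agent.Helper13.FinType Groth.Agent.Helper13.LocFree

namespace Groth.Agent.Helper20.VBMap

/-- the stalks of a dual are torsion-free on an integral scheme. -/
theorem noZeroSMulDivisors_stalk_dual {X : Scheme.{u}} [IsIntegral X] (A : X.Modules)
    (hA : SheafOfModules.IsFiniteType (R := X.ringCatSheaf) A) (x : X) :
    NoZeroSMulDivisors (X.presheaf.stalk x)
      ((homSh A (Coh.structureModule X)).presheaf.stalk x) := by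
  have h0 : NoZeroSMulDivisors (X.presheaf.stalk x)
      ((Coh.structureModule X).presheaf.stalk x) :=
    Function.Injective.noZeroSMulDivisors (Groth.Agent.Helper13.WeakAss.unitStalkEquiv x)
      (Groth.Agent.Helper13.WeakAss.unitStalkEquiv x).injective (map_zero _)
      (fun c m => map_smul _ c m)
  have h1 : NoZeroSMulDivisors (X.presheaf.stalk x)
      (StalkHom A (Coh.structureModule X) x) := ⟨fun {c φ} h => by
    by_cases hc : c = 0
    · exact Or.inl hc
    · right
      ext v
      have h2 : (c • φ) v = 0 := by rw [h]; rfl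
      rw [LinearMap.smul_apply] at h2
      exact (smul_eq_zero.mp h2).resolve_left hc⟩
  exact Function.Injective.noZeroSMulDivisors (evalStalk A (Coh.structureModule X) x)
    (Groth.Agent.S16484.result X A _ hA x) (map_zero _) (fun c m => map_smul _ c m)


variable (k : Type u) [Field k] {X : Scheme.{u}} [X.Over (Spec (CommRingCat.of k))] [IsIntegral X]
  [IsProper (X ↘ Spec (CommRingCat.of k))] [Smooth (X ↘ Spec (CommRingCat.of k))]

/-- a coherent module with zero generic stalk on a proper curve has nonnegative Euler
characteristic. -/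
theorem euler_nonneg_of_generic_stalk (hdim : topologicalKrullDim X = 1) (Q : X.Modules)
    (hQ : Coh.IsCoh Q) (hη : Subsingleton (Q.presheaf.stalk (genericPoint X))) :
    0 ≤ Curv2.euler k X Q := by
  have hN : IsLocallyNoetherian X := isLocallyNoetherian_of_proper k
  set T : Set X := CohB1.support Q with hTdef
  have hT : IsClosed T := Groth.Agent.Helper26.DevD.isClosed_support Q hQ
  have hηT : genericPoint X ∉ T := fun h => h hη
  let U : X.Opens := ⟨Tᶜ, hT.isOpen_compl⟩
  have hUd : Dense (U : Set X) := hT.isOpen_compl.dense ⟨genericPoint X, hηT⟩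
  have h0 : ∀ x ∈ T, IsClosed ({x} : Set X) := fun x hx =>
    Groth.Agent.Helper13.CurveGen.isClosed_singleton_of_notMem_dense hdim.le U hUd x
      (fun hxU => hxU hx)
  have hsupp : ∀ x : X, x ∉ T → Subsingleton (Q.presheaf.stalk x) := fun x hx => not_not.mp hx
  have hvan : ∀ q : ℕ, 0 < q → Subsingleton (Coh.HH X Q q) := fun q hq =>
    Groth.Agent.Helper13.CurveGen.HH_subsingleton_of_support_subset Q T hT h0 hsupp q hq
  have heul : Curv2.euler k X Q = (Module.finrank k (Coh.HH X Q 0) : ℤ) := by
    unfold Curv2.euler
    rw [finsum_eq_single _ 0]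
    · simp
    · intro i hi
      have := hvan i (Nat.pos_of_ne_zero hi)
      rw [Module.finrank_zero_of_subsingleton]
      simp
  rw [heul]
  positivity

/-- generic injectivity of the biduality map of a coherent module. -/
lemma bidual_generic_injective [IsLocallyNoetherian X] (Q : X.Modules) (hQ : Coh.IsCoh Q) :
    Function.Injective (stalkMapₗ (bidualMap Q) (genericPoint X)) := by
  have hO : Coh.IsCoh (Coh.structureModule X) := Groth.Agent.Lead.HomSh.isCoh_structureModule
  haveI := Groth.Agent.Lead.HomSh.isFinitePresentation_of_isCoh hQ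
  haveI := Groth.Agent.Lead.HomSh.isFinitePresentation_of_isCoh
    (Groth.Agent.Lead.HomSh.isCoh_homSh hQ hO)
  refine ((Groth.Agent.Lead.HomSh.isReflexiveAt_iff_bijective Q (genericPoint X)).mp ?_).1
  unfold IsReflexiveAt
  haveI : SheafOfModules.IsFiniteType (R := X.ringCatSheaf) Q := hQ.2
  haveI : Q.IsQuasicoherent := hQ.1
  haveI : Module.Finite (X.presheaf.stalk (genericPoint X))
      (Q.presheaf.stalk (genericPoint X)) := finite_stalk_of_isFiniteType Q _
  letI : Field (X.presheaf.stalk (genericPoint X)) :=
    (Field.toIsField (X.functionField)).toField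
  infer_instance

end Groth.Agent.Helper20.VBMap
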