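import Mathlib
import Groth.Agent.Lib.Helper20.VBSat1
import Groth.Agent.Lib.Helper18.BasisCrit

/-!
# Existence of the saturation
-/

set_option autoImplicit false
set_option maxHeartbeats 800000
set_option linter.style.haveILetI false
set_option linter.unusedSectionVars false
set_option linter.unusedVariables false
universe u
open CategoryTheory CategoryTheory.Limits AlgebraicGeometry Opposite TopologicalSpace
open Groth.Agent.Helper20.RankFn RefHull
open Groth.Agent.Helper13.QCoh Groth.Agent.Helper13.FinType Groth.Agent.Helper13.LocFree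

namespace Groth.Agent.Helper20.VBMap

variable (k : Type u) [Field k] {X : Scheme.{u}} [X.Over (Spec (CommRingCat.of k))] [IsIntegral X]
  [IsProper (X ↘ Spec (CommRingCat.of k))] [Smooth (X ↘ Spec (CommRingCat.of k))]

/-- **Saturation.** A sub-bundle `I ⊂ F` of rank `rI` lies in a sub-bundle `J ⊂ F` of the same rank
with locally free quotient `F/J`; `deg I ≤ deg J`, with equality only if `I = J`. -/
theorem exists_saturation (hdim : topologicalKrullDim X = 1) {I F : X.Modules} (rI : ℕ)
    (hI : FlatMod.IsFinLocFreeOfRank rI I) (hF : FlatMod.IsFinLocFree F) (i : I ⟶ F) [Mono i] :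
    ∃ (J : X.Modules) (a : I ⟶ J) (j : J ⟶ F), Mono j ∧ Mono a ∧ a ≫ j = i ∧
      FlatMod.IsFinLocFreeOfRank rI J ∧ (∃ rQ, FlatMod.IsFinLocFreeOfRank rQ (cokernel j)) ∧
      Curv2.deg k X I rI ≤ Curv2.deg k X J rI ∧
      (Curv2.deg k X J rI = Curv2.deg k X I rI → IsIso a) := by
  have hN : IsLocallyNoetherian X := isLocallyNoetherian_of_proper k
  have hreg : ∀ x : X, IsRegularLocalRing (X.presheaf.stalk x) := hreg_of_smooth k
  have hIl : FlatMod.IsFinLocFree I := VBIndec.isFinLocFree_of_rank rI I hI
  have hIc : Coh.IsCoh I := Groth.Agent.Helper9.ResVan.isCoh_of_isFinLocFree I hIl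
  have hFc : Coh.IsCoh F := Groth.Agent.Helper9.ResVan.isCoh_of_isFinLocFree F hF
  have hO : Coh.IsCoh (Coh.structureModule X) := Groth.Agent.Lead.HomSh.isCoh_structureModule
  have hQc : Coh.IsCoh (cokernel i) := isCoh_cokernel' hIc hFc i
  have hDQc : Coh.IsCoh (dual (cokernel i)) := Groth.Agent.Lead.HomSh.isCoh_homSh hQc hO
  have hDDc : Coh.IsCoh (ddual (cokernel i)) := Groth.Agent.Lead.HomSh.isCoh_homSh hDQc hO
  let g : F ⟶ ddual (cokernel i) := cokernel.π i ≫ bidualMap (cokernel i)
  have hJc : Coh.IsCoh (kernel g) := Groth.Agent.Helper24.CohExt.isCoh_kernel hFc hDDc g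
  have hJl : FlatMod.IsFinLocFree (kernel g) :=
    isFinLocFree_of_mono hreg hdim.le hJc hF (kernel.ι g)
  have hig : i ≫ g = 0 := by
    change i ≫ cokernel.π i ≫ _ = 0
    rw [cokernel.condition_assoc, zero_comp]
  let a : I ⟶ kernel g := kernel.lift g i hig
  have ha : a ≫ kernel.ι g = i := kernel.lift_ι _ _ _
  have hma : Mono a := mono_of_mono_fac ha
  -- the quotient is locally free
  have hCc : Coh.IsCoh (cokernel (kernel.ι g)) := isCoh_cokernel' hJc hFc (kernel.ι g)
  have hCtf : ∀ x : X, NoZeroSMulDivisors (X.presheaf.stalk x)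
      ((cokernel (kernel.ι g)).presheaf.stalk x) := fun x => by
    have := noZeroSMulDivisors_stalk_dual (dual (cokernel i)) hDQc.2 x
    exact Function.Injective.noZeroSMulDivisors
      (stalkLinearMap (Abelian.factorThruCoimage g) x)
      (Groth.Agent.Helper13.Ext.stalkMap_injective_of_mono _ x) (map_zero _)
      (fun c m => map_smul _ c m)
  have hCl : FlatMod.IsFinLocFree (cokernel (kernel.ι g)) :=
    (Groth.Agent.Helper3.TorsFreeDim1.main X hreg hdim.le _ hCc).mp hCtf
  -- generic surjectivity of `a`
  have hβ := bidual_generic_injective (cokernel i) hQc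
  have hsurj : Function.Surjective (stalkMap a (genericPoint X)) := by
    intro m
    have h1 : stalkMap g (genericPoint X) (stalkMap (kernel.ι g) (genericPoint X) m) = 0 := by
      rw [← Groth.Agent.Helper18.BasisCrit.stalkMap_comp, kernel.condition]
      exact Groth.Agent.Helper18.BasisCrit.stalkMap_zero _ m
    have h2 : stalkMap (bidualMap (cokernel i)) (genericPoint X)
        (stalkMap (cokernel.π i) (genericPoint X)
          (stalkMap (kernel.ι g) (genericPoint X) m)) = 0 := by
      rw [← Groth.Agent.Helper18.BasisCrit.stalkMap_comp]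
      exact h1
    have h3 : stalkMap (cokernel.π i) (genericPoint X)
        (stalkMap (kernel.ι g) (genericPoint X) m) = 0 := by
      apply hβ
      rw [map_zero]
      exact h2
    let S : ShortComplex X.Modules := ShortComplex.mk i (cokernel.π i) (cokernel.condition i)
    have hS : S.Exact := ShortComplex.exact_cokernel i
    have : Mono S.f := inferInstanceAs (Mono i)
    obtain ⟨n, hn⟩ := stalk_exact_of_exact_of_mono S hS (genericPoint X) _ h3
    refine ⟨n, Groth.Agent.Helper13.Ext.stalkMap_injective_of_mono (kernel.ι g) (genericPoint X) ?_⟩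
    rw [← Groth.Agent.Helper18.BasisCrit.stalkMap_comp, ha]
    exact hn
  have hTη : Subsingleton ((cokernel a).presheaf.stalk (genericPoint X)) := by
    have h0 : ∀ w : (cokernel a).presheaf.stalk (genericPoint X), w = 0 := fun w => by
      obtain ⟨m, rfl⟩ := stalkMap_surjective_of_epi (cokernel.π a) (genericPoint X) w
      obtain ⟨n, rfl⟩ := hsurj m
      rw [← Groth.Agent.Helper18.BasisCrit.stalkMap_comp, cokernel.condition]
      exact Groth.Agent.Helper18.BasisCrit.stalkMap_zero _ n
    exact ⟨fun u v => by rw [h0 u, h0 v]⟩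
  have hTc : Coh.IsCoh (cokernel a) := isCoh_cokernel' hIc hJc a
  -- ranks
  let A : ShortComplex X.Modules := ShortComplex.mk a (cokernel.π a) (cokernel.condition a)
  have hA : A.ShortExact :=
    { exact := ShortComplex.exact_cokernel a
      mono_f := hma
      epi_g := (inferInstance : Epi (cokernel.π a)) }
  have hfinA : Module.Finite (X.presheaf.stalk (genericPoint X))
      (A.X₂.presheaf.stalk (genericPoint X)) := (free_finite_stalk _ hJl _).2
  have hrA := rk_shortExact A hA (genericPoint X)
  change rk (kernel g) (genericPoint X) = rk I (genericPoint X) +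
    rk (cokernel a) (genericPoint X) at hrA
  have hrT : rk (cokernel a) (genericPoint X) = 0 := by
    unfold rk
    exact Module.finrank_zero_of_subsingleton
  rw [rk_eq_of_isFinLocFreeOfRank _ _ hI, hrT, add_zero] at hrA
  have hJr : FlatMod.IsFinLocFreeOfRank rI (kernel g) := by
    have := isFinLocFreeOfRank_of_preconnected (kernel g) hJl (genericPoint X)
    rwa [hrA] at this
  obtain ⟨x₀⟩ := (inferInstance : Nonempty X)
  have hCr := isFinLocFreeOfRank_of_preconnected (cokernel (kernel.ι g)) hCl x₀
  -- degrees
  have heA := Groth.Agent.S1524.result k X A hA hIc hJc hTc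
  change Curv2.euler k X (kernel g) = Curv2.euler k X I + Curv2.euler k X (cokernel a) at heA
  have hnn := euler_nonneg_of_generic_stalk k hdim (cokernel a) hTc hTη
  refine ⟨kernel g, a, kernel.ι g, inferInstance, hma, ha, hJr, ⟨_, hCr⟩, ?_, ?_⟩
  · unfold Curv2.deg
    linarith
  · intro hdeg
    have he0 : Curv2.euler k X (cokernel a) = 0 := by
      unfold Curv2.deg at hdeg
      linarith
    have hz : IsZero (cokernel a) :=
      isZero_of_generic_stalk_of_euler k hdim (cokernel a) hTc hTη he0
    have : Epi a := Preadditive.epi_of_isZero_cokernel a hz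
    exact isIso_of_mono_of_epi a

end Groth.Agent.Helper20.VBMap
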