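import Mathlib
import Groth.Agent.Lib.Helper20.VBSat2

/-!
# Kernel and cokernel of a map of semistable bundles of the same slope
-/

set_option autoImplicit false
set_option maxHeartbeats 800000
set_option linter.style.haveILetI false
set_option linter.unusedSectionVars false
set_option linter.unusedVariables false
universe u
open CategoryTheory CategoryTheory.Limits AlgebraicGeometry Opposite TopologicalSpace
open Groth.Agent.Helper20.RankFn
open Groth.Agent.Helper13.QCoh Groth.Agent.Helper13.FinType Groth.Agent.Helper13.LocFree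

namespace Groth.Agent.Helper20.VBMap

section Iso

variable (k : Type u) [Field k] {X : Scheme.{u}} [X.Over (Spec (CommRingCat.of k))]
  [IsProper (X ↘ Spec (CommRingCat.of k))]

lemma euler_eq_of_iso [IsLocallyNoetherian X] {M N : X.Modules} (e : M ≅ N) (hM : Coh.IsCoh M) :
    Curv2.euler k X N = Curv2.euler k X M := by
  have hN : Coh.IsCoh N := Groth.Agent.Helper24.CohExt.isCoh_of_iso e hM
  let S : ShortComplex X.Modules :=
    ShortComplex.mk e.hom (cokernel.π e.hom) (cokernel.condition e.hom)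
  have hS : S.ShortExact :=
    { exact := ShortComplex.exact_cokernel e.hom
      mono_f := (inferInstance : Mono e.hom)
      epi_g := (inferInstance : Epi (cokernel.π e.hom)) }
  have hz : IsZero (cokernel e.hom) := isZero_cokernel_of_epi e.hom
  have hZc : Coh.IsCoh (cokernel e.hom) := by
    have h1 : M.IsQuasicoherent := hM.1
    have h2 : N.IsQuasicoherent := hN.1
    have h3 : SheafOfModules.IsFiniteType (R := X.ringCatSheaf) N := hN.2
    exact ⟨Groth.Agent.Helper13.QCohLocal.isQuasicoherent_cokernel e.hom,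
      Groth.Agent.Helper13.FinType.isFiniteType_of_epi (cokernel.π e.hom)⟩
  have h := Groth.Agent.S1524.result k X S hS hM hN hZc
  change Curv2.euler k X N = Curv2.euler k X M + Curv2.euler k X (cokernel e.hom) at h
  rw [h, euler_eq_zero_of_isZero k _ hz hZc, add_zero]

lemma deg_eq_of_iso [IsLocallyNoetherian X] {M N : X.Modules} (e : M ≅ N) (hM : Coh.IsCoh M)
    (n : ℕ) : Curv2.deg k X N n = Curv2.deg k X M n := by
  unfold Curv2.deg
  rw [euler_eq_of_iso k e hM]

end Iso


variable (k : Type u) [Field k] {X : Scheme.{u}} [X.Over (Spec (CommRingCat.of k))] [IsIntegral X]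
  [IsProper (X ↘ Spec (CommRingCat.of k))] [Smooth (X ↘ Spec (CommRingCat.of k))]

/-- a finite locally free module of positive rank does not embed in a zero object. -/
lemma false_of_mono_of_isZero {G Z : X.Modules} (n : ℕ) (hn : 0 < n)
    (hG : FlatMod.IsFinLocFreeOfRank n G) (j : G ⟶ Z) [Mono j] (hZ : IsZero Z) : False := by
  apply VBIndec.not_isZero_of_isFinLocFreeOfRank n hn G hG
  rw [IsZero.iff_id_eq_zero, ← cancel_mono j]
  exact hZ.eq_of_tgt _ _

theorem ker_coker_semistable (hdim : topologicalKrullDim X = 1)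
    (r s : ℕ) (hr : 0 < r) (hs : 0 < s) (E F : X.Modules)
    (hE : FlatMod.IsFinLocFreeOfRank r E) (hF : FlatMod.IsFinLocFreeOfRank s F)
    (hEss : ModFun.IsSlopeSemistable k X E r) (hFss : ModFun.IsSlopeSemistable k X F s)
    (hμ : Curv2.deg k X E r * (s : ℤ) = Curv2.deg k X F s * (r : ℤ)) (f : E ⟶ F) :
    (∃ r₀ : ℕ, FlatMod.IsFinLocFreeOfRank r₀ (kernel f) ∧
        Curv2.deg k X (kernel f) r₀ * (r : ℤ) = Curv2.deg k X E r * (r₀ : ℤ) ∧
        ∀ (G : X.Modules) (n : ℕ) (j : G ⟶ kernel f), Mono j → 0 < n →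
          FlatMod.IsFinLocFreeOfRank n G →
          Curv2.deg k X G n * (r₀ : ℤ) ≤ Curv2.deg k X (kernel f) r₀ * (n : ℤ)) ∧
      (∃ s₀ : ℕ, FlatMod.IsFinLocFreeOfRank s₀ (cokernel f) ∧
        Curv2.deg k X (cokernel f) s₀ * (s : ℤ) = Curv2.deg k X F s * (s₀ : ℤ) ∧
        ∀ (G : X.Modules) (n : ℕ) (j : G ⟶ cokernel f), Mono j → 0 < n →
          FlatMod.IsFinLocFreeOfRank n G →
          Curv2.deg k X G n * (s₀ : ℤ) ≤ Curv2.deg k X (cokernel f) s₀ * (n : ℤ)) := by
  have hN : IsLocallyNoetherian X := isLocallyNoetherian_of_proper k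
  have hFl : FlatMod.IsFinLocFree F := VBIndec.isFinLocFree_of_rank s F hF
  have hFc : Coh.IsCoh F := Groth.Agent.Helper9.ResVan.isCoh_of_isFinLocFree F hFl
  obtain ⟨rK, rI, hKr, hIr, hrk, hdeg, hK0, hI0, hKdeg0, hIdeg0⟩ :=
    ker_coim_pkg k hdim r hE hFl f
  have hrZ : (0 : ℤ) < r := by exact_mod_cast hr
  have hsZ : (0 : ℤ) < s := by exact_mod_cast hs
  have hrk' : (r : ℤ) = (rK : ℤ) + (rI : ℤ) := by exact_mod_cast hrk
  have hrKZ : (0 : ℤ) ≤ rK := by positivity
  have hrIZ : (0 : ℤ) ≤ rI := by positivity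
  have hK : Curv2.deg k X (kernel f) rK * (r : ℤ) ≤ Curv2.deg k X E r * (rK : ℤ) := by
    rcases Nat.eq_zero_or_pos rK with h0 | h
    · rw [hKdeg0 h0, h0]; simp
    · exact hEss (kernel f) rK (kernel.ι f) inferInstance h hKr
  have hI : Curv2.deg k X (Abelian.coimage f) rI * (s : ℤ) ≤ Curv2.deg k X F s * (rI : ℤ) := by
    rcases Nat.eq_zero_or_pos rI with h0 | h
    · rw [hIdeg0 h0, h0]; simp
    · exact hFss (Abelian.coimage f) rI (Abelian.factorThruCoimage f) inferInstance h hIr
  set dE := Curv2.deg k X E r with hdE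
  set dF := Curv2.deg k X F s with hdF
  set dK := Curv2.deg k X (kernel f) rK with hdK
  set dI := Curv2.deg k X (Abelian.coimage f) rI with hdI
  have hI' : dI * (r : ℤ) ≤ dE * (rI : ℤ) := by
    have h1 : (dI * (r : ℤ)) * s ≤ (dE * (rI : ℤ)) * s := by
      have := mul_le_mul_of_nonneg_right hI hrZ.le
      nlinarith [this, hμ]
    exact le_of_mul_le_mul_right h1 hsZ
  have hid : dK * (r : ℤ) + dI * (r : ℤ) = dE * (rK : ℤ) + dE * (rI : ℤ) := by
    rw [hdeg, hrk']; ring
  have hKeq : dK * (r : ℤ) = dE * (rK : ℤ) := by linarith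
  have hIeq : dI * (r : ℤ) = dE * (rI : ℤ) := by linarith
  have hIeq' : dI * (s : ℤ) = dF * (rI : ℤ) := by
    have h1 : (dI * (s : ℤ)) * r = (dF * (rI : ℤ)) * r := by
      have e1 : (dI * (r : ℤ)) * s = (dE * (rI : ℤ)) * s := by rw [hIeq]
      have e2 : (dE * (s : ℤ)) * rI = (dF * (r : ℤ)) * rI := by rw [hμ]
      linarith
    exact mul_right_cancel₀ hrZ.ne' h1
  refine ⟨⟨rK, hKr, hKeq, ?_⟩, ?_⟩
  · intro G n j hj hn hG
    have : Mono (j ≫ kernel.ι f) := mono_comp _ _
    have h1 := hEss G n (j ≫ kernel.ι f) inferInstance hn hG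
    have h2 : (Curv2.deg k X G n * (rK : ℤ)) * r ≤ (dK * (n : ℤ)) * r := by
      have := mul_le_mul_of_nonneg_right h1 hrKZ
      nlinarith [this, hKeq]
    exact le_of_mul_le_mul_right h2 hrZ
  · -- the cokernel
    rcases Nat.eq_zero_or_pos rI with h0 | hIpos
    · -- `f = 0`
      have hf0 : f = 0 := by
        rw [← Abelian.coimage.fac f, (hI0 h0).eq_of_tgt (Abelian.coimage.π f) 0, zero_comp]
      subst hf0
      let ε : cokernel (0 : E ⟶ F) ≅ F := cokernelZeroIsoTarget
      have hCc : Coh.IsCoh (cokernel (0 : E ⟶ F)) :=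
        Groth.Agent.Helper24.CohExt.isCoh_of_iso ε.symm hFc
      have hdC : Curv2.deg k X (cokernel (0 : E ⟶ F)) s = dF :=
        (deg_eq_of_iso k ε hCc s).symm
      refine ⟨s, isFinLocFreeOfRank_of_iso ε.symm hF, by rw [hdC], ?_⟩
      intro G n j hj hn hG
      have : Mono (j ≫ ε.hom) := mono_comp _ _
      have h1 := hFss G n (j ≫ ε.hom) inferInstance hn hG
      rw [hdC]
      exact h1
    · -- saturate the image
      obtain ⟨J, a, j, hjm, ham, haj, hJr, ⟨rQ, hQr⟩, hle, hiso⟩ :=
        exists_saturation k hdim rI hIr hFl (Abelian.factorThruCoimage f)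
      have hJ := hFss J rI j hjm hIpos hJr
      have hdJ : Curv2.deg k X J rI = dI := by
        have h1 : Curv2.deg k X J rI * (s : ℤ) ≤ dI * (s : ℤ) := by rw [hIeq']; exact hJ
        exact le_antisymm (le_of_mul_le_mul_right h1 hsZ) hle
      have hai : IsIso a := hiso hdJ
      -- the isomorphism of cokernels
      let δ : cokernel f ≅ cokernel (Abelian.factorThruCoimage f) :=
        cokernelIsoOfEq (Abelian.coimage.fac f).symm ≪≫
          cokernelEpiComp (Abelian.coimage.π f) (Abelian.factorThruCoimage f)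
      let δ' : cokernel (Abelian.factorThruCoimage f) ≅ cokernel j :=
        cokernelIsoOfEq haj.symm ≪≫ cokernelEpiComp a j
      have hMr : FlatMod.IsFinLocFreeOfRank rQ (cokernel (Abelian.factorThruCoimage f)) :=
        isFinLocFreeOfRank_of_iso δ'.symm hQr
      have hCr : FlatMod.IsFinLocFreeOfRank rQ (cokernel f) :=
        isFinLocFreeOfRank_of_iso δ.symm hMr
      have hIl := VBIndec.isFinLocFree_of_rank rI _ hIr
      have hIc : Coh.IsCoh (Abelian.coimage f) :=
        Groth.Agent.Helper9.ResVan.isCoh_of_isFinLocFree _ hIl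
      have hMl := VBIndec.isFinLocFree_of_rank rQ _ hMr
      have hMc : Coh.IsCoh (cokernel (Abelian.factorThruCoimage f)) :=
        Groth.Agent.Helper9.ResVan.isCoh_of_isFinLocFree _ hMl
      have hCc : Coh.IsCoh (cokernel f) := Groth.Agent.Helper24.CohExt.isCoh_of_iso δ.symm hMc
      have hdC : ∀ n : ℕ, Curv2.deg k X (cokernel f) n =
          Curv2.deg k X (cokernel (Abelian.factorThruCoimage f)) n := fun n =>
        (deg_eq_of_iso k δ hCc n).symm
      let T : ShortComplex X.Modules :=
        ShortComplex.mk (Abelian.factorThruCoimage f) (cokernel.π (Abelian.factorThruCoimage f))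
          (cokernel.condition _)
      have hT : T.ShortExact :=
        { exact := ShortComplex.exact_cokernel _
          mono_f := (inferInstance : Mono (Abelian.factorThruCoimage f))
          epi_g := (inferInstance : Epi (cokernel.π (Abelian.factorThruCoimage f))) }
      obtain ⟨x₀⟩ := (inferInstance : Nonempty X)
      have hfinT : Module.Finite (X.presheaf.stalk x₀) (T.X₂.presheaf.stalk x₀) :=
        (free_finite_stalk _ hFl x₀).2
      have hrT : s = rI + rQ := by
        have h := rk_shortExact T hT x₀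
        change rk F x₀ = rk (Abelian.coimage f) x₀ +
          rk (cokernel (Abelian.factorThruCoimage f)) x₀ at h
        rw [rk_eq_of_isFinLocFreeOfRank _ _ hF, rk_eq_of_isFinLocFreeOfRank _ _ hIr,
          rk_eq_of_isFinLocFreeOfRank _ _ hMr] at h
        exact h
      have hdT : dF = dI + Curv2.deg k X (cokernel (Abelian.factorThruCoimage f)) rQ :=
        deg_shortExact k T hT hIc hFc hMc rI s rQ hrT
      have hrT' : (s : ℤ) = (rI : ℤ) + (rQ : ℤ) := by exact_mod_cast hrT
      have hμ₂ : Curv2.deg k X (cokernel (Abelian.factorThruCoimage f)) rQ * (s : ℤ) =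
          dF * (rQ : ℤ) := by
        have e1 : Curv2.deg k X (cokernel (Abelian.factorThruCoimage f)) rQ = dF - dI := by
          linarith
        rw [e1, sub_mul, hIeq']
        rw [hrT']
        ring
      refine ⟨rQ, hCr, by rw [hdC]; exact hμ₂, ?_⟩
      rcases Nat.eq_zero_or_pos rQ with hQ0 | hQpos
      · intro G n g hg hn hG
        exfalso
        have hz : IsZero (cokernel f) := by
          apply isZero_of_rk_eq_zero _ (VBIndec.isFinLocFree_of_rank rQ _ hCr)
          intro y
          rw [rk_eq_of_isFinLocFreeOfRank _ _ hCr y, hQ0]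
        exact false_of_mono_of_isZero n hn hG g hz
      · have hss := (semistable_ses_iff k hdim T hT rI s rQ hIpos hs hQpos hIr hF hMr
          hIeq' hμ₂).mp hFss
        intro G n g hg hn hG
        have : Mono (g ≫ δ.hom) := mono_comp _ _
        have h1 := hss.2 G n (g ≫ δ.hom) inferInstance hn hG
        rw [hdC]
        exact h1

end Groth.Agent.Helper20.VBMap
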