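import Mathlib
import Groth.Agent.Lib.Helper20.VBSat3

/-!
# Semistability through quotients and through subsheaves
-/

set_option autoImplicit false
set_option maxHeartbeats 800000
set_option linter.style.haveILetI false
set_option linter.unusedSectionVars false
set_option linter.unusedVariables false
universe u
open CategoryTheory CategoryTheory.Limits AlgebraicGeometry Opposite TopologicalSpace
open Groth.Agent.Helper20.RankFn
open Groth.Agent.Helper13.QCoh Groth.Agent.Helper13.FinType Groth.Agent.Helper13.LocFree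

namespace Groth.Agent.Helper20.VBMap

variable (k : Type u) [Field k] {X : Scheme.{u}} [X.Over (Spec (CommRingCat.of k))] [IsIntegral X]
  [IsProper (X ↘ Spec (CommRingCat.of k))] [Smooth (X ↘ Spec (CommRingCat.of k))]

/-- kernel data of an epimorphism of bundles. -/
theorem epi_pkg (hdim : topologicalKrullDim X = 1) {E F : X.Modules} (r s : ℕ)
    (hE : FlatMod.IsFinLocFreeOfRank r E) (hF : FlatMod.IsFinLocFreeOfRank s F) (p : E ⟶ F)
    [Epi p] :
    ∃ rK : ℕ, FlatMod.IsFinLocFreeOfRank rK (kernel p) ∧ r = rK + s ∧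
      Curv2.deg k X E r = Curv2.deg k X (kernel p) rK + Curv2.deg k X F s ∧
      (rK = 0 → IsZero (kernel p)) ∧ (rK = 0 → Curv2.deg k X (kernel p) rK = 0) := by
  have hN : IsLocallyNoetherian X := isLocallyNoetherian_of_proper k
  have hFl : FlatMod.IsFinLocFree F := VBIndec.isFinLocFree_of_rank s F hF
  obtain ⟨rK, rI, hKr, hIr, hrk, hdeg, hK0, hI0, hKdeg0, hIdeg0⟩ :=
    ker_coim_pkg k hdim r hE hFl p
  have hepi : Epi (Abelian.factorThruCoimage p) := by
    have : Epi (Abelian.coimage.π p ≫ Abelian.factorThruCoimage p) := by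
      rw [Abelian.coimage.fac]; infer_instance
    exact epi_of_epi (Abelian.coimage.π p) _
  have hiso : IsIso (Abelian.factorThruCoimage p) := isIso_of_mono_of_epi _
  let ε : Abelian.coimage p ≅ F := asIso (Abelian.factorThruCoimage p)
  obtain ⟨x₀⟩ := (inferInstance : Nonempty X)
  have hrI : rI = s := by
    have h1 := rk_eq_of_isFinLocFreeOfRank _ _ hIr x₀
    have h2 := rk_eq_of_isFinLocFreeOfRank _ _ (isFinLocFreeOfRank_of_iso ε.symm hF) x₀
    omega
  have hIc : Coh.IsCoh (Abelian.coimage p) :=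
    Groth.Agent.Helper9.ResVan.isCoh_of_isFinLocFree _ (VBIndec.isFinLocFree_of_rank rI _ hIr)
  have hdI : Curv2.deg k X F s = Curv2.deg k X (Abelian.coimage p) rI := by
    rw [hrI]; exact deg_eq_of_iso k ε hIc s
  refine ⟨rK, hKr, by omega, by rw [hdeg, hdI], hK0, hKdeg0⟩

/-- quotient data of the saturation of a sub-bundle. -/
theorem sat_pkg (hdim : topologicalKrullDim X = 1) {G E : X.Modules} (r' r : ℕ)
    (hG : FlatMod.IsFinLocFreeOfRank r' G) (hE : FlatMod.IsFinLocFreeOfRank r E) (i : G ⟶ E)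
    [Mono i] :
    ∃ (J : X.Modules) (a : G ⟶ J) (j : J ⟶ E) (rQ : ℕ), Mono j ∧ a ≫ j = i ∧
      FlatMod.IsFinLocFreeOfRank r' J ∧ FlatMod.IsFinLocFreeOfRank rQ (cokernel j) ∧
      r = r' + rQ ∧
      Curv2.deg k X E r = Curv2.deg k X J r' + Curv2.deg k X (cokernel j) rQ ∧
      Curv2.deg k X G r' ≤ Curv2.deg k X J r' ∧
      (Curv2.deg k X J r' = Curv2.deg k X G r' → IsIso a) ∧
      (rQ = 0 → IsZero (cokernel j) ∧ Curv2.deg k X (cokernel j) rQ = 0) := by
  have hN : IsLocallyNoetherian X := isLocallyNoetherian_of_proper k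
  have hEl : FlatMod.IsFinLocFree E := VBIndec.isFinLocFree_of_rank r E hE
  have hEc : Coh.IsCoh E := Groth.Agent.Helper9.ResVan.isCoh_of_isFinLocFree E hEl
  obtain ⟨J, a, j, hjm, ham, haj, hJr, ⟨rQ, hQr⟩, hle, hiso⟩ :=
    exists_saturation k hdim r' hG hEl i
  have hJc : Coh.IsCoh J :=
    Groth.Agent.Helper9.ResVan.isCoh_of_isFinLocFree _ (VBIndec.isFinLocFree_of_rank r' _ hJr)
  have hQl := VBIndec.isFinLocFree_of_rank rQ _ hQr
  have hQc : Coh.IsCoh (cokernel j) := Groth.Agent.Helper9.ResVan.isCoh_of_isFinLocFree _ hQl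
  let T : ShortComplex X.Modules := ShortComplex.mk j (cokernel.π j) (cokernel.condition j)
  have hT : T.ShortExact :=
    { exact := ShortComplex.exact_cokernel j
      mono_f := hjm
      epi_g := (inferInstance : Epi (cokernel.π j)) }
  obtain ⟨x₀⟩ := (inferInstance : Nonempty X)
  have hfinT : Module.Finite (X.presheaf.stalk x₀) (T.X₂.presheaf.stalk x₀) :=
    (free_finite_stalk _ hEl x₀).2
  have hrT : r = r' + rQ := by
    have h := rk_shortExact T hT x₀
    change rk E x₀ = rk J x₀ + rk (cokernel j) x₀ at h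
    rw [rk_eq_of_isFinLocFreeOfRank _ _ hE, rk_eq_of_isFinLocFreeOfRank _ _ hJr,
      rk_eq_of_isFinLocFreeOfRank _ _ hQr] at h
    exact h
  refine ⟨J, a, j, rQ, hjm, haj, hJr, hQr, hrT,
    deg_shortExact k T hT hJc hEc hQc r' r rQ hrT, hle, hiso, ?_⟩
  intro h0
  have hz : IsZero (cokernel j) := by
    apply isZero_of_rk_eq_zero _ hQl
    intro y
    rw [rk_eq_of_isFinLocFreeOfRank _ _ hQr y, h0]
  refine ⟨hz, ?_⟩
  unfold Curv2.deg
  rw [euler_eq_zero_of_isZero k _ hz hQc, h0]
  simp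

end Groth.Agent.Helper20.VBMap
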