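import Mathlib
import Groth.Agent.Lib.Helper20.VBSat4
import Groth.Agent.Lib.Helper26.HNFirst

/-!
# The maximal destabilising sub-bundle: slope drop in the quotient, uniqueness
-/

set_option autoImplicit false
set_option maxHeartbeats 800000
set_option linter.style.haveILetI false
set_option linter.unusedSectionVars false
set_option linter.unusedVariables false
universe u
open CategoryTheory CategoryTheory.Limits AlgebraicGeometry Opposite TopologicalSpace
open Groth.Agent.Helper20.RankFn
open Groth.Agent.Helper13.QCoh Groth.Agent.Helper13.FinType Groth.Agent.Helper13.LocFree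

namespace Groth.Agent.Helper20.VBMap

variable (k : Type u) [Field k] {X : Scheme.{u}} [X.Over (Spec (CommRingCat.of k))] [IsIntegral X]
  [IsProper (X ↘ Spec (CommRingCat.of k))] [Smooth (X ↘ Spec (CommRingCat.of k))]

lemma finite_stalk_of_isCoh {Y : Scheme.{u}} (M : Y.Modules) (hM : Coh.IsCoh M) (x : Y) :
    Module.Finite (Y.presheaf.stalk x) (M.presheaf.stalk x) := by
  haveI : SheafOfModules.IsFiniteType (R := Y.ringCatSheaf) M := hM.2
  haveI : M.IsQuasicoherent := hM.1
  exact finite_stalk_of_isFiniteType M x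

/-- the preimage in `E` of a sub-bundle `Q` of `E/E₁`. -/
theorem preimage_pkg (hdim : topologicalKrullDim X = 1) {E₁ E Q : X.Modules} (r₁ r s : ℕ)
    (hE₁ : FlatMod.IsFinLocFreeOfRank r₁ E₁) (hE : FlatMod.IsFinLocFreeOfRank r E)
    (hQ : FlatMod.IsFinLocFreeOfRank s Q) (i₁ : E₁ ⟶ E) [Mono i₁] (j : Q ⟶ cokernel i₁)
    [Mono j] :
    ∃ (G : X.Modules) (g : G ⟶ E), Mono g ∧ FlatMod.IsFinLocFreeOfRank (r₁ + s) G ∧
      Curv2.deg k X G (r₁ + s) = Curv2.deg k X E₁ r₁ + Curv2.deg k X Q s := by
  have hN : IsLocallyNoetherian X := isLocallyNoetherian_of_proper k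
  have hreg : ∀ x : X, IsRegularLocalRing (X.presheaf.stalk x) := hreg_of_smooth k
  have hl₁ := VBIndec.isFinLocFree_of_rank r₁ _ hE₁
  have hl := VBIndec.isFinLocFree_of_rank r _ hE
  have hlQ := VBIndec.isFinLocFree_of_rank s _ hQ
  have hc₁ : Coh.IsCoh E₁ := Groth.Agent.Helper9.ResVan.isCoh_of_isFinLocFree _ hl₁
  have hc : Coh.IsCoh E := Groth.Agent.Helper9.ResVan.isCoh_of_isFinLocFree _ hl
  have hcQ : Coh.IsCoh Q := Groth.Agent.Helper9.ResVan.isCoh_of_isFinLocFree _ hlQ
  have hcC : Coh.IsCoh (cokernel i₁) := isCoh_cokernel' hc₁ hc i₁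
  have hcD : Coh.IsCoh (cokernel j) := isCoh_cokernel' hcQ hcC j
  let q : E ⟶ cokernel j := cokernel.π i₁ ≫ cokernel.π j
  have hGc : Coh.IsCoh (kernel q) := Groth.Agent.Helper24.CohExt.isCoh_kernel hc hcD q
  have hGl : FlatMod.IsFinLocFree (kernel q) :=
    isFinLocFree_of_mono hreg hdim.le hGc hl (kernel.ι q)
  obtain ⟨x₀⟩ := (inferInstance : Nonempty X)
  have hGr := isFinLocFreeOfRank_of_preconnected (kernel q) hGl x₀
  let A : ShortComplex X.Modules := ShortComplex.mk (kernel.ι q) q (kernel.condition q)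
  have hA : A.ShortExact :=
    { exact := ShortComplex.exact_kernel q
      mono_f := (inferInstance : Mono (kernel.ι q))
      epi_g := (epi_comp (cokernel.π i₁) (cokernel.π j) : Epi q) }
  let B : ShortComplex X.Modules := ShortComplex.mk j (cokernel.π j) (cokernel.condition j)
  have hB : B.ShortExact :=
    { exact := ShortComplex.exact_cokernel j
      mono_f := (inferInstance : Mono j)
      epi_g := (inferInstance : Epi (cokernel.π j)) }
  let T : ShortComplex X.Modules := ShortComplex.mk i₁ (cokernel.π i₁) (cokernel.condition i₁)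
  have hT : T.ShortExact :=
    { exact := ShortComplex.exact_cokernel i₁
      mono_f := (inferInstance : Mono i₁)
      epi_g := (inferInstance : Epi (cokernel.π i₁)) }
  have hfinA : Module.Finite (X.presheaf.stalk x₀) (A.X₂.presheaf.stalk x₀) :=
    (free_finite_stalk _ hl x₀).2
  have hfinT : Module.Finite (X.presheaf.stalk x₀) (T.X₂.presheaf.stalk x₀) :=
    (free_finite_stalk _ hl x₀).2
  have hfinB : Module.Finite (X.presheaf.stalk x₀) (B.X₂.presheaf.stalk x₀) :=
    finite_stalk_of_isCoh (cokernel i₁) hcC x₀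
  have hrA := rk_shortExact A hA x₀
  have hrB := rk_shortExact B hB x₀
  have hrT := rk_shortExact T hT x₀
  change rk E x₀ = rk (kernel q) x₀ + rk (cokernel j) x₀ at hrA
  change rk (cokernel i₁) x₀ = rk Q x₀ + rk (cokernel j) x₀ at hrB
  change rk E x₀ = rk E₁ x₀ + rk (cokernel i₁) x₀ at hrT
  rw [rk_eq_of_isFinLocFreeOfRank _ _ hQ] at hrB
  rw [rk_eq_of_isFinLocFreeOfRank _ _ hE₁] at hrT
  have hrG : rk (kernel q) x₀ = r₁ + s := by omega
  rw [hrG] at hGr
  have heA := Groth.Agent.S1524.result k X A hA hGc hc hcD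
  have heB := Groth.Agent.S1524.result k X B hB hcQ hcC hcD
  have heT := Groth.Agent.S1524.result k X T hT hc₁ hc hcC
  change Curv2.euler k X E = Curv2.euler k X (kernel q) + Curv2.euler k X (cokernel j) at heA
  change Curv2.euler k X (cokernel i₁) = Curv2.euler k X Q + Curv2.euler k X (cokernel j) at heB
  change Curv2.euler k X E = Curv2.euler k X E₁ + Curv2.euler k X (cokernel i₁) at heT
  refine ⟨kernel q, kernel.ι q, inferInstance, hGr, ?_⟩
  unfold Curv2.deg
  push_cast
  linarith

end Groth.Agent.Helper20.VBMap
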