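import Mathlib
import Groth.Agent.Lib.Helper20.VBSat6

/-!
# Existence and uniqueness of the maximal destabilising sub-bundle
-/

set_option autoImplicit false
set_option maxHeartbeats 800000
set_option linter.style.haveILetI false
set_option linter.unusedSectionVars false
set_option linter.unusedVariables false
universe u
open CategoryTheory CategoryTheory.Limits AlgebraicGeometry Opposite TopologicalSpace
open Groth.Agent.Helper20.RankFn
open Groth.Agent.Helper13.QCoh Groth.Agent.Helper13.FinType Groth.Agent.Helper13.LocFree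

namespace Groth.Agent.Helper20.VBMap

variable (k : Type u) [Field k] {X : Scheme.{u}} [X.Over (Spec (CommRingCat.of k))] [IsIntegral X]
  [IsProper (X ↘ Spec (CommRingCat.of k))] [Smooth (X ↘ Spec (CommRingCat.of k))]

/-- existence of the destabilising sub-bundle with slope drop in the quotient. -/
theorem exists_destab (hdim : topologicalKrullDim X = 1)
    (r : ℕ) (hr : 0 < r) (E : X.Modules) (hE : FlatMod.IsFinLocFreeOfRank r E) :
    ∃ (E₁ : X.Modules) (r₁ : ℕ) (i₁ : E₁ ⟶ E), Mono i₁ ∧ 0 < r₁ ∧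
      FlatMod.IsFinLocFreeOfRank r₁ E₁ ∧
      (∀ (F : X.Modules) (r' : ℕ) (j : F ⟶ E), Mono j → 0 < r' →
        FlatMod.IsFinLocFreeOfRank r' F →
        Curv2.deg k X F r' * (r₁ : ℤ) ≤ Curv2.deg k X E₁ r₁ * (r' : ℤ)) ∧
      (∀ (Q : X.Modules) (s : ℕ) (j : Q ⟶ cokernel i₁), Mono j → 0 < s →
        FlatMod.IsFinLocFreeOfRank s Q →
        Curv2.deg k X Q s * (r₁ : ℤ) < Curv2.deg k X E₁ r₁ * (s : ℤ)) := by
  obtain ⟨E₁, r₁, i₁, hi₁, hr₁, hE₁, hmax, hrank, -⟩ :=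
    Groth.Agent.Helper26.HNFirst.main k X hdim r hr E hE
  refine ⟨E₁, r₁, i₁, hi₁, hr₁, hE₁, hmax, ?_⟩
  intro Q s j hj hs hQ
  obtain ⟨G, g, hg, hGr, hGd⟩ := preimage_pkg k hdim r₁ r s hE₁ hE hQ i₁ j
  have h1 := hmax G (r₁ + s) g hg (by omega) hGr
  rw [hGd] at h1
  push_cast at h1
  have hle : Curv2.deg k X Q s * (r₁ : ℤ) ≤ Curv2.deg k X E₁ r₁ * (s : ℤ) := by nlinarith
  rcases hle.lt_or_eq with h | h
  · exact h
  · exfalso
    have h2 : Curv2.deg k X G (r₁ + s) * (r₁ : ℤ) =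
        Curv2.deg k X E₁ r₁ * ((r₁ + s : ℕ) : ℤ) := by
      rw [hGd]
      push_cast
      nlinarith
    have := hrank G (r₁ + s) g hg (by omega) hGr h2
    omega

/-- comparison of two destabilising sub-bundles. -/
theorem destab_le (hdim : topologicalKrullDim X = 1)
    (r : ℕ) (E : X.Modules) (hE : FlatMod.IsFinLocFreeOfRank r E)
    (E₁ E₁' : X.Modules) (r₁ r₁' : ℕ) (i₁ : E₁ ⟶ E) (i₁' : E₁' ⟶ E)
    (hi₁ : Mono i₁) (hr₁ : 0 < r₁) (hE₁ : FlatMod.IsFinLocFreeOfRank r₁ E₁)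
    (hmax : ∀ (F : X.Modules) (r' : ℕ) (j : F ⟶ E), Mono j → 0 < r' →
        FlatMod.IsFinLocFreeOfRank r' F →
        Curv2.deg k X F r' * (r₁ : ℤ) ≤ Curv2.deg k X E₁ r₁ * (r' : ℤ))
    (hdrop : ∀ (Q : X.Modules) (s : ℕ) (j : Q ⟶ cokernel i₁), Mono j → 0 < s →
        FlatMod.IsFinLocFreeOfRank s Q →
        Curv2.deg k X Q s * (r₁ : ℤ) < Curv2.deg k X E₁ r₁ * (s : ℤ))
    (hi₁' : Mono i₁') (hr₁' : 0 < r₁') (hE₁' : FlatMod.IsFinLocFreeOfRank r₁' E₁')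
    (hmax' : ∀ (F : X.Modules) (r' : ℕ) (j : F ⟶ E), Mono j → 0 < r' →
        FlatMod.IsFinLocFreeOfRank r' F →
        Curv2.deg k X F r' * (r₁' : ℤ) ≤ Curv2.deg k X E₁' r₁' * (r' : ℤ)) :
    ∃ u : E₁' ⟶ E₁, u ≫ i₁ = i₁' := by
  have hN : IsLocallyNoetherian X := isLocallyNoetherian_of_proper k
  -- the quotient `E/E₁` is locally free
  obtain ⟨J, a, j, rQ, hjm, haj, hJr, hQr, hrT, hdT, hle, hiso, hQ0⟩ :=
    sat_pkg k hdim r₁ r hE₁ hE i₁
  have hr₁Z : (0 : ℤ) < r₁ := by exact_mod_cast hr₁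
  have hJ := hmax J r₁ j hjm hr₁ hJr
  have hdJ : Curv2.deg k X J r₁ = Curv2.deg k X E₁ r₁ :=
    le_antisymm (le_of_mul_le_mul_right hJ hr₁Z) hle
  have hai : IsIso a := hiso hdJ
  let δ : cokernel i₁ ≅ cokernel j := cokernelIsoOfEq haj.symm ≪≫ cokernelEpiComp a j
  have hCr : FlatMod.IsFinLocFreeOfRank rQ (cokernel i₁) :=
    isFinLocFreeOfRank_of_iso δ.symm hQr
  have hCl := VBIndec.isFinLocFree_of_rank rQ _ hCr
  -- the composite `E₁' ⟶ E ⟶ E/E₁` vanishes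
  have hc : i₁' ≫ cokernel.π i₁ = 0 := by
    by_contra hne
    obtain ⟨rK, rI, hKr, hIr, hrk, hdeg, hK0, hI0, hKdeg0, hIdeg0⟩ :=
      ker_coim_pkg k hdim r₁' hE₁' hCl (i₁' ≫ cokernel.π i₁)
    have hIpos : 0 < rI := by
      rcases Nat.eq_zero_or_pos rI with h0 | h
      · exfalso
        apply hne
        rw [← Abelian.coimage.fac (i₁' ≫ cokernel.π i₁),
          (hI0 h0).eq_of_tgt (Abelian.coimage.π _) 0, zero_comp]
      · exact h
    have h1 := hdrop _ rI (Abelian.factorThruCoimage (i₁' ≫ cokernel.π i₁)) inferInstance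
      hIpos hIr
    have h2 : Curv2.deg k X (kernel (i₁' ≫ cokernel.π i₁)) rK * (r₁ : ℤ) ≤
        Curv2.deg k X E₁ r₁ * (rK : ℤ) := by
      rcases Nat.eq_zero_or_pos rK with h0 | h
      · rw [hKdeg0 h0, h0]; simp
      · have : Mono (kernel.ι (i₁' ≫ cokernel.π i₁) ≫ i₁') := mono_comp _ _
        exact hmax _ rK (kernel.ι (i₁' ≫ cokernel.π i₁) ≫ i₁') inferInstance h hKr
    have h3 := hmax' E₁ r₁ i₁ hi₁ hr₁ hE₁
    have hrk' : (r₁' : ℤ) = (rK : ℤ) + (rI : ℤ) := by exact_mod_cast hrk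
    rw [hdeg, hrk'] at h3
    nlinarith
  exact ⟨Abelian.monoLift i₁ i₁' hc, Abelian.monoLift_comp i₁ i₁' hc⟩

end Groth.Agent.Helper20.VBMap
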