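import Mathlib
import Groth.Agent.Lib.Helper20.VBSat7
import Groth.Agent.Lib.Helper20.HiggsSlope
import Groth.Agent.Lib.Helper13.InvTwist

/-!
# Quotients of semistable Higgs bundles by Higgs sub-bundles of the same slope
-/

set_option autoImplicit false
set_option maxHeartbeats 800000
set_option linter.style.haveILetI false
set_option linter.unusedSectionVars false
set_option linter.unusedVariables false
universe u
open CategoryTheory CategoryTheory.Limits AlgebraicGeometry Opposite TopologicalSpace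
open Groth.Agent.Helper20.RankFn Groth.Agent.Helper13 Groth.Agent.Helper13.TwistSES
open Groth.Agent.Helper13.QCoh Groth.Agent.Helper13.FinType Groth.Agent.Helper13.LocFree

namespace Groth.Agent.Helper20.VBMap

/-- lifting through `S.X₁ ⊗ L ⟶ S.X₂ ⊗ L` for a short exact sequence `S`. -/
lemma exists_lift_tensor {X : Scheme.{u}} (S : ShortComplex X.Modules) (hS : S.ShortExact)
    (L : X.Modules) (hL : PicF.IsInvertible L) {A : X.Modules}
    (u : A ⟶ CohB1.tensorMod S.X₂ L) (hu : u ≫ Tensor.map S.g (𝟙 L) = 0) :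
    ∃ v : A ⟶ CohB1.tensorMod S.X₁ L, v ≫ Tensor.map S.f (𝟙 L) = u := by
  have hT := tensorSC_shortExact S hS L hL
  have := hT.mono_f
  exact ⟨hT.exact.lift u hu, hT.exact.lift_f u hu⟩

variable (k : Type u) [Field k] {X : Scheme.{u}} [X.Over (Spec (CommRingCat.of k))] [IsIntegral X]
  [IsProper (X ↘ Spec (CommRingCat.of k))] [Smooth (X ↘ Spec (CommRingCat.of k))]

include k in
/-- a map of bundles vanishing on a sub-bundle of full rank vanishes. -/
lemma eq_zero_of_comp_eq_zero_of_rank (hdim : topologicalKrullDim X = 1) {F J W : X.Modules}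
    (r' : ℕ) (hF : FlatMod.IsFinLocFreeOfRank r' F) (hJ : FlatMod.IsFinLocFreeOfRank r' J)
    (hW : FlatMod.IsFinLocFree W) (a : F ⟶ J) [Mono a] (c : J ⟶ W) (hac : a ≫ c = 0) : c = 0 := by
  obtain ⟨rK, rI, hKr, hIr, hrk, hdeg, hK0, hI0, hKdeg0, hIdeg0⟩ :=
    ker_coim_pkg k hdim r' hJ hW c
  have hm : Mono (kernel.lift c a hac) := mono_of_mono_fac (kernel.lift_ι c a hac)
  have hle : r' ≤ rK :=
    Groth.Agent.Helper26.CurveDeg.rank_le_of_mono F (kernel c) r' rK hF hKr (kernel.lift c a hac)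
  have h0 : rI = 0 := by omega
  rw [← Abelian.coimage.fac c, (hI0 h0).eq_of_tgt (Abelian.coimage.π c) 0, zero_comp]

/-- the preimage in `E` of a sub-bundle `Q` of `E/E₁`, with its defining exact sequence. -/
theorem preimage_pkg' (hdim : topologicalKrullDim X = 1) {E₁ E Q : X.Modules} (r₁ r s : ℕ)
    (hE₁ : FlatMod.IsFinLocFreeOfRank r₁ E₁) (hE : FlatMod.IsFinLocFreeOfRank r E)
    (hQ : FlatMod.IsFinLocFreeOfRank s Q) (i₁ : E₁ ⟶ E) [Mono i₁] (j : Q ⟶ cokernel i₁)
    [Mono j] :
    ∃ (G : X.Modules) (g : G ⟶ E) (hw : g ≫ (cokernel.π i₁ ≫ cokernel.π j) = 0),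
      (ShortComplex.mk g (cokernel.π i₁ ≫ cokernel.π j) hw).ShortExact ∧
      FlatMod.IsFinLocFreeOfRank (r₁ + s) G ∧
      Curv2.deg k X G (r₁ + s) = Curv2.deg k X E₁ r₁ + Curv2.deg k X Q s := by
  have hN : IsLocallyNoetherian X := isLocallyNoetherian_of_proper k
  have hreg : ∀ x : X, IsRegularLocalRing (X.presheaf.stalk x) := hreg_of_smooth k
  have hl₁ := VBIndec.isFinLocFree_of_rank r₁ _ hE₁
  have hl := VBIndec.isFinLocFree_of_rank r _ hE
  have hlQ := VBIndec.isFinLocFree_of_rank s _ hQ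
  have hc₁ : Coh.IsCoh E₁ := Groth.Agent.Helper9.ResVan.isCoh_of_isFinLocFree _ hl₁
  have hc : Coh.IsCoh E := Groth.Agent.Helper9.ResVan.isCoh_of_isFinLocFree _ hl
  have hcQ : Coh.IsCoh Q := Groth.Agent.Helper9.ResVan.isCoh_of_isFinLocFree _ hlQ
  have hcC : Coh.IsCoh (cokernel i₁) := isCoh_cokernel' hc₁ hc i₁
  have hcD : Coh.IsCoh (cokernel j) := isCoh_cokernel' hcQ hcC j
  let q : E ⟶ cokernel j := cokernel.π i₁ ≫ cokernel.π j
  have hGc : Coh.IsCoh (kernel q) := Groth.Agent.Helper24.CohExt.isCoh_kernel hc hcD q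
  have hGl : FlatMod.IsFinLocFree (kernel q) :=
    isFinLocFree_of_mono hreg hdim.le hGc hl (kernel.ι q)
  obtain ⟨x₀⟩ := (inferInstance : Nonempty X)
  have hGr := isFinLocFreeOfRank_of_preconnected (kernel q) hGl x₀
  let A : ShortComplex X.Modules := ShortComplex.mk (kernel.ι q) q (kernel.condition q)
  have hA : A.ShortExact :=
    { exact := ShortComplex.exact_kernel q
      mono_f := (inferInstance : Mono (kernel.ι q))
      epi_g := (epi_comp (cokernel.π i₁) (cokernel.π j) : Epi q) }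
  let B : ShortComplex X.Modules := ShortComplex.mk j (cokernel.π j) (cokernel.condition j)
  have hB : B.ShortExact :=
    { exact := ShortComplex.exact_cokernel j
      mono_f := (inferInstance : Mono j)
      epi_g := (inferInstance : Epi (cokernel.π j)) }
  let T : ShortComplex X.Modules := ShortComplex.mk i₁ (cokernel.π i₁) (cokernel.condition i₁)
  have hT : T.ShortExact :=
    { exact := ShortComplex.exact_cokernel i₁
      mono_f := (inferInstance : Mono i₁)
      epi_g := (inferInstance : Epi (cokernel.π i₁)) }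
  have hfinA : Module.Finite (X.presheaf.stalk x₀) (A.X₂.presheaf.stalk x₀) :=
    (free_finite_stalk _ hl x₀).2
  have hfinT : Module.Finite (X.presheaf.stalk x₀) (T.X₂.presheaf.stalk x₀) :=
    (free_finite_stalk _ hl x₀).2
  have hfinB : Module.Finite (X.presheaf.stalk x₀) (B.X₂.presheaf.stalk x₀) :=
    finite_stalk_of_isCoh (cokernel i₁) hcC x₀
  have hrA := rk_shortExact A hA x₀
  have hrB := rk_shortExact B hB x₀
  have hrT := rk_shortExact T hT x₀
  change rk E x₀ = rk (kernel q) x₀ + rk (cokernel j) x₀ at hrA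
  change rk (cokernel i₁) x₀ = rk Q x₀ + rk (cokernel j) x₀ at hrB
  change rk E x₀ = rk E₁ x₀ + rk (cokernel i₁) x₀ at hrT
  rw [rk_eq_of_isFinLocFreeOfRank _ _ hQ] at hrB
  rw [rk_eq_of_isFinLocFreeOfRank _ _ hE₁] at hrT
  have hrG : rk (kernel q) x₀ = r₁ + s := by omega
  rw [hrG] at hGr
  have heA := Groth.Agent.S1524.result k X A hA hGc hc hcD
  have heB := Groth.Agent.S1524.result k X B hB hcQ hcC hcD
  have heT := Groth.Agent.S1524.result k X T hT hc₁ hc hcC
  change Curv2.euler k X E = Curv2.euler k X (kernel q) + Curv2.euler k X (cokernel j) at heA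
  change Curv2.euler k X (cokernel i₁) = Curv2.euler k X Q + Curv2.euler k X (cokernel j) at heB
  change Curv2.euler k X E = Curv2.euler k X E₁ + Curv2.euler k X (cokernel i₁) at heT
  refine ⟨kernel q, kernel.ι q, kernel.condition q, hA, hGr, ?_⟩
  unfold Curv2.deg
  push_cast
  linarith

end Groth.Agent.Helper20.VBMap
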