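import Mathlib
import Groth.Agent.Lib.Helper20.VBSat8

/-!
# The quotient of a semistable Higgs bundle by a Higgs sub-bundle of the same slope
-/

set_option autoImplicit false
set_option maxHeartbeats 800000
set_option linter.style.haveILetI false
set_option linter.unusedSectionVars false
set_option linter.unusedVariables false
universe u
open CategoryTheory CategoryTheory.Limits AlgebraicGeometry Opposite TopologicalSpace
open Groth.Agent.Helper20.RankFn Groth.Agent.Helper13 Groth.Agent.Helper13.TwistSES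
open Groth.Agent.Helper13.QCoh Groth.Agent.Helper13.FinType Groth.Agent.Helper13.LocFree

namespace Groth.Agent.Helper20.VBMap

variable (k : Type u) [Field k] {X : Scheme.{u}} [X.Over (Spec (CommRingCat.of k))] [IsIntegral X]
  [IsProper (X ↘ Spec (CommRingCat.of k))] [Smooth (X ↘ Spec (CommRingCat.of k))]

theorem higgs_quotient (hdim : topologicalKrullDim X = 1)
    (L : X.Modules) (hL : PicF.IsInvertible L)
    (r : ℕ) (hr : 0 < r) (E : X.Modules) (hE : FlatMod.IsFinLocFreeOfRank r E)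
    (φ : E ⟶ CohB1.tensorMod E L)
    (hss : ∀ (G : X.Modules) (s : ℕ) (j : G ⟶ E) (ψ : G ⟶ CohB1.tensorMod G L), Mono j → 0 < s →
      FlatMod.IsFinLocFreeOfRank s G →
      ψ ≫ Tensor.map j (𝟙 L) = j ≫ φ →
      Curv2.deg k X G s * (r : ℤ) ≤ Curv2.deg k X E r * (s : ℤ))
    (F : X.Modules) (r' : ℕ) (hr' : 0 < r') (hF : FlatMod.IsFinLocFreeOfRank r' F)
    (i : F ⟶ E) [Mono i] (ψF : F ⟶ CohB1.tensorMod F L)
    (hψF : ψF ≫ Tensor.map i (𝟙 L) = i ≫ φ)
    (hslope : Curv2.deg k X F r' * (r : ℤ) = Curv2.deg k X E r * (r' : ℤ)) :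
    FlatMod.IsFinLocFreeOfRank (r - r') (cokernel i) ∧
    ∀ (φ' : cokernel i ⟶ CohB1.tensorMod (cokernel i) L),
      cokernel.π i ≫ φ' = φ ≫ Tensor.map (cokernel.π i) (𝟙 L) →
      ∀ (G : X.Modules) (s : ℕ) (j : G ⟶ cokernel i) (ψ : G ⟶ CohB1.tensorMod G L), Mono j →
        0 < s → FlatMod.IsFinLocFreeOfRank s G →
        ψ ≫ Tensor.map j (𝟙 L) = j ≫ φ' →
        Curv2.deg k X G s * ((r - r' : ℕ) : ℤ) ≤
          Curv2.deg k X (cokernel i) (r - r') * (s : ℤ) := by
  have hN : IsLocallyNoetherian X := isLocallyNoetherian_of_proper k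
  have hrZ : (0 : ℤ) < r := by exact_mod_cast hr
  obtain ⟨J, a, j, rQ, hjm, haj, hJr, hQr, hrT, hdT, hle, hiso, hQ0⟩ :=
    sat_pkg k hdim r' r hF hE i
  have ham : Mono a := mono_of_mono_fac haj
  have hQl := VBIndec.isFinLocFree_of_rank rQ _ hQr
  -- the saturation is a Higgs submodule
  have hWl : FlatMod.IsFinLocFree (CohB1.tensorMod (cokernel j) L) :=
    InvTwist.isFinLocFree_tensor_invertible _ _ hQl hL
  have hc0 : j ≫ φ ≫ Tensor.map (cokernel.π j) (𝟙 L) = 0 := by
    apply eq_zero_of_comp_eq_zero_of_rank k hdim r' hF hJr hWl a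
    rw [← Category.assoc, haj, ← Category.assoc, ← hψF, Category.assoc, ← Tensor.map_comp,
      Category.comp_id]
    have h0 : i ≫ cokernel.π j = 0 := by
      rw [← haj, Category.assoc, cokernel.condition, comp_zero]
    rw [h0, map_zero_left, comp_zero]
  let S : ShortComplex X.Modules := ShortComplex.mk j (cokernel.π j) (cokernel.condition j)
  have hS : S.ShortExact :=
    { exact := ShortComplex.exact_cokernel j
      mono_f := hjm
      epi_g := (inferInstance : Epi (cokernel.π j)) }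
  obtain ⟨ψJ, hψJ⟩ := exists_lift_tensor S hS L hL (j ≫ φ)
    (by rw [Category.assoc]; exact hc0)
  have hJ := hss J r' j ψJ hjm hr' hJr hψJ
  have hdJ : Curv2.deg k X J r' = Curv2.deg k X F r' := by
    have h1 : Curv2.deg k X J r' * (r : ℤ) ≤ Curv2.deg k X F r' * (r : ℤ) := by
      rw [hslope]; exact hJ
    exact le_antisymm (le_of_mul_le_mul_right h1 hrZ) hle
  have hai : IsIso a := hiso hdJ
  let δ : cokernel i ≅ cokernel j := cokernelIsoOfEq haj.symm ≪≫ cokernelEpiComp a j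
  have hsub : r - r' = rQ := by omega
  rw [hsub]
  have hCr : FlatMod.IsFinLocFreeOfRank rQ (cokernel i) := isFinLocFreeOfRank_of_iso δ.symm hQr
  have hCc : Coh.IsCoh (cokernel i) :=
    Groth.Agent.Helper9.ResVan.isCoh_of_isFinLocFree _ (VBIndec.isFinLocFree_of_rank rQ _ hCr)
  have hdC : Curv2.deg k X (cokernel i) rQ = Curv2.deg k X E r - Curv2.deg k X F r' := by
    have h1 : Curv2.deg k X (cokernel j) rQ = Curv2.deg k X (cokernel i) rQ :=
      deg_eq_of_iso k δ hCc rQ
    rw [← h1, hdT, hdJ]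
    ring
  refine ⟨hCr, ?_⟩
  intro φ' hφ' G s g ψ hg hs hG hψ
  obtain ⟨G', g', hw, hA, hG'r, hG'd⟩ := preimage_pkg' k hdim r' r s hF hE hG i g
  have hg'm : Mono g' := hA.mono_f
  -- the preimage is a Higgs submodule
  have hlift : (g' ≫ cokernel.π i) ≫ cokernel.π g = 0 := by
    rw [Category.assoc]; exact hw
  have hu : (g' ≫ φ) ≫ Tensor.map (cokernel.π i ≫ cokernel.π g) (𝟙 L) = 0 := by
    have e1 : Tensor.map (cokernel.π i ≫ cokernel.π g) (𝟙 L) =
        Tensor.map (cokernel.π i) (𝟙 L) ≫ Tensor.map (cokernel.π g) (𝟙 L) := by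
      rw [← Tensor.map_comp, Category.comp_id]
    rw [e1, Category.assoc, ← Category.assoc φ, ← hφ', Category.assoc, ← Category.assoc g',
      ← Abelian.monoLift_comp g (g' ≫ cokernel.π i) hlift, Category.assoc, ← Category.assoc g,
      ← hψ, Category.assoc, ← Tensor.map_comp, Category.comp_id, cokernel.condition,
      map_zero_left, comp_zero, comp_zero]
  obtain ⟨χ', hχ'⟩ := exists_lift_tensor _ hA L hL (g' ≫ φ) hu
  have h1 := hss G' (r' + s) g' χ' hg'm (by omega) hG'r hχ'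
  rw [hG'd] at h1
  push_cast at h1
  have hsZ : (0 : ℤ) ≤ s := by positivity
  have hrQZ : (0 : ℤ) ≤ rQ := by positivity
  have hrT' : (r : ℤ) = (r' : ℤ) + (rQ : ℤ) := by exact_mod_cast hrT
  have h2 : Curv2.deg k X G s * (r : ℤ) ≤ Curv2.deg k X E r * (s : ℤ) := by
    have h1' : Curv2.deg k X F r' * (r : ℤ) + Curv2.deg k X G s * (r : ℤ) ≤
        Curv2.deg k X E r * (r' : ℤ) + Curv2.deg k X E r * (s : ℤ) := by
      have e0 : (Curv2.deg k X F r' + Curv2.deg k X G s) * (r : ℤ) =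
          Curv2.deg k X F r' * (r : ℤ) + Curv2.deg k X G s * (r : ℤ) := by ring
      have e1 : Curv2.deg k X E r * ((r' : ℤ) + (s : ℤ)) =
          Curv2.deg k X E r * (r' : ℤ) + Curv2.deg k X E r * (s : ℤ) := by ring
      rw [← e0, ← e1]
      exact h1
    linarith [h1', hslope]
  rw [hdC]
  have h3 : (Curv2.deg k X G s * (rQ : ℤ)) * r ≤
      ((Curv2.deg k X E r - Curv2.deg k X F r') * (s : ℤ)) * r := by
    have e1 := mul_le_mul_of_nonneg_right h2 hrQZ
    have e2 : Curv2.deg k X F r' * (r : ℤ) * s = Curv2.deg k X E r * (r' : ℤ) * s := by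
      rw [hslope]
    have e3 : Curv2.deg k X E r * (s : ℤ) * (r : ℤ) =
        Curv2.deg k X E r * (s : ℤ) * (r' : ℤ) + Curv2.deg k X E r * (s : ℤ) * (rQ : ℤ) := by
      rw [hrT']; ring
    linarith [e1, e2, e3]
  exact le_of_mul_le_mul_right h3 hrZ

end Groth.Agent.Helper20.VBMap
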