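import Mathlib
import Groth.Agent.Lib.Helper18.OmegaStalk
import Groth.Agent.Lib.Helper26.DegTensor
import Groth.Agent.Lib.Helper26.NefExt
import Groth.Agent.Lib.Helper20.VBSat8

/-!
# Very stable bundles: nilpotent twisted endomorphisms from line subbundles
-/

set_option autoImplicit false
set_option maxHeartbeats 800000
set_option linter.style.haveILetI false
set_option linter.unusedSectionVars false
set_option linter.unusedVariables false
universe u
open CategoryTheory CategoryTheory.Limits AlgebraicGeometry Opposite TopologicalSpace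
open Groth.Agent.Helper20.RankFn Groth.Agent.Helper13 Groth.Agent.Helper13.TwistSES
open Groth.Agent.Helper13.QCoh Groth.Agent.Helper13.FinType Groth.Agent.Helper13.LocFree
open Groth.Agent.Helper20.VBMap

namespace Groth.Agent.Helper20.VeryStable

/-- the sheaf of differentials of a smooth morphism is finite locally free. -/
theorem isFinLocFree_omega {X Y : Scheme.{u}} (f : X ⟶ Y) [QuasiSeparated f] [Smooth f] :
    FlatMod.IsFinLocFree (Omega.sheaf f) := by
  haveI := Groth.Agent.Helper18.OmegaSec.isQuasicoherent_omega f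
  rw [Groth.Agent.Helper13.LocFree.isFinLocFree_iff_of_isQuasicoherent]
  intro x
  obtain ⟨V, hV, U, hU, hxU, e, hstd⟩ := Smooth.exists_isStandardSmooth f x
  letI iBA := Groth.Agent.Helper18.OmegaSec.algUV f e
  haveI hstd' : Algebra.IsStandardSmooth Γ(Y, V) Γ(X, U) := hstd
  haveI : Nonempty U := ⟨⟨x, hxU⟩⟩
  haveI : Nontrivial Γ(X, U) := inferInstance
  haveI : Module.Free Γ(X, U) Ω[Γ(X, U)⁄Γ(Y, V)] := inferInstance
  haveI : Module.Finite Γ(X, U) Ω[Γ(X, U)⁄Γ(Y, V)] := by
    haveI : Algebra.FiniteType Γ(Y, V) Γ(X, U) := inferInstance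
    infer_instance
  let b' := Module.finBasis Γ(X, U) Ω[Γ(X, U)⁄Γ(Y, V)]
  exact ⟨U, _, hU, hxU,
    ⟨b'.map (Groth.Agent.Helper18.OmegaSec.omegaSections f hU hV e).symm⟩⟩

/-- a finite locally free module stays so along an isomorphism. -/
theorem isFinLocFree_of_iso' {X : Scheme.{u}} {M N : X.Modules} (e : M ≅ N)
    (hM : FlatMod.IsFinLocFree M) : FlatMod.IsFinLocFree N := by
  intro x
  obtain ⟨U, n, hxU, ⟨e'⟩⟩ := hM x
  exact ⟨U, n, hxU, ⟨(Scheme.Modules.restrictFunctor U.ι).mapIso e.symm ≪≫ e'⟩⟩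

section Tensor

variable {X : Scheme.{u}}

/-- tensoring a monomorphism with a vector bundle gives a monomorphism. -/
theorem mono_map_of_isFinLocFree {A B : X.Modules} (s : A ⟶ B) [Mono s] (K : X.Modules)
    (hK : FlatMod.IsFinLocFree K) : Mono (Tensor.map s (𝟙 K)) := by
  let S : ShortComplex X.Modules := ShortComplex.mk s (cokernel.π s) (cokernel.condition s)
  have hS : S.ShortExact :=
    ShortComplex.ShortExact.mk' (ShortComplex.exact_cokernel s)
      (inferInstanceAs (Mono s)) (inferInstanceAs (Epi (cokernel.π s)))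
  exact (Groth.Agent.Helper26.DegTensor.tensorSC_shortExact_of_isFinLocFree S hS K hK).mono_f

/-- lifting through `S.X₁ ⊗ K ⟶ S.X₂ ⊗ K` for a short exact sequence `S` and a vector bundle. -/
theorem exists_lift_tensor' (S : ShortComplex X.Modules) (hS : S.ShortExact)
    (K : X.Modules) (hK : FlatMod.IsFinLocFree K) {A : X.Modules}
    (u : A ⟶ CohB1.tensorMod S.X₂ K) (hu : u ≫ Tensor.map S.g (𝟙 K) = 0) :
    ∃ v : A ⟶ CohB1.tensorMod S.X₁ K, v ≫ Tensor.map S.f (𝟙 K) = u := by
  have hT := Groth.Agent.Helper26.DegTensor.tensorSC_shortExact_of_isFinLocFree S hS K hK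
  have := hT.mono_f
  exact ⟨hT.exact.lift u hu, hT.exact.lift_f u hu⟩

/-- the square of `a ≫ (b ⊗ K)` in terms of `b ≫ a`. -/
theorem sq_eq {E A K : X.Modules} (a : E ⟶ CohB1.tensorMod A K) (b : A ⟶ E) :
    (a ≫ Tensor.map b (𝟙 K)) ≫ Tensor.map (a ≫ Tensor.map b (𝟙 K)) (𝟙 K) =
      a ≫ Tensor.map (b ≫ a) (𝟙 K) ≫ Tensor.map (Tensor.map b (𝟙 K)) (𝟙 K) := by
  have e1 : Tensor.map (a ≫ Tensor.map b (𝟙 K)) (𝟙 K) =
      Tensor.map a (𝟙 K) ≫ Tensor.map (Tensor.map b (𝟙 K)) (𝟙 K) := by
    rw [← Tensor.map_comp, Category.comp_id]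
  have e2 : Tensor.map (b ≫ a) (𝟙 K) = Tensor.map b (𝟙 K) ≫ Tensor.map a (𝟙 K) := by
    rw [← Tensor.map_comp, Category.comp_id]
  rw [e1, e2]
  simp only [Category.assoc]

end Tensor

section Curve

variable (k : Type u) [Field k] {X : Scheme.{u}} [X.Over (Spec (CommRingCat.of k))] [IsIntegral X]
  [IsProper (X ↘ Spec (CommRingCat.of k))] [Smooth (X ↘ Spec (CommRingCat.of k))]

include k in
/-- a nonzero map from a line bundle to a vector bundle on a smooth proper curve is a
monomorphism. -/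
theorem mono_of_ne_zero_of_rank_one (hdim : topologicalKrullDim X = 1) {L E : X.Modules}
    (hL : FlatMod.IsFinLocFreeOfRank 1 L) (hE : FlatMod.IsFinLocFree E) (s : L ⟶ E)
    (hs : s ≠ 0) : Mono s := by
  obtain ⟨rK, rI, hKr, hIr, hsum, -, hK0, hI0, -, -⟩ := ker_coim_pkg k hdim 1 hL hE s
  have hI : rI ≠ 0 := by
    intro h
    apply hs
    rw [← Abelian.coimage.fac s, (hI0 h).eq_of_tgt (Abelian.coimage.π s) 0, zero_comp]
  have hK : rK = 0 := by omega
  exact Preadditive.mono_of_kernel_zero ((hK0 hK).eq_of_src _ _)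

include k in
/-- **S15226**: on a very stable bundle, the composite of a nonzero map from a line bundle and a
nonzero map to its twist is nonzero. -/
theorem comp_ne_zero (hdim : topologicalKrullDim X = 1) (K : X.Modules)
    (hK : FlatMod.IsFinLocFree K) (E : X.Modules) (hE : FlatMod.IsFinLocFree E)
    (hvs : ∀ α : E ⟶ CohB1.tensorMod E K, α ≫ Tensor.map α (𝟙 K) = 0 → α = 0)
    (L : X.Modules) (hL : FlatMod.IsFinLocFreeOfRank 1 L) (s : L ⟶ E) (hs : s ≠ 0)
    (t : E ⟶ CohB1.tensorMod L K) (ht : t ≠ 0) : s ≫ t ≠ 0 := by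
  intro h
  haveI := mono_of_ne_zero_of_rank_one k hdim hL hE s hs
  haveI := mono_map_of_isFinLocFree s K hK
  apply ht
  have hα := hvs (t ≫ Tensor.map s (𝟙 K)) (by
    rw [sq_eq, h, map_zero_left, zero_comp, comp_zero])
  rw [← cancel_mono (Tensor.map s (𝟙 K)), hα, zero_comp]

end Curve

end Groth.Agent.Helper20.VeryStable
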