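import Mathlib
import Groth.Prelude.Def_ModFun2
import Groth.Agent.Lib.Helper20.VBMap3

/-!
# Stable bundles on a smooth proper curve: maps between stable bundles of the same slope,
simplicity
-/

set_option autoImplicit false
set_option maxHeartbeats 400000
set_option linter.style.haveILetI false
set_option linter.unusedSectionVars false
set_option linter.unusedVariables false
universe u
open CategoryTheory CategoryTheory.Limits AlgebraicGeometry Opposite TopologicalSpace
open Groth.Agent.Helper13.QCoh Groth.Agent.Helper13.FinType Groth.Agent.Helper13.LocFree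
open Groth.Agent.Helper20.RankFn

namespace Groth.Agent.Helper20.VBMap

variable (k : Type u) [Field k] {X : Scheme.{u}} [X.Over (Spec (CommRingCat.of k))] [IsIntegral X]
  [IsProper (X ↘ Spec (CommRingCat.of k))] [Smooth (X ↘ Spec (CommRingCat.of k))]

/-- a sub-bundle of full rank and of the same Euler characteristic is everything. -/
theorem isIso_of_mono_of_rank_euler (hdim : topologicalKrullDim X = 1) {I G : X.Modules} (r : ℕ)
    (hI : FlatMod.IsFinLocFreeOfRank r I) (hG : FlatMod.IsFinLocFreeOfRank r G) (ι : I ⟶ G)
    [Mono ι] (he : Curv2.euler k X I = Curv2.euler k X G) : IsIso ι := by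
  have hN : IsLocallyNoetherian X := isLocallyNoetherian_of_proper k
  have hIl := VBIndec.isFinLocFree_of_rank r I hI
  have hGl := VBIndec.isFinLocFree_of_rank r G hG
  have hIc : Coh.IsCoh I := Groth.Agent.Helper9.ResVan.isCoh_of_isFinLocFree I hIl
  have hGc : Coh.IsCoh G := Groth.Agent.Helper9.ResVan.isCoh_of_isFinLocFree G hGl
  have hQc : Coh.IsCoh (cokernel ι) := by
    have h1 : I.IsQuasicoherent := hIc.1
    have h2 : G.IsQuasicoherent := hGc.1
    have h3 : SheafOfModules.IsFiniteType (R := X.ringCatSheaf) G := hGc.2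
    exact ⟨Groth.Agent.Helper13.QCohLocal.isQuasicoherent_cokernel ι,
      Groth.Agent.Helper13.FinType.isFiniteType_of_epi (cokernel.π ι)⟩
  let S : ShortComplex X.Modules := ShortComplex.mk ι (cokernel.π ι) (cokernel.condition _)
  have hS : S.ShortExact :=
    { exact := ShortComplex.exact_cokernel ι
      mono_f := (inferInstance : Mono ι)
      epi_g := (inferInstance : Epi (cokernel.π ι)) }
  have hfin : Module.Finite (X.presheaf.stalk (genericPoint X))
      (S.X₂.presheaf.stalk (genericPoint X)) := (free_finite_stalk G hGl _).2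
  have hrk := rk_shortExact S hS (genericPoint X)
  have h1 : rk G (genericPoint X) = r := rk_eq_of_isFinLocFreeOfRank G r hG _
  have h2 : rk I (genericPoint X) = r := rk_eq_of_isFinLocFreeOfRank I r hI _
  have h3 : rk (cokernel ι) (genericPoint X) = 0 := by
    change rk G _ = rk I _ + rk (cokernel ι) _ at hrk
    omega
  have hfield : IsField (X.presheaf.stalk (genericPoint X)) :=
    Field.toIsField (X.functionField)
  have hfinQ : Module.Finite (X.presheaf.stalk (genericPoint X))
      ((cokernel ι).presheaf.stalk (genericPoint X)) := by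
    haveI hft : SheafOfModules.IsFiniteType (R := X.ringCatSheaf) (cokernel ι) := hQc.2
    haveI hqc : (cokernel ι).IsQuasicoherent := hQc.1
    exact @finite_stalk_of_isFiniteType _ (cokernel ι) hqc hft _
  have hη : Subsingleton ((cokernel ι).presheaf.stalk (genericPoint X)) :=
    subsingleton_of_finrank_eq_zero_of_isField hfield h3
  have heul := Groth.Agent.S1524.result k X S hS hIc hGc hQc
  change Curv2.euler k X G = Curv2.euler k X I + Curv2.euler k X (cokernel ι) at heul
  have hQ0 : Curv2.euler k X (cokernel ι) = 0 := by omega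
  have hz : IsZero (cokernel ι) := isZero_of_generic_stalk_of_euler k hdim _ hQc hη hQ0
  have : Epi ι := Preadditive.epi_of_isZero_cokernel ι hz
  exact isIso_of_mono_of_epi ι

/-- a nonzero map between stable bundles of the same slope is an isomorphism. -/
theorem isIso_of_stable (hdim : topologicalKrullDim X = 1)
    (r s : ℕ) (hr : 0 < r) (hs : 0 < s) (E F : X.Modules)
    (hE : FlatMod.IsFinLocFreeOfRank r E) (hF : FlatMod.IsFinLocFreeOfRank s F)
    (hEss : ModFun.IsSlopeSemistable k X E r) (hEst : ModFun.IsSlopeStable k X E r)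
    (hFss : ModFun.IsSlopeSemistable k X F s) (hFst : ModFun.IsSlopeStable k X F s)
    (hμ : Curv2.deg k X E r * (s : ℤ) = Curv2.deg k X F s * (r : ℤ))
    (f : E ⟶ F) (hf : f ≠ 0) : IsIso f := by
  have hN : IsLocallyNoetherian X := isLocallyNoetherian_of_proper k
  obtain ⟨rK, rI, hKr, hIr, hrk, hdeg, hK0, hI0, hKdeg0, hIdeg0⟩ :=
    ker_coim_pkg k hdim r hE (VBIndec.isFinLocFree_of_rank s F hF) f
  have hIpos : 0 < rI := by
    rcases Nat.eq_zero_or_pos rI with h0 | h
    · exfalso
      apply hf
      rw [← Abelian.coimage.fac f, (hI0 h0).eq_of_tgt (Abelian.coimage.π f) 0, zero_comp]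
    · exact h
  have hrk' : (r : ℤ) = (rK : ℤ) + (rI : ℤ) := by exact_mod_cast hrk
  have hrZ : (0 : ℤ) < r := by exact_mod_cast hr
  have hsZ : (0 : ℤ) < s := by exact_mod_cast hs
  have hIZ : (0 : ℤ) < rI := by exact_mod_cast hIpos
  -- semistability of `F` applied to the image
  have h3 := hFss (Abelian.coimage f) rI (Abelian.factorThruCoimage f) inferInstance hIpos hIr
  -- the kernel has rank zero
  have hK : rK = 0 := by
    by_contra hne
    have hKpos : 0 < rK := Nat.pos_of_ne_zero hne
    have h1 := hEst (kernel f) rK (kernel.ι f) inferInstance hKpos (by omega) hKr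
    rw [hdeg, hrk'] at h1
    rw [hdeg, hrk'] at hμ
    have hKZ : (0 : ℤ) < rK := by exact_mod_cast hKpos
    -- (1') deg E * rI < deg I * r
    set dK := Curv2.deg k X (kernel f) rK
    set dI := Curv2.deg k X (Abelian.coimage f) rI
    set dF := Curv2.deg k X F s
    have e1 : dK * (rI : ℤ) < dI * (rK : ℤ) := by nlinarith [h1]
    have e2 : (dK + dI) * (rI : ℤ) < dI * ((rK : ℤ) + rI) := by nlinarith [e1]
    have e3 : (dK + dI) * (rI : ℤ) * s < dI * ((rK : ℤ) + rI) * s :=
      mul_lt_mul_of_pos_right e2 hsZ
    have e4 : dI * (s : ℤ) * ((rK : ℤ) + rI) ≤ dF * (rI : ℤ) * ((rK : ℤ) + rI) :=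
      mul_le_mul_of_nonneg_right h3 (by positivity)
    nlinarith [e3, e4, hμ]
  have hKz : IsZero (kernel f) := hK0 hK
  have hrI : rI = r := by omega
  subst hrI
  have hdegE : Curv2.deg k X E rI = Curv2.deg k X (Abelian.coimage f) rI := by
    rw [hdeg, hKdeg0 hK]; simp
  -- the image has full rank in `F`
  have hle : rI ≤ s := by
    have hFl := VBIndec.isFinLocFree_of_rank s F hF
    let S : ShortComplex X.Modules := ShortComplex.mk (Abelian.factorThruCoimage f)
      (cokernel.π (Abelian.factorThruCoimage f)) (cokernel.condition _)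
    have hS : S.ShortExact :=
      { exact := ShortComplex.exact_cokernel _
        mono_f := (inferInstance : Mono (Abelian.factorThruCoimage f))
        epi_g := (inferInstance : Epi (cokernel.π (Abelian.factorThruCoimage f))) }
    obtain ⟨x₀⟩ := (inferInstance : Nonempty X)
    have hfin : Module.Finite (X.presheaf.stalk x₀) (S.X₂.presheaf.stalk x₀) :=
      (free_finite_stalk F hFl x₀).2
    have h := rk_shortExact S hS x₀
    change rk F x₀ = rk (Abelian.coimage f) x₀ + _ at h
    rw [rk_eq_of_isFinLocFreeOfRank F s hF x₀,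
      rk_eq_of_isFinLocFreeOfRank (Abelian.coimage f) rI hIr x₀] at h
    omega
  have hsI : s = rI := by
    by_contra hne
    have hlt : rI < s := lt_of_le_of_ne hle (Ne.symm hne)
    have h4 := hFst (Abelian.coimage f) rI (Abelian.factorThruCoimage f) inferInstance hIpos hlt hIr
    rw [← hdegE] at h4
    omega
  subst hsI
  have hdeq : Curv2.deg k X E s = Curv2.deg k X F s := by
    have := mul_right_cancel₀ (ne_of_gt hsZ) hμ
    exact this
  have heul : Curv2.euler k X (Abelian.coimage f) = Curv2.euler k X F := by
    have h5 : Curv2.deg k X (Abelian.coimage f) s = Curv2.deg k X F s := hdegE.symm.trans hdeq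
    unfold Curv2.deg at h5
    omega
  have hι : IsIso (Abelian.factorThruCoimage f) :=
    isIso_of_mono_of_rank_euler k hdim s hIr hF _ heul
  have hπm : Mono (Abelian.coimage.π f) := by
    apply Preadditive.mono_of_cancel_zero
    intro T a ha
    have h0 : a ≫ f = 0 := by rw [← Abelian.coimage.fac f, ← Category.assoc, ha, zero_comp]
    have h1 : a = kernel.lift f a h0 ≫ kernel.ι f := (kernel.lift_ι f a h0).symm
    rw [h1, hKz.eq_of_tgt (kernel.lift f a h0) 0, zero_comp]
  have hπ : IsIso (Abelian.coimage.π f) := isIso_of_mono_of_epi _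
  rw [← Abelian.coimage.fac f]
  infer_instance

end Groth.Agent.Helper20.VBMap
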