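import Mathlib
import Groth.Agent.Lib.Helper26.HiggsSS
import Groth.Agent.Lib.Helper26.NefExt
import Groth.Agent.Lib.Helper20.VeryStable1
import Groth.Agent.Lib.Helper20.VBSat9

/-!
# Stable pairs of rank two with a twist of degree zero, not of order two
-/

set_option autoImplicit false
set_option maxHeartbeats 1600000
set_option linter.style.haveILetI false
set_option linter.unusedSectionVars false
set_option linter.unusedVariables false
universe u
open CategoryTheory CategoryTheory.Limits AlgebraicGeometry Opposite TopologicalSpace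
open Groth.Agent.Helper20.RankFn Groth.Agent.Helper13 Groth.Agent.Helper13.TwistSES
open Groth.Agent.Helper13.QCoh Groth.Agent.Helper13.FinType Groth.Agent.Helper13.LocFree
open Groth.Agent.Helper20.VBMap

namespace Groth.Agent.Helper20.StablePair

section Cancel

variable {X : Scheme.{u}}

/-- cancellation of an invertible module: `M ≅ M ⊗ P` forces `P ≅ O`. -/
theorem nonempty_iso_of_cancel (M P : X.Modules) (hM : PicF.IsInvertible M)
    (f : M ≅ CohB1.tensorMod M P) : Nonempty (P ≅ Coh.structureModule X) := by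
  obtain ⟨N, hN, ⟨e⟩, -⟩ := Groth.Agent.Helper13.InvDual.exists_inverse M hM
  exact ⟨(Tensor.rid P).symm ≪≫ Tensor.mapIso (Iso.refl P) e.symm ≪≫
    (Tensor.assoc P M N).symm ≪≫ Tensor.mapIso (Tensor.braid P M) (Iso.refl N) ≪≫
    Tensor.mapIso f.symm (Iso.refl N) ≪≫ e⟩

end Cancel

variable (k : Type u) [Field k] {X : Scheme.{u}} [X.Over (Spec (CommRingCat.of k))] [IsIntegral X]
  [IsProper (X ↘ Spec (CommRingCat.of k))] [Smooth (X ↘ Spec (CommRingCat.of k))]

/-- a nonzero map of line bundles of the same degree on a smooth proper curve is an isomorphism. -/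
theorem isIso_of_ne_zero_of_deg_eq (hdim : topologicalKrullDim X = 1) {A B : X.Modules}
    (hA : FlatMod.IsFinLocFreeOfRank 1 A) (hB : FlatMod.IsFinLocFreeOfRank 1 B)
    (hd : Curv2.deg k X A 1 = Curv2.deg k X B 1) (f : A ⟶ B) (hf : f ≠ 0) : IsIso f := by
  haveI := Groth.Agent.Helper20.VeryStable.mono_of_ne_zero_of_rank_one k hdim hA
    (VBIndec.isFinLocFree_of_rank 1 B hB) f hf
  refine isIso_of_mono_of_rank_euler k hdim 1 hA hB f ?_
  unfold Curv2.deg at hd
  linarith

/-- a sub-bundle of full rank has smaller degree. -/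
theorem deg_le_of_mono_of_rank (hdim : topologicalKrullDim X = 1) {G E : X.Modules} (r : ℕ)
    (hG : FlatMod.IsFinLocFreeOfRank r G) (hE : FlatMod.IsFinLocFreeOfRank r E) (j : G ⟶ E)
    [Mono j] : Curv2.deg k X G r ≤ Curv2.deg k X E r := by
  obtain ⟨J, a, j', rQ, hjm, haj, hJr, hQr, hrT, hdT, hle, hiso, hQ0⟩ :=
    sat_pkg k hdim r r hG hE j
  have h0 : rQ = 0 := by omega
  rw [hdT, (hQ0 h0).2]
  linarith

/-- twisting by a line bundle of degree zero does not change the degree of a line bundle. -/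
theorem twist_pkg (hdim : topologicalKrullDim X = 1) (L : X.Modules) (hL : PicF.IsInvertible L)
    (hL0 : Curv2.deg k X L 1 = 0) (A : X.Modules) (hA : FlatMod.IsFinLocFreeOfRank 1 A) :
    FlatMod.IsFinLocFreeOfRank 1 (CohB1.tensorMod A L) ∧
      Curv2.deg k X (CohB1.tensorMod A L) 1 = Curv2.deg k X A 1 := by
  have hL1 := Groth.Agent.Helper26.IntLF.isFinLocFreeOfRank_one_of_isInvertible L hL
  have h1 := Groth.Agent.Helper26.HiggsSS.isFinLocFreeOfRank_tensorMod A L 1 1 hA hL1
  have h2 := Groth.Agent.Helper26.DegTensor.deg_tensor k X hdim.le A L 1 1 hA hL1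
  rw [hL0] at h2
  simp only [Nat.mul_one] at h1 h2
  refine ⟨h1, ?_⟩
  rw [h2]
  simp

end Groth.Agent.Helper20.StablePair
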