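import Mathlib
import Groth.Agent.Lib.Helper5.CXA1
import Groth.Agent.Lib.Helper13.TensorUnit
import Groth.Agent.Lib.Helper13.FreeMod
import Groth.Agent.Lib.Helper26.HomGlob
import Groth.Agent.Lib.Helper24.LinLES

/-!
# Untwisting `(A ⊗ N) ⊗ Q ≅ A` naturally in `A`, and naturality of `H⁰ = Hom(O, -)`
-/

set_option autoImplicit false
set_option maxHeartbeats 800000
set_option linter.style.haveILetI false
set_option linter.unusedSectionVars false
set_option linter.unusedVariables false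
universe u
open CategoryTheory CategoryTheory.Limits AlgebraicGeometry Opposite TopologicalSpace
open Groth.Agent.Helper13.Tensor Groth.Agent.Helper13.LocFree Groth.Agent.Helper13.PnFin

namespace Groth.Agent.Helper20.Untwist

variable {X : Scheme.{u}}

/-- naturality of the right unitor. -/
lemma rid_nat {A B : X.Modules} (f : A ⟶ B) :
    map f (𝟙 (Coh.structureModule X)) ≫ (rid B).hom = (rid A).hom ≫ f := by
  apply Groth.Agent.Helper13.Tensor.hom_ext
  intro U m r
  change (rid B).hom.app U ((map f (𝟙 (Coh.structureModule X))).app U (tmul A _ m r)) =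
    f.app U ((rid A).hom.app U (tmul A _ m r))
  rw [map_app_tmul, rid_hom_app_tmul, rid_hom_app_tmul, Scheme.Modules.Hom.app_smul]
  rfl

/-- the untwisting isomorphism `(A ⊗ N) ⊗ Q ≅ A` attached to `N ⊗ Q ≅ O`. -/
noncomputable def rho (A N Q : X.Modules) (e : CohB1.tensorMod N Q ≅ Coh.structureModule X) :
    CohB1.tensorMod (CohB1.tensorMod A N) Q ≅ A :=
  assoc A N Q ≪≫ mapIso (Iso.refl A) e ≪≫ rid A

lemma rho_nat {A B : X.Modules} (f : A ⟶ B) (N Q : X.Modules)
    (e : CohB1.tensorMod N Q ≅ Coh.structureModule X) :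
    map (map f (𝟙 N)) (𝟙 Q) ≫ (rho B N Q e).hom = (rho A N Q e).hom ≫ f := by
  have h1 := Groth.Agent.Helper5.CXA.assoc_naturality f (𝟙 N) (𝟙 Q)
  rw [map_id] at h1
  have h2 : map f (𝟙 (CohB1.tensorMod N Q)) ≫ map (𝟙 B) e.hom =
      map (𝟙 A) e.hom ≫ map f (𝟙 (Coh.structureModule X)) := by
    rw [← map_comp, ← map_comp, Category.comp_id, Category.id_comp, Category.comp_id,
      Category.id_comp]
  have h3 := rid_nat f
  change map (map f (𝟙 N)) (𝟙 Q) ≫ ((assoc B N Q).hom ≫ map (𝟙 B) e.hom ≫ (rid B).hom) =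
    ((assoc A N Q).hom ≫ map (𝟙 A) e.hom ≫ (rid A).hom) ≫ f
  rw [← Category.assoc, h1, Category.assoc, ← Category.assoc (map f _), h2, Category.assoc, h3]
  simp only [Category.assoc]

/-- post-composition of the map attached to a global section. -/
lemma homOfSec_comp {M M' : X.Modules} (t : Γ(M, ⊤)) (g : M ⟶ M') :
    homOfSec M t ≫ g = homOfSec M' (g.app ⊤ t) := by
  apply Scheme.Modules.hom_ext
  intro U
  ext c
  have h1 := homOfSec_app M t U (ofO U c)
  have h2 := homOfSec_app M' (g.app ⊤ t) U (ofO U c)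
  refine (congrArg (fun y => g.app U y) h1).trans (Eq.trans ?_ h2.symm)
  rw [Scheme.Modules.Hom.app_smul]
  congr 1
  have := g.mapPresheaf.naturality (homOfLE (le_top : U ≤ ⊤)).op
  exact congrArg (fun ψ => ψ t) this

variable (k : Type u) [Field k] [X.Over (Spec (CommRingCat.of k))]

/-- naturality of `H⁰ ≃ Γ(-, ⊤)`. -/
lemma h0_hstar {M M' : X.Modules} (g : M ⟶ M') (z : Coh.HH X M 0) :
    Groth.Agent.Helper26.HomGlob.h0 M' (hstar k g 0 z) =
      g.app ⊤ (Groth.Agent.Helper26.HomGlob.h0 M z) :=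
  (Sheaf.H.equiv₀_naturality ((SheafOfModules.toSheaf X.ringCatSheaf).map g)
    (hT := (isTerminalTop : IsTerminal (⊤ : Opens X))) z).symm

/-- the map `O ⟶ M` attached to a class in `H⁰(M)`. -/
noncomputable def homOfH0 (M : X.Modules) (z : Coh.HH X M 0) : Coh.structureModule X ⟶ M :=
  homOfSec M (Groth.Agent.Helper26.HomGlob.h0 M z)

lemma homOfH0_comp {M M' : X.Modules} (g : M ⟶ M') (z : Coh.HH X M 0) :
    homOfH0 M z ≫ g = homOfH0 M' (hstar k g 0 z) := by
  unfold homOfH0
  rw [homOfSec_comp, h0_hstar]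

lemma homOfH0_ne_zero (M : X.Modules) (z : Coh.HH X M 0) (hz : z ≠ 0) : homOfH0 M z ≠ 0 := by
  have ht : Groth.Agent.Helper26.HomGlob.h0 M z ≠ 0 := by
    intro h
    apply hz
    apply (Groth.Agent.Helper26.HomGlob.h0 M).injective
    rw [h, map_zero]
  intro hs0
  apply ht
  have h := homOfSec_app_one M (Groth.Agent.Helper26.HomGlob.h0 M z) ⊤
  unfold homOfH0 at hs0
  rw [hs0] at h
  have h2 : M.presheaf.map (homOfLE (le_top : (⊤ : X.Opens) ≤ ⊤)).op
      (Groth.Agent.Helper26.HomGlob.h0 M z) = Groth.Agent.Helper26.HomGlob.h0 M z := by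
    have e : (homOfLE (le_top : (⊤ : X.Opens) ≤ ⊤)).op = 𝟙 _ := rfl
    rw [e, M.presheaf.map_id]
    rfl
  rw [h2] at h
  exact h.symm

end Groth.Agent.Helper20.Untwist
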