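import Mathlib
import Groth.Agent.Lib.Helper20.Untwist
import Groth.Agent.Lib.Helper20.StablePair1
import Groth.Agent.Lib.Helper26.HomVan
import Groth.Agent.Lib.Helper26.CurveDeg
import Groth.Agent.Lib.Helper13.FinProj7

/-!
# Line sub-bundles of a simple bundle of rank two: `2 deg L ≤ deg E + g - 2`
-/

set_option autoImplicit false
set_option maxHeartbeats 1600000
set_option linter.style.haveILetI false
set_option linter.unusedSectionVars false
set_option linter.unusedVariables false
universe u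
open CategoryTheory CategoryTheory.Limits AlgebraicGeometry Opposite TopologicalSpace
open Groth.Agent.Helper20.RankFn Groth.Agent.Helper13 Groth.Agent.Helper13.TwistSES
open Groth.Agent.Helper13.QCoh Groth.Agent.Helper13.FinType Groth.Agent.Helper13.LocFree
open Groth.Agent.Helper20.VBMap Groth.Agent.Helper20.Untwist Groth.Agent.Helper20.StablePair
open Groth.Agent.Helper13.PnFin Groth.Agent.Helper24.LinLES

namespace Groth.Agent.Helper20.SimpleSub

section Scalar

variable (k : Type u) [Field k] {X : Scheme.{u}} [X.Over (Spec (CommRingCat.of k))]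

/-- an endomorphism of a simple module is a scalar. -/
lemma simple_scalar (E : X.Modules)
    (hsimple : ∀ φ : E ⟶ E, ∃ c : k, (SheafOfModules.toSheaf X.ringCatSheaf).map φ =
      Coh.smulAb E (Coh.toGlobal (X ↘ Spec (CommRingCat.of k)) c)) (e : E ⟶ E) :
    ∃ c : k, e = c • 𝟙 E := by
  obtain ⟨c, hc⟩ := hsimple e
  refine ⟨c, ?_⟩
  apply (SheafOfModules.toSheaf X.ringCatSheaf).map_injective
  rw [hc, VBIndec.toSheaf_map_smul_id]

lemma smul_id_eq_zero (E : X.Modules) (hE : ¬ IsZero E) (a : k) (h : a • 𝟙 E = 0) : a = 0 := by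
  by_contra ha
  apply hE
  rw [IsZero.iff_id_eq_zero]
  have h1 : a⁻¹ • (a • 𝟙 E) = 0 := by rw [h, smul_zero]
  rwa [smul_smul, inv_mul_cancel₀ ha, one_smul] at h1

lemma smul_id_comp (E : X.Modules) (a b : k) :
    (a • 𝟙 E) ≫ (b • 𝟙 E) = (a * b) • 𝟙 E := by
  rw [Linear.smul_comp, Linear.comp_smul, Category.comp_id, smul_smul]

lemma eq_zero_of_sq_zero_of_simple (E : X.Modules) (hE : ¬ IsZero E)
    (hsimple : ∀ φ : E ⟶ E, ∃ c : k, (SheafOfModules.toSheaf X.ringCatSheaf).map φ =
      Coh.smulAb E (Coh.toGlobal (X ↘ Spec (CommRingCat.of k)) c)) (e : E ⟶ E)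
    (he : e ≫ e = 0) : e = 0 := by
  obtain ⟨c, rfl⟩ := simple_scalar k E hsimple e
  rw [smul_id_comp] at he
  have h1 := smul_id_eq_zero k E hE (c * c) he
  have hc : c = 0 := mul_self_eq_zero.1 h1
  rw [hc, zero_smul]

lemma idem_of_simple (E : X.Modules) (hE : ¬ IsZero E)
    (hsimple : ∀ φ : E ⟶ E, ∃ c : k, (SheafOfModules.toSheaf X.ringCatSheaf).map φ =
      Coh.smulAb E (Coh.toGlobal (X ↘ Spec (CommRingCat.of k)) c)) (e : E ⟶ E)
    (he : e ≫ e = e) : e = 0 ∨ e = 𝟙 E := by
  obtain ⟨c, rfl⟩ := simple_scalar k E hsimple e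
  rw [smul_id_comp] at he
  have h1 : (c * c - c) • 𝟙 E = 0 := by rw [sub_smul, he, sub_self]
  have h2 := smul_id_eq_zero k E hE _ h1
  have h3 : c * (c - 1) = 0 := by rw [mul_sub, mul_one]; exact h2
  rcases mul_eq_zero.1 h3 with h | h
  · left; rw [h, zero_smul]
  · right
    have : c = 1 := by linear_combination h
    rw [this, one_smul]

end Scalar

section Curve

variable (k : Type u) [Field k] {X : Scheme.{u}} [X.Over (Spec (CommRingCat.of k))] [IsIntegral X]
  [IsProper (X ↘ Spec (CommRingCat.of k))] [Smooth (X ↘ Spec (CommRingCat.of k))]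

/-- `χ = h⁰ - h¹` on a curve. -/
lemma euler_eq (hdim : topologicalKrullDim X = 1) (F : X.Modules) [F.IsQuasicoherent] :
    Curv2.euler k X F = (Module.finrank k (Coh.HH X F 0) : ℤ) -
      (Module.finrank k (Coh.HH X F 1) : ℤ) := by
  haveI : IsLocallyNoetherian (Spec (CommRingCat.of k)) := inferInstance
  haveI : IsLocallyNoetherian X :=
    LocallyOfFiniteType.isLocallyNoetherian (X ↘ Spec (CommRingCat.of k))
  haveI : CompactSpace X :=
    QuasiCompact.compactSpace_of_compactSpace (X ↘ Spec (CommRingCat.of k))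
  haveI : IsNoetherian X := {}
  rw [Groth.Agent.Helper13.EulerAdd.euler_eq_sum k F 2 (fun p hp =>
    Groth.Agent.Helper13.CurveGen.HH_subsingleton_of_two_le (X ↘ Spec (CommRingCat.of k))
      hdim.le F p hp)]
  rw [Finset.sum_range_succ, Finset.sum_range_one]
  simp only [pow_zero, one_mul, pow_one]
  ring

end Curve

end Groth.Agent.Helper20.SimpleSub
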