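import Mathlib
import Groth.Agent.Lib.Helper20.SimpleSub

/-!
# An extension `0 → L → E → Q → 0` with `Q` invertible and `H¹(L ⊗ Q⁻¹) = 0` splits
-/

set_option autoImplicit false
set_option maxHeartbeats 1600000
set_option linter.style.haveILetI false
set_option linter.unusedSectionVars false
set_option linter.unusedVariables false
universe u
open CategoryTheory CategoryTheory.Limits AlgebraicGeometry Opposite TopologicalSpace
open Groth.Agent.Helper20.RankFn Groth.Agent.Helper13 Groth.Agent.Helper13.TwistSES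
open Groth.Agent.Helper13.QCoh Groth.Agent.Helper13.FinType Groth.Agent.Helper13.LocFree
open Groth.Agent.Helper20.VBMap Groth.Agent.Helper20.Untwist Groth.Agent.Helper20.StablePair
open Groth.Agent.Helper13.PnFin Groth.Agent.Helper24.LinLES

namespace Groth.Agent.Helper20.SplitH1

variable (k : Type u) [Field k] {X : Scheme.{u}} [X.Over (Spec (CommRingCat.of k))] [IsIntegral X]
  [IsProper (X ↘ Spec (CommRingCat.of k))] [Smooth (X ↘ Spec (CommRingCat.of k))]

include k in
theorem exists_section (hdim : topologicalKrullDim X = 1)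
    (E : X.Modules) (L : X.Modules) (i : L ⟶ E) [Mono i]
    (hq : PicF.IsInvertible (cokernel i))
    (N : X.Modules) (hN' : PicF.IsInvertible N)
    (eQN : CohB1.tensorMod (cokernel i) N ≅ Coh.structureModule X)
    (eNQ : CohB1.tensorMod N (cokernel i) ≅ Coh.structureModule X)
    (hsub : Subsingleton (Coh.HH X (CohB1.tensorMod L N) 1)) :
    ∃ σ' : cokernel i ⟶ E, σ' ≫ cokernel.π i = 𝟙 _ := by
  have hN : IsLocallyNoetherian X := isLocallyNoetherian_of_proper k
  haveI : IsNoetherianRing k := inferInstance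
  have hO1 : FlatMod.IsFinLocFreeOfRank 1 (Coh.structureModule X) :=
    Groth.Agent.Helper26.IntLF.isFinLocFreeOfRank_one_of_isInvertible _
      (Groth.Agent.Helper13.Inv.isInvertible_structureModule (X := X))
  let S : ShortComplex X.Modules := ShortComplex.mk i (cokernel.π i) (cokernel.condition i)
  have hS : S.ShortExact :=
    ShortComplex.ShortExact.mk' (ShortComplex.exact_cokernel i)
      (inferInstanceAs (Mono i)) (inferInstanceAs (Epi (cokernel.π i)))
  have hT := tensorSC_shortExact S hS N hN'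
  have hfin : Module.finrank k (Coh.HH X (CohB1.tensorMod (cokernel i) N) 0) =
      Module.finrank k (Coh.HH X (Coh.structureModule X) 0) :=
    Groth.Agent.Helper26.HomVan.finrank_HH_of_iso k eQN 0
  have hpos := Groth.Agent.Helper26.CurveDeg.h0_structure_pos k X
  obtain ⟨y, hy⟩ : ∃ y : Coh.HH X (CohB1.tensorMod (cokernel i) N) 0, y ≠ 0 := by
    by_contra hall
    push Not at hall
    haveI : Subsingleton (Coh.HH X (CohB1.tensorMod (cokernel i) N) 0) :=
      ⟨fun a b => by rw [hall a, hall b]⟩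
    rw [Module.finrank_zero_of_subsingleton] at hfin
    omega
  haveI : Subsingleton (Coh.HH X (tensorSC S N).X₁ 1) := hsub
  have hrange := range_g_eq_ker_δ k (tensorSC S N) hT 0 1 rfl
  have hex : ∀ y' : Coh.HH X (tensorSC S N).X₃ 0,
      ∃ z' : Coh.HH X (tensorSC S N).X₂ 0, hstar k (tensorSC S N).g 0 z' = y' := by
    intro y'
    have hy' : y' ∈ LinearMap.range (hstar k (tensorSC S N).g 0) := by
      rw [hrange]
      exact LinearMap.mem_ker.2 (Subsingleton.elim _ _)
    exact hy'
  obtain ⟨z, hz⟩ : ∃ z : Coh.HH X (CohB1.tensorMod E N) 0,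
      hstar k (Tensor.map (cokernel.π i) (𝟙 N)) 0 z = y := hex y
  have hw : homOfH0 (CohB1.tensorMod E N) z ≫ Tensor.map (cokernel.π i) (𝟙 N) =
      homOfH0 _ y :=
    (homOfH0_comp k (Tensor.map (cokernel.π i) (𝟙 N)) z).trans
      (congrArg (homOfH0 (CohB1.tensorMod (cokernel i) N)) hz)
  have hw0 : homOfH0 (CohB1.tensorMod E N) z ≫ Tensor.map (cokernel.π i) (𝟙 N) ≠ 0 := by
    rw [hw]
    exact homOfH0_ne_zero _ y hy
  have hQN1 : FlatMod.IsFinLocFreeOfRank 1 (CohB1.tensorMod (cokernel i) N) :=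
    isFinLocFreeOfRank_of_iso eQN.symm hO1
  have hQNc : Coh.IsCoh (CohB1.tensorMod (cokernel i) N) :=
    Groth.Agent.Helper9.ResVan.isCoh_of_isFinLocFree _ (VBIndec.isFinLocFree_of_rank 1 _ hQN1)
  have hdQN : Curv2.deg k X (Coh.structureModule X) 1 =
      Curv2.deg k X (CohB1.tensorMod (cokernel i) N) 1 := deg_eq_of_iso k eQN hQNc 1
  haveI hwiso : IsIso (homOfH0 (CohB1.tensorMod E N) z ≫ Tensor.map (cokernel.π i) (𝟙 N)) :=
    isIso_of_ne_zero_of_deg_eq k hdim hO1 hQN1 hdQN _ hw0
  obtain ⟨σ, hσ⟩ : ∃ σ : cokernel i ⟶ E, σ = (Tensor.lid (cokernel i)).inv ≫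
      Tensor.map (homOfH0 (CohB1.tensorMod E N) z) (𝟙 (cokernel i)) ≫
        (rho E N (cokernel i) eNQ).hom := ⟨_, rfl⟩
  have hσπ : σ ≫ cokernel.π i = (Tensor.lid (cokernel i)).inv ≫
      Tensor.map (homOfH0 (CohB1.tensorMod E N) z ≫ Tensor.map (cokernel.π i) (𝟙 N))
        (𝟙 (cokernel i)) ≫ (rho (cokernel i) N (cokernel i) eNQ).hom := by
    have e1 : Tensor.map (homOfH0 (CohB1.tensorMod E N) z ≫
        Tensor.map (cokernel.π i) (𝟙 N)) (𝟙 (cokernel i)) =
        Tensor.map (homOfH0 (CohB1.tensorMod E N) z) (𝟙 (cokernel i)) ≫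
          Tensor.map (Tensor.map (cokernel.π i) (𝟙 N)) (𝟙 (cokernel i)) := by
      rw [← Tensor.map_comp, Category.comp_id]
    rw [hσ, e1]
    simp only [Category.assoc]
    rw [rho_nat (cokernel.π i) N (cokernel i) eNQ]
  haveI : IsIso (Tensor.map (homOfH0 (CohB1.tensorMod E N) z ≫
      Tensor.map (cokernel.π i) (𝟙 N)) (𝟙 (cokernel i))) :=
    (Tensor.mapIso (asIso (homOfH0 (CohB1.tensorMod E N) z ≫
      Tensor.map (cokernel.π i) (𝟙 N))) (Iso.refl (cokernel i))).isIso_hom
  haveI hiso : IsIso (σ ≫ cokernel.π i) := by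
    rw [hσπ]
    infer_instance
  exact ⟨inv (σ ≫ cokernel.π i) ≫ σ, by rw [Category.assoc, IsIso.inv_hom_id]⟩

include k in
/-- the splitting as a biproduct decomposition. -/
theorem nonempty_iso_biprod (hdim : topologicalKrullDim X = 1)
    (E : X.Modules) (L : X.Modules) (i : L ⟶ E) [Mono i]
    (hq : PicF.IsInvertible (cokernel i))
    (N : X.Modules) (hN' : PicF.IsInvertible N)
    (eQN : CohB1.tensorMod (cokernel i) N ≅ Coh.structureModule X)
    (eNQ : CohB1.tensorMod N (cokernel i) ≅ Coh.structureModule X)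
    (hsub : Subsingleton (Coh.HH X (CohB1.tensorMod L N) 1)) :
    Nonempty (E ≅ L ⊞ cokernel i) := by
  obtain ⟨σ, hσ⟩ := exists_section k hdim E L i hq N hN' eQN eNQ hsub
  let S : ShortComplex X.Modules := ShortComplex.mk i (cokernel.π i) (cokernel.condition i)
  have hS : S.Exact := ShortComplex.exact_cokernel i
  haveI : Mono S.f := inferInstanceAs (Mono i)
  let sp : S.Splitting := ShortComplex.Splitting.ofExactOfSection S hS σ hσ (inferInstanceAs (Mono i))
  exact ⟨sp.isoBinaryBiproduct⟩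

end Groth.Agent.Helper20.SplitH1
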