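import Mathlib
import Groth.Agent.Lib.Helper20.SplitH1
import Groth.Agent.Lib.Helper3.CurveHopf

/-!
# Line sub-bundles of an indecomposable bundle of rank two: the upper bound
-/

set_option autoImplicit false
set_option maxHeartbeats 1600000
set_option linter.style.haveILetI false
set_option linter.unusedSectionVars false
set_option linter.unusedVariables false
universe u
open CategoryTheory CategoryTheory.Limits AlgebraicGeometry Opposite TopologicalSpace
open Groth.Agent.Helper20.RankFn Groth.Agent.Helper13 Groth.Agent.Helper13.TwistSES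
open Groth.Agent.Helper13.QCoh Groth.Agent.Helper13.FinType Groth.Agent.Helper13.LocFree
open Groth.Agent.Helper20.VBMap Groth.Agent.Helper20.Untwist Groth.Agent.Helper20.StablePair
open Groth.Agent.Helper13.PnFin Groth.Agent.Helper24.LinLES

namespace Groth.Agent.Helper20.IndecSub

variable (k : Type u) [Field k] {X : Scheme.{u}} [X.Over (Spec (CommRingCat.of k))] [IsIntegral X]
  [IsProper (X ↘ Spec (CommRingCat.of k))] [Smooth (X ↘ Spec (CommRingCat.of k))]

/-- an extension of an invertible module `Q` by an invertible module `J` with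
`deg J - deg Q ≥ 2g - 1` splits. -/
theorem nonempty_iso_biprod_of_deg [IsAlgClosed k] (hdim : topologicalKrullDim X = 1)
    (E : X.Modules) (J : X.Modules) (hJ : PicF.IsInvertible J) (j : J ⟶ E) [Mono j]
    (hq : PicF.IsInvertible (cokernel j))
    (hdeg : 2 * (Curv2.genus k X : ℤ) - 1 ≤
      Curv2.deg k X J 1 - Curv2.deg k X (cokernel j) 1) :
    Nonempty (E ≅ J ⊞ cokernel j) := by
  have hJ1 := Groth.Agent.Helper26.IntLF.isFinLocFreeOfRank_one_of_isInvertible J hJ
  obtain ⟨N, hN', ⟨eQN⟩, ⟨eNQ⟩⟩ := Groth.Agent.Helper13.InvDual.exists_inverse (cokernel j) hq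
  have hN1 := Groth.Agent.Helper26.IntLF.isFinLocFreeOfRank_one_of_isInvertible N hN'
  have hP1 : FlatMod.IsFinLocFreeOfRank 1 (CohB1.tensorMod J N) := by
    have := Groth.Agent.Helper26.HiggsSS.isFinLocFreeOfRank_tensorMod J N 1 1 hJ1 hN1
    simpa using this
  have hPinv : PicF.IsInvertible (CohB1.tensorMod J N) :=
    Groth.Agent.Helper26.NefExt.isInvertible_of_rank_one _ hP1
  have hdP : Curv2.deg k X (CohB1.tensorMod J N) 1 =
      Curv2.deg k X J 1 - Curv2.deg k X (cokernel j) 1 := by
    have h := Groth.Agent.Helper26.DegTensor.deg_tensor k X hdim.le J N 1 1 hJ1 hN1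
    have h2 := Groth.Agent.Helper26.HiggsSS.deg_inverse k hdim (cokernel j) N hq hN' eQN
    simp only [Nat.mul_one, Nat.cast_one, one_mul] at h
    rw [h, h2]
    ring
  have hsub : Subsingleton (Coh.HH X (CohB1.tensorMod J N) 1) :=
    Groth.Agent.Helper3.CurveHopf.main1522 k X hdim _ hPinv (by rw [hdP]; exact hdeg)
  exact Groth.Agent.Helper20.SplitH1.nonempty_iso_biprod k hdim E J j hq N hN' eQN eNQ hsub

/-- part (a): upper bound for invertible subsheaves of an indecomposable bundle of rank two. -/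
theorem two_deg_le_of_indec [IsAlgClosed k] (hdim : topologicalKrullDim X = 1)
    (E : X.Modules) (hE : FlatMod.IsFinLocFreeOfRank 2 E)
    (hind : ∀ (E₁ E₂ : X.Modules), Nonempty (E ≅ E₁ ⊞ E₂) → IsZero E₁ ∨ IsZero E₂)
    (L : X.Modules) (ι : L ⟶ E) (hL : PicF.IsInvertible L) [Mono ι] :
    2 * Curv2.deg k X L 1 ≤ Curv2.deg k X E 2 + 2 * (Curv2.genus k X : ℤ) - 2 := by
  have hL1 := Groth.Agent.Helper26.IntLF.isFinLocFreeOfRank_one_of_isInvertible L hL
  obtain ⟨J, a, j, rQ, hjm, haj, hJ1, hQr, hr, hdE, hle, -, -⟩ := sat_pkg k hdim 1 2 hL1 hE ι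
  have hrQ : rQ = 1 := by omega
  subst hrQ
  haveI : Mono j := hjm
  have hJinv : PicF.IsInvertible J := Groth.Agent.Helper26.NefExt.isInvertible_of_rank_one _ hJ1
  have hQinv : PicF.IsInvertible (cokernel j) :=
    Groth.Agent.Helper26.NefExt.isInvertible_of_rank_one _ hQr
  by_contra hlt
  push Not at hlt
  have hdeg : 2 * (Curv2.genus k X : ℤ) - 1 ≤
      Curv2.deg k X J 1 - Curv2.deg k X (cokernel j) 1 := by
    linarith
  obtain ⟨φ⟩ := nonempty_iso_biprod_of_deg k hdim E J hJinv j hQinv hdeg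
  rcases hind J (cokernel j) ⟨φ⟩ with h | h
  · exact VBIndec.not_isZero_of_isFinLocFreeOfRank 1 one_pos J hJ1 h
  · exact VBIndec.not_isZero_of_isFinLocFreeOfRank 1 one_pos _ hQr h

end Groth.Agent.Helper20.IndecSub
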