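import Mathlib
import Groth.Agent.Lib.Helper20.IndecSub1
import Groth.Agent.Lib.Helper24.PtDeg
import Groth.Agent.Lib.Helper3.CurveHopf2

/-!
# Line bundles of every degree, and a line sub-bundle of large degree in a bundle of rank two
-/

set_option autoImplicit false
set_option maxHeartbeats 1600000
set_option linter.style.haveILetI false
set_option linter.unusedSectionVars false
set_option linter.unusedVariables false
universe u
open CategoryTheory CategoryTheory.Limits AlgebraicGeometry Opposite TopologicalSpace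
open Groth.Agent.Helper20.RankFn Groth.Agent.Helper13 Groth.Agent.Helper13.TwistSES
open Groth.Agent.Helper13.QCoh Groth.Agent.Helper13.FinType Groth.Agent.Helper13.LocFree
open Groth.Agent.Helper20.VBMap Groth.Agent.Helper20.Untwist Groth.Agent.Helper20.StablePair
open Groth.Agent.Helper13.PnFin Groth.Agent.Helper24.LinLES

namespace Groth.Agent.Helper20.IndecSub

variable (k : Type u) [Field k] {X : Scheme.{u}} [X.Over (Spec (CommRingCat.of k))] [IsIntegral X]
  [IsProper (X ↘ Spec (CommRingCat.of k))] [Smooth (X ↘ Spec (CommRingCat.of k))]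

/-- the ideal sheaf of a closed point on a smooth proper curve over an algebraically closed field
is invertible of degree `-1`. -/
theorem exists_invertible_deg_neg_one [IsAlgClosed k] (hdim : topologicalKrullDim X = 1) :
    ∃ I : X.Modules, PicF.IsInvertible I ∧ Curv2.deg k X I 1 = -1 := by
  have hN : IsLocallyNoetherian X := isLocallyNoetherian_of_proper k
  haveI : CompactSpace X :=
    QuasiCompact.compactSpace_of_compactSpace (X ↘ Spec (CommRingCat.of k))
  obtain ⟨P, -, hP⟩ := IsClosed.exists_closed_singleton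
    (isClosed_univ : IsClosed (Set.univ : Set X)) Set.univ_nonempty
  let I : X.IdealSheafData :=
    Scheme.IdealSheafData.vanishingIdeal (⟨{P}, hP⟩ : TopologicalSpace.Closeds X)
  have hIc : Coh.IsCoh (ClSub.idealMod I) := Groth.Agent.Helper24.PtIdeal.isCoh_idealMod I
  haveI : Mono (ClSub.idealModι I) := inferInstanceAs (Mono (kernel.ι (ClSub.toSubscheme I)))
  have hO1 : FlatMod.IsFinLocFreeOfRank 1 (Coh.structureModule X) :=
    Groth.Agent.Helper26.IntLF.isFinLocFreeOfRank_one_of_isInvertible _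
      (Groth.Agent.Helper13.Inv.isInvertible_structureModule (X := X))
  have hIf : FlatMod.IsFinLocFree (ClSub.idealMod I) :=
    isFinLocFree_of_mono (hreg_of_smooth k) hdim.le hIc (VBIndec.isFinLocFree_of_rank 1 _ hO1)
      (ClSub.idealModι I)
  have hη : genericPoint X ∉ (I.support : Set X) := by
    rw [Scheme.IdealSheafData.coe_support_vanishingIdeal]
    intro hmem
    have heq : genericPoint X = P := Set.mem_singleton_iff.1 hmem
    have h1 : ({P} : Set X) = Set.univ := by
      rw [← hP.closure_eq, ← heq]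
      exact genericPoint_spec X
    haveI : Subsingleton X := by
      refine ⟨fun a b => ?_⟩
      have ha : a ∈ ({P} : Set X) := h1 ▸ Set.mem_univ a
      have hb : b ∈ ({P} : Set X) := h1 ▸ Set.mem_univ b
      rw [Set.mem_singleton_iff.1 ha, Set.mem_singleton_iff.1 hb]
    have h2 := Groth.Agent.Helper24.PtIdeal.topologicalKrullDim_le_zero_of_subsingleton X
    rw [hdim] at h2
    exact lt_irrefl _ (lt_of_lt_of_le zero_lt_one h2)
  have hrk : rk (ClSub.idealMod I) (genericPoint X) = 1 :=
    Groth.Agent.Helper24.PtDeg.finrank_stalk_idealMod I _ hη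
  have hI1 : FlatMod.IsFinLocFreeOfRank 1 (ClSub.idealMod I) := by
    have := isFinLocFreeOfRank_of_preconnected (ClSub.idealMod I) hIf (genericPoint X)
    rwa [hrk] at this
  exact ⟨_, Groth.Agent.Helper26.NefExt.isInvertible_of_rank_one _ hI1,
    Groth.Agent.Helper24.PtDeg.deg_idealMod_point k X P hP⟩

include k in
lemma tensor_invertible (hdim : topologicalKrullDim X = 1) (M A : X.Modules)
    (hM : PicF.IsInvertible M) (hA : PicF.IsInvertible A) :
    PicF.IsInvertible (CohB1.tensorMod M A) ∧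
      Curv2.deg k X (CohB1.tensorMod M A) 1 = Curv2.deg k X M 1 + Curv2.deg k X A 1 := by
  have hM1 := Groth.Agent.Helper26.IntLF.isFinLocFreeOfRank_one_of_isInvertible M hM
  have hA1 := Groth.Agent.Helper26.IntLF.isFinLocFreeOfRank_one_of_isInvertible A hA
  have hP1 : FlatMod.IsFinLocFreeOfRank 1 (CohB1.tensorMod M A) := by
    have := Groth.Agent.Helper26.HiggsSS.isFinLocFreeOfRank_tensorMod M A 1 1 hM1 hA1
    simpa using this
  refine ⟨Groth.Agent.Helper26.NefExt.isInvertible_of_rank_one _ hP1, ?_⟩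
  have h := Groth.Agent.Helper26.DegTensor.deg_tensor k X hdim.le M A 1 1 hM1 hA1
  simp only [Nat.mul_one, Nat.cast_one, one_mul] at h
  exact h

/-- invertible modules of every degree. -/
theorem exists_invertible_of_deg [IsAlgClosed k] (hdim : topologicalKrullDim X = 1) (m : ℤ) :
    ∃ M : X.Modules, PicF.IsInvertible M ∧ Curv2.deg k X M 1 = m := by
  obtain ⟨I, hI, hdI⟩ := exists_invertible_deg_neg_one k hdim
  obtain ⟨D, hD, ⟨eID⟩, -⟩ := Groth.Agent.Helper13.InvDual.exists_inverse I hI
  have hdD : Curv2.deg k X D 1 = 1 := by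
    rw [Groth.Agent.Helper26.HiggsSS.deg_inverse k hdim I D hI hD eID, hdI]
    norm_num
  induction m using Int.induction_on with
  | zero =>
    refine ⟨Coh.structureModule X, Groth.Agent.Helper13.Inv.isInvertible_structureModule, ?_⟩
    unfold Curv2.deg
    simp
  | succ n ih =>
    obtain ⟨M, hM, hd⟩ := ih
    obtain ⟨h1, h2⟩ := tensor_invertible k hdim M D hM hD
    exact ⟨_, h1, by rw [h2, hd, hdD]⟩
  | pred n ih =>
    obtain ⟨M, hM, hd⟩ := ih
    obtain ⟨h1, h2⟩ := tensor_invertible k hdim M I hM hI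
    exact ⟨_, h1, by rw [h2, hd, hdI]; ring⟩

/-- part (b): a bundle of rank two has an invertible subsheaf of degree at least `(d - 2g)/2`. -/
theorem exists_invertible_sub [IsAlgClosed k] (hdim : topologicalKrullDim X = 1)
    (E : X.Modules) (hE : FlatMod.IsFinLocFreeOfRank 2 E) :
    ∃ (L : X.Modules) (ι : L ⟶ E), PicF.IsInvertible L ∧ Mono ι ∧
      Curv2.deg k X E 2 - 2 * (Curv2.genus k X : ℤ) ≤ 2 * Curv2.deg k X L 1 := by
  have hN : IsLocallyNoetherian X := isLocallyNoetherian_of_proper k
  haveI : IsNoetherianRing k := inferInstance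
  obtain ⟨M, hM, hdM⟩ := exists_invertible_of_deg k hdim
    ((Curv2.deg k X E 2 - 2 * (Curv2.genus k X : ℤ) + 1) / 2)
  obtain ⟨Mi, hMi, ⟨eMMi⟩, ⟨eMiM⟩⟩ := Groth.Agent.Helper13.InvDual.exists_inverse M hM
  have hdMi : Curv2.deg k X Mi 1 = - Curv2.deg k X M 1 :=
    Groth.Agent.Helper26.HiggsSS.deg_inverse k hdim M Mi hM hMi eMMi
  have hMi1 := Groth.Agent.Helper26.IntLF.isFinLocFreeOfRank_one_of_isInvertible Mi hMi
  have hO1 : FlatMod.IsFinLocFreeOfRank 1 (Coh.structureModule X) :=
    Groth.Agent.Helper26.IntLF.isFinLocFreeOfRank_one_of_isInvertible _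
      (Groth.Agent.Helper13.Inv.isInvertible_structureModule (X := X))
  have hF2 : FlatMod.IsFinLocFreeOfRank 2 (CohB1.tensorMod E Mi) := by
    have := Groth.Agent.Helper26.HiggsSS.isFinLocFreeOfRank_tensorMod E Mi 2 1 hE hMi1
    simpa using this
  have hdF : Curv2.deg k X (CohB1.tensorMod E Mi) 2 =
      Curv2.deg k X E 2 + 2 * Curv2.deg k X Mi 1 := by
    have h := Groth.Agent.Helper26.DegTensor.deg_tensor k X hdim.le E Mi 2 1 hE hMi1
    simp only [Nat.mul_one, Nat.cast_one, one_mul, Nat.cast_ofNat] at h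
    exact h
  have hFl : FlatMod.IsFinLocFree (CohB1.tensorMod E Mi) := VBIndec.isFinLocFree_of_rank 2 _ hF2
  have hFc : Coh.IsCoh (CohB1.tensorMod E Mi) :=
    Groth.Agent.Helper9.ResVan.isCoh_of_isFinLocFree _ hFl
  haveI : (CohB1.tensorMod E Mi).IsQuasicoherent := hFc.1
  have hle := Groth.Agent.Helper26.CurveDeg.euler_le_h0 k X hdim.le (CohB1.tensorMod E Mi)
  have hO := Groth.Agent.Helper26.CurveDeg.euler_structure k X hdim.le
  have h0 := Groth.Agent.Helper3.CurveHopf.finrank_h0_of_isAlgClosed k X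
  have hdef : Curv2.deg k X (CohB1.tensorMod E Mi) 2 =
      Curv2.euler k X (CohB1.tensorMod E Mi) - 2 * Curv2.euler k X (Coh.structureModule X) := by
    unfold Curv2.deg
    simp
  rw [h0] at hO
  have hpos : (0 : ℤ) < (Module.finrank k (Coh.HH X (CohB1.tensorMod E Mi) 0) : ℤ) := by
    have : Curv2.euler k X (CohB1.tensorMod E Mi) =
        Curv2.deg k X E 2 - 2 * Curv2.deg k X M 1 + 2 * (1 - (Curv2.genus k X : ℤ)) := by
      rw [hdMi] at hdF
      push_cast at hO
      linarith
    rw [hdM] at this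
    have h3 : 0 < Curv2.euler k X (CohB1.tensorMod E Mi) := by
      rw [this]
      omega
    linarith
  obtain ⟨z, hz⟩ : ∃ z : Coh.HH X (CohB1.tensorMod E Mi) 0, z ≠ 0 := by
    by_contra hall
    push Not at hall
    haveI : Subsingleton (Coh.HH X (CohB1.tensorMod E Mi) 0) :=
      ⟨fun a b => by rw [hall a, hall b]⟩
    rw [Module.finrank_zero_of_subsingleton] at hpos
    exact lt_irrefl _ hpos
  have hs := homOfH0_ne_zero (CohB1.tensorMod E Mi) z hz
  haveI : Mono (homOfH0 (CohB1.tensorMod E Mi) z) :=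
    Groth.Agent.Helper20.VeryStable.mono_of_ne_zero_of_rank_one k hdim hO1 hFl _ hs
  haveI : Mono (Tensor.map (homOfH0 (CohB1.tensorMod E Mi) z) (𝟙 M)) := mono_map_id _ M hM
  refine ⟨M, (Tensor.lid M).inv ≫ Tensor.map (homOfH0 (CohB1.tensorMod E Mi) z) (𝟙 M) ≫
    (rho E Mi M eMiM).hom, hM, inferInstance, ?_⟩
  rw [hdM]
  omega

end Groth.Agent.Helper20.IndecSub
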