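import Mathlib
import Groth.Prelude.Def_W4c1chowmix47Eta

namespace Groth.Agent.Helper20.EtaBase

open EtaPt

universe u

variable (η : FieldEndo.{u})

section Fields

variable {K L : Type u} [Field K] [Field L]

theorem map_injective (f : K →+* L) : Function.Injective (η.map f) := (η.map f).injective

/-- Two ring homomorphisms out of `F K` into a reduced ring of the same exponential characteristic
which agree on the image of `η_K` are equal. -/
theorem hom_ext_of_eta {S : Type u} [CommRing S] [IsReduced S] (φ ψ : η.obj K →+* S)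
    (h : φ.comp (η.eta K) = ψ.comp (η.eta K)) : φ = ψ := by
  haveI : ExpChar (η.obj K) (ringExpChar K) :=
    expChar_of_injective_ringHom (η.eta K).injective (ringExpChar K)
  by_cases hS : Nontrivial S
  · haveI : ExpChar S (ringExpChar K) :=
      expChar_of_injective_ringHom (φ.injective) (ringExpChar K)
    ext x
    obtain ⟨n, k, hk⟩ := η.exists_pow_mem_range_eta K x
    apply iterateFrobenius_inj S (ringExpChar K) n
    rw [iterateFrobenius_def, iterateFrobenius_def, ← map_pow, ← map_pow, ← hk]
    exact DFunLike.congr_fun h k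
  · rw [not_nontrivial_iff_subsingleton] at hS
    ext x
    exact Subsingleton.elim _ _

/-- `η` at `F K` is `F(η_K)`. -/
theorem eta_obj : η.eta (η.obj K) = η.map (η.eta K) := by
  apply hom_ext_of_eta
  exact (η.eta_natural (η.eta K)).symm

theorem bijective_eta_obj : Function.Bijective (η.eta (η.obj K)) := by
  rw [eta_obj]
  exact η.bijective_map_eta K

theorem map_ringEquiv_bijective (e : K ≃+* L) : Function.Bijective (η.map (e : K →+* L)) := by
  have h1 : (η.map (e.symm : L →+* K)).comp (η.map (e : K →+* L)) = RingHom.id _ := by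
    rw [← η.map_comp, ← η.map_id]
    congr 1
    ext x
    simp
  have h2 : (η.map (e : K →+* L)).comp (η.map (e.symm : L →+* K)) = RingHom.id _ := by
    rw [← η.map_comp, ← η.map_id]
    congr 1
    ext x
    simp
  refine ⟨(η.map _).injective, fun y => ⟨η.map (e.symm : L →+* K) y, ?_⟩⟩
  exact DFunLike.congr_fun h2 y

theorem bijective_eta_of_ringEquiv (e : K ≃+* L) (h : Function.Bijective (η.eta K)) :
    Function.Bijective (η.eta L) := by
  have hnat := η.eta_natural (e : K →+* L)
  have h1 : (η.eta L : L → η.obj L) = (η.map (e : K →+* L)) ∘ (η.eta K) ∘ e.symm := by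
    funext y
    have := DFunLike.congr_fun hnat (e.symm y)
    simp only [RingHom.comp_apply, RingHom.coe_coe, RingEquiv.apply_symm_apply] at this
    simp only [Function.comp_apply]
    exact this.symm
  rw [h1]
  exact (map_ringEquiv_bijective η e).comp (h.comp e.symm.bijective)

end Fields

section InV

variable (R : Type u) [CommRing R] [IsDomain R]

theorem inV_iff (K : Type u) [Field K] [Algebra R K] [IsFractionRing R K] :
    η.InV R ↔ Function.Bijective (η.eta K) := by
  let e : FractionRing R ≃+* K := (FractionRing.algEquiv R K).toRingEquiv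
  exact ⟨bijective_eta_of_ringEquiv η e, bijective_eta_of_ringEquiv η e.symm⟩

end InV

section Points

variable {A B : Type u} [CommRing A] [CommRing B] {L L' : Type u} [Field L] [Field L']

/-- the point of `Spec A` defined by a ring map to a field -/
def pt (φ : A →+* L) : PrimeSpectrum A := ⟨RingHom.ker φ, RingHom.ker_isPrime φ⟩

theorem pt_asIdeal (φ : A →+* L) : (pt φ).asIdeal = RingHom.ker φ := rfl

/-- the map from the residue field at a prime `p` to a field `L` induced by `φ : A → L` with
kernel `p` -/
noncomputable def resLift (p : PrimeSpectrum A) (φ : A →+* L) (h : RingHom.ker φ = p.asIdeal) :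
    p.asIdeal.ResidueField →+* L :=
  Ideal.ResidueField.lift p.asIdeal φ (le_of_eq h.symm) (by
    intro a ha
    simp only [Submonoid.mem_comap, IsUnit.mem_submonoid_iff, isUnit_iff_ne_zero, ne_eq]
    intro h0
    apply ha
    rw [← h]
    exact h0)

@[simp]
theorem resLift_algebraMap (p : PrimeSpectrum A) (φ : A →+* L) (h : RingHom.ker φ = p.asIdeal) (a : A) :
    resLift p φ h (algebraMap A p.asIdeal.ResidueField a) = φ a :=
  Ideal.ResidueField.lift_algebraMap _ _ _ _ _

theorem resLift_comp_algebraMap (p : PrimeSpectrum A) (φ : A →+* L) (h : RingHom.ker φ = p.asIdeal) :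
    (resLift p φ h).comp (algebraMap A p.asIdeal.ResidueField) = φ := by
  ext a; simp

/-- evaluation of an element of `N A` at a field-valued point of `A` -/
noncomputable def ev (φ : A →+* L) : η.N A →+* η.obj L :=
  (η.map (resLift (pt φ) φ rfl)).comp
    (Pi.evalRingHom (fun p : PrimeSpectrum A => η.obj p.asIdeal.ResidueField) (pt φ))

theorem ev_apply (φ : A →+* L) (x : η.N A) :
    ev η φ x = η.map (resLift (pt φ) φ rfl) (x (pt φ)) := rfl

theorem ev_eq_of (φ : A →+* L) (p : PrimeSpectrum A) (h : RingHom.ker φ = p.asIdeal) (x : η.N A) :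
    ev η φ x = η.map (resLift p φ h) (x p) := by
  obtain ⟨I, hI⟩ := p
  simp only at h
  subst h
  rfl

theorem ev_t (φ : A →+* L) (a : A) : ev η φ (η.t A a) = η.eta L (φ a) := by
  rw [ev_apply]
  change η.map _ (η.eta _ (algebraMap A _ a)) = _
  have := DFunLike.congr_fun (η.eta_natural (resLift (pt φ) φ rfl)) (algebraMap A _ a)
  simp only [RingHom.comp_apply] at this
  rw [this, resLift_algebraMap]

theorem ker_comp_field (φ : A →+* L) (ψ : L →+* L') : RingHom.ker (ψ.comp φ) = RingHom.ker φ := by
  ext a
  simp only [RingHom.mem_ker, RingHom.comp_apply]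
  exact map_eq_zero ψ

theorem ev_comp (φ : A →+* L) (ψ : L →+* L') (x : η.N A) :
    ev η (ψ.comp φ) x = η.map ψ (ev η φ x) := by
  rw [ev_eq_of η (ψ.comp φ) (pt φ) (ker_comp_field φ ψ), ev_apply, ← RingHom.comp_apply,
    ← η.map_comp]
  congr 2
  apply Ideal.ResidueField.ringHom_ext
  ext a
  simp

theorem ev_Nmap (f : A →+* B) (ψ : B →+* L) (x : η.N A) :
    ev η ψ (η.Nmap f x) = ev η (ψ.comp f) x := by
  rw [ev_apply]
  change η.map _ (η.map _ (x (PrimeSpectrum.comap f (pt ψ)))) = _
  rw [ev_eq_of η (ψ.comp f) (PrimeSpectrum.comap f (pt ψ)) (by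
    ext a; simp [pt, RingHom.mem_ker, Ideal.mem_comap]), ← RingHom.comp_apply, ← η.map_comp]
  congr 2
  apply Ideal.ResidueField.ringHom_ext
  ext a
  rw [RingHom.comp_apply, RingHom.comp_apply, RingHom.comp_apply, Ideal.ResidueField.map_algebraMap]
  erw [resLift_algebraMap, resLift_algebraMap]
  rfl

theorem ev_algebraMap (p : PrimeSpectrum A) (x : η.N A) :
    ev η (algebraMap A p.asIdeal.ResidueField) x = x p := by
  rw [ev_eq_of η _ p (Ideal.ker_algebraMap_residueField _)]
  have : resLift p (algebraMap A p.asIdeal.ResidueField) (Ideal.ker_algebraMap_residueField _) =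
      RingHom.id _ := by
    apply Ideal.ResidueField.ringHom_ext
    ext a
    simp
  rw [this, η.map_id]
  rfl

theorem N_ext {x y : η.N A} (h : ∀ (p : PrimeSpectrum A),
    ev η (algebraMap A p.asIdeal.ResidueField) x = ev η (algebraMap A p.asIdeal.ResidueField) y) :
    x = y := by
  funext p
  have := h p
  rwa [ev_algebraMap, ev_algebraMap] at this

end Points


section Functor

variable {A B C : Type u} [CommRing A] [CommRing B] [CommRing C]

theorem Nmap_comp (f : A →+* B) (g : B →+* C) (x : η.N A) :
    η.Nmap (g.comp f) x = η.Nmap g (η.Nmap f x) := by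
  apply N_ext
  intro p
  rw [ev_Nmap, ev_Nmap, ev_Nmap, RingHom.comp_assoc]

theorem Nmap_id (x : η.N A) : η.Nmap (RingHom.id A) x = x := by
  apply N_ext
  intro p
  rw [ev_Nmap, RingHom.comp_id]

theorem Nmap_mem_M (f : A →+* B) {x : η.N A} (hx : x ∈ η.M A) : η.Nmap f x ∈ η.M B := by
  intro R _ _ _ hR g
  rw [← Nmap_comp]
  exact hx R hR (g.comp f)

/-- the pointwise form of membership in `M` -/
theorem mem_M_iff (x : η.N A) : x ∈ η.M A ↔
    ∀ (R : Type u) [CommRing R] [IsDomain R] [ValuationRing R], η.InV R → ∀ g : A →+* R,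
      ∃ r : R, ∀ q : PrimeSpectrum R, ev η ((algebraMap R q.asIdeal.ResidueField).comp g) x =
        η.eta _ (algebraMap R q.asIdeal.ResidueField r) := by
  constructor
  · intro hx R _ _ _ hR g
    obtain ⟨r, hr⟩ := hx R hR g
    refine ⟨r, fun q => ?_⟩
    rw [← ev_Nmap, ← hr, ev_t]
  · intro h R _ _ _ hR g
    obtain ⟨r, hr⟩ := h R hR g
    refine ⟨r, ?_⟩
    apply N_ext
    intro q
    rw [ev_t, ev_Nmap, hr q]

/-- evaluation of an element of `M A` along a point factoring through a valuation ring -/
theorem ev_of_mem_M {x : η.N A} (hx : x ∈ η.M A) (R : Type u) [CommRing R] [IsDomain R]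
    [ValuationRing R] (hR : η.InV R) (g : A →+* R) :
    ∃ r : R, η.Nmap g x = η.t R r ∧
      ∀ (L : Type u) [Field L] (ψ : R →+* L), ev η (ψ.comp g) x = η.eta L (ψ r) := by
  obtain ⟨r, hr⟩ := hx R hR g
  refine ⟨r, hr.symm, fun L _ ψ => ?_⟩
  rw [← ev_Nmap, ← hr, ev_t]

end Functor

section FieldCase

variable (K : Type u) [Field K]

/-- the unique component of an element of `N K` -/
theorem ev_field {L : Type u} [Field L] (ψ : K →+* L) (x : η.N K) :
    ev η ψ x = η.map ψ (ev η (RingHom.id K) x) := by
  rw [← ev_comp, RingHom.comp_id]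

theorem M_field_eq_top : η.M K = ⊤ := by
  rw [eq_top_iff]
  intro x _ R _ _ _ hR g
  set x₀ := ev η (RingHom.id K) x with hx₀
  obtain ⟨n, k, hk⟩ := η.exists_pow_mem_range_eta K x₀
  set p := ringExpChar K with hp
  have hpos : 0 < p ^ n := pow_pos (expChar_pos K p) n
  -- the generic component
  set ι := algebraMap R (FractionRing R) with hι
  obtain ⟨y, hy⟩ := hR.2 (η.map (ι.comp g) x₀)
  have hy2 : y ^ p ^ n = ι (g k) := by
    apply (η.eta (FractionRing R)).injective
    rw [map_pow, hy, ← map_pow, ← hk]
    have := DFunLike.congr_fun (η.eta_natural (ι.comp g)) k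
    simpa using this
  obtain ⟨r, hr⟩ := IsIntegrallyClosed.exists_algebraMap_eq_of_isIntegral_pow (R := R) hpos
    (x := y) (by rw [hy2]; exact isIntegral_algebraMap)
  have hr2 : r ^ p ^ n = g k := by
    apply IsFractionRing.injective R (FractionRing R)
    rw [map_pow, hr, hy2]
  refine ⟨r, ?_⟩
  apply N_ext
  intro q
  rw [ev_t, ev_Nmap, ev_field]
  set ψ := (algebraMap R q.asIdeal.ResidueField).comp g with hψ
  haveI : ExpChar (η.obj q.asIdeal.ResidueField) p :=
    expChar_of_injective_ringHom ((η.eta _).comp ψ).injective p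
  apply iterateFrobenius_inj _ p n
  rw [iterateFrobenius_def, iterateFrobenius_def, ← map_pow, ← map_pow, ← map_pow, hr2, ← hx₀, ← hk]
  have := DFunLike.congr_fun (η.eta_natural ψ) k
  simp only [RingHom.comp_apply] at this
  rw [this]
  rfl

end FieldCase

section Val

variable {A : Type u} [CommRing A] {L : Type u} [Field L]

/-- a valuation subring of `L` through which `φ : A → L` factors, centered at a given prime
containing the kernel -/
theorem exists_valuationSubring_center (φ : A →+* L) (P : Ideal A) [P.IsPrime]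
    (hP : RingHom.ker φ ≤ P) :
    ∃ (W : ValuationSubring L) (g : A →+* W), (∀ a, (g a : L) = φ a) ∧
      (IsLocalRing.maximalIdeal W).comap g = P := by
  have hunits : ∀ s : P.primeCompl, IsUnit (φ s) := by
    intro s
    rw [isUnit_iff_ne_zero]
    intro h0
    exact s.2 (hP h0)
  let f : Localization.AtPrime P →+* L := IsLocalization.lift (M := P.primeCompl) hunits
  obtain ⟨W, hW, hloc⟩ := IsLocalRing.exists_factor_valuationRing f
  let g : A →+* W := (f.codRestrict W.toSubring hW).comp (algebraMap A (Localization.AtPrime P))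
  refine ⟨W, g, ?_, ?_⟩
  · intro a
    change f (algebraMap A _ a) = φ a
    exact IsLocalization.lift_eq _ _
  · haveI : IsLocalRing ↥W.toSubring := inferInstanceAs (IsLocalRing W)
    have h5 := ((IsLocalRing.local_hom_TFAE (f.codRestrict W.toSubring hW)).out 0 4).mp hloc
    change Ideal.comap (algebraMap A (Localization.AtPrime P))
      (Ideal.comap (f.codRestrict W.toSubring hW) (IsLocalRing.maximalIdeal ↥W.toSubring)) = P
    rw [h5]
    exact Localization.AtPrime.under_maximalIdeal

theorem inV_valuationSubring (W : ValuationSubring L) (hL : Function.Bijective (η.eta L)) :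
    η.InV W := (inV_iff η W L).mpr hL

end Val

section Special

variable {A : Type u} [CommRing A] {L : Type u} [Field L]

/-- specialization: the component of `x ∈ M A` at a prime `P` is determined by its value at a point
`φ : A → L` (with `η` bijective at `L`) whose kernel is contained in `P`. -/
theorem eq_zero_of_ev_eq_zero {x : η.N A} (hx : x ∈ η.M A) (φ : A →+* L)
    (hL : Function.Bijective (η.eta L)) (h0 : ev η φ x = 0)
    (P : PrimeSpectrum A) (hP : RingHom.ker φ ≤ P.asIdeal) : x P = 0 := by
  obtain ⟨W, g, hg, hcen⟩ := exists_valuationSubring_center φ P.asIdeal hP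
  obtain ⟨r, -, hr⟩ := ev_of_mem_M η hx W (inV_valuationSubring η W hL) g
  have h1 := hr L W.subtype
  have e1 : W.subtype.comp g = φ := by
    ext a; exact hg a
  rw [e1, h0] at h1
  have hr0 : r = 0 := by
    have : W.subtype r = 0 := (map_eq_zero (η.eta L)).mp h1.symm
    exact Subtype.ext this
  have h2 := hr (IsLocalRing.ResidueField W) (IsLocalRing.residue W)
  rw [hr0, map_zero, map_zero] at h2
  have hker : RingHom.ker ((IsLocalRing.residue W).comp g) = P.asIdeal := by
    rw [← hcen]
    ext a
    simp [RingHom.mem_ker, Ideal.mem_comap, IsLocalRing.residue_eq_zero_iff]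
  rw [ev_eq_of η _ P hker] at h2
  exact (map_eq_zero _).mp h2

end Special

section Domain

variable (A : Type u) [CommRing A] [IsDomain A]

theorem injOn_generic (hA : η.InV A) :
    Set.InjOn (fun x : η.N A => x ⟨⊥, Ideal.isPrime_bot⟩) (η.M A) := by
  intro x hx y hy hxy
  simp only at hxy
  have hz : x - y ∈ η.M A := Subring.sub_mem _ hx hy
  have hL : Function.Bijective (η.eta (⊥ : Ideal A).ResidueField) :=
    (inV_iff η A (⊥ : Ideal A).ResidueField).mp hA
  have h0 : ev η (algebraMap A (⊥ : Ideal A).ResidueField) (x - y) = 0 := by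
    have := ev_algebraMap η (⟨⊥, Ideal.isPrime_bot⟩ : PrimeSpectrum A) (x - y)
    rw [this]
    change x _ - y _ = 0
    rw [hxy, sub_self]
  have hz0 : x - y = 0 := by
    funext P
    apply eq_zero_of_ev_eq_zero η hz (algebraMap A (⊥ : Ideal A).ResidueField) hL h0 P
    rw [Ideal.ker_algebraMap_residueField]
    exact bot_le
  exact sub_eq_zero.mp hz0

end Domain

section IntClosed

variable {A : Type u} [CommRing A] {L : Type u} [Field L]

/-- an element of `L` lying in every valuation subring containing the image of `A` is integral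
over `A` -/
theorem isIntegral_of_forall_valuationSubring (φ : A →+* L) (y : L)
    (h : ∀ W : ValuationSubring L, (∀ a, φ a ∈ W) → y ∈ W) : φ.IsIntegralElem y := by
  have h1 : y ∈ (⨅ V : {V : ValuationSubring L // Set.range φ ⊆ V.toSubring}, V.1.toSubring) := by
    rw [Subring.mem_iInf]
    rintro ⟨V, hV⟩
    exact h V (fun a => hV ⟨a, rfl⟩)
  rw [iInf_valuationSubring_superset] at h1
  have h2 : IsIntegral (Subring.closure (Set.range φ)) y := h1
  have hcl : Subring.closure (Set.range φ) = φ.range := by
    rw [← RingHom.coe_range, Subring.closure_eq]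
  letI : Algebra A L := φ.toAlgebra
  letI : Algebra A (Subring.closure (Set.range φ)) :=
    (φ.codRestrict (Subring.closure (Set.range φ))
      (fun a => Subring.subset_closure ⟨a, rfl⟩)).toAlgebra
  haveI : IsScalarTower A (Subring.closure (Set.range φ)) L :=
    IsScalarTower.of_algebraMap_eq (fun a => rfl)
  haveI : Algebra.IsIntegral A (Subring.closure (Set.range φ)) := by
    constructor
    intro s
    have hs : (s : L) ∈ φ.range := by rw [← hcl]; exact s.2
    obtain ⟨a, ha⟩ := hs
    have : s = algebraMap A (Subring.closure (Set.range φ)) a := Subtype.ext ha.symm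
    rw [this]
    exact isIntegral_algebraMap
  exact isIntegral_trans (R := A) y h2

end IntClosed

section IntClosed2

variable {A : Type u} [CommRing A] {L : Type u} [Field L]

/-- the value of `x ∈ M A` at a point `φ : A → L` (with `η` bijective at `L`) comes from an
element of `L` integral over `A` -/
theorem exists_isIntegral_ev {x : η.N A} (hx : x ∈ η.M A) (φ : A →+* L)
    (hL : Function.Bijective (η.eta L)) :
    ∃ y : L, η.eta L y = ev η φ x ∧ φ.IsIntegralElem y := by
  obtain ⟨y, hy⟩ := hL.2 (ev η φ x)
  refine ⟨y, hy, ?_⟩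
  apply isIntegral_of_forall_valuationSubring
  intro W hW
  let g : A →+* W := φ.codRestrict W.toSubring hW
  obtain ⟨r, -, hr⟩ := ev_of_mem_M η hx W (inV_valuationSubring η W hL) g
  have h1 := hr L W.subtype
  have e1 : W.subtype.comp g = φ := by
    ext a; rfl
  rw [e1, ← hy] at h1
  have : y = W.subtype r := (η.eta L).injective h1
  rw [this]
  exact r.2

end IntClosed2

section IntClosedDomain

variable (A : Type u) [CommRing A] [IsDomain A] [IsIntegrallyClosed A]

theorem bijective_q_of_isIntegrallyClosed (hA : η.InV A) : Function.Bijective (η.q A) := by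
  have hL : Function.Bijective (η.eta (⊥ : Ideal A).ResidueField) :=
    (inV_iff η A (⊥ : Ideal A).ResidueField).mp hA
  constructor
  · intro a b hab
    have h1 : η.t A a = η.t A b := congrArg Subtype.val hab
    have h2 := congrFun h1 ⟨⊥, Ideal.isPrime_bot⟩
    change η.eta _ (algebraMap A _ a) = η.eta _ (algebraMap A _ b) at h2
    exact IsFractionRing.injective A (⊥ : Ideal A).ResidueField ((η.eta _).injective h2)
  · rintro ⟨x, hx⟩
    obtain ⟨y, hy, hint⟩ := exists_isIntegral_ev η hx (algebraMap A (⊥ : Ideal A).ResidueField) hL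
    obtain ⟨a, ha⟩ := (IsIntegrallyClosed.isIntegral_iff (R := A)).mp hint
    refine ⟨a, Subtype.ext ?_⟩
    change η.t A a = x
    apply injOn_generic η A hA (η.t_mem_M A a) hx
    simp only
    rw [← ev_algebraMap η (⟨⊥, Ideal.isPrime_bot⟩ : PrimeSpectrum A) x, ← hy, ← ha]
    rfl

end IntClosedDomain

section Generic

variable {A : Type u} [CommRing A]

/-- the canonical point of `A` with values in `F(κ(p))` -/
noncomputable def phiF (p : PrimeSpectrum A) : A →+* η.obj p.asIdeal.ResidueField :=
  (η.eta p.asIdeal.ResidueField).comp (algebraMap A p.asIdeal.ResidueField)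

theorem ker_phiF (p : PrimeSpectrum A) : RingHom.ker (phiF η p) = p.asIdeal := by
  rw [phiF, ker_comp_field, Ideal.ker_algebraMap_residueField]

theorem ev_phiF (p : PrimeSpectrum A) (x : η.N A) :
    ev η (phiF η p) x = η.eta _ (x p) := by
  rw [phiF, ev_comp, ev_algebraMap, eta_obj]

theorem t_apply (a : A) (p : PrimeSpectrum A) : η.t A a p = phiF η p a := rfl

/-- an element of `M A` vanishing at a prime vanishes at all its specializations -/
theorem eq_zero_of_le {x : η.N A} (hx : x ∈ η.M A) (p P : PrimeSpectrum A)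
    (hpP : p.asIdeal ≤ P.asIdeal) (h0 : x p = 0) : x P = 0 := by
  apply eq_zero_of_ev_eq_zero η hx (phiF η p) (bijective_eta_obj η) _ P
  · rw [ker_phiF]; exact hpP
  · rw [ev_phiF, h0, map_zero]

/-- the component at `p` of an element of `M A` is integral over `A` -/
theorem isIntegralElem_apply {x : η.N A} (hx : x ∈ η.M A) (p : PrimeSpectrum A) :
    (phiF η p).IsIntegralElem (x p) := by
  obtain ⟨y, hy, hint⟩ := exists_isIntegral_ev η hx (phiF η p) (bijective_eta_obj η)
  rw [ev_phiF] at hy
  have hyx : y = x p := (η.eta _).injective hy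
  rwa [hyx] at hint

theorem eval₂_t_apply (x : η.N A) (P : Polynomial A) (p : PrimeSpectrum A) :
    (Polynomial.eval₂ (η.t A) x P) p = Polynomial.eval₂ (phiF η p) (x p) P := by
  have := Polynomial.hom_eval₂ P (η.t A)
    (Pi.evalRingHom (fun p : PrimeSpectrum A => η.obj p.asIdeal.ResidueField) p) x
  exact this

theorem eval₂_t_mem_M {x : η.N A} (hx : x ∈ η.M A) (P : Polynomial A) :
    Polynomial.eval₂ (η.t A) x P ∈ η.M A := by
  rw [Polynomial.eval₂_eq_sum_range]
  apply Subring.sum_mem
  intro i _
  exact Subring.mul_mem _ (η.t_mem_M A _) (Subring.pow_mem _ hx i)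

theorem isIntegral_q (hA : (minimalPrimes A).Finite) : (η.q A).IsIntegral := by
  classical
  rintro ⟨x, hx⟩
  -- monic polynomials killing the components at the minimal primes
  have hex : ∀ p : PrimeSpectrum A, ∃ P : Polynomial A, P.Monic ∧
      Polynomial.eval₂ (phiF η p) (x p) P = 0 := fun p => isIntegralElem_apply η hx p
  choose Pp hPm hP0 using hex
  let S : Finset (Ideal A) := hA.toFinset
  have hSprime : ∀ I ∈ S, I.IsPrime := fun I hI => ((hA.mem_toFinset).mp hI).1.1
  let Pol : Ideal A → Polynomial A := fun I =>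
    if h : I.IsPrime then Pp ⟨I, h⟩ else 1
  have hPolm : ∀ I, (Pol I).Monic := by
    intro I
    simp only [Pol]
    split_ifs with h
    · exact hPm _
    · exact Polynomial.monic_one
  refine ⟨∏ I ∈ S, Pol I, Polynomial.monic_prod_of_monic _ _ (fun I _ => hPolm I), ?_⟩
  apply Subtype.ext
  have h1 := Polynomial.hom_eval₂ (∏ I ∈ S, Pol I) (η.q A) (η.M A).subtype ⟨x, hx⟩
  have h2 : (η.M A).subtype.comp (η.q A) = η.t A := rfl
  rw [h2] at h1
  change (η.M A).subtype _ = 0
  rw [h1]
  change Polynomial.eval₂ (η.t A) x (∏ I ∈ S, Pol I) = 0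
  rw [Polynomial.eval₂_finsetProd]
  funext P
  rw [Finset.prod_apply]
  obtain ⟨I, hI, hIP⟩ := Ideal.exists_minimalPrimes_le (bot_le : (⊥ : Ideal A) ≤ P.asIdeal)
  have hIS : I ∈ S := (hA.mem_toFinset).mpr hI
  apply Finset.prod_eq_zero hIS
  have hIprime : I.IsPrime := hI.1.1
  have e : Pol I = Pp ⟨I, hIprime⟩ := by simp only [Pol, dif_pos hIprime]
  rw [e]
  apply eq_zero_of_le η (eval₂_t_mem_M η hx _) ⟨I, hIprime⟩ P hIP
  rw [eval₂_t_apply]
  exact hP0 _

end Generic

end Groth.Agent.Helper20.EtaBase
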