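import Mathlib
import Groth.Prelude.Def_W4c1chowmix47Eta
import Groth.Agent.Lib.Helper20.EtaBase

namespace Groth.Agent.Helper20.EtaSpec

open EtaPt Groth.Agent.Helper20.EtaBase

universe u

variable (η : FieldEndo.{u})

section Incomp

theorem eq_of_le_of_comap_eq {R S : Type*} [CommRing R] [CommRing S] (f : R →+* S)
    (hf : f.IsIntegral) (I J : Ideal S) [I.IsPrime] (hIJ : I ≤ J)
    (h : I.comap f = J.comap f) : I = J := by
  by_contra hne
  have hlt : I < J := lt_of_le_of_ne hIJ hne
  letI : Algebra R S := f.toAlgebra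
  haveI : Algebra.IsIntegral R S := ⟨hf⟩
  have := Ideal.IsIntegral.comap_lt_comap (R := R) hlt
  exact absurd h (ne_of_lt this)

end Incomp

section Primes

variable {A : Type u} [CommRing A]

/-- the projection of `M A` to the factor at `P` -/
noncomputable def prM (P : PrimeSpectrum A) : η.M A →+* η.obj P.asIdeal.ResidueField :=
  (Pi.evalRingHom (fun p : PrimeSpectrum A => η.obj p.asIdeal.ResidueField) P).comp (η.M A).subtype

theorem prM_apply (P : PrimeSpectrum A) (x : η.M A) : prM η P x = (x : η.N A) P := rfl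

theorem prM_q (P : PrimeSpectrum A) (a : A) : prM η P (η.q A a) = phiF η P a := rfl

/-- the prime of `M A` cut out by the factor at `P` -/
noncomputable def QP (P : PrimeSpectrum A) : PrimeSpectrum (η.M A) := pt (prM η P)

theorem mem_QP (P : PrimeSpectrum A) (x : η.M A) : x ∈ (QP η P).asIdeal ↔ (x : η.N A) P = 0 := by
  rw [QP, pt_asIdeal, RingHom.mem_ker, prM_apply]

theorem comap_QP (P : PrimeSpectrum A) : PrimeSpectrum.comap (η.q A) (QP η P) = P := by
  apply PrimeSpectrum.ext
  ext a
  rw [PrimeSpectrum.comap_asIdeal, Ideal.mem_comap, mem_QP]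
  change phiF η P a = 0 ↔ _
  rw [← RingHom.mem_ker, ker_phiF]

theorem exists_minimal_QP_le (hA : (minimalPrimes A).Finite) (Q : PrimeSpectrum (η.M A)) :
    ∃ p : PrimeSpectrum A, (QP η p).asIdeal ≤ Q.asIdeal := by
  classical
  let S : Finset (Ideal A) := hA.toFinset
  let f : Ideal A → Ideal (η.M A) := fun I =>
    if h : I.IsPrime then (QP η ⟨I, h⟩).asIdeal else ⊤
  have hinf : S.inf f ≤ Q.asIdeal := by
    intro x hx
    have hx0 : x = 0 := by
      apply Subtype.ext
      funext P
      obtain ⟨I, hI, hIP⟩ := Ideal.exists_minimalPrimes_le (bot_le : (⊥ : Ideal A) ≤ P.asIdeal)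
      have hIS : I ∈ S := (hA.mem_toFinset).mpr hI
      have hIprime : I.IsPrime := hI.1.1
      have h1 : x ∈ f I := (Finset.inf_le hIS : S.inf f ≤ f I) hx
      simp only [f, dif_pos hIprime] at h1
      rw [mem_QP] at h1
      exact eq_zero_of_le η x.2 ⟨I, hIprime⟩ P hIP h1
    rw [hx0]
    exact Ideal.zero_mem _
  obtain ⟨I, hIS, hI⟩ := (Ideal.IsPrime.inf_le' Q.isPrime).mp hinf
  have hIprime : I.IsPrime := ((hA.mem_toFinset).mp hIS).1.1
  refine ⟨⟨I, hIprime⟩, ?_⟩
  simpa only [f, dif_pos hIprime] using hI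

theorem QP_comap_le (hA : (minimalPrimes A).Finite) (Q : PrimeSpectrum (η.M A)) :
    (QP η (PrimeSpectrum.comap (η.q A) Q)).asIdeal ≤ Q.asIdeal := by
  obtain ⟨p, hp⟩ := exists_minimal_QP_le η hA Q
  obtain ⟨W, h, hh, hcen⟩ := exists_valuationSubring_center (prM η p) Q.asIdeal hp
  intro x hx
  rw [mem_QP] at hx
  let g : A →+* W := h.comp (η.q A)
  obtain ⟨r, -, hr⟩ := ev_of_mem_M η x.2 W (inV_valuationSubring η W (bijective_eta_obj η)) g
  -- generic point
  have h1 := hr _ W.subtype
  have e1 : W.subtype.comp g = phiF η p := by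
    ext a
    exact hh (η.q A a)
  rw [e1, ev_phiF] at h1
  have hrx : (r : η.obj p.asIdeal.ResidueField) = (h x : η.obj p.asIdeal.ResidueField) := by
    rw [hh x, prM_apply]
    exact ((η.eta _).injective h1).symm
  have hrx' : r = h x := Subtype.ext hrx
  -- closed point
  have h2 := hr _ (IsLocalRing.residue W)
  have hker : RingHom.ker ((IsLocalRing.residue W).comp g) =
      (PrimeSpectrum.comap (η.q A) Q).asIdeal := by
    rw [PrimeSpectrum.comap_asIdeal, ← hcen]
    ext a
    simp [g, RingHom.mem_ker, Ideal.mem_comap, IsLocalRing.residue_eq_zero_iff]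
  rw [ev_eq_of η _ _ hker, hx, map_zero] at h2
  have h3 : IsLocalRing.residue W r = 0 := (map_eq_zero (η.eta _)).mp h2.symm
  rw [IsLocalRing.residue_eq_zero_iff, hrx'] at h3
  rw [← hcen]
  exact h3

theorem QP_comap (hA : (minimalPrimes A).Finite) (Q : PrimeSpectrum (η.M A)) :
    QP η (PrimeSpectrum.comap (η.q A) Q) = Q := by
  apply PrimeSpectrum.ext
  haveI := (QP η (PrimeSpectrum.comap (η.q A) Q)).isPrime
  apply eq_of_le_of_comap_eq (η.q A) (isIntegral_q η hA) _ _ (QP_comap_le η hA Q)
  have := comap_QP η (PrimeSpectrum.comap (η.q A) Q)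
  exact congrArg PrimeSpectrum.asIdeal this

theorem comap_q_bijective (hA : (minimalPrimes A).Finite) :
    Function.Bijective (PrimeSpectrum.comap (η.q A)) := by
  constructor
  · intro Q Q' h
    rw [← QP_comap η hA Q, ← QP_comap η hA Q', h]
  · intro P
    exact ⟨QP η P, comap_QP η P⟩

end Primes

section Residue

variable {A : Type u} [CommRing A]

/-- the embedding of the residue field of `M A` at `Q` into `F(κ(P))`, `P` the contraction -/
noncomputable def phiQ (hA : (minimalPrimes A).Finite) (Q : PrimeSpectrum (η.M A)) :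
    Q.asIdeal.ResidueField →+* η.obj (PrimeSpectrum.comap (η.q A) Q).asIdeal.ResidueField :=
  resLift Q (prM η (PrimeSpectrum.comap (η.q A) Q))
    (congrArg PrimeSpectrum.asIdeal (QP_comap η hA Q))

theorem phiQ_algebraMap (hA : (minimalPrimes A).Finite) (Q : PrimeSpectrum (η.M A)) (x : η.M A) :
    phiQ η hA Q (algebraMap _ _ x) = (x : η.N A) (PrimeSpectrum.comap (η.q A) Q) := by
  rw [phiQ, resLift_algebraMap, prM_apply]

theorem phiQ_comp_map (hA : (minimalPrimes A).Finite) (Q : PrimeSpectrum (η.M A)) :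
    (phiQ η hA Q).comp (Ideal.ResidueField.map (PrimeSpectrum.comap (η.q A) Q).asIdeal Q.asIdeal
      (η.q A) rfl) = η.eta (PrimeSpectrum.comap (η.q A) Q).asIdeal.ResidueField := by
  apply Ideal.ResidueField.ringHom_ext
  ext a
  rw [RingHom.comp_apply, RingHom.comp_apply, Ideal.ResidueField.map_algebraMap, phiQ_algebraMap]
  rfl

/-- if `κ → κ' → F κ` composes to `η`, then `F κ → F κ'` is bijective -/
theorem bijective_map_of_factor {K K' : Type u} [Field K] [Field K'] (i : K →+* K')
    (φ : K' →+* η.obj K) (h : φ.comp i = η.eta K) : Function.Bijective (η.map i) := by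
  have h1 : (η.map φ).comp (η.map i) = η.map (η.eta K) := by
    rw [← η.map_comp, h]
  refine ⟨(η.map i).injective, fun y => ?_⟩
  obtain ⟨x, hx⟩ := (η.bijective_map_eta K).2 (η.map φ y)
  refine ⟨x, (η.map φ).injective ?_⟩
  rw [← hx, ← h1]
  rfl

theorem bijective_map_residue (hA : (minimalPrimes A).Finite) (Q : PrimeSpectrum (η.M A)) :
    Function.Bijective (η.map (Ideal.ResidueField.map (PrimeSpectrum.comap (η.q A) Q).asIdeal
      Q.asIdeal (η.q A) rfl)) :=
  bijective_map_of_factor η _ (phiQ η hA Q) (phiQ_comp_map η hA Q)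

end Residue

section NmapBij

variable {A B : Type u} [CommRing A] [CommRing B]

theorem Nmap_apply (f : A →+* B) (x : η.N A) (q : PrimeSpectrum B) :
    η.Nmap f x q = η.map (Ideal.ResidueField.map (PrimeSpectrum.comap f q).asIdeal q.asIdeal f rfl)
      (x (PrimeSpectrum.comap f q)) := rfl

theorem Nmap_bijective_of (f : A →+* B) (h1 : Function.Bijective (PrimeSpectrum.comap f))
    (h2 : ∀ q : PrimeSpectrum B, Function.Bijective
      (η.map (Ideal.ResidueField.map (PrimeSpectrum.comap f q).asIdeal q.asIdeal f rfl))) :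
    Function.Bijective (η.Nmap f) := by
  constructor
  · intro x y hxy
    funext P
    obtain ⟨q, rfl⟩ := h1.2 P
    have := congrFun hxy q
    rw [Nmap_apply, Nmap_apply] at this
    exact (h2 q).1 this
  · intro y
    have hex : ∀ P : PrimeSpectrum A, ∃ z : η.obj P.asIdeal.ResidueField,
        ∀ (q : PrimeSpectrum B) (h : P.asIdeal = q.asIdeal.comap f),
          η.map (Ideal.ResidueField.map P.asIdeal q.asIdeal f h) z = y q := by
      intro P
      obtain ⟨q₀, rfl⟩ := h1.2 P
      obtain ⟨z, hz⟩ := (h2 q₀).2 (y q₀)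
      refine ⟨z, fun q h => ?_⟩
      have hq : q₀ = q := h1.1 (PrimeSpectrum.ext h)
      subst hq
      exact hz
    choose x hx using hex
    refine ⟨x, ?_⟩
    funext q
    rw [Nmap_apply]
    exact hx _ q rfl

theorem apply_eq_zero_of_eq (x : η.N A) {P P' : PrimeSpectrum A} (h : P = P') (h0 : x P' = 0) :
    x P = 0 := by
  subst h; exact h0

theorem comap_bijective_of_Nmap_bijective (f : A →+* B) (h : Function.Bijective (η.Nmap f)) :
    Function.Bijective (PrimeSpectrum.comap f) := by
  classical
  constructor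
  · intro q q' hqq
    by_contra hne
    obtain ⟨x, hx⟩ := h.2 (Pi.single q 1)
    have h1 := congrFun hx q
    have h2 := congrFun hx q'
    rw [Nmap_apply, Pi.single_eq_same] at h1
    rw [Nmap_apply, Pi.single_eq_of_ne (Ne.symm hne)] at h2
    have h3 : x (PrimeSpectrum.comap f q') = 0 := (map_eq_zero _).mp h2
    have h4 := apply_eq_zero_of_eq η x hqq h3
    rw [h4, map_zero] at h1
    exact zero_ne_one h1
  · intro P
    by_contra hne
    push Not at hne
    have h0 : η.Nmap f (Pi.single P 1) = 0 := by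
      funext q
      rw [Nmap_apply, Pi.single_eq_of_ne (hne q), map_zero]
      rfl
    have h1 : (Pi.single P 1 : η.N A) = 0 := h.1 (by rw [h0, map_zero])
    have h2 := congrFun h1 P
    rw [Pi.single_eq_same] at h2
    exact one_ne_zero h2

theorem map_residue_bijective_of_Nmap_bijective (f : A →+* B) (h : Function.Bijective (η.Nmap f))
    (q : PrimeSpectrum B) : Function.Bijective
      (η.map (Ideal.ResidueField.map (PrimeSpectrum.comap f q).asIdeal q.asIdeal f rfl)) := by
  classical
  refine ⟨(η.map _).injective, fun y₀ => ?_⟩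
  obtain ⟨x, hx⟩ := h.2 (Pi.single q y₀)
  have h1 := congrFun hx q
  rw [Nmap_apply, Pi.single_eq_same] at h1
  exact ⟨_, h1⟩

theorem bijective_Nmap_q (hA : (minimalPrimes A).Finite) : Function.Bijective (η.Nmap (η.q A)) :=
  Nmap_bijective_of η (η.q A) (comap_q_bijective η hA) (bijective_map_residue η hA)

end NmapBij

section Extend

variable {A B : Type u} [CommRing A] [CommRing B]

theorem eta_map_algebraMap (f : A →+* B) (q : PrimeSpectrum B) (a : A) :
    η.map (Ideal.ResidueField.map (PrimeSpectrum.comap f q).asIdeal q.asIdeal f rfl)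
      (phiF η (PrimeSpectrum.comap f q) a) = phiF η q (f a) := by
  have := DFunLike.congr_fun (η.eta_natural
    (Ideal.ResidueField.map (PrimeSpectrum.comap f q).asIdeal q.asIdeal f rfl))
    (algebraMap A _ a)
  simp only [RingHom.comp_apply] at this
  rw [phiF, phiF, RingHom.comp_apply, RingHom.comp_apply, this, Ideal.ResidueField.map_algebraMap]

/-- a ring map to the fraction field of an integrally closed domain whose restriction along an
integral map lands in the domain, lands in the domain -/
theorem exists_lift_of_integral {R : Type u} [CommRing R] [IsDomain R] [IsIntegrallyClosed R]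
    (K : Type u) [Field K] [Algebra R K] [IsFractionRing R K]
    (f : A →+* B) (hf : f.IsIntegral) (g : A →+* R) (g'' : B →+* K)
    (h : g''.comp f = (algebraMap R K).comp g) : ∃ g' : B →+* R, g'.comp f = g ∧
      (algebraMap R K).comp g' = g'' := by
  have hmem : ∀ b, g'' b ∈ (algebraMap R K).range := by
    intro b
    obtain ⟨P, hPm, hP⟩ := hf b
    have h1 := Polynomial.hom_eval₂ P f g'' b
    rw [hP, map_zero, h] at h1
    have hint : IsIntegral R (g'' b) := by
      refine ⟨P.map g, hPm.map g, ?_⟩
      rw [Polynomial.eval₂_map]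
      exact h1.symm
    obtain ⟨r, hr⟩ := (IsIntegrallyClosed.isIntegral_iff (R := R)).mp hint
    exact ⟨r, hr⟩
  let e : R ≃+* (algebraMap R K).range :=
    RingEquiv.ofBijective (algebraMap R K).rangeRestrict
      ⟨fun a b hab => IsFractionRing.injective R K (congrArg Subtype.val hab),
        (algebraMap R K).rangeRestrict_surjective⟩
  let g' : B →+* R := (e.symm : _ →+* R).comp (g''.codRestrict (algebraMap R K).range hmem)
  have hg' : ∀ b, algebraMap R K (g' b) = g'' b := by
    intro b
    have h1 : e (g' b) = g''.codRestrict (algebraMap R K).range hmem b := e.apply_symm_apply _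
    exact congrArg Subtype.val h1
  refine ⟨g', ?_, ?_⟩
  · ext a
    apply IsFractionRing.injective R K
    rw [RingHom.comp_apply, hg']
    exact DFunLike.congr_fun h a
  · ext b
    exact hg' b

theorem exists_factor (f : A →+* B) (hf : f.IsIntegral) (hN : Function.Bijective (η.Nmap f))
    (R : Type u) [CommRing R] [IsDomain R] [ValuationRing R] (hR : η.InV R) (g : A →+* R) :
    ∃ g' : B →+* R, g'.comp f = g := by
  set K := FractionRing R with hK
  set ψ : A →+* K := (algebraMap R K).comp g with hψ
  obtain ⟨q₀, hq₀⟩ := (comap_bijective_of_Nmap_bijective η f hN).2 (pt ψ)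
  have hker : RingHom.ker ψ = (PrimeSpectrum.comap f q₀).asIdeal := by
    rw [hq₀]; rfl
  let αe := RingEquiv.ofBijective _ (map_residue_bijective_of_Nmap_bijective η f hN q₀)
  let β := η.map (resLift (PrimeSpectrum.comap f q₀) ψ hker)
  let γe : K ≃+* η.obj K := RingEquiv.ofBijective (η.eta K) hR
  let g'' : B →+* K := (γe.symm : η.obj K →+* K).comp (β.comp ((αe.symm : _ →+* _).comp (phiF η q₀)))
  have hg'' : g''.comp f = ψ := by
    ext a
    simp only [g'', RingHom.comp_apply, RingHom.coe_coe]
    have h1 : αe.symm (phiF η q₀ (f a)) = phiF η (PrimeSpectrum.comap f q₀) a := by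
      rw [RingEquiv.symm_apply_eq]
      exact (eta_map_algebraMap η f q₀ a).symm
    rw [h1]
    have h2 : β (phiF η (PrimeSpectrum.comap f q₀) a) = η.eta K (ψ a) := by
      have := DFunLike.congr_fun (η.eta_natural (resLift (PrimeSpectrum.comap f q₀) ψ hker))
        (algebraMap A _ a)
      simp only [RingHom.comp_apply, resLift_algebraMap] at this
      exact this
    rw [h2]
    exact γe.symm_apply_apply _
  obtain ⟨g', hg', -⟩ := exists_lift_of_integral K f hf g g'' hg''
  exact ⟨g', hg'⟩

end Extend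

section BijOn

variable {A B : Type u} [CommRing A] [CommRing B]

theorem mem_M_of_Nmap_mem_M (f : A →+* B) (hf : f.IsIntegral) (hN : Function.Bijective (η.Nmap f))
    (x : η.N A) (hx : η.Nmap f x ∈ η.M B) : x ∈ η.M A := by
  intro R _ _ _ hR g
  obtain ⟨g', hg'⟩ := exists_factor η f hf hN R hR g
  rw [← hg', Nmap_comp]
  exact hx R hR g'

theorem bijOn_Nmap_M (f : A →+* B) (hf : f.IsIntegral) (hN : Function.Bijective (η.Nmap f)) :
    Set.BijOn (η.Nmap f) (η.M A) (η.M B) := by
  refine ⟨fun x hx => Nmap_mem_M η f hx, fun x _ y _ h => hN.1 h, fun y hy => ?_⟩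
  obtain ⟨x, rfl⟩ := hN.2 y
  exact ⟨x, mem_M_of_Nmap_mem_M η f hf hN x hy, rfl⟩

end BijOn

section Idem

variable {A : Type u} [CommRing A]

theorem Nmap_q_eq_t (hA : (minimalPrimes A).Finite) (x : η.M A) :
    η.Nmap (η.q A) (x : η.N A) = η.t (η.M A) x := by
  funext Q
  rw [Nmap_apply]
  apply (η.map (phiQ η hA Q)).injective
  rw [← RingHom.comp_apply, ← η.map_comp, phiQ_comp_map, ← eta_obj]
  change _ = η.map (phiQ η hA Q) (η.eta _ (algebraMap _ _ x))
  have := DFunLike.congr_fun (η.eta_natural (phiQ η hA Q)) (algebraMap _ _ x)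
  simp only [RingHom.comp_apply] at this
  rw [this, phiQ_algebraMap]

theorem bijective_q_M (hA : (minimalPrimes A).Finite) : Function.Bijective (η.q (η.M A)) := by
  constructor
  · intro x y hxy
    have h1 : η.t (η.M A) x = η.t (η.M A) y := congrArg Subtype.val hxy
    apply Subtype.ext
    funext P
    have h2 := congrFun h1 (QP η P)
    rw [t_apply, t_apply] at h2
    have h3 : phiF η (QP η P) (x - y) = 0 := by rw [map_sub, h2, sub_self]
    rw [← RingHom.mem_ker, ker_phiF, mem_QP] at h3
    exact sub_eq_zero.mp h3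
  · rintro ⟨z, hz⟩
    obtain ⟨x, hx, hxz⟩ := (bijOn_Nmap_M η (η.q A) (isIntegral_q η hA) (bijective_Nmap_q η hA)).2.2 hz
    refine ⟨⟨x, hx⟩, Subtype.ext ?_⟩
    change η.t (η.M A) ⟨x, hx⟩ = z
    rw [← Nmap_q_eq_t η hA ⟨x, hx⟩]
    exact hxz

end Idem

section Reduced

variable {B : Type u} [CommRing B]

theorem t_eq_zero_iff (b : B) : η.t B b = 0 ↔ IsNilpotent b := by
  rw [nilpotent_iff_mem_prime]
  constructor
  · intro h J hJ
    have := congrFun h ⟨J, hJ⟩
    rw [t_apply] at this
    have h2 : b ∈ RingHom.ker (phiF η ⟨J, hJ⟩) := this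
    rwa [ker_phiF] at h2
  · intro h
    funext q
    rw [t_apply]
    have : b ∈ RingHom.ker (phiF η q) := by rw [ker_phiF]; exact h q.asIdeal q.isPrime
    exact this

theorem t_injective [IsReduced B] : Function.Injective (η.t B) := by
  rw [injective_iff_map_eq_zero]
  intro b hb
  exact ((t_eq_zero_iff η b).mp hb).eq_zero

end Reduced

section Univ

variable {A : Type u} [CommRing A]

theorem t_M_injective (hA : (minimalPrimes A).Finite) : Function.Injective (η.t (η.M A)) := by
  intro x y hxy
  apply (bijective_q_M η hA).1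
  exact Subtype.ext hxy

theorem bijective_of_isIntegral_of_reduced (hA : (minimalPrimes A).Finite) (B : Type u) [CommRing B]
    [IsReduced B] (f : η.M A →+* B) (hf : f.IsIntegral) (hN : Function.Bijective (η.Nmap f)) :
    Function.Bijective f := by
  constructor
  · rw [injective_iff_map_eq_zero]
    intro x hx
    apply t_M_injective η hA
    apply hN.1
    rw [η.Nmap_t_apply f x, hx, map_zero, map_zero, map_zero]
  · intro b
    obtain ⟨z, hz, hzb⟩ := (bijOn_Nmap_M η f hf hN).2.2 (η.t_mem_M B b)
    obtain ⟨x, hx⟩ := (bijective_q_M η hA).2 ⟨z, hz⟩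
    refine ⟨x, ?_⟩
    apply t_injective η
    rw [← η.Nmap_t_apply f x, ← hzb]
    congr 1
    exact congrArg Subtype.val hx

theorem existsUnique_lift_q (hA : (minimalPrimes A).Finite) (B : Type u) [CommRing B] (g : A →+* B)
    (hg : g.IsIntegral) (hN : Function.Bijective (η.Nmap g)) :
    ∃! g' : B →+* η.M A, g'.comp g = η.q A := by
  have hbij := bijOn_Nmap_M η g hg hN
  -- the restriction of `N(g)` to `M`
  let r : η.M A →+* η.M B := ((η.Nmap g).comp (η.M A).subtype).codRestrict (η.M B)
    (fun x => hbij.1 x.2)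
  have hr : Function.Bijective r := by
    constructor
    · intro x y hxy
      apply Subtype.ext
      exact hN.1 (congrArg Subtype.val hxy)
    · rintro ⟨y, hy⟩
      obtain ⟨x, hx, hxy⟩ := hbij.2.2 hy
      exact ⟨⟨x, hx⟩, Subtype.ext hxy⟩
  let e : η.M A ≃+* η.M B := RingEquiv.ofBijective r hr
  refine ⟨(e.symm : η.M B →+* η.M A).comp (η.q B), ?_, ?_⟩
  · apply RingHom.ext
    intro a
    simp only [RingHom.comp_apply, RingHom.coe_coe]
    rw [RingEquiv.symm_apply_eq]
    apply Subtype.ext
    exact (η.Nmap_t_apply g a).symm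
  · intro g' hg'
    apply RingHom.ext
    intro b
    apply t_M_injective η hA
    have h1 : ∀ g'' : B →+* η.M A, g''.comp g = η.q A →
        η.t (η.M A) (g'' b) = η.Nmap (η.q A) ((Function.invFun (η.Nmap g)) (η.t B b)) := by
      intro g'' hg''
      have e1 : η.t B b = η.Nmap g (Function.invFun (η.Nmap g) (η.t B b)) :=
        (Function.rightInverse_invFun hN.2 _).symm
      rw [← hg'', Nmap_comp, ← e1]
      exact (η.Nmap_t_apply g'' b).symm
    rw [h1 g' hg']
    symm
    apply h1
    apply RingHom.ext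
    intro a
    simp only [RingHom.comp_apply, RingHom.coe_coe]
    rw [RingEquiv.symm_apply_eq]
    apply Subtype.ext
    exact (η.Nmap_t_apply g a).symm

end Univ

end Groth.Agent.Helper20.EtaSpec
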