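import Mathlib
import Groth.Prelude.Def_W4c1chowmix47Eta
import Groth.Agent.Lib.Helper20.EtaSpec

namespace Groth.Agent.Helper20.EtaRel

open EtaPt Groth.Agent.Helper20.EtaBase Groth.Agent.Helper20.EtaSpec
open scoped TensorProduct nonZeroDivisors

universe u

variable (η : FieldEndo.{u})

section Basic

variable {A B C : Type u} [CommRing A] [CommRing B] [CommRing C]

theorem mem_rel_iff (f : A →+* B) (b : B) : b ∈ η.rel f ↔ ∃ x ∈ η.M A, η.Nmap f x = η.t B b := Iff.rfl

theorem Nmap_injective_of_comap_surjective (f : A →+* B)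
    (hs : Function.Surjective (PrimeSpectrum.comap f)) : Function.Injective (η.Nmap f) := by
  intro x y hxy
  funext p
  obtain ⟨q, rfl⟩ := hs p
  have := congrFun hxy q
  rw [Nmap_apply, Nmap_apply] at this
  exact (η.map _).injective this

theorem qRel_apply (f : A →+* B) (a : A) : ((η.qRel f a : η.rel f) : B) = f a := rfl

theorem qRel_injective_iff (f : A →+* B) : Function.Injective (η.qRel f) ↔ Function.Injective f := by
  constructor
  · intro h a b hab
    apply h
    exact Subtype.ext hab
  · intro h a b hab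
    apply h
    exact congrArg Subtype.val hab

theorem qRel_surjective_iff (f : A →+* B) :
    Function.Surjective (η.qRel f) ↔ ∀ b ∈ η.rel f, ∃ a, f a = b := by
  constructor
  · intro h b hb
    obtain ⟨a, ha⟩ := h ⟨b, hb⟩
    exact ⟨a, congrArg Subtype.val ha⟩
  · rintro h ⟨b, hb⟩
    obtain ⟨a, ha⟩ := h b hb
    exact ⟨a, Subtype.ext ha⟩

theorem range_le_rel {B' : Type u} [CommRing B'] (f₁ : A →+* B') (f₂ : B' →+* B)
    (h₁ : f₁.IsIntegral) (hN : Function.Bijective (η.Nmap f₁)) :
    f₂.range ≤ η.rel (f₂.comp f₁) := by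
  rintro _ ⟨b', rfl⟩
  rw [mem_rel_iff]
  obtain ⟨x, hx, hxb⟩ := (bijOn_Nmap_M η f₁ h₁ hN).2.2 (η.t_mem_M B' b')
  refine ⟨x, hx, ?_⟩
  rw [Nmap_comp, hxb, η.Nmap_t_apply]

theorem bijective_qRel_comp (f : A →+* B) (g : B →+* C)
    (hg : Function.Surjective (PrimeSpectrum.comap g))
    (h1 : Function.Bijective (η.qRel f)) (h2 : Function.Bijective (η.qRel g)) :
    Function.Bijective (η.qRel (g.comp f)) := by
  have hfi := (qRel_injective_iff η f).mp h1.1
  have hgi := (qRel_injective_iff η g).mp h2.1
  have hfs := (qRel_surjective_iff η f).mp h1.2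
  have hgs := (qRel_surjective_iff η g).mp h2.2
  refine ⟨(qRel_injective_iff η _).mpr ?_, (qRel_surjective_iff η _).mpr ?_⟩
  · rw [RingHom.coe_comp]; exact hgi.comp hfi
  · intro c hc
    obtain ⟨x, hx, hxc⟩ := (mem_rel_iff η _ c).mp hc
    rw [Nmap_comp] at hxc
    obtain ⟨b, hb⟩ := hgs c ⟨η.Nmap f x, Nmap_mem_M η f hx, hxc⟩
    have hb2 : b ∈ η.rel f := by
      refine ⟨x, hx, ?_⟩
      apply Nmap_injective_of_comap_surjective η g hg
      rw [hxc, η.Nmap_t_apply, hb]
    obtain ⟨a, ha⟩ := hfs b hb2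
    exact ⟨a, by rw [RingHom.comp_apply, ha, hb]⟩

theorem bijective_qRel_of_comp (f : A →+* B) (g : B →+* C) (hgi : Function.Injective g)
    (h : Function.Bijective (η.qRel (g.comp f))) : Function.Bijective (η.qRel f) := by
  have hi := (qRel_injective_iff η _).mp h.1
  have hs := (qRel_surjective_iff η _).mp h.2
  refine ⟨(qRel_injective_iff η _).mpr ?_, (qRel_surjective_iff η _).mpr ?_⟩
  · rw [RingHom.coe_comp] at hi
    exact Function.Injective.of_comp hi
  · intro b hb
    obtain ⟨x, hx, hxb⟩ := (mem_rel_iff η _ b).mp hb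
    obtain ⟨a, ha⟩ := hs (g b) ⟨x, hx, by rw [Nmap_comp, hxb, η.Nmap_t_apply]⟩
    exact ⟨a, hgi ha⟩

theorem bijective_qRel_of_pullback {A' B' : Type u} [CommRing A'] [CommRing B']
    (j : A →+* B) (f : A →+* A') (g : B →+* B') (j' : A' →+* B') (hcomm : j'.comp f = g.comp j)
    (hcart : ∀ (a' : A') (b : B), j' a' = g b → ∃! a : A, f a = a' ∧ j a = b)
    (h : Function.Bijective (η.qRel j')) : Function.Bijective (η.qRel j) := by
  have hi := (qRel_injective_iff η _).mp h.1
  have hs := (qRel_surjective_iff η _).mp h.2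
  refine ⟨(qRel_injective_iff η _).mpr ?_, (qRel_surjective_iff η _).mpr ?_⟩
  · intro a₁ a₂ h12
    have e1 : j' (f a₁) = g (j a₁) := DFunLike.congr_fun hcomm a₁
    have e2 : f a₂ = f a₁ := by
      apply hi
      have e3 : j' (f a₂) = g (j a₂) := DFunLike.congr_fun hcomm a₂
      rw [e1, e3, h12]
    obtain ⟨a, -, hu⟩ := hcart (f a₁) (j a₁) e1
    rw [hu a₁ ⟨rfl, rfl⟩, hu a₂ ⟨e2, h12.symm⟩]
  · intro b hb
    obtain ⟨x, hx, hxb⟩ := (mem_rel_iff η _ b).mp hb
    have : g b ∈ η.rel j' := by
      refine ⟨η.Nmap f x, Nmap_mem_M η f hx, ?_⟩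
      rw [← Nmap_comp, hcomm, Nmap_comp, hxb, η.Nmap_t_apply]
    obtain ⟨a', ha'⟩ := hs (g b) this
    obtain ⟨a, ⟨-, ha⟩, -⟩ := hcart a' b ha'
    exact ⟨a, ha⟩

end Basic

section Rho

variable {A B : Type u} [CommRing A] [CommRing B]

theorem eval₂_Nmap (f : A →+* B) (x : η.N A) (P : Polynomial A) :
    η.Nmap f (Polynomial.eval₂ (η.t A) x P) = Polynomial.eval₂ ((η.t B).comp f) (η.Nmap f x) P := by
  rw [Polynomial.hom_eval₂]
  congr 1
  apply RingHom.ext
  intro a
  exact η.Nmap_t_apply f a

/-- elements of `rel f` are integral over `A` -/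
theorem isIntegralElem_of_mem_rel (hA : (minimalPrimes A).Finite) (f : A →+* B) {b : B}
    (hb : b ∈ η.rel f) : f.IsIntegralElem b := by
  obtain ⟨x, hx, hxb⟩ := (mem_rel_iff η f b).mp hb
  obtain ⟨P, hP, h0⟩ := isIntegral_q η hA ⟨x, hx⟩
  have h1 := Polynomial.hom_eval₂ P (η.q A) (η.M A).subtype ⟨x, hx⟩
  have h2 : (η.M A).subtype.comp (η.q A) = η.t A := rfl
  rw [h2, h0, map_zero] at h1
  change 0 = Polynomial.eval₂ (η.t A) x P at h1
  have h3 := eval₂_Nmap η f x P
  rw [← h1, map_zero, hxb, ← Polynomial.hom_eval₂] at h3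
  obtain ⟨m, hm⟩ := (t_eq_zero_iff η _).mp h3.symm
  refine ⟨P ^ m, hP.pow m, ?_⟩
  rw [Polynomial.eval₂_pow, hm]

theorem isIntegral_qRel (hA : (minimalPrimes A).Finite) (f : A →+* B) : (η.qRel f).IsIntegral := by
  rintro ⟨b, hb⟩
  obtain ⟨P, hP, h0⟩ := isIntegralElem_of_mem_rel η hA f hb
  refine ⟨P, hP, ?_⟩
  apply Subtype.ext
  have h1 := Polynomial.hom_eval₂ P (η.qRel f) (η.rel f).subtype ⟨b, hb⟩
  have h2 : (η.rel f).subtype.comp (η.qRel f) = f := rfl
  rw [h2] at h1
  change (η.rel f).subtype _ = 0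
  rw [h1]
  exact h0

variable (f : A →+* B) (hs : Function.Surjective (PrimeSpectrum.comap f))

theorem exists_rho (b : η.rel f) : ∃ x : η.M A, η.Nmap f (x : η.N A) = η.t B b := by
  obtain ⟨x, hx, hxb⟩ := (mem_rel_iff η f b).mp b.2
  exact ⟨⟨x, hx⟩, hxb⟩

/-- the map from the relative ring to `M A` -/
noncomputable def rho (hs : Function.Surjective (PrimeSpectrum.comap f)) : η.rel f →+* η.M A where
  toFun b := Classical.choose (exists_rho η f b)
  map_one' := by
    apply Subtype.ext
    apply Nmap_injective_of_comap_surjective η f hs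
    rw [Classical.choose_spec (exists_rho η f 1)]
    simp
  map_mul' a b := by
    apply Subtype.ext
    apply Nmap_injective_of_comap_surjective η f hs
    rw [Classical.choose_spec (exists_rho η f (a * b))]
    simp only [Subring.coe_mul, map_mul]
    rw [Classical.choose_spec (exists_rho η f a), Classical.choose_spec (exists_rho η f b)]
  map_zero' := by
    apply Subtype.ext
    apply Nmap_injective_of_comap_surjective η f hs
    rw [Classical.choose_spec (exists_rho η f 0)]
    simp
  map_add' a b := by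
    apply Subtype.ext
    apply Nmap_injective_of_comap_surjective η f hs
    rw [Classical.choose_spec (exists_rho η f (a + b))]
    simp only [Subring.coe_add, map_add]
    rw [Classical.choose_spec (exists_rho η f a), Classical.choose_spec (exists_rho η f b)]

include hs

theorem rho_spec (b : η.rel f) : η.Nmap f ((rho η f hs b : η.M A) : η.N A) = η.t B b :=
  Classical.choose_spec (exists_rho η f b)

theorem rho_comp_qRel : (rho η f hs).comp (η.qRel f) = η.q A := by
  apply RingHom.ext
  intro a
  apply Subtype.ext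
  apply Nmap_injective_of_comap_surjective η f hs
  rw [RingHom.comp_apply, rho_spec]
  exact (η.Nmap_t_apply f a).symm

theorem isNilpotent_of_rho_eq_zero (b : η.rel f) (h : rho η f hs b = 0) : IsNilpotent b := by
  have h1 := rho_spec η f hs b
  rw [h] at h1
  simp only [ZeroMemClass.coe_zero, map_zero] at h1
  obtain ⟨m, hm⟩ := (t_eq_zero_iff η _).mp h1.symm
  exact ⟨m, Subtype.ext hm⟩

theorem isIntegral_rho (hA : (minimalPrimes A).Finite) : (rho η f hs).IsIntegral := by
  apply RingHom.IsIntegral.tower_top (η.qRel f)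
  rw [rho_comp_qRel]
  exact isIntegral_q η hA

theorem comap_rho_surjective (hA : (minimalPrimes A).Finite) :
    Function.Surjective (PrimeSpectrum.comap (rho η f hs)) := by
  intro Q
  letI := (rho η f hs).toAlgebra
  haveI : Algebra.IsIntegral (η.rel f) (η.M A) := ⟨isIntegral_rho η f hs hA⟩
  haveI := Q.isPrime
  obtain ⟨Q', -, hQ', hQ'Q⟩ := Ideal.exists_ideal_over_prime_of_isIntegral Q.asIdeal
    (⊥ : Ideal (η.M A)) (by
      intro b hb
      rw [Ideal.mem_comap, Ideal.mem_bot] at hb
      obtain ⟨m, hm⟩ := isNilpotent_of_rho_eq_zero η f hs b hb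
      exact Q.isPrime.mem_of_pow_mem m (by rw [hm]; exact Ideal.zero_mem _))
  exact ⟨⟨Q', hQ'⟩, PrimeSpectrum.ext hQ'Q⟩

theorem comap_qRel_bijective (hA : (minimalPrimes A).Finite) :
    Function.Bijective (PrimeSpectrum.comap (η.qRel f)) := by
  constructor
  · intro Q Q' h
    obtain ⟨Q₁, rfl⟩ := comap_rho_surjective η f hs hA Q
    obtain ⟨Q₁', rfl⟩ := comap_rho_surjective η f hs hA Q'
    congr 1
    apply (comap_q_bijective η hA).1
    have e : ∀ Q₂ : PrimeSpectrum (η.M A), PrimeSpectrum.comap (η.q A) Q₂ =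
        PrimeSpectrum.comap (η.qRel f) (PrimeSpectrum.comap (rho η f hs) Q₂) := by
      intro Q₂
      rw [← rho_comp_qRel η f hs]
      rfl
    rw [e, e, h]
  · intro p
    obtain ⟨q, rfl⟩ := hs p
    exact ⟨PrimeSpectrum.comap (η.rel f).subtype q, rfl⟩

theorem comap_rho_QP (hA : (minimalPrimes A).Finite) (Q : PrimeSpectrum (η.rel f)) :
    PrimeSpectrum.comap (rho η f hs) (QP η (PrimeSpectrum.comap (η.qRel f) Q)) = Q := by
  apply (comap_qRel_bijective η f hs hA).1
  have : PrimeSpectrum.comap (η.qRel f) (PrimeSpectrum.comap (rho η f hs)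
      (QP η (PrimeSpectrum.comap (η.qRel f) Q))) =
      PrimeSpectrum.comap (η.q A) (QP η (PrimeSpectrum.comap (η.qRel f) Q)) := by
    rw [← rho_comp_qRel η f hs]
    rfl
  rw [this, comap_QP]

/-- the factorization of `η` through the residue field extension of the relative ring -/
noncomputable def phiRel (hA : (minimalPrimes A).Finite) (Q : PrimeSpectrum (η.rel f)) :
    Q.asIdeal.ResidueField →+* η.obj (PrimeSpectrum.comap (η.qRel f) Q).asIdeal.ResidueField :=
  resLift Q ((prM η (PrimeSpectrum.comap (η.qRel f) Q)).comp (rho η f hs))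
    (congrArg PrimeSpectrum.asIdeal (comap_rho_QP η f hs hA Q))

theorem phiRel_comp_map (hA : (minimalPrimes A).Finite) (Q : PrimeSpectrum (η.rel f)) :
    (phiRel η f hs hA Q).comp (Ideal.ResidueField.map (PrimeSpectrum.comap (η.qRel f) Q).asIdeal
      Q.asIdeal (η.qRel f) rfl) = η.eta (PrimeSpectrum.comap (η.qRel f) Q).asIdeal.ResidueField := by
  apply Ideal.ResidueField.ringHom_ext
  ext a
  rw [RingHom.comp_apply, RingHom.comp_apply, RingHom.comp_apply, Ideal.ResidueField.map_algebraMap,
    phiRel, resLift_algebraMap, RingHom.comp_apply]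
  have := DFunLike.congr_fun (rho_comp_qRel η f hs) a
  rw [RingHom.comp_apply] at this
  rw [this]
  rfl

theorem bijective_Nmap_qRel (hA : (minimalPrimes A).Finite) :
    Function.Bijective (η.Nmap (η.qRel f)) :=
  Nmap_bijective_of η (η.qRel f) (comap_qRel_bijective η f hs hA)
    (fun Q => bijective_map_of_factor η _ (phiRel η f hs hA Q) (phiRel_comp_map η f hs hA Q))

end Rho

section IntCl

variable {A B C : Type u} [CommRing A] [CommRing B] [CommRing C]

/-- an element of `M C` killed by `N(g)` for an injective `g` is zero -/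
theorem eq_zero_of_Nmap_eq_zero_of_injective (g : C →+* B) (hg : Function.Injective g)
    {z : η.N C} (hz : z ∈ η.M C) (h : η.Nmap g z = 0) : z = 0 := by
  funext 𝔮
  obtain ⟨I, hI, hI𝔮⟩ := Ideal.exists_minimalPrimes_le (bot_le : (⊥ : Ideal C) ≤ 𝔮.asIdeal)
  obtain ⟨𝔮', h𝔮', hcomap⟩ := Ideal.exists_comap_eq_of_mem_minimalPrimes_of_injective hg I hI
  have hIprime : I.IsPrime := hI.1.1
  apply eq_zero_of_le η hz ⟨I, hIprime⟩ 𝔮 hI𝔮
  have h1 := congrFun h ⟨𝔮', h𝔮'⟩
  rw [Nmap_apply] at h1
  have h2 : z (PrimeSpectrum.comap g ⟨𝔮', h𝔮'⟩) = 0 := (map_eq_zero _).mp h1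
  exact apply_eq_zero_of_eq η z (PrimeSpectrum.ext hcomap.symm) h2

end IntCl

section IntCl2

variable (A B : Type u) [CommRing A] [CommRing B] [Algebra A B]

theorem rel_integralClosure (hA : (minimalPrimes A).Finite) :
    (η.rel (algebraMap A (integralClosure A B))).map (integralClosure A B).val.toRingHom =
      η.rel (algebraMap A B) := by
  have hcomp : ((integralClosure A B).val.toRingHom).comp (algebraMap A (integralClosure A B)) =
      algebraMap A B := by
    apply RingHom.ext
    intro a
    rfl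
  apply le_antisymm
  · rintro _ ⟨c, hc, rfl⟩
    obtain ⟨x, hx, hxc⟩ := (mem_rel_iff η _ c).mp hc
    refine ⟨x, hx, ?_⟩
    rw [← hcomp, Nmap_comp, hxc, η.Nmap_t_apply]
  · intro b hb
    obtain ⟨x, hx, hxb⟩ := (mem_rel_iff η _ b).mp hb
    have hbint : IsIntegral A b := isIntegralElem_of_mem_rel η hA (algebraMap A B) hb
    refine ⟨⟨b, hbint⟩, ?_, rfl⟩
    refine ⟨x, hx, ?_⟩
    have hz : η.Nmap (algebraMap A (integralClosure A B)) x -
        η.t (integralClosure A B) ⟨b, hbint⟩ ∈ η.M (integralClosure A B) :=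
      Subring.sub_mem _ (Nmap_mem_M η _ hx) (η.t_mem_M _ _)
    have := eq_zero_of_Nmap_eq_zero_of_injective η (integralClosure A B).val.toRingHom
      Subtype.val_injective hz (by
        rw [map_sub, ← Nmap_comp, hcomp, hxb, η.Nmap_t_apply]
        exact sub_self _)
    exact sub_eq_zero.mp this

end IntCl2

section FFlat

variable (A A' B : Type u) [CommRing A] [CommRing A'] [CommRing B]
    [Algebra A A'] [Algebra A B] [Module.FaithfullyFlat A A']

/-- faithfully flat descent of membership in the image -/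
theorem mem_range_of_tmul_eq (b : B) (a' : A') (h : a' ⊗ₜ[A] (1 : B) = (1 : A') ⊗ₜ[A] b) :
    ∃ a : A, algebraMap A B a = b := by
  let S : Submodule A B := LinearMap.range (Algebra.linearMap A B)
  have h1 : S.mkQ b = 0 := by
    apply Module.FaithfullyFlat.tensorProduct_mk_injective (A := A) (B := A') (B ⧸ S)
    rw [map_zero, TensorProduct.mk_apply]
    have h2 := congrArg (LinearMap.lTensor A' S.mkQ) h
    rw [LinearMap.lTensor_tmul, LinearMap.lTensor_tmul] at h2
    rw [← h2]
    have h3 : S.mkQ (1 : B) = 0 := by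
      rw [Submodule.mkQ_apply, Submodule.Quotient.mk_eq_zero]
      exact ⟨1, by simp⟩
    rw [h3, TensorProduct.tmul_zero]
  rw [Submodule.mkQ_apply, Submodule.Quotient.mk_eq_zero] at h1
  obtain ⟨a, ha⟩ := h1
  exact ⟨a, ha⟩

theorem bijective_qRel_of_faithfullyFlat
    (h : Function.Bijective (η.qRel (Algebra.TensorProduct.includeLeftRingHom : A' →+* A' ⊗[A] B))) :
    Function.Bijective (η.qRel (algebraMap A B)) := by
  have hi := (qRel_injective_iff η _).mp h.1
  have hs := (qRel_surjective_iff η _).mp h.2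
  have hcomp : (Algebra.TensorProduct.includeLeftRingHom : A' →+* A' ⊗[A] B).comp (algebraMap A A') =
      (Algebra.TensorProduct.includeRight : B →ₐ[A] A' ⊗[A] B).toRingHom.comp (algebraMap A B) := by
    apply RingHom.ext
    intro a
    simp only [RingHom.comp_apply, Algebra.TensorProduct.includeLeftRingHom_apply,
      AlgHom.toRingHom_eq_coe, RingHom.coe_coe, Algebra.TensorProduct.includeRight_apply]
    rw [Algebra.algebraMap_eq_smul_one, Algebra.algebraMap_eq_smul_one, TensorProduct.smul_tmul]
  refine ⟨(qRel_injective_iff η _).mpr ?_, (qRel_surjective_iff η _).mpr ?_⟩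
  · intro a₁ a₂ h12
    apply FaithfulSMul.algebraMap_injective A A'
    apply hi
    have e1 := DFunLike.congr_fun hcomp a₁
    have e2 := DFunLike.congr_fun hcomp a₂
    simp only [RingHom.comp_apply] at e1 e2
    rw [e1, e2, h12]
  · intro b hb
    obtain ⟨x, hx, hxb⟩ := (mem_rel_iff η _ b).mp hb
    have hmem : (Algebra.TensorProduct.includeRight : B →ₐ[A] A' ⊗[A] B) b ∈
        η.rel (Algebra.TensorProduct.includeLeftRingHom : A' →+* A' ⊗[A] B) := by
      refine ⟨η.Nmap (algebraMap A A') x, Nmap_mem_M η _ hx, ?_⟩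
      rw [← Nmap_comp, hcomp, Nmap_comp, hxb, η.Nmap_t_apply]
      rfl
    obtain ⟨a', ha'⟩ := hs _ hmem
    exact mem_range_of_tmul_eq A A' B b a' ha'

end FFlat

section FFlat2

variable (A A' : Type u) [CommRing A] [CommRing A'] [Algebra A A'] [Module.FaithfullyFlat A A']

theorem nonZeroDivisors_le_comap_of_flat :
    A⁰ ≤ (A'⁰).comap (algebraMap A A') := by
  intro s hs
  rw [Submonoid.mem_comap]
  have hreg : IsSMulRegular A' s := Module.Flat.isSMulRegular_of_nonZeroDivisors hs
  rw [mem_nonZeroDivisors_iff_right]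
  intro y hy
  apply hreg
  change s • y = s • 0
  rw [smul_zero, Algebra.smul_def, mul_comm]
  exact hy

/-- the induced map on total rings of fractions -/
noncomputable def fracMap : FractionRing A →+* FractionRing A' :=
  IsLocalization.map (FractionRing A') (algebraMap A A') (nonZeroDivisors_le_comap_of_flat A A')

theorem fracMap_algebraMap (a : A) :
    fracMap A A' (algebraMap A (FractionRing A) a) = algebraMap A' (FractionRing A') (algebraMap A A' a) :=
  IsLocalization.map_eq _ _

theorem fracMap_isIntegral (b : FractionRing A) (hb : IsIntegral A b) :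
    IsIntegral A' (fracMap A A' b) := by
  obtain ⟨P, hP, h0⟩ := hb
  refine ⟨P.map (algebraMap A A'), hP.map _, ?_⟩
  rw [Polynomial.eval₂_map]
  have h1 := Polynomial.hom_eval₂ P (algebraMap A (FractionRing A)) (fracMap A A') b
  rw [h0, map_zero] at h1
  rw [h1]
  congr 1
  apply RingHom.ext
  intro a
  exact (fracMap_algebraMap A A' a).symm

/-- the induced map on integral closures in the total rings of fractions -/
noncomputable def intClMap : integralClosure A (FractionRing A) →+* integralClosure A' (FractionRing A') :=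
  ((fracMap A A').comp (integralClosure A (FractionRing A)).val.toRingHom).codRestrict
    (integralClosure A' (FractionRing A')).toSubring (fun b => fracMap_isIntegral A A' b.1 b.2)

theorem intClMap_comp : (intClMap A A').comp (algebraMap A (integralClosure A (FractionRing A))) =
    (algebraMap A' (integralClosure A' (FractionRing A'))).comp (algebraMap A A') := by
  apply RingHom.ext
  intro a
  apply Subtype.ext
  exact fracMap_algebraMap A A' a

theorem bijective_qRel_integralClosure_of_faithfullyFlat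
    (h : Function.Bijective (η.qRel (algebraMap A' (integralClosure A' (FractionRing A'))))) :
    Function.Bijective (η.qRel (algebraMap A (integralClosure A (FractionRing A)))) := by
  have hs := (qRel_surjective_iff η _).mp h.2
  refine ⟨(qRel_injective_iff η _).mpr ?_, (qRel_surjective_iff η _).mpr ?_⟩
  · intro a₁ a₂ h12
    apply IsFractionRing.injective A (FractionRing A)
    exact congrArg Subtype.val h12
  · intro b hb
    obtain ⟨x, hx, hxb⟩ := (mem_rel_iff η _ b).mp hb
    have hmem : intClMap A A' b ∈ η.rel (algebraMap A' (integralClosure A' (FractionRing A'))) := by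
      refine ⟨η.Nmap (algebraMap A A') x, Nmap_mem_M η _ hx, ?_⟩
      rw [← Nmap_comp, ← intClMap_comp, Nmap_comp, hxb, η.Nmap_t_apply]
    obtain ⟨a', ha'⟩ := hs _ hmem
    have ha'2 : algebraMap A' (FractionRing A') a' = fracMap A A' (b : FractionRing A) :=
      congrArg Subtype.val ha'
    obtain ⟨a, s, hbs⟩ := IsLocalization.exists_mk'_eq A⁰ (b : FractionRing A)
    have h1 : (b : FractionRing A) * algebraMap A (FractionRing A) s = algebraMap A (FractionRing A) a := by
      rw [← hbs, IsLocalization.mk'_spec]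
    have h2 := congrArg (fracMap A A') h1
    rw [map_mul, fracMap_algebraMap, fracMap_algebraMap, ← ha'2, ← map_mul] at h2
    have h3 : a' * algebraMap A A' s = algebraMap A A' a :=
      IsFractionRing.injective A' (FractionRing A') h2
    have h4 : a ∈ (Ideal.span {(s : A)} : Ideal A) := by
      rw [← Ideal.comap_map_eq_self_of_faithfullyFlat (B := A') (Ideal.span {(s : A)}), Ideal.mem_comap,
        Ideal.map_span, Set.image_singleton, Ideal.mem_span_singleton]
      exact ⟨a', by rw [← h3, mul_comm]⟩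
    obtain ⟨c, hc⟩ := Ideal.mem_span_singleton.mp h4
    refine ⟨c, Subtype.ext ?_⟩
    change algebraMap A (FractionRing A) c = (b : FractionRing A)
    have hsu : IsUnit (algebraMap A (FractionRing A) s) := IsLocalization.map_units (FractionRing A) s
    apply hsu.mul_right_cancel
    rw [h1, ← map_mul, hc, mul_comm]

end FFlat2

end Groth.Agent.Helper20.EtaRel
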