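import Mathlib
import Groth.Prelude.Def_W4c1chowmix47Eta
import Groth.Prelude.Def_HTop2
import Groth.Agent.Lib.Helper20.EtaSpec
import Groth.Agent.Lib.Helper20.EtaRel
import Groth.Agent.Lib.Helper11.EvalBridge

namespace Groth.Agent.Helper20.EtaSN

open EtaPt Groth.Agent.Helper20.EtaBase Groth.Agent.Helper20.EtaSpec Groth.Agent.Helper20.EtaRel
open Groth.Agent.Helper11.UH
open CategoryTheory AlgebraicGeometry

universe u

section Bridge

variable {A C : Type u} [CommRing A] [CommRing C]

/-- every element of the residue field is a quotient of images of ring elements -/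
theorem residue_div_surjective (Q : PrimeSpectrum C) (z : Q.asIdeal.ResidueField) :
    ∃ c d : C, d ∉ Q.asIdeal ∧ z = algebraMap C _ c / algebraMap C _ d := by
  obtain ⟨x, y, hy, hxy⟩ := IsFractionRing.div_surjective (A := C ⧸ Q.asIdeal) z
  obtain ⟨c, rfl⟩ := Ideal.Quotient.mk_surjective x
  obtain ⟨d, rfl⟩ := Ideal.Quotient.mk_surjective y
  refine ⟨c, d, ?_, ?_⟩
  · intro hd
    have : (Ideal.Quotient.mk Q.asIdeal d) = 0 := Ideal.Quotient.eq_zero_iff_mem.mpr hd
    exact nonZeroDivisors.ne_zero hy this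
  · rw [← hxy, Ideal.algebraMap_quotient_residueField_mk, Ideal.algebraMap_quotient_residueField_mk]

theorem algebraMap_residue_eq_zero_iff (Q : PrimeSpectrum C) (c : C) :
    algebraMap C Q.asIdeal.ResidueField c = 0 ↔ c ∈ Q.asIdeal :=
  Ideal.algebraMap_residueField_eq_zero

/-- `RFTriv` is surjectivity of the residue field maps -/
theorem rftriv_iff_surjective (ψ : A →+* C) : RFTriv ψ ↔ ∀ Q : PrimeSpectrum C,
    Function.Surjective (Ideal.ResidueField.map (PrimeSpectrum.comap ψ Q).asIdeal Q.asIdeal ψ rfl) := by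
  constructor
  · intro h Q z
    have key : ∀ c : C, ∃ w, Ideal.ResidueField.map (PrimeSpectrum.comap ψ Q).asIdeal Q.asIdeal ψ rfl w =
        algebraMap C _ c := by
      intro c
      obtain ⟨a, s, hs, hsa⟩ := h Q c
      refine ⟨algebraMap A _ a / algebraMap A _ s, ?_⟩
      rw [map_div₀, Ideal.ResidueField.map_algebraMap, Ideal.ResidueField.map_algebraMap]
      have h0 : algebraMap C Q.asIdeal.ResidueField (ψ s) ≠ 0 := by
        rw [Ne, algebraMap_residue_eq_zero_iff]; exact hs
      rw [div_eq_iff h0]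
      have := (algebraMap_residue_eq_zero_iff Q _).mpr hsa
      rw [map_sub, map_mul, sub_eq_zero] at this
      rw [mul_comm, this]
    obtain ⟨c, d, hd, rfl⟩ := residue_div_surjective Q z
    obtain ⟨w1, hw1⟩ := key c
    obtain ⟨w2, hw2⟩ := key d
    exact ⟨w1 / w2, by rw [map_div₀, hw1, hw2]⟩
  · intro h Q c
    obtain ⟨w, hw⟩ := h Q (algebraMap C _ c)
    obtain ⟨a, s, hs, rfl⟩ := residue_div_surjective (PrimeSpectrum.comap ψ Q) w
    refine ⟨a, s, hs, ?_⟩
    rw [← algebraMap_residue_eq_zero_iff, map_sub, map_mul, sub_eq_zero, ← hw, map_div₀,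
      Ideal.ResidueField.map_algebraMap, Ideal.ResidueField.map_algebraMap]
    have h0 : algebraMap C Q.asIdeal.ResidueField (ψ s) ≠ 0 := by
      rw [Ne, algebraMap_residue_eq_zero_iff]; exact hs
    field_simp

theorem residueFieldsIso_iff (ψ : A →+* C) :
    HTop.ResidueFieldsIso (Spec.map (CommRingCat.ofHom ψ)) ↔ RFTriv ψ := by
  rw [← rftriv_iff]
  constructor
  · intro h x
    have := h x
    exact ((ConcreteCategory.isIso_iff_bijective _).mp this).2
  · intro h x
    rw [ConcreteCategory.isIso_iff_bijective]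
    exact ⟨((Spec.map (CommRingCat.ofHom ψ)).residueFieldMap x).hom.injective, h x⟩

theorem comap_injective_of_uhom (ψ : A →+* C) (h : UHom ψ) :
    Function.Injective (PrimeSpectrum.comap ψ) := by
  have h1 := (isUnivHomeo_spec_iff' ψ).mpr h
  have h2 : UniversallyInjective (Spec.map (CommRingCat.ofHom ψ)) := ((isUnivHomeo_iff _).mp h1).2.1
  exact (Spec.map (CommRingCat.ofHom ψ)).injective

end Bridge

section Bridge2

variable {A C : Type u} [CommRing A] [CommRing C]

theorem uhom_of_bijective (ψ : A →+* C) (hint : ψ.IsIntegral)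
    (hb : Function.Bijective (PrimeSpectrum.comap ψ))
    (hres : ∀ Q : PrimeSpectrum C, Function.Surjective
      (Ideal.ResidueField.map (PrimeSpectrum.comap ψ Q).asIdeal Q.asIdeal ψ rfl)) : UHom ψ := by
  refine ⟨hint, hb.2, ?_⟩
  intro K _ g₁ g₂ h
  have hpt : pt g₁ = pt g₂ := by
    apply hb.1
    apply PrimeSpectrum.ext
    ext a
    change ψ a ∈ RingHom.ker g₁ ↔ ψ a ∈ RingHom.ker g₂
    rw [RingHom.mem_ker, RingHom.mem_ker, ← RingHom.comp_apply, ← RingHom.comp_apply, h]
  have hk : RingHom.ker g₂ = (pt g₁).asIdeal := by rw [hpt]; rfl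
  have e : resLift (pt g₁) g₁ rfl = resLift (pt g₁) g₂ hk := by
    apply RingHom.ext
    intro z
    obtain ⟨w, rfl⟩ := hres _ z
    rw [← RingHom.comp_apply, ← RingHom.comp_apply]
    congr 1
    apply Ideal.ResidueField.ringHom_ext
    apply RingHom.ext
    intro a
    rw [RingHom.comp_apply, RingHom.comp_apply, RingHom.comp_apply, RingHom.comp_apply,
      Ideal.ResidueField.map_algebraMap, resLift_algebraMap, resLift_algebraMap,
      ← RingHom.comp_apply, h, RingHom.comp_apply]
  rw [← resLift_comp_algebraMap (pt g₁) g₁ rfl, ← resLift_comp_algebraMap (pt g₁) g₂ hk, e]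

theorem surjective_of_factor_ident {K K' : Type u} [Field K] [Field K'] (i : K →+* K')
    (φ : K' →+* FieldEndo.ident.{u}.obj K) (h : φ.comp i = FieldEndo.ident.{u}.eta K) :
    Function.Surjective i := by
  intro z
  refine ⟨φ z, φ.injective ?_⟩
  have := DFunLike.congr_fun h (φ z)
  exact this

theorem bijective_Nmap_ident (ψ : A →+* C) (hb : Function.Bijective (PrimeSpectrum.comap ψ))
    (hres : ∀ Q : PrimeSpectrum C, Function.Surjective
      (Ideal.ResidueField.map (PrimeSpectrum.comap ψ Q).asIdeal Q.asIdeal ψ rfl)) :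
    Function.Bijective (FieldEndo.ident.{u}.Nmap ψ) :=
  Nmap_bijective_of FieldEndo.ident.{u} ψ hb (fun Q => ⟨RingHom.injective _, hres Q⟩)

theorem sn_props (ψ : A →+* C) (h1 : FlatMor.IsUnivHomeo (Spec.map (CommRingCat.ofHom ψ)))
    (h2 : HTop.ResidueFieldsIso (Spec.map (CommRingCat.ofHom ψ))) :
    ψ.IsIntegral ∧ Function.Bijective (FieldEndo.ident.{u}.Nmap ψ) := by
  have hU := (isUnivHomeo_spec_iff' ψ).mp h1
  have hR := (rftriv_iff_surjective ψ).mp ((residueFieldsIso_iff ψ).mp h2)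
  exact ⟨hU.1, bijective_Nmap_ident ψ ⟨comap_injective_of_uhom ψ hU, hU.2.1⟩ hR⟩

theorem sn_of (ψ : A →+* C) (hint : ψ.IsIntegral)
    (hb : Function.Bijective (PrimeSpectrum.comap ψ))
    (hres : ∀ Q : PrimeSpectrum C, Function.Surjective
      (Ideal.ResidueField.map (PrimeSpectrum.comap ψ Q).asIdeal Q.asIdeal ψ rfl)) :
    FlatMor.IsUnivHomeo (Spec.map (CommRingCat.ofHom ψ)) ∧
      HTop.ResidueFieldsIso (Spec.map (CommRingCat.ofHom ψ)) :=
  ⟨(isUnivHomeo_spec_iff' ψ).mpr (uhom_of_bijective ψ hint hb hres),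
    (residueFieldsIso_iff ψ).mpr ((rftriv_iff_surjective ψ).mpr hres)⟩

end Bridge2

section Final

variable (A : Type u) [CommRing A]

theorem isRingSN_q_ident (hA : (minimalPrimes A).Finite) :
    HTop.IsRingSN (FieldEndo.ident.{u}.q A) := by
  refine ⟨sn_of _ (isIntegral_q _ hA) (comap_q_bijective _ hA) (fun Q =>
    surjective_of_factor_ident _ (phiQ _ hA Q) (phiQ_comp_map _ hA Q)), ?_⟩
  intro C _ ψ h1 h2
  obtain ⟨hint, hN⟩ := sn_props ψ h1 h2
  exact existsUnique_lift_q _ hA C ψ hint hN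

theorem rel_ident_isRelSN (B : Type u) [CommRing B] [Algebra A B] (hA : (minimalPrimes A).Finite)
    (hs : Function.Surjective (PrimeSpectrum.comap (algebraMap A B))) :
    (FlatMor.IsUnivHomeo (Spec.map (CommRingCat.ofHom (FieldEndo.ident.{u}.qRel (algebraMap A B)))) ∧
      HTop.ResidueFieldsIso (Spec.map (CommRingCat.ofHom (FieldEndo.ident.{u}.qRel (algebraMap A B))))) ∧
    ∀ C : Subalgebra A B,
      FlatMor.IsUnivHomeo (Spec.map (CommRingCat.ofHom (algebraMap A C))) →
      HTop.ResidueFieldsIso (Spec.map (CommRingCat.ofHom (algebraMap A C))) →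
      C.toSubring ≤ FieldEndo.ident.{u}.rel (algebraMap A B) := by
  refine ⟨sn_of _ (isIntegral_qRel _ hA _) (comap_qRel_bijective _ _ hs hA) (fun Q =>
    surjective_of_factor_ident _ (phiRel _ _ hs hA Q) (phiRel_comp_map _ _ hs hA Q)), ?_⟩
  intro C h1 h2
  obtain ⟨hint, hN⟩ := sn_props _ h1 h2
  have := range_le_rel FieldEndo.ident.{u} (algebraMap A C) C.val.toRingHom hint hN
  intro x hx
  exact this ⟨⟨x, hx⟩, rfl⟩

end Final

end Groth.Agent.Helper20.EtaSN
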