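import Mathlib
import Groth.Agent.Lib.Helper25.ASCover

/-!
The twisted substitution action `h ↦ u^a · h(t·u)` on power series: valuation jumps (helper20).
-/

set_option autoImplicit false
universe u

namespace Groth.Agent.Helper20.ASPow

open PowerSeries Groth.Agent.Helper25.ASCover

variable {k : Type u} [Field k]

/-- the substitution `t ↦ t·u` -/
noncomputable def sig (u : PowerSeries k) : PowerSeries k →ₐ[k] PowerSeries k :=
  sg (X * u) (HasSubst.of_constantCoeff_zero' (by simp))

theorem sig_apply (u f : PowerSeries k) : sig u f = subst (X * u) f := sg_apply _ _ _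

theorem sig_X (u : PowerSeries k) : sig u X = X * u := sg_X _ _

/-- the twisted action `h ↦ U^a · h(t·u)` -/
noncomputable def act (U : (PowerSeries k)ˣ) (u : PowerSeries k) (a : ℤ) :
    PowerSeries k →ₗ[k] PowerSeries k :=
  LinearMap.mulLeft k ((U ^ a : (PowerSeries k)ˣ) : PowerSeries k) ∘ₗ (sig u).toLinearMap

theorem act_apply (U : (PowerSeries k)ˣ) (u : PowerSeries k) (a : ℤ) (h : PowerSeries k) :
    act U u a h = ((U ^ a : (PowerSeries k)ˣ) : PowerSeries k) * sig u h := rfl

/-- `τ = act - 1` -/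
noncomputable def tau (U : (PowerSeries k)ˣ) (u : PowerSeries k) (a : ℤ) :
    PowerSeries k →ₗ[k] PowerSeries k :=
  act U u a - LinearMap.id

theorem tau_apply (U : (PowerSeries k)ˣ) (u : PowerSeries k) (a : ℤ) (h : PowerSeries k) :
    tau U u a h = ((U ^ a : (PowerSeries k)ˣ) : PowerSeries k) * sig u h - h := rfl

section

variable (U : (PowerSeries k)ˣ) (u : PowerSeries k) (hUu : (U : PowerSeries k) = u)

include hUu

theorem act_X_pow_mul (a : ℤ) (j : ℕ) (h : PowerSeries k) :
    act U u a (X ^ j * h) = X ^ j * act U u (a + j) h := by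
  rw [act_apply, act_apply, map_mul, map_pow, sig_X, zpow_add, Units.val_mul, zpow_natCast,
    Units.val_pow_eq_pow_val, hUu]
  ring

theorem tau_X_pow_mul (a : ℤ) (j : ℕ) (h : PowerSeries k) :
    tau U u a (X ^ j * h) = X ^ j * tau U u (a + j) h := by
  have h1 := act_X_pow_mul U u hUu a j h
  rw [act_apply, act_apply] at h1
  rw [tau_apply, tau_apply, h1]
  ring

variable {n : ℕ} (hn : 0 < n) (hnk : (n : k) ≠ 0) (hu1 : constantCoeff u = 1)
  (hun : u ^ n * (1 + X ^ n) = 1)

include hn hnk hu1 hun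

theorem near_U : Near n (U : PowerSeries k) (-(n : k)⁻¹) := by
  rw [hUu]
  exact near_u hn hnk hu1 hun

theorem tau_base (a : ℤ) (h : PowerSeries k) :
    ∃ E : PowerSeries k, tau U u a h = X ^ n * E ∧
      constantCoeff E = ((a : k) * (-(n : k)⁻¹)) * constantCoeff h := by
  obtain ⟨W, hW, hW0⟩ := near_zpow hn U (near_U U u hUu hn hnk hu1 hun) a
  obtain ⟨V, hV, -⟩ := near_u hn hnk hu1 hun
  have hXu0 : constantCoeff (X * u) = 0 := by simp
  have hs : HasSubst (X * u) := HasSubst.of_constantCoeff_zero' hXu0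
  have hdiff : (X : PowerSeries k) ^ (n + 1) ∣ X * u - X := ⟨V, by rw [hV]; ring⟩
  obtain ⟨Q, hQ⟩ := subst_congr_mod hs HasSubst.X' (n + 1) hdiff h
  rw [X_subst] at hQ
  refine ⟨W * h + X * Q * (1 + X ^ n * W), ?_, ?_⟩
  · rw [tau_apply, sig_apply, hW]
    linear_combination (1 + X ^ n * W) * hQ
  · simp [hW0]

theorem tau_jump (a : ℤ) (J : ℕ) (r : PowerSeries k) :
    ∃ E : PowerSeries k, tau U u a (X ^ J * r) = X ^ (J + n) * E ∧
      constantCoeff E = ((((a + J : ℤ)) : k) * (-(n : k)⁻¹)) * constantCoeff r := by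
  obtain ⟨E, hE, hE0⟩ := tau_base U u hUu hn hnk hu1 hun (a + J) r
  refine ⟨E, ?_, ?_⟩
  · rw [tau_X_pow_mul U u hUu, hE, pow_add]
    ring
  · rw [hE0]

theorem tau_iterate (a : ℤ) (J : ℕ) (r : PowerSeries k) (i : ℕ) :
    ∃ E : PowerSeries k, (tau U u a)^[i] (X ^ J * r) = X ^ (J + i * n) * E ∧
      constantCoeff E = (∏ l ∈ Finset.range i, ((((a + J + l * n : ℤ)) : k) * (-(n : k)⁻¹))) *
        constantCoeff r := by
  induction i with
  | zero => exact ⟨r, by simp, by simp⟩
  | succ i ih =>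
    obtain ⟨E, hE, hE0⟩ := ih
    obtain ⟨E', hE', hE0'⟩ := tau_jump U u hUu hn hnk hu1 hun a (J + i * n) E
    refine ⟨E', ?_, ?_⟩
    · rw [Function.iterate_succ_apply', hE, hE']
      congr 1
      ring
    · rw [hE0', hE0, Finset.prod_range_succ]
      push_cast
      ring

end

end Groth.Agent.Helper20.ASPow
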