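import Mathlib
import Groth.Agent.Lib.Helper25.ASCover
import Groth.Agent.Lib.Helper20.ASPowA

/-!
The twisted substitution action on power series in characteristic `p`: the norm, the key
non-vanishing lemma and solvability of `τ h = tⁿ z` (helper20).
-/

set_option autoImplicit false
universe u

namespace Groth.Agent.Helper20.ASPow

open PowerSeries Groth.Agent.Helper25.ASCover

variable {k : Type u} [Field k]

section charp

variable (p : ℕ) [Fact p.Prime] [CharP k p]

theorem geom_eq_pow : (∑ j ∈ Finset.range p, (Polynomial.X : Polynomial k) ^ j) =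
    (Polynomial.X - 1) ^ (p - 1) := by
  have hp := (Fact.out : p.Prime).pos
  have h1 : (Polynomial.X - 1 : Polynomial k) * ∑ j ∈ Finset.range p, Polynomial.X ^ j =
      Polynomial.X ^ p - 1 := mul_geom_sum _ _
  have h2 : (Polynomial.X - 1 : Polynomial k) ^ p = Polynomial.X ^ p - 1 := by
    rw [sub_pow_char, one_pow]
  have h3 : (Polynomial.X - 1 : Polynomial k) ≠ 0 := by
    have := Polynomial.X_sub_C_ne_zero (1 : k)
    simpa using this
  apply mul_left_cancel₀ h3
  rw [h1, ← h2, ← pow_succ']
  congr 1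
  omega

theorem end_geom_eq_pow {M : Type*} [AddCommGroup M] [Module k M] (T : Module.End k M) :
    ∑ j ∈ Finset.range p, T ^ j = (T - 1) ^ (p - 1) := by
  have := congrArg (Polynomial.aeval T) (geom_eq_pow (k := k) p)
  simpa using this

theorem end_sub_one_pow {M : Type*} [AddCommGroup M] [Module k M] (T : Module.End k M) :
    (T - 1) ^ p = T ^ p - 1 := by
  have h2 : (Polynomial.X - 1 : Polynomial k) ^ p = Polynomial.X ^ p - 1 := by
    rw [sub_pow_char, one_pow]
  have := congrArg (Polynomial.aeval T) h2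
  simpa using this

end charp

section

variable (p : ℕ) [Fact p.Prime] [CharP k p]
variable (U : (PowerSeries k)ˣ) (u : PowerSeries k) (hUu : (U : PowerSeries k) = u)
variable {n : ℕ} (hn : 0 < n) (hpn : ¬ p ∣ n) (hu1 : constantCoeff u = 1)
  (hun : u ^ n * (1 + X ^ n) = 1)

include hUu hn hpn hu1 hun

theorem n_ne_zero : (n : k) ≠ 0 := fun h0 => hpn ((CharP.cast_eq_zero_iff k p n).mp h0)

/-- key lemma: an element whose valuation is `≡ n` modulo `p` is not killed by the norm -/
theorem iterate_ne_zero (a : ℤ) (J : ℕ) (r : PowerSeries k) (hr : constantCoeff r ≠ 0)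
    (hdiv : (p : ℤ) ∣ a + J - n) : (tau U u a)^[p - 1] (X ^ J * r) ≠ 0 := by
  have hnk := n_ne_zero p U u hUu hn hpn hu1 hun
  obtain ⟨E, hE, hE0⟩ := tau_iterate U u hUu hn hnk hu1 hun a J r (p - 1)
  rw [hE]
  have hE1 : constantCoeff E ≠ 0 := by
    rw [hE0]
    refine mul_ne_zero ?_ hr
    rw [Finset.prod_ne_zero_iff]
    intro l hl
    rw [Finset.mem_range] at hl
    refine mul_ne_zero ?_ (neg_ne_zero.mpr (inv_ne_zero hnk))
    intro h0
    have h1 := (CharP.intCast_eq_zero_iff k p _).mp h0
    have h2 : (p : ℤ) ∣ ((l + 1) * n : ℕ) := by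
      have : (((l + 1) * n : ℕ) : ℤ) = (a + J + l * n) - (a + J - n) := by push_cast; ring
      rw [this]
      exact dvd_sub h1 hdiv
    rw [Int.natCast_dvd_natCast] at h2
    rcases (Nat.Prime.dvd_mul (Fact.out : p.Prime)).mp h2 with h3 | h3
    · have := Nat.le_of_dvd (by omega) h3
      omega
    · exact hpn h3
  intro h0
  rcases mul_eq_zero.mp h0 with h | h
  · exact absurd h (pow_ne_zero _ X_ne_zero)
  · rw [h, map_zero] at hE1
    exact hE1 rfl

theorem tau_iterate_X_pow_mul (a : ℤ) (j : ℕ) (h : PowerSeries k) (i : ℕ) :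
    (tau U u a)^[i] (X ^ j * h) = X ^ j * (tau U u (a + j))^[i] h := by
  induction i with
  | zero => rfl
  | succ i ih =>
    rw [Function.iterate_succ_apply', ih, tau_X_pow_mul U u hUu, Function.iterate_succ_apply']

variable (hper : ∀ (b : ℤ) (h : PowerSeries k), (act U u b)^[p] h = h)

include hper

theorem tau_iterate_p (b : ℤ) (h : PowerSeries k) : (tau U u b)^[p] h = 0 := by
  have h1 : (tau U u b) ^ p = (act U u b) ^ p - 1 := by
    have := end_sub_one_pow (k := k) p (act U u b)
    exact this
  have h2 : (act U u b) ^ p = 1 := by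
    apply LinearMap.ext
    intro x
    rw [Module.End.pow_apply, hper]
    rfl
  rw [← Module.End.pow_apply, h1, h2, sub_self]
  rfl

/-- solvability: if the norm kills `z` (for the twist `a`) then `tⁿ z` is in the image of `τ` for the
twist `a - n`. -/
theorem exists_solution (a : ℤ) (z : PowerSeries k) (hz : (tau U u a)^[p - 1] z = 0) :
    ∃ h : PowerSeries k, tau U u (a - n) h = X ^ n * z := by
  classical
  have hnk := n_ne_zero p U u hUu hn hpn hu1 hun
  have hp1 : p - 1 + 1 = p := Nat.sub_add_cancel (Fact.out : p.Prime).pos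
  set T := tau U u (a - n) with hT
  have hNT : ∀ x, T^[p - 1] (T x) = 0 := by
    intro x
    rw [← Function.iterate_succ_apply, Nat.succ_eq_add_one, hp1]
    exact tau_iterate_p p U u hUu hn hpn hu1 hun hper _ x
  have hNlin : ∀ x y, T^[p - 1] (x - y) = T^[p - 1] x - T^[p - 1] y := by
    intro x y
    simp only [← Module.End.pow_apply, map_sub]
  have step : ∀ (j : ℕ) (r : PowerSeries k), ∃ η : k,
      (T^[p - 1] r = 0 ∧ X ^ (j + n) ∣ r) → X ^ (j + n + 1) ∣ r - T (X ^ j * C η) := by
    intro j r
    by_cases hinv : T^[p - 1] r = 0 ∧ X ^ (j + n) ∣ r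
    · obtain ⟨hN, r', hr'⟩ := hinv
      by_cases hbad : (p : ℤ) ∣ a - n + j
      · refine ⟨0, fun _ => ?_⟩
        have hc : constantCoeff r' = 0 := by
          by_contra hne
          have := iterate_ne_zero p U u hUu hn hpn hu1 hun (a - n) (j + n) r' hne (by
            have : a - n + ((j + n : ℕ) : ℤ) - n = a - n + j := by push_cast; ring
            rw [this]; exact hbad)
          rw [← hr'] at this
          exact this hN
        obtain ⟨r'', hr''⟩ := X_dvd_iff.mpr hc
        refine ⟨r'', ?_⟩
        rw [map_zero, mul_zero, map_zero, sub_zero, hr', hr'', pow_succ]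
        ring
      · have hne : ((((a - n + j : ℤ)) : k) * (-(n : k)⁻¹)) ≠ 0 := by
          refine mul_ne_zero ?_ (neg_ne_zero.mpr (inv_ne_zero hnk))
          intro h0
          exact hbad ((CharP.intCast_eq_zero_iff k p _).mp h0)
        refine ⟨constantCoeff r' / ((((a - n + j : ℤ)) : k) * (-(n : k)⁻¹)), fun _ => ?_⟩
        obtain ⟨E, hE, hE0⟩ := tau_jump U u hUu hn hnk hu1 hun (a - n) j
          (C (constantCoeff r' / ((((a - n + j : ℤ)) : k) * (-(n : k)⁻¹))))
        rw [← hT] at hE
        have hc : constantCoeff (r' - E) = 0 := by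
          rw [map_sub, hE0, constantCoeff_C, mul_div_cancel₀ _ hne, sub_self]
        obtain ⟨r'', hr''⟩ := X_dvd_iff.mpr hc
        refine ⟨r'', ?_⟩
        rw [hE, hr', ← mul_sub, hr'', pow_succ]
        ring
    · exact ⟨0, fun h => absurd h hinv⟩
  choose eta heta using step
  let rseq : ℕ → PowerSeries k := fun j =>
    Nat.rec (X ^ n * z) (fun j r => r - T (X ^ j * C (eta j r))) j
  have rseq_zero : rseq 0 = X ^ n * z := rfl
  have rseq_succ : ∀ j, rseq (j + 1) = rseq j - T (X ^ j * C (eta j (rseq j))) := fun j => rfl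
  have hinv : ∀ j, T^[p - 1] (rseq j) = 0 ∧ X ^ (j + n) ∣ rseq j := by
    intro j
    induction j with
    | zero =>
      refine ⟨?_, ?_⟩
      · rw [rseq_zero, hT, tau_iterate_X_pow_mul p U u hUu hn hpn hu1 hun]
        have : a - n + (n : ℤ) = a := by ring
        rw [this, hz, mul_zero]
      · rw [rseq_zero, zero_add]
        exact Dvd.intro _ rfl
    | succ j ih =>
      refine ⟨?_, ?_⟩
      · rw [rseq_succ, hNlin, ih.1, hNT, sub_zero]
      · have := heta j (rseq j) ih
        rw [rseq_succ]
        have e : j + 1 + n = j + n + 1 := by ring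
        rw [e]
        exact this
  let h : PowerSeries k := PowerSeries.mk fun j => eta j (rseq j)
  have hpart : ∀ J, X ^ n * z - rseq J =
      T (∑ j ∈ Finset.range J, X ^ j * C (eta j (rseq j))) := by
    intro J
    induction J with
    | zero => simp [rseq_zero]
    | succ J ih =>
      rw [Finset.sum_range_succ, map_add, ← ih, rseq_succ]
      ring
  have hdiv : ∀ J, X ^ J ∣ h - ∑ j ∈ Finset.range J, X ^ j * C (eta j (rseq j)) := by
    intro J
    rw [X_pow_dvd_iff]
    intro m hm
    rw [map_sub, map_sum, coeff_mk]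
    have : ∀ j ∈ Finset.range J, coeff m ((X : PowerSeries k) ^ j * C (eta j (rseq j))) =
        if m = j then eta j (rseq j) else 0 := by
      intro j _
      rw [mul_comm, coeff_C_mul, coeff_X_pow]
      split_ifs <;> simp
    rw [Finset.sum_congr rfl this, Finset.sum_ite_eq, if_pos (Finset.mem_range.mpr hm), sub_self]
  refine ⟨h, ?_⟩
  have hall : ∀ J, X ^ (J + n) ∣ T h - X ^ n * z := by
    intro J
    obtain ⟨w, hw⟩ := hdiv J
    have e1 : T h - X ^ n * z = T (X ^ J * w) - rseq J := by
      have : h = X ^ J * w + ∑ j ∈ Finset.range J, X ^ j * C (eta j (rseq j)) := by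
        rw [← hw]; ring
      conv_lhs => rw [this]
      rw [map_add, ← hpart]
      ring
    rw [e1]
    obtain ⟨E, hE, -⟩ := tau_jump U u hUu hn hnk hu1 hun (a - n) J w
    rw [← hT] at hE
    rw [hE]
    exact dvd_sub (Dvd.intro _ rfl) (hinv J).2
  have : T h - X ^ n * z = 0 := by
    ext m
    rw [map_zero]
    have := X_pow_dvd_iff.mp (hall (m + 1)) m (by omega)
    exact this
  exact sub_eq_zero.mp this

end

end Groth.Agent.Helper20.ASPow
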