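import Mathlib
import Groth.Agent.Lib.Helper25.ASCover
import Groth.Agent.Lib.Helper20.ASPowA
import Groth.Agent.Lib.Helper20.ASPowB

/-!
The twisted substitution action on power series: periodicity, the classes `c_m`, spanning (helper20).
-/

set_option autoImplicit false
universe u

namespace Groth.Agent.Helper20.ASPow

open PowerSeries Groth.Agent.Helper25.ASCover

variable {k : Type u} [Field k]

section periodic

variable (U : (PowerSeries k)ˣ) (u : PowerSeries k) (hUu : (U : PowerSeries k) = u)

/-- the units `V_j = ∏_{l<j} σ^l(U)` -/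
noncomputable def V : ℕ → (PowerSeries k)ˣ
  | 0 => 1
  | (j + 1) => U * Units.map ((sig u : PowerSeries k →ₐ[k] PowerSeries k) :
      PowerSeries k →* PowerSeries k) (V j)

theorem V_zero : V U u 0 = 1 := rfl

theorem V_succ (j : ℕ) : V U u (j + 1) =
    U * Units.map ((sig u : PowerSeries k →ₐ[k] PowerSeries k) :
      PowerSeries k →* PowerSeries k) (V U u j) := rfl

theorem act_iterate (b : ℤ) (h : PowerSeries k) (j : ℕ) :
    (act U u b)^[j] h = (((V U u j) ^ b : (PowerSeries k)ˣ) : PowerSeries k) * (sig u)^[j] h := by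
  induction j with
  | zero => simp [V_zero]
  | succ j ih =>
    rw [Function.iterate_succ_apply', ih, act_apply, map_mul, Function.iterate_succ_apply', V_succ,
      mul_zpow, Units.val_mul, ← mul_assoc]
    congr 2
    rw [← map_zpow]
    rfl

include hUu in
theorem sig_iterate_X (j : ℕ) : (sig u)^[j] X = X * ((V U u j : (PowerSeries k)ˣ) : PowerSeries k) := by
  induction j with
  | zero => simp [V_zero]
  | succ j ih =>
    rw [Function.iterate_succ_apply', ih, map_mul, sig_X, V_succ, Units.val_mul, hUu]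
    rw [mul_assoc]
    rfl

theorem sig_iterate_one (j : ℕ) : (sig u)^[j] (1 : PowerSeries k) = 1 := by
  induction j with
  | zero => rfl
  | succ j ih => rw [Function.iterate_succ_apply', ih, map_one]

include hUu in
/-- if the action of one twist has period `p`, so have all twists -/
theorem periodic_of_one (p : ℕ) (a : ℤ) (hact : ∀ h : PowerSeries k, (act U u a)^[p] h = h)
    (b : ℤ) (h : PowerSeries k) : (act U u b)^[p] h = h := by
  have h1 := hact 1
  rw [act_iterate, sig_iterate_one, mul_one] at h1
  have hsig : ∀ x : PowerSeries k, (sig u)^[p] x = x := by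
    intro x
    have := hact x
    rw [act_iterate, h1, one_mul] at this
    exact this
  have hX := hsig X
  rw [sig_iterate_X U u hUu] at hX
  have hV : ((V U u p : (PowerSeries k)ˣ) : PowerSeries k) = 1 := by
    have hX0 : (X : PowerSeries k) ≠ 0 := X_ne_zero
    apply mul_left_cancel₀ hX0
    rw [hX, mul_one]
  have hV' : V U u p = 1 := Units.ext hV
  rw [act_iterate, hV', one_zpow, Units.val_one, one_mul, hsig]

end periodic

section classes

variable (p : ℕ) [Fact p.Prime] [CharP k p]
variable (U : (PowerSeries k)ˣ) (u : PowerSeries k) (hUu : (U : PowerSeries k) = u)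
variable {n : ℕ} (hn : 0 < n) (hpn : ¬ p ∣ n) (hu1 : constantCoeff u = 1)
  (hun : u ^ n * (1 + X ^ n) = 1)

include hUu hn hpn hu1 hun

/-- existence of the power series `c_m = (u^(a-m) - 1) / t^m` -/
theorem exists_c (a : ℤ) : ∃ c : ℕ → PowerSeries k, ∀ m : ℕ, 1 ≤ m → m ≤ n →
    X ^ m * c m = ((U ^ (a - m) : (PowerSeries k)ˣ) : PowerSeries k) - 1 := by
  have hnk := n_ne_zero p U u hUu hn hpn hu1 hun
  have hex : ∀ m : ℕ, ∃ c : PowerSeries k, m ≤ n →
      X ^ m * c = ((U ^ (a - m) : (PowerSeries k)ˣ) : PowerSeries k) - 1 := by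
    intro m
    obtain ⟨W, hW, -⟩ := near_zpow hn U (near_U U u hUu hn hnk hu1 hun) (a - m)
    refine ⟨X ^ (n - m) * W, fun hm => ?_⟩
    rw [hW, ← mul_assoc, ← pow_add]
    have : m + (n - m) = n := by omega
    rw [this]
    ring
  choose c hc using hex
  exact ⟨c, fun m _ hm => hc m hm⟩

theorem tau_one (b : ℤ) : tau U u b 1 = ((U ^ b : (PowerSeries k)ˣ) : PowerSeries k) - 1 := by
  rw [tau_apply, map_one, mul_one]

theorem tau_C (b : ℤ) (η : k) :
    tau U u b (C η) = C η * (((U ^ b : (PowerSeries k)ˣ) : PowerSeries k) - 1) := by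
  have : sig u (C η) = C η := by
    have := (sig u).commutes η
    rwa [PowerSeries.algebraMap_eq] at this
  rw [tau_apply, this]
  ring

variable (hper : ∀ (b : ℤ) (h : PowerSeries k), (act U u b)^[p] h = h)

include hper

/-- the classes `c_m` are killed by the norm -/
theorem norm_c (a : ℤ) (m : ℕ) (c : PowerSeries k)
    (hc : X ^ m * c = ((U ^ (a - m) : (PowerSeries k)ˣ) : PowerSeries k) - 1) :
    (tau U u a)^[p - 1] c = 0 := by
  have hp1 : p - 1 + 1 = p := Nat.sub_add_cancel (Fact.out : p.Prime).pos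
  have h1 := tau_iterate_X_pow_mul p U u hUu hn hpn hu1 hun (a - m) m c (p - 1)
  have h2 : a - (m : ℤ) + (m : ℤ) = a := by ring
  rw [h2, hc, ← tau_one p U u hUu hn hpn hu1 hun, ← Function.iterate_succ_apply,
    Nat.succ_eq_add_one, hp1, tau_iterate_p p U u hUu hn hpn hu1 hun hper] at h1
  have hX : (X : PowerSeries k) ^ m ≠ 0 := pow_ne_zero _ X_ne_zero
  rcases mul_eq_zero.mp h1.symm with h | h
  · exact absurd h hX
  · exact h

/-- every element killed by the norm is a combination of the `c_m` modulo `im τ` -/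
theorem span_c (a : ℤ) (c : ℕ → PowerSeries k)
    (hc : ∀ m : ℕ, 1 ≤ m → m ≤ n →
      X ^ m * c m = ((U ^ (a - m) : (PowerSeries k)ˣ) : PowerSeries k) - 1)
    (z : PowerSeries k) (hz : (tau U u a)^[p - 1] z = 0) :
    ∃ (l : ℕ → k) (b : PowerSeries k),
      z = ∑ m ∈ Finset.Icc 1 n, l m • c m + tau U u a b := by
  obtain ⟨h, hh⟩ := exists_solution p U u hUu hn hpn hu1 hun hper a z hz
  -- decompose `h`
  let h' : PowerSeries k := PowerSeries.mk fun i => coeff (i + n) h
  have hdec : h = ∑ j ∈ Finset.range n, X ^ j * C (coeff j h) + X ^ n * h' := by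
    ext i
    rw [map_add, map_sum]
    have e1 : ∀ j ∈ Finset.range n, coeff i ((X : PowerSeries k) ^ j * C (coeff j h)) =
        if i = j then coeff j h else 0 := by
      intro j _
      rw [mul_comm, coeff_C_mul, coeff_X_pow]
      split_ifs <;> simp
    rw [Finset.sum_congr rfl e1, Finset.sum_ite_eq, coeff_X_pow_mul']
    by_cases hi : i < n
    · rw [if_pos (Finset.mem_range.mpr hi), if_neg (by omega), add_zero]
    · rw [if_neg (fun hmem => hi (Finset.mem_range.mp hmem)), if_pos (by omega), zero_add, coeff_mk]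
      rw [Nat.sub_add_cancel (by omega)]
  have hterm : ∀ j ∈ Finset.range n, tau U u (a - n) (X ^ j * C (coeff j h)) =
      X ^ n * (coeff j h • c (n - j)) := by
    intro j hj
    rw [Finset.mem_range] at hj
    rw [tau_X_pow_mul U u hUu, tau_C p U u hUu hn hpn hu1 hun]
    have e : a - (n : ℤ) + (j : ℤ) = a - ((n - j : ℕ) : ℤ) := by
      rw [Nat.cast_sub hj.le]; ring
    rw [e, ← hc (n - j) (by omega) (by omega), smul_eq_C_mul]
    have e2 : (X : PowerSeries k) ^ n = X ^ j * X ^ (n - j) := by
      rw [← pow_add]; congr 1; omega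
    rw [e2]
    ring
  have hlast : tau U u (a - n) (X ^ n * h') = X ^ n * tau U u a h' := by
    rw [tau_X_pow_mul U u hUu]
    congr 2
    ring
  have hmain : X ^ n * z = X ^ n * (∑ j ∈ Finset.range n, coeff j h • c (n - j) + tau U u a h') := by
    rw [← hh]
    conv_lhs => rw [hdec]
    rw [map_add, map_sum, Finset.sum_congr rfl hterm, hlast, mul_add, Finset.mul_sum]
  have hX : (X : PowerSeries k) ^ n ≠ 0 := pow_ne_zero _ X_ne_zero
  have hz' := mul_left_cancel₀ hX hmain
  refine ⟨fun m => coeff (n - m) h, h', ?_⟩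
  rw [hz']
  congr 1
  -- reindex
  refine Finset.sum_bij' (fun j _ => n - j) (fun m _ => n - m) ?_ ?_ ?_ ?_ ?_
  · intro j hj
    rw [Finset.mem_range] at hj
    rw [Finset.mem_Icc]
    omega
  · intro m hm
    rw [Finset.mem_Icc] at hm
    rw [Finset.mem_range]
    omega
  · intro j hj
    rw [Finset.mem_range] at hj
    show n - (n - j) = j
    omega
  · intro m hm
    rw [Finset.mem_Icc] at hm
    show n - (n - m) = m
    omega
  · intro j hj
    rw [Finset.mem_range] at hj
    have : n - (n - j) = j := by omega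
    show coeff j h • c (n - j) = coeff (n - (n - j)) h • c (n - j)
    rw [this]

end classes

end Groth.Agent.Helper20.ASPow
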