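import Mathlib

/-!
First cohomology of a finite cyclic group through evaluation of cocycles at a generator (helper20).
-/

set_option autoImplicit false
universe u

namespace Groth.Agent.Helper20.CycH1

open groupCohomology

variable {k G : Type u} [Field k] [Group G] (A : Rep k G) (g : G)

/-- partial norm sums `z ↦ Σ_{j<i} g^j z` -/
noncomputable def S (i : ℕ) : A →ₗ[k] A := ∑ j ∈ Finset.range i, A.ρ (g ^ j)

theorem S_apply (i : ℕ) (z : A) : S A g i z = ∑ j ∈ Finset.range i, A.ρ (g ^ j) z := by
  unfold S
  rw [LinearMap.sum_apply]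

theorem S_zero (z : A) : S A g 0 z = 0 := by simp [S_apply]

theorem S_one (z : A) : S A g 1 z = z := by simp [S_apply]

theorem S_succ' (i : ℕ) (z : A) : S A g (i + 1) z = z + A.ρ g (S A g i z) := by
  rw [S_apply, S_apply, Finset.sum_range_succ', map_sum]
  simp only [pow_zero, map_one, Module.End.one_apply, pow_succ', map_mul, Module.End.mul_apply]
  rw [add_comm]

theorem S_add (i i' : ℕ) (z : A) :
    S A g (i + i') z = S A g i z + A.ρ (g ^ i) (S A g i' z) := by
  rw [S_apply, S_apply, S_apply, Finset.sum_range_add, map_sum]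
  congr 1
  apply Finset.sum_congr rfl
  intro j _
  rw [pow_add, map_mul, Module.End.mul_apply]

theorem cocycle_pow (f : cocycles₁ A) (i : ℕ) : f (g ^ i) = S A g i (f g) := by
  induction i with
  | zero => rw [pow_zero, cocycles₁_map_one, S_zero]
  | succ i ih =>
    rw [pow_succ', (mem_cocycles₁_iff f).1 f.2 g (g ^ i), ih, S_succ', add_comm]

theorem S_add_mul {P : ℕ} {z : A} (hN : S A g P z = 0) (i q : ℕ) :
    S A g (i + P * q) z = S A g i z := by
  induction q with
  | zero => simp
  | succ q ih =>
    have : i + P * (q + 1) = (i + P * q) + P := by ring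
    rw [this, S_add, hN, map_zero, add_zero, ih]

theorem S_congr {P : ℕ} {z : A} (hN : S A g P z = 0) {i i' : ℕ} (h : i ≡ i' [MOD P]) :
    S A g i z = S A g i' z := by
  have h1 : S A g i z = S A g (i % P) z := by
    conv_lhs => rw [← Nat.mod_add_div i P]
    exact S_add_mul A g hN _ _
  have h2 : S A g i' z = S A g (i' % P) z := by
    conv_lhs => rw [← Nat.mod_add_div i' P]
    exact S_add_mul A g hN _ _
  rw [h1, h2, h]

variable [Finite G] (hg : ∀ x : G, x ∈ Subgroup.zpowers g)

include hg

theorem exists_pow_eq (x : G) : ∃ i : ℕ, g ^ i = x := by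
  have h := (mem_powers_iff_mem_zpowers (x := g) (y := x)).mpr (hg x)
  exact (Submonoid.mem_powers_iff x g).mp h

/-- a cocycle is determined by its value at the generator -/
theorem cocycle_eq_zero (f : cocycles₁ A) (h0 : f g = 0) : f = 0 := by
  apply cocycles₁_ext
  intro x
  obtain ⟨i, rfl⟩ := exists_pow_eq g hg x
  rw [cocycle_pow, h0, map_zero]
  rfl

omit [Finite G] hg in
theorem norm_cocycle (f : cocycles₁ A) : S A g (orderOf g) (f g) = 0 := by
  rw [← cocycle_pow, pow_orderOf_eq_one, cocycles₁_map_one]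

/-- every element killed by the norm is the value at `g` of a cocycle -/
theorem exists_cocycle (z : A) (hz : S A g (orderOf g) z = 0) :
    ∃ f : cocycles₁ A, f g = z := by
  choose idx hidx using exists_pow_eq g hg
  let f : G → A := fun x => S A g (idx x) z
  have hf : f ∈ cocycles₁ A := by
    rw [mem_cocycles₁_iff]
    intro x y
    have h1 : g ^ (idx (x * y)) = g ^ (idx x + idx y) := by
      rw [hidx, pow_add, hidx, hidx]
    have h2 := S_congr A g hz (pow_eq_pow_iff_modEq.mp h1)
    change S A g (idx (x * y)) z = A.ρ x (S A g (idx y) z) + S A g (idx x) z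
    rw [h2, S_add, hidx, add_comm]
  refine ⟨⟨f, hf⟩, ?_⟩
  have h1 : g ^ (idx g) = g ^ 1 := by rw [hidx, pow_one]
  have h2 := S_congr A g hz (pow_eq_pow_iff_modEq.mp h1)
  change S A g (idx g) z = z
  rw [h2, S_one]

theorem H1π_eq_zero_iff' (f : cocycles₁ A) :
    H1π A f = 0 ↔ ∃ b : A, f g = A.ρ g b - b := by
  rw [H1π_eq_zero_iff]
  constructor
  · rintro ⟨b, hb⟩
    refine ⟨b, ?_⟩
    have := congrFun hb g
    rw [d₀₁_hom_apply] at this
    exact this.symm
  · rintro ⟨b, hb⟩
    let db : cocycles₁ A := ⟨(d₀₁ A).hom b, d₀₁_apply_mem_cocycles₁ b⟩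
    have h0 : (f - db) g = 0 := by
      change f g - (d₀₁ A).hom b g = 0
      rw [d₀₁_hom_apply, hb, sub_self]
    have h1 := cocycle_eq_zero A g hg (f - db) h0
    have h2 : f = db := sub_eq_zero.mp h1
    rw [h2]
    exact ⟨b, rfl⟩

/-- `H¹` from a family of norm-zero elements spanning `ker N` modulo `im (g - 1)` and independent
modulo `im (g - 1)`. -/
theorem finrank_H1_of_family {ι : Type} [Fintype ι] (z : ι → A)
    (hz : ∀ i, S A g (orderOf g) (z i) = 0)
    (hspan : ∀ w : A, S A g (orderOf g) w = 0 →
      ∃ (c : ι → k) (b : A), w = ∑ i, c i • z i + (A.ρ g b - b))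
    (hind : ∀ (c : ι → k) (b : A), ∑ i, c i • z i = A.ρ g b - b → c = 0) :
    ∃ v : Module.Basis ι k (H1 A),
      ∀ i, ∃ f : cocycles₁ A, f g = z i ∧ v i = H1π A f := by
  classical
  choose F hF using fun i => exists_cocycle A g hg (z i) (hz i)
  let v : ι → H1 A := fun i => (H1π A).hom (F i)
  have hsumF : ∀ c : ι → k, (∑ i, c i • F i : cocycles₁ A) g = ∑ i, c i • z i := by
    intro c
    have : ((∑ i, c i • F i : cocycles₁ A) : G → A) = ∑ i, c i • (F i : G → A) := by
      rw [← cocycles₁.val_eq_coe]
      simp only [Submodule.coe_sum, Submodule.coe_smul]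
      rfl
    have h2 := congrFun this g
    rw [h2, Finset.sum_apply]
    apply Finset.sum_congr rfl
    intro i _
    rw [Pi.smul_apply, hF]
  have hli : LinearIndependent k v := by
    rw [Fintype.linearIndependent_iff]
    intro c hc
    have h1 : (H1π A).hom (∑ i, c i • F i) = 0 := by
      rw [map_sum]
      simp only [map_smul]
      exact hc
    have h2 : H1π A (∑ i, c i • F i) = 0 := h1
    rw [H1π_eq_zero_iff' A g hg, hsumF] at h2
    obtain ⟨b, hb⟩ := h2
    have := hind c b hb
    intro i
    rw [this]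
    rfl
  have hsp : ⊤ ≤ Submodule.span k (Set.range v) := by
    intro x _
    induction x using H1_induction_on with
    | h f =>
      obtain ⟨c, b, hcb⟩ := hspan (f g) (norm_cocycle A g f)
      let db : cocycles₁ A := ⟨(d₀₁ A).hom b, d₀₁_apply_mem_cocycles₁ b⟩
      have h0 : (f - ∑ i, c i • F i - db) g = 0 := by
        change f g - (∑ i, c i • F i : cocycles₁ A) g - (d₀₁ A).hom b g = 0
        rw [hsumF, d₀₁_hom_apply, hcb]
        abel
      have h1 := cocycle_eq_zero A g hg _ h0
      have h2 : f = ∑ i, c i • F i + db := by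
        rw [sub_sub, sub_eq_zero] at h1
        exact h1
      have h3 : H1π A db = 0 := by
        rw [H1π_eq_zero_iff]
        exact ⟨b, rfl⟩
      have h4 : (H1π A).hom f = ∑ i, c i • v i := by
        rw [h2, map_add, map_sum]
        simp only [map_smul]
        have : (H1π A).hom db = 0 := h3
        rw [this, add_zero]
      change (H1π A).hom f ∈ _
      rw [h4]
      exact Submodule.sum_mem _ fun i _ =>
        Submodule.smul_mem _ _ (Submodule.subset_span ⟨i, rfl⟩)
  refine ⟨Module.Basis.mk hli hsp, fun i => ⟨F i, hF i, ?_⟩⟩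
  rw [Module.Basis.mk_apply]

end Groth.Agent.Helper20.CycH1
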