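import Mathlib
import Groth.Agent.Lib.Helper25.ASCover
import Groth.Agent.Lib.Helper20.ASPowA
import Groth.Agent.Lib.Helper20.ASPowB
import Groth.Agent.Lib.Helper20.ASPowC
import Groth.Agent.Lib.Helper20.CycH1

/-!
A basis of `H¹(ℤ/p, k[[t]])` for the twisted substitution actions (helper20).
-/

set_option autoImplicit false
universe u

namespace Groth.Agent.Helper20.ASPow

open PowerSeries Groth.Agent.Helper25.ASCover groupCohomology

theorem ediv_sub_ediv_pred (p : ℤ) (hp : 0 < p) (x : ℤ) :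
    x / p - (x - 1) / p = if p ∣ x then 1 else 0 := by
  have h1 := Int.emod_add_mul_ediv x p
  have h2 := Int.emod_nonneg x hp.ne'
  have h3 := Int.emod_lt_of_pos x hp
  split_ifs with hd
  · have h0 : x % p = 0 := Int.emod_eq_zero_of_dvd hd
    have h4 : (x - 1) / p = x / p - 1 ∧ (x - 1) % p = p - 1 := by
      rw [Int.ediv_emod_unique hp]
      refine ⟨by linarith, by linarith, by linarith⟩
    rw [h4.1]; ring
  · have h0 : x % p ≠ 0 := fun h => hd (Int.dvd_of_emod_eq_zero h)
    have h0' : 1 ≤ x % p := by omega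
    have h4 : (x - 1) / p = x / p ∧ (x - 1) % p = x % p - 1 := by
      rw [Int.ediv_emod_unique hp]
      refine ⟨by linarith, by linarith, by linarith⟩
    rw [h4.1]; ring

/-- the index set of the basis -/
def F (p n : ℕ) (a : ℤ) : Finset ℕ :=
  (Finset.Icc 1 n).filter (fun m : ℕ => ¬ (p : ℤ) ∣ a - (m : ℤ))

theorem mem_F {p n : ℕ} {a : ℤ} {m : ℕ} :
    m ∈ F p n a ↔ (1 ≤ m ∧ m ≤ n) ∧ ¬ (p : ℤ) ∣ a - (m : ℤ) := by
  unfold F
  rw [Finset.mem_filter, Finset.mem_Icc]

theorem card_F (p : ℕ) (hp : 0 < p) (a : ℤ) (n : ℕ) :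
    ((F p n a).card : ℤ) = n - (a - 1) / (p : ℤ) + (a - 1 - n) / (p : ℤ) := by
  induction n with
  | zero => simp [F]
  | succ n ih =>
    have hI : Finset.Icc 1 (n + 1) = insert (n + 1) (Finset.Icc 1 n) := by
      ext m; simp only [Finset.mem_Icc, Finset.mem_insert]; omega
    have hnot : (n + 1) ∉ Finset.Icc 1 n := by simp
    unfold F at ih ⊢
    rw [hI, Finset.filter_insert]
    have key := ediv_sub_ediv_pred (p : ℤ) (by exact_mod_cast hp) (a - 1 - n)
    have e1 : a - 1 - (n : ℤ) - 1 = a - 1 - ((n + 1 : ℕ) : ℤ) := by push_cast; ring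
    have e2 : a - ((n + 1 : ℕ) : ℤ) = a - 1 - n := by push_cast; ring
    rw [e1] at key
    split_ifs with hd
    · rw [ih]
      rw [e2] at hd
      rw [if_pos hd] at key
      push_cast at key ⊢
      linarith
    · rw [Finset.card_insert_of_notMem (fun h => hnot (Finset.mem_of_mem_filter _ h)),
        Nat.cast_add, ih]
      rw [e2] at hd
      rw [if_neg hd] at key
      push_cast at key ⊢
      linarith

section basis

variable {k : Type u} [Field k]

theorem h1_basis [IsAlgClosed k] (p : ℕ) [Fact p.Prime] [CharP k p] (n : ℕ) (hn : 0 < n)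
    (hpn : ¬ p ∣ n)
    (u : PowerSeries k) (hu1 : constantCoeff u = 1)
    (hun : u ^ n * (1 + X ^ n) = 1) (hu : IsUnit u) (a : ℤ)
    {G : Type u} [Group G] [Finite G] (g : G) (hG : Nat.card G = p)
    (hg : ∀ x : G, x ∈ Subgroup.zpowers g)
    (ρ : Representation k G (PowerSeries k))
    (hρ : ∀ h : PowerSeries k, ρ g h =
      ((hu.unit ^ a : (PowerSeries k)ˣ) : PowerSeries k) * subst (X * u) h)
    (c : ℕ → PowerSeries k)
    (hc : ∀ m : ℕ, 1 ≤ m → m ≤ n →
      X ^ m * c m = ((hu.unit ^ (a - m) : (PowerSeries k)ˣ) : PowerSeries k) - 1) :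
    ∃ v : Module.Basis ↥(F p n a) k (H1 (Rep.of ρ)),
      ∀ i, ∃ f : cocycles₁ (Rep.of ρ), f g = c i.1 ∧ v i = H1π (Rep.of ρ) f := by
  classical
  have hUu : ((hu.unit : (PowerSeries k)ˣ) : PowerSeries k) = u := hu.unit_spec
  have hact : ρ g = act hu.unit u a :=
    LinearMap.ext fun h => by rw [hρ, act_apply, sig_apply]
  have hord : orderOf g = p := by rw [orderOf_eq_card_of_forall_mem_zpowers hg, hG]
  have hper_a : ∀ h : PowerSeries k, (act hu.unit u a)^[p] h = h := by
    intro h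
    rw [← hact, ← Module.End.pow_apply, ← map_pow, ← hord, pow_orderOf_eq_one, map_one]
    rfl
  have hper := periodic_of_one hu.unit u hUu p a hper_a
  have htau : ∀ b : PowerSeries k, (Rep.of ρ).ρ g b - b = tau hu.unit u a b := by
    intro b
    rw [Rep.of_ρ, hact]
    rfl
  have hS : ∀ z : PowerSeries k,
      CycH1.S (Rep.of ρ) g (orderOf g) z = (tau hu.unit u a)^[p - 1] z := by
    intro z
    rw [hord, CycH1.S_apply]
    have e1 : ∀ j ∈ Finset.range p, (Rep.of ρ).ρ (g ^ j) z = ((act hu.unit u a) ^ j) z := by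
      intro j _
      rw [Rep.of_ρ, map_pow, hact]
    rw [Finset.sum_congr rfl e1, ← LinearMap.sum_apply, end_geom_eq_pow (k := k) p,
      Module.End.pow_apply]
    rfl
  refine CycH1.finrank_H1_of_family (Rep.of ρ) g hg (fun i : ↥(F p n a) => c i.1) ?_ ?_ ?_
  · intro i
    have hi := mem_F.mp i.2
    rw [hS]
    exact norm_c p hu.unit u hUu hn hpn hu1 hun hper a i.1 (c i.1) (hc i.1 hi.1.1 hi.1.2)
  · intro w hw
    rw [hS] at hw
    obtain ⟨l, b, hlb⟩ := span_c p hu.unit u hUu hn hpn hu1 hun hper a c hc w hw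
    -- the classes with `p ∣ a - m` are coboundaries
    have hcob : ∀ m : ℕ, ∃ h : PowerSeries k,
        m ∈ (Finset.Icc 1 n).filter (fun m : ℕ => ¬ ¬ (p : ℤ) ∣ a - (m : ℤ)) →
        tau hu.unit u a h = c m := by
      intro m
      by_cases hm : m ∈ (Finset.Icc 1 n).filter (fun m : ℕ => ¬ ¬ (p : ℤ) ∣ a - (m : ℤ))
      · rw [Finset.mem_filter, Finset.mem_Icc] at hm
        obtain ⟨h, hh⟩ := s13863 p n hn hpn u hu1 hun hu a m hm.1.1 hm.1.2 (not_not.mp hm.2)
          (c m) (hc m hm.1.1 hm.1.2)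
        refine ⟨h, fun _ => ?_⟩
        rw [tau_apply, sig_apply]
        exact hh
      · exact ⟨0, fun h => absurd h hm⟩
    choose hh hhh using hcob
    refine ⟨fun i => l i.1,
      b + ∑ m ∈ (Finset.Icc 1 n).filter (fun m : ℕ => ¬ ¬ (p : ℤ) ∣ a - (m : ℤ)), l m • hh m, ?_⟩
    rw [htau, map_add, map_sum, hlb]
    rw [← Finset.sum_filter_add_sum_filter_not (Finset.Icc 1 n)
      (fun m : ℕ => ¬ (p : ℤ) ∣ a - (m : ℤ))]
    have e1 : ∑ i : ↥(F p n a), l i.1 • c i.1 = ∑ m ∈ F p n a, l m • c m :=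
      Finset.sum_coe_sort (F p n a) (fun m => l m • c m)
    rw [e1]
    have e2 : ∀ m ∈ (Finset.Icc 1 n).filter (fun m : ℕ => ¬ ¬ (p : ℤ) ∣ a - (m : ℤ)),
        tau hu.unit u a (l m • hh m) = l m • c m := by
      intro m hm
      rw [map_smul, hhh m hm]
    rw [Finset.sum_congr rfl e2]
    unfold F
    abel
  · intro c' b hcb
    rw [htau] at hcb
    let coef : ℕ → k := fun m => if hm : m ∈ F p n a then c' ⟨m, hm⟩ else 0
    have e1 : ∑ i : ↥(F p n a), c' i • c i.1 = ∑ m ∈ F p n a, coef m • c m := by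
      rw [← Finset.sum_coe_sort (F p n a) (fun m => coef m • c m)]
      apply Finset.sum_congr rfl
      intro i _
      have : coef i.1 = c' i := by
        show (if hm : i.1 ∈ F p n a then c' ⟨i.1, hm⟩ else 0) = c' i
        rw [dif_pos i.2]
      rw [this]
    rw [e1] at hcb
    have hcb' : ((hu.unit ^ a : (PowerSeries k)ˣ) : PowerSeries k) * subst (X * u) b - b =
        ∑ m ∈ F p n a, coef m • c m := by
      rw [hcb, tau_apply, sig_apply]
    have h0 := s13864 p n hn hpn u hu1 hun hu a c hc coef b hcb'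
    funext i
    have := h0 i.1 i.2
    have e : coef i.1 = c' i := by
      show (if hm : i.1 ∈ F p n a then c' ⟨i.1, hm⟩ else 0) = c' i
      rw [dif_pos i.2]
    rw [e] at this
    exact this

end basis

end Groth.Agent.Helper20.ASPow
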