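import Mathlib
import Groth.Agent.Lib.Helper25.ASCover
import Groth.Agent.Lib.Helper20.ASPowA
import Groth.Agent.Lib.Helper20.ASPowB
import Groth.Agent.Lib.Helper20.ASPowC

/-!
The derivative of the classes `c_m` for the twisted substitution actions (helper20).
-/

set_option autoImplicit false
universe u

namespace Groth.Agent.Helper20.ASPow

open PowerSeries Groth.Agent.Helper25.ASCover

variable {k : Type u} [Field k]

theorem mul_deriv_pow (a : PowerSeries k) (m : ℕ) :
    a * derivative k (a ^ m) = (m : PowerSeries k) * (a ^ m * derivative k a) := by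
  cases m with
  | zero => simp
  | succ m =>
    rw [Derivation.leibniz_pow, Nat.add_sub_cancel, smul_eq_mul, nsmul_eq_mul, pow_succ]
    ring

theorem natCast_ne_zero_of (n : ℕ) (hnk : (n : k) ≠ 0) : (n : PowerSeries k) ≠ 0 := by
  intro h
  apply hnk
  have := congrArg constantCoeff h
  simpa using this

section

variable (p : ℕ) [Fact p.Prime] [CharP k p]
variable (U : (PowerSeries k)ˣ) (u : PowerSeries k) (hUu : (U : PowerSeries k) = u)
variable {n : ℕ} (hn : 0 < n) (hpn : ¬ p ∣ n) (hu1 : constantCoeff u = 1)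
  (hun : u ^ n * (1 + X ^ n) = 1)

include hn hpn hun in
theorem deriv_u : derivative k u = - (u ^ (n + 1) * X ^ (n - 1)) := by
  have hnk : (n : k) ≠ 0 := fun h0 => hpn ((CharP.cast_eq_zero_iff k p n).mp h0)
  have h0 : derivative k (u ^ n * (1 + X ^ n)) = 0 := by
    rw [hun]; exact Derivation.map_one_eq_zero _
  rw [Derivation.leibniz, map_add, Derivation.map_one_eq_zero, zero_add, smul_eq_mul,
    smul_eq_mul] at h0
  have h1 := mul_deriv_pow u n
  have h2 : derivative k ((X : PowerSeries k) ^ n) = (n : PowerSeries k) * X ^ (n - 1) := by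
    rw [Derivation.leibniz_pow, derivative_X, smul_eq_mul, nsmul_eq_mul, mul_one]
  have h3 : (n : PowerSeries k) * (u ^ (n + 1) * X ^ (n - 1) + derivative k u) = 0 := by
    have h4 : u * (u ^ n * derivative k ((X : PowerSeries k) ^ n) +
        (1 + X ^ n) * derivative k (u ^ n)) = 0 := by rw [h0, mul_zero]
    calc (n : PowerSeries k) * (u ^ (n + 1) * X ^ (n - 1) + derivative k u)
        = (n : PowerSeries k) * (u ^ (n + 1) * X ^ (n - 1)) +
            (n : PowerSeries k) * ((u ^ n * (1 + X ^ n)) * derivative k u) := by rw [hun]; ring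
      _ = u * (u ^ n * ((n : PowerSeries k) * X ^ (n - 1))) +
            (1 + X ^ n) * ((n : PowerSeries k) * (u ^ n * derivative k u)) := by ring
      _ = u * (u ^ n * derivative k ((X : PowerSeries k) ^ n) +
            (1 + X ^ n) * derivative k (u ^ n)) := by rw [h2, ← h1]; ring
      _ = 0 := h4
  rcases mul_eq_zero.mp h3 with h | h
  · exact absurd h (natCast_ne_zero_of n hnk)
  · exact eq_neg_of_add_eq_zero_right h

include hUu hn hpn hu1 hun in
theorem deriv_c (m : ℕ) (c0 : PowerSeries k)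
    (hc : X ^ m * c0 = ((U ^ (-(m : ℤ)) : (PowerSeries k)ˣ) : PowerSeries k) - 1) :
    X ^ (m + 1) * derivative k c0 =
      -((m : PowerSeries k) * (((U ^ ((n : ℤ) - m) : (PowerSeries k)ˣ) : PowerSeries k) - 1)) := by
  obtain ⟨W, hW⟩ : ∃ W : PowerSeries k, W = ((U ^ (-(m : ℤ)) : (PowerSeries k)ˣ) : PowerSeries k) :=
    ⟨_, rfl⟩
  obtain ⟨W2, hW2d⟩ : ∃ W2 : PowerSeries k,
    W2 = ((U ^ ((n : ℤ) - m) : (PowerSeries k)ˣ) : PowerSeries k) := ⟨_, rfl⟩
  rw [← hW] at hc
  rw [← hW2d]
  have hinv : ∀ j : ℕ, ((U ^ (-(j : ℤ)) : (PowerSeries k)ˣ) : PowerSeries k) * u ^ j = 1 := by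
    intro j
    rw [← hUu, ← Units.val_pow_eq_pow_val, ← Units.val_mul, ← zpow_natCast, ← zpow_add,
      neg_add_cancel, zpow_zero, Units.val_one]
  have hWu : W * u ^ m = 1 := by rw [hW]; exact hinv m
  have hW2 : u ^ (m + 1) * W2 = u ^ (n + 1) := by
    rw [hW2d, ← hUu, ← Units.val_pow_eq_pow_val, ← Units.val_pow_eq_pow_val, ← Units.val_mul,
      ← zpow_natCast, ← zpow_natCast U (n + 1), ← zpow_add]
    congr 2
    push_cast
    ring
  have hXn : (X : PowerSeries k) ^ n =
      ((U ^ (-(n : ℤ)) : (PowerSeries k)ˣ) : PowerSeries k) - 1 := by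
    have h1 := hinv n
    have h2 : ((U ^ (-(n : ℤ)) : (PowerSeries k)ˣ) : PowerSeries k) = 1 + X ^ n := by
      calc ((U ^ (-(n : ℤ)) : (PowerSeries k)ˣ) : PowerSeries k)
          = ((U ^ (-(n : ℤ)) : (PowerSeries k)ˣ) : PowerSeries k) * (u ^ n * (1 + X ^ n)) := by
            rw [hun, mul_one]
        _ = (((U ^ (-(n : ℤ)) : (PowerSeries k)ˣ) : PowerSeries k) * u ^ n) * (1 + X ^ n) := by
            ring
        _ = 1 + X ^ n := by rw [h1, one_mul]
    rw [h2]; ring
  have hW2n : W2 * X ^ n = W - W2 := by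
    rw [hXn, mul_sub, mul_one, hW2d, hW, ← Units.val_mul, ← zpow_add]
    congr 3
    ring
  have hDu := deriv_u p u hn hpn hun
  have hDW0 : derivative k (W * u ^ m) = 0 := by
    rw [hWu]; exact Derivation.map_one_eq_zero _
  rw [Derivation.leibniz, smul_eq_mul, smul_eq_mul] at hDW0
  have h1 := mul_deriv_pow u m
  have hDW1 : u ^ (m + 1) * derivative k W = (m : PowerSeries k) * (u ^ (n + 1) * X ^ (n - 1)) := by
    have h5 : u * (W * derivative k (u ^ m) + u ^ m * derivative k W) = 0 := by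
      rw [hDW0, mul_zero]
    have e : u * (W * derivative k (u ^ m) + u ^ m * derivative k W) =
        W * (u * derivative k (u ^ m)) + u ^ (m + 1) * derivative k W := by ring
    rw [e, h1, hDu] at h5
    have e2 : W * ((m : PowerSeries k) * (u ^ m * -(u ^ (n + 1) * X ^ (n - 1)))) =
        -((W * u ^ m) * ((m : PowerSeries k) * (u ^ (n + 1) * X ^ (n - 1)))) := by ring
    rw [e2, hWu, one_mul] at h5
    linear_combination h5
  have hu0 : u ≠ 0 := by
    intro h
    rw [h, map_zero] at hu1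
    exact zero_ne_one hu1
  have hDW : derivative k W = (m : PowerSeries k) * (W2 * X ^ (n - 1)) := by
    apply mul_left_cancel₀ (pow_ne_zero (m + 1) hu0)
    rw [hDW1, ← hW2]; ring
  have hXDW : X * derivative k W = (m : PowerSeries k) * (W - W2) := by
    rw [hDW, ← hW2n]
    have e3 : (X : PowerSeries k) ^ n = X * X ^ (n - 1) := by
      rw [← pow_succ']; congr 1; omega
    rw [e3]; ring
  have hD : derivative k (X ^ m * c0) = derivative k W := by
    rw [hc, map_sub, Derivation.map_one_eq_zero, sub_zero]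
  rw [Derivation.leibniz, smul_eq_mul, smul_eq_mul] at hD
  have h2 := mul_deriv_pow (X : PowerSeries k) m
  rw [derivative_X, mul_one] at h2
  have h6 : X ^ (m + 1) * derivative k c0 =
      X * derivative k W - c0 * (X * derivative k ((X : PowerSeries k) ^ m)) := by
    rw [← hD]; ring
  rw [h6, hXDW, h2]
  linear_combination (-(m : PowerSeries k)) * hc

include hUu hn hpn hu1 hun in
/-- the derivative maps `c⁰_m` to `-m·c¹_{m+1}` (and `c⁰_n` to `0`) -/
theorem deriv_c_eq (c0 c1 : ℕ → PowerSeries k)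
    (hc0 : ∀ m : ℕ, 1 ≤ m → m ≤ n →
      X ^ m * c0 m = ((U ^ ((0 : ℤ) - m) : (PowerSeries k)ˣ) : PowerSeries k) - 1)
    (hc1 : ∀ m : ℕ, 1 ≤ m → m ≤ n →
      X ^ m * c1 m = ((U ^ (((n : ℤ) + 1) - m) : (PowerSeries k)ˣ) : PowerSeries k) - 1)
    (m : ℕ) (hm1 : 1 ≤ m) (hmn : m ≤ n) :
    derivative k (c0 m) = if m < n then (-(m : k)) • c1 (m + 1) else 0 := by
  have h0 := hc0 m hm1 hmn
  rw [zero_sub] at h0
  have hd := deriv_c p U u hUu hn hpn hu1 hun m (c0 m) h0
  have hX : (X : PowerSeries k) ^ (m + 1) ≠ 0 := pow_ne_zero _ X_ne_zero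
  apply mul_left_cancel₀ hX
  rw [hd]
  split_ifs with hlt
  · have h1 := hc1 (m + 1) (by omega) (by omega)
    have e : ((n : ℤ) + 1) - ((m + 1 : ℕ) : ℤ) = (n : ℤ) - m := by push_cast; ring
    rw [e] at h1
    rw [mul_smul_comm, h1, smul_eq_C_mul, map_neg, map_natCast]
    ring
  · have e : m = n := by omega
    rw [e, sub_self, zpow_zero, Units.val_one, sub_self, mul_zero, neg_zero, mul_zero]

end

end Groth.Agent.Helper20.ASPow
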