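import Mathlib
import Groth.Agent.Lib.Helper20.CycH1

/-!
Functoriality of `H¹` of a finite cyclic group in terms of cocycle values at the generator (helper20).
-/

set_option autoImplicit false
universe u

namespace Groth.Agent.Helper20.CycH1

open groupCohomology CategoryTheory

variable {k G : Type u} [Field k] [Group G]

theorem map_H1π {A B : Rep k G} (φ : A ⟶ B) (f : cocycles₁ A) :
    ((functor k G 1).map φ).hom (H1π A f) = H1π B (mapCocycles₁ (MonoidHom.id G) φ f) :=
  H1π_comp_map_apply (MonoidHom.id G) φ f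

theorem mapCocycles₁_apply {A B : Rep k G} (φ : A ⟶ B) (f : cocycles₁ A) (x : G) :
    (mapCocycles₁ (MonoidHom.id G) φ f) x = φ.hom (f x) := rfl

variable (B : Rep k G) (g : G) [Finite G] (hg : ∀ x : G, x ∈ Subgroup.zpowers g)

include hg

theorem H1π_eq_smul_of (f f₁ : cocycles₁ B) (r : k) (h : f g = r • f₁ g) :
    H1π B f = r • H1π B f₁ := by
  have h0 : (f - r • f₁) g = 0 := by
    change f g - r • f₁ g = 0
    rw [h, sub_self]
  have h1 := cocycle_eq_zero B g hg (f - r • f₁) h0
  have h2 : f = r • f₁ := sub_eq_zero.mp h1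
  rw [h2]
  exact map_smul (H1π B).hom r f₁

theorem H1π_eq_zero_of (f : cocycles₁ B) (b : B) (h : f g = B.ρ g b - b) : H1π B f = 0 :=
  (H1π_eq_zero_iff' B g hg f).mpr ⟨b, h⟩

theorem H1π_eq_zero_of_zero (f : cocycles₁ B) (h : f g = 0) : H1π B f = 0 := by
  rw [cocycle_eq_zero B g hg f h]
  exact map_zero (H1π B).hom

end Groth.Agent.Helper20.CycH1

namespace Groth.Agent.Helper20.CycH1

/-- the range of a linear map sending a basis into the span of a linearly independent family which
lies in the range -/
theorem finrank_range_of_basis {k M₀ M₁ ι κ : Type*} [Field k] [AddCommGroup M₀] [Module k M₀]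
    [AddCommGroup M₁] [Module k M₁] [Fintype κ] (v : Module.Basis ι k M₀) (b : κ → M₁)
    (hb : LinearIndependent k b) (Φ : M₀ →ₗ[k] M₁)
    (h1 : ∀ i, Φ (v i) ∈ Submodule.span k (Set.range b))
    (h2 : ∀ j, b j ∈ LinearMap.range Φ) :
    Module.Finite k (LinearMap.range Φ) ∧
      Module.finrank k (LinearMap.range Φ) = Fintype.card κ := by
  have hr : LinearMap.range Φ = Submodule.span k (Set.range b) := by
    apply le_antisymm
    · rw [LinearMap.range_eq_map, ← v.span_eq, Submodule.map_span, Submodule.span_le]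
      rintro _ ⟨_, ⟨i, rfl⟩, rfl⟩
      exact h1 i
    · rw [Submodule.span_le]
      rintro _ ⟨j, rfl⟩
      exact h2 j
  rw [hr]
  exact ⟨FiniteDimensional.span_of_finite k (Set.finite_range b), finrank_span_eq_card hb⟩

end Groth.Agent.Helper20.CycH1
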