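import Mathlib
import Groth.Agent.Lib.Helper25.ASCover
import Groth.Agent.Lib.Helper20.ASPowA
import Groth.Agent.Lib.Helper20.ASPowB
import Groth.Agent.Lib.Helper20.ASPowC
import Groth.Agent.Lib.Helper20.ASPowD
import Groth.Agent.Lib.Helper20.ASPowE
import Groth.Agent.Lib.Helper20.CycH1
import Groth.Agent.Lib.Helper20.CycH1B

/-!
The image of `H¹(d/dt)` for the substitution action of `ℤ/p` on `k[[t]]` (helper20).
-/

set_option autoImplicit false
universe u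

namespace Groth.Agent.Helper20.ASPow

open PowerSeries Groth.Agent.Helper25.ASCover groupCohomology

/-- the index set of the basis of the image -/
def Jset (p n : ℕ) : Finset ℕ := F p (n - 1) 0 ∩ F p (n - 1) n

theorem mem_Jset {p n m : ℕ} :
    m ∈ Jset p n ↔ (1 ≤ m ∧ m ≤ n - 1) ∧ ¬ (p : ℤ) ∣ 0 - (m : ℤ) ∧ ¬ (p : ℤ) ∣ (n : ℤ) - m := by
  unfold Jset
  rw [Finset.mem_inter, mem_F, mem_F]
  tauto

theorem card_Jset (p n : ℕ) (hp : 0 < p) (hn : 0 < n) (hpn : ¬ p ∣ n) :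
    ((Jset p n).card : ℤ) = ((n + 1) * (p - 1) : ℤ) / p - 1 - (n - 1 : ℤ) / p := by
  have hpz : (0 : ℤ) < p := by exact_mod_cast hp
  have hunion : F p (n - 1) 0 ∪ F p (n - 1) n = Finset.Icc 1 (n - 1) := by
    ext m
    rw [Finset.mem_union, mem_F, mem_F, Finset.mem_Icc]
    constructor
    · rintro (h | h) <;> exact h.1
    · intro h
      by_cases h1 : (p : ℤ) ∣ 0 - (m : ℤ)
      · right
        refine ⟨h, fun h2 => hpn ?_⟩
        have h3 : (p : ℤ) ∣ (n : ℤ) := by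
          have := dvd_sub h2 h1
          have e : (n : ℤ) - m - (0 - (m : ℤ)) = n := by ring
          rwa [e] at this
        exact_mod_cast h3
      · left
        exact ⟨h, h1⟩
  have hie := Finset.card_union_add_card_inter (F p (n - 1) 0) (F p (n - 1) n)
  rw [hunion, Nat.card_Icc] at hie
  have hA := card_F p hp 0 (n - 1)
  have hB := card_F p hp n (n - 1)
  have hcast : ((n - 1 : ℕ) : ℤ) = (n : ℤ) - 1 := by
    rw [Nat.cast_sub hn]; simp
  rw [hcast] at hA hB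
  have e1 : ((0 : ℤ) - 1) / (p : ℤ) = -1 := by
    have : ((0 : ℤ) - 1) / (p : ℤ) = -1 ∧ ((0 : ℤ) - 1) % (p : ℤ) = p - 1 := by
      rw [Int.ediv_emod_unique hpz]
      refine ⟨by ring, by linarith, by linarith⟩
    exact this.1
  have e2 : ((n : ℤ) - 1 - ((n : ℤ) - 1)) / (p : ℤ) = 0 := by
    rw [sub_self, Int.zero_ediv]
  have e3 : ((0 : ℤ) - 1 - ((n : ℤ) - 1)) = -(n : ℤ) := by ring
  rw [e1, e3] at hA
  rw [e2] at hB
  have key := ediv_sub_ediv_pred (p : ℤ) hpz (-(n : ℤ))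
  have hnd : ¬ (p : ℤ) ∣ -(n : ℤ) := by
    rw [dvd_neg]
    intro h
    exact hpn (by exact_mod_cast h)
  rw [if_neg hnd] at key
  have e4 : ((n + 1) * (p - 1) : ℤ) / p = (-(n : ℤ) - 1) / p + (n + 1) := by
    have : ((n : ℤ) + 1) * ((p : ℤ) - 1) = (-(n : ℤ) - 1) + ((n : ℤ) + 1) * p := by ring
    rw [this, Int.add_mul_ediv_right _ _ hpz.ne']
  rw [e4]
  have hie' : ((n - 1 + 1 - 1 : ℕ) : ℤ) + ((Jset p n).card : ℤ) =
      ((F p (n - 1) 0).card : ℤ) + ((F p (n - 1) n).card : ℤ) := by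
    unfold Jset
    exact_mod_cast hie
  have hcast2 : ((n - 1 + 1 - 1 : ℕ) : ℤ) = (n : ℤ) - 1 := by
    have : n - 1 + 1 - 1 = n - 1 := by omega
    rw [this, hcast]
  rw [hcast2, hA, hB] at hie'
  linarith

section main

variable {k : Type u} [Field k]

theorem range_H1_map_derivative [IsAlgClosed k] (p : ℕ) [Fact p.Prime] [CharP k p] (n : ℕ)
    (hn : 0 < n) (hpn : ¬ p ∣ n)
    (u : PowerSeries k) (hu1 : constantCoeff u = 1)
    (hun : u ^ n * (1 + X ^ n) = 1)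
    {G : Type u} [Group G] [Finite G] (g : G) (hG : Nat.card G = p)
    (hg : ∀ x : G, x ∈ Subgroup.zpowers g)
    (ρ₀ ρ₁ : Representation k G (PowerSeries k))
    (hρ₀ : ∀ h : PowerSeries k, ρ₀ g h = subst (X * u) h)
    (hρ₁ : ∀ h : PowerSeries k, ρ₁ g h = u ^ (n + 1) * subst (X * u) h)
    (φ : Rep.of ρ₀ ⟶ Rep.of ρ₁) (hφ : ∀ h : PowerSeries k, φ.hom h = derivative k h)
    (Φ : H1 (Rep.of ρ₀) →ₗ[k] H1 (Rep.of ρ₁))
    (hΦ : ∀ f : cocycles₁ (Rep.of ρ₀),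
      Φ (H1π (Rep.of ρ₀) f) = H1π (Rep.of ρ₁) (mapCocycles₁ (MonoidHom.id G) φ f)) :
    Module.Finite k (LinearMap.range Φ) ∧
      Module.finrank k (LinearMap.range Φ) = (Jset p n).card := by
  classical
  have hu : IsUnit u := by
    rw [PowerSeries.isUnit_iff_constantCoeff, hu1]; exact isUnit_one
  have hUu : ((hu.unit : (PowerSeries k)ˣ) : PowerSeries k) = u := hu.unit_spec
  have hρ₀' : ∀ h : PowerSeries k, ρ₀ g h =
      ((hu.unit ^ (0 : ℤ) : (PowerSeries k)ˣ) : PowerSeries k) * subst (X * u) h := by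
    intro h
    rw [hρ₀, zpow_zero, Units.val_one, one_mul]
  have hρ₁' : ∀ h : PowerSeries k, ρ₁ g h =
      ((hu.unit ^ ((n : ℤ) + 1) : (PowerSeries k)ˣ) : PowerSeries k) * subst (X * u) h := by
    intro h
    have e : ((n : ℤ) + 1) = ((n + 1 : ℕ) : ℤ) := (Nat.cast_succ n).symm
    rw [hρ₁, e, zpow_natCast, Units.val_pow_eq_pow_val, hUu]
  obtain ⟨c0, hc0⟩ := exists_c p hu.unit u hUu hn hpn hu1 hun 0
  obtain ⟨c1, hc1⟩ := exists_c p hu.unit u hUu hn hpn hu1 hun ((n : ℤ) + 1)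
  obtain ⟨v0, hv0⟩ := h1_basis p n hn hpn u hu1 hun hu 0 g hG hg ρ₀ hρ₀' c0 hc0
  obtain ⟨v1, hv1⟩ := h1_basis p n hn hpn u hu1 hun hu ((n : ℤ) + 1) g hG hg ρ₁ hρ₁' c1 hc1
  have hJ : ∀ m ∈ Jset p n, m + 1 ∈ F p n ((n : ℤ) + 1) := by
    intro m hm
    rw [mem_Jset] at hm
    rw [mem_F]
    refine ⟨⟨by omega, by omega⟩, ?_⟩
    have e : ((n : ℤ) + 1) - ((m + 1 : ℕ) : ℤ) = (n : ℤ) - m := by push_cast; ring
    rw [e]
    exact hm.2.2
  let b : ↥(Jset p n) → H1 (Rep.of ρ₁) := fun m => v1 ⟨m.1 + 1, hJ m.1 m.2⟩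
  have hb : LinearIndependent k b := by
    apply v1.linearIndependent.comp
      (fun m : ↥(Jset p n) => (⟨m.1 + 1, hJ m.1 m.2⟩ : ↥(F p n ((n : ℤ) + 1))))
    intro x y hxy
    have := congrArg Subtype.val hxy
    apply Subtype.ext
    simpa using this
  have key : ∀ i : ↥(F p n 0),
      Φ (v0 i) =
        if h : i.1 ∈ Jset p n then (-(i.1 : k)) • b ⟨i.1, h⟩ else 0 := by
    intro i
    obtain ⟨f0, hf0g, hf0v⟩ := hv0 i
    have hi := mem_F.mp i.2
    rw [hf0v, hΦ]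
    have hval : (mapCocycles₁ (MonoidHom.id G) φ f0) g =
        if i.1 < n then (-(i.1 : k)) • c1 (i.1 + 1) else 0 := by
      rw [CycH1.mapCocycles₁_apply, hf0g, hφ]
      exact deriv_c_eq p hu.unit u hUu hn hpn hu1 hun c0 c1 hc0 hc1 i.1 hi.1.1 hi.1.2
    split_ifs with hmem
    · have hm := mem_Jset.mp hmem
      have hlt : i.1 < n := by omega
      rw [if_pos hlt] at hval
      obtain ⟨f1, hf1g, hf1v⟩ := hv1 ⟨i.1 + 1, hJ i.1 hmem⟩
      show _ = (-(i.1 : k)) • v1 ⟨i.1 + 1, hJ i.1 hmem⟩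
      rw [hf1v]
      apply CycH1.H1π_eq_smul_of (Rep.of ρ₁) g hg
      rw [hval, hf1g]
    · by_cases hlt : i.1 < n
      · rw [if_pos hlt] at hval
        have hdvd : (p : ℤ) ∣ ((n : ℤ) + 1) - ((i.1 + 1 : ℕ) : ℤ) := by
          by_contra hnd
          apply hmem
          rw [mem_Jset]
          refine ⟨⟨hi.1.1, by omega⟩, hi.2, ?_⟩
          have e : ((n : ℤ) + 1) - ((i.1 + 1 : ℕ) : ℤ) = (n : ℤ) - i.1 := by push_cast; ring
          rw [e] at hnd
          exact hnd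
        obtain ⟨h, hh⟩ := s13863 p n hn hpn u hu1 hun hu ((n : ℤ) + 1) (i.1 + 1) (by omega)
          (by omega) hdvd (c1 (i.1 + 1)) (hc1 (i.1 + 1) (by omega) (by omega))
        apply CycH1.H1π_eq_zero_of (Rep.of ρ₁) g hg _ ((-(i.1 : k)) • h)
        rw [hval, Rep.of_ρ, map_smul, hρ₁', ← smul_sub, hh]
      · rw [if_neg hlt] at hval
        exact CycH1.H1π_eq_zero_of_zero (Rep.of ρ₁) g hg _ hval
  have hres := CycH1.finrank_range_of_basis v0 b hb Φ ?_ ?_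
  · rw [Fintype.card_coe] at hres
    exact hres
  · intro i
    rw [key i]
    split_ifs with hmem
    · exact Submodule.smul_mem _ _ (Submodule.subset_span ⟨⟨i.1, hmem⟩, rfl⟩)
    · exact Submodule.zero_mem _
  · intro j
    have hj := mem_Jset.mp j.2
    have hjF : j.1 ∈ F p n 0 := by
      rw [mem_F]
      exact ⟨⟨hj.1.1, by omega⟩, hj.2.1⟩
    have hk := key ⟨j.1, hjF⟩
    rw [dif_pos j.2] at hk
    have hne : (-(j.1 : k)) ≠ 0 := by
      rw [neg_ne_zero]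
      intro h0
      have := (CharP.cast_eq_zero_iff k p j.1).mp h0
      apply hj.2.1
      rw [zero_sub, dvd_neg]
      exact_mod_cast this
    refine ⟨(-(j.1 : k))⁻¹ • v0 ⟨j.1, hjF⟩, ?_⟩
    rw [map_smul, hk, smul_smul, inv_mul_cancel₀ hne, one_smul]

end main

end Groth.Agent.Helper20.ASPow
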