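import Mathlib

/-!
# The hypergeometric ODE for `∑ (i choose l) (j choose (n-l)) W^(n-l)` and simplicity of its roots
away from `0, 1` (helper20, for S16259)
-/

set_option autoImplicit false

namespace Groth.Agent.Lib.Helper20.BinomODE

open Polynomial

variable {k : Type*} [Field k] [CharZero k]

/-- the polynomial. -/
noncomputable def h (i j n : ℕ) : k[X] :=
  ∑ l ∈ Finset.range (n + 1), C (((i.choose l) * (j.choose (n - l)) : ℕ) : k) * X ^ (n - l)

/-- its coefficient sequence. -/
def c (i j n m : ℕ) : k := if m ≤ n then ((i.choose (n - m) * j.choose m : ℕ) : k) else 0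

theorem coeff_h (i j n m : ℕ) : (h (k := k) i j n).coeff m = c i j n m := by
  unfold h c
  rw [finset_sum_coeff]
  simp only [coeff_C_mul_X_pow]
  split_ifs with hm
  · rw [Finset.sum_eq_single (n - m)]
    · rw [if_pos (by omega), Nat.sub_sub_self hm]
    · intro l hl hne
      rw [if_neg]
      have := Finset.mem_range.1 hl
      omega
    · intro hnm
      exact absurd (Finset.mem_range.2 (by omega)) hnm
  · apply Finset.sum_eq_zero
    intro l _
    rw [if_neg]
    omega

theorem choose_rec (a b : ℕ) :
    ((a.choose (b + 1) : ℕ) : k) * ((b : k) + 1) = (a.choose b : k) * ((a : k) - b) := by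
  by_cases hb : b ≤ a
  · have h1 := Nat.choose_succ_right_eq a b
    have h2 : ((a.choose (b + 1) * (b + 1) : ℕ) : k) = ((a.choose b * (a - b) : ℕ) : k) := by
      rw [h1]
    push_cast [Nat.cast_sub hb] at h2
    exact h2
  · rw [Nat.choose_eq_zero_of_lt (by omega : a < b),
      Nat.choose_eq_zero_of_lt (by omega : a < b + 1)]
    simp

theorem c_rec (i j n m : ℕ) :
    ((m : k) + 1) * ((m : k) + (1 + i - n)) * c i j n (m + 1) =
      ((m : k) - n) * ((m : k) - j) * c (k := k) i j n m := by
  unfold c
  by_cases h1 : m + 1 ≤ n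
  · rw [if_pos h1, if_pos (by omega : m ≤ n)]
    have e1 := choose_rec (k := k) j m
    have e2 := choose_rec (k := k) i (n - (m + 1))
    have e3 : n - (m + 1) + 1 = n - m := by omega
    rw [e3] at e2
    have e4 : ((n - (m + 1) : ℕ) : k) = (n : k) - m - 1 := by
      rw [Nat.cast_sub h1]; push_cast; ring
    rw [e4] at e2
    push_cast
    linear_combination ((i.choose (n - (m + 1)) : k) * ((m : k) + 1 + i - n)) * e1 -
      ((j.choose m : k) * ((j : k) - m)) * e2
  · rw [if_neg h1, mul_zero]
    by_cases h2 : m ≤ n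
    · have : m = n := by omega
      subst this
      rw [sub_self, zero_mul, zero_mul]
    · rw [if_neg h2, mul_zero]

theorem coeff_theta (p : k[X]) (m : ℕ) : (X * derivative p).coeff m = (m : k) * p.coeff m := by
  cases m with
  | zero => rw [coeff_X_mul_zero]; simp
  | succ m => rw [coeff_X_mul, coeff_derivative]; push_cast; ring

theorem ode (i j n : ℕ) :
    derivative (X * derivative (h (k := k) i j n)) - derivative (h i j n) -
        X * derivative (X * derivative (h i j n)) + X * derivative (h i j n) +
        C ((1 : k) + i - n) * derivative (h i j n) -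
        C ((1 : k) - n - j) * (X * derivative (h i j n)) - C ((n : k) * j) * h i j n = 0 := by
  ext m
  simp only [coeff_sub, coeff_add, coeff_derivative, coeff_theta, coeff_C_mul, coeff_h,
    coeff_zero]
  push_cast
  linear_combination c_rec (k := k) i j n m

theorem main (i j n : ℕ) (c : k) (hc0 : c ≠ 0) (hc1 : c ≠ 1) :
    rootMultiplicity c (h (k := k) i j n) ≤ 1 := by
  by_contra hlt
  push Not at hlt
  set p := h (k := k) i j n with hp
  have hp0 : p ≠ 0 := by
    intro h0
    rw [h0, rootMultiplicity_zero] at hlt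
    omega
  set μ := rootMultiplicity c p with hμ
  have hroot : p.IsRoot c := (rootMultiplicity_pos hp0).1 (by omega)
  have hμ1 : rootMultiplicity c (derivative p) = μ - 1 :=
    derivative_rootMultiplicity_of_root hroot
  have hd0 : derivative p ≠ 0 ∧ (derivative p).IsRoot c := rootMultiplicity_pos'.1 (by omega)
  have hμ2 : rootMultiplicity c (derivative (derivative p)) = μ - 1 - 1 := by
    rw [derivative_rootMultiplicity_of_root hd0.2, hμ1]
  have hdd0 : derivative (derivative p) ≠ 0 := by
    intro h0
    have h1 := eq_C_of_derivative_eq_zero h0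
    rw [h1] at hd0
    exact not_isRoot_C _ _ (C_ne_zero.1 hd0.1) hd0.2
  have hdiv0 : (X - C c) ^ μ ∣ p := pow_rootMultiplicity_dvd p c
  have hdiv1 : (X - C c) ^ (μ - 1) ∣ derivative p :=
    pow_sub_one_dvd_derivative_of_pow_dvd hdiv0
  have hdiv0' : (X - C c) ^ (μ - 1) ∣ p := (pow_dvd_pow _ (Nat.sub_le _ _)).trans hdiv0
  have hE := ode (k := k) i j n
  rw [← hp] at hE
  have hkey : X * (1 - X) * derivative (derivative p) =
      C ((n : k) * j) * p - (C ((1 : k) + i - n) - C ((1 : k) - n - j) * X) * derivative p := by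
    have hE' := hE
    rw [derivative_mul, derivative_X, one_mul] at hE'
    linear_combination hE'
  have hdiv2 : (X - C c) ^ (μ - 1) ∣ X * (1 - X) * derivative (derivative p) := by
    rw [hkey]
    exact dvd_sub (Dvd.dvd.mul_left hdiv0' _) (Dvd.dvd.mul_left hdiv1 _)
  have hcop : IsCoprime ((X - C c) ^ (μ - 1)) (X * (1 - X)) := by
    apply IsCoprime.pow_left
    rw [(irreducible_X_sub_C c).coprime_iff_not_dvd, dvd_iff_isRoot]
    simp only [IsRoot, eval_mul, eval_X, eval_sub, eval_one]
    exact mul_ne_zero hc0 (sub_ne_zero.2 (Ne.symm hc1))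
  have hdiv3 : (X - C c) ^ (μ - 1) ∣ derivative (derivative p) :=
    hcop.dvd_of_dvd_mul_left hdiv2
  have := (le_rootMultiplicity_iff hdd0).2 hdiv3
  omega

end Groth.Agent.Lib.Helper20.BinomODE
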