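import Mathlib

set_option autoImplicit false
universe u v

open MvPolynomial

namespace Groth.Agent.Helper20.CHConc

variable {A : Type u} [CommRing A] {σ : Type v} {d : ℕ} (φ₀ : (Fin d × σ →₀ ℕ) → A)

section defs
variable {R : Type u} [CommRing R] (f : A →+* R)

/-- the `R`-linear functional on `R[y^{(i)}_j]` with values `f (φ₀ μ)` on monomials -/
noncomputable def Phi : MvPolynomial (Fin d × σ) R →ₗ[R] R :=
  (MvPolynomial.basisMonomials (Fin d × σ) R).constr R (fun μ => f (φ₀ μ))

theorem Phi_monomial (μ : Fin d × σ →₀ ℕ) (r : R) :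
    Phi φ₀ f (monomial μ r) = r * f (φ₀ μ) := by
  have h1 : (monomial μ r : MvPolynomial (Fin d × σ) R) =
      r • (MvPolynomial.basisMonomials (Fin d × σ) R) μ := by
    rw [MvPolynomial.coe_basisMonomials, MvPolynomial.smul_monomial, smul_eq_mul, mul_one]
  rw [h1, map_smul, Phi, Module.Basis.constr_basis, smul_eq_mul]

theorem Phi_C_mul (r : R) (p : MvPolynomial (Fin d × σ) R) :
    Phi φ₀ f (C r * p) = r * Phi φ₀ f p := by
  rw [← MvPolynomial.smul_eq_C_mul, map_smul, smul_eq_mul]

theorem Phi_mul_C (r : R) (p : MvPolynomial (Fin d × σ) R) :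
    Phi φ₀ f (p * C r) = Phi φ₀ f p * r := by
  rw [mul_comm, Phi_C_mul, mul_comm]

theorem Phi_map {R' : Type u} [CommRing R'] (g : R →+* R') (p : MvPolynomial (Fin d × σ) R) :
    Phi φ₀ (g.comp f) (map g p) = g (Phi φ₀ f p) := by
  induction p using MvPolynomial.induction_on' with
  | monomial μ a =>
    rw [MvPolynomial.map_monomial, Phi_monomial, Phi_monomial, map_mul]
    rfl
  | add p q hp hq => rw [map_add, map_add, map_add, hp, hq, map_add]

/-- `q ↦ ∏ᵢ q(y^{(i)})` -/
noncomputable def tauh : MvPolynomial σ R →* MvPolynomial (Fin d × σ) R where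
  toFun q := ∏ i : Fin d, rename (Prod.mk i) q
  map_one' := by simp
  map_mul' q q' := by simp [Finset.prod_mul_distrib]

theorem tauh_apply (q : MvPolynomial σ R) :
    tauh (d := d) q = ∏ i : Fin d, rename (Prod.mk i) q := rfl

theorem tauh_map {R' : Type u} [CommRing R'] (g : R →+* R') (q : MvPolynomial σ R) :
    tauh (d := d) (map g q) = map g (tauh (d := d) q) := by
  rw [tauh_apply, tauh_apply, map_prod]
  refine Finset.prod_congr rfl (fun i _ => ?_)
  rw [MvPolynomial.map_rename]

/-- the concrete law -/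
noncomputable def Fh (q : MvPolynomial σ R) : R := Phi φ₀ f (tauh q)

theorem Fh_map {R' : Type u} [CommRing R'] (g : R →+* R') (q : MvPolynomial σ R) :
    Fh φ₀ (g.comp f) (map g q) = g (Fh φ₀ f q) := by
  unfold Fh
  rw [tauh_map, Phi_map]

end defs

/-- the concrete law is multiplicative over every base change -/
def IsMultC : Prop :=
  ∀ (R : Type u) [CommRing R] (f : A →+* R),
    Fh φ₀ f (1 : MvPolynomial σ R) = 1 ∧
      ∀ q q' : MvPolynomial σ R, Fh φ₀ f (q * q') = Fh φ₀ f q * Fh φ₀ f q'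

section G
variable {R : Type u} [CommRing R] (f : A →+* R)

/-- elements on which `Phi` is universally multiplicative against values of `tauh` -/
def G : Set (MvPolynomial (Fin d × σ) R) :=
  {p | ∀ (R' : Type u) [CommRing R'] (g : R →+* R') (q' : MvPolynomial σ R'),
    Phi φ₀ (g.comp f) (map g p * tauh q') = g (Phi φ₀ f p) * Fh φ₀ (g.comp f) q'}

variable {φ₀ f}

theorem G_apply_id {p : MvPolynomial (Fin d × σ) R} (hp : p ∈ G φ₀ f)
    (q' : MvPolynomial σ R) : Phi φ₀ f (p * tauh q') = Phi φ₀ f p * Fh φ₀ f q' := by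
  have := hp R (RingHom.id R) q'
  rw [MvPolynomial.map_id] at this
  exact this

theorem tauh_mem_G (hm : IsMultC φ₀) (q : MvPolynomial σ R) : tauh q ∈ G φ₀ f := by
  intro R' _ g q'
  rw [← tauh_map, ← map_mul]
  show Fh φ₀ (g.comp f) (map g q * q') = _
  rw [(hm R' (g.comp f)).2, Fh_map]
  rfl

theorem map_mem_G {R' : Type u} [CommRing R'] (g : R →+* R') {p : MvPolynomial (Fin d × σ) R}
    (hp : p ∈ G φ₀ f) : map g p ∈ G φ₀ (g.comp f) := by
  intro R'' _ g' q'
  have := hp R'' (g'.comp g) q'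
  rw [MvPolynomial.map_map, Phi_map]
  exact this

theorem mul_tauh_mem_G (hm : IsMultC φ₀) {p : MvPolynomial (Fin d × σ) R} (hp : p ∈ G φ₀ f)
    (q : MvPolynomial σ R) : p * tauh q ∈ G φ₀ f := by
  intro R' _ g q'
  rw [(map g).map_mul p (tauh q), ← tauh_map, mul_assoc, ← map_mul, hp R' g (map g q * q'),
    (hm R' (g.comp f)).2, Fh_map, G_apply_id hp, map_mul, mul_assoc]

end G

section Xi
variable {R : Type u} [CommRing R] {τ : Type v} {κ : Type}

/-- from coefficients outside to coefficients inside -/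
noncomputable def Xi : MvPolynomial κ (MvPolynomial τ R) →+* MvPolynomial τ (MvPolynomial κ R) :=
  eval₂Hom (map (C : R →+* MvPolynomial κ R)) (fun k => C (X k))

theorem Xi_C (u : MvPolynomial τ R) :
    Xi (C u : MvPolynomial κ (MvPolynomial τ R)) = map C u := by
  rw [Xi, eval₂Hom_C]

theorem Xi_X (k : κ) : Xi (X k : MvPolynomial κ (MvPolynomial τ R)) = C (X k) := by
  rw [Xi, eval₂Hom_X']

theorem Xi_monomial (β : κ →₀ ℕ) (u : MvPolynomial τ R) :
    Xi (monomial β u) = map C u * C (monomial β (1 : R)) := by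
  rw [Xi, eval₂Hom_monomial]
  congr 1
  rw [MvPolynomial.monomial_eq, map_one, one_mul, map_finsuppProd]
  simp only [map_pow]

theorem map_Xi {R' : Type u} [CommRing R'] (g : R →+* R')
    (P : MvPolynomial κ (MvPolynomial τ R)) :
    map (map g : MvPolynomial κ R →+* MvPolynomial κ R') (Xi P) =
      Xi (map (map g : MvPolynomial τ R →+* MvPolynomial τ R') P) := by
  induction P using MvPolynomial.induction_on' with
  | monomial β u =>
    rw [Xi_monomial, MvPolynomial.map_monomial, Xi_monomial, map_mul, MvPolynomial.map_map,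
      MvPolynomial.map_map, MvPolynomial.map_C, MvPolynomial.map_monomial, map_one]
    congr 2
    refine RingHom.ext (fun r => ?_)
    simp
  | add p q hp hq => rw [map_add, map_add, map_add, map_add, hp, hq]

end Xi

section L1
variable {R : Type u} [CommRing R] (f : A →+* R) {κ : Type}

theorem coeff_Phi_Xi (P : MvPolynomial κ (MvPolynomial (Fin d × σ) R)) (β : κ →₀ ℕ) :
    coeff β (Phi φ₀ ((C : R →+* MvPolynomial κ R).comp f) (Xi P)) = Phi φ₀ f (coeff β P) := by
  classical
  induction P using MvPolynomial.induction_on' with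
  | monomial β' u =>
    rw [Xi_monomial, Phi_mul_C, Phi_map, MvPolynomial.coeff_C_mul, MvPolynomial.coeff_monomial,
      MvPolynomial.coeff_monomial]
    split_ifs with h
    · rw [mul_one]
    · rw [mul_zero, map_zero]
  | add p q hp hq => rw [map_add, map_add, coeff_add, hp, hq, coeff_add, map_add]

variable {φ₀ f}

/-- coefficient extraction preserves `G` -/
theorem coeff_mem_G (P : MvPolynomial κ (MvPolynomial (Fin d × σ) R))
    (hP : Xi P ∈ G φ₀ ((C : R →+* MvPolynomial κ R).comp f)) (β : κ →₀ ℕ) :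
    coeff β P ∈ G φ₀ f := by
  intro R' _ g q'
  have h := hP (MvPolynomial κ R') (map g) (map C q')
  have e1 : ((map g : MvPolynomial κ R →+* MvPolynomial κ R').comp
      ((C : R →+* MvPolynomial κ R).comp f)) =
      (C : R' →+* MvPolynomial κ R').comp (g.comp f) := by
    ext a
    simp
  rw [e1, map_Xi, tauh_map, ← Xi_C, ← map_mul, Fh_map] at h
  have h2 := congrArg (coeff β) h
  rw [coeff_Phi_Xi, mul_comm _ (C (tauh q')), MvPolynomial.coeff_C_mul, MvPolynomial.coeff_map,
    mul_comm _ (C (Fh φ₀ (g.comp f) q')), MvPolynomial.coeff_C_mul,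
    MvPolynomial.coeff_map, coeff_Phi_Xi, mul_comm, mul_comm (Fh φ₀ (g.comp f) q')] at h2
  exact h2

end L1

section Xi1
variable {R : Type u} [CommRing R] {τ : Type v}

/-- one-variable version of `Xi` -/
noncomputable def Xi₁ : Polynomial (MvPolynomial τ R) →+* MvPolynomial τ (Polynomial R) :=
  Polynomial.eval₂RingHom (map (Polynomial.C : R →+* Polynomial R)) (C Polynomial.X)

theorem Xi₁_C (u : MvPolynomial τ R) : Xi₁ (Polynomial.C u) = map Polynomial.C u := by
  simp [Xi₁]

theorem Xi₁_X : Xi₁ (Polynomial.X : Polynomial (MvPolynomial τ R)) = C Polynomial.X := by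
  simp [Xi₁]

theorem Xi₁_monomial (k : ℕ) (u : MvPolynomial τ R) :
    Xi₁ (Polynomial.monomial k u) = map Polynomial.C u * C (Polynomial.X ^ k) := by
  rw [← Polynomial.C_mul_X_pow_eq_monomial, map_mul, map_pow, Xi₁_C, Xi₁_X, map_pow]

theorem map_Xi₁ {R' : Type u} [CommRing R'] (g : R →+* R')
    (P : Polynomial (MvPolynomial τ R)) :
    map (Polynomial.mapRingHom g) (Xi₁ P) =
      Xi₁ (P.map (map g : MvPolynomial τ R →+* MvPolynomial τ R')) := by
  induction P using Polynomial.induction_on' with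
  | monomial k u =>
    rw [Xi₁_monomial, Polynomial.map_monomial, Xi₁_monomial, map_mul, MvPolynomial.map_map,
      MvPolynomial.map_map, MvPolynomial.map_C]
    have e1 : (Polynomial.mapRingHom g).comp (Polynomial.C : R →+* Polynomial R) =
        (Polynomial.C : R' →+* Polynomial R').comp g := by
      refine RingHom.ext (fun r => ?_)
      show Polynomial.map g (Polynomial.C r) = Polynomial.C (g r)
      rw [Polynomial.map_C]
    have e2 : (Polynomial.mapRingHom g) (Polynomial.X ^ k) = Polynomial.X ^ k := by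
      show Polynomial.map g (Polynomial.X ^ k) = Polynomial.X ^ k
      rw [Polynomial.map_pow, Polynomial.map_X]
    rw [e1, e2]
  | add p q hp hq => rw [map_add, map_add, Polynomial.map_add, map_add, hp, hq]

end Xi1

section L1'
variable {R : Type u} [CommRing R] (f : A →+* R)

theorem coeff_Phi_Xi₁ (P : Polynomial (MvPolynomial (Fin d × σ) R)) (k : ℕ) :
    Polynomial.coeff (Phi φ₀ ((Polynomial.C : R →+* Polynomial R).comp f) (Xi₁ P)) k =
      Phi φ₀ f (P.coeff k) := by
  induction P using Polynomial.induction_on' with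
  | monomial k' u =>
    rw [Xi₁_monomial, Phi_mul_C, Phi_map, Polynomial.coeff_C_mul, Polynomial.coeff_X_pow,
      Polynomial.coeff_monomial]
    split_ifs with h1 h2 h2
    · rw [mul_one]
    · exact absurd h1.symm h2
    · exact absurd h2.symm h1
    · rw [mul_zero, map_zero]
  | add p q hp hq =>
    rw [map_add, map_add, Polynomial.coeff_add, hp, hq, Polynomial.coeff_add, map_add]

variable {φ₀ f}

theorem coeff_mem_G₁ (P : Polynomial (MvPolynomial (Fin d × σ) R))
    (hP : Xi₁ P ∈ G φ₀ ((Polynomial.C : R →+* Polynomial R).comp f)) (k : ℕ) :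
    P.coeff k ∈ G φ₀ f := by
  intro R' _ g q'
  have h := hP (Polynomial R') (Polynomial.mapRingHom g) (map Polynomial.C q')
  have e1 : ((Polynomial.mapRingHom g).comp ((Polynomial.C : R →+* Polynomial R).comp f)) =
      (Polynomial.C : R' →+* Polynomial R').comp (g.comp f) := by
    ext a
    simp
  rw [e1, map_Xi₁, tauh_map, ← Xi₁_C, ← map_mul, Fh_map] at h
  have h2 := congrArg (fun p => Polynomial.coeff p k) h
  rw [coeff_Phi_Xi₁, Polynomial.coeff_mul_C, Polynomial.coeff_map, Polynomial.coeff_mul_C,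
    Polynomial.coe_mapRingHom, Polynomial.coeff_map, coeff_Phi_Xi₁] at h2
  exact h2

end L1'

section CharPoly
variable {R : Type u} [CommRing R] (f : A →+* R) (x : MvPolynomial σ R)

/-- `x^{(i)}` -/
noncomputable def xi (d : ℕ) (i : Fin d) : MvPolynomial (Fin d × σ) R := rename (Prod.mk i) x

/-- the universal characteristic polynomial `∏ᵢ (t - x^{(i)})` -/
noncomputable def E' (d : ℕ) : Polynomial (MvPolynomial (Fin d × σ) R) :=
  ∏ i : Fin d, (Polynomial.X - Polynomial.C (xi x d i))

/-- its coefficients -/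
noncomputable def eh (d : ℕ) (k : ℕ) : MvPolynomial (Fin d × σ) R := (E' x d).coeff k

theorem E'_natDegree_le : (E' x d).natDegree ≤ d := by
  unfold E'
  refine (Polynomial.natDegree_prod_le _ _).trans ?_
  have h1 : ∑ i : Fin d, (Polynomial.X - Polynomial.C (xi x d i)).natDegree ≤
      ∑ _i : Fin d, 1 := Finset.sum_le_sum (fun i _ => Polynomial.natDegree_X_sub_C_le _)
  refine h1.trans ?_
  simp

theorem eh_top : eh x d d = 1 := by
  unfold eh E'
  have h := Polynomial.coeff_prod_of_natDegree_le (s := (Finset.univ : Finset (Fin d)))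
    (fun i => Polynomial.X - Polynomial.C (xi x d i)) 1
    (fun i _ => Polynomial.natDegree_X_sub_C_le _)
  rw [Finset.card_univ, Fintype.card_fin, mul_one] at h
  rw [h]
  simp

theorem E'_eq_sum : E' x d = ∑ k ∈ Finset.range (d + 1), Polynomial.C (eh x d k) * Polynomial.X ^ k := by
  have := Polynomial.as_sum_range' (E' x d) (d + 1) (Nat.lt_succ_of_le (E'_natDegree_le x))
  simp only [← Polynomial.C_mul_X_pow_eq_monomial] at this
  exact this

theorem E'_eval (i : Fin d) : (E' x d).eval (xi x d i) = 0 := by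
  unfold E'
  rw [Polynomial.eval_prod]
  exact Finset.prod_eq_zero (Finset.mem_univ i) (by simp)

theorem sum_eh_mul_pow (i : Fin d) :
    xi x d i ^ d + ∑ k : Fin d, eh x d k * xi x d i ^ (k : ℕ) = 0 := by
  have h := E'_eval x i
  rw [E'_eq_sum, Polynomial.eval_finsetSum, Finset.sum_range_succ, eh_top] at h
  simp only [Polynomial.eval_mul, Polynomial.eval_C, Polynomial.eval_pow, Polynomial.eval_X,
    one_mul] at h
  rw [Fin.sum_univ_eq_sum_range (fun k => eh x d k * xi x d i ^ k) d, add_comm]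
  exact h

theorem Xi₁_E' :
    Xi₁ (E' x d) = tauh (d := d) (C Polynomial.X - map Polynomial.C x) := by
  unfold E'
  rw [map_prod, tauh_apply]
  refine Finset.prod_congr rfl (fun i _ => ?_)
  rw [map_sub, Xi₁_X, Xi₁_C, map_sub, rename_C, xi, MvPolynomial.map_rename]

variable {φ₀ f}

/-- multiplying by a coefficient of the universal characteristic polynomial preserves `G`,
and `Phi` is multiplicative there -/
theorem mul_eh_mem_G (hm : IsMultC φ₀) {u : MvPolynomial (Fin d × σ) R} (hu : u ∈ G φ₀ f)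
    (k : ℕ) :
    u * eh x d k ∈ G φ₀ f ∧ Phi φ₀ f (u * eh x d k) = Phi φ₀ f u * Phi φ₀ f (eh x d k) := by
  have h1 : Xi₁ (Polynomial.C u * E' x d) ∈
      G φ₀ ((Polynomial.C : R →+* Polynomial R).comp f) := by
    rw [map_mul, Xi₁_C, Xi₁_E']
    exact mul_tauh_mem_G hm (map_mem_G _ hu) _
  have h2 := coeff_mem_G₁ _ h1 k
  rw [Polynomial.coeff_C_mul] at h2
  refine ⟨h2, ?_⟩
  have h3 := hu (Polynomial R) Polynomial.C (C Polynomial.X - map Polynomial.C x)
  rw [← Xi₁_E', ← Xi₁_C, ← map_mul] at h3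
  have h4 := congrArg (fun p => Polynomial.coeff p k) h3
  rw [coeff_Phi_Xi₁, Polynomial.coeff_C_mul, Polynomial.coeff_C_mul] at h4
  show Phi φ₀ f (u * (E' x d).coeff k) = _
  rw [h4]
  congr 1
  unfold Fh
  rw [← Xi₁_E', coeff_Phi_Xi₁]
  rfl

theorem mul_eh_pow_mem_G (hm : IsMultC φ₀) (k n : ℕ) :
    ∀ {u : MvPolynomial (Fin d × σ) R}, u ∈ G φ₀ f →
    (u * eh x d k ^ n ∈ G φ₀ f ∧
      Phi φ₀ f (u * eh x d k ^ n) = Phi φ₀ f u * (Phi φ₀ f (eh x d k)) ^ n) := by
  induction n with
  | zero => intro u hu; simp [hu]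
  | succ n ih =>
    intro u hu
    obtain ⟨h1, h2⟩ := mul_eh_mem_G x hm hu k
    obtain ⟨h3, h4⟩ := ih h1
    rw [pow_succ', ← mul_assoc]
    refine ⟨h3, ?_⟩
    rw [h4, h2, pow_succ', mul_assoc]

theorem mul_prod_mem_G (hm : IsMultC φ₀) (β : Fin d →₀ ℕ) :
    ∀ {u : MvPolynomial (Fin d × σ) R}, u ∈ G φ₀ f →
    (u * β.prod (fun k n => eh x d k ^ n) ∈ G φ₀ f ∧
      Phi φ₀ f (u * β.prod (fun k n => eh x d k ^ n)) =
        Phi φ₀ f u * β.prod (fun k n => Phi φ₀ f (eh x d k) ^ n)) := by
  induction β using Finsupp.induction with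
  | zero => intro u hu; simp [hu]
  | single_add k n β hk hn ih =>
    intro u hu
    have e1 : (Finsupp.single k n + β).prod (fun k n => eh x d k ^ n) =
        eh x d k ^ n * β.prod (fun k n => eh x d k ^ n) := by
      rw [Finsupp.prod_add_index' (fun _ => pow_zero _) (fun _ _ _ => pow_add _ _ _)]
      congr 1
      exact Finsupp.prod_single_index (pow_zero _)
    have e2 : (Finsupp.single k n + β).prod (fun k n => Phi φ₀ f (eh x d k) ^ n) =
        Phi φ₀ f (eh x d k) ^ n * β.prod (fun k n => Phi φ₀ f (eh x d k) ^ n) := by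
      rw [Finsupp.prod_add_index' (fun _ => pow_zero _) (fun _ _ _ => pow_add _ _ _)]
      congr 1
      exact Finsupp.prod_single_index (pow_zero _)
    rw [e1, e2, ← mul_assoc]
    obtain ⟨h1, h2⟩ := mul_eh_pow_mem_G x hm k n hu
    obtain ⟨h3, h4⟩ := ih h1
    exact ⟨h3, by rw [h4, h2, mul_assoc]⟩

end CharPoly

section CH
variable {R : Type u} [CommRing R] {f : A →+* R} (x z w : MvPolynomial σ R)

/-- the generic perturbation `z + w χ_a(x)` -/
noncomputable def qa (d : ℕ) : MvPolynomial σ (MvPolynomial (Fin d) R) :=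
  map C z + map C w * ((map C x) ^ d + ∑ k : Fin d, C (X k) * (map C x) ^ (k : ℕ))

/-- its image under `tauh`, with coefficients outside -/
noncomputable def Om (d : ℕ) : MvPolynomial (Fin d) (MvPolynomial (Fin d × σ) R) :=
  ∏ i : Fin d, (C (xi z d i) + C (xi w d i) *
    ((C (xi x d i)) ^ d + ∑ k : Fin d, X k * (C (xi x d i)) ^ (k : ℕ)))

theorem Xi_Om : Xi (Om x z w d) = tauh (qa x z w d) := by
  unfold Om qa
  rw [map_prod, tauh_apply]
  refine Finset.prod_congr rfl (fun i _ => ?_)
  simp only [map_add, map_mul, map_pow, map_sum, Xi_C, Xi_X, xi, MvPolynomial.map_rename,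
    rename_C]

theorem eval_Om : MvPolynomial.eval (fun k : Fin d => eh x d k) (Om x z w d) = tauh z := by
  unfold Om
  rw [map_prod, tauh_apply]
  refine Finset.prod_congr rfl (fun i _ => ?_)
  simp only [map_add, map_mul, map_pow, map_sum, eval_C, eval_X]
  rw [sum_eh_mul_pow, mul_zero, add_zero]
  rfl

variable {φ₀}

/-- Cayley–Hamilton for concrete multiplicative laws. -/
theorem CH_conc (hm : IsMultC φ₀) :
    Fh φ₀ f (z + w * (x ^ d + ∑ k : Fin d, C (Phi φ₀ f (eh x d k)) * x ^ (k : ℕ))) =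
      Fh φ₀ f z := by
  classical
  set ε : Fin d → R := fun k => Phi φ₀ f (eh x d k) with hε
  let ψ : MvPolynomial (Fin d) R →+* R := MvPolynomial.eval ε
  have e0 : ψ.comp (C : R →+* MvPolynomial (Fin d) R) = RingHom.id R := by
    ext a
    simp [ψ]
  have e1 : ψ.comp ((C : R →+* MvPolynomial (Fin d) R).comp f) = f := by
    rw [← RingHom.comp_assoc, e0, RingHom.id_comp]
  have h1 : map ψ (qa x z w d) =
      z + w * (x ^ d + ∑ k : Fin d, C (ε k) * x ^ (k : ℕ)) := by
    unfold qa
    simp only [map_add, map_mul, map_pow, map_sum, MvPolynomial.map_map, e0, MvPolynomial.map_id,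
      MvPolynomial.map_C]
    simp [ψ]
  have h2 := Fh_map φ₀ ((C : R →+* MvPolynomial (Fin d) R).comp f) ψ (qa x z w d)
  rw [e1, h1] at h2
  rw [h2]
  have hG : ∀ β, coeff β (Om x z w d) ∈ G φ₀ f :=
    fun β => coeff_mem_G _ (by rw [Xi_Om]; exact tauh_mem_G hm _) β
  have hP : Phi φ₀ ((C : R →+* MvPolynomial (Fin d) R).comp f) (Xi (Om x z w d)) =
      ∑ β ∈ (Om x z w d).support, monomial β (Phi φ₀ f (coeff β (Om x z w d))) := by
    ext β'
    rw [coeff_Phi_Xi, MvPolynomial.coeff_sum]
    simp only [MvPolynomial.coeff_monomial]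
    rw [Finset.sum_ite_eq']
    split_ifs with h
    · rfl
    · rw [MvPolynomial.notMem_support_iff.1 h, map_zero]
  unfold Fh
  rw [← Xi_Om, hP, ← eval_Om x z w]
  conv_rhs => rw [(Om x z w d).as_sum]
  rw [map_sum, map_sum, map_sum]
  refine Finset.sum_congr rfl (fun β _ => ?_)
  rw [MvPolynomial.eval_monomial, MvPolynomial.eval_monomial]
  exact ((mul_prod_mem_G x hm β (hG β)).2).symm

end CH

end Groth.Agent.Helper20.CHConc
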