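import Mathlib
import Groth.Agent.Lib.Helper20.CHConc

set_option autoImplicit false
universe u v

open MvPolynomial

namespace Groth.Agent.Helper20.CHConc

section cnt
variable {M : Type*} {d : ℕ}

/-- the multi-index of a tuple -/
noncomputable def cnt (ν : Fin d → M) : M →₀ ℕ := ∑ i, Finsupp.single (ν i) 1

theorem cnt_sum (ν : Fin d → M) : (cnt ν).sum (fun _ k => k) = d := by
  unfold cnt
  rw [← Finsupp.sum_finsetSum_index (h := fun _ k => k) (fun _ => rfl) (fun _ _ _ => rfl)]
  simp

theorem exists_tuple : ∀ (d : ℕ) (α : M →₀ ℕ), α.sum (fun _ k => k) = d →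
    ∃ ν : Fin d → M, cnt ν = α := by
  classical
  intro d
  induction d with
  | zero =>
    intro α h
    refine ⟨Fin.elim0, ?_⟩
    have : α = 0 := by
      ext a
      by_contra ha
      have h1 : a ∈ α.support := Finsupp.mem_support_iff.2 ha
      have h2 := Finset.single_le_sum (f := fun a => α a) (fun _ _ => Nat.zero_le _) h1
      rw [Finsupp.sum] at h
      rw [h] at h2
      exact ha (Nat.le_zero.1 h2)
    rw [this]
    simp [cnt]
  | succ d ih =>
    intro α h
    have hne : α.support.Nonempty := by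
      by_contra h0
      rw [Finset.not_nonempty_iff_eq_empty, Finsupp.support_eq_empty] at h0
      rw [h0] at h
      simp at h
    obtain ⟨ν₀, hν₀⟩ := hne
    have h1 : Finsupp.single ν₀ 1 ≤ α := by
      rw [Finsupp.single_le_iff]
      exact Nat.one_le_iff_ne_zero.2 (Finsupp.mem_support_iff.1 hν₀)
    have h2 : Finsupp.single ν₀ 1 + (α - Finsupp.single ν₀ 1) = α := add_tsub_cancel_of_le h1
    have h3 : (α - Finsupp.single ν₀ 1).sum (fun _ k => k) = d := by
      have := congrArg (fun β : M →₀ ℕ => β.sum (fun _ k => k)) h2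
      rw [Finsupp.sum_add_index' (fun _ => rfl) (fun _ _ _ => rfl), h,
        Finsupp.sum_single_index rfl] at this
      omega
    obtain ⟨ν', hν'⟩ := ih _ h3
    refine ⟨Fin.cons ν₀ ν', ?_⟩
    unfold cnt at hν' ⊢
    rw [Fin.sum_univ_succ]
    simp only [Fin.cons_zero, Fin.cons_succ]
    rw [hν', h2]

/-- a representative of the class of `ν`, depending only on `cnt ν` -/
noncomputable def canon (ν : Fin d → M) : Fin d → M :=
  (exists_tuple d (cnt ν) (cnt_sum ν)).choose

theorem cnt_canon (ν : Fin d → M) : cnt (canon ν) = cnt ν :=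
  (exists_tuple d (cnt ν) (cnt_sum ν)).choose_spec

theorem canon_congr {ν ν' : Fin d → M} (h : cnt ν = cnt ν') : canon ν = canon ν' := by
  unfold canon
  have : ∀ (α α' : M →₀ ℕ) (hα : α.sum (fun _ k => k) = d) (hα' : α'.sum (fun _ k => k) = d),
      α = α' → (exists_tuple d α hα).choose = (exists_tuple d α' hα').choose := by
    rintro α _ hα hα' rfl
    rfl
  exact this (cnt ν) (cnt ν') (cnt_sum ν) (cnt_sum ν') h

theorem canon_canon (ν : Fin d → M) : canon (canon ν) = canon ν := canon_congr (cnt_canon ν)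

theorem prod_cnt {R : Type*} [CommMonoid R] (s : M → R) (ν : Fin d → M) :
    ∏ i, s (ν i) = (cnt ν).prod (fun a k => s a ^ k) := by
  unfold cnt
  rw [← Finsupp.prod_finsetSum_index (h := fun a k => s a ^ k) (fun _ => pow_zero _)
    (fun _ _ _ => pow_add _ _ _)]
  refine Finset.prod_congr rfl (fun i _ => ?_)
  rw [Finsupp.prod_single_index (h := fun a k => s a ^ k) (pow_zero _), pow_one]

theorem mem_of_cnt_support {ν : Fin d → M} {N : Finset M} (h : (cnt ν).support ⊆ N) (i : Fin d) :
    ν i ∈ N := by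
  classical
  apply h
  rw [Finsupp.mem_support_iff]
  unfold cnt
  rw [Finsupp.finsetSum_apply]
  have h1 : (Finsupp.single (ν i) 1 : M →₀ ℕ) (ν i) ≤
      ∑ j, (Finsupp.single (ν j) 1 : M →₀ ℕ) (ν i) :=
    Finset.single_le_sum (f := fun j => (Finsupp.single (ν j) 1 : M →₀ ℕ) (ν i))
      (fun _ _ => Nat.zero_le _) (Finset.mem_univ i)
  rw [Finsupp.single_eq_same] at h1
  omega

theorem cnt_support_subset {ν : Fin d → M} {N : Finset M} (h : ∀ i, ν i ∈ N) :
    (cnt ν).support ⊆ N := by
  classical
  unfold cnt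
  refine (Finsupp.support_finsetSum).trans ?_
  intro a ha
  rw [Finset.mem_biUnion] at ha
  obtain ⟨i, _, hi⟩ := ha
  rw [Finsupp.support_single_ne_zero _ one_ne_zero, Finset.mem_singleton] at hi
  rw [hi]
  exact h i

end cnt

section identity
variable {A : Type u} [CommRing A] {σ : Type v} {d : ℕ}

/-- unpack a monomial of the big ring into a tuple of monomials -/
noncomputable def unc (μ : Fin d × σ →₀ ℕ) : Fin d → (σ →₀ ℕ) := fun i => Finsupp.curry μ i

/-- pack a tuple of monomials into a monomial of the big ring -/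
noncomputable def pack (ν : Fin d → (σ →₀ ℕ)) : Fin d × σ →₀ ℕ :=
  ∑ i, (ν i).mapDomain (Prod.mk i)

theorem unc_pack (ν : Fin d → (σ →₀ ℕ)) : unc (pack ν) = ν := by
  classical
  funext i'
  ext j
  unfold unc pack
  rw [Finsupp.curry_apply, Finsupp.finsetSum_apply, Finset.sum_eq_single i']
  · exact Finsupp.mapDomain_apply (Prod.mk_right_injective i') _ _
  · intro i _ hi
    apply Finsupp.mapDomain_of_notMem_range
    rintro ⟨j', hj'⟩
    exact hi (congrArg Prod.fst hj')
  · intro h
    exact absurd (Finset.mem_univ _) h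

/-- the functional built from a coefficient family -/
noncomputable def phiOf (c : ((σ →₀ ℕ) →₀ ℕ) → A) : (Fin d × σ →₀ ℕ) → A := fun μ =>
  haveI := Classical.dec (unc μ = canon (unc μ))
  if unc μ = canon (unc μ) then c (cnt (unc μ)) else 0

theorem prod_monomial {R : Type*} [CommSemiring R] {τ ι : Type*} (s : Finset ι)
    (a : ι → τ →₀ ℕ) (b : ι → R) :
    ∏ i ∈ s, monomial (a i) (b i) = monomial (∑ i ∈ s, a i) (∏ i ∈ s, b i) := by
  classical
  induction s using Finset.induction_on with
  | empty => simp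
  | insert i s hi ih =>
    rw [Finset.prod_insert hi, Finset.sum_insert hi, Finset.prod_insert hi, ih, monomial_mul]

theorem tauh_eq_sum {R : Type u} [CommRing R] (q : MvPolynomial σ R) :
    tauh (d := d) q = ∑ ν ∈ Fintype.piFinset (fun _ : Fin d => q.support),
      monomial (pack ν) (∏ i, coeff (ν i) q) := by
  classical
  rw [tauh_apply]
  have h1 : ∀ i : Fin d, rename (Prod.mk i) q =
      ∑ ν ∈ q.support, monomial (ν.mapDomain (Prod.mk i)) (coeff ν q) := by
    intro i
    conv_lhs => rw [q.as_sum]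
    rw [map_sum]
    refine Finset.sum_congr rfl (fun ν _ => ?_)
    rw [rename_monomial]
  simp_rw [h1]
  rw [Finset.prod_univ_sum]
  refine Finset.sum_congr rfl (fun ν _ => ?_)
  rw [prod_monomial]
  rfl

open Classical in
theorem Fh_phiOf {R : Type u} [CommRing R] (f : A →+* R) (c : ((σ →₀ ℕ) →₀ ℕ) → A)
    (q : MvPolynomial σ R) :
    Fh (phiOf (d := d) c) f q =
      ∑ α ∈ Finset.finsuppAntidiag q.support d,
        (α.prod (fun ν k => coeff ν q ^ k)) * f (c α) := by
  classical
  unfold Fh
  rw [tauh_eq_sum, map_sum]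
  simp_rw [Phi_monomial]
  have h1 : ∀ ν : Fin d → (σ →₀ ℕ),
      (∏ i, coeff (ν i) q) * f (phiOf (d := d) c (pack ν)) =
        if ν = canon ν then ((cnt ν).prod (fun a k => coeff a q ^ k)) * f (c (cnt ν)) else 0 := by
    intro ν
    unfold phiOf
    rw [unc_pack]
    split_ifs with h
    · rw [prod_cnt (fun a => coeff a q) ν]
    · rw [map_zero, mul_zero]
  simp_rw [h1]
  rw [← Finset.sum_filter]
  refine Finset.sum_bij' (fun ν _ => cnt ν)
    (fun α hα => (exists_tuple d α ((Finset.mem_finsuppAntidiag'.1 hα).1)).choose) ?_ ?_ ?_ ?_ ?_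
  · intro ν hν
    rw [Finset.mem_filter, Fintype.mem_piFinset] at hν
    rw [Finset.mem_finsuppAntidiag']
    exact ⟨cnt_sum ν, cnt_support_subset hν.1⟩
  · intro α hα
    have hspec := (exists_tuple d α ((Finset.mem_finsuppAntidiag'.1 hα).1)).choose_spec
    rw [Finset.mem_filter, Fintype.mem_piFinset]
    refine ⟨fun i => mem_of_cnt_support (by rw [hspec]; exact (Finset.mem_finsuppAntidiag'.1 hα).2) i,
      ?_⟩
    unfold canon
    have : ∀ (α' : (σ →₀ ℕ) →₀ ℕ) (hα' : α'.sum (fun _ k => k) = d), α' = α →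
        (exists_tuple d α ((Finset.mem_finsuppAntidiag'.1 hα).1)).choose =
          (exists_tuple d α' hα').choose := by
      rintro _ _ rfl
      rfl
    exact this _ (cnt_sum _) hspec
  · intro ν hν
    rw [Finset.mem_filter] at hν
    have h2 := hν.2
    unfold canon at h2
    exact h2.symm
  · intro α hα
    exact (exists_tuple d α ((Finset.mem_finsuppAntidiag'.1 hα).1)).choose_spec
  · intro ν _
    rfl

end identity

end Groth.Agent.Helper20.CHConc
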