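import Mathlib
import Groth.Prelude.Def_PolLaw

set_option autoImplicit false
universe u
open scoped TensorProduct

namespace Groth.Agent.Helper20.PLKer

open Polynomial

variable {A : Type u} [CommRing A] {B : Type u} [CommRing B] [Algebra A B]
  {E : Type u} [CommRing E] [Algebra A E]

theorem rTensor_eq_map {M : Type u} [CommRing M] [Algebra A M]
    {S S' : Type u} [CommSemiring S] [Algebra A S] [CommSemiring S'] [Algebra A S']
    (φ : S →ₐ[A] S') (z : S ⊗[A] M) :
    φ.toLinearMap.rTensor M z = Algebra.TensorProduct.map φ (AlgHom.id A M) z := by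
  induction z using TensorProduct.induction_on with
  | zero => simp
  | tmul a b => rfl
  | add a b ha hb => simp [ha, hb]

/-- functoriality of a polynomial law in the test algebra, phrased with `Algebra.TensorProduct.map` -/
theorem compat (F : B →ₚₗ[A] E) {S S' : Type u} [CommSemiring S] [Algebra A S] [CommSemiring S']
    [Algebra A S'] (φ : S →ₐ[A] S') (z : S ⊗[A] B) :
    F.toFun' S' (Algebra.TensorProduct.map φ (AlgHom.id A B) z) =
      Algebra.TensorProduct.map φ (AlgHom.id A E) (F.toFun' S z) := by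
  have h := congrFun (F.isCompat' φ) z
  simp only [Function.comp_apply] at h
  rw [rTensor_eq_map, rTensor_eq_map] at h
  exact h.symm

theorem mem_ker_iff (F : B →ₚₗ[A] E) (b : B) :
    b ∈ PolLaw.ker F ↔ ∀ (S : Type u) [CommSemiring S] [Algebra A S] (x w : S ⊗[A] B),
      F.toFun' S (x + w * (1 ⊗ₜ[A] b)) = F.toFun' S x := Iff.rfl

theorem mem_kerBC_iff (F : B →ₚₗ[A] E) (A' : Type u) [CommRing A'] [Algebra A A'] (b' : A' ⊗[A] B) :
    b' ∈ PolLaw.kerBC F A' ↔ ∀ (R : Type u) [CommSemiring R] [Algebra A R] [Algebra A' R]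
      [IsScalarTower A A' R] (x w : R ⊗[A] B),
      F.toFun' R (x + w * Algebra.TensorProduct.map (IsScalarTower.toAlgHom A A' R)
        (AlgHom.id A B) b') = F.toFun' R x := Iff.rfl

theorem map_ker_le_kerBC (F : B →ₚₗ[A] E) (A' : Type u) [CommRing A'] [Algebra A A'] :
    (PolLaw.ker F).map (Algebra.TensorProduct.includeRight : B →ₐ[A] A' ⊗[A] B) ≤
      PolLaw.kerBC F A' := by
  rw [Ideal.map_le_iff_le_comap]
  intro b hb
  rw [Ideal.mem_comap, mem_kerBC_iff]
  intro R _ _ _ _ x w
  rw [Algebra.TensorProduct.includeRight_apply, Algebra.TensorProduct.map_tmul, map_one]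
  exact (mem_ker_iff F b).mp hb R x w

/-- the polynomial `∑ bᵢ Xⁱ` over `B` as the element `∑ Xⁱ ⊗ bᵢ` -/
noncomputable def elem : B[X] →+* (A[X] ⊗[A] B) :=
  Polynomial.eval₂RingHom
    ((Algebra.TensorProduct.includeRight : B →ₐ[A] A[X] ⊗[A] B) : B →+* A[X] ⊗[A] B) (X ⊗ₜ 1)

theorem elem_C (b : B) : elem (A := A) (C b) = 1 ⊗ₜ b := by
  simp [elem]

theorem elem_X : elem (A := A) (B := B) X = X ⊗ₜ 1 := by
  simp [elem]

theorem elem_monomial (n : ℕ) (b : B) : elem (A := A) (monomial n b) = (X ^ n) ⊗ₜ b := by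
  simp [elem, eval₂_monomial, Algebra.TensorProduct.tmul_mul_tmul]

theorem elem_surjective : Function.Surjective (elem (A := A) (B := B)) := by
  intro z
  induction z using TensorProduct.induction_on with
  | zero => exact ⟨0, map_zero _⟩
  | tmul p b =>
    induction p using Polynomial.induction_on' with
    | add p q hp hq =>
      obtain ⟨p', hp'⟩ := hp
      obtain ⟨q', hq'⟩ := hq
      exact ⟨p' + q', by rw [map_add, hp', hq', TensorProduct.add_tmul]⟩
    | monomial n a =>
      refine ⟨monomial n (a • b), ?_⟩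
      rw [elem_monomial, ← TensorProduct.smul_tmul, ← Polynomial.C_mul_X_pow_eq_monomial,
        ← Polynomial.smul_eq_C_mul]
        
  | add z₁ z₂ h₁ h₂ =>
    obtain ⟨p', hp'⟩ := h₁
    obtain ⟨q', hq'⟩ := h₂
    exact ⟨p' + q', by rw [map_add, hp', hq']⟩


theorem coeff_zero_mem (F : B →ₚₗ[A] E) (q : B[X]) (h : elem q ∈ PolLaw.kerBC F A[X]) :
    q.coeff 0 ∈ PolLaw.ker F := by
  rw [mem_ker_iff]
  intro S _ _ x w
  letI algS : Algebra A[X] S := (Polynomial.aeval (R := A) (0 : S)).toRingHom.toAlgebra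
  haveI : IsScalarTower A A[X] S := IsScalarTower.of_algebraMap_eq (fun a => by
    show algebraMap A S a = Polynomial.aeval (R := A) (0 : S) (algebraMap A A[X] a)
    rw [Polynomial.algebraMap_apply, Polynomial.aeval_C, Algebra.algebraMap_self, RingHom.id_apply])
  have h1 := (mem_kerBC_iff F A[X] _).mp h S x w
  have h2 : Algebra.TensorProduct.map (IsScalarTower.toAlgHom A A[X] S) (AlgHom.id A B) (elem q) =
      1 ⊗ₜ[A] q.coeff 0 := by
    have h3 := Polynomial.hom_eval₂ q
      ((Algebra.TensorProduct.includeRight : B →ₐ[A] A[X] ⊗[A] B) : B →+* A[X] ⊗[A] B)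
      ((Algebra.TensorProduct.map (IsScalarTower.toAlgHom A A[X] S) (AlgHom.id A B) :
        A[X] ⊗[A] B →ₐ[A] S ⊗[A] B) : A[X] ⊗[A] B →+* S ⊗[A] B) (X ⊗ₜ 1)
    have h4 : ((Algebra.TensorProduct.map (IsScalarTower.toAlgHom A A[X] S) (AlgHom.id A B) :
        A[X] ⊗[A] B →ₐ[A] S ⊗[A] B) : A[X] ⊗[A] B →+* S ⊗[A] B) (X ⊗ₜ 1) = 0 := by
      show Algebra.TensorProduct.map (IsScalarTower.toAlgHom A A[X] S) (AlgHom.id A B) (X ⊗ₜ 1) = 0
      rw [Algebra.TensorProduct.map_tmul]
      have : (IsScalarTower.toAlgHom A A[X] S) X = 0 := by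
        show Polynomial.aeval (R := A) (0 : S) X = 0
        rw [Polynomial.aeval_X]
      rw [this, TensorProduct.zero_tmul]
    rw [h4, Polynomial.eval₂_at_zero] at h3
    refine Eq.trans h3 ?_
    show Algebra.TensorProduct.map (IsScalarTower.toAlgHom A A[X] S) (AlgHom.id A B)
      (Algebra.TensorProduct.includeRight (q.coeff 0)) = _
    rw [Algebra.TensorProduct.includeRight_apply, Algebra.TensorProduct.map_tmul, map_one]
    rfl
  rw [h2] at h1
  exact h1


section Cancel
variable {R : Type u} [CommSemiring R] [Algebra A R]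

/-- `divX` as an `A`-linear map -/
noncomputable def divXLin : R[X] →ₗ[A] R[X] where
  toFun := Polynomial.divX
  map_add' _ _ := Polynomial.divX_add
  map_smul' a p := by
    ext n
    simp [Polynomial.coeff_divX]

theorem divXLin_X_mul (p : R[X]) : divXLin (A := A) (X * p) = p := by
  ext n
  show (Polynomial.divX (X * p)).coeff n = _
  rw [Polynomial.coeff_divX, Polynomial.coeff_X_mul]

theorem rTensor_divXLin_smul (z : R[X] ⊗[A] E) :
    (divXLin (A := A) (R := R)).rTensor E ((X : R[X]) • z) = z := by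
  induction z using TensorProduct.induction_on with
  | zero => simp
  | tmul p c =>
    rw [TensorProduct.smul_tmul', LinearMap.rTensor_tmul, smul_eq_mul, divXLin_X_mul]
  | add z₁ z₂ h₁ h₂ => rw [smul_add, map_add, h₁, h₂]

theorem X_pow_smul_cancel (n : ℕ) (z z' : R[X] ⊗[A] E)
    (h : ((X : R[X]) ^ n) • z = ((X : R[X]) ^ n) • z') : z = z' := by
  induction n with
  | zero => simpa using h
  | succ n ih =>
    apply ih
    rw [pow_succ', mul_smul, mul_smul] at h
    have := congrArg ((divXLin (A := A) (R := R)).rTensor E) h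
    rwa [rTensor_divXLin_smul, rTensor_divXLin_smul] at this

end Cancel


theorem of_X_mul_mem {d : ℕ} (F : B →ₚₗ[A] E) (hF : PolLaw.IsHomog F d) (β : A[X] ⊗[A] B)
    (h : (X ⊗ₜ[A] (1 : B)) * β ∈ PolLaw.kerBC F A[X]) : β ∈ PolLaw.kerBC F A[X] := by
  rw [mem_kerBC_iff] at h ⊢
  intro R _ _ _ _ x w
  letI algR' : Algebra A[X] R[X] := (Polynomial.mapRingHom (algebraMap A R)).toAlgebra
  haveI tower : IsScalarTower A A[X] R[X] := IsScalarTower.of_algebraMap_eq (fun a => by
    show algebraMap A R[X] a = Polynomial.map (algebraMap A R) (algebraMap A A[X] a)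
    rw [Polynomial.algebraMap_apply, Polynomial.algebraMap_apply, Polynomial.map_C,
      Algebra.algebraMap_self, RingHom.id_apply])
  set ξ : R := algebraMap A[X] R X with hξ
  let φ : R[X] →ₐ[A] R := (Polynomial.aeval ξ : R[X] →ₐ[R] R).restrictScalars A
  let ι : R →ₐ[A] R[X] := IsScalarTower.toAlgHom A R R[X]
  let mR : A[X] ⊗[A] B →ₐ[A] R ⊗[A] B :=
    Algebra.TensorProduct.map (IsScalarTower.toAlgHom A A[X] R) (AlgHom.id A B)
  let mR' : A[X] ⊗[A] B →ₐ[A] R[X] ⊗[A] B :=
    Algebra.TensorProduct.map (IsScalarTower.toAlgHom A A[X] R[X]) (AlgHom.id A B)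
  let mφ : R[X] ⊗[A] B →ₐ[A] R ⊗[A] B := Algebra.TensorProduct.map φ (AlgHom.id A B)
  let mι : R ⊗[A] B →ₐ[A] R[X] ⊗[A] B := Algebra.TensorProduct.map ι (AlgHom.id A B)
  have hφι : ∀ z, mφ (mι z) = z := by
    intro z
    show (Algebra.TensorProduct.map φ (AlgHom.id A B))
      ((Algebra.TensorProduct.map ι (AlgHom.id A B)) z) = z
    rw [← AlgHom.comp_apply, ← Algebra.TensorProduct.map_comp]
    have : φ.comp ι = AlgHom.id A R := by
      ext r
      show Polynomial.aeval ξ (algebraMap R R[X] r) = r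
      rw [Polynomial.algebraMap_apply, Polynomial.aeval_C, Algebra.algebraMap_self,
        RingHom.id_apply, RingHom.id_apply]
    rw [this, AlgHom.comp_id, Algebra.TensorProduct.map_id, AlgHom.id_apply]
  have hφR : ∀ z, mφ (mR' z) = mR z := by
    intro z
    show (Algebra.TensorProduct.map φ (AlgHom.id A B))
      ((Algebra.TensorProduct.map (IsScalarTower.toAlgHom A A[X] R[X]) (AlgHom.id A B)) z) = _
    rw [← AlgHom.comp_apply, ← Algebra.TensorProduct.map_comp]
    have : φ.comp (IsScalarTower.toAlgHom A A[X] R[X]) = IsScalarTower.toAlgHom A A[X] R := by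
      apply Polynomial.algHom_ext
      show Polynomial.aeval ξ (Polynomial.map (algebraMap A R) X) = algebraMap A[X] R X
      rw [Polynomial.map_X, Polynomial.aeval_X]
    rw [this, AlgHom.comp_id]
  have hX : mR' (X ⊗ₜ[A] (1 : B)) = (X : R[X]) ⊗ₜ[A] (1 : B) := by
    show (Algebra.TensorProduct.map (IsScalarTower.toAlgHom A A[X] R[X]) (AlgHom.id A B))
      (X ⊗ₜ[A] (1 : B)) = _
    rw [Algebra.TensorProduct.map_tmul, map_one]
    congr 1
    show Polynomial.map (algebraMap A R) X = X
    rw [Polynomial.map_X]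
  have hsm : ∀ z : R[X] ⊗[A] B, (X : R[X]) • z = ((X : R[X]) ⊗ₜ[A] (1 : B)) * z := by
    intro z
    induction z using TensorProduct.induction_on with
    | zero => simp
    | tmul p b =>
      rw [TensorProduct.smul_tmul', Algebra.TensorProduct.tmul_mul_tmul, smul_eq_mul, one_mul]
    | add z₁ z₂ h₁ h₂ => rw [smul_add, mul_add, h₁, h₂]
  have h1 := h R[X] ((X : R[X]) • mι x) (mι w)
  have h2 : (X : R[X]) • mι x + mι w * mR' ((X ⊗ₜ[A] (1 : B)) * β) =
      (X : R[X]) • (mι x + mι w * mR' β) := by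
    rw [map_mul, hX, smul_add, hsm (mι w * mR' β)]
    ring
  change F.toFun' R[X] ((X : R[X]) • mι x + mι w * mR' ((X ⊗ₜ[A] (1 : B)) * β)) = _ at h1
  rw [h2, hF R[X], hF R[X]] at h1
  have h3 := X_pow_smul_cancel d _ _ h1
  have h4 := congrArg (Algebra.TensorProduct.map φ (AlgHom.id A E)) h3
  rw [← compat, ← compat] at h4
  change F.toFun' R (mφ (mι x + mι w * mR' β)) = F.toFun' R (mφ (mι x)) at h4
  rw [map_add, map_mul, hφι, hφι, hφR] at h4
  exact h4


theorem elem_mem_map {d : ℕ} (F : B →ₚₗ[A] E) (hF : PolLaw.IsHomog F d) (q : B[X]) :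
    elem q ∈ PolLaw.kerBC F A[X] →
      elem q ∈ (PolLaw.ker F).map
        (Algebra.TensorProduct.includeRight : B →ₐ[A] A[X] ⊗[A] B) := by
  induction q using Polynomial.recOnHorner with
  | M0 =>
    intro _
    rw [map_zero]
    exact zero_mem _
  | MC p a hp ha ih =>
    intro h
    have ha' : a ∈ PolLaw.ker F := by
      have h0 := coeff_zero_mem F (p + Polynomial.C a) h
      rwa [Polynomial.coeff_add, hp, zero_add, Polynomial.coeff_C_zero] at h0
    have h1 : elem (A := A) (Polynomial.C a) ∈ (PolLaw.ker F).map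
        (Algebra.TensorProduct.includeRight : B →ₐ[A] A[X] ⊗[A] B) := by
      rw [elem_C]
      exact Ideal.mem_map_of_mem _ ha'
    have h2 : elem (A := A) p ∈ PolLaw.kerBC F A[X] := by
      have : elem (A := A) p = elem (p + Polynomial.C a) - elem (Polynomial.C a) := by
        rw [map_add]; ring
      rw [this]
      exact sub_mem h (map_ker_le_kerBC F A[X] h1)
    rw [map_add]
    exact add_mem (ih h2) h1
  | MX p hp ih =>
    intro h
    rw [map_mul, elem_X, mul_comm] at h
    have h1 := of_X_mul_mem F hF _ h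
    rw [map_mul]
    exact Ideal.mul_mem_right _ _ (ih h1)

/-- for a homogeneous law, the kernel commutes with the base change to a polynomial ring -/
theorem map_ker_eq_kerBC {d : ℕ} (F : B →ₚₗ[A] E) (hF : PolLaw.IsHomog F d) :
    (PolLaw.ker F).map (Algebra.TensorProduct.includeRight : B →ₐ[A] A[X] ⊗[A] B) =
      PolLaw.kerBC F A[X] := by
  apply le_antisymm (map_ker_le_kerBC F A[X])
  intro z hz
  obtain ⟨q, rfl⟩ := elem_surjective z
  exact elem_mem_map F hF q hz

end Groth.Agent.Helper20.PLKer
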