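import Mathlib
import Groth.Agent.Lib.Helper20.PLKer

set_option autoImplicit false
universe u
open scoped TensorProduct

namespace Groth.Agent.Helper20.PLKer

variable {A : Type u} [CommRing A] {B : Type u} [CommRing B] [Algebra A B]
  {E : Type u} [CommRing E] [Algebra A E]

theorem core (F : B →ₚₗ[A] E) {P R : Type u} [CommSemiring P] [Algebra A P] [CommSemiring R]
    [Algebra A R] (ψ : P →ₐ[A] R) (X W Bt : P ⊗[A] B)
    (hP : F.toFun' P (X + W * Bt) = F.toFun' P X) :
    F.toFun' R (Algebra.TensorProduct.map ψ (AlgHom.id A B) X +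
        Algebra.TensorProduct.map ψ (AlgHom.id A B) W *
          Algebra.TensorProduct.map ψ (AlgHom.id A B) Bt) =
      F.toFun' R (Algebra.TensorProduct.map ψ (AlgHom.id A B) X) := by
  rw [← map_mul, ← map_add, compat, compat, hP]

section Fin
variable {n : ℕ} (s : Fin n → B)

theorem exists_repr (hs : Submodule.span A (Set.range s) = ⊤) (R : Type u) [CommSemiring R]
    [Algebra A R] (x : R ⊗[A] B) : ∃ r : Fin n → R, x = ∑ i, r i ⊗ₜ[A] s i := by
  induction x using TensorProduct.induction_on with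
  | zero => exact ⟨0, by simp⟩
  | tmul r b =>
    have hb : b ∈ Submodule.span A (Set.range s) := by rw [hs]; trivial
    obtain ⟨c, rfl⟩ := (Submodule.mem_span_range_iff_exists_fun A).mp hb
    refine ⟨fun i => c i • r, ?_⟩
    rw [TensorProduct.tmul_sum]
    refine Finset.sum_congr rfl (fun i _ => ?_)
    rw [TensorProduct.tmul_smul, TensorProduct.smul_tmul']
  | add x y hx hy =>
    obtain ⟨r, rfl⟩ := hx
    obtain ⟨r', rfl⟩ := hy
    refine ⟨r + r', ?_⟩
    rw [← Finset.sum_add_distrib]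
    refine Finset.sum_congr rfl (fun i _ => ?_)
    rw [Pi.add_apply, TensorProduct.add_tmul]

/-- the universal first argument -/
noncomputable def x₀ (A' : Type u) [CommRing A'] [Algebra A A'] :
    MvPolynomial (Fin n ⊕ Fin n) A' ⊗[A] B :=
  ∑ i, (MvPolynomial.X (Sum.inl i) : MvPolynomial (Fin n ⊕ Fin n) A') ⊗ₜ[A] s i

/-- the universal multiplier -/
noncomputable def w₀ (A' : Type u) [CommRing A'] [Algebra A A'] :
    MvPolynomial (Fin n ⊕ Fin n) A' ⊗[A] B :=
  ∑ i, (MvPolynomial.X (Sum.inr i) : MvPolynomial (Fin n ⊕ Fin n) A') ⊗ₜ[A] s i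

theorem map_x₀ (A' : Type u) [CommRing A'] [Algebra A A'] {R : Type u} [CommSemiring R]
    [Algebra A R] (ψ : MvPolynomial (Fin n ⊕ Fin n) A' →ₐ[A] R) :
    Algebra.TensorProduct.map ψ (AlgHom.id A B) (x₀ s A') =
      ∑ i, ψ (MvPolynomial.X (Sum.inl i)) ⊗ₜ[A] s i := by
  simp [x₀, Algebra.TensorProduct.map_tmul]

theorem map_w₀ (A' : Type u) [CommRing A'] [Algebra A A'] {R : Type u} [CommSemiring R]
    [Algebra A R] (ψ : MvPolynomial (Fin n ⊕ Fin n) A' →ₐ[A] R) :
    Algebra.TensorProduct.map ψ (AlgHom.id A B) (w₀ s A') =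
      ∑ i, ψ (MvPolynomial.X (Sum.inr i)) ⊗ₜ[A] s i := by
  simp [w₀, Algebra.TensorProduct.map_tmul]

/-- for a finite algebra, membership in the kernel of a base-changed law is tested by one
universal identity -/
theorem mem_kerBC_of_universal (hs : Submodule.span A (Set.range s) = ⊤) (F : B →ₚₗ[A] E)
    (A' : Type u) [CommRing A'] [Algebra A A'] (β : A' ⊗[A] B)
    (h : F.toFun' (MvPolynomial (Fin n ⊕ Fin n) A')
        (x₀ s A' + w₀ s A' * Algebra.TensorProduct.map
          (IsScalarTower.toAlgHom A A' (MvPolynomial (Fin n ⊕ Fin n) A')) (AlgHom.id A B) β) =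
      F.toFun' (MvPolynomial (Fin n ⊕ Fin n) A') (x₀ s A')) :
    β ∈ PolLaw.kerBC F A' := by
  rw [mem_kerBC_iff]
  intro R _ _ _ _ x w
  obtain ⟨r, rfl⟩ := exists_repr s hs R x
  obtain ⟨r', rfl⟩ := exists_repr s hs R w
  let ψ : MvPolynomial (Fin n ⊕ Fin n) A' →ₐ[A] R :=
    (MvPolynomial.aeval (Sum.elim r r') : MvPolynomial (Fin n ⊕ Fin n) A' →ₐ[A'] R).restrictScalars A
  have h1 := core F ψ _ _ _ h
  rw [map_x₀, map_w₀] at h1
  have h2 : ∀ i, ψ (MvPolynomial.X (Sum.inl i)) = r i := fun i => by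
    show MvPolynomial.aeval (Sum.elim r r') (MvPolynomial.X (Sum.inl i)) = r i
    rw [MvPolynomial.aeval_X]; rfl
  have h3 : ∀ i, ψ (MvPolynomial.X (Sum.inr i)) = r' i := fun i => by
    show MvPolynomial.aeval (Sum.elim r r') (MvPolynomial.X (Sum.inr i)) = r' i
    rw [MvPolynomial.aeval_X]; rfl
  simp only [h2, h3] at h1
  have h4 : Algebra.TensorProduct.map ψ (AlgHom.id A B)
      (Algebra.TensorProduct.map
        (IsScalarTower.toAlgHom A A' (MvPolynomial (Fin n ⊕ Fin n) A')) (AlgHom.id A B) β) =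
      Algebra.TensorProduct.map (IsScalarTower.toAlgHom A A' R) (AlgHom.id A B) β := by
    rw [← AlgHom.comp_apply, ← Algebra.TensorProduct.map_comp]
    have : ψ.comp (IsScalarTower.toAlgHom A A' (MvPolynomial (Fin n ⊕ Fin n) A')) =
        IsScalarTower.toAlgHom A A' R := by
      refine AlgHom.ext (fun a => ?_)
      show MvPolynomial.aeval (Sum.elim r r') (algebraMap A' _ a) = algebraMap A' R a
      rw [AlgHom.commutes]
    rw [this, AlgHom.comp_id]
  rw [h4] at h1
  exact h1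

/-- for a finite algebra, membership in the kernel of a law is tested by one universal identity -/
theorem mem_ker_of_universal (hs : Submodule.span A (Set.range s) = ⊤) (F : B →ₚₗ[A] E) (b : B)
    (h : F.toFun' (MvPolynomial (Fin n ⊕ Fin n) A) (x₀ s A + w₀ s A * (1 ⊗ₜ[A] b)) =
      F.toFun' (MvPolynomial (Fin n ⊕ Fin n) A) (x₀ s A)) :
    b ∈ PolLaw.ker F := by
  rw [mem_ker_iff]
  intro R _ _ x w
  obtain ⟨r, rfl⟩ := exists_repr s hs R x
  obtain ⟨r', rfl⟩ := exists_repr s hs R w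
  let ψ : MvPolynomial (Fin n ⊕ Fin n) A →ₐ[A] R := MvPolynomial.aeval (Sum.elim r r')
  have h1 := core F ψ _ _ _ h
  rw [map_x₀, map_w₀] at h1
  have h2 : ∀ i, ψ (MvPolynomial.X (Sum.inl i)) = r i := fun i => by
    show MvPolynomial.aeval (Sum.elim r r') (MvPolynomial.X (Sum.inl i)) = r i
    rw [MvPolynomial.aeval_X]; rfl
  have h3 : ∀ i, ψ (MvPolynomial.X (Sum.inr i)) = r' i := fun i => by
    show MvPolynomial.aeval (Sum.elim r r') (MvPolynomial.X (Sum.inr i)) = r' i
    rw [MvPolynomial.aeval_X]; rfl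
  simp only [h2, h3] at h1
  rw [Algebra.TensorProduct.map_tmul, map_one] at h1
  exact h1

end Fin

end Groth.Agent.Helper20.PLKer
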