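import Mathlib
import Groth.Agent.Lib.Helper20.PLKer

set_option autoImplicit false
universe u
open scoped TensorProduct

namespace Groth.Agent.Helper20.PLKer

open Polynomial

theorem poly_const {R : Type*} [CommRing R] [IsReduced R] (P : R[X]) (c : R)
    (h : P * P.comp (-X) = C c) : P = C (P.coeff 0) := by
  by_cases hn : P.natDegree = 0
  · exact Polynomial.eq_C_of_natDegree_eq_zero hn
  · exfalso
    have h1 : (P * P.comp (-X)).coeff (P.natDegree + (P.comp (-X)).natDegree) =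
        P.leadingCoeff * (P.comp (-X)).leadingCoeff :=
      Polynomial.coeff_mul_degree_add_degree _ _
    have h2 : (P.comp (-X)).natDegree = P.natDegree := by
      rw [Polynomial.natDegree, Polynomial.natDegree, Polynomial.degree_comp_neg_X]
    rw [h, h2, Polynomial.comp_neg_X_leadingCoeff_eq, Polynomial.coeff_C, if_neg (by omega)] at h1
    have h3 : P.leadingCoeff ^ 2 = 0 := by
      have : P.leadingCoeff ^ 2 = (-1) ^ P.natDegree * (P.leadingCoeff * ((-1) ^ P.natDegree * P.leadingCoeff)) := by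
        have h4 : ((-1 : R) ^ P.natDegree) * ((-1) ^ P.natDegree) = 1 := by
          rw [← mul_pow]; simp
        calc P.leadingCoeff ^ 2 = (((-1 : R) ^ P.natDegree) * ((-1) ^ P.natDegree)) * P.leadingCoeff ^ 2 := by
              rw [h4, one_mul]
          _ = _ := by ring
      rw [this, ← h1, mul_zero]
    have h5 : P.leadingCoeff = 0 := IsReduced.eq_zero _ ⟨2, h3⟩
    rw [Polynomial.leadingCoeff_eq_zero] at h5
    rw [h5] at hn
    simp at hn


variable {A : Type u} [CommRing A] {B : Type u} [CommRing B] [Algebra A B]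
  {E : Type u} [CommRing E] [Algebra A E]

section StepB
variable {S₀ : Type u} [CommRing S₀] [Algebra A S₀]

/-- the comparison map `S₀[t] ⊗ E → (S₀ ⊗ E)[t]` -/
noncomputable def Psi : S₀[X] ⊗[A] E →ₐ[A] (S₀ ⊗[A] E)[X] :=
  Algebra.TensorProduct.lift
    (Polynomial.mapAlgHom (Algebra.TensorProduct.includeLeft : S₀ →ₐ[A] S₀ ⊗[A] E))
    ((IsScalarTower.toAlgHom A (S₀ ⊗[A] E) (S₀ ⊗[A] E)[X]).comp
      Algebra.TensorProduct.includeRight)
    (fun _ _ => Commute.all _ _)

theorem Psi_tmul (p : S₀[X]) (e : E) :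
    Psi (A := A) (p ⊗ₜ[A] e) =
      p.map ((Algebra.TensorProduct.includeLeft : S₀ →ₐ[A] S₀ ⊗[A] E) : S₀ →+* S₀ ⊗[A] E) *
        C ((1 : S₀) ⊗ₜ[A] e) := by
  rw [Psi, Algebra.TensorProduct.lift_tmul]
  rfl

/-- constants -/
noncomputable def iotaC : S₀ →ₐ[A] S₀[X] := IsScalarTower.toAlgHom A S₀ S₀[X]

theorem iotaC_apply (s : S₀) : iotaC (A := A) s = C s := rfl

/-- `t ↦ -t` -/
noncomputable def sigmaNeg : S₀[X] →ₐ[A] S₀[X] :=
  (Polynomial.aeval (-X : S₀[X]) : S₀[X] →ₐ[S₀] S₀[X]).restrictScalars A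

theorem sigmaNeg_apply (p : S₀[X]) : sigmaNeg (A := A) p = p.comp (-X) := rfl

/-- evaluation at `s` -/
noncomputable def evAt (s : S₀) : S₀[X] →ₐ[A] S₀ :=
  (Polynomial.aeval s : S₀[X] →ₐ[S₀] S₀).restrictScalars A

theorem evAt_apply (s : S₀) (p : S₀[X]) : evAt (A := A) s p = p.eval s := by
  show Polynomial.aeval s p = _
  rw [Polynomial.coe_aeval_eq_eval]

theorem Psi_iotaC (r : S₀ ⊗[A] E) :
    Psi (Algebra.TensorProduct.map (iotaC (A := A)) (AlgHom.id A E) r) = C r := by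
  induction r using TensorProduct.induction_on with
  | zero => simp
  | tmul s e =>
    rw [Algebra.TensorProduct.map_tmul, Psi_tmul, iotaC_apply, Polynomial.map_C, ← C_mul]
    simp
  | add r₁ r₂ h₁ h₂ => rw [map_add, map_add, h₁, h₂, C_add]

theorem Psi_sigmaNeg (z : S₀[X] ⊗[A] E) :
    Psi (Algebra.TensorProduct.map (sigmaNeg (A := A)) (AlgHom.id A E) z) =
      (Psi z).comp (-X) := by
  induction z using TensorProduct.induction_on with
  | zero => simp
  | tmul p e =>
    rw [Algebra.TensorProduct.map_tmul, Psi_tmul, Psi_tmul, sigmaNeg_apply, Polynomial.map_comp,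
      Polynomial.mul_comp, Polynomial.C_comp, Polynomial.map_neg, Polynomial.map_X]
    rfl
  | add r₁ r₂ h₁ h₂ => rw [map_add, map_add, h₁, h₂, map_add, Polynomial.add_comp]

theorem Psi_evAt (s : S₀) (z : S₀[X] ⊗[A] E) :
    Algebra.TensorProduct.map (evAt (A := A) s) (AlgHom.id A E) z =
      (Psi z).eval (s ⊗ₜ[A] (1 : E)) := by
  induction z using TensorProduct.induction_on with
  | zero => simp
  | tmul p e =>
    rw [Algebra.TensorProduct.map_tmul, Psi_tmul, evAt_apply, Polynomial.eval_mul,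
      Polynomial.eval_C, Polynomial.eval_map]
    have : (s ⊗ₜ[A] (1 : E) : S₀ ⊗[A] E) =
        ((Algebra.TensorProduct.includeLeft : S₀ →ₐ[A] S₀ ⊗[A] E) : S₀ →+* S₀ ⊗[A] E) s := rfl
    rw [this, Polynomial.eval₂_at_apply]
    show _ = (p.eval s ⊗ₜ[A] (1 : E)) * _
    rw [Algebra.TensorProduct.tmul_mul_tmul, mul_one, one_mul]
    rfl
  | add r₁ r₂ h₁ h₂ => rw [map_add, h₁, h₂, map_add, Polynomial.eval_add]

theorem stepB [IsReduced (S₀ ⊗[A] E)] (F : B →ₚₗ[A] E) (hF : PolLaw.IsMult F) (b : B)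
    (hb : b * b ∈ PolLaw.ker F) (x w : S₀ ⊗[A] B) :
    F.toFun' S₀ (x + w * (1 ⊗ₜ[A] b)) = F.toFun' S₀ x := by
  let mι : S₀ ⊗[A] B →ₐ[A] S₀[X] ⊗[A] B :=
    Algebra.TensorProduct.map (iotaC (A := A)) (AlgHom.id A B)
  let mσ : S₀[X] ⊗[A] B →ₐ[A] S₀[X] ⊗[A] B :=
    Algebra.TensorProduct.map (sigmaNeg (A := A)) (AlgHom.id A B)
  let mev : S₀ → (S₀[X] ⊗[A] B →ₐ[A] S₀ ⊗[A] B) := fun s =>
    Algebra.TensorProduct.map (evAt (A := A) s) (AlgHom.id A B)
  set t' : S₀[X] ⊗[A] B := (X : S₀[X]) ⊗ₜ[A] (1 : B) with ht'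
  set b' : S₀[X] ⊗[A] B := (1 : S₀[X]) ⊗ₜ[A] b with hb'
  set y : S₀[X] ⊗[A] B := t' * mι w * b' with hy
  set z : S₀[X] ⊗[A] E := F.toFun' S₀[X] (mι x + y) with hz
  -- `σ` fixes constants
  have hσι : ∀ v, mσ (mι v) = mι v := by
    intro v
    show (Algebra.TensorProduct.map (sigmaNeg (A := A)) (AlgHom.id A B))
      ((Algebra.TensorProduct.map (iotaC (A := A)) (AlgHom.id A B)) v) = _
    rw [← AlgHom.comp_apply, ← Algebra.TensorProduct.map_comp]
    have : (sigmaNeg (A := A)).comp (iotaC (A := A) (S₀ := S₀)) = iotaC := by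
      refine AlgHom.ext (fun s => ?_)
      show (C s).comp (-X) = C s
      rw [Polynomial.C_comp]
    rw [this, AlgHom.comp_id]
  have hσt : mσ t' = -t' := by
    show (Algebra.TensorProduct.map (sigmaNeg (A := A)) (AlgHom.id A B)) (X ⊗ₜ[A] (1 : B)) = _
    rw [Algebra.TensorProduct.map_tmul, sigmaNeg_apply, Polynomial.X_comp, map_one,
      TensorProduct.neg_tmul]
  have hσb : mσ b' = b' := by
    show (Algebra.TensorProduct.map (sigmaNeg (A := A)) (AlgHom.id A B)) (1 ⊗ₜ[A] b) = _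
    rw [Algebra.TensorProduct.map_tmul, map_one]
    rfl
  have hσ : mσ (mι x + y) = mι x - y := by
    rw [map_add, hσι, hy, map_mul, map_mul, hσι, hσt, hσb]
    ring
  -- evaluation
  have hevι : ∀ s v, mev s (mι v) = v := by
    intro s v
    show (Algebra.TensorProduct.map (evAt (A := A) s) (AlgHom.id A B))
      ((Algebra.TensorProduct.map (iotaC (A := A)) (AlgHom.id A B)) v) = _
    rw [← AlgHom.comp_apply, ← Algebra.TensorProduct.map_comp]
    have : (evAt (A := A) s).comp (iotaC (A := A) (S₀ := S₀)) = AlgHom.id A S₀ := by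
      refine AlgHom.ext (fun r => ?_)
      show evAt (A := A) s (C r) = r
      rw [evAt_apply, Polynomial.eval_C]
    rw [this, AlgHom.comp_id, Algebra.TensorProduct.map_id, AlgHom.id_apply]
  have hevt : ∀ s, mev s t' = s ⊗ₜ[A] (1 : B) := by
    intro s
    show (Algebra.TensorProduct.map (evAt (A := A) s) (AlgHom.id A B)) (X ⊗ₜ[A] (1 : B)) = _
    rw [Algebra.TensorProduct.map_tmul, evAt_apply, Polynomial.eval_X, map_one]
  have hevb : ∀ s, mev s b' = 1 ⊗ₜ[A] b := by
    intro s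
    show (Algebra.TensorProduct.map (evAt (A := A) s) (AlgHom.id A B)) (1 ⊗ₜ[A] b) = _
    rw [Algebra.TensorProduct.map_tmul, map_one]
    rfl
  -- the key identity
  have hkey : z * Algebra.TensorProduct.map (sigmaNeg (A := A)) (AlgHom.id A E) z =
      F.toFun' S₀[X] (mι x) * F.toFun' S₀[X] (mι x) := by
    rw [hz, ← compat F (sigmaNeg (A := A)) (mι x + y)]
    change F.toFun' S₀[X] (mι x + y) * F.toFun' S₀[X] (mσ (mι x + y)) = _
    rw [hσ, ← (hF S₀[X]).2, ← (hF S₀[X]).2]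
    have h1 : (mι x + y) * (mι x - y) =
        mι x * mι x + (-(t' * mι w) * (t' * mι w)) * ((1 : S₀[X]) ⊗ₜ[A] (b * b)) := by
      have : ((1 : S₀[X]) ⊗ₜ[A] (b * b) : S₀[X] ⊗[A] B) = b' * b' := by
        rw [hb', Algebra.TensorProduct.tmul_mul_tmul, one_mul]
      rw [this, hy]
      ring
    rw [h1]
    exact (mem_ker_iff F _).mp hb S₀[X] _ _
  have hconst : F.toFun' S₀[X] (mι x) =
      Algebra.TensorProduct.map (iotaC (A := A)) (AlgHom.id A E) (F.toFun' S₀ x) :=
    compat F (iotaC (A := A)) x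
  have hP : Psi z * (Psi z).comp (-X) = C (F.toFun' S₀ x * F.toFun' S₀ x) := by
    rw [← Psi_sigmaNeg, ← map_mul, hkey, hconst, map_mul, Psi_iotaC, C_mul]
  have hPc := poly_const (Psi z) _ hP
  have hev : Algebra.TensorProduct.map (evAt (A := A) (1 : S₀)) (AlgHom.id A E) z =
      Algebra.TensorProduct.map (evAt (A := A) (0 : S₀)) (AlgHom.id A E) z := by
    rw [Psi_evAt, Psi_evAt, hPc, Polynomial.eval_C, Polynomial.eval_C]
  rw [hz, ← compat, ← compat] at hev
  change F.toFun' S₀ (mev 1 (mι x + y)) = F.toFun' S₀ (mev 0 (mι x + y)) at hev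
  rw [map_add, map_add, hevι, hevι, hy, map_mul, map_mul, map_mul, map_mul, hevι, hevι,
    hevt, hevt, hevb, hevb, TensorProduct.zero_tmul, zero_mul, zero_mul, add_zero] at hev
  rw [← hev]
  congr 2
  rw [show ((1 : S₀) ⊗ₜ[A] (1 : B) : S₀ ⊗[A] B) = 1 from rfl, one_mul]

end StepB

section StepA

/-- to test membership in the kernel, test algebras which are polynomial rings over `A` suffice -/
theorem mem_ker_of_mvPolynomial (F : B →ₚₗ[A] E) (b : B)
    (h : ∀ (σ : Type u) (x w : MvPolynomial σ A ⊗[A] B),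
      F.toFun' (MvPolynomial σ A) (x + w * (1 ⊗ₜ[A] b)) = F.toFun' (MvPolynomial σ A) x) :
    b ∈ PolLaw.ker F := by
  rw [mem_ker_iff]
  intro S _ _ x w
  let π : MvPolynomial S A →ₐ[A] S := MvPolynomial.aeval id
  have hπ : Function.Surjective π := fun s => ⟨MvPolynomial.X s, by simp [π]⟩
  have hsurj : Function.Surjective (Algebra.TensorProduct.map π (AlgHom.id A B)) := by
    intro v
    obtain ⟨v', hv'⟩ := LinearMap.rTensor_surjective B (g := π.toLinearMap) hπ v
    exact ⟨v', by rw [← rTensor_eq_map]; exact hv'⟩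
  obtain ⟨x', rfl⟩ := hsurj x
  obtain ⟨w', rfl⟩ := hsurj w
  have h1 := h S x' w'
  have h2 := congrArg (Algebra.TensorProduct.map π (AlgHom.id A E)) h1
  rw [← compat, ← compat, map_add, map_mul, Algebra.TensorProduct.map_tmul, map_one] at h2
  exact h2

instance isReduced_mvPolynomial_tensor [IsReduced E] (σ : Type*) :
    IsReduced (MvPolynomial σ A ⊗[A] E) := by
  let e₁ : MvPolynomial σ A ⊗[A] E ≃ₐ[A] E ⊗[A] MvPolynomial σ A :=
    Algebra.TensorProduct.comm A (MvPolynomial σ A) E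
  let e₂ : E ⊗[A] MvPolynomial σ A ≃ₐ[E] MvPolynomial σ E :=
    MvPolynomial.scalarRTensorAlgEquiv
  exact isReduced_of_injective ((e₂ : E ⊗[A] MvPolynomial σ A →+* MvPolynomial σ E).comp
    (e₁ : MvPolynomial σ A ⊗[A] E →+* E ⊗[A] MvPolynomial σ A))
    (e₂.injective.comp e₁.injective)

/-- the image algebra of a multiplicative law with reduced target is reduced -/
theorem isReduced_image [IsReduced E] (F : B →ₚₗ[A] E) (hF : PolLaw.IsMult F) :
    IsReduced (B ⧸ PolLaw.ker F) := by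
  rw [← Ideal.isRadical_iff_quotient_reduced, Ideal.isRadical_iff_pow_one_lt 2 one_lt_two]
  intro b hb
  rw [pow_two] at hb
  apply mem_ker_of_mvPolynomial
  intro σ x w
  exact stepB F hF b hb x w

end StepA

end Groth.Agent.Helper20.PLKer
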