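import Mathlib
import Groth.Agent.Lib.Helper20.PLFin
import Groth.Agent.Lib.Helper20.PLRed

set_option autoImplicit false
universe u
open scoped TensorProduct

namespace Groth.Agent.Helper20.PLKer

open Polynomial

variable {A : Type u} [CommRing A] {B : Type u} [CommRing B] [Algebra A B]

/-- the identification `S ⊗[A] A → S` as an algebra map -/
noncomputable def ridA (S : Type u) [CommSemiring S] [Algebra A S] : S ⊗[A] A →ₐ[A] S :=
  Algebra.TensorProduct.productMap (AlgHom.id A S) (Algebra.ofId A S)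

theorem ridA_tmul (S : Type u) [CommSemiring S] [Algebra A S] (s : S) (a : A) :
    ridA S (s ⊗ₜ[A] a) = s * algebraMap A S a := by
  simp [ridA, Algebra.ofId_apply]

theorem ridA_injective (S : Type u) [CommSemiring S] [Algebra A S] :
    Function.Injective (ridA (A := A) S) := by
  have h : ∀ z : S ⊗[A] A, (ridA S z) ⊗ₜ[A] (1 : A) = z := by
    intro z
    induction z using TensorProduct.induction_on with
    | zero => simp
    | tmul s a =>
      rw [ridA_tmul, mul_comm, ← Algebra.smul_def, TensorProduct.smul_tmul, smul_eq_mul, mul_one]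
    | add x y hx hy => rw [map_add, TensorProduct.add_tmul, hx, hy]
  intro z z' hz
  rw [← h z, ← h z', hz]

theorem rid_map {S S' : Type u} [CommSemiring S] [Algebra A S] [CommSemiring S'] [Algebra A S']
    (ψ : S →ₐ[A] S') (z : S ⊗[A] A) :
    ridA S' (Algebra.TensorProduct.map ψ (AlgHom.id A A) z) = ψ (ridA S z) := by
  induction z using TensorProduct.induction_on with
  | zero => simp
  | tmul s a =>
    rw [Algebra.TensorProduct.map_tmul, ridA_tmul, ridA_tmul, AlgHom.id_apply, map_mul,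
      AlgHom.commutes]
  | add x y hx hy => rw [map_add, map_add, hx, hy, map_add, map_add]

theorem eval_of_smul_eq_zero {P₀ : Type u} [CommRing P₀] [Algebra A P₀] (p : P₀[X]) (m : A)
    (h : m • p = 0) : p.eval (algebraMap A P₀ m) = p.coeff 0 := by
  have h1 : m • Polynomial.divX p = 0 := by
    ext k
    have := congrArg (fun q => q.coeff (k + 1)) h
    simpa [Polynomial.coeff_divX] using this
  conv_lhs => rw [← Polynomial.divX_mul_X_add p]
  rw [Polynomial.eval_add, Polynomial.eval_mul, Polynomial.eval_X, Polynomial.eval_C, mul_comm,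
    ← Algebra.smul_def, ← Polynomial.eval_smul, h1, Polynomial.eval_zero, zero_add]


section EvLemmas
variable {S₀ : Type u} [CommRing S₀] [Algebra A S₀]

theorem map_evAt_iotaC (s₀ : S₀) (v : S₀ ⊗[A] B) :
    Algebra.TensorProduct.map (evAt (A := A) s₀) (AlgHom.id A B)
      (Algebra.TensorProduct.map (iotaC (A := A)) (AlgHom.id A B) v) = v := by
  rw [← AlgHom.comp_apply, ← Algebra.TensorProduct.map_comp]
  have : (evAt (A := A) s₀).comp (iotaC (A := A) (S₀ := S₀)) = AlgHom.id A S₀ := by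
    refine AlgHom.ext (fun r => ?_)
    show evAt (A := A) s₀ (C r) = r
    rw [evAt_apply, Polynomial.eval_C]
  rw [this, AlgHom.comp_id, Algebra.TensorProduct.map_id, AlgHom.id_apply]

theorem map_evAt_X (s₀ : S₀) :
    Algebra.TensorProduct.map (evAt (A := A) s₀) (AlgHom.id A B) ((X : S₀[X]) ⊗ₜ[A] (1 : B)) =
      s₀ ⊗ₜ[A] (1 : B) := by
  rw [Algebra.TensorProduct.map_tmul, evAt_apply, Polynomial.eval_X, map_one]

theorem map_evAt_one_tmul (s₀ : S₀) (b : B) :
    Algebra.TensorProduct.map (evAt (A := A) s₀) (AlgHom.id A B) ((1 : S₀[X]) ⊗ₜ[A] b) =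
      (1 : S₀) ⊗ₜ[A] b := by
  rw [Algebra.TensorProduct.map_tmul, map_one]
  rfl

end EvLemmas

section Loc
variable {n : ℕ} (s : Fin n → B)

theorem exists_smul_mem_ker (hs : Submodule.span A (Set.range s) = ⊤) (M : Submonoid A)
    (A' : Type u) [CommRing A'] [Algebra A A'] [IsLocalization M A'] (F : B →ₚₗ[A] A) (b : B)
    (h : (1 : A') ⊗ₜ[A] b ∈ PolLaw.kerBC F A') : ∃ m ∈ M, m • b ∈ PolLaw.ker F := by
  let P₀ := MvPolynomial (Fin n ⊕ Fin n) A
  let P₁ := Polynomial P₀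
  let mι : P₀ ⊗[A] B →ₐ[A] P₁ ⊗[A] B :=
    Algebra.TensorProduct.map (iotaC (A := A)) (AlgHom.id A B)
  set x₁ : P₁ ⊗[A] B := mι (x₀ s A) with hx₁
  set w₁ : P₁ ⊗[A] B := mι (w₀ s A) with hw₁
  set uu : P₁ ⊗[A] B := (X : P₁) ⊗ₜ[A] (1 : B) with huu
  set bb : P₁ ⊗[A] B := (1 : P₁) ⊗ₜ[A] b with hbb
  set Z : P₁ ⊗[A] B := x₁ + uu * w₁ * bb with hZ
  set δ : P₁ := ridA P₁ (F.toFun' P₁ Z) - ridA P₁ (F.toFun' P₁ x₁)
    with hδ
  -- (i) `δ` dies in the localisation
  let R := A' ⊗[A] P₁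
  let ιR : P₁ →ₐ[A] R := Algebra.TensorProduct.includeRight
  have hi : ιR δ = 0 := by
    have h1 := (mem_kerBC_iff F A' _).mp h R
      (Algebra.TensorProduct.map ιR (AlgHom.id A B) x₁)
      (Algebra.TensorProduct.map ιR (AlgHom.id A B) (uu * w₁))
    rw [Algebra.TensorProduct.map_tmul, map_one] at h1
    have h2 : Algebra.TensorProduct.map ιR (AlgHom.id A B) Z =
        Algebra.TensorProduct.map ιR (AlgHom.id A B) x₁ +
          Algebra.TensorProduct.map ιR (AlgHom.id A B) (uu * w₁) *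
            ((1 : R) ⊗ₜ[A] (AlgHom.id A B) b) := by
      rw [hZ, map_add, map_mul, hbb, Algebra.TensorProduct.map_tmul, map_one]
    rw [← h2, compat, compat] at h1
    have h3 := congrArg (ridA R) h1
    rw [rid_map, rid_map] at h3
    rw [hδ, map_sub, h3, sub_self]
  -- (ii) so it is killed by some `m ∈ M`
  haveI : IsLocalizedModule M (TensorProduct.mk A A' P₁ 1) :=
    (isLocalizedModule_iff_isBaseChange M A' _).mpr (TensorProduct.isBaseChange A P₁ A')
  obtain ⟨m, hm⟩ : ∃ m : M, m • δ = 0 :=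
    (IsLocalizedModule.eq_zero_iff M (TensorProduct.mk A A' P₁ 1)).mp hi
  refine ⟨m, m.2, ?_⟩
  -- (iii)
  have hev := eval_of_smul_eq_zero δ (m : A) hm
  -- evaluation of `δ`
  have hevδ : ∀ s₀ : P₀, δ.eval s₀ =
      ridA P₀ (F.toFun' P₀ (x₀ s A + (s₀ ⊗ₜ[A] (1 : B)) * w₀ s A * (1 ⊗ₜ[A] b))) -
        ridA P₀ (F.toFun' P₀ (x₀ s A)) := by
    intro s₀
    rw [← evAt_apply (A := A), hδ, map_sub, ← rid_map, ← rid_map, ← compat, ← compat, hZ,
      map_add, map_mul, map_mul, hx₁, hw₁, huu, hbb]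
    show ridA P₀ (F.toFun' P₀ (Algebra.TensorProduct.map (evAt s₀) (AlgHom.id A B)
        (Algebra.TensorProduct.map (iotaC (A := A)) (AlgHom.id A B) (x₀ s A)) +
      Algebra.TensorProduct.map (evAt s₀) (AlgHom.id A B) ((X : P₁) ⊗ₜ[A] (1 : B)) *
        Algebra.TensorProduct.map (evAt s₀) (AlgHom.id A B)
          (Algebra.TensorProduct.map (iotaC (A := A)) (AlgHom.id A B) (w₀ s A)) *
        Algebra.TensorProduct.map (evAt s₀) (AlgHom.id A B) ((1 : P₁) ⊗ₜ[A] b))) -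
      ridA P₀ (F.toFun' P₀ (Algebra.TensorProduct.map (evAt s₀) (AlgHom.id A B)
        (Algebra.TensorProduct.map (iotaC (A := A)) (AlgHom.id A B) (x₀ s A)))) = _
    rw [map_evAt_iotaC, map_evAt_iotaC, map_evAt_X, map_evAt_one_tmul]
  have h0 : δ.coeff 0 = 0 := by
    rw [Polynomial.coeff_zero_eq_eval_zero, hevδ, TensorProduct.zero_tmul, zero_mul, zero_mul,
      add_zero, sub_self]
  rw [h0, hevδ, sub_eq_zero] at hev
  have h4 := ridA_injective P₀ hev
  apply mem_ker_of_universal s hs F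
  have h5 : ((algebraMap A P₀ (m : A)) ⊗ₜ[A] (1 : B)) * w₀ s A * ((1 : P₀) ⊗ₜ[A] b) =
      w₀ s A * ((1 : P₀) ⊗ₜ[A] ((m : A) • b)) := by
    have : ((1 : P₀) ⊗ₜ[A] ((m : A) • b) : P₀ ⊗[A] B) =
        ((algebraMap A P₀ (m : A)) ⊗ₜ[A] (1 : B)) * ((1 : P₀) ⊗ₜ[A] b) := by
      rw [Algebra.TensorProduct.tmul_mul_tmul, mul_one, one_mul, Algebra.algebraMap_eq_smul_one,
        TensorProduct.smul_tmul]
    rw [this]
    ring
  rw [h5] at h4
  exact h4

theorem exists_clear_denom (M : Submonoid A) (A' : Type u) [CommRing A'] [Algebra A A']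
    [IsLocalization M A'] (β : A' ⊗[A] B) :
    ∃ m ∈ M, ∃ b : B, ((algebraMap A A' m) ⊗ₜ[A] (1 : B)) * β = (1 : A') ⊗ₜ[A] b := by
  induction β using TensorProduct.induction_on with
  | zero => exact ⟨1, M.one_mem, 0, by simp⟩
  | tmul a b₀ =>
    obtain ⟨⟨a', m⟩, ha⟩ := IsLocalization.surj M a
    refine ⟨m, m.2, a' • b₀, ?_⟩
    rw [Algebra.TensorProduct.tmul_mul_tmul, one_mul, mul_comm]
    simp only at ha
    rw [ha, Algebra.algebraMap_eq_smul_one, TensorProduct.smul_tmul]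
  | add β₁ β₂ h₁ h₂ =>
    obtain ⟨m₁, hm₁, b₁, e₁⟩ := h₁
    obtain ⟨m₂, hm₂, b₂, e₂⟩ := h₂
    refine ⟨m₁ * m₂, M.mul_mem hm₁ hm₂, m₂ • b₁ + m₁ • b₂, ?_⟩
    have hsplit : ((algebraMap A A' (m₁ * m₂)) ⊗ₜ[A] (1 : B) : A' ⊗[A] B) =
        ((algebraMap A A' m₁) ⊗ₜ[A] (1 : B)) * ((algebraMap A A' m₂) ⊗ₜ[A] (1 : B)) := by
      rw [Algebra.TensorProduct.tmul_mul_tmul, map_mul, mul_one]
    have hsm : ∀ (m : A) (b : B), ((algebraMap A A' m) ⊗ₜ[A] (1 : B)) * ((1 : A') ⊗ₜ[A] b) =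
        (1 : A') ⊗ₜ[A] (m • b) := by
      intro m b
      rw [Algebra.TensorProduct.tmul_mul_tmul, mul_one, one_mul, Algebra.algebraMap_eq_smul_one,
        TensorProduct.smul_tmul]
    rw [hsplit, mul_add, TensorProduct.tmul_add, ← hsm, ← hsm, ← e₁, ← e₂]
    ring

/-- for a finite algebra, the kernel of a law commutes with localisation of the base -/
theorem map_ker_eq_kerBC_localization [Module.Finite A B] (F : B →ₚₗ[A] A) (M : Submonoid A)
    (A' : Type u) [CommRing A'] [Algebra A A'] [IsLocalization M A'] :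
    (PolLaw.ker F).map (Algebra.TensorProduct.includeRight : B →ₐ[A] A' ⊗[A] B) =
      PolLaw.kerBC F A' := by
  apply le_antisymm (map_ker_le_kerBC F A')
  intro β hβ
  obtain ⟨n, s, hs⟩ := Module.Finite.exists_fin (R := A) (M := B)
  obtain ⟨m, hm, b, e⟩ := exists_clear_denom M A' β
  have h1 : (1 : A') ⊗ₜ[A] b ∈ PolLaw.kerBC F A' := by
    rw [← e]
    exact Ideal.mul_mem_left _ _ hβ
  obtain ⟨m', hm', hker⟩ := exists_smul_mem_ker s hs M A' F b h1
  have hunit : IsUnit (((algebraMap A A' (m' * m)) ⊗ₜ[A] (1 : B) : A' ⊗[A] B)) := by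
    have hu : IsUnit (algebraMap A A' (m' * m)) :=
      IsLocalization.map_units A' (⟨m' * m, M.mul_mem hm' hm⟩ : M)
    exact hu.map (Algebra.TensorProduct.includeLeft : A' →ₐ[A] A' ⊗[A] B)
  rw [← Ideal.unit_mul_mem_iff_mem _ hunit]
  have h2 : ((algebraMap A A' (m' * m)) ⊗ₜ[A] (1 : B)) * β = (1 : A') ⊗ₜ[A] (m' • b) := by
    have hsplit : ((algebraMap A A' (m' * m)) ⊗ₜ[A] (1 : B) : A' ⊗[A] B) =
        ((algebraMap A A' m') ⊗ₜ[A] (1 : B)) * ((algebraMap A A' m) ⊗ₜ[A] (1 : B)) := by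
      rw [Algebra.TensorProduct.tmul_mul_tmul, map_mul, mul_one]
    rw [hsplit, mul_assoc, e, Algebra.TensorProduct.tmul_mul_tmul, mul_one, one_mul,
      Algebra.algebraMap_eq_smul_one, TensorProduct.smul_tmul]
  rw [h2, ← Algebra.TensorProduct.includeRight_apply]
  exact Ideal.mem_map_of_mem _ hker

end Loc

end Groth.Agent.Helper20.PLKer
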