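import Mathlib
import Groth.Agent.Lib.Helper20.PLLoc

set_option autoImplicit false
universe u
open scoped TensorProduct

namespace Groth.Agent.Helper20.PLKer

open Polynomial

variable {A : Type u} [CommRing A] {B : Type u} [CommRing B] [Algebra A B]

/-- value of a law with target `A`, read in `S` -/
noncomputable def ev (F : B →ₚₗ[A] A) (S : Type u) [CommSemiring S] [Algebra A S]
    (z : S ⊗[A] B) : S := ridA S (F.toFun' S z)

theorem ev_map (F : B →ₚₗ[A] A) {S S' : Type u} [CommSemiring S] [Algebra A S]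
    [CommSemiring S'] [Algebra A S'] (ψ : S →ₐ[A] S') (z : S ⊗[A] B) :
    ev F S' (Algebra.TensorProduct.map ψ (AlgHom.id A B) z) = ψ (ev F S z) := by
  unfold ev
  rw [compat, rid_map]

section Gp
variable {S : Type u} [CommRing S] [Algebra A S]

/-- constants `S ⊗ B → S[t] ⊗ B` -/
noncomputable def up (z : S ⊗[A] B) : S[X] ⊗[A] B :=
  Algebra.TensorProduct.map (iotaC (A := A)) (AlgHom.id A B) z

theorem up_add (z z' : S ⊗[A] B) : up (z + z') = up z + up z' := map_add _ _ _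
theorem up_mul (z z' : S ⊗[A] B) : up (z * z') = up z * up z' := map_mul _ _ _
theorem up_tmul (s : S) (b : B) : up (s ⊗ₜ[A] b) = (C s) ⊗ₜ[A] b := rfl

/-- the polynomial `t ↦ F(x + t y)` -/
noncomputable def Gp (F : B →ₚₗ[A] A) (x y : S ⊗[A] B) : S[X] :=
  ev F S[X] (up x + ((X : S[X]) ⊗ₜ[A] (1 : B)) * up y)

theorem map_map_up {S' : Type u} [CommRing S'] [Algebra A S'] (ψ : S →ₐ[A] S') (z : S ⊗[A] B) :
    Algebra.TensorProduct.map (Polynomial.mapAlgHom ψ) (AlgHom.id A B) (up z) =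
      up (Algebra.TensorProduct.map ψ (AlgHom.id A B) z) := by
  unfold up
  rw [← AlgHom.comp_apply, ← AlgHom.comp_apply, ← Algebra.TensorProduct.map_comp,
    ← Algebra.TensorProduct.map_comp]
  congr 2
  refine AlgHom.ext (fun s => ?_)
  show Polynomial.map _ (C s) = C (ψ s)
  rw [Polynomial.map_C]
  rfl

theorem Gp_map (F : B →ₚₗ[A] A) {S' : Type u} [CommRing S'] [Algebra A S'] (ψ : S →ₐ[A] S')
    (x y : S ⊗[A] B) :
    Gp F (Algebra.TensorProduct.map ψ (AlgHom.id A B) x)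
      (Algebra.TensorProduct.map ψ (AlgHom.id A B) y) = (Gp F x y).map (ψ : S →+* S') := by
  unfold Gp
  have h := ev_map F (Polynomial.mapAlgHom ψ) (up x + ((X : S[X]) ⊗ₜ[A] (1 : B)) * up y)
  rw [map_add, map_mul, map_map_up, map_map_up, Algebra.TensorProduct.map_tmul] at h
  have hX : (Polynomial.mapAlgHom ψ) (X : S[X]) = X := by simp
  rw [hX, map_one] at h
  rw [h]
  rfl

theorem Gp_eval (F : B →ₚₗ[A] A) (x y : S ⊗[A] B) (s : S) :
    (Gp F x y).eval s = ev F S (x + (s ⊗ₜ[A] (1 : B)) * y) := by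
  unfold Gp
  have h := ev_map F (evAt (A := A) s) (up x + ((X : S[X]) ⊗ₜ[A] (1 : B)) * up y)
  rw [evAt_apply] at h
  rw [← h, map_add, map_mul]
  unfold up
  rw [map_evAt_iotaC, map_evAt_iotaC, map_evAt_X]

theorem Gp_smul (F : B →ₚₗ[A] A) (x y : S ⊗[A] B) (s : S) :
    Gp F x ((s ⊗ₜ[A] (1 : B)) * y) = (Gp F x y).comp (C s * X) := by
  unfold Gp
  let ψ : S[X] →ₐ[A] S[X] := (Polynomial.aeval (C s * X : S[X]) : S[X] →ₐ[S] S[X]).restrictScalars A
  have h := ev_map F ψ (up x + ((X : S[X]) ⊗ₜ[A] (1 : B)) * up y)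
  have hup : ∀ z : S ⊗[A] B, Algebra.TensorProduct.map ψ (AlgHom.id A B) (up z) = up z := by
    intro z
    unfold up
    rw [← AlgHom.comp_apply, ← Algebra.TensorProduct.map_comp]
    congr 2
    refine AlgHom.ext (fun r => ?_)
    show Polynomial.aeval (C s * X : S[X]) (C r) = C r
    rw [Polynomial.aeval_C]
    rfl
  have hX : ψ (X : S[X]) = C s * X := by
    show Polynomial.aeval (C s * X : S[X]) X = _
    rw [Polynomial.aeval_X]
  rw [map_add, map_mul, hup, hup, Algebra.TensorProduct.map_tmul, hX, map_one] at h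
  have h2 : (up ((s ⊗ₜ[A] (1 : B)) * y) : S[X] ⊗[A] B) =
      ((C s : S[X]) ⊗ₜ[A] (1 : B)) * up y := by
    rw [up_mul, up_tmul]
  rw [h2, ← mul_assoc, Algebra.TensorProduct.tmul_mul_tmul, mul_one, mul_comm X (C s), h]
  show Polynomial.aeval (C s * X : S[X]) _ = _
  rw [Polynomial.aeval_def, Polynomial.comp]
  rfl

/-- the derivative of the law at `x` in the direction `y` -/
noncomputable def Dl (F : B →ₚₗ[A] A) (x y : S ⊗[A] B) : S := (Gp F x y).coeff 1

theorem Dl_map (F : B →ₚₗ[A] A) {S' : Type u} [CommRing S'] [Algebra A S'] (ψ : S →ₐ[A] S')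
    (x y : S ⊗[A] B) :
    Dl F (Algebra.TensorProduct.map ψ (AlgHom.id A B) x)
      (Algebra.TensorProduct.map ψ (AlgHom.id A B) y) = ψ (Dl F x y) := by
  unfold Dl
  rw [Gp_map, Polynomial.coeff_map]
  rfl

theorem Dl_smul (F : B →ₚₗ[A] A) (x y : S ⊗[A] B) (s : S) :
    Dl F x ((s ⊗ₜ[A] (1 : B)) * y) = s * Dl F x y := by
  unfold Dl
  rw [Gp_smul, Polynomial.comp_C_mul_X_coeff, pow_one, mul_comm]

theorem poly_lemma (H : S[X][X]) :
    (H.eval X).coeff 1 = (H.eval 0).coeff 1 + (H.map (Polynomial.evalRingHom (0 : S))).coeff 1 := by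
  induction H using Polynomial.induction_on' with
  | add p q hp hq =>
    rw [Polynomial.eval_add, Polynomial.eval_add, Polynomial.map_add, Polynomial.coeff_add,
      Polynomial.coeff_add, Polynomial.coeff_add, hp, hq]
    ring
  | monomial n a =>
    rw [Polynomial.eval_monomial, Polynomial.eval_monomial, Polynomial.map_monomial,
      Polynomial.coeff_monomial]
    rcases n with _ | _ | n
    · simp
    · simp [Polynomial.coeff_zero_eq_eval_zero]
    · have : ((a * X ^ (n + 1 + 1) : S[X])).coeff 1 = 0 := by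
        rw [Polynomial.coeff_mul_X_pow']
        simp
      simp [this]

theorem Dl_add (F : B →ₚₗ[A] A) (x y₁ y₂ : S ⊗[A] B) :
    Dl F x (y₁ + y₂) = Dl F x y₁ + Dl F x y₂ := by
  let H : S[X][X] := Gp F (up x + ((X : S[X]) ⊗ₜ[A] (1 : B)) * up y₁) (up y₂)
  have h1 : H.eval 0 = Gp F x y₁ := by
    rw [Gp_eval]
    rw [TensorProduct.zero_tmul, zero_mul, add_zero]
    rfl
  have h2 : H.map (Polynomial.evalRingHom (0 : S)) = Gp F x y₂ := by
    have := Gp_map F (evAt (A := A) (0 : S)) (up x + ((X : S[X]) ⊗ₜ[A] (1 : B)) * up y₁) (up y₂)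
    rw [map_add, map_mul] at this
    unfold up at this
    rw [map_evAt_iotaC, map_evAt_iotaC, map_evAt_iotaC, map_evAt_X, TensorProduct.zero_tmul,
      zero_mul, add_zero] at this
    rw [this]
    congr 1
  have h3 : H.eval X = Gp F x (y₁ + y₂) := by
    rw [Gp_eval]
    unfold Gp
    rw [up_add, mul_add, add_assoc]
  unfold Dl
  rw [← h3, poly_lemma, h1, h2]

theorem Dl_zero (F : B →ₚₗ[A] A) (x : S ⊗[A] B) : Dl F x 0 = 0 := by
  have := Dl_add F x 0 0
  rw [add_zero] at this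
  exact left_eq_add.mp this

theorem aeval_taylor_coeff_one (p : S[X]) :
    (Polynomial.aeval (C X + X : S[X][X]) p).coeff 1 = derivative p := by
  have h : Polynomial.aeval (C X + X : S[X][X]) p = Polynomial.taylor (X : S[X]) (p.map C) := by
    rw [Polynomial.taylor_apply, Polynomial.comp, Polynomial.eval₂_map, add_comm,
      Polynomial.aeval_def]
    rfl
  rw [h, Polynomial.taylor_coeff_one, Polynomial.derivative_map, Polynomial.eval_map,
    Polynomial.eval₂_C_X]

theorem Gp_taylor (F : B →ₚₗ[A] A) (x y : S ⊗[A] B) :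
    Gp F (up x + ((X : S[X]) ⊗ₜ[A] (1 : B)) * up y) (up y) =
      Polynomial.aeval (C X + X : S[X][X]) (Gp F x y) := by
  let τ : S[X] →ₐ[A] S[X][X] :=
    (Polynomial.aeval (C X + X : S[X][X]) : S[X] →ₐ[S] S[X][X]).restrictScalars A
  have h := ev_map F τ (up x + ((X : S[X]) ⊗ₜ[A] (1 : B)) * up y)
  have hup : ∀ z : S ⊗[A] B, Algebra.TensorProduct.map τ (AlgHom.id A B) (up z) = up (up z) := by
    intro z
    unfold up
    rw [← AlgHom.comp_apply, ← AlgHom.comp_apply, ← Algebra.TensorProduct.map_comp,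
      ← Algebra.TensorProduct.map_comp]
    congr 2
    refine AlgHom.ext (fun r => ?_)
    show Polynomial.aeval (C X + X : S[X][X]) (C r) = C (C r)
    rw [Polynomial.aeval_C]
    rfl
  have hX : τ (X : S[X]) = C X + X := by
    show Polynomial.aeval (C X + X : S[X][X]) X = _
    rw [Polynomial.aeval_X]
  rw [map_add, map_mul, hup, hup, Algebra.TensorProduct.map_tmul, hX, map_one] at h
  show ev F S[X][X] _ = τ (Gp F x y)
  refine Eq.trans ?_ h
  congr 1
  rw [up_add, up_mul, up_tmul, TensorProduct.add_tmul, add_mul, add_assoc]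

theorem Dl_taylor (F : B →ₚₗ[A] A) (x y : S ⊗[A] B) :
    Dl F (up x + ((X : S[X]) ⊗ₜ[A] (1 : B)) * up y) (up y) = derivative (Gp F x y) := by
  unfold Dl
  rw [Gp_taylor, aeval_taylor_coeff_one]

/-- in characteristic zero: if the derivative vanishes along the segment, the law is constant
along it -/
theorem ev_add_eq_of_Dl [IsAddTorsionFree S] (F : B →ₚₗ[A] A) (x y : S ⊗[A] B)
    (h : Dl F (up x + ((X : S[X]) ⊗ₜ[A] (1 : B)) * up y) (up y) = 0) :
    ev F S (x + y) = ev F S x := by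
  rw [Dl_taylor] at h
  have hc := Polynomial.eq_C_of_derivative_eq_zero h
  have h1 := Gp_eval F x y 1
  have h0 := Gp_eval F x y 0
  rw [hc, Polynomial.eval_C] at h1 h0
  rw [TensorProduct.zero_tmul, zero_mul, add_zero] at h0
  rw [show ((1 : S) ⊗ₜ[A] (1 : B) : S ⊗[A] B) = 1 from rfl, one_mul] at h1
  rw [← h1, ← h0]

end Gp

section Fin
variable {n : ℕ} (s : Fin n → B)

/-- the linear form detecting the kernel in characteristic zero -/
noncomputable def Lam (F : B →ₚₗ[A] A) : B →ₗ[A] MvPolynomial (Fin n ⊕ Fin n) A where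
  toFun b := Dl F (x₀ s A) (w₀ s A * (1 ⊗ₜ[A] b))
  map_add' b b' := by rw [TensorProduct.tmul_add, mul_add, Dl_add]
  map_smul' a b := by
    have : (w₀ s A * ((1 : MvPolynomial (Fin n ⊕ Fin n) A) ⊗ₜ[A] (a • b))) =
        ((algebraMap A (MvPolynomial (Fin n ⊕ Fin n) A) a) ⊗ₜ[A] (1 : B)) *
          (w₀ s A * (1 ⊗ₜ[A] b)) := by
      rw [TensorProduct.tmul_smul, TensorProduct.smul_tmul', ← Algebra.algebraMap_eq_smul_one,
        ← mul_assoc, mul_comm _ (w₀ s A), mul_assoc, Algebra.TensorProduct.tmul_mul_tmul, mul_one,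
        one_mul]
    rw [this, Dl_smul, RingHom.id_apply, Algebra.smul_def]

theorem Lam_apply (F : B →ₚₗ[A] A) (b : B) :
    Lam s F b = Dl F (x₀ s A) (w₀ s A * (1 ⊗ₜ[A] b)) := rfl

theorem mem_ker_of_Lam_eq_zero [Algebra ℚ A] (hs : Submodule.span A (Set.range s) = ⊤)
    (F : B →ₚₗ[A] A) (b : B) (h : Lam s F b = 0) : b ∈ PolLaw.ker F := by
  haveI : IsAddTorsionFree (MvPolynomial (Fin n ⊕ Fin n) A) := IsAddTorsionFree.of_module_rat _
  apply mem_ker_of_universal s hs F b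
  apply ridA_injective
  show ev F _ (x₀ s A + w₀ s A * (1 ⊗ₜ[A] b)) = ev F _ (x₀ s A)
  apply ev_add_eq_of_Dl
  obtain ⟨r, hr⟩ := exists_repr s hs (MvPolynomial (Fin n ⊕ Fin n) A)[X]
    (up (x₀ s A) + ((X : (MvPolynomial (Fin n ⊕ Fin n) A)[X]) ⊗ₜ[A] (1 : B)) *
      up (w₀ s A * (1 ⊗ₜ[A] b)))
  let θ : MvPolynomial (Fin n ⊕ Fin n) A →ₐ[A] (MvPolynomial (Fin n ⊕ Fin n) A)[X] :=
    MvPolynomial.aeval (Sum.elim r (fun i => C (MvPolynomial.X (Sum.inr i))))
  have h1 : Algebra.TensorProduct.map θ (AlgHom.id A B) (x₀ s A) =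
      up (x₀ s A) + ((X : (MvPolynomial (Fin n ⊕ Fin n) A)[X]) ⊗ₜ[A] (1 : B)) *
        up (w₀ s A * (1 ⊗ₜ[A] b)) := by
    rw [map_x₀, hr]
    simp [θ]
  have h2 : Algebra.TensorProduct.map θ (AlgHom.id A B) (w₀ s A * (1 ⊗ₜ[A] b)) =
      up (w₀ s A * (1 ⊗ₜ[A] b)) := by
    rw [map_mul, map_w₀, up_mul]
    congr 1
    · unfold up
      rw [map_w₀]
      simp [θ, iotaC_apply]
    · rw [Algebra.TensorProduct.map_tmul, map_one]
      rfl
  rw [← h1, ← h2, Dl_map]
  show θ (Lam s F b) = 0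
  rw [h, map_zero]

section BC
variable (A' : Type u) [CommRing A'] [Algebra A A']

/-- the image of `b'` in `R ⊗ B`, `R = A' ⊗ A[X,Y]` -/
noncomputable def bR (b' : A' ⊗[A] B) : (A' ⊗[A] MvPolynomial (Fin n ⊕ Fin n) A) ⊗[A] B :=
  Algebra.TensorProduct.map
    (IsScalarTower.toAlgHom A A' (A' ⊗[A] MvPolynomial (Fin n ⊕ Fin n) A)) (AlgHom.id A B) b'

/-- `A[X,Y] → A' ⊗ A[X,Y]` -/
noncomputable def jR : MvPolynomial (Fin n ⊕ Fin n) A →ₐ[A] A' ⊗[A] MvPolynomial (Fin n ⊕ Fin n) A :=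
  Algebra.TensorProduct.includeRight

theorem lTensor_Lam (F : B →ₚₗ[A] A) (b' : A' ⊗[A] B) :
    (Lam s F).lTensor A' b' =
      Dl F (Algebra.TensorProduct.map (jR (n := n) A') (AlgHom.id A B) (x₀ s A))
        (Algebra.TensorProduct.map (jR (n := n) A') (AlgHom.id A B) (w₀ s A) * bR A' b') := by
  induction b' using TensorProduct.induction_on with
  | zero =>
    rw [map_zero]
    unfold bR
    rw [map_zero, mul_zero, Dl_zero]
  | tmul a' b =>
    rw [LinearMap.lTensor_tmul, Lam_apply]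
    have h1 : bR (A := A) (n := n) A' (a' ⊗ₜ[A] b) =
        ((a' ⊗ₜ[A] (1 : MvPolynomial (Fin n ⊕ Fin n) A)) ⊗ₜ[A] (1 : B)) *
          Algebra.TensorProduct.map (jR (A := A) (n := n) A') (AlgHom.id A B)
            ((1 : MvPolynomial (Fin n ⊕ Fin n) A) ⊗ₜ[A] b) := by
      unfold bR
      rw [Algebra.TensorProduct.map_tmul, Algebra.TensorProduct.map_tmul,
        Algebra.TensorProduct.tmul_mul_tmul, map_one, mul_one, AlgHom.id_apply, one_mul]
      congr 1
    rw [h1, ← mul_assoc, mul_comm _ ((a' ⊗ₜ[A] (1 : MvPolynomial (Fin n ⊕ Fin n) A)) ⊗ₜ[A] (1 : B)),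
      mul_assoc, ← map_mul, Dl_smul, Dl_map]
    show _ = a' ⊗ₜ[A] 1 * (1 ⊗ₜ[A] _)
    rw [Algebra.TensorProduct.tmul_mul_tmul, mul_one, one_mul]
  | add u v hu hv =>
    rw [map_add, hu, hv]
    unfold bR
    rw [map_add, mul_add, Dl_add]

theorem lTensor_Lam_eq_zero (F : B →ₚₗ[A] A) (b' : A' ⊗[A] B) (hb' : b' ∈ PolLaw.kerBC F A') :
    (Lam s F).lTensor A' b' = 0 := by
  rw [lTensor_Lam]
  set x := Algebra.TensorProduct.map (jR (n := n) A') (AlgHom.id A B) (x₀ s A) with hx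
  set w := Algebra.TensorProduct.map (jR (n := n) A') (AlgHom.id A B) (w₀ s A) with hw
  have h1 : up (bR (n := n) A' b') = Algebra.TensorProduct.map
      (IsScalarTower.toAlgHom A A' (A' ⊗[A] MvPolynomial (Fin n ⊕ Fin n) A)[X])
      (AlgHom.id A B) b' := by
    unfold up bR
    rw [← AlgHom.comp_apply, ← Algebra.TensorProduct.map_comp]
    congr 2
  have h2 : Gp F x (w * bR (n := n) A' b') = C (ev F _ x) := by
    unfold Gp
    rw [up_mul, h1, ← mul_assoc]
    have h3 := (mem_kerBC_iff F A' b').1 hb' (A' ⊗[A] MvPolynomial (Fin n ⊕ Fin n) A)[X]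
      (up x) (((X : (A' ⊗[A] MvPolynomial (Fin n ⊕ Fin n) A)[X]) ⊗ₜ[A] (1 : B)) * up w)
    unfold ev
    rw [h3]
    have h4 := ev_map F (iotaC (A := A) (S₀ := A' ⊗[A] MvPolynomial (Fin n ⊕ Fin n) A)) x
    exact h4
  unfold Dl
  rw [h2, Polynomial.coeff_C]
  simp

end BC

end Fin

/-- in characteristic zero, for a finite algebra, the kernel of a law commutes with flat base
change -/
theorem map_ker_eq_kerBC_flat [Algebra ℚ A] [Module.Finite A B] (F : B →ₚₗ[A] A)
    (A' : Type u) [CommRing A'] [Algebra A A'] [Module.Flat A A'] :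
    (PolLaw.ker F).map (Algebra.TensorProduct.includeRight : B →ₐ[A] A' ⊗[A] B) =
      PolLaw.kerBC F A' := by
  obtain ⟨n, s, hs⟩ := Module.Finite.exists_fin (R := A) (M := B)
  apply le_antisymm (map_ker_le_kerBC F A')
  intro b' hb'
  have h0 := lTensor_Lam_eq_zero s A' F b' hb'
  have hker := Module.Flat.ker_lTensor_eq A' A' (Lam s F)
  have hmem : b' ∈ LinearMap.ker (TensorProduct.AlgebraTensorModule.lTensor A' A' (Lam s F)) := h0
  rw [hker] at hmem
  obtain ⟨u, rfl⟩ := hmem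
  clear h0 hb' hker
  induction u using TensorProduct.induction_on with
  | zero => simp
  | tmul a' k =>
    have h1 : (TensorProduct.AlgebraTensorModule.lTensor A' A' (LinearMap.ker (Lam s F)).subtype)
        (a' ⊗ₜ[A] k) = (a' ⊗ₜ[A] (1 : B)) *
          (Algebra.TensorProduct.includeRight : B →ₐ[A] A' ⊗[A] B) (k : B) := by
      show a' ⊗ₜ[A] (k : B) = _
      rw [Algebra.TensorProduct.includeRight_apply, Algebra.TensorProduct.tmul_mul_tmul, mul_one,
        one_mul]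
    rw [h1]
    exact Ideal.mul_mem_left _ _ (Ideal.mem_map_of_mem _ (mem_ker_of_Lam_eq_zero s hs F k k.2))
  | add u v hu hv =>
    rw [map_add]
    exact add_mem hu hv

end Groth.Agent.Helper20.PLKer
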