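import Mathlib
import Groth.Agent.Lib.Helper20.CHComb
import Groth.Agent.Lib.Helper20.PLDiff

set_option autoImplicit false
universe u
open scoped TensorProduct
open MvPolynomial

namespace Groth.Agent.Helper20.CHConc
open Groth.Agent.Helper20.PLKer

variable {A : Type u} [CommRing A] {σ : Type u} {d : ℕ}

section ridA
variable {S : Type u} [CommSemiring S] [Algebra A S]

theorem ridA_smul (s : S) (z : S ⊗[A] A) : ridA S (s • z) = s * ridA S z := by
  induction z using TensorProduct.induction_on with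
  | zero => simp
  | tmul t a => rw [TensorProduct.smul_tmul', ridA_tmul, ridA_tmul, smul_eq_mul, mul_assoc]
  | add x y hx hy => rw [smul_add, map_add, map_add, hx, hy, mul_add]

theorem ev_smul {B : Type u} [CommRing B] [Algebra A B] (F : B →ₚₗ[A] A)
    (hF : PolLaw.IsHomog F d) (s : S) (z : S ⊗[A] B) :
    ev F S (s • z) = s ^ d * ev F S z := by
  unfold ev
  rw [hF S s z, ridA_smul]

end ridA

/-- the generic element supported on a finite set of monomials -/
noncomputable def uN (N : Finset (σ →₀ ℕ)) :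
    MvPolynomial (σ →₀ ℕ) A ⊗[A] MvPolynomial σ A :=
  ∑ ν ∈ N, (X ν : MvPolynomial (σ →₀ ℕ) A) ⊗ₜ[A] (monomial ν (1 : A))

/-- the value of the law on the generic element -/
noncomputable def gN (F : MvPolynomial σ A →ₚₗ[A] A) (N : Finset (σ →₀ ℕ)) :
    MvPolynomial (σ →₀ ℕ) A := ev F _ (uN N)

/-- the coefficients of the law -/
noncomputable def cOf (F : MvPolynomial σ A →ₚₗ[A] A) : ((σ →₀ ℕ) →₀ ℕ) → A :=
  fun α => coeff α (gN F α.support)

theorem map_uN {S : Type u} [CommSemiring S] [Algebra A S]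
    (ψ : MvPolynomial (σ →₀ ℕ) A →ₐ[A] S) (N : Finset (σ →₀ ℕ)) :
    Algebra.TensorProduct.map ψ (AlgHom.id A (MvPolynomial σ A)) (uN N) =
      ∑ ν ∈ N, ψ (X ν) ⊗ₜ[A] (monomial ν (1 : A)) := by
  unfold uN
  rw [map_sum]
  refine Finset.sum_congr rfl (fun ν _ => ?_)
  rw [Algebra.TensorProduct.map_tmul, AlgHom.id_apply]

theorem gN_map (F : MvPolynomial σ A →ₚₗ[A] A) {S : Type u} [CommSemiring S] [Algebra A S]
    (ψ : MvPolynomial (σ →₀ ℕ) A →ₐ[A] S) (N : Finset (σ →₀ ℕ)) :
    ψ (gN F N) = ev F S (∑ ν ∈ N, ψ (X ν) ⊗ₜ[A] (monomial ν (1 : A))) := by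
  unfold gN
  rw [← ev_map, map_uN]

section toT
variable {S : Type u} [CommRing S] [Algebra A S]

theorem toT_eq_sum (q : MvPolynomial σ S) :
    (algebraTensorAlgEquiv A S).symm q =
      ∑ ν ∈ q.support, coeff ν q ⊗ₜ[A] (monomial ν (1 : A)) := by
  conv_lhs => rw [q.as_sum]
  rw [map_sum]
  refine Finset.sum_congr rfl (fun ν _ => ?_)
  rw [algebraTensorAlgEquiv_symm_monomial]

theorem ev_toT (F : MvPolynomial σ A →ₚₗ[A] A) (q : MvPolynomial σ S) :
    ev F S ((algebraTensorAlgEquiv A S).symm q) =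
      aeval (fun ν => coeff ν q) (gN F q.support) := by
  rw [gN_map, toT_eq_sum]
  congr 1
  refine Finset.sum_congr rfl (fun ν _ => ?_)
  rw [aeval_X]

end toT

section kap

open Classical in
/-- kill the variables outside `N` -/
noncomputable def kap (N : Finset (σ →₀ ℕ)) :
    MvPolynomial (σ →₀ ℕ) A →ₐ[A] MvPolynomial (σ →₀ ℕ) A :=
  aeval (fun ν => if ν ∈ N then X ν else 0)

theorem kap_gN (F : MvPolynomial σ A →ₚₗ[A] A) {N' N : Finset (σ →₀ ℕ)} (h : N' ⊆ N) :
    kap N' (gN F N) = gN F N' := by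
  classical
  rw [gN_map]
  unfold gN uN
  congr 1
  have h1 : ∀ ν ∈ N, (kap (A := A) N' (X ν)) ⊗ₜ[A] (monomial ν (1 : A) : MvPolynomial σ A) =
      if ν ∈ N' then (X ν : MvPolynomial (σ →₀ ℕ) A) ⊗ₜ[A] (monomial ν (1 : A)) else 0 := by
    intro ν _
    unfold kap
    rw [aeval_X]
    split_ifs
    · rfl
    · rw [TensorProduct.zero_tmul]
  rw [Finset.sum_congr rfl h1, Finset.sum_ite_mem, Finset.inter_eq_right.2 h]

open Classical in
theorem coeff_kap (N : Finset (σ →₀ ℕ)) (p : MvPolynomial (σ →₀ ℕ) A)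
    (α : (σ →₀ ℕ) →₀ ℕ) :
    coeff α (kap N p) = if α.support ⊆ N then coeff α p else 0 := by
  classical
  induction p using MvPolynomial.induction_on' with
  | monomial β a =>
    unfold kap
    rw [aeval_monomial]
    by_cases hβ : β.support ⊆ N
    · have h1 : (β.prod fun ν k => (if ν ∈ N then (X ν : MvPolynomial (σ →₀ ℕ) A) else 0) ^ k) =
          β.prod fun ν k => (X ν : MvPolynomial (σ →₀ ℕ) A) ^ k := by
        refine Finsupp.prod_congr (fun ν hν => ?_)
        rw [if_pos (hβ hν)]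
      rw [h1, MvPolynomial.algebraMap_eq, ← MvPolynomial.monomial_eq, coeff_monomial]
      split_ifs with h2 h3 h3
      · rfl
      · exact absurd (h2 ▸ hβ) h3
      · rfl
      · rfl
    · have h1 : (β.prod fun ν k => (if ν ∈ N then (X ν : MvPolynomial (σ →₀ ℕ) A) else 0) ^ k) =
          0 := by
        rw [Finset.not_subset] at hβ
        obtain ⟨ν, hν, hνN⟩ := hβ
        refine Finset.prod_eq_zero hν ?_
        show (if ν ∈ N then (X ν : MvPolynomial (σ →₀ ℕ) A) else 0) ^ (β ν) = 0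
        rw [if_neg hνN, zero_pow (Finsupp.mem_support_iff.1 hν)]
      rw [h1, mul_zero, coeff_zero, coeff_monomial]
      split_ifs with h2 h3
      · exact absurd (h3 ▸ h2) hβ
      · rfl
      · rfl
  | add p q hp hq =>
    rw [map_add, coeff_add, hp, hq, coeff_add]
    split_ifs
    · rfl
    · rw [add_zero]

theorem coeff_gN_of_not_subset (F : MvPolynomial σ A →ₚₗ[A] A) (N : Finset (σ →₀ ℕ))
    (α : (σ →₀ ℕ) →₀ ℕ) (h : ¬ α.support ⊆ N) : coeff α (gN F N) = 0 := by
  rw [← kap_gN F (Finset.Subset.refl N), coeff_kap, if_neg h]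

theorem coeff_gN_eq (F : MvPolynomial σ A →ₚₗ[A] A) (N : Finset (σ →₀ ℕ))
    (α : (σ →₀ ℕ) →₀ ℕ) (h : α.support ⊆ N) : coeff α (gN F N) = cOf F α := by
  unfold cOf
  rw [← kap_gN F h, coeff_kap, if_pos (Finset.Subset.refl _)]

end kap

section homog

/-- scale all variables by `t` -/
noncomputable def lam : MvPolynomial (σ →₀ ℕ) A →ₐ[A] Polynomial (MvPolynomial (σ →₀ ℕ) A) :=
  aeval (fun ν => Polynomial.X * Polynomial.C (X ν))

theorem coeff_lam (p : MvPolynomial (σ →₀ ℕ) A) (α : (σ →₀ ℕ) →₀ ℕ) (k : ℕ) :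
    coeff α (Polynomial.coeff (lam p) k) =
      if α.sum (fun _ n => n) = k then coeff α p else 0 := by
  classical
  induction p using MvPolynomial.induction_on' with
  | monomial β a =>
    unfold lam
    rw [aeval_monomial]
    have h1 : (β.prod fun ν n => (Polynomial.X * Polynomial.C (X ν) :
        Polynomial (MvPolynomial (σ →₀ ℕ) A)) ^ n) =
        Polynomial.X ^ (β.sum fun _ n => n) * Polynomial.C (monomial β (1 : A)) := by
      simp only [Finsupp.prod, Finsupp.sum, mul_pow, Finset.prod_mul_distrib,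
        Finset.prod_pow_eq_pow_sum, monomial_eq, C_1, one_mul, map_prod, map_pow]
    have h2 : (algebraMap A (Polynomial (MvPolynomial (σ →₀ ℕ) A))) a *
        (Polynomial.X ^ (β.sum fun _ n => n) * Polynomial.C (monomial β (1 : A))) =
        Polynomial.monomial (β.sum fun _ n => n) (monomial β a) := by
      rw [← Polynomial.C_mul_X_pow_eq_monomial]
      have : (algebraMap A (Polynomial (MvPolynomial (σ →₀ ℕ) A))) a =
          Polynomial.C (C a) := rfl
      rw [this, mul_comm (Polynomial.X ^ _), ← mul_assoc, ← map_mul, C_mul_monomial, mul_one]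
    rw [h1, h2, Polynomial.coeff_monomial, coeff_monomial]
    by_cases hk : (β.sum fun _ n => n) = k
    · rw [if_pos hk, coeff_monomial]
      by_cases hαβ : β = α
      · rw [if_pos hαβ, if_pos (hαβ ▸ hk)]
      · rw [if_neg hαβ]
        split_ifs <;> rfl
    · rw [if_neg hk, coeff_zero]
      by_cases hαβ : β = α
      · rw [if_neg (hαβ ▸ hk)]
      · rw [if_neg hαβ]
        split_ifs <;> rfl
  | add p q hp hq =>
    rw [map_add, Polynomial.coeff_add, coeff_add, hp, hq, coeff_add]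
    split_ifs
    · rfl
    · rw [add_zero]

theorem lam_gN (F : MvPolynomial σ A →ₚₗ[A] A) (hF : PolLaw.IsHomog F d)
    (N : Finset (σ →₀ ℕ)) :
    lam (gN F N) = Polynomial.X ^ d * Polynomial.C (gN F N) := by
  rw [gN_map]
  have h1 : (∑ ν ∈ N, (lam (A := A) (X ν)) ⊗ₜ[A] (monomial ν (1 : A) : MvPolynomial σ A)) =
      (Polynomial.X : Polynomial (MvPolynomial (σ →₀ ℕ) A)) •
        Algebra.TensorProduct.map (iotaC (A := A)) (AlgHom.id A (MvPolynomial σ A)) (uN N) := by
    rw [map_uN, Finset.smul_sum]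
    refine Finset.sum_congr rfl (fun ν _ => ?_)
    unfold lam
    rw [aeval_X, TensorProduct.smul_tmul', smul_eq_mul]
    rfl
  rw [h1, ev_smul F hF, ev_map]
  rfl

theorem coeff_gN_of_degree_ne (F : MvPolynomial σ A →ₚₗ[A] A) (hF : PolLaw.IsHomog F d)
    (N : Finset (σ →₀ ℕ)) (α : (σ →₀ ℕ) →₀ ℕ) (h : α.sum (fun _ n => n) ≠ d) :
    coeff α (gN F N) = 0 := by
  have h1 := coeff_lam (gN F N) α (α.sum (fun _ n => n))
  rw [if_pos rfl, lam_gN F hF, Polynomial.coeff_X_pow_mul', Polynomial.coeff_C] at h1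
  rw [← h1]
  split_ifs with h2 h3
  · exfalso
    omega
  · rfl
  · rfl

end homog

section bridge

theorem bridge (F : MvPolynomial σ A →ₚₗ[A] A) (hF : PolLaw.IsHomog F d)
    {S : Type u} [CommRing S] [Algebra A S] (q : MvPolynomial σ S) :
    ev F S ((algebraTensorAlgEquiv A S).symm q) =
      Fh (phiOf (d := d) (cOf F)) (algebraMap A S) q := by
  classical
  rw [ev_toT, Fh_phiOf, aeval_def, eval₂_eq]
  refine (Finset.sum_subset ?_ ?_).trans (Finset.sum_congr rfl ?_)
  · intro α hα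
    rw [mem_support_iff] at hα
    rw [Finset.mem_finsuppAntidiag']
    constructor
    · by_contra h
      exact hα (coeff_gN_of_degree_ne F hF _ _ h)
    · by_contra h
      exact hα (coeff_gN_of_not_subset F _ _ h)
  · intro α _ hα
    rw [notMem_support_iff] at hα
    rw [hα, map_zero, zero_mul]
  · intro α hα
    rw [coeff_gN_eq F _ _ (Finset.mem_finsuppAntidiag'.1 hα).2, mul_comm]
    rfl

theorem isMultC (F : MvPolynomial σ A →ₚₗ[A] A) (hF : PolLaw.IsHomog F d)
    (hm : PolLaw.IsMult F) : IsMultC (phiOf (d := d) (cOf F)) := by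
  intro R _ f
  letI : Algebra A R := f.toAlgebra
  have hb : ∀ q, Fh (phiOf (d := d) (cOf F)) f q =
      ev F R ((algebraTensorAlgEquiv A R).symm q) := fun q => by
    rw [bridge F hF q]
    rfl
  constructor
  · rw [hb, map_one]
    unfold ev
    rw [(hm R).1, map_one]
  · intro q q'
    rw [hb, hb, hb, map_mul]
    unfold ev
    rw [(hm R).2, map_mul]

end bridge


end Groth.Agent.Helper20.CHConc
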