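import Mathlib
import Groth.Agent.Lib.Helper20.CHConc

set_option autoImplicit false
universe u v

open MvPolynomial

namespace Groth.Agent.Helper20.CHConc

variable {A : Type u} [CommRing A] {σ : Type v} {d : ℕ} (φ₀ : (Fin d × σ →₀ ℕ) → A)

section chi
variable {R : Type u} [CommRing R] (f : A →+* R)

theorem tauh_C_mul (r : R) (q : MvPolynomial σ R) :
    tauh (d := d) (C r * q) = C (r ^ d) * tauh q := by
  rw [map_mul, tauh_apply (C r)]
  congr 1
  simp only [rename_C]
  rw [Finset.prod_const, Finset.card_univ, Fintype.card_fin, map_pow]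

theorem Fh_C_mul (r : R) (q : MvPolynomial σ R) :
    Fh φ₀ f (C r * q) = r ^ d * Fh φ₀ f q := by
  unfold Fh
  rw [tauh_C_mul, Phi_C_mul]

/-- the characteristic polynomial at the concrete level -/
noncomputable def chiC (x : MvPolynomial σ R) : Polynomial R :=
  Fh φ₀ ((Polynomial.C : R →+* Polynomial R).comp f) (map Polynomial.C x - C Polynomial.X)

variable {φ₀}

theorem chiC_eq (hm : IsMultC φ₀) (x : MvPolynomial σ R) :
    chiC φ₀ f x = (-1) ^ d * (Polynomial.X ^ d +
      ∑ k : Fin d, Polynomial.C (Phi φ₀ f (eh x d k)) * Polynomial.X ^ (k : ℕ)) := by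
  unfold chiC
  have h1 : (map Polynomial.C x - C Polynomial.X : MvPolynomial σ (Polynomial R)) =
      C (-1) * (C Polynomial.X - map Polynomial.C x) := by
    rw [map_neg, map_one]
    ring
  rw [h1, Fh_C_mul]
  congr 1
  unfold Fh
  rw [← Xi₁_E', E'_eq_sum, map_sum, map_sum, Finset.sum_range_succ, eh_top,
    Fin.sum_univ_eq_sum_range (fun k => Polynomial.C (Phi φ₀ f (eh x d k)) * Polynomial.X ^ k) d,
    add_comm]
  have h2 : ∀ k : ℕ, Phi φ₀ ((Polynomial.C : R →+* Polynomial R).comp f)
      (Xi₁ (Polynomial.C (eh x d k) * Polynomial.X ^ k)) =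
      Polynomial.C (Phi φ₀ f (eh x d k)) * Polynomial.X ^ k := by
    intro k
    rw [Polynomial.C_mul_X_pow_eq_monomial, Xi₁_monomial, Phi_mul_C, Phi_map]
  have h3 : Phi φ₀ f (1 : MvPolynomial (Fin d × σ) R) = 1 := by
    have := (hm R f).1
    unfold Fh at this
    rwa [map_one] at this
  congr 1
  · have := h2 d
    rw [eh_top, h3] at this
    rw [this, map_one, one_mul]
  · exact Finset.sum_congr rfl (fun k _ => h2 k)

/-- Cayley–Hamilton for concrete multiplicative laws, with the characteristic polynomial. -/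
theorem CH_conc' (hm : IsMultC φ₀) (x z w : MvPolynomial σ R) :
    Fh φ₀ f (z + w * Polynomial.aeval x (chiC φ₀ f x)) = Fh φ₀ f z := by
  rw [chiC_eq f hm]
  have h1 : Polynomial.aeval x ((-1 : Polynomial R) ^ d * (Polynomial.X ^ d +
      ∑ k : Fin d, Polynomial.C (Phi φ₀ f (eh x d k)) * Polynomial.X ^ (k : ℕ))) =
      (-1) ^ d * (x ^ d + ∑ k : Fin d, C (Phi φ₀ f (eh x d k)) * x ^ (k : ℕ)) := by
    simp only [map_mul, map_pow, map_neg, map_one, map_add, map_sum, Polynomial.aeval_X,
      Polynomial.aeval_C, MvPolynomial.algebraMap_eq]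
  rw [h1, ← mul_assoc]
  exact CH_conc x z (w * (-1) ^ d) hm

end chi

end Groth.Agent.Helper20.CHConc
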