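import Mathlib
import Groth.Agent.Lib.Helper20.CHChi
import Groth.Agent.Lib.Helper20.CHBridge

set_option autoImplicit false
universe u
open scoped TensorProduct

namespace Groth.Agent.Helper20.PLKer
open Groth.Agent.Helper20.CHConc
open Polynomial

variable {A : Type u} [CommRing A] {B : Type u} [CommRing B] [Algebra A B] {d : ℕ}

section rho
variable (A B)

/-- the presentation of `B` by the polynomial ring on its elements -/
noncomputable def piB : MvPolynomial B A →ₐ[A] B := MvPolynomial.aeval id

variable {A} (S : Type u) [CommRing S] [Algebra A S]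

/-- the presentation of `S ⊗ B` by the polynomial ring over `S` on the elements of `B` -/
noncomputable def rho : MvPolynomial B S →ₐ[S] S ⊗[A] B :=
  (Algebra.TensorProduct.map (AlgHom.id S S) (piB A B)).comp
    (MvPolynomial.algebraTensorAlgEquiv A S).symm.toAlgHom

variable {B S}

theorem rho_apply (q : MvPolynomial B S) :
    rho B S q = Algebra.TensorProduct.map (AlgHom.id S S) (piB A B)
      ((MvPolynomial.algebraTensorAlgEquiv A S).symm q) := rfl

theorem rho_monomial (ν : B →₀ ℕ) (s : S) :
    rho B S (MvPolynomial.monomial ν s) = s ⊗ₜ[A] (piB A B (MvPolynomial.monomial ν 1)) := by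
  rw [rho_apply, MvPolynomial.algebraTensorAlgEquiv_symm_monomial,
    Algebra.TensorProduct.map_tmul, AlgHom.id_apply]

theorem rho_surjective : Function.Surjective (rho (A := A) B S) := by
  intro z
  induction z using TensorProduct.induction_on with
  | zero => exact ⟨0, map_zero _⟩
  | tmul s b =>
    refine ⟨MvPolynomial.monomial (Finsupp.single b 1) s, ?_⟩
    rw [rho_monomial]
    congr 1
    show MvPolynomial.aeval id (MvPolynomial.X b) = b
    rw [MvPolynomial.aeval_X]
    rfl
  | add z₁ z₂ h₁ h₂ =>
    obtain ⟨q₁, rfl⟩ := h₁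
    obtain ⟨q₂, rfl⟩ := h₂
    exact ⟨q₁ + q₂, map_add _ _ _⟩

theorem rho_map {S' : Type u} [CommRing S'] [Algebra A S'] (ψ : S →ₐ[A] S')
    (q : MvPolynomial B S) :
    rho B S' (MvPolynomial.map (ψ : S →+* S') q) =
      Algebra.TensorProduct.map ψ (AlgHom.id A B) (rho B S q) := by
  induction q using MvPolynomial.induction_on' with
  | monomial ν s =>
    rw [MvPolynomial.map_monomial, rho_monomial, rho_monomial, Algebra.TensorProduct.map_tmul]
    rfl
  | add p q hp hq => rw [map_add, map_add, hp, hq, map_add, map_add]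

end rho

section key
variable (F : PolLaw.MulLaw A B A d)

/-- the coefficient family of the law pulled back to the polynomial ring -/
noncomputable def phiF : (Fin d × B →₀ ℕ) → A :=
  phiOf (d := d) (cOf (F.precomp (piB A B)).law)

theorem isMultC_phiF : IsMultC (phiF F) :=
  isMultC _ (F.precomp (piB A B)).homog (F.precomp (piB A B)).mult

variable {S : Type u} [CommRing S] [Algebra A S]

theorem ev_rho (q : MvPolynomial B S) :
    ev F.law S (rho B S q) = Fh (phiF F) (algebraMap A S) q := by
  unfold phiF
  rw [← bridge _ (F.precomp (piB A B)).homog q, rho_apply]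
  unfold ev
  congr 1

/-- the characteristic polynomial of a point `x` of `S ⊗ B` with respect to the law -/
noncomputable def chiS (G : B →ₚₗ[A] A) (x : S ⊗[A] B) : S[X] :=
  ev G S[X] (up x - (X : S[X]) ⊗ₜ[A] (1 : B))

theorem chiS_map (G : B →ₚₗ[A] A) {S' : Type u} [CommRing S'] [Algebra A S'] (ψ : S →ₐ[A] S')
    (x : S ⊗[A] B) :
    chiS G (Algebra.TensorProduct.map ψ (AlgHom.id A B) x) = (chiS G x).map (ψ : S →+* S') := by
  unfold chiS
  have h := ev_map G (Polynomial.mapAlgHom ψ) (up x - (X : S[X]) ⊗ₜ[A] (1 : B))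
  rw [map_sub, map_map_up, Algebra.TensorProduct.map_tmul] at h
  have hX : (Polynomial.mapAlgHom ψ) (X : S[X]) = X := by simp
  rw [hX, map_one] at h
  rw [h]
  rfl

theorem chiS_rho (q : MvPolynomial B S) :
    chiS F.law (rho B S q) = chiC (phiF F) (algebraMap A S) q := by
  unfold chiS chiC
  have h1 : ((Polynomial.C : S →+* S[X]).comp (algebraMap A S)) = algebraMap A S[X] := rfl
  rw [h1, ← ev_rho, map_sub]
  congr 2
  · have := rho_map (B := B) (iotaC (A := A) (S₀ := S)) q
    unfold up
    rw [← this]
    rfl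
  · rw [← MvPolynomial.algebraMap_eq, AlgHom.commutes]
    rfl

/-- Cayley–Hamilton for multiplicative laws, in point form. -/
theorem CH_point (x z w : S ⊗[A] B) :
    F.law.toFun' S (z + w * Polynomial.aeval x (chiS F.law x)) = F.law.toFun' S z := by
  obtain ⟨qx, rfl⟩ := rho_surjective x
  obtain ⟨qz, rfl⟩ := rho_surjective z
  obtain ⟨qw, rfl⟩ := rho_surjective w
  apply ridA_injective S
  show ev F.law S _ = ev F.law S _
  rw [chiS_rho, Polynomial.aeval_algHom_apply, ← map_mul, ← map_add, ev_rho, ev_rho,
    CH_conc' _ (isMultC_phiF F)]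

theorem chiS_eq (x : S ⊗[A] B) : ∃ ε : Fin d → S,
    chiS F.law x = (-1) ^ d * (X ^ d + ∑ k : Fin d, C (ε k) * X ^ (k : ℕ)) := by
  obtain ⟨qx, rfl⟩ := rho_surjective x
  exact ⟨_, by rw [chiS_rho]; exact chiC_eq _ (isMultC_phiF F) qx⟩

end key

end Groth.Agent.Helper20.PLKer
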