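import Mathlib
import Groth.Agent.Lib.Helper20.CHMain

set_option autoImplicit false
universe u
open scoped TensorProduct

namespace Groth.Agent.Helper20.PLKer
open Polynomial

variable {A : Type u} [CommRing A] {B : Type u} [CommRing B] [Algebra A B] {d : ℕ}

theorem rid_eq_ridA (S : Type u) [CommSemiring S] [Algebra A S] (z : S ⊗[A] A) :
    TensorProduct.rid A S z = ridA S z := by
  induction z using TensorProduct.induction_on with
  | zero => simp
  | tmul s a => rw [TensorProduct.rid_tmul, ridA_tmul, Algebra.smul_def, mul_comm]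
  | add x y hx hy => rw [map_add, map_add, hx, hy]

/-- the characteristic polynomial of an element of `B` -/
noncomputable def chiB (G : B →ₚₗ[A] A) (b : B) : A[X] :=
  TensorProduct.rid A A[X] (G.toFun' A[X] ((1 : A[X]) ⊗ₜ[A] b - X ⊗ₜ[A] (1 : B)))

theorem chiB_eq_chiS (G : B →ₚₗ[A] A) (b : B) : chiB G b = chiS G ((1 : A) ⊗ₜ[A] b) := by
  unfold chiB chiS ev
  rw [rid_eq_ridA, up_tmul, map_one]

theorem chiS_one_tmul (G : B →ₚₗ[A] A) {S : Type u} [CommRing S] [Algebra A S] (b : B) :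
    chiS G ((1 : S) ⊗ₜ[A] b) = (chiB G b).map (algebraMap A S) := by
  rw [chiB_eq_chiS]
  have := chiS_map G (Algebra.ofId A S) ((1 : A) ⊗ₜ[A] b)
  rw [Algebra.TensorProduct.map_tmul, map_one] at this
  exact this

theorem aeval_one_tmul {S : Type u} [CommRing S] [Algebra A S] (b : B) (p : A[X]) :
    Polynomial.aeval ((1 : S) ⊗ₜ[A] b) (p.map (algebraMap A S)) =
      (1 : S) ⊗ₜ[A] (Polynomial.aeval b p) := by
  rw [Polynomial.aeval_map_algebraMap]
  exact Polynomial.aeval_algHom_apply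
    (Algebra.TensorProduct.includeRight : B →ₐ[A] S ⊗[A] B) b p

variable (F : PolLaw.MulLaw A B A d)

/-- Cayley–Hamilton: `χ_b(b)` lies in the kernel of the law -/
theorem aeval_chiB_mem_ker (b : B) : Polynomial.aeval b (chiB F.law b) ∈ PolLaw.ker F.law := by
  apply mem_ker_of_mvPolynomial
  intro σ x w
  have h := CH_point F ((1 : MvPolynomial σ A) ⊗ₜ[A] b) x w
  rw [chiS_one_tmul, aeval_one_tmul] at h
  exact h

theorem chiB_of_mem_ker {b : B} (hb : b ∈ PolLaw.ker F.law) : chiB F.law b = (-X) ^ d := by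
  unfold chiB
  rw [rid_eq_ridA]
  have h1 : ((1 : A[X]) ⊗ₜ[A] b - X ⊗ₜ[A] (1 : B) : A[X] ⊗[A] B) =
      (-X : A[X]) • (1 : A[X] ⊗[A] B) + 1 * ((1 : A[X]) ⊗ₜ[A] b) := by
    rw [one_mul, Algebra.TensorProduct.one_def, TensorProduct.smul_tmul', smul_eq_mul, mul_one,
      TensorProduct.neg_tmul]
    abel
  rw [h1, (mem_ker_iff F.law b).1 hb A[X], F.homog A[X], (F.mult A[X]).1,
    Algebra.TensorProduct.one_def, TensorProduct.smul_tmul', ridA_tmul, smul_eq_mul, mul_one,
    map_one, mul_one]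

theorem exists_monic_chiB (b : B) : ∃ p : A[X], p.Monic ∧
    Polynomial.aeval b p ∈ PolLaw.ker F.law := by
  obtain ⟨ε, hε⟩ := chiS_eq F ((1 : A) ⊗ₜ[A] b)
  rw [← chiB_eq_chiS] at hε
  refine ⟨X ^ d + ∑ k : Fin d, C (ε k) * X ^ (k : ℕ), ?_, ?_⟩
  · apply Polynomial.monic_X_pow_add
    exact Polynomial.degree_sum_fin_lt ε
  · have h1 : (X ^ d + ∑ k : Fin d, C (ε k) * X ^ (k : ℕ) : A[X]) =
        (-1) ^ d * chiB F.law b := by
      rw [hε, ← mul_assoc, ← mul_pow]
      norm_num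
    rw [h1, map_mul]
    exact Ideal.mul_mem_left _ _ (aeval_chiB_mem_ker F b)

end Groth.Agent.Helper20.PLKer
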