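import Mathlib

set_option autoImplicit false
universe u

namespace Groth.Agent.Helper20.SplitAlg

open Polynomial

/-- Splitting algebra of a monic polynomial over a commutative ring: an `A`-algebra with an
`A`-linear retraction onto `A` in which `g` is a product of linear factors. -/
theorem exists_splitting (m : ℕ) : ∀ (A : Type u) [CommRing A] (g : A[X]), g.Monic →
    g.natDegree = m →
    ∃ (A'' : Type u) (_ : CommRing A'') (_ : Algebra A A'') (ρ : A'' →ₗ[A] A) (x : Fin m → A''),
      ρ 1 = 1 ∧ g.map (algebraMap A A'') = ∏ i, (X - C (x i)) := by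
  induction m with
  | zero =>
    intro A _ g hg hdeg
    refine ⟨A, inferInstance, inferInstance, LinearMap.id, Fin.elim0, rfl, ?_⟩
    rw [hg.natDegree_eq_zero.mp hdeg]
    simp
  | succ m ih =>
    intro A _ g hg hdeg
    haveI : Nontrivial A := by
      by_contra hA
      rw [not_nontrivial_iff_subsingleton] at hA
      have : g = 0 := Subsingleton.elim _ _
      rw [this, Polynomial.natDegree_zero] at hdeg
      omega
    let A₁ := AdjoinRoot g
    have hpos : 0 < g.natDegree := by omega
    let ρ₁ : A₁ →ₗ[A] A := (AdjoinRoot.powerBasis' hg).basis.coord ⟨0, hpos⟩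
    have hρ₁ : ρ₁ 1 = 1 := by
      have h1 : (AdjoinRoot.powerBasis' hg).basis ⟨0, hpos⟩ = 1 := by
        rw [PowerBasis.coe_basis]
        simp
      show (AdjoinRoot.powerBasis' hg).basis.coord ⟨0, hpos⟩ 1 = 1
      conv_lhs => rw [← h1]
      rw [Module.Basis.coord_apply, Module.Basis.repr_self, Finsupp.single_eq_same]
    haveI : Nontrivial A₁ := by
      by_contra hA
      rw [not_nontrivial_iff_subsingleton] at hA
      have : (1 : A₁) = 0 := Subsingleton.elim _ _
      rw [this, map_zero] at hρ₁
      exact zero_ne_one hρ₁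
    let r : A₁ := AdjoinRoot.root g
    have hroot : (g.map (AdjoinRoot.of g)).IsRoot r := by
      rw [Polynomial.IsRoot.def, Polynomial.eval_map]
      exact AdjoinRoot.eval₂_root g
    let g₁ : A₁[X] := (g.map (AdjoinRoot.of g)) /ₘ (X - C r)
    have hfac : (X - C r) * g₁ = g.map (AdjoinRoot.of g) :=
      Polynomial.mul_divByMonic_eq_iff_isRoot.2 hroot
    have hgm : (g.map (AdjoinRoot.of g)).Monic := hg.map _
    have hg₁ : g₁.Monic := by
      have h1 : ((X - C r) * g₁).Monic := by rw [hfac]; exact hgm
      exact (Polynomial.monic_X_sub_C r).of_mul_monic_left h1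
    have hdeg₁ : g₁.natDegree = m := by
      have h1 := congrArg Polynomial.natDegree hfac
      rw [(Polynomial.monic_X_sub_C r).natDegree_mul hg₁, Polynomial.natDegree_X_sub_C,
        hg.natDegree_map, hdeg] at h1
      omega
    obtain ⟨A'', _, _, ρ'', x', hρ'', hx'⟩ := ih A₁ g₁ hg₁ hdeg₁
    letI : Algebra A A'' := ((algebraMap A₁ A'').comp (algebraMap A A₁)).toAlgebra
    haveI : IsScalarTower A A₁ A'' := IsScalarTower.of_algebraMap_eq (fun _ => rfl)
    refine ⟨A'', inferInstance, inferInstance, ρ₁.comp (ρ''.restrictScalars A),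
      Fin.cons (algebraMap A₁ A'' r) x', ?_, ?_⟩
    · show ρ₁ (ρ'' 1) = 1
      rw [hρ'', hρ₁]
    · have h1 : g.map (algebraMap A A'') = (g.map (AdjoinRoot.of g)).map (algebraMap A₁ A'') := by
        rw [Polynomial.map_map]
        rfl
      rw [h1, ← hfac, Polynomial.map_mul, hx', Fin.prod_univ_succ]
      simp

end Groth.Agent.Helper20.SplitAlg
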