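import Mathlib
import Groth.Agent.Lib.Helper20.PLLoc
import Groth.Agent.Lib.Helper20.SplitAlg

set_option autoImplicit false
universe u
open scoped TensorProduct

namespace Groth.Agent.Helper20.PLKer

open Polynomial

variable {A : Type u} [CommRing A] {B : Type u} [CommRing B] [Algebra A B]
  {E : Type u} [CommRing E] [Algebra A E]

/-- descent of kernel membership along an algebra with a linear retraction -/
theorem mem_ker_of_mem_kerBC_retract (F : B →ₚₗ[A] E) (A'' : Type u) [CommRing A'']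
    [Algebra A A''] (ρ : A'' →ₗ[A] A) (hρ : ρ 1 = 1) (b : B)
    (hb : ((1 : A'') ⊗ₜ[A] b) ∈ PolLaw.kerBC F A'') : b ∈ PolLaw.ker F := by
  rw [mem_ker_iff]
  intro S _ _ x w
  let j : S →ₐ[A] A'' ⊗[A] S := Algebra.TensorProduct.includeRight
  have h1 := (mem_kerBC_iff F A'' _).1 hb (A'' ⊗[A] S)
    (Algebra.TensorProduct.map j (AlgHom.id A B) x) (Algebra.TensorProduct.map j (AlgHom.id A B) w)
  have h2 : Algebra.TensorProduct.map (IsScalarTower.toAlgHom A A'' (A'' ⊗[A] S)) (AlgHom.id A B)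
      ((1 : A'') ⊗ₜ[A] b) = Algebra.TensorProduct.map j (AlgHom.id A B) ((1 : S) ⊗ₜ[A] b) := by
    rw [Algebra.TensorProduct.map_tmul, Algebra.TensorProduct.map_tmul, map_one, map_one]
  rw [h2, ← map_mul, ← map_add, compat, compat] at h1
  -- injectivity of `j ⊗ id`
  let ρS : A'' ⊗[A] S →ₗ[A] S := (TensorProduct.lid A S).toLinearMap.comp (ρ.rTensor S)
  have hρS : ρS.comp j.toLinearMap = LinearMap.id := by
    ext s
    show TensorProduct.lid A S ((ρ.rTensor S) ((1 : A'') ⊗ₜ[A] s)) = s
    rw [LinearMap.rTensor_tmul, hρ, TensorProduct.lid_tmul, one_smul]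
  have hinj : Function.Injective (Algebra.TensorProduct.map j (AlgHom.id A E)) := by
    intro z z' hz
    rw [← rTensor_eq_map, ← rTensor_eq_map] at hz
    have := congrArg (ρS.rTensor E) hz
    rw [← LinearMap.comp_apply, ← LinearMap.comp_apply, ← LinearMap.rTensor_comp, hρS,
      LinearMap.rTensor_id] at this
    exact this
  exact hinj h1

/-- functoriality of `kerBC` in the base algebra -/
theorem map_mem_kerBC (F : B →ₚₗ[A] E) {A' A'' : Type u} [CommRing A'] [Algebra A A']
    [CommRing A''] [Algebra A A''] (σ : A' →ₐ[A] A'') (b' : A' ⊗[A] B)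
    (hb' : b' ∈ PolLaw.kerBC F A') :
    Algebra.TensorProduct.map σ (AlgHom.id A B) b' ∈ PolLaw.kerBC F A'' := by
  rw [mem_kerBC_iff]
  intro R _ _ _ _ x w
  letI : Algebra A' R := ((algebraMap A'' R).comp σ.toRingHom).toAlgebra
  haveI : IsScalarTower A A' R := IsScalarTower.of_algebraMap_eq (fun a => by
    show algebraMap A R a = algebraMap A'' R (σ (algebraMap A A' a))
    rw [σ.commutes, ← IsScalarTower.algebraMap_apply])
  have h1 := (mem_kerBC_iff F A' b').1 hb' R x w
  have h2 : Algebra.TensorProduct.map (IsScalarTower.toAlgHom A A'' R) (AlgHom.id A B)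
      (Algebra.TensorProduct.map σ (AlgHom.id A B) b') =
      Algebra.TensorProduct.map (IsScalarTower.toAlgHom A A' R) (AlgHom.id A B) b' := by
    rw [← AlgHom.comp_apply, ← Algebra.TensorProduct.map_comp]
    congr 2
  rw [h2]
  exact h1

theorem isUnit_sub_of_separable {A'' : Type u} [CommRing A''] [Algebra A A''] {m : ℕ} (g : A[X])
    (hsep : g.Separable) (x : Fin m → A'')
    (hx : g.map (algebraMap A A'') = ∏ i, (X - C (x i))) (i k : Fin m) (hik : i ≠ k) :
    IsUnit (x i - x k) := by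
  obtain ⟨a, b, hab⟩ := hsep
  have h1 : a.map (algebraMap A A'') * g.map (algebraMap A A'') +
      b.map (algebraMap A A'') * derivative (g.map (algebraMap A A'')) = 1 := by
    rw [Polynomial.derivative_map]
    have := congrArg (Polynomial.map (algebraMap A A'')) hab
    simpa using this
  have hQ : g.map (algebraMap A A'') =
      (X - C (x i)) * ∏ j ∈ Finset.univ.erase i, (X - C (x j)) := by
    rw [hx, Finset.mul_prod_erase Finset.univ (fun j => X - C (x j)) (Finset.mem_univ i)]
  have h2 := congrArg (Polynomial.eval (x i)) h1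
  rw [hQ] at h2
  simp only [Polynomial.derivative_mul, Polynomial.eval_add, Polynomial.eval_mul,
    Polynomial.eval_sub, Polynomial.eval_X, Polynomial.eval_C, sub_self, zero_mul, mul_zero,
    zero_add, add_zero, Polynomial.derivative_sub, Polynomial.derivative_X,
    Polynomial.derivative_C, sub_zero, Polynomial.eval_one, one_mul] at h2
  have hunit : IsUnit (Polynomial.eval (x i) (∏ j ∈ Finset.univ.erase i, (X - C (x j)))) :=
    IsUnit.of_mul_eq_one_right _ h2
  rw [Polynomial.eval_prod] at hunit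
  refine isUnit_of_dvd_unit ?_ hunit
  have hk : k ∈ Finset.univ.erase i := Finset.mem_erase.2 ⟨hik.symm, Finset.mem_univ k⟩
  have := Finset.dvd_prod_of_mem (fun j => Polynomial.eval (x i) (X - C (x j))) hk
  simpa using this

theorem exists_repr_adjoinRoot (g : A[X]) (hg : g.Monic) (b' : AdjoinRoot g ⊗[A] B) :
    ∃ c : Fin g.natDegree → B,
      b' = ∑ j : Fin g.natDegree, (AdjoinRoot.root g ^ (j : ℕ)) ⊗ₜ[A] c j := by
  induction b' using TensorProduct.induction_on with
  | zero => exact ⟨0, by simp⟩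
  | tmul a' b =>
    refine ⟨fun j => ((AdjoinRoot.powerBasis' hg).basis.repr a' j) • b, ?_⟩
    conv_lhs => rw [← (AdjoinRoot.powerBasis' hg).basis.sum_repr a']
    rw [TensorProduct.sum_tmul]
    refine Finset.sum_congr rfl (fun j _ => ?_)
    rw [PowerBasis.coe_basis, TensorProduct.smul_tmul]
    rfl
  | add u v hu hv =>
    obtain ⟨c, rfl⟩ := hu
    obtain ⟨c', rfl⟩ := hv
    refine ⟨c + c', ?_⟩
    rw [← Finset.sum_add_distrib]
    refine Finset.sum_congr rfl (fun j _ => ?_)
    rw [Pi.add_apply, TensorProduct.tmul_add]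

/-- the kernel of a law commutes with base change to `A[X]/(g)`, `g` monic separable -/
theorem map_ker_eq_kerBC_adjoinRoot (F : B →ₚₗ[A] E) (g : A[X]) (hg : g.Monic)
    (hsep : g.Separable) :
    (PolLaw.ker F).map (Algebra.TensorProduct.includeRight : B →ₐ[A] AdjoinRoot g ⊗[A] B) =
      PolLaw.kerBC F (AdjoinRoot g) := by
  apply le_antisymm (map_ker_le_kerBC F _)
  intro b' hb'
  obtain ⟨A'', _, _, ρ, x, hρ, hx⟩ :=
    Groth.Agent.Helper20.SplitAlg.exists_splitting g.natDegree A g hg rfl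
  obtain ⟨c, rfl⟩ := exists_repr_adjoinRoot g hg b'
  have hroot : ∀ i, g.eval₂ (Algebra.ofId A A'') (x i) = 0 := by
    intro i
    have h1 : g.eval₂ (Algebra.ofId A A'') (x i) = (g.map (algebraMap A A'')).eval (x i) := by
      rw [Polynomial.eval_map]
      rfl
    rw [h1, hx, Polynomial.eval_prod]
    exact Finset.prod_eq_zero (Finset.mem_univ i) (by simp)
  have hc : ∀ i, ∑ j : Fin g.natDegree, (x i ^ (j : ℕ)) ⊗ₜ[A] c j ∈ PolLaw.kerBC F A'' := by
    intro i
    have := map_mem_kerBC F (AdjoinRoot.liftAlgHom g (Algebra.ofId A A'') (x i) (hroot i)) _ hb'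
    rw [map_sum] at this
    simpa [Algebra.TensorProduct.map_tmul] using this
  have hdet : IsUnit (Matrix.vandermonde x).det := by
    rw [Matrix.det_vandermonde]
    refine (Finset.univ : Finset (Fin g.natDegree)).prod_induction _ IsUnit
      (fun _ _ h1 h2 => h1.mul h2) isUnit_one (fun i _ => ?_)
    refine (Finset.Ioi i).prod_induction _ IsUnit (fun _ _ h1 h2 => h1.mul h2) isUnit_one
      (fun k hk => ?_)
    exact isUnit_sub_of_separable g hsep x hx k i (ne_of_gt (Finset.mem_Ioi.1 hk))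
  have hWV : (Matrix.vandermonde x)⁻¹ * Matrix.vandermonde x = 1 :=
    Matrix.nonsing_inv_mul _ hdet
  have hcj : ∀ j₀, ((1 : A'') ⊗ₜ[A] c j₀) ∈ PolLaw.kerBC F A'' := by
    intro j₀
    have h1 : ((1 : A'') ⊗ₜ[A] c j₀) = ∑ i, (((Matrix.vandermonde x)⁻¹ j₀ i) ⊗ₜ[A] (1 : B)) *
        ∑ j : Fin g.natDegree, (x i ^ (j : ℕ)) ⊗ₜ[A] c j := by
      simp_rw [Finset.mul_sum, Algebra.TensorProduct.tmul_mul_tmul, one_mul]
      rw [Finset.sum_comm]
      simp_rw [← TensorProduct.sum_tmul]
      have h2 : ∀ j : Fin g.natDegree,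
          ∑ i, (Matrix.vandermonde x)⁻¹ j₀ i * x i ^ (j : ℕ) = (1 : Matrix _ _ A'') j₀ j := by
        intro j
        rw [← hWV, Matrix.mul_apply]
        rfl
      simp_rw [h2, Matrix.one_apply]
      rw [Finset.sum_eq_single j₀]
      · rw [if_pos rfl]
      · intro j _ hj
        rw [if_neg (Ne.symm hj), TensorProduct.zero_tmul]
      · intro h
        exact absurd (Finset.mem_univ _) h
    rw [h1]
    exact Ideal.sum_mem _ (fun i _ => Ideal.mul_mem_left _ _ (hc i))
  have hker : ∀ j, c j ∈ PolLaw.ker F :=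
    fun j => mem_ker_of_mem_kerBC_retract F A'' ρ hρ (c j) (hcj j)
  refine Ideal.sum_mem _ (fun j _ => ?_)
  have h1 : (AdjoinRoot.root g ^ (j : ℕ)) ⊗ₜ[A] c j =
      ((AdjoinRoot.root g ^ (j : ℕ)) ⊗ₜ[A] (1 : B)) *
        (Algebra.TensorProduct.includeRight : B →ₐ[A] AdjoinRoot g ⊗[A] B) (c j) := by
    rw [Algebra.TensorProduct.includeRight_apply, Algebra.TensorProduct.tmul_mul_tmul, mul_one,
      one_mul]
  rw [h1]
  exact Ideal.mul_mem_left _ _ (Ideal.mem_map_of_mem _ (hker j))

end Groth.Agent.Helper20.PLKer
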