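import Mathlib
import Groth.Agent.Lib.Helper20.PLEtale

set_option autoImplicit false
universe u
open scoped TensorProduct

namespace Groth.Agent.Helper20.PLKer

section digits

theorem digits_inj (D : ℕ) : ∀ (n : ℕ) (a b : Fin n → ℕ), (∀ i, a i < D) → (∀ i, b i < D) →
    ∑ i, a i * D ^ (i : ℕ) = ∑ i, b i * D ^ (i : ℕ) → a = b := by
  intro n
  induction n with
  | zero => intro a b _ _ _; funext i; exact i.elim0
  | succ n ih =>
    intro a b ha hb h
    rw [Fin.sum_univ_succ, Fin.sum_univ_succ] at h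
    simp only [Fin.val_zero, pow_zero, mul_one, Fin.val_succ, pow_succ] at h
    have e : ∀ c : Fin (n + 1) → ℕ, ∑ i : Fin n, c i.succ * (D ^ (i : ℕ) * D) =
        D * ∑ i : Fin n, c i.succ * D ^ (i : ℕ) := by
      intro c
      rw [Finset.mul_sum]
      exact Finset.sum_congr rfl (fun i _ => by ring)
    rw [e a, e b] at h
    have h0 : a 0 = b 0 := by
      have := congrArg (· % D) h
      simp only [Nat.add_mul_mod_self_left] at this
      rwa [Nat.mod_eq_of_lt (ha 0), Nat.mod_eq_of_lt (hb 0)] at this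
    have hD : 0 < D := lt_of_le_of_lt (Nat.zero_le _) (ha 0)
    have h1 : ∑ i : Fin n, a i.succ * D ^ (i : ℕ) = ∑ i : Fin n, b i.succ * D ^ (i : ℕ) := by
      rw [h0] at h
      exact Nat.eq_of_mul_eq_mul_left hD (Nat.add_left_cancel h)
    have h2 := ih (fun i => a i.succ) (fun i => b i.succ) (fun i => ha _) (fun i => hb _) h1
    funext i
    exact Fin.cases h0 (fun j => congrFun h2 j) i

theorem exists_weights {n : ℕ} (s : Finset (Fin n →₀ ℕ)) :
    ∃ N : Fin n → ℕ, Set.InjOn (fun α : Fin n →₀ ℕ => ∑ i, α i * N i) (s : Set (Fin n →₀ ℕ)) := by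
  let D : ℕ := (s.sup (fun α => Finset.univ.sup (fun i => α i))) + 1
  have hD : ∀ α ∈ s, ∀ i, α i < D := by
    intro α hα i
    have h1 : α i ≤ Finset.univ.sup (fun i => α i) :=
      Finset.le_sup (f := fun i => α i) (Finset.mem_univ i)
    have h2 : Finset.univ.sup (fun i => α i) ≤ s.sup (fun α => Finset.univ.sup (fun i => α i)) :=
      Finset.le_sup (f := fun α : Fin n →₀ ℕ => Finset.univ.sup (fun i => α i)) hα
    exact Nat.lt_succ_of_le (h1.trans h2)
  refine ⟨fun i => D ^ (i : ℕ), ?_⟩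
  intro α hα β hβ h
  have := digits_inj D n (fun i => α i) (fun i => β i) (hD α hα) (hD β hβ) h
  ext i
  exact congrFun this i

end digits

open Polynomial

variable {A : Type u} [CommRing A] {B : Type u} [CommRing B] [Algebra A B]
  {E : Type u} [CommRing E] [Algebra A E]

section maps
variable (A B) (n : ℕ)

/-- `A[T₁..Tₙ] ⊗ B ≃ B[T₁..Tₙ]` -/
noncomputable def eMv : MvPolynomial (Fin n) A ⊗[A] B ≃ₐ[A] MvPolynomial (Fin n) B :=
  (Algebra.TensorProduct.comm A (MvPolynomial (Fin n) A) B).trans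
    ((MvPolynomial.algebraTensorAlgEquiv A B).restrictScalars A)

/-- `A[Y] ⊗ B → B[Y]` -/
noncomputable def eOne : A[X] ⊗[A] B →ₐ[A] B[X] :=
  Algebra.TensorProduct.productMap (Polynomial.mapAlgHom (Algebra.ofId A B))
    ((Polynomial.CAlgHom : B →ₐ[B] B[X]).restrictScalars A)

/-- the Kronecker substitution on `A[T]` -/
noncomputable def psiN (N : Fin n → ℕ) : MvPolynomial (Fin n) A →ₐ[A] A[X] :=
  MvPolynomial.aeval (fun i => (X : A[X]) ^ N i)

/-- the Kronecker substitution on `B[T]` -/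
noncomputable def thetaN (N : Fin n → ℕ) : MvPolynomial (Fin n) B →ₐ[B] B[X] :=
  MvPolynomial.aeval (fun i => (X : B[X]) ^ N i)

variable {A B n}

theorem eMv_symm_monomial (α : Fin n →₀ ℕ) (b : B) :
    (eMv A B n).symm (MvPolynomial.monomial α b) = (MvPolynomial.monomial α (1 : A)) ⊗ₜ[A] b := by
  unfold eMv
  rw [AlgEquiv.symm_trans_apply]
  show (Algebra.TensorProduct.comm A (MvPolynomial (Fin n) A) B).symm
    ((MvPolynomial.algebraTensorAlgEquiv A B).symm (MvPolynomial.monomial α b)) = _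
  rw [MvPolynomial.algebraTensorAlgEquiv_symm_monomial]
  rfl

theorem eOne_thetaN (N : Fin n → ℕ) (z : MvPolynomial (Fin n) A ⊗[A] B) :
    eOne A B (Algebra.TensorProduct.map (psiN A n N) (AlgHom.id A B) z) =
      thetaN B n N (eMv A B n z) := by
  have : (eOne A B).comp (Algebra.TensorProduct.map (psiN A n N) (AlgHom.id A B)) =
      ((thetaN B n N).restrictScalars A).comp (eMv A B n).toAlgHom := by
    apply Algebra.TensorProduct.ext
    · apply MvPolynomial.algHom_ext
      intro i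
      simp [eOne, psiN, thetaN, eMv]
    · refine AlgHom.ext (fun b => ?_)
      simp [eOne, psiN, thetaN, eMv, Polynomial.smul_eq_C_mul]
  exact DFunLike.congr_fun this z

theorem thetaN_monomial (N : Fin n → ℕ) (α : Fin n →₀ ℕ) (b : B) :
    thetaN B n N (MvPolynomial.monomial α b) = Polynomial.monomial (∑ i, α i * N i) b := by
  unfold thetaN
  rw [MvPolynomial.aeval_monomial, Finsupp.prod_fintype _ _ (fun i => by simp)]
  simp only [← pow_mul]
  rw [Finset.prod_pow_eq_pow_sum, ← Polynomial.C_mul_X_pow_eq_monomial]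
  congr 2
  exact Finset.sum_congr rfl (fun i _ => mul_comm _ _)

theorem coeff_thetaN (N : Fin n → ℕ) (q : MvPolynomial (Fin n) B)
    (hN : Set.InjOn (fun α : Fin n →₀ ℕ => ∑ i, α i * N i) (q.support : Set (Fin n →₀ ℕ)))
    (α₀ : Fin n →₀ ℕ) (hα₀ : α₀ ∈ q.support) :
    (thetaN B n N q).coeff (∑ i, α₀ i * N i) = MvPolynomial.coeff α₀ q := by
  classical
  conv_lhs => rw [q.as_sum]
  rw [map_sum, Polynomial.finsetSum_coeff]
  simp_rw [thetaN_monomial, Polynomial.coeff_monomial]
  rw [Finset.sum_eq_single α₀]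
  · rw [if_pos rfl]
  · intro β hβ hne
    rw [if_neg]
    intro h
    exact hne (hN hβ hα₀ h)
  · intro h
    exact absurd hα₀ h

end maps

theorem mem_map_of_coeff_mem (I : Ideal B) (n : ℕ) (z : MvPolynomial (Fin n) A ⊗[A] B)
    (h : ∀ α ∈ (eMv A B n z).support, MvPolynomial.coeff α (eMv A B n z) ∈ I) :
    z ∈ I.map (Algebra.TensorProduct.includeRight :
      B →ₐ[A] MvPolynomial (Fin n) A ⊗[A] B) := by
  have h1 : z = (eMv A B n).symm (eMv A B n z) := ((eMv A B n).symm_apply_apply z).symm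
  rw [h1]
  conv => rw [(eMv A B n z).as_sum]
  rw [map_sum]
  refine Ideal.sum_mem _ (fun α hα => ?_)
  rw [eMv_symm_monomial]
  have h2 : (MvPolynomial.monomial α (1 : A)) ⊗ₜ[A] MvPolynomial.coeff α (eMv A B n z) =
      ((MvPolynomial.monomial α (1 : A)) ⊗ₜ[A] (1 : B)) *
        (Algebra.TensorProduct.includeRight : B →ₐ[A] MvPolynomial (Fin n) A ⊗[A] B)
          (MvPolynomial.coeff α (eMv A B n z)) := by
    rw [Algebra.TensorProduct.includeRight_apply, Algebra.TensorProduct.tmul_mul_tmul, mul_one,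
      one_mul]
  rw [h2]
  exact Ideal.mul_mem_left _ _ (Ideal.mem_map_of_mem _ (h α hα))

theorem coeff_eOne_mem (I : Ideal B) (z : A[X] ⊗[A] B)
    (hz : z ∈ I.map (Algebra.TensorProduct.includeRight : B →ₐ[A] A[X] ⊗[A] B)) (k : ℕ) :
    (eOne A B z).coeff k ∈ I := by
  have h0 : I.map (Algebra.TensorProduct.includeRight : B →ₐ[A] A[X] ⊗[A] B) ≤
      (I.map (Polynomial.C : B →+* B[X])).comap (eOne A B) := by
    rw [Ideal.map_le_iff_le_comap]
    intro b hb
    rw [Ideal.mem_comap, Ideal.mem_comap]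
    have : eOne A B ((Algebra.TensorProduct.includeRight : B →ₐ[A] A[X] ⊗[A] B) b) =
        Polynomial.C b := by
      simp [eOne]
    rw [this]
    exact Ideal.mem_map_of_mem _ hb
  have h3 : eOne A B z ∈ I.map (Polynomial.C : B →+* B[X]) := h0 hz
  exact Ideal.mem_map_C_iff.1 h3 k

/-- for a homogeneous law, the kernel commutes with base change to a polynomial ring in
finitely many variables -/
theorem map_ker_eq_kerBC_mv {d : ℕ} (F : B →ₚₗ[A] E) (hF : PolLaw.IsHomog F d) (n : ℕ) :
    (PolLaw.ker F).map (Algebra.TensorProduct.includeRight :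
      B →ₐ[A] MvPolynomial (Fin n) A ⊗[A] B) = PolLaw.kerBC F (MvPolynomial (Fin n) A) := by
  apply le_antisymm (map_ker_le_kerBC F _)
  intro z hz
  obtain ⟨N, hN⟩ := exists_weights (eMv A B n z).support
  have h1 := map_mem_kerBC F (psiN A n N) z hz
  rw [← map_ker_eq_kerBC F hF] at h1
  apply mem_map_of_coeff_mem
  intro α hα
  have h2 := coeff_eOne_mem (PolLaw.ker F) _ h1 (∑ i, α i * N i)
  rw [eOne_thetaN, coeff_thetaN N _ hN α hα] at h2
  exact h2

end Groth.Agent.Helper20.PLKer
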