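import Mathlib
import Groth.Agent.Lib.Helper20.CHUse
import Groth.Agent.Lib.Helper20.PLMv

set_option autoImplicit false
universe u
open scoped TensorProduct

namespace Groth.Agent.Helper20.PLKer
open Polynomial

variable {A : Type u} [CommRing A] {B : Type u} [CommRing B] [Algebra A B] {d : ℕ}

/-- to test membership in the kernel of a base change, polynomial rings over `A'` suffice -/
theorem mem_kerBC_of_mvPolynomial {E : Type u} [CommRing E] [Algebra A E] (F : B →ₚₗ[A] E)
    (A' : Type u) [CommRing A'] [Algebra A A'] (b' : A' ⊗[A] B)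
    (h : ∀ (σ : Type u) (x w : MvPolynomial σ A' ⊗[A] B),
      F.toFun' (MvPolynomial σ A') (x + w * Algebra.TensorProduct.map
        (IsScalarTower.toAlgHom A A' (MvPolynomial σ A')) (AlgHom.id A B) b') =
        F.toFun' (MvPolynomial σ A') x) :
    b' ∈ PolLaw.kerBC F A' := by
  rw [mem_kerBC_iff]
  intro R _ _ _ _ x w
  let π' : MvPolynomial R A' →ₐ[A'] R := MvPolynomial.aeval id
  let π : MvPolynomial R A' →ₐ[A] R := π'.restrictScalars A
  have hπ : Function.Surjective π := fun s => ⟨MvPolynomial.X s, by simp [π, π']⟩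
  have hsurj : Function.Surjective (Algebra.TensorProduct.map π (AlgHom.id A B)) := by
    intro v
    obtain ⟨v', hv'⟩ := LinearMap.rTensor_surjective B (g := π.toLinearMap) hπ v
    exact ⟨v', by rw [← rTensor_eq_map]; exact hv'⟩
  obtain ⟨x', rfl⟩ := hsurj x
  obtain ⟨w', rfl⟩ := hsurj w
  have h1 := h R x' w'
  have h2 := congrArg (Algebra.TensorProduct.map π (AlgHom.id A E)) h1
  rw [← compat, ← compat, map_add, map_mul] at h2
  have h3 : Algebra.TensorProduct.map π (AlgHom.id A B) (Algebra.TensorProduct.map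
      (IsScalarTower.toAlgHom A A' (MvPolynomial R A')) (AlgHom.id A B) b') =
      Algebra.TensorProduct.map (IsScalarTower.toAlgHom A A' R) (AlgHom.id A B) b' := by
    rw [← AlgHom.comp_apply, ← Algebra.TensorProduct.map_comp]
    congr 2
    refine AlgHom.ext (fun a' => ?_)
    show π' (algebraMap A' (MvPolynomial R A') a') = algebraMap A' R a'
    rw [AlgHom.commutes]
  rw [h3] at h2
  exact h2

section semilinear
variable {S S' : Type u} [CommRing S] [Algebra A S] [CommRing S'] [Algebra A S']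

theorem map_aeval (ψ : S →ₐ[A] S') (x : S ⊗[A] B) (P : S[X]) :
    Algebra.TensorProduct.map ψ (AlgHom.id A B) (Polynomial.aeval x P) =
      Polynomial.aeval (Algebra.TensorProduct.map ψ (AlgHom.id A B) x) (P.map (ψ : S →+* S')) := by
  rw [Polynomial.aeval_def, Polynomial.aeval_def, Polynomial.eval₂_map]
  have h := Polynomial.hom_eval₂ P (algebraMap S (S ⊗[A] B))
    ((Algebra.TensorProduct.map ψ (AlgHom.id A B) : S ⊗[A] B →ₐ[A] S' ⊗[A] B) :
      S ⊗[A] B →+* S' ⊗[A] B) x
  refine h.trans ?_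
  congr 1

theorem map_aeval_chiS (G : B →ₚₗ[A] A) (ψ : S →ₐ[A] S') (x : S ⊗[A] B) :
    Algebra.TensorProduct.map ψ (AlgHom.id A B) (Polynomial.aeval x (chiS G x)) =
      Polynomial.aeval (Algebra.TensorProduct.map ψ (AlgHom.id A B) x)
        (chiS G (Algebra.TensorProduct.map ψ (AlgHom.id A B) x)) := by
  rw [map_aeval, chiS_map]

end semilinear

variable (F : PolLaw.MulLaw A B A d)

theorem aeval_chiS_mem_kerBC {S : Type u} [CommRing S] [Algebra A S] (x : S ⊗[A] B) :
    Polynomial.aeval x (chiS F.law x) ∈ PolLaw.kerBC F.law S := by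
  apply mem_kerBC_of_mvPolynomial
  intro σ z w
  rw [map_aeval_chiS]
  exact CH_point F _ z w

theorem chiS_of_mem_kerBC {S : Type u} [CommRing S] [Algebra A S] {x : S ⊗[A] B}
    (hx : x ∈ PolLaw.kerBC F.law S) : chiS F.law x = (-X) ^ d := by
  unfold chiS ev
  have h1 : (up x - (X : S[X]) ⊗ₜ[A] (1 : B) : S[X] ⊗[A] B) =
      (-X : S[X]) • (1 : S[X] ⊗[A] B) + 1 * up x := by
    rw [one_mul, Algebra.TensorProduct.one_def, TensorProduct.smul_tmul', smul_eq_mul, mul_one,
      TensorProduct.neg_tmul]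
    abel
  have h2 := (mem_kerBC_iff F.law S x).1 hx S[X] ((-X : S[X]) • (1 : S[X] ⊗[A] B)) 1
  rw [h1]
  unfold up iotaC
  rw [h2, F.homog S[X], (F.mult S[X]).1,
    Algebra.TensorProduct.one_def, TensorProduct.smul_tmul', ridA_tmul, smul_eq_mul, mul_one,
    map_one, mul_one]

theorem map_mem_map_includeRight {S S' : Type u} [CommRing S] [Algebra A S] [CommRing S']
    [Algebra A S'] (ψ : S →ₐ[A] S') (I : Ideal B) (z : S ⊗[A] B)
    (hz : z ∈ I.map (Algebra.TensorProduct.includeRight : B →ₐ[A] S ⊗[A] B)) :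
    Algebra.TensorProduct.map ψ (AlgHom.id A B) z ∈
      I.map (Algebra.TensorProduct.includeRight : B →ₐ[A] S' ⊗[A] B) := by
  have h0 : I.map (Algebra.TensorProduct.includeRight : B →ₐ[A] S ⊗[A] B) ≤
      (I.map (Algebra.TensorProduct.includeRight : B →ₐ[A] S' ⊗[A] B)).comap
        (Algebra.TensorProduct.map ψ (AlgHom.id A B)) := by
    rw [Ideal.map_le_iff_le_comap]
    intro b hb
    rw [Ideal.mem_comap, Ideal.mem_comap, Algebra.TensorProduct.includeRight_apply,
      Algebra.TensorProduct.map_tmul, map_one]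
    exact Ideal.mem_map_of_mem _ hb
  exact h0 hz

/-- the `d`-th power of an element of the kernel of a base change lies in the extension of
the kernel -/
theorem pow_mem_map_of_mem_kerBC (A' : Type u) [CommRing A'] [Algebra A A'] {b' : A' ⊗[A] B}
    (hb' : b' ∈ PolLaw.kerBC F.law A') :
    b' ^ d ∈ (PolLaw.ker F.law).map
      (Algebra.TensorProduct.includeRight : B →ₐ[A] A' ⊗[A] B) := by
  obtain ⟨n, ψ, p, hp⟩ := PolynomialLaw.exists_lift (R := A) (M := B) b'
  rw [rTensor_eq_map] at hp
  have h1 := aeval_chiS_mem_kerBC F p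
  rw [← map_ker_eq_kerBC_mv F.law F.homog n] at h1
  have h2 := map_mem_map_includeRight ψ _ _ h1
  rw [map_aeval_chiS, hp, chiS_of_mem_kerBC F hb', map_pow, map_neg, Polynomial.aeval_X] at h2
  have h3 : b' ^ d = (-1) ^ d * (-b') ^ d := by
    rw [← mul_pow]
    norm_num
  rw [h3]
  exact Ideal.mul_mem_left _ _ h2

end Groth.Agent.Helper20.PLKer
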