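import Mathlib
import Groth.Agent.Lib.Helper20.CHBC

set_option autoImplicit false
universe u
open scoped TensorProduct

namespace Groth.Agent.Helper20.PLKer
open Polynomial

variable {A : Type u} [CommRing A] {B : Type u} [CommRing B] [Algebra A B] {d : ℕ}

theorem coeff_eMv_mem (I : Ideal B) (n : ℕ) (z : MvPolynomial (Fin n) A ⊗[A] B)
    (hz : z ∈ I.map (Algebra.TensorProduct.includeRight :
      B →ₐ[A] MvPolynomial (Fin n) A ⊗[A] B)) (α : Fin n →₀ ℕ) :
    MvPolynomial.coeff α (eMv A B n z) ∈ I := by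
  have h0 : I.map (Algebra.TensorProduct.includeRight :
      B →ₐ[A] MvPolynomial (Fin n) A ⊗[A] B) ≤
      (I.map (MvPolynomial.C : B →+* MvPolynomial (Fin n) B)).comap (eMv A B n) := by
    rw [Ideal.map_le_iff_le_comap]
    intro b hb
    rw [Ideal.mem_comap, Ideal.mem_comap]
    have : eMv A B n ((Algebra.TensorProduct.includeRight :
        B →ₐ[A] MvPolynomial (Fin n) A ⊗[A] B) b) = MvPolynomial.C b := by
      simp [eMv, MvPolynomial.smul_eq_C_mul]
    rw [this]
    exact Ideal.mem_map_of_mem _ hb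
  exact MvPolynomial.mem_map_C_iff.1 (h0 hz) α

theorem lid_mem (I : Ideal B) (c : B)
    (h : (1 : A) ⊗ₜ[A] c ∈ I.map (Algebra.TensorProduct.includeRight : B →ₐ[A] A ⊗[A] B)) :
    c ∈ I := by
  have h0 : I.map (Algebra.TensorProduct.includeRight : B →ₐ[A] A ⊗[A] B) ≤
      I.comap (Algebra.TensorProduct.lid A B : A ⊗[A] B →ₐ[A] B) := by
    rw [Ideal.map_le_iff_le_comap]
    intro b hb
    rw [Ideal.mem_comap, Ideal.mem_comap]
    simpa using hb
  have := h0 h
  rw [Ideal.mem_comap] at this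
  simpa using this

variable (F : PolLaw.MulLaw A B A d)

/-- for an algebra of finite type, the kernel of a multiplicative law has the radical of a
finitely generated ideal contained in it -/
theorem exists_fg_radical_eq [Algebra.FiniteType A B] :
    ∃ J : Ideal B, J.FG ∧ J ≤ PolLaw.ker F.law ∧ J.radical = (PolLaw.ker F.law).radical := by
  classical
  obtain ⟨s, hs⟩ := (Algebra.FiniteType.out : (⊤ : Subalgebra A B).FG)
  -- the first ideal
  let J₀ : Ideal B := Ideal.span ((fun b => Polynomial.aeval b (chiB F.law b)) '' (s : Set B))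
  have hJ₀fg : J₀.FG := ⟨s.image (fun b => Polynomial.aeval b (chiB F.law b)), by
    rw [Finset.coe_image]⟩
  have hJ₀le : J₀ ≤ PolLaw.ker F.law := by
    rw [Ideal.span_le]
    rintro _ ⟨b, _, rfl⟩
    exact aeval_chiB_mem_ker F b
  -- the quotient is a finite module
  have hint : ∀ b ∈ s, IsIntegral A (Ideal.Quotient.mk J₀ b) := by
    intro b hb
    obtain ⟨ε, hε⟩ := chiS_eq F ((1 : A) ⊗ₜ[A] b)
    rw [← chiB_eq_chiS] at hε
    refine ⟨X ^ d + ∑ k : Fin d, C (ε k) * X ^ (k : ℕ),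
      Polynomial.monic_X_pow_add (Polynomial.degree_sum_fin_lt ε), ?_⟩
    have h1 : (X ^ d + ∑ k : Fin d, C (ε k) * X ^ (k : ℕ) : A[X]) =
        (-1) ^ d * chiB F.law b := by
      rw [hε, ← mul_assoc, ← mul_pow]
      norm_num
    rw [← Polynomial.aeval_def, h1]
    have h2 : Polynomial.aeval (Ideal.Quotient.mkₐ A J₀ b) ((-1) ^ d * chiB F.law b) =
        Ideal.Quotient.mkₐ A J₀ (Polynomial.aeval b ((-1) ^ d * chiB F.law b)) :=
      Polynomial.aeval_algHom_apply (Ideal.Quotient.mkₐ A J₀) b _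
    refine h2.trans ?_
    rw [map_mul]
    exact Ideal.Quotient.eq_zero_iff_mem.2
      (Ideal.mul_mem_left _ _ (Ideal.subset_span ⟨b, hb, rfl⟩))
  have hfin : Module.Finite A (B ⧸ J₀) := by
    have h1 : Algebra.adjoin A ((Ideal.Quotient.mkₐ A J₀) '' (s : Set B)) = ⊤ := by
      rw [← AlgHom.map_adjoin, hs, Algebra.map_top, AlgHom.range_eq_top]
      exact Ideal.Quotient.mk_surjective
    have h2 : Module.Finite A (Algebra.adjoin A ((Ideal.Quotient.mkₐ A J₀) '' (s : Set B))) :=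
      Algebra.finite_adjoin_of_finite_of_isIntegral (s.finite_toSet.image _) (by
        rintro _ ⟨b, hb, rfl⟩
        exact hint b hb)
    rw [h1] at h2
    exact Module.Finite.equiv (Subalgebra.topEquiv (R := A) (A := B ⧸ J₀)).toLinearEquiv
  -- module generators
  obtain ⟨t, ht⟩ := (Module.finite_def.1 hfin)
  obtain ⟨r, m', hm'⟩ : ∃ (r : ℕ) (m' : Fin r → B ⧸ J₀), Submodule.span A (Set.range m') = ⊤ := by
    refine ⟨t.card, fun i => (t.equivFin.symm i : B ⧸ J₀), ?_⟩
    rw [← ht]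
    congr 1
    ext z
    constructor
    · rintro ⟨i, rfl⟩
      exact (t.equivFin.symm i).2
    · intro hz
      exact ⟨t.equivFin ⟨z, hz⟩, by simp⟩
  have hm : ∀ i, ∃ b : B, Ideal.Quotient.mk J₀ b = m' i := fun i => Ideal.Quotient.mk_surjective _
  choose m hm using hm
  -- every element is a combination of the `m i` modulo `J₀`
  have hrepr : ∀ b : B, ∃ a : Fin r → A, b - ∑ i, a i • m i ∈ J₀ := by
    intro b
    have h1 : Ideal.Quotient.mk J₀ b ∈ Submodule.span A (Set.range m') := by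
      rw [hm']; trivial
    obtain ⟨a, ha⟩ := (Submodule.mem_span_range_iff_exists_fun A).1 h1
    refine ⟨a, ?_⟩
    rw [← Ideal.Quotient.eq_zero_iff_mem, map_sub, map_sum, ← ha, sub_eq_zero]
    refine Finset.sum_congr rfl (fun i _ => ?_)
    rw [← hm i]
    rfl
  -- the generic element
  let S := MvPolynomial (Fin r) A
  let xg : S ⊗[A] B := ∑ i, (MvPolynomial.X i : S) ⊗ₜ[A] m i
  let yg : S ⊗[A] B := Polynomial.aeval xg (chiS F.law xg)
  have hyg : yg ∈ (PolLaw.ker F.law).map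
      (Algebra.TensorProduct.includeRight : B →ₐ[A] S ⊗[A] B) := by
    rw [map_ker_eq_kerBC_mv F.law F.homog r]
    exact aeval_chiS_mem_kerBC F xg
  let q := eMv A B r yg
  let J' : Ideal B := Ideal.span ((fun α => MvPolynomial.coeff α q) '' (q.support : Set _))
  have hJ'fg : J'.FG := ⟨q.support.image (fun α => MvPolynomial.coeff α q), by
    rw [Finset.coe_image]⟩
  have hJ'le : J' ≤ PolLaw.ker F.law := by
    rw [Ideal.span_le]
    rintro _ ⟨α, _, rfl⟩
    exact coeff_eMv_mem _ r yg hyg α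
  have hygJ' : yg ∈ J'.map (Algebra.TensorProduct.includeRight : B →ₐ[A] S ⊗[A] B) := by
    apply mem_map_of_coeff_mem
    intro α hα
    exact Ideal.subset_span ⟨α, hα, rfl⟩
  refine ⟨J₀ ⊔ J', Submodule.FG.sup hJ₀fg hJ'fg, sup_le hJ₀le hJ'le, ?_⟩
  apply le_antisymm (Ideal.radical_mono (sup_le hJ₀le hJ'le))
  rw [Ideal.radical_le_radical_iff]
  intro b hb
  obtain ⟨a, ha⟩ := hrepr b
  set b₀ : B := ∑ i, a i • m i with hb₀
  have hb₀ker : b₀ ∈ PolLaw.ker F.law := by
    have : b₀ = b - (b - b₀) := by ring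
    rw [this]
    exact sub_mem hb (hJ₀le ha)
  -- specialise
  let ψ : S →ₐ[A] A := MvPolynomial.aeval a
  have h1 := map_mem_map_includeRight ψ _ _ hygJ'
  have hx : Algebra.TensorProduct.map ψ (AlgHom.id A B) xg = (1 : A) ⊗ₜ[A] b₀ := by
    simp only [xg, map_sum, Algebra.TensorProduct.map_tmul, AlgHom.id_apply, hb₀,
      TensorProduct.tmul_sum]
    refine Finset.sum_congr rfl (fun i _ => ?_)
    have : ψ (MvPolynomial.X i) = a i := by
      show MvPolynomial.aeval a (MvPolynomial.X i) = a i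
      rw [MvPolynomial.aeval_X]
    rw [this, TensorProduct.tmul_smul, TensorProduct.smul_tmul', smul_eq_mul, mul_one]
  have h2 : Algebra.TensorProduct.map ψ (AlgHom.id A B) yg =
      (1 : A) ⊗ₜ[A] ((-b₀) ^ d) := by
    show Algebra.TensorProduct.map ψ (AlgHom.id A B) (Polynomial.aeval xg (chiS F.law xg)) = _
    rw [map_aeval_chiS, hx, ← chiB_eq_chiS, chiB_of_mem_ker F hb₀ker, map_pow, map_neg,
      Polynomial.aeval_X, ← TensorProduct.tmul_neg, Algebra.TensorProduct.tmul_pow, one_pow]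
  rw [h2] at h1
  have h3 : (-b₀) ^ d ∈ J' := lid_mem J' _ h1
  have h4 : b₀ ^ d ∈ J₀ ⊔ J' := by
    have : b₀ ^ d = (-1) ^ d * (-b₀) ^ d := by
      rw [← mul_pow]
      norm_num
    rw [this]
    exact Ideal.mul_mem_left _ _ (le_sup_right (a := J₀) h3)
  have h5 : b₀ ∈ (J₀ ⊔ J').radical := ⟨d, h4⟩
  have h6 : b - b₀ ∈ (J₀ ⊔ J').radical := Ideal.le_radical (le_sup_left (b := J') ha)
  have : b = b₀ + (b - b₀) := by ring
  rw [this]
  exact add_mem h5 h6

end Groth.Agent.Helper20.PLKer
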