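import Mathlib
import Groth.Agent.Lib.Helper20.CHBC

set_option autoImplicit false
universe u
open scoped TensorProduct

namespace Groth.Agent.Helper20.PLKer
open Polynomial

variable {A : Type u} [CommRing A] {B : Type u} [CommRing B] [Algebra A B]

section core
variable {S : Type u} [CommRing S] [Algebra A S]

theorem ev_add_of_Gp_smul_const (F : B →ₚₗ[A] A) (s : S) (hs : s ∈ nonZeroDivisors S)
    (x y : S ⊗[A] B) (h : Gp F x ((s ⊗ₜ[A] (1 : B)) * y) = C (ev F S x)) :
    ev F S (x + y) = ev F S x := by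
  rw [Gp_smul] at h
  have h1 : ∀ n : ℕ, n ≠ 0 → (Gp F x y).coeff n = 0 := by
    intro n hn
    have h2 := congrArg (fun p => Polynomial.coeff p n) h
    simp only [Polynomial.comp_C_mul_X_coeff, Polynomial.coeff_C, if_neg hn] at h2
    exact (mul_right_mem_nonZeroDivisors_eq_zero_iff (pow_mem hs n)).1 h2
  have h3 : Gp F x y = C ((Gp F x y).coeff 0) := by
    ext n
    by_cases hn : n = 0
    · rw [hn, Polynomial.coeff_C_zero]
    · rw [h1 n hn, Polynomial.coeff_C, if_neg hn]
  have h4 : (Gp F x y).eval 1 = (Gp F x y).eval 0 := by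
    rw [h3, Polynomial.eval_C, Polynomial.eval_C]
  rw [Gp_eval, Gp_eval, ← Algebra.TensorProduct.one_def, one_mul, TensorProduct.zero_tmul,
    zero_mul, add_zero] at h4
  exact h4

theorem Gp_const_of_toFun_eq (F : B →ₚₗ[A] A) (x y : S ⊗[A] B)
    (h : F.toFun' S[X] (up x + ((X : S[X]) ⊗ₜ[A] (1 : B)) * up y) = F.toFun' S[X] (up x)) :
    Gp F x y = C (ev F S x) := by
  unfold Gp ev
  rw [h]
  have := ev_map F (iotaC (A := A) (S₀ := S)) x
  unfold ev at this
  exact this

end core

theorem C_mem_nonZeroDivisors {R : Type*} [CommRing R] (σ : Type*) (a : R)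
    (ha : a ∈ nonZeroDivisors R) :
    (MvPolynomial.C a : MvPolynomial σ R) ∈ nonZeroDivisors (MvPolynomial σ R) := by
  rw [mem_nonZeroDivisors_iff_right]
  intro q hq
  ext m
  have := congrArg (MvPolynomial.coeff m) hq
  rw [mul_comm, MvPolynomial.coeff_C_mul, MvPolynomial.coeff_zero] at this
  rw [MvPolynomial.coeff_zero]
  exact (mul_left_mem_nonZeroDivisors_eq_zero_iff ha).1 this

/-- the image algebra of a law is torsion free with respect to non-zero-divisors of the base -/
theorem mem_ker_of_smul_mem (F : B →ₚₗ[A] A) (a : A) (ha : a ∈ nonZeroDivisors A) (b : B)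
    (h : a • b ∈ PolLaw.ker F) : b ∈ PolLaw.ker F := by
  apply mem_ker_of_mvPolynomial
  intro σ x w
  apply ridA_injective
  show ev F _ _ = ev F _ _
  apply ev_add_of_Gp_smul_const F (MvPolynomial.C a) (C_mem_nonZeroDivisors σ a ha)
  apply Gp_const_of_toFun_eq
  have h1 : ((X : (MvPolynomial σ A)[X]) ⊗ₜ[A] (1 : B)) *
      up (((MvPolynomial.C a : MvPolynomial σ A) ⊗ₜ[A] (1 : B)) * (w * (1 ⊗ₜ[A] b))) =
      (((X : (MvPolynomial σ A)[X]) ⊗ₜ[A] (1 : B)) * up w) * (1 ⊗ₜ[A] (a • b)) := by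
    rw [up_mul, up_mul, up_tmul, up_tmul, map_one]
    have h2 : ((C (MvPolynomial.C a) : (MvPolynomial σ A)[X]) ⊗ₜ[A] (1 : B)) * (1 ⊗ₜ[A] b) =
        (1 : (MvPolynomial σ A)[X]) ⊗ₜ[A] (a • b) := by
      rw [Algebra.TensorProduct.tmul_mul_tmul, mul_one, one_mul, TensorProduct.tmul_smul,
        TensorProduct.smul_tmul', Algebra.smul_def, mul_one]
      rfl
    rw [← h2]
    ring
  rw [h1]
  exact (mem_ker_iff F _).1 h _ _ _

/-- the image algebra of a base change of a law is torsion free with respect to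
non-zero-divisors of the base -/
theorem mem_kerBC_of_smul_mem (F : B →ₚₗ[A] A) (A' : Type u) [CommRing A'] [Algebra A A']
    (a' : A') (ha' : a' ∈ nonZeroDivisors A') (b' : A' ⊗[A] B)
    (h : a' • b' ∈ PolLaw.kerBC F A') : b' ∈ PolLaw.kerBC F A' := by
  apply mem_kerBC_of_mvPolynomial
  intro σ x w
  apply ridA_injective
  show ev F _ _ = ev F _ _
  apply ev_add_of_Gp_smul_const F (MvPolynomial.C a') (C_mem_nonZeroDivisors σ a' ha')
  apply Gp_const_of_toFun_eq
  have h1 : ((X : (MvPolynomial σ A')[X]) ⊗ₜ[A] (1 : B)) *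
      up (((MvPolynomial.C a' : MvPolynomial σ A') ⊗ₜ[A] (1 : B)) * (w *
        Algebra.TensorProduct.map (IsScalarTower.toAlgHom A A' (MvPolynomial σ A'))
          (AlgHom.id A B) b')) =
      (((X : (MvPolynomial σ A')[X]) ⊗ₜ[A] (1 : B)) * up w) *
        Algebra.TensorProduct.map (IsScalarTower.toAlgHom A A' (MvPolynomial σ A')[X])
          (AlgHom.id A B) (a' • b') := by
    rw [up_mul, up_mul, up_tmul]
    have h2 : a' • b' = (a' ⊗ₜ[A] (1 : B)) * b' := by
      rw [Algebra.smul_def, Algebra.TensorProduct.algebraMap_apply]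
      rfl
    have h3 : ∀ z : A' ⊗[A] B, up (Algebra.TensorProduct.map
        (IsScalarTower.toAlgHom A A' (MvPolynomial σ A')) (AlgHom.id A B) z) =
        Algebra.TensorProduct.map (IsScalarTower.toAlgHom A A' (MvPolynomial σ A')[X])
          (AlgHom.id A B) z := by
      intro z
      unfold up
      rw [← AlgHom.comp_apply, ← Algebra.TensorProduct.map_comp]
      rfl
    rw [h3, h2, map_mul, Algebra.TensorProduct.map_tmul, map_one]
    have h4 : (IsScalarTower.toAlgHom A A' (MvPolynomial σ A')[X]) a' =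
        C (MvPolynomial.C a') := rfl
    rw [h4]
    ring
  rw [h1]
  exact (mem_kerBC_iff F A' _).1 h _ _ _

end Groth.Agent.Helper20.PLKer
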