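import Mathlib
import Groth.Agent.Lib.Helper20.PLTors

set_option autoImplicit false
universe u
open scoped TensorProduct

namespace Groth.Agent.Helper20.PLKer

variable {A : Type u} [CommRing A] {B : Type u} [CommRing B] [Algebra A B] {d : ℕ}

theorem smul_eq_tmul_mul {R : Type u} [CommRing R] [Algebra A R] (r : R) (z : R ⊗[A] B) :
    r • z = (r ⊗ₜ[A] (1 : B)) * z := by
  rw [Algebra.smul_def, Algebra.TensorProduct.algebraMap_apply]
  rfl

set_option maxHeartbeats 1000000 in
/-- going down for the base change of the image algebra of a multiplicative law -/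
theorem hasGoingDown_tensor_image (F : PolLaw.MulLaw A B A d) (A' : Type u) [CommRing A']
    [Algebra A A'] : Algebra.HasGoingDown A' (A' ⊗[A] (B ⧸ PolLaw.ker F.law)) := by
  constructor
  intro p hp Q hQ hpQ
  let T := A' ⊗[A] B
  let D := A' ⊗[A] (B ⧸ PolLaw.ker F.law)
  let πT : T →ₐ[A] D := Algebra.TensorProduct.map (AlgHom.id A A')
    (Ideal.Quotient.mkₐ A (PolLaw.ker F.law))
  have hπT : Function.Surjective πT := by
    intro z
    obtain ⟨z', hz'⟩ := LinearMap.lTensor_surjective A'
      (g := (Ideal.Quotient.mkₐ A (PolLaw.ker F.law)).toLinearMap) Ideal.Quotient.mk_surjective z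
    refine ⟨z', ?_⟩
    rw [← hz']
    clear hz'
    induction z' using TensorProduct.induction_on with
    | zero => simp
    | tmul a b => rfl
    | add x y hx hy => rw [map_add, map_add, hx, hy]
  let I : Ideal T := (PolLaw.ker F.law).map
    (Algebra.TensorProduct.includeRight : B →ₐ[A] A' ⊗[A] B)
  have hkerπ : RingHom.ker πT = I := by
    have := Algebra.TensorProduct.lTensor_ker (R := A) (A := A')
      (Ideal.Quotient.mkₐ A (PolLaw.ker F.law)) Ideal.Quotient.mk_surjective
    rw [this]
    congr 1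
    exact Ideal.Quotient.mkₐ_ker A (PolLaw.ker F.law)
  let A'' := A' ⧸ p
  let T'' := A'' ⊗[A] B
  let μ : T →ₐ[A] T'' := Algebra.TensorProduct.map (Ideal.Quotient.mkₐ A p) (AlgHom.id A B)
  have hμ : Function.Surjective μ := by
    intro z
    obtain ⟨z', hz'⟩ := LinearMap.rTensor_surjective B
      (g := (Ideal.Quotient.mkₐ A p).toLinearMap) Ideal.Quotient.mk_surjective z
    exact ⟨z', by rw [← hz', rTensor_eq_map]⟩
  have hkerμ : RingHom.ker μ = p.map (Algebra.TensorProduct.includeLeft : A' →ₐ[A] A' ⊗[A] B) := by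
    have := Algebra.TensorProduct.rTensor_ker (R := A) (S := A) (C := B)
      (Ideal.Quotient.mkₐ A p) Ideal.Quotient.mk_surjective
    rw [this]
    congr 1
    exact Ideal.Quotient.mkₐ_ker A p
  let K'' : Ideal T'' := PolLaw.kerBC F.law A''
  let I'' : Ideal T'' := (PolLaw.ker F.law).map
    (Algebra.TensorProduct.includeRight : B →ₐ[A] A'' ⊗[A] B)
  let J₁ : Ideal T := K''.comap μ
  let QT : Ideal T := Q.comap πT
  haveI hQT : QT.IsPrime := Ideal.comap_isPrime _ _
  have hIQT : I ≤ QT := by
    rw [← hkerπ]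
    intro z hz
    show πT z ∈ Q
    rw [(RingHom.mem_ker).1 hz]
    exact zero_mem _
  have hpQT : RingHom.ker μ ≤ QT := by
    rw [hkerμ, Ideal.map_le_iff_le_comap]
    intro a' ha'
    show πT (a' ⊗ₜ[A] (1 : B)) ∈ Q
    have h1 : πT (a' ⊗ₜ[A] (1 : B)) = algebraMap A' D a' := by
      rfl
    rw [h1]
    exact hpQ.le ha'
  have hI''map : I.map μ = I'' := by
    apply le_antisymm
    · rw [Ideal.map_le_iff_le_comap, Ideal.map_le_iff_le_comap]
      intro b hb
      rw [Ideal.mem_comap, Ideal.mem_comap]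
      exact Ideal.mem_map_of_mem _ hb
    · rw [Ideal.map_le_iff_le_comap]
      intro b hb
      rw [Ideal.mem_comap]
      exact Ideal.mem_map_of_mem μ (Ideal.mem_map_of_mem
        (Algebra.TensorProduct.includeRight : B →ₐ[A] A' ⊗[A] B) hb)
  have hJ₁QT : J₁ ≤ QT := by
    intro z hz
    have h1 : (μ z) ^ d ∈ I'' := pow_mem_map_of_mem_kerBC F A'' hz
    rw [← map_pow, ← hI''map] at h1
    have h2 : z ^ d ∈ (I.map μ).comap μ := h1
    rw [Ideal.comap_map_of_surjective μ hμ] at h2
    have h3 : z ^ d ∈ QT := by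
      refine (sup_le hIQT ?_) h2
      exact hpQT
    exact hQT.mem_of_pow_mem d h3
  obtain ⟨Q', hQ'min, hQ'le⟩ := Ideal.exists_minimalPrimes_le hJ₁QT
  haveI hQ'prime : Q'.IsPrime := hQ'min.1.1
  have hJ₁Q' : J₁ ≤ Q' := hQ'min.1.2
  have hIJ₁ : I ≤ J₁ := by
    intro z hz
    show μ z ∈ K''
    have : μ z ∈ I'' := by
      rw [← hI''map]
      exact Ideal.mem_map_of_mem _ hz
    exact map_ker_le_kerBC F.law A'' this
  have hkerμJ₁ : RingHom.ker μ ≤ J₁ := by
    intro z hz
    show μ z ∈ K''
    rw [(RingHom.mem_ker).1 hz]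
    exact zero_mem _
  -- the contraction of Q' is p
  have hcontr : Q'.comap (algebraMap A' T) = p := by
    apply le_antisymm
    · intro a' ha'
      by_contra hnp
      rw [Ideal.mem_comap] at ha'
      rw [Ideal.minimalPrimes_eq_comap] at hQ'min
      obtain ⟨P', hP', hP'Q'⟩ := hQ'min
      rw [← hP'Q', Ideal.mem_comap] at ha'
      have hnzd : (Ideal.Quotient.mk J₁) (algebraMap A' T a') ∈ nonZeroDivisors (T ⧸ J₁) := by
        rw [mem_nonZeroDivisors_iff_right]
        intro c hc
        obtain ⟨t, rfl⟩ := Ideal.Quotient.mk_surjective c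
        rw [← map_mul, Ideal.Quotient.eq_zero_iff_mem] at hc
        rw [Ideal.Quotient.eq_zero_iff_mem]
        show μ t ∈ K''
        have h1 : μ (t * algebraMap A' T a') = (Ideal.Quotient.mk p a') • μ t := by
          rw [smul_eq_tmul_mul, map_mul, mul_comm]
          congr 1
        have h2 : μ (t * algebraMap A' T a') ∈ K'' := hc
        rw [h1] at h2
        haveI : IsDomain A'' := Ideal.Quotient.isDomain p
        refine mem_kerBC_of_smul_mem F.law A'' (Ideal.Quotient.mk p a')
          (mem_nonZeroDivisors_of_ne_zero ?_) _ h2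
        intro h0
        exact hnp (Ideal.Quotient.eq_zero_iff_mem.1 h0)
      exact Set.disjoint_left.1 (Ideal.disjoint_nonZeroDivisors_of_mem_minimalPrimes hP') ha' hnzd
    · intro a' ha'
      rw [Ideal.mem_comap]
      apply hJ₁Q'
      apply hkerμJ₁
      rw [hkerμ]
      exact Ideal.mem_map_of_mem _ ha'
  have hkerQ' : RingHom.ker πT ≤ Q' := by
    rw [hkerπ]
    exact hIJ₁.trans hJ₁Q'
  refine ⟨Q'.map πT, ?_, ?_, ?_⟩
  · rw [Ideal.map_le_iff_le_comap]
    exact hQ'le
  · exact Ideal.map_isPrime_of_surjective hπT hkerQ'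
  · constructor
    show p = (Q'.map πT).comap (algebraMap A' D)
    have h1 : (Q'.map πT).comap πT = Q' := by
      rw [Ideal.comap_map_of_surjective πT hπT]
      exact sup_eq_left.2 hkerQ'
    rw [← hcontr]
    conv_lhs => rw [← h1]
    ext a'
    rw [Ideal.mem_comap, Ideal.mem_comap, Ideal.mem_comap]
    have : πT (algebraMap A' T a') = algebraMap A' D a' := rfl
    rw [this]

end Groth.Agent.Helper20.PLKer
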