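import Mathlib
import Groth.Agent.Lib.Helper20.CHGen

set_option autoImplicit false
universe u
open scoped TensorProduct

namespace Groth.Agent.Helper20.PLKer
open Polynomial

variable {A : Type u} [CommRing A] {B : Type u} [CommRing B] [Algebra A B] {d : ℕ}

theorem ev_mul (F : PolLaw.MulLaw A B A d) (S : Type u) [CommRing S] [Algebra A S]
    (x y : S ⊗[A] B) : ev F.law S (x * y) = ev F.law S x * ev F.law S y := by
  unfold ev
  rw [(F.mult S).2, map_mul]

/-- over a field, an element of the radical of the kernel has characteristic polynomial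
`(-X)^d` -/
theorem chiS_of_mem_radical_kerBC (F : PolLaw.MulLaw A B A d) (K : Type u) [Field K] [Algebra A K]
    (g : K ⊗[A] B) (hg : g ∈ (PolLaw.kerBC F.law K).radical) : chiS F.law g = (-X) ^ d := by
  obtain ⟨n, hn⟩ := hg
  obtain ⟨ε, hε⟩ := chiS_eq F g
  -- the monic part
  set q : K[X] := X ^ d + ∑ k : Fin d, C (ε k) * X ^ (k : ℕ) with hq
  have hqmonic : q.Monic := Polynomial.monic_X_pow_add (Polynomial.degree_sum_fin_lt ε)
  have hqdeg : q.natDegree = d := by
    have h1 : (∑ k : Fin d, C (ε k) * X ^ (k : ℕ) : K[X]).degree < ((X : K[X]) ^ d).degree := by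
      rw [Polynomial.degree_X_pow]
      exact Polynomial.degree_sum_fin_lt ε
    rw [hq, Polynomial.natDegree_add_eq_left_of_degree_lt h1, Polynomial.natDegree_X_pow]
  -- divisibility
  obtain ⟨h, hh⟩ := sub_dvd_pow_sub_pow (up g : K[X] ⊗[A] B) ((X : K[X]) ⊗ₜ[A] (1 : B)) n
  have h1 : ev F.law K[X] ((up g) ^ n - ((X : K[X]) ⊗ₜ[A] (1 : B)) ^ n) = (-(X ^ n)) ^ d := by
    have e1 : ((up g) ^ n - ((X : K[X]) ⊗ₜ[A] (1 : B)) ^ n : K[X] ⊗[A] B) =
        (-(X ^ n) : K[X]) • (1 : K[X] ⊗[A] B) + 1 * up (g ^ n) := by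
      rw [one_mul, Algebra.TensorProduct.one_def, TensorProduct.smul_tmul', smul_eq_mul, mul_one,
        TensorProduct.neg_tmul, Algebra.TensorProduct.tmul_pow, one_pow]
      unfold up
      rw [map_pow]
      abel
    have e2 := (mem_kerBC_iff F.law K (g ^ n)).1 hn K[X]
      ((-(X ^ n) : K[X]) • (1 : K[X] ⊗[A] B)) 1
    rw [e1]
    unfold ev up iotaC
    rw [e2, F.homog K[X], (F.mult K[X]).1, Algebra.TensorProduct.one_def,
      TensorProduct.smul_tmul', ridA_tmul, smul_eq_mul, mul_one, map_one, mul_one]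
  have h2 : chiS F.law g * ev F.law K[X] h = (-(X ^ n)) ^ d := by
    rw [← h1, hh, ev_mul]
    rfl
  have h3 : q ∣ X ^ (n * d) := by
    have e3 : q * ((-1) ^ d * ev F.law K[X] h * (-1) ^ d) = X ^ (n * d) := by
      have : chiS F.law g = (-1) ^ d * q := hε
      rw [this] at h2
      have e4 : (-(X ^ n) : K[X]) ^ d = (-1) ^ d * X ^ (n * d) := by
        rw [neg_pow, pow_mul]
      rw [e4] at h2
      calc q * ((-1) ^ d * ev F.law K[X] h * (-1) ^ d)
          = (-1) ^ d * ((-1) ^ d * q * ev F.law K[X] h) := by ring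
        _ = (-1) ^ d * ((-1) ^ d * X ^ (n * d)) := by rw [h2]
        _ = X ^ (n * d) := by
          rw [← mul_assoc, ← mul_pow]
          norm_num
    exact ⟨_, e3.symm⟩
  obtain ⟨i, _, hi⟩ := (dvd_prime_pow Polynomial.prime_X (n * d)).1 h3
  have h4 : q = X ^ i := Polynomial.eq_of_monic_of_associated hqmonic (Polynomial.monic_X_pow i) hi
  have h5 : i = d := by
    have := congrArg Polynomial.natDegree h4
    rw [hqdeg, Polynomial.natDegree_X_pow] at this
    exact this.symm
  rw [hε, h4, h5, neg_pow (X : K[X]) d]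

section image
variable (F : PolLaw.MulLaw A B A d) (A' : Type u) [CommRing A'] [Algebra A A']

/-- the surjection `A' ⊗ B → A' ⊗ (B ⧸ ker F)` -/
noncomputable def piT : A' ⊗[A] B →ₐ[A] A' ⊗[A] (B ⧸ PolLaw.ker F.law) :=
  Algebra.TensorProduct.map (AlgHom.id A A') (Ideal.Quotient.mkₐ A (PolLaw.ker F.law))

theorem piT_surjective : Function.Surjective (piT F A') := by
  intro z
  obtain ⟨z', hz'⟩ := LinearMap.lTensor_surjective A'
    (g := (Ideal.Quotient.mkₐ A (PolLaw.ker F.law)).toLinearMap) Ideal.Quotient.mk_surjective z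
  refine ⟨z', ?_⟩
  rw [← hz']
  clear hz'
  induction z' using TensorProduct.induction_on with
  | zero => simp
  | tmul a b => rfl
  | add x y hx hy => rw [map_add, map_add, hx, hy]

theorem ker_piT : RingHom.ker (piT F A') = (PolLaw.ker F.law).map
    (Algebra.TensorProduct.includeRight : B →ₐ[A] A' ⊗[A] B) := by
  have := Algebra.TensorProduct.lTensor_ker (R := A) (A := A')
    (Ideal.Quotient.mkₐ A (PolLaw.ker F.law)) Ideal.Quotient.mk_surjective
  unfold piT
  rw [this]
  congr 1
  exact Ideal.Quotient.mkₐ_ker A (PolLaw.ker F.law)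

theorem piT_algebraMap (a' : A') :
    piT F A' (algebraMap A' (A' ⊗[A] B) a') =
      algebraMap A' (A' ⊗[A] (B ⧸ PolLaw.ker F.law)) a' := rfl

theorem piT_aeval (f : A' ⊗[A] B) (P : A'[X]) :
    piT F A' (Polynomial.aeval f P) = Polynomial.aeval (piT F A' f) P := by
  rw [Polynomial.aeval_def, Polynomial.aeval_def]
  have h := Polynomial.hom_eval₂ P (algebraMap A' (A' ⊗[A] B))
    ((piT F A' : A' ⊗[A] B →ₐ[A] _) : A' ⊗[A] B →+* A' ⊗[A] (B ⧸ PolLaw.ker F.law)) f
  refine h.trans ?_
  congr 1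


open PrimeSpectrum in
/-- the image of a basic open of the image scheme is the union of the basic opens of the
coefficients of the characteristic polynomial -/
theorem image_basicOpen (f : A' ⊗[A] B) (ε : Fin d → A')
    (hε : chiS F.law f = (-1) ^ d * (X ^ d + ∑ k : Fin d, C (ε k) * X ^ (k : ℕ))) :
    comap (algebraMap A' (A' ⊗[A] (B ⧸ PolLaw.ker F.law))) '' (basicOpen (piT F A' f) : Set _) =
      ⋃ k : Fin d, (basicOpen (ε k) : Set (PrimeSpectrum A')) := by
  classical
  ext x
  constructor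
  · rintro ⟨Q, hQ, rfl⟩
    rw [SetLike.mem_coe, mem_basicOpen] at hQ
    rw [Set.mem_iUnion]
    by_contra hcon
    push Not at hcon
    apply hQ
    have hεQ : ∀ k, algebraMap A' (A' ⊗[A] (B ⧸ PolLaw.ker F.law)) (ε k) ∈ Q.asIdeal := by
      intro k
      have := hcon k
      rw [SetLike.mem_coe, mem_basicOpen, not_not] at this
      exact this
    have h1 : (Polynomial.aeval f (chiS F.law f)) ^ d ∈ RingHom.ker (piT F A') := by
      rw [ker_piT]
      exact pow_mem_map_of_mem_kerBC F A' (aeval_chiS_mem_kerBC F f)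
    rw [RingHom.mem_ker, map_pow, piT_aeval] at h1
    have h2 : Polynomial.aeval (piT F A' f) (chiS F.law f) ∈ Q.asIdeal := by
      apply Q.isPrime.mem_of_pow_mem d
      rw [h1]
      exact zero_mem _
    have hq : (X ^ d + ∑ k : Fin d, C (ε k) * X ^ (k : ℕ) : A'[X]) =
        (-1) ^ d * chiS F.law f := by
      rw [hε, ← mul_assoc, ← mul_pow]
      norm_num
    have h3' : Polynomial.aeval (piT F A' f)
        (X ^ d + ∑ k : Fin d, C (ε k) * X ^ (k : ℕ) : A'[X]) ∈ Q.asIdeal := by
      rw [hq, map_mul]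
      exact Ideal.mul_mem_left _ _ h2
    have h3 : (piT F A' f) ^ d + ∑ k : Fin d,
        algebraMap A' (A' ⊗[A] (B ⧸ PolLaw.ker F.law)) (ε k) * (piT F A' f) ^ (k : ℕ) ∈
        Q.asIdeal := by
      simpa only [map_mul, map_pow, map_add, map_sum, Polynomial.aeval_X,
        Polynomial.aeval_C] using h3'
    have h4 : ∑ k : Fin d,
        algebraMap A' (A' ⊗[A] (B ⧸ PolLaw.ker F.law)) (ε k) * (piT F A' f) ^ (k : ℕ) ∈
        Q.asIdeal := Ideal.sum_mem _ (fun k _ => Ideal.mul_mem_right _ _ (hεQ k))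
    have h5 : (piT F A' f) ^ d ∈ Q.asIdeal := (Ideal.add_mem_iff_left _ h4).1 h3
    exact Q.isPrime.mem_of_pow_mem d h5
  · intro hx
    rw [Set.mem_iUnion] at hx
    obtain ⟨k, hk⟩ := hx
    rw [SetLike.mem_coe, mem_basicOpen] at hk
    let K := x.asIdeal.ResidueField
    let ψ : A' →ₐ[A] K := IsScalarTower.toAlgHom A A' K
    let μ : A' ⊗[A] B →ₐ[A] K ⊗[A] B := Algebra.TensorProduct.map ψ (AlgHom.id A B)
    have hψk : ψ (ε k) ≠ 0 := by
      intro h0
      exact hk ((Ideal.algebraMap_residueField_eq_zero).1 h0)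
    have hχ : chiS F.law (μ f) ≠ (-X) ^ d := by
      intro h0
      rw [chiS_map, hε] at h0
      have h1 := congrArg (fun p => Polynomial.coeff p (k : ℕ)) h0
      simp only [Polynomial.map_mul, Polynomial.map_pow, Polynomial.map_neg, Polynomial.map_one,
        Polynomial.map_add, Polynomial.map_X, Polynomial.map_sum, Polynomial.map_C] at h1
      rw [neg_pow (X : K[X]) d, ← Polynomial.C_1, ← Polynomial.C_neg, ← Polynomial.C_pow,
        Polynomial.coeff_C_mul, Polynomial.coeff_C_mul, Polynomial.coeff_add,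
        Polynomial.coeff_X_pow, if_neg (ne_of_lt k.2), zero_add, mul_zero,
        Polynomial.finsetSum_coeff] at h1
      simp only [Polynomial.coeff_C_mul, Polynomial.coeff_X_pow] at h1
      rw [Finset.sum_eq_single k] at h1
      · rw [if_pos rfl, mul_one] at h1
        have hu : IsUnit ((-1 : K) ^ d) := (isUnit_one.neg).pow d
        exact hψk ((hu.mul_right_eq_zero).1 h1)
      · intro j _ hj
        rw [if_neg, mul_zero]
        intro h
        exact hj (Fin.ext h.symm)
      · intro h
        exact absurd (Finset.mem_univ _) h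
    have hnot : μ f ∉ ((PolLaw.ker F.law).map
        (Algebra.TensorProduct.includeRight : B →ₐ[A] K ⊗[A] B)).radical := by
      intro h
      exact hχ (chiS_of_mem_radical_kerBC F K (μ f)
        (Ideal.radical_mono (map_ker_le_kerBC F.law K) h))
    rw [Ideal.radical_eq_sInf, Submodule.mem_sInf] at hnot
    push Not at hnot
    obtain ⟨QK, ⟨hQKle, hQKprime⟩, hfQK⟩ := hnot
    let QT : Ideal (A' ⊗[A] B) := Ideal.comap μ (QK : Ideal (K ⊗[A] B))
    haveI hQTprime : QT.IsPrime := Ideal.comap_isPrime _ _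
    have hkerQT : RingHom.ker (piT F A') ≤ QT := by
      rw [ker_piT, Ideal.map_le_iff_le_comap]
      intro b hb
      rw [Ideal.mem_comap]
      show μ ((1 : A') ⊗ₜ[A] b) ∈ QK
      have : μ ((1 : A') ⊗ₜ[A] b) = (1 : K) ⊗ₜ[A] b := by
        simp only [μ, Algebra.TensorProduct.map_tmul, map_one, AlgHom.id_apply]
      rw [this]
      exact hQKle (Ideal.mem_map_of_mem
        (Algebra.TensorProduct.includeRight : B →ₐ[A] K ⊗[A] B) hb)
    have hcomap : (QT.map (piT F A')).comap (piT F A') = QT := by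
      rw [Ideal.comap_map_of_surjective _ (piT_surjective F A')]
      exact sup_eq_left.2 hkerQT
    refine ⟨⟨QT.map (piT F A'), Ideal.map_isPrime_of_surjective (piT_surjective F A') hkerQT⟩,
      ?_, ?_⟩
    · rw [SetLike.mem_coe, mem_basicOpen]
      intro hmem
      have : f ∈ (QT.map (piT F A')).comap (piT F A') := hmem
      rw [hcomap] at this
      exact hfQK this
    · apply PrimeSpectrum.ext
      ext a'
      show algebraMap A' (A' ⊗[A] (B ⧸ PolLaw.ker F.law)) a' ∈ QT.map (piT F A') ↔ a' ∈ x.asIdeal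
      rw [← piT_algebraMap F A' a', ← Ideal.mem_comap, hcomap]
      show μ (algebraMap A' (A' ⊗[A] B) a') ∈ QK ↔ _
      have h1 : μ (algebraMap A' (A' ⊗[A] B) a') = algebraMap K (K ⊗[A] B) (ψ a') := by
        rw [Algebra.TensorProduct.algebraMap_apply, Algebra.TensorProduct.algebraMap_apply]
        simp only [μ, Algebra.TensorProduct.map_tmul, map_one, Algebra.algebraMap_self,
          RingHom.id_apply]
      rw [h1]
      constructor
      · intro hmem
        by_contra hna
        have hne : ψ a' ≠ 0 := fun h0 => hna ((Ideal.algebraMap_residueField_eq_zero).1 h0)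
        have hu : IsUnit (algebraMap K (K ⊗[A] B) (ψ a')) := (IsUnit.mk0 _ hne).map _
        exact hQKprime.ne_top (Ideal.eq_top_of_isUnit_mem _ hmem hu)
      · intro ha
        have : ψ a' = 0 := (Ideal.algebraMap_residueField_eq_zero).2 ha
        rw [this, map_zero]
        exact zero_mem _

/-- the image scheme of a multiplicative law is universally open over the base, ring level -/
theorem isOpenMap_comap_tensor_image :
    IsOpenMap (PrimeSpectrum.comap (algebraMap A' (A' ⊗[A] (B ⧸ PolLaw.ker F.law)))) := by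
  rw [PrimeSpectrum.isBasis_basic_opens.isOpenMap_iff]
  rintro _ ⟨_, ⟨fbar, rfl⟩, rfl⟩
  obtain ⟨f, rfl⟩ := piT_surjective F A' fbar
  obtain ⟨ε, hε⟩ := chiS_eq F f
  rw [image_basicOpen F A' f ε hε]
  exact isOpen_iUnion (fun k => (PrimeSpectrum.basicOpen (ε k)).isOpen)

end image

end Groth.Agent.Helper20.PLKer
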