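import Mathlib
import Groth.Agent.Lib.Helper20.CHBC

set_option autoImplicit false
universe u
open scoped TensorProduct

namespace Groth.Agent.Helper20.PLKer
open Polynomial

variable {A : Type u} [CommRing A] {B : Type u} [CommRing B] [Algebra A B] {d : ℕ}

/-- a multiplicative law of degree `d` has at most `d` geometric points: at most `d` algebra maps
from `B` to a field vanish on its kernel -/
theorem card_algHom_le (F : PolLaw.MulLaw A B A d) (Ω : Type u) [Field Ω] [Algebra A Ω] (m : ℕ)
    (θ : Fin m → (B →ₐ[A] Ω)) (hθ : Function.Injective θ)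
    (hker : ∀ j, PolLaw.ker F.law ≤ RingHom.ker (θ j)) : m ≤ d := by
  classical
  have hb : ∀ l : Fin m × Fin m, ∃ b : B, l.1 ≠ l.2 → θ l.1 b ≠ θ l.2 b := by
    intro l
    by_cases h : l.1 = l.2
    · exact ⟨0, fun h' => absurd h h'⟩
    · have : θ l.1 ≠ θ l.2 := fun h' => h (hθ h')
      obtain ⟨b, hb⟩ := DFunLike.ne_iff.1 this
      exact ⟨b, fun _ => hb⟩
  choose b hb using hb
  let L := Fin m × Fin m
  let S := MvPolynomial L A
  let SΩ := MvPolynomial L Ω
  let x : S ⊗[A] B := ∑ l : L, (MvPolynomial.X l : S) ⊗ₜ[A] b l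
  obtain ⟨ε, hε⟩ := chiS_eq F x
  have h1 : (Polynomial.aeval x (chiS F.law x)) ^ d ∈ (PolLaw.ker F.law).map
      (Algebra.TensorProduct.includeRight : B →ₐ[A] S ⊗[A] B) :=
    pow_mem_map_of_mem_kerBC F S (aeval_chiS_mem_kerBC F x)
  let ι : S →ₐ[A] SΩ := MvPolynomial.mapAlgHom (Algebra.ofId A Ω)
  let Θ : Fin m → (S ⊗[A] B →ₐ[A] SΩ) := fun j =>
    Algebra.TensorProduct.productMap ι ((IsScalarTower.toAlgHom A Ω SΩ).comp (θ j))
  have hΘ : ∀ j (s : S) (b' : B), Θ j (s ⊗ₜ[A] b') = ι s * MvPolynomial.C (θ j b') := by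
    intro j s b'
    simp only [Θ, Algebra.TensorProduct.productMap_apply_tmul]
    rfl
  let r : Fin m → SΩ := fun j => ∑ l : L, MvPolynomial.monomial (Finsupp.single l 1) (θ j (b l))
  have hΘx : ∀ j, Θ j x = r j := by
    intro j
    simp only [x, r, map_sum]
    refine Finset.sum_congr rfl (fun l _ => ?_)
    rw [hΘ, mul_comm]
    have : ι (MvPolynomial.X l) = MvPolynomial.X l := by
      show MvPolynomial.map _ (MvPolynomial.X l) = _
      rw [MvPolynomial.map_X]
    rw [this, MvPolynomial.C_mul_X_eq_monomial]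
  -- the monic polynomial
  let q : SΩ[X] := X ^ d + ∑ k : Fin d, C (ι (ε k)) * X ^ (k : ℕ)
  have hqdeg : q.natDegree ≤ d := by
    refine Polynomial.natDegree_add_le_of_degree_le (Polynomial.natDegree_X_pow_le d) ?_
    exact Polynomial.natDegree_le_of_degree_le (le_of_lt (Polynomial.degree_sum_fin_lt _))
  have hqmonic : q.Monic := Polynomial.monic_X_pow_add (Polynomial.degree_sum_fin_lt _)
  have hχmap : (chiS F.law x).map (ι : S →+* SΩ) = (-1) ^ d * q := by
    rw [hε]
    simp only [q, Polynomial.map_mul, Polynomial.map_pow, Polynomial.map_neg, Polynomial.map_one,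
      Polynomial.map_add, Polynomial.map_X, Polynomial.map_sum, Polynomial.map_C]
    rfl
  have hroot : ∀ j, q.eval (r j) = 0 := by
    intro j
    have h2 : Θ j ((Polynomial.aeval x (chiS F.law x)) ^ d) = 0 := by
      have h0 : (PolLaw.ker F.law).map
          (Algebra.TensorProduct.includeRight : B →ₐ[A] S ⊗[A] B) ≤ RingHom.ker (Θ j) := by
        rw [Ideal.map_le_iff_le_comap]
        intro b' hb'
        rw [Ideal.mem_comap, RingHom.mem_ker, Algebra.TensorProduct.includeRight_apply]
        show Θ j ((1 : S) ⊗ₜ[A] b') = 0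
        rw [hΘ, (RingHom.mem_ker).1 (hker j hb'), map_zero, mul_zero]
      exact (RingHom.mem_ker).1 (h0 h1)
    rw [map_pow] at h2
    have h3 : Θ j (Polynomial.aeval x (chiS F.law x)) = 0 := eq_zero_of_pow_eq_zero h2
    have h4 : Θ j (Polynomial.aeval x (chiS F.law x)) =
        ((chiS F.law x).map (ι : S →+* SΩ)).eval (r j) := by
      rw [Polynomial.aeval_def, Polynomial.eval_map, ← hΘx]
      have h := Polynomial.hom_eval₂ (chiS F.law x) (algebraMap S (S ⊗[A] B))
        ((Θ j : S ⊗[A] B →ₐ[A] SΩ) : S ⊗[A] B →+* SΩ) x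
      refine h.trans ?_
      congr 1
      refine RingHom.ext (fun s => ?_)
      show Θ j (algebraMap S (S ⊗[A] B) s) = ι s
      rw [Algebra.TensorProduct.algebraMap_apply, hΘ, map_one, map_one, mul_one]
      rfl
    rw [h4, hχmap, Polynomial.eval_mul, Polynomial.eval_pow, Polynomial.eval_neg,
      Polynomial.eval_one] at h3
    have hu : IsUnit ((-1 : SΩ) ^ d) := (isUnit_one.neg).pow d
    exact (hu.mul_right_eq_zero).1 h3
  have hrinj : Function.Injective r := by
    intro i j hij
    by_contra hne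
    have h5 := congrArg (MvPolynomial.coeff (Finsupp.single ((i, j) : L) 1)) hij
    have hc : ∀ j' : Fin m, MvPolynomial.coeff (Finsupp.single ((i, j) : L) 1) (r j') =
        θ j' (b (i, j)) := by
      intro j'
      show MvPolynomial.coeff (Finsupp.single ((i, j) : L) 1)
        (∑ l : L, MvPolynomial.monomial (Finsupp.single l 1) (θ j' (b l))) = _
      rw [MvPolynomial.coeff_sum, Finset.sum_eq_single ((i, j) : L)]
      · rw [MvPolynomial.coeff_monomial, if_pos rfl]
      · intro l _ hl
        rw [MvPolynomial.coeff_monomial, if_neg]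
        intro h
        exact hl (Finsupp.single_left_injective one_ne_zero h)
      · intro h
        exact absurd (Finset.mem_univ _) h
    rw [hc i, hc j] at h5
    exact hb (i, j) hne h5
  have hsub : (Finset.image r Finset.univ).val ⊆ q.roots := by
    intro z hz
    rw [Finset.mem_val, Finset.mem_image] at hz
    obtain ⟨j, _, rfl⟩ := hz
    rw [Polynomial.mem_roots hqmonic.ne_zero]
    exact hroot j
  have h6 := Polynomial.card_le_degree_of_subset_roots hsub
  rw [Finset.card_image_of_injective _ hrinj, Finset.card_univ, Fintype.card_fin] at h6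
  exact h6.trans hqdeg

end Groth.Agent.Helper20.PLKer
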