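import Mathlib
import Groth.Agent.Lib.Helper20.CHPts

set_option autoImplicit false
universe u
open scoped TensorProduct

namespace Groth.Agent.Helper20.PLKer
open Polynomial

theorem finite_card_le_of_forall_inj {α : Type*} (d : ℕ)
    (h : ∀ (m : ℕ) (f : Fin m → α), Function.Injective f → m ≤ d) :
    Finite α ∧ Nat.card α ≤ d := by
  have hfin : Finite α := by
    by_contra hinf
    rw [not_finite_iff_infinite] at hinf
    have := h (d + 1) (fun i => Infinite.natEmbedding α i.val)
      (fun i j hij => Fin.ext ((Infinite.natEmbedding α).injective hij))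
    omega
  refine ⟨hfin, ?_⟩
  exact h (Nat.card α) (Finite.equivFin α).symm (Finite.equivFin α).symm.injective

variable {A : Type u} [CommRing A] {B : Type u} [CommRing B] [Algebra A B] {d : ℕ}

theorem isMaximal_of_isIntegral_field (K : Type u) [Field K] (D : Type u) [CommRing D]
    [Algebra K D] [Algebra.IsIntegral K D] (Q : Ideal D) [Q.IsPrime] : Q.IsMaximal := by
  apply Ideal.isMaximal_of_isIntegral_of_isMaximal_comap (R := K) Q
  have : (Q.comap (algebraMap K D)).IsPrime := Ideal.comap_isPrime _ _
  rw [Ideal.eq_bot_of_prime (Q.comap (algebraMap K D))]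
  exact Ideal.bot_isMaximal

/-- for a prime of an algebra integral over a field, a map to the algebraic closure with that
kernel -/
theorem exists_algHom_ker_eq (K : Type u) [Field K] (D : Type u) [CommRing D]
    [Algebra K D] [Algebra.IsIntegral K D] (Q : Ideal D) [Q.IsPrime] :
    ∃ ψ : D →ₐ[K] AlgebraicClosure K, RingHom.ker ψ = Q := by
  haveI hmax : Q.IsMaximal := isMaximal_of_isIntegral_field K D Q
  haveI : Algebra.IsIntegral K (D ⧸ Q) :=
    Algebra.IsIntegral.of_surjective (Ideal.Quotient.mkₐ K Q) Ideal.Quotient.mk_surjective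
  haveI : Algebra.IsAlgebraic K (D ⧸ Q) := Algebra.IsIntegral.isAlgebraic
  let f : D ⧸ Q →ₐ[K] AlgebraicClosure K := IsAlgClosed.lift
  refine ⟨f.comp (Ideal.Quotient.mkₐ K Q), ?_⟩
  symm
  apply hmax.eq_of_le
  · intro h
    have h1 : (1 : D) ∈ RingHom.ker (f.comp (Ideal.Quotient.mkₐ K Q)) := by
      rw [h]; trivial
    rw [RingHom.mem_ker, map_one] at h1
    exact one_ne_zero h1
  · intro z hz
    rw [RingHom.mem_ker, AlgHom.comp_apply]
    have : Ideal.Quotient.mkₐ K Q z = 0 := Ideal.Quotient.eq_zero_iff_mem.2 hz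
    rw [this, map_zero]

variable (F : PolLaw.MulLaw A B A d)

/-- the spectrum of an algebra over a field `K`, integral over `K` and generated by the image
of `B` with the kernel of the law mapping to zero, has at most `d` points -/
theorem card_primeSpectrum_le (K : Type u) [Field K] [Algebra A K]
    (D : Type u) [CommRing D] [Algebra K D] [Algebra A D] [IsScalarTower A K D]
    [Algebra.IsIntegral K D] (g : B →ₐ[A] D) (hg : PolLaw.ker F.law ≤ RingHom.ker g)
    (hgen : Algebra.adjoin K (Set.range g) = ⊤) :
    Finite (PrimeSpectrum D) ∧ Nat.card (PrimeSpectrum D) ≤ d := by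
  apply finite_card_le_of_forall_inj
  intro m Qs hQs
  have hψ : ∀ j, ∃ ψ : D →ₐ[K] AlgebraicClosure K, RingHom.ker ψ = (Qs j).asIdeal :=
    fun j => exists_algHom_ker_eq K D (Qs j).asIdeal
  choose ψ hψ using hψ
  refine card_algHom_le F (AlgebraicClosure K) m
    (fun j => ((ψ j).restrictScalars A).comp g) ?_ ?_
  · intro i j hij
    apply hQs
    apply PrimeSpectrum.ext
    rw [← hψ i, ← hψ j]
    have : ψ i = ψ j := by
      apply AlgHom.ext_of_adjoin_eq_top hgen
      rintro _ ⟨b, rfl⟩
      exact DFunLike.congr_fun hij b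
    rw [this]
  · intro j b hb
    rw [RingHom.mem_ker]
    show ψ j (g b) = 0
    rw [(RingHom.mem_ker).1 (hg hb), map_zero]

end Groth.Agent.Helper20.PLKer
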