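import Mathlib

/-!
# Fibrewise criteria for endomorphisms of finite projective modules (helper20)

* `isNilpotent_of_baseChange_eq_zero`: an endomorphism of a finite projective module vanishing in
  every fibre `κ(p) ⊗ H` is nilpotent.
* `eq_top_of_forall_maximal`: a submodule `N` of a finite module with `N + m L = L` for all maximal
  ideals is everything.
* `exists_tmul_one_eq`, `mem_smul_top_of_tmul_eq_zero`: fibres at maximal ideals.
-/

set_option autoImplicit false
set_option linter.unusedSectionVars false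
universe u v

namespace Groth.Agent.Helper20.CartRel

open TensorProduct

variable {A : Type u} [CommRing A]

section LA1

variable {H : Type v} [AddCommGroup H] [Module A H]

/-- a linear form killed in the fibre at `p` has values in `p` -/
theorem mem_of_baseChange_eq_zero (p : PrimeSpectrum A) (ℓ : H →ₗ[A] A)
    (h : ℓ.baseChange p.asIdeal.ResidueField = 0) (x : H) : ℓ x ∈ p.asIdeal := by
  have h1 : ℓ.baseChange p.asIdeal.ResidueField ((1 : p.asIdeal.ResidueField) ⊗ₜ[A] x) = 0 := by
    rw [h]; rfl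
  rw [LinearMap.baseChange_tmul] at h1
  have h2 := congrArg (TensorProduct.rid A p.asIdeal.ResidueField) h1
  rw [TensorProduct.rid_tmul, map_zero, Algebra.smul_def, mul_one] at h2
  exact Ideal.algebraMap_residueField_eq_zero.mp h2

variable [Module.Finite A H] [Module.Projective A H]

theorem isNilpotent_of_baseChange_eq_zero (ψ : H →ₗ[A] H)
    (h : ∀ p : PrimeSpectrum A, ψ.baseChange p.asIdeal.ResidueField = 0) : IsNilpotent ψ := by
  classical
  obtain ⟨n, f, g, hf, -, hfg⟩ := Module.Finite.exists_comp_eq_id_of_projective A H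
  -- the coefficients
  let c : Fin n → Fin n → A := fun i k => g (ψ (f (Pi.single i 1))) k
  have hc : ∀ i k, IsNilpotent (c i k) := by
    intro i k
    rw [nilpotent_iff_mem_prime]
    intro J hJ
    let p : PrimeSpectrum A := ⟨J, hJ⟩
    let ℓ : H →ₗ[A] A := (LinearMap.proj k) ∘ₗ g ∘ₗ ψ
    have hℓ : ℓ.baseChange p.asIdeal.ResidueField = 0 := by
      show ((LinearMap.proj k ∘ₗ g) ∘ₗ ψ).baseChange p.asIdeal.ResidueField = 0
      rw [LinearMap.baseChange_comp, h p, LinearMap.comp_zero]
    exact mem_of_baseChange_eq_zero p ℓ hℓ _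
  let I : Ideal A := Ideal.span (Set.range fun ik : Fin n × Fin n => c ik.1 ik.2)
  have hIfg : I.FG := ⟨Finset.univ.image fun ik : Fin n × Fin n => c ik.1 ik.2, by
    simp [I]⟩
  have hInil : IsNilpotent I := by
    rw [Ideal.FG.isNilpotent_iff_le_nilradical hIfg]
    rw [Ideal.span_le]
    rintro _ ⟨ik, rfl⟩
    exact mem_nilradical.mpr (hc ik.1 ik.2)
  obtain ⟨e, he⟩ := hInil
  -- `ψ` maps `H` into `I H`
  have hspan : Submodule.span A (Set.range fun i : Fin n => f (Pi.single i 1)) = ⊤ := by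
    rw [eq_top_iff]
    intro y _
    obtain ⟨v, rfl⟩ := hf y
    have : v = ∑ i, v i • (Pi.single i 1 : Fin n → A) := by
      funext j
      simp [Finset.sum_apply, Pi.single_apply]
    rw [this, map_sum]
    refine Submodule.sum_mem _ fun i _ => ?_
    rw [map_smul]
    exact Submodule.smul_mem _ _ (Submodule.subset_span ⟨i, rfl⟩)
  have h1 : Submodule.map ψ ⊤ ≤ I • (⊤ : Submodule A H) := by
    conv_lhs => rw [← hspan]
    rw [Submodule.map_span, Submodule.span_le]
    rintro _ ⟨_, ⟨i, rfl⟩, rfl⟩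
    have hx : ψ (f (Pi.single i 1)) = f (g (ψ (f (Pi.single i 1)))) := by
      have := LinearMap.congr_fun hfg (ψ (f (Pi.single i 1)))
      simpa using this.symm
    have hg : g (ψ (f (Pi.single i 1))) = ∑ k, c i k • (Pi.single k 1 : Fin n → A) := by
      funext j
      simp [Finset.sum_apply, Pi.single_apply, c]
    rw [SetLike.mem_coe, hx, hg, map_sum]
    refine Submodule.sum_mem _ fun k _ => ?_
    rw [map_smul]
    exact Submodule.smul_mem_smul (Ideal.subset_span ⟨(i, k), rfl⟩) Submodule.mem_top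
  have h2 : ∀ j : ℕ, Submodule.map (ψ ^ j) ⊤ ≤ (I ^ j) • (⊤ : Submodule A H) := by
    intro j
    induction j with
    | zero => simp
    | succ j ih =>
      rw [pow_succ', Module.End.mul_eq_comp, Submodule.map_comp]
      calc Submodule.map ψ (Submodule.map (ψ ^ j) ⊤)
          ≤ Submodule.map ψ ((I ^ j) • ⊤) := Submodule.map_mono ih
        _ = (I ^ j) • Submodule.map ψ ⊤ := Submodule.map_smul'' _ _ _
        _ ≤ (I ^ j) • (I • ⊤) := Submodule.smul_mono le_rfl h1
        _ = (I ^ (j + 1)) • ⊤ := by rw [← Submodule.mul_smul, ← pow_succ]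
  refine ⟨e, ?_⟩
  ext x
  have := h2 e (Submodule.mem_map_of_mem (Submodule.mem_top : x ∈ ⊤))
  rw [he, Ideal.zero_eq_bot, Submodule.bot_smul, Submodule.mem_bot] at this
  simpa using this

end LA1

section LA2

variable {L : Type v} [AddCommGroup L] [Module A L] [Module.Finite A L]

theorem eq_top_of_forall_maximal (N : Submodule A L)
    (h : ∀ m : Ideal A, m.IsMaximal → N ⊔ m • (⊤ : Submodule A L) = ⊤) : N = ⊤ := by
  by_contra hN
  have hann : Module.annihilator A (L ⧸ N) ≠ ⊤ := by
    intro htop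
    apply hN
    rw [eq_top_iff]
    intro y _
    have h1 : (1 : A) ∈ Module.annihilator A (L ⧸ N) := by rw [htop]; trivial
    have h2 := Module.mem_annihilator.mp h1 (Submodule.Quotient.mk y)
    rw [one_smul] at h2
    exact (Submodule.Quotient.mk_eq_zero N).mp h2
  obtain ⟨m, hm, hle⟩ := Ideal.exists_le_maximal _ hann
  have h3 : (⊤ : Submodule A (L ⧸ N)) ≤ m • ⊤ := by
    intro q _
    obtain ⟨y, rfl⟩ := Submodule.Quotient.mk_surjective N q
    have hy : y ∈ N ⊔ m • (⊤ : Submodule A L) := by rw [h m hm]; trivial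
    obtain ⟨n, hn, z, hz, rfl⟩ := Submodule.mem_sup.mp hy
    rw [Submodule.Quotient.mk_add, (Submodule.Quotient.mk_eq_zero N).mpr hn, zero_add]
    have : Submodule.Quotient.mk z ∈ Submodule.map N.mkQ (m • (⊤ : Submodule A L)) :=
      Submodule.mem_map_of_mem hz
    rw [Submodule.map_smul''] at this
    exact Submodule.smul_mono le_rfl le_top this
  obtain ⟨r, hr1, hr2⟩ := Submodule.exists_sub_one_mem_and_smul_eq_zero_of_fg_of_le_smul m
    (⊤ : Submodule A (L ⧸ N)) Module.Finite.fg_top h3
  have hr : r ∈ m := hle (Module.mem_annihilator.mpr fun q => hr2 q Submodule.mem_top)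
  have : (1 : A) ∈ m := by
    have := m.sub_mem hr hr1
    simpa using this
  exact hm.ne_top ((Ideal.eq_top_iff_one m).mpr this)

end LA2

section LA3

variable {L : Type v} [AddCommGroup L] [Module A L]

theorem exists_tmul_one_eq (m : Ideal A) [m.IsMaximal] (ξ : m.ResidueField ⊗[A] L) :
    ∃ y : L, ξ = (1 : m.ResidueField) ⊗ₜ[A] y := by
  induction ξ using TensorProduct.induction_on with
  | zero => exact ⟨0, by simp⟩
  | tmul c y =>
    obtain ⟨r, rfl⟩ := Ideal.algebraMap_residueField_surjective m c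
    refine ⟨r • y, ?_⟩
    rw [TensorProduct.tmul_smul, TensorProduct.smul_tmul', Algebra.smul_def, mul_one]
  | add ξ₁ ξ₂ h₁ h₂ =>
    obtain ⟨y₁, rfl⟩ := h₁
    obtain ⟨y₂, rfl⟩ := h₂
    exact ⟨y₁ + y₂, by rw [TensorProduct.tmul_add]⟩

theorem mem_smul_top_of_tmul_eq_zero (m : Ideal A) [m.IsMaximal] (y : L)
    (h : (1 : m.ResidueField) ⊗ₜ[A] y = 0) : y ∈ m • (⊤ : Submodule A L) := by
  let e₀ : (A ⧸ m) →ₗ[A] m.ResidueField := (IsScalarTower.toAlgHom A (A ⧸ m) m.ResidueField).toLinearMap
  have he₀ : Function.Bijective e₀ := m.bijective_algebraMap_quotient_residueField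
  let e : (A ⧸ m) ≃ₗ[A] m.ResidueField := LinearEquiv.ofBijective e₀ he₀
  let E : ((A ⧸ m) ⊗[A] L) ≃ₗ[A] (m.ResidueField ⊗[A] L) :=
    TensorProduct.congr e (LinearEquiv.refl A L)
  have h1 : E ((1 : A ⧸ m) ⊗ₜ[A] y) = (1 : m.ResidueField) ⊗ₜ[A] y := by
    show (e 1) ⊗ₜ[A] y = _
    congr 1
    show algebraMap (A ⧸ m) m.ResidueField 1 = 1
    exact map_one _
  have h2 : ((1 : A ⧸ m) ⊗ₜ[A] y : (A ⧸ m) ⊗[A] L) = 0 := by
    apply E.injective
    rw [h1, h, map_zero]
  have h3 := congrArg (TensorProduct.quotTensorEquivQuotSMul L m) h2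
  rw [map_zero] at h3
  have h4 : TensorProduct.quotTensorEquivQuotSMul L m ((1 : A ⧸ m) ⊗ₜ[A] y) =
      Submodule.Quotient.mk y := by
    show TensorProduct.quotTensorEquivQuotSMul L m ((Ideal.Quotient.mk m 1) ⊗ₜ[A] y) = _
    rw [TensorProduct.quotTensorEquivQuotSMul_mk_tmul, one_smul]
  rw [h4] at h3
  exact (Submodule.Quotient.mk_eq_zero _).mp h3

end LA3

end Groth.Agent.Helper20.CartRel
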