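import Mathlib
import Groth.Agent.Lib.Helper20.CartRel1

/-!
# A submodule whose fibres are the generalized kernels of an endomorphism (helper20)

Let `L` be a finite projective `A`-module, `H ≤ L` with `L/H` projective, `φ` an endomorphism of `L`
preserving `H`, such that for every prime `p` the image of `κ(p) ⊗ H` in `κ(p) ⊗ L` is the
generalized kernel of `κ(p) ⊗ φ`.  Then `H` is the generalized kernel of `φ` and `φ` is bijective on
`L/H`.
-/

set_option autoImplicit false
set_option linter.unusedSectionVars false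
set_option linter.style.haveILetI false
universe u

namespace Groth.Agent.Helper20.CartRel

open TensorProduct

variable {A : Type u} [CommRing A] {L : Type u} [AddCommGroup L] [Module A L]
  [Module.Finite A L] [Module.Projective A L]
  (φ : L →ₗ[A] L) (H : Submodule A L) (hφH : ∀ h ∈ H, φ h ∈ H) [Module.Projective A (L ⧸ H)]

theorem mem_maxGenEigenspace_zero {R M : Type*} [CommRing R] [AddCommGroup M] [Module R M]
    (f : Module.End R M) (m : M) :
    m ∈ f.maxGenEigenspace 0 ↔ ∃ k : ℕ, (f ^ k) m = 0 := by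
  rw [Module.End.mem_maxGenEigenspace]
  simp only [zero_smul, sub_zero]

theorem mem_genEigenspace_zero_nat {R M : Type*} [CommRing R] [AddCommGroup M] [Module R M]
    (f : Module.End R M) (k : ℕ) (m : M) :
    m ∈ f.genEigenspace 0 k ↔ (f ^ k) m = 0 := by
  rw [Module.End.mem_genEigenspace_nat, LinearMap.mem_ker]
  simp only [zero_smul, sub_zero]

/-- a retraction of `L` onto `H` -/
theorem exists_retraction : ∃ r : L →ₗ[A] H, r ∘ₗ H.subtype = LinearMap.id := by
  obtain ⟨s, hs⟩ := Module.projective_lifting_property H.mkQ LinearMap.id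
    (Submodule.mkQ_surjective H)
  have hmem : ∀ x : L, ((LinearMap.id : L →ₗ[A] L) - s ∘ₗ H.mkQ) x ∈ H := by
    intro x
    rw [← Submodule.Quotient.mk_eq_zero H]
    have := LinearMap.congr_fun hs (H.mkQ x)
    simp only [LinearMap.coe_comp, Function.comp_apply, LinearMap.id_coe, id_eq] at this
    simp only [LinearMap.sub_apply, LinearMap.id_coe, id_eq, LinearMap.coe_comp,
      Function.comp_apply, Submodule.Quotient.mk_sub]
    rw [← Submodule.mkQ_apply, ← Submodule.mkQ_apply, this, sub_self]
  refine ⟨LinearMap.codRestrict H ((LinearMap.id : L →ₗ[A] L) - s ∘ₗ H.mkQ) hmem, ?_⟩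
  ext h
  simp only [LinearMap.coe_comp, Function.comp_apply, Submodule.subtype_apply,
    LinearMap.codRestrict_apply, LinearMap.sub_apply, LinearMap.id_coe, id_eq,
    Submodule.mkQ_apply]
  rw [(Submodule.Quotient.mk_eq_zero H).mpr h.2, map_zero, sub_zero]

theorem finite_sub : Module.Finite A H := by
  obtain ⟨r, hr⟩ := exists_retraction H
  exact Module.Finite.of_surjective r (fun h => ⟨h, LinearMap.congr_fun hr h⟩)

theorem projective_sub : Module.Projective A H := by
  obtain ⟨r, hr⟩ := exists_retraction H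
  exact Module.Projective.of_split H.subtype r hr

theorem baseChange_subtype_injective (κ : Type u) [CommRing κ] [Algebra A κ] :
    Function.Injective (H.subtype.baseChange κ) := by
  obtain ⟨r, hr⟩ := exists_retraction H
  apply Function.LeftInverse.injective (g := r.baseChange κ)
  intro η
  have : (r.baseChange κ) ∘ₗ (H.subtype.baseChange κ) = LinearMap.id := by
    rw [← LinearMap.baseChange_comp, hr, LinearMap.baseChange_id]
  exact LinearMap.congr_fun this η

theorem finrank_fibre_le :
    ∃ n : ℕ, ∀ p : PrimeSpectrum A,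
      Module.finrank p.asIdeal.ResidueField (p.asIdeal.ResidueField ⊗[A] L) ≤ n := by
  obtain ⟨n, f, hf⟩ := Module.Finite.exists_fin' A L
  refine ⟨n, fun p => ?_⟩
  have hs : Function.Surjective (f.baseChange p.asIdeal.ResidueField) :=
    LinearMap.lTensor_surjective _ hf
  have h1 := LinearMap.finrank_le_finrank_of_surjective (R := p.asIdeal.ResidueField) hs
  have h2 : Module.finrank p.asIdeal.ResidueField (p.asIdeal.ResidueField ⊗[A] (Fin n → A)) = n := by
    rw [(TensorProduct.piScalarRight A p.asIdeal.ResidueField p.asIdeal.ResidueField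
      (Fin n)).finrank_eq, Module.finrank_fin_fun]
  exact h1.trans_eq h2

omit [Module.Finite A L] [Module.Projective A L] [Module.Projective A (L ⧸ H)] in
theorem baseChange_pow_comm (κ : Type u) [CommRing κ] [Algebra A κ] (k : ℕ) :
    (H.subtype.baseChange κ) ∘ₗ (((φ.restrict hφH).baseChange κ) ^ k) =
      ((φ.baseChange κ) ^ k) ∘ₗ (H.subtype.baseChange κ) := by
  induction k with
  | zero => rw [pow_zero, pow_zero]; rfl
  | succ k ih =>
    have h1 : (H.subtype.baseChange κ) ∘ₗ ((φ.restrict hφH).baseChange κ) =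
        (φ.baseChange κ) ∘ₗ (H.subtype.baseChange κ) := by
      rw [← LinearMap.baseChange_comp, ← LinearMap.baseChange_comp]
      congr 1
    rw [pow_succ, Module.End.mul_eq_comp, ← LinearMap.comp_assoc, ih, LinearMap.comp_assoc, h1,
      ← LinearMap.comp_assoc, ← Module.End.mul_eq_comp, ← pow_succ]

variable (hfib : ∀ p : PrimeSpectrum A,
  LinearMap.range (H.subtype.baseChange p.asIdeal.ResidueField) =
    Module.End.maxGenEigenspace (φ.baseChange p.asIdeal.ResidueField) 0)

include hfib in
theorem restrict_isNilpotent : IsNilpotent (φ.restrict hφH) := by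
  haveI := finite_sub H
  haveI := projective_sub H
  by_cases hne : Nonempty (PrimeSpectrum A)
  swap
  · -- trivial ring
    haveI : Subsingleton A := by
      by_contra h
      rw [not_subsingleton_iff_nontrivial] at h
      exact hne inferInstance
    haveI : Subsingleton H := Module.subsingleton A H
    exact ⟨1, Subsingleton.elim _ _⟩
  obtain ⟨p₀⟩ := hne
  obtain ⟨n, hn⟩ := finrank_fibre_le (A := A) (L := L)
  suffices h : IsNilpotent ((φ.restrict hφH) ^ n) by
    obtain ⟨e, he⟩ := h
    exact ⟨n * e, by rw [pow_mul, he]⟩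
  apply isNilpotent_of_baseChange_eq_zero
  intro p
  let κ := p.asIdeal.ResidueField
  let ψ := φ.restrict hφH
  show (ψ ^ n).baseChange κ = 0
  -- intertwining
  have hint : ∀ k : ℕ, (H.subtype.baseChange κ) ∘ₗ ((ψ.baseChange κ) ^ k) =
      ((φ.baseChange κ) ^ k) ∘ₗ (H.subtype.baseChange κ) := by
    intro k
    induction k with
    | zero => rw [pow_zero, pow_zero]; rfl
    | succ k ih =>
      have h1 : (H.subtype.baseChange κ) ∘ₗ (ψ.baseChange κ) =
          (φ.baseChange κ) ∘ₗ (H.subtype.baseChange κ) := by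
        rw [← LinearMap.baseChange_comp, ← LinearMap.baseChange_comp]
        congr 1
      rw [pow_succ, Module.End.mul_eq_comp, ← LinearMap.comp_assoc, ih, LinearMap.comp_assoc, h1,
        ← LinearMap.comp_assoc, ← Module.End.mul_eq_comp, ← pow_succ]
  have hpow : (ψ ^ n).baseChange κ = (ψ.baseChange κ) ^ n :=
    map_pow (Module.End.baseChangeHom A κ H) ψ n
  rw [hpow]
  refine LinearMap.ext fun η => ?_
  apply baseChange_subtype_injective H κ
  have h1 : H.subtype.baseChange κ η ∈
      Module.End.maxGenEigenspace (φ.baseChange κ) 0 := by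
    rw [← hfib p]; exact LinearMap.mem_range_self _ η
  rw [Module.End.maxGenEigenspace_eq_genEigenspace_finrank, mem_genEigenspace_zero_nat] at h1
  have h2 : ((φ.baseChange κ) ^ n) (H.subtype.baseChange κ η) = 0 := by
    obtain ⟨j, hj⟩ := Nat.exists_eq_add_of_le (hn p)
    rw [hj, add_comm, pow_add, Module.End.mul_apply]
    exact (congrArg _ h1).trans (map_zero _)
  have h3 := LinearMap.congr_fun (hint n) η
  simp only [LinearMap.coe_comp, Function.comp_apply] at h3
  rw [h3, h2, LinearMap.zero_apply, map_zero]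

include hfib hφH in
theorem le_maxGenEigenspace : H ≤ Module.End.maxGenEigenspace φ 0 := by
  obtain ⟨e, he⟩ := restrict_isNilpotent φ H hφH hfib
  intro h hh
  rw [mem_maxGenEigenspace_zero]
  refine ⟨e, ?_⟩
  have h1 := LinearMap.congr_fun he ⟨h, hh⟩
  rw [Module.End.pow_restrict, LinearMap.zero_apply] at h1
  exact congrArg Subtype.val h1

include hfib hφH in
/-- `φ` is surjective modulo `H` -/
theorem sup_range_eq_top : H ⊔ LinearMap.range φ = ⊤ := by
  apply eq_top_of_forall_maximal
  intro m hm
  rw [eq_top_iff]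
  intro y _
  let p : PrimeSpectrum A := ⟨m, hm.isPrime⟩
  let κ := m.ResidueField
  -- Fitting decomposition in the fibre
  obtain ⟨k, hk, hk1⟩ := ((φ.baseChange κ).eventually_isCompl_ker_pow_range_pow.and
    (Filter.eventually_ge_atTop 1)).exists
  have hy : ((1 : κ) ⊗ₜ[A] y : κ ⊗[A] L) ∈
      LinearMap.ker ((φ.baseChange κ) ^ k) ⊔ LinearMap.range ((φ.baseChange κ) ^ k) := by
    rw [hk.sup_eq_top]; trivial
  obtain ⟨η', hη', ζ', hζ', hsum⟩ := Submodule.mem_sup.mp hy
  have hη'' : η' ∈ LinearMap.range (H.subtype.baseChange κ) := by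
    rw [hfib p, mem_maxGenEigenspace_zero]
    exact ⟨k, LinearMap.mem_ker.mp hη'⟩
  obtain ⟨η, rfl⟩ := hη''
  obtain ⟨h, rfl⟩ := exists_tmul_one_eq m η
  obtain ⟨ξ, rfl⟩ := hζ'
  obtain ⟨j, rfl⟩ : ∃ j, k = j + 1 := ⟨k - 1, by omega⟩
  obtain ⟨z, hz⟩ := exists_tmul_one_eq m (((φ.baseChange κ) ^ j) ξ)
  have h0 : ((1 : κ) ⊗ₜ[A] (y - (h : L) - φ z) : κ ⊗[A] L) = 0 := by
    rw [TensorProduct.tmul_sub, TensorProduct.tmul_sub, ← hsum, pow_succ', Module.End.mul_apply,
      hz]
    simp
  have h1 := mem_smul_top_of_tmul_eq_zero m _ h0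
  have h2 : y = ((h : L) + φ z) + (y - (h : L) - φ z) := by abel
  rw [h2]
  exact Submodule.add_mem_sup
    (Submodule.add_mem_sup h.2 (LinearMap.mem_range_self φ z)) h1

include hfib hφH in
theorem mapQ_bijective :
    Function.Bijective (H.mapQ H φ (fun h hh => hφH h hh)) := by
  refine OrzechProperty.bijective_of_surjective_endomorphism _ ?_
  intro q
  obtain ⟨y, rfl⟩ := Submodule.Quotient.mk_surjective H q
  have hy : y ∈ H ⊔ LinearMap.range φ := by
    rw [sup_range_eq_top φ H hφH hfib]; trivial
  obtain ⟨h, hh, _, ⟨z, rfl⟩, rfl⟩ := Submodule.mem_sup.mp hy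
  refine ⟨Submodule.Quotient.mk z, ?_⟩
  rw [Submodule.mapQ_apply, Submodule.Quotient.mk_add,
    (Submodule.Quotient.mk_eq_zero H).mpr hh, zero_add]

theorem mapQ_pow_mk (k : ℕ) (y : L) :
    ((H.mapQ H φ (fun h hh => hφH h hh)) ^ k) (Submodule.Quotient.mk y) =
      Submodule.Quotient.mk ((φ ^ k) y) := by
  induction k generalizing y with
  | zero => simp
  | succ k ih =>
    rw [pow_succ, Module.End.mul_apply, Submodule.mapQ_apply, ih, pow_succ, Module.End.mul_apply]

include hfib hφH in
theorem maxGenEigenspace_le : Module.End.maxGenEigenspace φ 0 ≤ H := by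
  intro y hy
  rw [mem_maxGenEigenspace_zero] at hy
  obtain ⟨k, hk⟩ := hy
  have hinj : Function.Injective ((H.mapQ H φ (fun h hh => hφH h hh)) ^ k) := by
    rw [Module.End.coe_pow]
    exact (mapQ_bijective φ H hφH hfib).1.iterate k
  rw [← Submodule.Quotient.mk_eq_zero H]
  apply hinj
  rw [mapQ_pow_mk, hk, Submodule.Quotient.mk_zero, map_zero]

include hfib hφH in
/-- the main lemma -/
theorem eq_maxGenEigenspace : H = Module.End.maxGenEigenspace φ 0 :=
  le_antisymm (le_maxGenEigenspace φ H hφH hfib) (maxGenEigenspace_le φ H hφH hfib)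

include hfib hφH in
theorem exists_sub_mem (y : L) : ∃ z : L, φ z - y ∈ H := by
  have hy : y ∈ H ⊔ LinearMap.range φ := by
    rw [sup_range_eq_top φ H hφH hfib]; trivial
  obtain ⟨h, hh, _, ⟨z, rfl⟩, rfl⟩ := Submodule.mem_sup.mp hy
  refine ⟨z, ?_⟩
  have : φ z - (h + φ z) = -h := by abel
  rw [this]
  exact H.neg_mem hh

end Groth.Agent.Helper20.CartRel
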