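import Mathlib
import Groth.Prelude.Def_W4sga3xiixivxvCartan
import Groth.Agent.Lib.Helper20.CartRel2

/-!
# Relative Cartan subalgebras containing a quasi-regular element are Engel subalgebras (helper20)
-/

set_option autoImplicit false
set_option linter.unusedSectionVars false
set_option linter.style.haveILetI false
universe u

namespace Groth.Agent.Helper20.CartRel

open TensorProduct LieAlgebra

variable {A : Type u} [CommRing A] {L : Type u} [LieRing L] [LieAlgebra A L]
  [Module.Finite A L] [Module.Projective A L]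

/-- `ad a` as a linear endomorphism -/
noncomputable abbrev adL (a : L) : L →ₗ[A] L := LieAlgebra.ad A L a

theorem adL_apply (a y : L) : adL (A := A) a y = ⁅a, y⁆ := rfl

theorem adL_baseChange (κ : Type u) [CommRing κ] [Algebra A κ] (a : L) :
    (adL (A := A) a).baseChange κ = LieAlgebra.ad κ (κ ⊗[A] L) ((1 : κ) ⊗ₜ[A] a) :=
  (LieModule.toEnd_baseChange (R := A) (A := κ) (L := L) (M := L) a).symm

theorem engel_toSubmodule (κ : Type u) [Field κ] [Algebra A κ] (a : L) :
    (LieSubalgebra.engel κ ((1 : κ) ⊗ₜ[A] a)).toSubmodule =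
      Module.End.maxGenEigenspace ((adL (A := A) a).baseChange κ) 0 := by
  rw [adL_baseChange]
  rfl

variable (H : LieSubalgebra A L) (a : L) (haH : a ∈ H)

include haH in
theorem adL_mem (h : L) (hh : h ∈ H.toSubmodule) : adL (A := A) a h ∈ H.toSubmodule :=
  H.lie_mem haH hh

/-- the restriction of `ad a` to `H` is `ad` of `a` in `H` -/
theorem restrict_eq_toEnd :
    (adL (A := A) a).restrict (adL_mem H a haH) =
      LieModule.toEnd A H H (⟨a, haH⟩ : H) := by
  ext h
  rfl

include haH in
/-- the fibre of a subalgebra with nilpotent fibre lies in the Engel subalgebra -/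
theorem fibre_le_engel (p : PrimeSpectrum A)
    (hnil : LieRing.IsNilpotent (p.asIdeal.ResidueField ⊗[A] H)) :
    SGA3t2b.fibreSubmodule p H ≤
      (LieSubalgebra.engel p.asIdeal.ResidueField
        ((1 : p.asIdeal.ResidueField) ⊗ₜ[A] a)).toSubmodule := by
  rintro _ ⟨η, rfl⟩
  rw [engel_toSubmodule, mem_maxGenEigenspace_zero]
  obtain ⟨k, hk⟩ := LieModule.exists_forall_pow_toEnd_eq_zero p.asIdeal.ResidueField
    (p.asIdeal.ResidueField ⊗[A] H) (p.asIdeal.ResidueField ⊗[A] H)
  refine ⟨k, ?_⟩
  have h1 := hk ((1 : p.asIdeal.ResidueField) ⊗ₜ[A] (⟨a, haH⟩ : H))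
  rw [LieModule.toEnd_baseChange, ← restrict_eq_toEnd H a haH] at h1
  have h2 := LinearMap.congr_fun
    (baseChange_pow_comm (adL (A := A) a) H.toSubmodule (adL_mem H a haH)
      p.asIdeal.ResidueField k) η
  simp only [LinearMap.coe_comp, Function.comp_apply] at h2
  rw [← h2, h1, LinearMap.zero_apply, map_zero]

include haH in
theorem fibre_eq_engel (hH : SGA3t2b.IsCartanRel H) (ha : SGA3t2b.IsQuasiRegular A L a)
    (p : PrimeSpectrum A) :
    SGA3t2b.fibreSubmodule p H =
      (LieSubalgebra.engel p.asIdeal.ResidueField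
        ((1 : p.asIdeal.ResidueField) ⊗ₜ[A] a)).toSubmodule := by
  obtain ⟨hnil, -, hrank⟩ := hH.2 p
  apply Submodule.eq_of_le_of_finrank_eq (fibre_le_engel H a haH p hnil)
  rw [hrank]
  exact ((LieAlgebra.isRegular_iff_finrank_engel_eq_rank p.asIdeal.ResidueField _).mp
    (ha p)).symm

include haH in
theorem hfib_of_cartan (hH : SGA3t2b.IsCartanRel H) (ha : SGA3t2b.IsQuasiRegular A L a)
    (p : PrimeSpectrum A) :
    LinearMap.range (H.toSubmodule.subtype.baseChange p.asIdeal.ResidueField) =
      Module.End.maxGenEigenspace ((adL (A := A) a).baseChange p.asIdeal.ResidueField) 0 := by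
  rw [← engel_toSubmodule]
  exact fibre_eq_engel H a haH hH ha p

theorem engel_toSubmodule' (a : L) :
    (LieSubalgebra.engel A a).toSubmodule = Module.End.maxGenEigenspace (adL (A := A) a) 0 := rfl

include haH in
/-- **S8372, first part**: a relative Cartan subalgebra containing a quasi-regular element `a` is
the Engel subalgebra of `a`. -/
theorem eq_engel (hH : SGA3t2b.IsCartanRel H) (ha : SGA3t2b.IsQuasiRegular A L a) :
    H = LieSubalgebra.engel A a := by
  haveI : Module.Projective A (L ⧸ H.toSubmodule) := hH.1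
  apply LieSubalgebra.toSubmodule_injective
  rw [engel_toSubmodule']
  exact eq_maxGenEigenspace (adL (A := A) a) H.toSubmodule (adL_mem H a haH)
    (hfib_of_cartan H a haH hH ha)

include haH in
theorem exists_lie_sub_mem (hH : SGA3t2b.IsCartanRel H) (ha : SGA3t2b.IsQuasiRegular A L a)
    (y : L) : ∃ z : L, ⁅a, z⁆ - y ∈ H := by
  haveI : Module.Projective A (L ⧸ H.toSubmodule) := hH.1
  exact exists_sub_mem (adL (A := A) a) H.toSubmodule (adL_mem H a haH)
    (hfib_of_cartan H a haH hH ha) y

end Groth.Agent.Helper20.CartRel
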