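import Mathlib

/-!
# Regular elements of Lie algebras and field extensions; Engel subalgebras of regular elements
(helper20)

* `isRegular_baseChange`: regular elements stay regular after a field extension.
* `engel_le_engel_of_isRegular`: if `x` is regular then `engel x ≤ engel y` for all `y ∈ engel x`
  (over an arbitrary field).
-/

set_option autoImplicit false
set_option linter.unusedSectionVars false
set_option linter.style.haveILetI false
universe u v

namespace Groth.Agent.Helper20.CartRel

open TensorProduct LieAlgebra Polynomial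

theorem natTrailingDegree_map_of_injective {R S : Type*} [Semiring R] [Semiring S] (f : R →+* S)
    (hf : Function.Injective f) (p : R[X]) :
    (p.map f).natTrailingDegree = p.natTrailingDegree := by
  unfold Polynomial.natTrailingDegree Polynomial.trailingDegree
  rw [Polynomial.support_map_of_injective p hf]

section BaseChange

attribute [local instance 100] LieRing.ofAssociativeRing

variable (F : Type u) (K : Type u) [Field F] [Field K] [Algebra F K]
  (L : Type v) [LieRing L] [LieAlgebra F L] [Module.Finite F L]

theorem toEnd_baseChange_eq :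
    LieHom.toLinearMap (LieModule.toEnd K (K ⊗[F] L) (K ⊗[F] L)) =
      (LinearMap.tensorProduct F K L L) ∘ₗ
        ((LieHom.toLinearMap (LieModule.toEnd F L L)).baseChange K) := by
  apply TensorProduct.AlgebraTensorModule.ext
  intro a x
  have h1 : (a ⊗ₜ[F] x : K ⊗[F] L) = a • ((1 : K) ⊗ₜ[F] x) := by
    rw [TensorProduct.smul_tmul', smul_eq_mul, mul_one]
  simp only [LinearMap.coe_comp, Function.comp_apply, LinearMap.baseChange_tmul,
    LieHom.coe_toLinearMap]
  rw [h1, map_smul, LieModule.toEnd_baseChange]
  ext y
  simp [LinearMap.tensorProduct]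

theorem rank_baseChange : LieAlgebra.rank K (K ⊗[F] L) = LieAlgebra.rank F L := by
  classical
  let b := Module.Free.chooseBasis F L
  rw [LieAlgebra.rank_eq_natTrailingDegree K (K ⊗[F] L) (Algebra.TensorProduct.basis K b),
    LieAlgebra.rank_eq_natTrailingDegree F L b]
  have h1 : (LieAlgebra.ad K (K ⊗[F] L)).toLinearMap =
      (LinearMap.tensorProduct F K L L) ∘ₗ ((LieAlgebra.ad F L).toLinearMap.baseChange K) :=
    toEnd_baseChange_eq F K L
  rw [h1, LinearMap.polyCharpoly_baseChange]
  exact natTrailingDegree_map_of_injective _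
    (MvPolynomial.map_injective _ (algebraMap F K).injective) _

variable {L} in
theorem isRegular_baseChange (x : L) (hx : LieAlgebra.IsRegular F x) :
    LieAlgebra.IsRegular K ((1 : K) ⊗ₜ[F] x) := by
  rw [LieAlgebra.isRegular_iff_natTrailingDegree_charpoly_eq_rank] at hx ⊢
  rw [rank_baseChange, ← hx]
  have h1 : LieAlgebra.ad K (K ⊗[F] L) ((1 : K) ⊗ₜ[F] x) = (LieAlgebra.ad F L x).baseChange K :=
    LieModule.toEnd_baseChange (R := F) (A := K) (L := L) (M := L) x
  rw [h1, LinearMap.charpoly_baseChange]
  exact natTrailingDegree_map_of_injective _ (algebraMap F K).injective _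

end BaseChange

section EngelLe

attribute [local instance 100] LieRing.ofAssociativeRing

open Module Cardinal LieSubalgebra

/-- over a field with enough elements: if `x` is regular then `engel x ≤ engel y` for all
`y ∈ engel x` (extracted from Mathlib's proof of existence of Cartan subalgebras). -/
theorem engel_le_engel_of_isRegular_of_card {K : Type*} {L : Type*} [Field K] [LieRing L]
    [LieAlgebra K L] [Module.Finite K L] (h : finrank K L ≤ #K) (x : L)
    (hx : LieAlgebra.IsRegular K x) (y : L) (hy : y ∈ engel K x) : engel K x ≤ engel K y := by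
  let Ex : {engel K z | z ∈ engel K x} := ⟨engel K x, x, self_mem_engel _ _, rfl⟩
  suffices IsBot Ex from @this ⟨engel K y, y, hy, rfl⟩
  apply LieAlgebra.engel_isBot_of_isMin h (engel K x) Ex le_rfl
  rintro ⟨_, y, hy, rfl⟩ hyx
  suffices finrank K (engel K x) ≤ finrank K (engel K y) by
    suffices engel K y = engel K x from this.ge
    apply LieSubalgebra.toSubmodule_injective
    exact Submodule.eq_of_le_of_finrank_le hyx this
  rw [(LieAlgebra.isRegular_iff_finrank_engel_eq_rank K x).mp hx]
  apply LieAlgebra.rank_le_finrank_engel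

theorem ad_baseChange_pow_tmul (F : Type u) (K : Type u) [Field F] [Field K] [Algebra F K]
    {L : Type v} [LieRing L] [LieAlgebra F L] (y z : L) (k : ℕ) :
    ((LieAlgebra.ad K (K ⊗[F] L) ((1 : K) ⊗ₜ[F] y)) ^ k) ((1 : K) ⊗ₜ[F] z) =
      (1 : K) ⊗ₜ[F] (((LieAlgebra.ad F L y) ^ k) z) := by
  induction k generalizing z with
  | zero => simp
  | succ k ih =>
    rw [pow_succ, Module.End.mul_apply, pow_succ, Module.End.mul_apply]
    rw [← ih]
    congr 1
    simp [LieAlgebra.ad_apply]

/-- over an arbitrary field: if `x` is regular then `engel x ≤ engel y` for all `y ∈ engel x`. -/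
theorem engel_le_engel_of_isRegular (F : Type u) [Field F] {L : Type v} [LieRing L]
    [LieAlgebra F L] [Module.Finite F L] (x : L) (hx : LieAlgebra.IsRegular F x) (y : L)
    (hy : y ∈ engel F x) : engel F x ≤ engel F y := by
  let K := AlgebraicClosure F
  have hcard : finrank K (K ⊗[F] L) ≤ #K :=
    natCast_le_aleph0.trans (Cardinal.infinite_iff.mp inferInstance)
  have hx' := isRegular_baseChange F K x hx
  have hy' : ((1 : K) ⊗ₜ[F] y) ∈ engel K ((1 : K) ⊗ₜ[F] x) := by
    rw [mem_engel_iff] at hy ⊢
    obtain ⟨n, hn⟩ := hy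
    refine ⟨n, ?_⟩
    rw [ad_baseChange_pow_tmul, hn, TensorProduct.tmul_zero]
  have hle := engel_le_engel_of_isRegular_of_card hcard _ hx' _ hy'
  intro z hz
  have hz' : ((1 : K) ⊗ₜ[F] z) ∈ engel K ((1 : K) ⊗ₜ[F] x) := by
    rw [mem_engel_iff] at hz ⊢
    obtain ⟨n, hn⟩ := hz
    refine ⟨n, ?_⟩
    rw [ad_baseChange_pow_tmul, hn, TensorProduct.tmul_zero]
  have h3 := hle hz'
  rw [mem_engel_iff] at h3 ⊢
  obtain ⟨k, hk⟩ := h3
  refine ⟨k, ?_⟩
  rw [ad_baseChange_pow_tmul] at hk
  have hinj : Function.Injective (TensorProduct.mk F K L 1) :=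
    Module.Flat.tensorProduct_mk_injective F L K
  apply hinj
  rw [map_zero]
  exact hk

end EngelLe

end Groth.Agent.Helper20.CartRel
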