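import Mathlib

/-!
# The rank of a Lie algebra is invariant under isomorphisms (helper20)
-/

set_option autoImplicit false
set_option linter.unusedSectionVars false
set_option linter.style.haveILetI false
universe u v

namespace Groth.Agent.Helper20.CartRel

open TensorProduct LieAlgebra Polynomial Module

section Rank

attribute [local instance 100] LieRing.ofAssociativeRing

theorem rank_eq_of_lieEquiv {K : Type*} [CommRing K] [Nontrivial K] {L L' : Type*} [LieRing L]
    [LieAlgebra K L] [LieRing L'] [LieAlgebra K L'] [Module.Free K L] [Module.Finite K L]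
    [Module.Free K L'] [Module.Finite K L'] (e : L ≃ₗ⁅K⁆ L') :
    LieAlgebra.rank K L = LieAlgebra.rank K L' := by
  classical
  let b := Module.Free.chooseBasis K L
  let b' := b.map e.toLinearEquiv
  rw [LieAlgebra.rank_eq_natTrailingDegree K L b, LieAlgebra.rank_eq_natTrailingDegree K L' b']
  congr 1
  rw [LinearMap.polyCharpoly_eq_of_basis _ b b, LinearMap.polyCharpoly_eq_of_basis _ b' b']
  congr 3
  funext ij
  unfold LinearMap.toMvPolynomial
  congr 1
  ext ij k
  rw [LinearMap.toMatrix_apply, LinearMap.toMatrix_apply, Basis.end_repr_apply,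
    Basis.end_repr_apply]
  obtain ⟨i, j⟩ := ij
  have hM : (LinearMap.toMatrix b b) ((LieAlgebra.ad K L : L →ₗ[K] Module.End K L) (b k)) =
      (LinearMap.toMatrix b' b') ((LieAlgebra.ad K L' : L' →ₗ[K] Module.End K L') (b' k)) := by
    ext i' j'
    rw [LinearMap.toMatrix_apply, LinearMap.toMatrix_apply]
    have h1 : b' k = e (b k) := Basis.map_apply _ _ _
    have h2 : b' j' = e (b j') := Basis.map_apply _ _ _
    have h3 : ((LieAlgebra.ad K L' : L' →ₗ[K] Module.End K L') (b' k)) (b' j') =
        e (((LieAlgebra.ad K L : L →ₗ[K] Module.End K L) (b k)) (b j')) := by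
      rw [h1, h2]
      simp only [LieHom.coe_toLinearMap, LieAlgebra.ad_apply, LieEquiv.map_lie]
    rw [h3]
    simp only [b', Basis.map_repr, LinearEquiv.trans_apply]
    congr 2
    exact (e.toLinearEquiv.symm_apply_apply _).symm
  rw [hM]

end Rank

section Iso

theorem map_lie_of_span {K : Type*} [CommRing K] {M₁ M₂ : Type*} [LieRing M₁] [LieAlgebra K M₁]
    [LieRing M₂] [LieAlgebra K M₂] (e : M₁ →ₗ[K] M₂) (S : Set M₁)
    (hS : Submodule.span K S = ⊤) (h : ∀ x ∈ S, ∀ y ∈ S, e ⁅x, y⁆ = ⁅e x, e y⁆) (x y : M₁) :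
    e ⁅x, y⁆ = ⁅e x, e y⁆ := by
  have hx : x ∈ Submodule.span K S := hS ▸ Submodule.mem_top
  have hy : y ∈ Submodule.span K S := hS ▸ Submodule.mem_top
  induction hx using Submodule.span_induction with
  | mem x hx =>
    induction hy using Submodule.span_induction with
    | mem y hy => exact h x hx y hy
    | zero => simp
    | add y₁ y₂ _ _ h₁ h₂ => rw [lie_add, map_add, h₁, h₂, map_add, lie_add]
    | smul c y _ hy => rw [lie_smul, map_smul, hy, map_smul, lie_smul]
  | zero => simp
  | add x₁ x₂ _ _ h₁ h₂ => rw [add_lie, map_add, h₁, h₂, map_add, add_lie]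
  | smul c x _ hx => rw [smul_lie, map_smul, hx, map_smul, smul_lie]

variable (A B C : Type*) [CommRing A] [CommRing B] [CommRing C] [Algebra A B] [Algebra B C]
  [Algebra A C] [IsScalarTower A B C] (L : Type*) [LieRing L] [LieAlgebra A L]

theorem span_one_tmul_one_tmul :
    Submodule.span C (Set.range fun x : L => (1 : C) ⊗ₜ[B] ((1 : B) ⊗ₜ[A] x)) = ⊤ := by
  rw [eq_top_iff]
  rintro z -
  induction z using TensorProduct.induction_on with
  | zero => exact Submodule.zero_mem _
  | add z₁ z₂ h₁ h₂ => exact Submodule.add_mem _ h₁ h₂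
  | tmul c w =>
    induction w using TensorProduct.induction_on with
    | zero => rw [TensorProduct.tmul_zero]; exact Submodule.zero_mem _
    | add w₁ w₂ h₁ h₂ => rw [TensorProduct.tmul_add]; exact Submodule.add_mem _ h₁ h₂
    | tmul b x =>
      have : c ⊗ₜ[B] (b ⊗ₜ[A] x) = (c * algebraMap B C b) • ((1 : C) ⊗ₜ[B] ((1 : B) ⊗ₜ[A] x)) := by
        have h1 : (b ⊗ₜ[A] x : B ⊗[A] L) = b • ((1 : B) ⊗ₜ[A] x) := by
          rw [TensorProduct.smul_tmul', smul_eq_mul, mul_one]
        rw [h1, TensorProduct.tmul_smul, TensorProduct.smul_tmul', TensorProduct.smul_tmul',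
          smul_eq_mul, mul_one, Algebra.smul_def, mul_comm]
      rw [this]
      exact Submodule.smul_mem _ _ (Submodule.subset_span ⟨x, rfl⟩)

/-- `C ⊗[B] (B ⊗[A] L) ≃ C ⊗[A] L` as Lie algebras over `C`. -/
noncomputable def cancelBaseChangeLie : C ⊗[B] (B ⊗[A] L) ≃ₗ⁅C⁆ C ⊗[A] L :=
  { TensorProduct.AlgebraTensorModule.cancelBaseChange A B C C L with
    map_lie' := by
      intro x y
      refine map_lie_of_span
        (TensorProduct.AlgebraTensorModule.cancelBaseChange A B C C L).toLinearMap _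
        (span_one_tmul_one_tmul A B C L) ?_ x y
      rintro _ ⟨x, rfl⟩ _ ⟨y, rfl⟩
      simp only [LieAlgebra.ExtendScalars.bracket_tmul, LinearEquiv.coe_coe,
        TensorProduct.AlgebraTensorModule.cancelBaseChange_tmul, mul_one, one_smul] }

theorem rank_cancelBaseChange [Nontrivial C] [Module.Free C (C ⊗[B] (B ⊗[A] L))]
    [Module.Finite C (C ⊗[B] (B ⊗[A] L))] [Module.Free C (C ⊗[A] L)]
    [Module.Finite C (C ⊗[A] L)] :
    LieAlgebra.rank C (C ⊗[B] (B ⊗[A] L)) = LieAlgebra.rank C (C ⊗[A] L) :=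
  rank_eq_of_lieEquiv (cancelBaseChangeLie A B C L)

end Iso

end Groth.Agent.Helper20.CartRel
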