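import Mathlib
import Groth.Prelude.Def_W4sga3xiixivxvCartan
import Groth.Agent.Lib.Helper20.CartRel2
import Groth.Agent.Lib.Helper20.CartRel5
import Groth.Agent.Lib.Helper20.CartRel8

/-!
# Existence of a relative Cartan subalgebra after a faithfully flat base change implies that the
nilpotent rank of the fibres is locally constant (helper20)
-/

set_option autoImplicit false
set_option linter.unusedSectionVars false
set_option linter.style.haveILetI false
universe u

namespace Groth.Agent.Helper20.CartRel

open TensorProduct LieAlgebra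

variable {A : Type u} [CommRing A] {L : Type u} [LieRing L] [LieAlgebra A L]
  [Module.Finite A L] [Module.Projective A L]

/-- the nilpotent rank of the fibre at a prime -/
noncomputable def fibreRank (A : Type u) [CommRing A] (L : Type u) [LieRing L] [LieAlgebra A L]
    [Module.Finite A L] [Module.Projective A L] (p : PrimeSpectrum A) : ℕ :=
  LieAlgebra.rank p.asIdeal.ResidueField (p.asIdeal.ResidueField ⊗[A] L)

/-- the fibre rank is compatible with base change -/
theorem fibreRank_comap (A' : Type u) [CommRing A'] [Algebra A A'] (p' : PrimeSpectrum A') :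
    fibreRank A' (A' ⊗[A] L) p' = fibreRank A L (PrimeSpectrum.comap (algebraMap A A') p') := by
  let p : PrimeSpectrum A := PrimeSpectrum.comap (algebraMap A A') p'
  haveI : p'.asIdeal.LiesOver p.asIdeal := ⟨rfl⟩
  letI := Localization.AtPrime.algebraOfLiesOver p.asIdeal p'.asIdeal
  show LieAlgebra.rank p'.asIdeal.ResidueField (p'.asIdeal.ResidueField ⊗[A'] (A' ⊗[A] L)) =
    LieAlgebra.rank p.asIdeal.ResidueField (p.asIdeal.ResidueField ⊗[A] L)
  rw [rank_cancelBaseChange A A' p'.asIdeal.ResidueField L,
    ← rank_baseChange p.asIdeal.ResidueField p'.asIdeal.ResidueField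
      (p.asIdeal.ResidueField ⊗[A] L),
    rank_cancelBaseChange A p.asIdeal.ResidueField p'.asIdeal.ResidueField L]

/-- the fibre rank is locally constant when a relative Cartan subalgebra exists -/
theorem isLocallyConstant_fibreRank_of_cartan (H : LieSubalgebra A L)
    (hH : SGA3t2b.IsCartanRel H) : IsLocallyConstant (fibreRank A L) := by
  haveI : Module.Projective A (L ⧸ H.toSubmodule) := hH.1
  haveI : Module.Finite A H.toSubmodule := finite_sub H.toSubmodule
  haveI : Module.Projective A H.toSubmodule := projective_sub H.toSubmodule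
  haveI : Module.FinitePresentation A H.toSubmodule := Module.finitePresentation_of_projective A _
  have h1 : fibreRank A L = Module.rankAtStalk (R := A) H.toSubmodule := by
    funext p
    obtain ⟨-, -, hrank⟩ := hH.2 p
    show LieAlgebra.rank p.asIdeal.ResidueField (p.asIdeal.ResidueField ⊗[A] L) = _
    rw [← hrank, Module.rankAtStalk_eq]
    exact LinearMap.finrank_range_of_inj
      (baseChange_subtype_injective H.toSubmodule p.asIdeal.ResidueField)
  rw [h1]
  exact Module.isLocallyConstant_rankAtStalk

/-- **S8378**: (C₁) ⇒ (C₀) -/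
theorem isLocallyConstant_fibreRank_of_faithfullyFlat (A' : Type u) [CommRing A'] [Algebra A A']
    [Module.FaithfullyFlat A A'] (H : LieSubalgebra A' (A' ⊗[A] L))
    (hH : SGA3t2b.IsCartanRel H) : IsLocallyConstant (fibreRank A L) := by
  have h1 := isLocallyConstant_fibreRank_of_cartan H hH
  have hq : Topology.IsQuotientMap (PrimeSpectrum.comap (algebraMap A A')) :=
    PrimeSpectrum.isQuotientMap_of_generalizingMap
      PrimeSpectrum.comap_surjective_of_faithfullyFlat
      (RingHom.Flat.generalizingMap_comap
        ((RingHom.flat_algebraMap_iff).mpr inferInstance))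
  rw [IsLocallyConstant.iff_isOpen_fiber] at h1 ⊢
  intro n
  rw [← hq.isCoinducing.isOpen_preimage]
  have : (PrimeSpectrum.comap (algebraMap A A')) ⁻¹' (fibreRank A L ⁻¹' {n}) =
      fibreRank A' (A' ⊗[A] L) ⁻¹' {n} := by
    ext p'
    simp only [Set.mem_preimage, Set.mem_singleton_iff]
    rw [fibreRank_comap]
  rw [this]
  exact h1 n

theorem exists_basicOpen_of_isLocallyConstant (h : IsLocallyConstant (fibreRank A L))
    (p : PrimeSpectrum A) :
    ∃ f : A, f ∉ p.asIdeal ∧ ∀ q : PrimeSpectrum A, f ∉ q.asIdeal →
      LieAlgebra.rank q.asIdeal.ResidueField (q.asIdeal.ResidueField ⊗[A] L) =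
        LieAlgebra.rank p.asIdeal.ResidueField (p.asIdeal.ResidueField ⊗[A] L) := by
  have hopen : IsOpen (fibreRank A L ⁻¹' {fibreRank A L p}) :=
    (IsLocallyConstant.iff_isOpen_fiber.mp h) _
  obtain ⟨_, ⟨f, rfl⟩, hpf, hsub⟩ :=
    PrimeSpectrum.isTopologicalBasis_basic_opens.exists_subset_of_mem_open
      (show p ∈ fibreRank A L ⁻¹' {fibreRank A L p} from rfl) hopen
  exact ⟨f, hpf, fun q hq => hsub hq⟩

end Groth.Agent.Helper20.CartRel
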