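import Mathlib
import Groth.Prelude.Def_W4sga3xiixivxvCartan
import Groth.Agent.Lib.Helper20.CartRel3
import Groth.Agent.Lib.Helper20.CartRel9

/-!
# The locus where a section is regular is open when the fibre rank is locally constant (helper20)
-/

set_option autoImplicit false
set_option linter.unusedSectionVars false
set_option linter.style.haveILetI false
universe u

namespace Groth.Agent.Helper20.CartRel

open TensorProduct LieAlgebra Polynomial

theorem charpoly_comp_comm {K : Type*} [CommRing K] [Nontrivial K] {V W : Type*} [AddCommGroup V]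
    [Module K V] [AddCommGroup W] [Module K W] [Module.Free K V] [Module.Finite K V]
    [Module.Free K W] [Module.Finite K W] (f : V →ₗ[K] W) (g : W →ₗ[K] V) :
    X ^ Module.finrank K W * (g ∘ₗ f).charpoly = X ^ Module.finrank K V * (f ∘ₗ g).charpoly := by
  classical
  let bV := Module.Free.chooseBasis K V
  let bW := Module.Free.chooseBasis K W
  rw [← LinearMap.charpoly_toMatrix (g ∘ₗ f) bV, ← LinearMap.charpoly_toMatrix (f ∘ₗ g) bW,
    LinearMap.toMatrix_comp bV bW bV, LinearMap.toMatrix_comp bW bV bW,
    Module.finrank_eq_card_chooseBasisIndex, Module.finrank_eq_card_chooseBasisIndex]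
  exact Matrix.charpoly_mul_comm' _ _

variable {A : Type u} [CommRing A] {L : Type u} [AddCommGroup L] [Module A L]
  [Module.Finite A L] [Module.Projective A L]

/-- a "global characteristic polynomial up to a power of `X`" for an endomorphism of a finite
projective module -/
theorem exists_charpoly_lift (φ : L →ₗ[A] L) : ∃ (n : ℕ) (P : A[X]),
    ∀ (κ : Type u) [Field κ] [Algebra A κ],
      X ^ Module.finrank κ (κ ⊗[A] L) * P.map (algebraMap A κ) =
        X ^ n * (φ.baseChange κ).charpoly ∧ Module.finrank κ (κ ⊗[A] L) ≤ n := by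
  obtain ⟨n, s, hs⟩ := Module.Finite.exists_fin' A L
  obtain ⟨i, hi⟩ := Module.projective_lifting_property s LinearMap.id hs
  refine ⟨n, (i ∘ₗ φ ∘ₗ s).charpoly, ?_⟩
  intro κ _ _
  have hsi : (s.baseChange κ) ∘ₗ (i.baseChange κ) = LinearMap.id := by
    rw [← LinearMap.baseChange_comp, hi, LinearMap.baseChange_id]
  have hn : Module.finrank κ (κ ⊗[A] (Fin n → A)) = n := by
    rw [(TensorProduct.piScalarRight A κ κ (Fin n)).finrank_eq, Module.finrank_fin_fun]
  constructor
  · rw [← LinearMap.charpoly_baseChange]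
    have h1 : (i ∘ₗ φ ∘ₗ s).baseChange κ =
        ((i.baseChange κ) ∘ₗ (φ.baseChange κ)) ∘ₗ (s.baseChange κ) := by
      rw [← LinearMap.baseChange_comp, ← LinearMap.baseChange_comp, LinearMap.comp_assoc]
    have h2 : (s.baseChange κ) ∘ₗ ((i.baseChange κ) ∘ₗ (φ.baseChange κ)) = φ.baseChange κ := by
      rw [← LinearMap.comp_assoc, hsi, LinearMap.id_comp]
    have h3 := charpoly_comp_comm (s.baseChange κ) ((i.baseChange κ) ∘ₗ (φ.baseChange κ))
    rw [h2, hn] at h3
    rw [h1]
    exact h3
  · have hsurj : Function.Surjective (s.baseChange κ) := LinearMap.lTensor_surjective _ hs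
    have := LinearMap.finrank_le_finrank_of_surjective (R := κ) hsurj
    rwa [hn] at this

theorem isOpen_coeff_ne_zero (φ : L →ₗ[A] L) (r : PrimeSpectrum A → ℕ)
    (hr : IsLocallyConstant r) :
    IsOpen {q : PrimeSpectrum A |
      ((φ.baseChange q.asIdeal.ResidueField).charpoly).coeff (r q) ≠ 0} := by
  obtain ⟨n, P, hP⟩ := exists_charpoly_lift φ
  haveI : Module.FinitePresentation A L := Module.finitePresentation_of_projective A L
  have hd : IsLocallyConstant (Module.rankAtStalk (R := A) L) :=
    Module.isLocallyConstant_rankAtStalk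
  let m : PrimeSpectrum A → ℕ := fun q => r q + n - Module.rankAtStalk (R := A) L q
  have hm : IsLocallyConstant m := hr.comp₂ hd (fun a b => a + n - b)
  have hcoeff : ∀ q : PrimeSpectrum A,
      ((φ.baseChange q.asIdeal.ResidueField).charpoly).coeff (r q) =
        algebraMap A q.asIdeal.ResidueField (P.coeff (m q)) := by
    intro q
    obtain ⟨h1, h2⟩ := hP q.asIdeal.ResidueField
    have hdq : Module.rankAtStalk (R := A) L q =
        Module.finrank q.asIdeal.ResidueField (q.asIdeal.ResidueField ⊗[A] L) :=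
      Module.rankAtStalk_eq q
    have h3 : (X ^ Module.finrank q.asIdeal.ResidueField (q.asIdeal.ResidueField ⊗[A] L) *
        P.map (algebraMap A q.asIdeal.ResidueField)).coeff (r q + n) =
        (X ^ n * (φ.baseChange q.asIdeal.ResidueField).charpoly).coeff (r q + n) := by
      rw [h1]
    rw [Polynomial.coeff_X_pow_mul] at h3
    have h4 : r q + n = m q + Module.finrank q.asIdeal.ResidueField
        (q.asIdeal.ResidueField ⊗[A] L) := by
      show r q + n = r q + n - Module.rankAtStalk (R := A) L q + _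
      rw [hdq]
      omega
    rw [h4, Polynomial.coeff_X_pow_mul, Polynomial.coeff_map] at h3
    exact h3.symm
  have hset : {q : PrimeSpectrum A |
      ((φ.baseChange q.asIdeal.ResidueField).charpoly).coeff (r q) ≠ 0} =
      {q : PrimeSpectrum A | P.coeff (m q) ∉ q.asIdeal} := by
    ext q
    simp only [Set.mem_ofPred_eq, hcoeff q, ne_eq, Ideal.algebraMap_residueField_eq_zero]
  rw [hset, isOpen_iff_forall_mem_open]
  intro q₀ hq₀
  refine ⟨m ⁻¹' {m q₀} ∩ (PrimeSpectrum.basicOpen (P.coeff (m q₀)) : Set (PrimeSpectrum A)),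
    ?_, ?_, ?_⟩
  · rintro q ⟨hq1, hq2⟩
    simp only [Set.mem_preimage, Set.mem_singleton_iff] at hq1
    show P.coeff (m q) ∉ q.asIdeal
    rw [hq1]
    exact hq2
  · exact ((IsLocallyConstant.iff_isOpen_fiber.mp hm) _).inter
      (PrimeSpectrum.basicOpen _).isOpen
  · exact ⟨rfl, hq₀⟩

section Lie

variable {A : Type u} [CommRing A] {L : Type u} [LieRing L] [LieAlgebra A L]
  [Module.Finite A L] [Module.Projective A L]

theorem isLocallyConstant_fibreRank_of_basicOpen
    (hC0 : ∀ p : PrimeSpectrum A, ∃ f : A, f ∉ p.asIdeal ∧ ∀ q : PrimeSpectrum A,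
      f ∉ q.asIdeal →
        LieAlgebra.rank q.asIdeal.ResidueField (q.asIdeal.ResidueField ⊗[A] L) =
          LieAlgebra.rank p.asIdeal.ResidueField (p.asIdeal.ResidueField ⊗[A] L)) :
    IsLocallyConstant (fibreRank A L) := by
  rw [IsLocallyConstant.iff_exists_open]
  intro p
  obtain ⟨f, hf, h⟩ := hC0 p
  exact ⟨(PrimeSpectrum.basicOpen f : Set (PrimeSpectrum A)), (PrimeSpectrum.basicOpen f).isOpen,
    hf, fun q hq => h q hq⟩

/-- **S8375** -/
theorem isOpen_isRegular (hr : IsLocallyConstant (fibreRank A L)) (a : L) :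
    IsOpen {p : PrimeSpectrum A |
      LieAlgebra.IsRegular p.asIdeal.ResidueField ((1 : p.asIdeal.ResidueField) ⊗ₜ[A] a)} := by
  have h := isOpen_coeff_ne_zero (adL (A := A) a) (fibreRank A L) hr
  have hset : {p : PrimeSpectrum A |
      LieAlgebra.IsRegular p.asIdeal.ResidueField ((1 : p.asIdeal.ResidueField) ⊗ₜ[A] a)} =
      {q : PrimeSpectrum A |
        (((adL (A := A) a).baseChange q.asIdeal.ResidueField).charpoly).coeff
          (fibreRank A L q) ≠ 0} := by
    ext q
    simp only [Set.mem_ofPred_eq]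
    rw [adL_baseChange]
    exact LieAlgebra.isRegular_def _ _
  rw [hset]
  exact h

end Lie

end Groth.Agent.Helper20.CartRel
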