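import Mathlib

/-!
# A nilpotent self-normalizing subalgebra is the Engel subalgebra of one of its elements
(over a large enough field) (helper20)
-/

set_option autoImplicit false
set_option linter.unusedSectionVars false
set_option linter.style.haveILetI false
universe u v

namespace Groth.Agent.Helper20.CartRel

open LieAlgebra Module Cardinal LieSubalgebra

section

attribute [local instance 100] LieRing.ofAssociativeRing

variable {K : Type*} {g : Type*} [Field K] [LieRing g] [LieAlgebra K g] [Module.Finite K g]

/-- if every element of `U` acts nilpotently on a subalgebra `E ⊇ U` and `U` is self-normalizing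
then `E = U` -/
theorem le_of_forall_le_engel (U : LieSubalgebra K g) (hself : U.normalizer = U)
    (E : LieSubalgebra K g) (hUE : U ≤ E) (hE : ∀ z ∈ U, E ≤ engel K z) : E ≤ U := by
  -- `E` as a Lie submodule of `g` over `U`
  let E' : LieSubmodule K U g :=
    { E with
      lie_mem := by rintro ⟨u, hu⟩ y hy; exact E.lie_mem (hUE hu) hy }
  have hnil : LieModule.IsNilpotent U E' := by
    rw [LieModule.isNilpotent_iff_forall' (R := K)]
    intro z
    rw [Module.End.isNilpotent_iff_of_finite]
    intro m
    obtain ⟨k, hk⟩ := (mem_engel_iff K (z : g) (m : g)).mp (hE z z.2 m.2)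
    refine ⟨k, ?_⟩
    apply Subtype.ext
    have : ∀ (k : ℕ) (m : E'), ((((LieModule.toEnd K U E' z) ^ k) m : E') : g) =
        ((LieAlgebra.ad K g (z : g)) ^ k) (m : g) := by
      intro k
      induction k with
      | zero => intro m; simp
      | succ k ih =>
        intro m
        rw [pow_succ, Module.End.mul_apply, ih, pow_succ, Module.End.mul_apply]
        rfl
    rw [this, hk]
    rfl
  obtain ⟨k, hk⟩ := (E'.isNilpotent_iff_exists_lcs_eq_bot).mp hnil
  have h1 : E'.lcs k ≤ U.toLieSubmodule := by rw [hk]; exact bot_le
  rw [LieSubmodule.lcs_le_iff] at h1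
  have hself' : U.toLieSubmodule.normalizer = U.toLieSubmodule := by
    rw [← LieSubmodule.toSubmodule_inj, LieSubalgebra.coe_normalizer_eq_normalizer, hself,
      LieSubalgebra.coe_toLieSubmodule]
  rw [LieSubmodule.ucs_eq_self_of_normalizer_eq_self hself'] at h1
  intro e he
  exact h1 (show e ∈ E' from he)

/-- **Barnes**: over a field with enough elements, a nilpotent self-normalizing subalgebra is the
Engel subalgebra of one of its elements. -/
theorem exists_engel_eq (hcard : finrank K g ≤ #K) (U : LieSubalgebra K g)
    (hnil : ∀ x ∈ U, U ≤ engel K x) (hself : U.normalizer = U) :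
    ∃ y ∈ U, engel K y = U := by
  -- choose `y ∈ U` with `engel K y` of minimal dimension
  let T : Set ℕ := {n | ∃ x ∈ U, finrank K (engel K x) = n}
  have hT : T.Nonempty := ⟨_, 0, U.zero_mem, rfl⟩
  obtain ⟨n, ⟨y, hyU, rfl⟩, hmin⟩ := WellFounded.has_min wellFounded_lt T hT
  refine ⟨y, hyU, ?_⟩
  have hmin' : IsMin (⟨engel K y, y, hyU, rfl⟩ : {engel K x | x ∈ U}) := by
    rintro ⟨_, z, hzU, rfl⟩ hle
    have hle' : engel K z ≤ engel K y := hle
    have h1 : ¬ finrank K (engel K z) < finrank K (engel K y) := hmin _ ⟨z, hzU, rfl⟩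
    have h2 : (engel K z).toSubmodule = (engel K y).toSubmodule :=
      Submodule.eq_of_le_of_finrank_le hle' (not_lt.mp h1)
    show engel K y ≤ engel K z
    intro w hw
    have : w ∈ (engel K y).toSubmodule := hw
    rw [← h2] at this
    exact this
  have hbot := LieAlgebra.engel_isBot_of_isMin hcard U
    (⟨engel K y, y, hyU, rfl⟩ : {engel K x | x ∈ U}) (hnil y hyU) hmin'
  apply le_antisymm _ (hnil y hyU)
  apply le_of_forall_le_engel U hself (engel K y) (hnil y hyU)
  intro z hz
  exact hbot ⟨engel K z, z, hz, rfl⟩

end

end Groth.Agent.Helper20.CartRel
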