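import Mathlib
import Groth.Agent.Lib.Helper20.CartRel2

/-!
# Base change of the generalized kernel of an endomorphism which is bijective on the quotient
(helper20)

Let `φ` be an endomorphism of an `A`-module `L` and `E` its generalized kernel.  If `φ` induces a
bijection of `L ⧸ E`, then for every `A`-algebra `κ` the image of `κ ⊗ E` in `κ ⊗ L` is the
generalized kernel of `κ ⊗ φ`.
-/

set_option autoImplicit false
set_option linter.unusedSectionVars false
set_option linter.style.haveILetI false
universe u

namespace Groth.Agent.Helper20.CartRel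

open TensorProduct

section

variable {A : Type u} [CommRing A] {L : Type u} [AddCommGroup L] [Module A L]
  (φ : L →ₗ[A] L)

theorem maxGen_invariant : ∀ h ∈ Module.End.maxGenEigenspace φ 0,
    φ h ∈ Module.End.maxGenEigenspace φ 0 := by
  intro h hh
  rw [mem_maxGenEigenspace_zero] at hh ⊢
  obtain ⟨k, hk⟩ := hh
  refine ⟨k, ?_⟩
  have : (φ ^ k) (φ h) = φ ((φ ^ k) h) := by
    rw [← Module.End.mul_apply, ← Module.End.mul_apply, ← pow_succ, ← pow_succ']
  rw [this, hk, map_zero]

theorem maxGen_le_comap :
    Module.End.maxGenEigenspace φ 0 ≤ (Module.End.maxGenEigenspace φ 0).comap φ :=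
  fun h hh => maxGen_invariant φ h hh

theorem baseChange_pow_tmul (κ : Type u) [CommRing κ] [Algebra A κ] (k : ℕ) (c : κ) (y : L) :
    ((φ.baseChange κ) ^ k) (c ⊗ₜ[A] y) = c ⊗ₜ[A] ((φ ^ k) y) := by
  induction k generalizing y with
  | zero => simp
  | succ k ih =>
    rw [pow_succ, Module.End.mul_apply, pow_succ, Module.End.mul_apply,
      LinearMap.baseChange_tmul, ih]

theorem range_baseChange_le (κ : Type u) [CommRing κ] [Algebra A κ] :
    LinearMap.range ((Module.End.maxGenEigenspace φ 0).subtype.baseChange κ) ≤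
      Module.End.maxGenEigenspace (φ.baseChange κ) 0 := by
  rintro _ ⟨η, rfl⟩
  induction η using TensorProduct.induction_on with
  | zero => rw [map_zero]; exact Submodule.zero_mem _
  | tmul c e =>
    rw [LinearMap.baseChange_tmul, mem_maxGenEigenspace_zero]
    obtain ⟨k, hk⟩ := (mem_maxGenEigenspace_zero φ _).mp e.2
    refine ⟨k, ?_⟩
    rw [baseChange_pow_tmul, Submodule.subtype_apply, hk, TensorProduct.tmul_zero]
  | add x y hx hy => rw [map_add]; exact Submodule.add_mem _ hx hy

/-- the endomorphism of `L ⧸ E` induced by `φ` -/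
noncomputable abbrev φQ : (L ⧸ Module.End.maxGenEigenspace φ 0) →ₗ[A]
    (L ⧸ Module.End.maxGenEigenspace φ 0) :=
  (Module.End.maxGenEigenspace φ 0).mapQ (Module.End.maxGenEigenspace φ 0) φ (maxGen_le_comap φ)

theorem le_range_baseChange (hbij : Function.Bijective (φQ φ))
    (κ : Type u) [CommRing κ] [Algebra A κ] :
    Module.End.maxGenEigenspace (φ.baseChange κ) 0 ≤
      LinearMap.range ((Module.End.maxGenEigenspace φ 0).subtype.baseChange κ) := by
  intro x hx
  rw [mem_maxGenEigenspace_zero] at hx
  obtain ⟨k, hk⟩ := hx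
  let E := Module.End.maxGenEigenspace φ 0
  -- the quotient map
  have hcomm : (E.mkQ.baseChange κ) ∘ₗ (φ.baseChange κ) =
      ((φQ φ).baseChange κ) ∘ₗ (E.mkQ.baseChange κ) := by
    rw [← LinearMap.baseChange_comp, ← LinearMap.baseChange_comp]
    congr 1
  have hcommk : ∀ k : ℕ, (E.mkQ.baseChange κ) ∘ₗ ((φ.baseChange κ) ^ k) =
      (((φQ φ).baseChange κ) ^ k) ∘ₗ (E.mkQ.baseChange κ) := by
    intro k
    induction k with
    | zero => rw [pow_zero, pow_zero]; rfl
    | succ k ih =>
      rw [pow_succ, Module.End.mul_eq_comp, ← LinearMap.comp_assoc, ih, LinearMap.comp_assoc,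
        hcomm, ← LinearMap.comp_assoc, ← Module.End.mul_eq_comp, ← pow_succ]
  -- (φQ)_κ is injective
  let e : (L ⧸ E) ≃ₗ[A] (L ⧸ E) := LinearEquiv.ofBijective (φQ φ) hbij
  have hinj : Function.Injective ((φQ φ).baseChange κ) := by
    apply Function.LeftInverse.injective (g := e.symm.toLinearMap.baseChange κ)
    intro η
    have : (e.symm.toLinearMap.baseChange κ) ∘ₗ ((φQ φ).baseChange κ) = LinearMap.id := by
      rw [← LinearMap.baseChange_comp]
      have : e.symm.toLinearMap ∘ₗ (φQ φ) = LinearMap.id := by
        ext y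
        exact e.symm_apply_apply _
      rw [this, LinearMap.baseChange_id]
    exact LinearMap.congr_fun this η
  have hinjk : Function.Injective (((φQ φ).baseChange κ) ^ k) := by
    rw [Module.End.coe_pow]
    exact Function.Injective.iterate hinj k
  have h0 : (E.mkQ.baseChange κ) x = 0 := by
    apply hinjk
    have := LinearMap.congr_fun (hcommk k) x
    simp only [LinearMap.coe_comp, Function.comp_apply] at this
    rw [← this, hk, map_zero, map_zero]
  -- exactness
  have hex := lTensor_exact κ (LinearMap.exact_subtype_mkQ E) (Submodule.mkQ_surjective E)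
  have h1 : (E.mkQ.lTensor κ) x = 0 := h0
  obtain ⟨η, hη⟩ := (hex x).mp h1
  exact ⟨η, hη⟩

theorem range_baseChange_eq (hbij : Function.Bijective (φQ φ))
    (κ : Type u) [CommRing κ] [Algebra A κ] :
    LinearMap.range ((Module.End.maxGenEigenspace φ 0).subtype.baseChange κ) =
      Module.End.maxGenEigenspace (φ.baseChange κ) 0 :=
  le_antisymm (range_baseChange_le φ κ) (le_range_baseChange φ hbij κ)

end

end Groth.Agent.Helper20.CartRel
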