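import Mathlib
import Groth.Prelude.Def_W4sga3xiixivxvCartan
import Groth.Agent.Lib.Helper20.CartRel3
import Groth.Agent.Lib.Helper20.CartRel5
import Groth.Agent.Lib.Helper20.CartRel6

/-!
# The Engel subalgebra of a quasi-regular element is a relative Cartan subalgebra as soon as
the quotient is projective and `ad a` is bijective on it (helper20)
-/

set_option autoImplicit false
set_option linter.unusedSectionVars false
set_option linter.style.haveILetI false
universe u

namespace Groth.Agent.Helper20.CartRel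

open TensorProduct LieAlgebra

variable {A : Type u} [CommRing A] {L : Type u} [LieRing L] [LieAlgebra A L]
  [Module.Finite A L] [Module.Projective A L]

variable (a : L)
  (hinj : ∀ z : L, ⁅a, z⁆ ∈ LieSubalgebra.engel A a → z ∈ LieSubalgebra.engel A a)
  (hsurj : ∀ y : L, ∃ z : L, ⁅a, z⁆ - y ∈ LieSubalgebra.engel A a)

include hinj hsurj in
theorem φQ_adL_bijective : Function.Bijective (φQ (adL (A := A) a)) := by
  constructor
  · rw [injective_iff_map_eq_zero]
    intro q hq
    obtain ⟨z, rfl⟩ := Submodule.Quotient.mk_surjective _ q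
    rw [Submodule.mapQ_apply, Submodule.Quotient.mk_eq_zero] at hq
    rw [Submodule.Quotient.mk_eq_zero]
    exact hinj z hq
  · intro q
    obtain ⟨y, rfl⟩ := Submodule.Quotient.mk_surjective _ q
    obtain ⟨z, hz⟩ := hsurj y
    refine ⟨Submodule.Quotient.mk z, ?_⟩
    rw [Submodule.mapQ_apply, Submodule.Quotient.eq]
    exact hz

include hinj hsurj in
/-- (F): the fibre of the Engel subalgebra is the Engel subalgebra of the fibre -/
theorem fibre_engel_eq (p : PrimeSpectrum A) :
    SGA3t2b.fibreSubmodule p (LieSubalgebra.engel A a) =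
      (LieSubalgebra.engel p.asIdeal.ResidueField
        ((1 : p.asIdeal.ResidueField) ⊗ₜ[A] a)).toSubmodule := by
  rw [engel_toSubmodule]
  exact range_baseChange_eq (adL (A := A) a) (φQ_adL_bijective a hinj hsurj) p.asIdeal.ResidueField

section Nilp

attribute [local instance 100] LieRing.ofAssociativeRing

theorem map_ad_pow {κ : Type*} [CommRing κ] {M N : Type*} [LieRing M] [LieAlgebra κ M]
    [LieRing N] [LieAlgebra κ N] (j : M → N) (hj : ∀ x m, j ⁅x, m⁆ = ⁅j x, j m⁆) (x m : M)
    (k : ℕ) :
    j (((LieAlgebra.ad κ M x) ^ k) m) = ((LieAlgebra.ad κ N (j x)) ^ k) (j m) := by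
  induction k generalizing m with
  | zero => simp
  | succ k ih =>
    rw [pow_succ, Module.End.mul_apply, pow_succ, Module.End.mul_apply, ih, LieAlgebra.ad_apply,
      hj, LieAlgebra.ad_apply]

include hinj hsurj in
/-- (1): the fibres of the Engel subalgebra are nilpotent -/
theorem fibre_isNilpotent (ha : SGA3t2b.IsQuasiRegular A L a)
    (hproj : Module.Projective A (L ⧸ (LieSubalgebra.engel A a).toSubmodule))
    (p : PrimeSpectrum A) :
    LieRing.IsNilpotent (p.asIdeal.ResidueField ⊗[A] (LieSubalgebra.engel A a)) := by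
  let κ := p.asIdeal.ResidueField
  let E := LieSubalgebra.engel A a
  haveI := hproj
  haveI : Module.Finite A E := finite_sub E.toSubmodule
  let j : κ ⊗[A] E →ₗ⁅A⁆ κ ⊗[A] L := LieAlgebra.ExtendScalars.map (AlgHom.id A κ) E.incl
  have hjfun : ∀ η, j η = (E.toSubmodule.subtype.baseChange κ) η := by
    intro η
    induction η using TensorProduct.induction_on with
    | zero => rw [map_zero, map_zero]
    | tmul c e => rfl
    | add x y hx hy => rw [map_add, map_add, hx, hy]
  have hjinj : Function.Injective j := by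
    intro η₁ η₂ h
    rw [hjfun, hjfun] at h
    exact baseChange_subtype_injective E.toSubmodule κ h
  have hF := fibre_engel_eq a hinj hsurj p
  have hmem : ∀ η, j η ∈ LieSubalgebra.engel κ ((1 : κ) ⊗ₜ[A] a) := by
    intro η
    show j η ∈ (LieSubalgebra.engel κ ((1 : κ) ⊗ₜ[A] a)).toSubmodule
    rw [← hF]
    exact ⟨η, (hjfun η).symm⟩
  rw [LieAlgebra.isNilpotent_iff_forall (R := κ)]
  intro x
  rw [Module.End.isNilpotent_iff_of_finite]
  intro m
  have hle := engel_le_engel_of_isRegular κ _ (ha p) (j x) (hmem x)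
  obtain ⟨k, hk⟩ := (LieSubalgebra.mem_engel_iff κ _ _).mp (hle (hmem m))
  refine ⟨k, hjinj ?_⟩
  rw [map_zero, map_ad_pow (κ := κ) j (fun x m => LieHom.map_lie j x m)]
  exact hk

end Nilp

include hinj hsurj in
/-- **S8372, second part, (⇐)** -/
theorem isCartanRel_engel (ha : SGA3t2b.IsQuasiRegular A L a)
    (hproj : Module.Projective A (L ⧸ (LieSubalgebra.engel A a).toSubmodule)) :
    SGA3t2b.IsCartanRel (LieSubalgebra.engel A a) := by
  refine ⟨hproj, fun p => ⟨fibre_isNilpotent a hinj hsurj ha hproj p, ?_, ?_⟩⟩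
  · intro x hx
    rw [fibre_engel_eq a hinj hsurj p] at hx ⊢
    have h1 := LieSubalgebra.normalizer_engel p.asIdeal.ResidueField
      ((1 : p.asIdeal.ResidueField) ⊗ₜ[A] a)
    show x ∈ LieSubalgebra.engel p.asIdeal.ResidueField ((1 : p.asIdeal.ResidueField) ⊗ₜ[A] a)
    rw [← h1, LieSubalgebra.mem_normalizer_iff]
    exact hx
  · rw [fibre_engel_eq a hinj hsurj p]
    exact (LieAlgebra.isRegular_iff_finrank_engel_eq_rank p.asIdeal.ResidueField _).mp (ha p)

end Groth.Agent.Helper20.CartRel
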