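import Mathlib
import Groth.Prelude.Def_W4sga3xiixivxvCartan
import Groth.Agent.Lib.Helper20.CartRel3
import Groth.Agent.Lib.Helper20.CartRel7
import Groth.Agent.Lib.Helper20.CartRel11

/-!
# A relative Cartan subalgebra contains, near a point with infinite residue field, a section which
is regular at that point (helper20)
-/

set_option autoImplicit false
set_option linter.unusedSectionVars false
set_option linter.style.haveILetI false
universe u

namespace Groth.Agent.Helper20.CartRel

open TensorProduct LieAlgebra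

section Lift

variable {A : Type u} [CommRing A] {M : Type u} [AddCommGroup M] [Module A M]

/-- elements of `κ(p) ⊗ M` are, up to a unit of `κ(p)` coming from `A`, of the form `1 ⊗ m` -/
theorem exists_smul_eq_one_tmul (p : PrimeSpectrum A) (η : p.asIdeal.ResidueField ⊗[A] M) :
    ∃ s : A, s ∉ p.asIdeal ∧ ∃ m : M,
      (algebraMap A p.asIdeal.ResidueField s) • η = (1 : p.asIdeal.ResidueField) ⊗ₜ[A] m := by
  induction η using TensorProduct.induction_on with
  | zero => exact ⟨1, p.asIdeal.primeCompl.one_mem, 0, by simp⟩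
  | tmul c m =>
    obtain ⟨z, rfl⟩ := IsLocalRing.residue_surjective c
    obtain ⟨a, s, rfl⟩ := IsLocalization.exists_mk'_eq p.asIdeal.primeCompl z
    refine ⟨s, s.2, a • m, ?_⟩
    rw [TensorProduct.smul_tmul', TensorProduct.tmul_smul, TensorProduct.smul_tmul', smul_eq_mul,
      Algebra.smul_def, mul_one]
    congr 1
    have h1 : algebraMap A p.asIdeal.ResidueField (s : A) =
        IsLocalRing.residue _ (algebraMap A (Localization.AtPrime p.asIdeal) s) := rfl
    have h2 : algebraMap A p.asIdeal.ResidueField a =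
        IsLocalRing.residue _ (algebraMap A (Localization.AtPrime p.asIdeal) a) := rfl
    rw [h1, h2, ← map_mul, IsLocalization.mk'_spec']
  | add η₁ η₂ h₁ h₂ =>
    obtain ⟨s₁, hs₁, m₁, e₁⟩ := h₁
    obtain ⟨s₂, hs₂, m₂, e₂⟩ := h₂
    refine ⟨s₁ * s₂, p.asIdeal.primeCompl.mul_mem hs₁ hs₂, s₂ • m₁ + s₁ • m₂, ?_⟩
    have key : ∀ (s : A) (m : M), (algebraMap A p.asIdeal.ResidueField s) •
        ((1 : p.asIdeal.ResidueField) ⊗ₜ[A] m) = (1 : p.asIdeal.ResidueField) ⊗ₜ[A] (s • m) := by
      intro s m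
      rw [TensorProduct.smul_tmul', smul_eq_mul, mul_one, TensorProduct.tmul_smul,
        TensorProduct.smul_tmul', Algebra.smul_def, mul_one]
    rw [smul_add, map_mul, TensorProduct.tmul_add]
    congr 1
    · rw [mul_comm, mul_smul, e₁, key]
    · rw [mul_smul, e₂, key]

end Lift

section Fibre

attribute [local instance 100] LieRing.ofAssociativeRing

variable {A : Type u} [CommRing A] {L : Type u} [LieRing L] [LieAlgebra A L]
  [Module.Finite A L] [Module.Projective A L] (H : LieSubalgebra A L)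

/-- the base change of the inclusion of `H` as a Lie ring homomorphism -/
noncomputable def fibreIncl (κ : Type u) [CommRing κ] [Algebra A κ] :
    κ ⊗[A] H →ₗ⁅A⁆ κ ⊗[A] L :=
  LieAlgebra.ExtendScalars.map (AlgHom.id A κ) H.incl

theorem fibreIncl_apply (κ : Type u) [CommRing κ] [Algebra A κ] (η : κ ⊗[A] H) :
    fibreIncl H κ η = (H.toSubmodule.subtype.baseChange κ) η := by
  induction η using TensorProduct.induction_on with
  | zero => rw [map_zero, map_zero]
  | tmul c e => rfl
  | add x y hx hy => rw [map_add, map_add, hx, hy]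

/-- the fibre of `H` as a Lie subalgebra of the fibre of `L` -/
noncomputable def fibreLie (p : PrimeSpectrum A) :
    LieSubalgebra p.asIdeal.ResidueField (p.asIdeal.ResidueField ⊗[A] L) :=
  { SGA3t2b.fibreSubmodule p H with
    lie_mem' := by
      rintro _ _ ⟨u, rfl⟩ ⟨v, rfl⟩
      let u' : p.asIdeal.ResidueField ⊗[A] H := u
      let v' : p.asIdeal.ResidueField ⊗[A] H := v
      refine ⟨⁅u', v'⁆, ?_⟩
      have h1 := fibreIncl_apply H p.asIdeal.ResidueField u'
      have h2 := fibreIncl_apply H p.asIdeal.ResidueField v'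
      have h3 := fibreIncl_apply H p.asIdeal.ResidueField ⁅u', v'⁆
      rw [LieHom.map_lie, h1, h2] at h3
      exact h3.symm }

theorem fibreLie_toSubmodule (p : PrimeSpectrum A) :
    (fibreLie H p).toSubmodule = SGA3t2b.fibreSubmodule p H := rfl

theorem mem_fibreLie_iff (p : PrimeSpectrum A) (x : p.asIdeal.ResidueField ⊗[A] L) :
    x ∈ fibreLie H p ↔ ∃ η : p.asIdeal.ResidueField ⊗[A] H, fibreIncl H _ η = x := by
  constructor
  · rintro ⟨η, rfl⟩
    exact ⟨η, fibreIncl_apply H _ η⟩
  · rintro ⟨η, rfl⟩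
    exact ⟨η, (fibreIncl_apply H _ η).symm⟩

theorem fibreLie_le_engel (p : PrimeSpectrum A)
    (hnil : LieRing.IsNilpotent (p.asIdeal.ResidueField ⊗[A] H))
    (x : p.asIdeal.ResidueField ⊗[A] L) (hx : x ∈ fibreLie H p) :
    fibreLie H p ≤ LieSubalgebra.engel p.asIdeal.ResidueField x := by
  obtain ⟨u, rfl⟩ := (mem_fibreLie_iff H p x).mp hx
  obtain ⟨k, hk⟩ := LieModule.exists_forall_pow_toEnd_eq_zero p.asIdeal.ResidueField
    (p.asIdeal.ResidueField ⊗[A] H) (p.asIdeal.ResidueField ⊗[A] H)
  intro y hy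
  obtain ⟨v, rfl⟩ := (mem_fibreLie_iff H p y).mp hy
  rw [LieSubalgebra.mem_engel_iff]
  refine ⟨k, ?_⟩
  rw [← map_ad_pow (κ := p.asIdeal.ResidueField) (fibreIncl H p.asIdeal.ResidueField)
    (fun x m => LieHom.map_lie _ x m)]
  have := LinearMap.congr_fun (hk u) v
  rw [LinearMap.zero_apply] at this
  show fibreIncl H p.asIdeal.ResidueField
    (((LieModule.toEnd p.asIdeal.ResidueField _ _ u) ^ k) v) = 0
  rw [this, map_zero]

theorem fibreLie_normalizer (p : PrimeSpectrum A)
    (hself : ∀ x : p.asIdeal.ResidueField ⊗[A] L,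
      (∀ y ∈ SGA3t2b.fibreSubmodule p H, ⁅x, y⁆ ∈ SGA3t2b.fibreSubmodule p H) →
        x ∈ SGA3t2b.fibreSubmodule p H) :
    (fibreLie H p).normalizer = fibreLie H p := by
  apply le_antisymm _ (LieSubalgebra.le_normalizer _)
  intro x hx
  rw [LieSubalgebra.mem_normalizer_iff] at hx
  exact hself x hx

theorem engel_smul {K : Type*} {g : Type*} [Field K] [LieRing g] [LieAlgebra K g] (c : K)
    (hc : c ≠ 0) (y : g) : LieSubalgebra.engel K (c • y) = LieSubalgebra.engel K y := by
  ext z
  rw [LieSubalgebra.mem_engel_iff, LieSubalgebra.mem_engel_iff]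
  have h : ∀ k : ℕ, ((LieAlgebra.ad K g (c • y)) ^ k) z = c ^ k • ((LieAlgebra.ad K g y) ^ k) z := by
    intro k
    rw [map_smul, smul_pow, LinearMap.smul_apply]
  constructor
  · rintro ⟨k, hk⟩
    refine ⟨k, ?_⟩
    rw [h] at hk
    exact (smul_eq_zero.mp hk).resolve_left (pow_ne_zero k hc)
  · rintro ⟨k, hk⟩
    exact ⟨k, by rw [h, hk, smul_zero]⟩

/-- a relative Cartan subalgebra contains a section which is regular at a given point with
infinite residue field, and the fibre of `H` there is its Engel subalgebra -/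
theorem exists_mem_isRegular (hH : SGA3t2b.IsCartanRel H) (p : PrimeSpectrum A)
    (hp : Infinite p.asIdeal.ResidueField) :
    ∃ a : L, a ∈ H ∧
      LieAlgebra.IsRegular p.asIdeal.ResidueField ((1 : p.asIdeal.ResidueField) ⊗ₜ[A] a) := by
  obtain ⟨hnil, hself, hrank⟩ := hH.2 p
  have hcard : Module.finrank p.asIdeal.ResidueField (p.asIdeal.ResidueField ⊗[A] L) ≤
      Cardinal.mk p.asIdeal.ResidueField :=
    Cardinal.natCast_le_aleph0.trans (Cardinal.infinite_iff.mp hp)
  obtain ⟨y, hyU, hy⟩ := exists_engel_eq hcard (fibreLie H p)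
    (fun x hx => fibreLie_le_engel H p hnil x hx) (fibreLie_normalizer H p hself)
  obtain ⟨η, rfl⟩ := (mem_fibreLie_iff H p y).mp hyU
  obtain ⟨s, hs, h, hh⟩ := exists_smul_eq_one_tmul p η
  refine ⟨(h : L), h.2, ?_⟩
  have hs0 : algebraMap A p.asIdeal.ResidueField s ≠ 0 := by
    rw [Ne, Ideal.algebraMap_residueField_eq_zero]
    exact hs
  have h1 : ((1 : p.asIdeal.ResidueField) ⊗ₜ[A] (h : L) : p.asIdeal.ResidueField ⊗[A] L) =
      (algebraMap A p.asIdeal.ResidueField s) • fibreIncl H p.asIdeal.ResidueField η := by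
    rw [fibreIncl_apply, ← map_smul, hh]
    rfl
  rw [LieAlgebra.isRegular_iff_finrank_engel_eq_rank, h1, engel_smul _ hs0, hy, ← hrank]
  rfl

end Fibre

end Groth.Agent.Helper20.CartRel
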