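import Mathlib
import Groth.Agent.Lib.Helper20.CartRel2
import Groth.Agent.Lib.Helper20.CartRel6

/-!
# Endomorphisms of finite projective modules which are bijective on the fibres over a basic open set
(helper20)
-/

set_option autoImplicit false
set_option linter.unusedSectionVars false
set_option linter.style.haveILetI false
universe u

namespace Groth.Agent.Helper20.CartRel

open TensorProduct

section Det

variable {A : Type u} [CommRing A]

/-- `Ψ^k v = 0 ⇒ (det Ψ)^k • v = 0` -/
theorem det_pow_smul_eq_zero {n : ℕ} (Ψ : (Fin n → A) →ₗ[A] (Fin n → A)) (k : ℕ)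
    (v : Fin n → A) (h : (Ψ ^ k) v = 0) : (LinearMap.det Ψ) ^ k • v = 0 := by
  classical
  let M := LinearMap.toMatrix' Ψ
  let Ψ' : (Fin n → A) →ₗ[A] (Fin n → A) := Matrix.toLin' M.adjugate
  have hadj : Ψ' ∘ₗ Ψ = (LinearMap.det Ψ) • LinearMap.id := by
    have h1 : Ψ = Matrix.toLin' M := (Matrix.toLin'_toMatrix' Ψ).symm
    conv_lhs => rw [h1]
    rw [← Matrix.toLin'_mul, Matrix.adjugate_mul, LinearMap.det_toMatrix', map_smul,
      Matrix.toLin'_one]
  induction k generalizing v with
  | zero => simpa using h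
  | succ k ih =>
    rw [pow_succ, Module.End.mul_apply] at h
    have h1 := ih (Ψ v) h
    have h2 : Ψ ((LinearMap.det Ψ) ^ k • v) = 0 := by rw [map_smul, h1]
    have h3 := LinearMap.congr_fun hadj ((LinearMap.det Ψ) ^ k • v)
    rw [LinearMap.comp_apply, h2, map_zero, LinearMap.smul_apply, LinearMap.id_apply, smul_smul,
      ← pow_succ'] at h3
    exact h3.symm

end Det

section Main

variable {A : Type u} [CommRing A] {Q : Type u} [AddCommGroup Q] [Module A Q]
  [Module.Finite A Q] [Module.Projective A Q]

/-- an endomorphism of a finite projective module which is injective on the fibres at all points of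
`D(f)`: its generalized kernel is killed by powers of `f`. -/
theorem exists_pow_smul_eq_zero (θ : Q →ₗ[A] Q) (f : A)
    (hinj : ∀ q : PrimeSpectrum A, f ∉ q.asIdeal →
      Function.Injective (θ.baseChange q.asIdeal.ResidueField))
    (k : ℕ) (w : Q) (hw : (θ ^ k) w = 0) : ∃ m : ℕ, f ^ m • w = 0 := by
  obtain ⟨n, s, i, -, hi, hsi⟩ := Module.Finite.exists_comp_eq_id_of_projective A Q
  have hsi' : ∀ w, s (i w) = w := fun w => LinearMap.congr_fun hsi w
  let Ψ : (Fin n → A) →ₗ[A] (Fin n → A) := i ∘ₗ θ ∘ₗ s + (LinearMap.id - i ∘ₗ s)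
  let δ := LinearMap.det Ψ
  -- claim 1
  have h1 : ∀ q : PrimeSpectrum A, f ∉ q.asIdeal → δ ∉ q.asIdeal := by
    intro q hq
    let κ := q.asIdeal.ResidueField
    have hΨκ : Ψ.baseChange κ = (i.baseChange κ) ∘ₗ (θ.baseChange κ) ∘ₗ (s.baseChange κ) +
        (LinearMap.id - (i.baseChange κ) ∘ₗ (s.baseChange κ)) := by
      simp only [Ψ, LinearMap.baseChange_add, LinearMap.baseChange_sub, LinearMap.baseChange_comp,
        LinearMap.baseChange_id]
    have hsiκ : ∀ x, (s.baseChange κ) ((i.baseChange κ) x) = x := by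
      intro x
      have : (s.baseChange κ) ∘ₗ (i.baseChange κ) = LinearMap.id := by
        rw [← LinearMap.baseChange_comp, hsi, LinearMap.baseChange_id]
      exact LinearMap.congr_fun this x
    have hker : LinearMap.ker (Ψ.baseChange κ) = ⊥ := by
      rw [LinearMap.ker_eq_bot']
      intro v hv
      rw [hΨκ] at hv
      simp only [LinearMap.add_apply, LinearMap.comp_apply, LinearMap.sub_apply,
        LinearMap.id_apply] at hv
      have h2 := congrArg (s.baseChange κ) hv
      rw [map_add, map_sub, hsiκ, hsiκ, map_zero, sub_self, add_zero] at h2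
      have h3 : (s.baseChange κ) v = 0 := hinj q hq (h2.trans (map_zero _).symm)
      rw [h3, map_zero, map_zero, zero_add, sub_zero] at hv
      exact hv
    have hdet : LinearMap.det (Ψ.baseChange κ) ≠ 0 := by
      intro h0
      have := LinearMap.bot_lt_ker_of_det_eq_zero h0
      rw [hker] at this
      exact lt_irrefl _ this
    rw [LinearMap.det_baseChange] at hdet
    intro hmem
    exact hdet (Ideal.algebraMap_residueField_eq_zero.mpr hmem)
  -- claim 2
  have h2 : f ∈ (Ideal.span {δ}).radical := by
    rw [← PrimeSpectrum.basicOpen_le_basicOpen_iff]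
    intro q hq
    exact h1 q hq
  obtain ⟨m, hm⟩ := h2
  obtain ⟨c, hc⟩ := Ideal.mem_span_singleton'.mp hm
  -- claim 4
  have h4 : ∀ (k : ℕ) (w : Q), (Ψ ^ k) (i w) = i ((θ ^ k) w) := by
    intro k
    induction k with
    | zero => intro w; simp
    | succ k ih =>
      intro w
      rw [pow_succ, Module.End.mul_apply, pow_succ, Module.End.mul_apply]
      have : Ψ (i w) = i (θ w) := by
        simp only [Ψ, LinearMap.add_apply, LinearMap.comp_apply, LinearMap.sub_apply,
          LinearMap.id_apply, hsi']
        abel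
      rw [this, ih]
  have h5 : (Ψ ^ k) (i w) = 0 := by rw [h4, hw, map_zero]
  have h6 := det_pow_smul_eq_zero Ψ k (i w) h5
  rw [← map_smul] at h6
  have h7 : δ ^ k • w = 0 := hi (h6.trans (map_zero _).symm)
  refine ⟨m * k, ?_⟩
  rw [pow_mul, ← hc, mul_pow, mul_smul, h7, smul_zero]

end Main

end Groth.Agent.Helper20.CartRel
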