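import Mathlib
import Groth.Prelude.Def_W4sga3xiixivxvCartan
import Groth.Agent.Lib.Helper20.CartRel3
import Groth.Agent.Lib.Helper20.CartRel10
import Groth.Agent.Lib.Helper20.CartRel12
import Groth.Agent.Lib.Helper20.CartRel13

/-!
# Near a point with infinite residue field a relative Cartan subalgebra is the Engel subalgebra of a
regular section (helper20)
-/

set_option autoImplicit false
set_option linter.unusedSectionVars false
set_option linter.style.haveILetI false
universe u

namespace Groth.Agent.Helper20.CartRel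

open TensorProduct

section Lin

variable {A : Type u} [CommRing A] {L : Type u} [AddCommGroup L] [Module A L]
  [Module.Finite A L] [Module.Projective A L]
  (φ : L →ₗ[A] L) (H : Submodule A L) (hφH : ∀ h ∈ H, φ h ∈ H) [Module.Projective A (L ⧸ H)]

omit [Module.Finite A L] [Module.Projective A L] [Module.Projective A (L ⧸ H)] in
theorem mapQ_baseChange_injective (κ : Type u) [CommRing κ] [Algebra A κ]
    (hfib : LinearMap.range (H.subtype.baseChange κ) =
      Module.End.maxGenEigenspace (φ.baseChange κ) 0) :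
    Function.Injective ((H.mapQ H φ (fun h hh => hφH h hh)).baseChange κ) := by
  rw [injective_iff_map_eq_zero]
  intro x hx
  have hsurj : Function.Surjective (H.mkQ.baseChange κ) :=
    LinearMap.lTensor_surjective _ (Submodule.mkQ_surjective H)
  obtain ⟨x', rfl⟩ := hsurj x
  have hcomm : (H.mkQ.baseChange κ) ∘ₗ (φ.baseChange κ) =
      ((H.mapQ H φ (fun h hh => hφH h hh)).baseChange κ) ∘ₗ (H.mkQ.baseChange κ) := by
    rw [← LinearMap.baseChange_comp, ← LinearMap.baseChange_comp]
    congr 1
  have hex := lTensor_exact κ (LinearMap.exact_subtype_mkQ H) (Submodule.mkQ_surjective H)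
  have h1 : (H.mkQ.baseChange κ) ((φ.baseChange κ) x') = 0 := by
    have := LinearMap.congr_fun hcomm x'
    simp only [LinearMap.coe_comp, Function.comp_apply] at this
    rw [this, hx]
  have h2 : (φ.baseChange κ) x' ∈ LinearMap.range (H.subtype.baseChange κ) := by
    have h1' : (H.mkQ.lTensor κ) ((φ.baseChange κ) x') = 0 := h1
    obtain ⟨η, hη⟩ := (hex _).mp h1'
    exact ⟨η, hη⟩
  rw [hfib, mem_maxGenEigenspace_zero] at h2
  obtain ⟨k, hk⟩ := h2
  have h3 : x' ∈ LinearMap.range (H.subtype.baseChange κ) := by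
    rw [hfib, mem_maxGenEigenspace_zero]
    refine ⟨k + 1, ?_⟩
    rw [pow_succ, Module.End.mul_apply]
    exact hk
  obtain ⟨η, rfl⟩ := h3
  have h4 : (H.mkQ.lTensor κ) ((H.subtype.lTensor κ) η) = 0 := (hex _).mpr ⟨η, rfl⟩
  exact h4

variable (hle : ∀ p : PrimeSpectrum A,
  LinearMap.range (H.subtype.baseChange p.asIdeal.ResidueField) ≤
    Module.End.maxGenEigenspace (φ.baseChange p.asIdeal.ResidueField) 0)

include hle in
theorem restrict_isNilpotent_of_le : IsNilpotent (φ.restrict hφH) := by
  haveI := finite_sub H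
  haveI := projective_sub H
  by_cases hne : Nonempty (PrimeSpectrum A)
  swap
  · haveI : Subsingleton A := by
      by_contra h
      rw [not_subsingleton_iff_nontrivial] at h
      exact hne inferInstance
    haveI : Subsingleton H := Module.subsingleton A H
    exact ⟨1, Subsingleton.elim _ _⟩
  obtain ⟨p₀⟩ := hne
  obtain ⟨n, hn⟩ := finrank_fibre_le (A := A) (L := L)
  suffices h : IsNilpotent ((φ.restrict hφH) ^ n) by
    obtain ⟨e, he⟩ := h
    exact ⟨n * e, by rw [pow_mul, he]⟩
  apply isNilpotent_of_baseChange_eq_zero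
  intro p
  let κ := p.asIdeal.ResidueField
  let ψ := φ.restrict hφH
  show (ψ ^ n).baseChange κ = 0
  have hint := baseChange_pow_comm φ H hφH κ n
  have hpow : (ψ ^ n).baseChange κ = (ψ.baseChange κ) ^ n :=
    map_pow (Module.End.baseChangeHom A κ H) ψ n
  rw [hpow]
  refine LinearMap.ext fun η => ?_
  apply baseChange_subtype_injective H κ
  have h1 : H.subtype.baseChange κ η ∈
      Module.End.maxGenEigenspace (φ.baseChange κ) 0 :=
    hle p (LinearMap.mem_range_self _ η)
  rw [Module.End.maxGenEigenspace_eq_genEigenspace_finrank, mem_genEigenspace_zero_nat] at h1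
  have h2 : ((φ.baseChange κ) ^ n) (H.subtype.baseChange κ η) = 0 := by
    obtain ⟨j, hj⟩ := Nat.exists_eq_add_of_le (hn p)
    rw [hj, add_comm, pow_add, Module.End.mul_apply]
    exact (congrArg _ h1).trans (map_zero _)
  have h3 := LinearMap.congr_fun hint η
  simp only [LinearMap.coe_comp, Function.comp_apply] at h3
  rw [h3, h2, LinearMap.zero_apply, map_zero]

include hle hφH in
theorem le_maxGenEigenspace_of_le : H ≤ Module.End.maxGenEigenspace φ 0 := by
  obtain ⟨e, he⟩ := restrict_isNilpotent_of_le φ H hφH hle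
  intro h hh
  rw [mem_maxGenEigenspace_zero]
  refine ⟨e, ?_⟩
  have h1 := LinearMap.congr_fun he ⟨h, hh⟩
  rw [Module.End.pow_restrict, LinearMap.zero_apply] at h1
  exact congrArg Subtype.val h1

end Lin

section Lie

open LieAlgebra

variable {A : Type u} [CommRing A] {L : Type u} [LieRing L] [LieAlgebra A L]
  [Module.Finite A L] [Module.Projective A L] (H : LieSubalgebra A L)

/-- a relative Cartan subalgebra lies in the Engel subalgebra of each of its elements -/
theorem le_engel_of_mem (hH : SGA3t2b.IsCartanRel H) (a : L) (haH : a ∈ H) :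
    H ≤ LieSubalgebra.engel A a := by
  haveI : Module.Projective A (L ⧸ H.toSubmodule) := hH.1
  have h := le_maxGenEigenspace_of_le (adL (A := A) a) H.toSubmodule (adL_mem H a haH)
    (fun q => by
      rw [← engel_toSubmodule]
      exact fibre_le_engel H a haH q (hH.2 q).1)
  exact h

/-- **S8374** -/
theorem exists_regular_section (hH : SGA3t2b.IsCartanRel H) (p : PrimeSpectrum A)
    (hp : Infinite p.asIdeal.ResidueField) :
    ∃ f : A, f ∉ p.asIdeal ∧ ∃ a : L, a ∈ H ∧
      (∀ q : PrimeSpectrum A, f ∉ q.asIdeal →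
        LieAlgebra.IsRegular q.asIdeal.ResidueField ((1 : q.asIdeal.ResidueField) ⊗ₜ[A] a)) ∧
      H ≤ LieSubalgebra.engel A a ∧
      ∀ y : L, y ∈ LieSubalgebra.engel A a → ∃ n : ℕ, f ^ n • y ∈ H := by
  haveI : Module.Projective A (L ⧸ H.toSubmodule) := hH.1
  obtain ⟨a, haH, hreg⟩ := exists_mem_isRegular H hH p hp
  have hlc := isLocallyConstant_fibreRank_of_cartan H hH
  have hopen := isOpen_isRegular hlc a
  obtain ⟨_, ⟨f, rfl⟩, hpf, hsub⟩ :=
    PrimeSpectrum.isTopologicalBasis_basic_opens.exists_subset_of_mem_open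
      (show p ∈ {p : PrimeSpectrum A | LieAlgebra.IsRegular p.asIdeal.ResidueField
        ((1 : p.asIdeal.ResidueField) ⊗ₜ[A] a)} from hreg) hopen
  refine ⟨f, hpf, a, haH, fun q hq => hsub hq, le_engel_of_mem H hH a haH, ?_⟩
  intro y hy
  obtain ⟨k, hk⟩ := (LieSubalgebra.mem_engel_iff A a y).mp hy
  -- fibres over `D(f)`
  have hfib : ∀ q : PrimeSpectrum A, f ∉ q.asIdeal →
      LinearMap.range (H.toSubmodule.subtype.baseChange q.asIdeal.ResidueField) =
        Module.End.maxGenEigenspace ((adL (A := A) a).baseChange q.asIdeal.ResidueField) 0 := by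
    intro q hq
    rw [← engel_toSubmodule]
    obtain ⟨hnil, -, hrank⟩ := hH.2 q
    apply Submodule.eq_of_le_of_finrank_eq (fibre_le_engel H a haH q hnil)
    rw [hrank]
    exact ((LieAlgebra.isRegular_iff_finrank_engel_eq_rank q.asIdeal.ResidueField _).mp
      (hsub hq)).symm
  have hinj : ∀ q : PrimeSpectrum A, f ∉ q.asIdeal → Function.Injective
      ((H.toSubmodule.mapQ H.toSubmodule (adL (A := A) a)
        (fun h hh => adL_mem H a haH h hh)).baseChange q.asIdeal.ResidueField) :=
    fun q hq => mapQ_baseChange_injective (adL (A := A) a) H.toSubmodule (adL_mem H a haH) _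
      (hfib q hq)
  have hw : ((H.toSubmodule.mapQ H.toSubmodule (adL (A := A) a)
      (fun h hh => adL_mem H a haH h hh)) ^ k) (Submodule.Quotient.mk y) = 0 := by
    rw [mapQ_pow_mk (adL (A := A) a) H.toSubmodule (adL_mem H a haH)]
    have : ((adL (A := A) a) ^ k) y = 0 := hk
    rw [this, Submodule.Quotient.mk_zero]
  obtain ⟨m, hm⟩ := exists_pow_smul_eq_zero _ f hinj k _ hw
  refine ⟨m, ?_⟩
  rw [← Submodule.Quotient.mk_smul, Submodule.Quotient.mk_eq_zero] at hm
  exact hm

end Lie

end Groth.Agent.Helper20.CartRel
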