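import Mathlib
import Groth.Prelude.Def_W4sga3xiixivxvCartan
import Groth.Agent.Lib.Helper20.CartRel5
import Groth.Agent.Lib.Helper20.CartRel8
import Groth.Agent.Lib.Helper20.CartRel10
import Groth.Agent.Lib.Helper20.CartRel12

/-!
# Regular elements and base change of the base ring; local existence of Cartan subalgebras under
condition (C₂) (helper20)
-/

set_option autoImplicit false
set_option linter.unusedSectionVars false
set_option linter.style.haveILetI false
universe u

namespace Groth.Agent.Helper20.CartRel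

open TensorProduct LieAlgebra

section Iso

attribute [local instance 100] LieRing.ofAssociativeRing

theorem isRegular_map_lieEquiv {K : Type*} [CommRing K] [Nontrivial K] {L L' : Type*} [LieRing L]
    [LieAlgebra K L] [LieRing L'] [LieAlgebra K L'] [Module.Free K L] [Module.Finite K L]
    [Module.Free K L'] [Module.Finite K L'] (e : L ≃ₗ⁅K⁆ L') (x : L)
    (hx : LieAlgebra.IsRegular K x) : LieAlgebra.IsRegular K (e x) := by
  rw [LieAlgebra.isRegular_iff_natTrailingDegree_charpoly_eq_rank] at hx ⊢
  rw [← rank_eq_of_lieEquiv e, ← hx]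
  have : LieAlgebra.ad K L' (e x) = e.toLinearEquiv.conj (LieAlgebra.ad K L x) := by
    ext y
    rw [LinearEquiv.conj_apply]
    simp only [LieAlgebra.ad_apply, LinearMap.coe_comp, LinearEquiv.coe_coe, Function.comp_apply]
    have h1 : e.toLinearEquiv.symm y = e.symm y := rfl
    have h2 : ∀ z, e.toLinearEquiv z = e z := fun z => rfl
    rw [h1, h2, LieEquiv.map_lie, LieEquiv.apply_symm_apply]
  rw [this, LinearEquiv.charpoly_conj]

theorem isRegular_smul {K : Type*} {g : Type*} [Field K] [LieRing g] [LieAlgebra K g]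
    [Module.Finite K g] (c : K) (hc : c ≠ 0) (y : g) (hy : LieAlgebra.IsRegular K y) :
    LieAlgebra.IsRegular K (c • y) := by
  rw [LieAlgebra.isRegular_iff_finrank_engel_eq_rank] at hy ⊢
  rw [engel_smul c hc, hy]

end Iso

section Comap

variable {A : Type u} [CommRing A] {L : Type u} [LieRing L] [LieAlgebra A L]
  [Module.Finite A L] [Module.Projective A L]

/-- regularity at a point is preserved by base change of the base ring -/
theorem isRegular_comap (A' : Type u) [CommRing A'] [Algebra A A'] (p' : PrimeSpectrum A')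
    (a : L)
    (h : LieAlgebra.IsRegular (PrimeSpectrum.comap (algebraMap A A') p').asIdeal.ResidueField
      ((1 : (PrimeSpectrum.comap (algebraMap A A') p').asIdeal.ResidueField) ⊗ₜ[A] a)) :
    LieAlgebra.IsRegular p'.asIdeal.ResidueField
      ((1 : p'.asIdeal.ResidueField) ⊗ₜ[A'] ((1 : A') ⊗ₜ[A] a)) := by
  let p : PrimeSpectrum A := PrimeSpectrum.comap (algebraMap A A') p'
  haveI : p'.asIdeal.LiesOver p.asIdeal := ⟨rfl⟩
  letI := Localization.AtPrime.algebraOfLiesOver p.asIdeal p'.asIdeal
  have h1 := isRegular_baseChange p.asIdeal.ResidueField p'.asIdeal.ResidueField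
    ((1 : p.asIdeal.ResidueField) ⊗ₜ[A] a) h
  let e1 := cancelBaseChangeLie A p.asIdeal.ResidueField p'.asIdeal.ResidueField L
  let e2 := cancelBaseChangeLie A A' p'.asIdeal.ResidueField L
  have h2 := isRegular_map_lieEquiv e1 _ h1
  have h3 := isRegular_map_lieEquiv e2.symm _ h2
  have h4 : e2.symm (e1 ((1 : p'.asIdeal.ResidueField) ⊗ₜ[p.asIdeal.ResidueField]
      ((1 : p.asIdeal.ResidueField) ⊗ₜ[A] a))) =
      (1 : p'.asIdeal.ResidueField) ⊗ₜ[A'] ((1 : A') ⊗ₜ[A] a) := by
    rw [LieEquiv.symm_apply_eq]
    show (TensorProduct.AlgebraTensorModule.cancelBaseChange A p.asIdeal.ResidueField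
      p'.asIdeal.ResidueField p'.asIdeal.ResidueField L) _ =
      (TensorProduct.AlgebraTensorModule.cancelBaseChange A A'
      p'.asIdeal.ResidueField p'.asIdeal.ResidueField L) _
    rw [TensorProduct.AlgebraTensorModule.cancelBaseChange_tmul,
      TensorProduct.AlgebraTensorModule.cancelBaseChange_tmul, one_smul, one_smul]
  rw [← h4]
  exact h3

end Comap

section C2

variable {A : Type u} [CommRing A] {L : Type u} [LieRing L] [LieAlgebra A L]
  [Module.Finite A L] [Module.Projective A L]

/-- an element which is regular at all points of `D(f)` becomes quasi-regular over `A_f` -/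
theorem isQuasiRegular_away (f : A) (a : L)
    (h : ∀ q : PrimeSpectrum A, f ∉ q.asIdeal →
      LieAlgebra.IsRegular q.asIdeal.ResidueField ((1 : q.asIdeal.ResidueField) ⊗ₜ[A] a)) :
    SGA3t2b.IsQuasiRegular (Localization.Away f) (Localization.Away f ⊗[A] L)
      ((1 : Localization.Away f) ⊗ₜ[A] a) := by
  intro q'
  apply isRegular_comap
  apply h
  intro hf
  have hu : IsUnit (algebraMap A (Localization.Away f) f) :=
    IsLocalization.map_units (Localization.Away f) (⟨f, Submonoid.mem_powers f⟩ : Submonoid.powers f)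
  have hmem : algebraMap A (Localization.Away f) f ∈ q'.asIdeal := hf
  exact q'.isPrime.ne_top (Ideal.eq_top_of_isUnit_mem _ hmem hu)

/-- a regular element of the fibre at `p` can be lifted, up to a unit, to a section which is
regular on a neighbourhood `D(f)` of `p`, when the fibre rank is locally constant -/
theorem exists_regular_lift (hlc : IsLocallyConstant (fibreRank A L)) (p : PrimeSpectrum A)
    (hp : ∃ x : p.asIdeal.ResidueField ⊗[A] L, LieAlgebra.IsRegular p.asIdeal.ResidueField x) :
    ∃ f : A, f ∉ p.asIdeal ∧ ∃ a : L, ∀ q : PrimeSpectrum A, f ∉ q.asIdeal →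
      LieAlgebra.IsRegular q.asIdeal.ResidueField ((1 : q.asIdeal.ResidueField) ⊗ₜ[A] a) := by
  obtain ⟨x, hx⟩ := hp
  obtain ⟨s, hs, a, ha⟩ := exists_smul_eq_one_tmul p x
  have hs0 : algebraMap A p.asIdeal.ResidueField s ≠ 0 := by
    rw [Ne, Ideal.algebraMap_residueField_eq_zero]
    exact hs
  have hreg : LieAlgebra.IsRegular p.asIdeal.ResidueField
      ((1 : p.asIdeal.ResidueField) ⊗ₜ[A] a) := by
    rw [← ha]
    exact isRegular_smul _ hs0 x hx
  have hopen := isOpen_isRegular hlc a
  obtain ⟨_, ⟨f, rfl⟩, hpf, hsub⟩ :=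
    PrimeSpectrum.isTopologicalBasis_basic_opens.exists_subset_of_mem_open
      (show p ∈ {p : PrimeSpectrum A | LieAlgebra.IsRegular p.asIdeal.ResidueField
        ((1 : p.asIdeal.ResidueField) ⊗ₜ[A] a)} from hreg) hopen
  exact ⟨f, hpf, a, fun q hq => hsub hq⟩

end C2

end Groth.Agent.Helper20.CartRel
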