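import Mathlib
import Groth.Prelude.Def_W4sga3xiixivxvCartan
import Groth.Agent.Lib.Helper20.CartRel15

/-!
# An étale covering over which a quasi-regular section exists (helper20)
-/

set_option autoImplicit false
set_option linter.unusedSectionVars false
set_option linter.style.haveILetI false
universe u

namespace Groth.Agent.Helper20.CartRel

open TensorProduct LieAlgebra

section Idem

/-- a complete family of orthogonal idempotents in a field is a "delta function" -/
theorem exists_eq_one_of_orthogonal {K : Type*} [Field K] {ι : Type*} [Fintype ι] [DecidableEq ι]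
    (e : ι → K) (hsum : ∑ i, e i = 1) (horth : ∀ i j, i ≠ j → e i * e j = 0)
    (hidem : ∀ i, e i * e i = e i) : ∃ i₀, e i₀ = 1 ∧ ∀ j, j ≠ i₀ → e j = 0 := by
  have hex : ∃ i₀, e i₀ ≠ 0 := by
    by_contra hcon
    push Not at hcon
    rw [Finset.sum_eq_zero (fun i _ => hcon i)] at hsum
    exact zero_ne_one hsum
  obtain ⟨i₀, hi₀⟩ := hex
  have h1 : e i₀ = 1 := by
    have := hidem i₀
    have h2 : e i₀ * (e i₀ - 1) = 0 := by rw [mul_sub, this, mul_one, sub_self]
    rcases mul_eq_zero.mp h2 with h | h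
    · exact absurd h hi₀
    · exact sub_eq_zero.mp h
  refine ⟨i₀, h1, fun j hj => ?_⟩
  have := horth j i₀ hj
  rwa [h1, mul_one] at this

end Idem

variable {A : Type u} [CommRing A] {L : Type u} [LieRing L] [LieAlgebra A L]
  [Module.Finite A L] [Module.Projective A L]

theorem exists_etale_cover_quasiRegular (hlc : IsLocallyConstant (fibreRank A L))
    (hreg : ∀ p : PrimeSpectrum A, ∃ x : p.asIdeal.ResidueField ⊗[A] L,
      LieAlgebra.IsRegular p.asIdeal.ResidueField x) :
    ∃ (A' : Type u) (_ : CommRing A') (_ : Algebra A A'), Algebra.Etale A A' ∧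
      Module.FaithfullyFlat A A' ∧
      ∃ a' : A' ⊗[A] L, SGA3t2b.IsQuasiRegular A' (A' ⊗[A] L) a' := by
  classical
  let S : Set A := {f | ∃ a : L, ∀ q : PrimeSpectrum A, f ∉ q.asIdeal →
    LieAlgebra.IsRegular q.asIdeal.ResidueField ((1 : q.asIdeal.ResidueField) ⊗ₜ[A] a)}
  have hS : Ideal.span S = ⊤ := by
    by_contra hne
    obtain ⟨m, hm, hle⟩ := Ideal.exists_le_maximal _ hne
    obtain ⟨f, hf, a, ha⟩ := exists_regular_lift hlc ⟨m, hm.isPrime⟩ (hreg _)
    exact hf (hle (Ideal.subset_span ⟨a, ha⟩))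
  obtain ⟨s', hs'S, hs'⟩ := (Ideal.span_eq_top_iff_finite S).mp hS
  have hex : ∀ f : A, ∃ a : L, f ∈ S → ∀ q : PrimeSpectrum A, f ∉ q.asIdeal →
      LieAlgebra.IsRegular q.asIdeal.ResidueField ((1 : q.asIdeal.ResidueField) ⊗ₜ[A] a) := by
    intro f
    by_cases hf : f ∈ S
    · obtain ⟨a, ha⟩ := hf
      exact ⟨a, fun _ => ha⟩
    · exact ⟨0, fun h => absurd h hf⟩
  choose a ha using hex
  let ι : Type u := ↥s'
  let B : ι → Type u := fun i => Localization.Away (i : A)
  refine ⟨Π i, B i, inferInstance, inferInstance, inferInstance, ?_, ?_⟩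
  · -- faithfully flat
    apply Module.FaithfullyFlat.of_comap_surjective
    intro p
    have hfp : ∃ f ∈ s', f ∉ p.asIdeal := by
      by_contra hcon
      push Not at hcon
      have h1 : Ideal.span (s' : Set A) ≤ p.asIdeal := Ideal.span_le.mpr hcon
      rw [hs'] at h1
      exact p.isPrime.ne_top (top_le_iff.mp h1)
    obtain ⟨f, hfs, hfp⟩ := hfp
    let i : ι := ⟨f, hfs⟩
    have hrange := PrimeSpectrum.localization_away_comap_range (Localization.Away f) f
    have hp : p ∈ Set.range (PrimeSpectrum.comap (algebraMap A (Localization.Away f))) := by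
      rw [hrange]
      exact hfp
    obtain ⟨qf, hqf⟩ := hp
    refine ⟨PrimeSpectrum.comap (Pi.evalRingHom B i) qf, ?_⟩
    rw [← hqf]
    rfl
  · -- the quasi-regular element
    refine ⟨∑ i : ι, (Pi.single i 1 : Π i, B i) ⊗ₜ[A] a (i : A), ?_⟩
    intro q'
    let κ' := q'.asIdeal.ResidueField
    let e : ι → κ' := fun i => algebraMap (Π i, B i) κ' (Pi.single i 1)
    have hsum : ∑ i, e i = 1 := by
      show ∑ i, algebraMap (Π i, B i) κ' (Pi.single i 1) = 1
      rw [← map_sum, Finset.univ_sum_single (fun _ => (1 : _))]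
      exact map_one _
    have horth : ∀ i j, i ≠ j → e i * e j = 0 := by
      intro i j hij
      show algebraMap (Π i, B i) κ' (Pi.single i 1) * algebraMap (Π i, B i) κ' (Pi.single j 1) = 0
      rw [← map_mul]
      have : (Pi.single i 1 : Π i, B i) * Pi.single j 1 = 0 := by
        funext k
        by_cases hk : k = i
        · subst hk
          simp [Pi.single_eq_of_ne hij]
        · simp [Pi.single_eq_of_ne hk]
      rw [this, map_zero]
    have hidem : ∀ i, e i * e i = e i := by
      intro i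
      show algebraMap (Π i, B i) κ' (Pi.single i 1) * algebraMap (Π i, B i) κ' (Pi.single i 1) =
        algebraMap (Π i, B i) κ' (Pi.single i 1)
      rw [← map_mul, ← Pi.single_mul, one_mul]
    obtain ⟨i₀, hi₀, hne⟩ := exists_eq_one_of_orthogonal e hsum horth hidem
    have h1 : ((1 : κ') ⊗ₜ[Π i, B i] (∑ i : ι, (Pi.single i 1 : Π i, B i) ⊗ₜ[A] a (i : A)) :
        κ' ⊗[Π i, B i] ((Π i, B i) ⊗[A] L)) =
        (1 : κ') ⊗ₜ[Π i, B i] ((1 : Π i, B i) ⊗ₜ[A] a (i₀ : A)) := by
      rw [TensorProduct.tmul_sum]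
      have h2 : ∀ i : ι, ((1 : κ') ⊗ₜ[Π i, B i] ((Pi.single i 1 : Π i, B i) ⊗ₜ[A] a (i : A)) :
          κ' ⊗[Π i, B i] ((Π i, B i) ⊗[A] L)) =
          (e i) ⊗ₜ[Π i, B i] ((1 : Π i, B i) ⊗ₜ[A] a (i : A)) := by
        intro i
        have h3 : ((Pi.single i 1 : Π i, B i) ⊗ₜ[A] a (i : A) : (Π i, B i) ⊗[A] L) =
            (Pi.single i 1 : Π i, B i) • ((1 : Π i, B i) ⊗ₜ[A] a (i : A)) := by
          rw [TensorProduct.smul_tmul', smul_eq_mul, mul_one]
        rw [h3, TensorProduct.tmul_smul, TensorProduct.smul_tmul', Algebra.smul_def, mul_one]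
      rw [Finset.sum_congr rfl (fun i _ => h2 i), Finset.sum_eq_single i₀]
      · rw [hi₀]
      · intro j _ hj
        rw [hne j hj, TensorProduct.zero_tmul]
      · intro h
        exact absurd (Finset.mem_univ _) h
    rw [h1]
    apply isRegular_comap
    apply ha (i₀ : A) (hs'S i₀.2)
    intro hf
    have hmem : algebraMap A (Π i, B i) (i₀ : A) ∈ q'.asIdeal := hf
    let v : Π i, B i := Pi.single i₀ (IsLocalization.Away.invSelf (S := B i₀) (i₀ : A))
    have hv : algebraMap A (Π i, B i) (i₀ : A) * v = Pi.single i₀ 1 := by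
      funext k
      by_cases hk : k = i₀
      · subst hk
        simp only [Pi.mul_apply, Pi.algebraMap_apply, v, Pi.single_eq_same]
        exact IsLocalization.Away.mul_invSelf (k : A)
      · simp [v, Pi.single_eq_of_ne hk]
    have hmem2 : (Pi.single i₀ 1 : Π i, B i) ∈ q'.asIdeal := by
      rw [← hv]
      exact Ideal.mul_mem_right _ _ hmem
    have h0 : e i₀ = 0 := Ideal.algebraMap_residueField_eq_zero.mpr hmem2
    rw [hi₀] at h0
    exact one_ne_zero h0

end Groth.Agent.Helper20.CartRel
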