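import Mathlib
import Groth.Agent.Lib.Helper20.CartRel2

/-!
# Fitting decomposition from a polynomial identity (helper20)

If `φ^N * Q(φ) = 0` with `Q(0)` a unit then the generalized kernel of `φ` is the kernel of an
idempotent `x = φ * z`.
-/

set_option autoImplicit false
set_option linter.unusedSectionVars false
set_option linter.style.haveILetI false
universe u

namespace Groth.Agent.Helper20.CartRel

open Polynomial

section StepD

variable {R : Type*} [CommRing R] {M : Type*} [AddCommGroup M] [Module R M]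

theorem exists_idempotent_of_poly (φ : Module.End R M) (Q : R[X]) (u : Rˣ)
    (hu : Q.coeff 0 = (u : R)) (N : ℕ) (hN : φ ^ N * aeval φ Q = 0) :
    ∃ x z : Module.End R M, x * x = x ∧ x = φ * z ∧
      LinearMap.ker x = Module.End.maxGenEigenspace φ 0 := by
  -- polynomial identities
  let Q₁ : R[X] := Q.divX
  let W : R[X] := - (C ((u⁻¹ : Rˣ) : R)) * Q₁
  have hQ : Q = Q₁ * X + C (u : R) := by rw [← hu]; exact (Polynomial.divX_mul_X_add Q).symm
  have h1 : 1 - X * W = C ((u⁻¹ : Rˣ) : R) * Q := by
    have hcu : C ((u⁻¹ : Rˣ) : R) * C (u : R) = 1 := by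
      rw [← C_mul, Units.inv_mul, C_1]
    calc 1 - X * W = 1 + C ((u⁻¹ : Rˣ) : R) * (Q₁ * X) := by simp only [W]; ring
      _ = C ((u⁻¹ : Rˣ) : R) * C (u : R) + C ((u⁻¹ : Rˣ) : R) * (Q₁ * X) := by rw [hcu]
      _ = C ((u⁻¹ : Rˣ) : R) * Q := by rw [hQ]; ring
  let xp : R[X] := (X * W) ^ (N + 1)
  let g : R[X] := ∑ t ∈ Finset.range (N + 1), (X * W) ^ t
  have h2 : 1 - xp = C ((u⁻¹ : Rˣ) : R) * Q * g := by
    rw [← h1]
    have := mul_neg_geom_sum (X * W) (N + 1)
    simp only [xp, g]
    rw [← this]
  -- the endomorphisms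
  let x : Module.End R M := aeval φ xp
  let z : Module.End R M := aeval φ (X ^ N * W ^ (N + 1))
  have hxz : x = φ * z := by
    have : xp = X * (X ^ N * W ^ (N + 1)) := by simp only [xp]; ring
    simp only [x, z]
    rw [this, map_mul, aeval_X]
  have hkill : ∀ S : R[X], aeval φ (S * (X ^ N * Q)) = 0 := by
    intro S
    rw [map_mul, map_mul, map_pow, aeval_X, hN, mul_zero]
  have hidem : x * x = x := by
    have h3 : xp * xp = xp - xp * (1 - xp) := by ring
    have h4 : xp * (1 - xp) = (X * W ^ (N + 1) * C ((u⁻¹ : Rˣ) : R) * g) * (X ^ N * Q) := by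
      rw [h2]; simp only [xp]; ring
    simp only [x]
    rw [← map_mul, h3, map_sub, h4, hkill, sub_zero]
  have h1x : (1 : Module.End R M) - x = aeval φ (C ((u⁻¹ : Rˣ) : R) * Q * g) := by
    simp only [x]
    rw [← h2, map_sub, map_one]
  refine ⟨x, z, hidem, hxz, ?_⟩
  ext y
  rw [LinearMap.mem_ker, mem_maxGenEigenspace_zero]
  constructor
  · intro hy
    refine ⟨N, ?_⟩
    have h5 : y = ((1 : Module.End R M) - x) y := by
      rw [LinearMap.sub_apply, hy, sub_zero, Module.End.one_apply]
    have h6 : φ ^ N * ((1 : Module.End R M) - x) = 0 := by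
      rw [h1x]
      have : (φ ^ N : Module.End R M) = aeval φ (X ^ N : R[X]) := by rw [map_pow, aeval_X]
      rw [this, ← map_mul]
      have : X ^ N * (C ((u⁻¹ : Rˣ) : R) * Q * g) = (C ((u⁻¹ : Rˣ) : R) * g) * (X ^ N * Q) := by
        ring
      rw [this, hkill]
    rw [h5, ← Module.End.mul_apply, h6, LinearMap.zero_apply]
  · rintro ⟨k, hk⟩
    have hpow : ∀ t : ℕ, x ^ (t + 1) = x := by
      intro t
      induction t with
      | zero => rw [zero_add, pow_one]
      | succ t ih => rw [pow_succ, ih, hidem]
    have h7 : x ^ (k + 1) = aeval φ (W ^ ((N + 1) * (k + 1)) * X ^ (N * (k + 1))) * φ ^ (k + 1)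
        := by
      have : (φ ^ (k + 1) : Module.End R M) = aeval φ (X ^ (k + 1) : R[X]) := by
        rw [map_pow, aeval_X]
      rw [this, ← map_mul]
      simp only [x]
      rw [← map_pow]
      congr 1
      simp only [xp]
      rw [← pow_mul, mul_pow]
      ring
    rw [← hpow k, h7, Module.End.mul_apply, pow_succ', Module.End.mul_apply, hk, map_zero,
      map_zero]

theorem projective_quotient_ker_of_idempotent [Module.Projective R M] (x : Module.End R M)
    (hx : x * x = x) : Module.Projective R (M ⧸ LinearMap.ker x) := by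
  have hsplit : x.rangeRestrict ∘ₗ (LinearMap.range x).subtype = LinearMap.id := by
    ext ⟨m, y, rfl⟩
    show x (x y) = x y
    rw [← Module.End.mul_apply, hx]
  haveI : Module.Projective R (LinearMap.range x) :=
    Module.Projective.of_split (LinearMap.range x).subtype x.rangeRestrict hsplit
  exact Module.Projective.of_equiv (LinearMap.quotKerEquivRange x).symm

/-- **Fitting decomposition**: if `φ^N * Q(φ) = 0` with `Q(0)` a unit, then the quotient by the
generalized kernel of `φ` is projective and `φ` is surjective modulo the generalized kernel. -/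
theorem fitting_of_poly [Module.Projective R M] (φ : Module.End R M) (Q : R[X]) (u : Rˣ)
    (hu : Q.coeff 0 = (u : R)) (N : ℕ) (hN : φ ^ N * aeval φ Q = 0) :
    Module.Projective R (M ⧸ Module.End.maxGenEigenspace φ 0) ∧
      ∀ y : M, ∃ z : M, φ z - y ∈ Module.End.maxGenEigenspace φ 0 := by
  obtain ⟨x, z, hidem, hxz, hker⟩ := exists_idempotent_of_poly φ Q u hu N hN
  constructor
  · rw [← hker]
    exact projective_quotient_ker_of_idempotent x hidem
  · intro y
    refine ⟨z y, ?_⟩
    rw [← hker, LinearMap.mem_ker, map_sub]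
    have h1 : φ (z y) = x y := by rw [hxz, Module.End.mul_apply]
    rw [h1, ← Module.End.mul_apply, hidem, sub_self]

end StepD

end Groth.Agent.Helper20.CartRel
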