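import Mathlib
import Groth.Prelude.Def_W4sga3xiixivxvCartan
import Groth.Agent.Lib.Helper20.CartRel3
import Groth.Agent.Lib.Helper20.CartRel9
import Groth.Agent.Lib.Helper20.CartRel10

/-!
# The universal Killing polynomial of a finite projective Lie algebra (helper20)

`L` is a retract of `V = A^n` via `s : V → L`, `i : L → V`; we consider the linear family
`v ↦ i ∘ ad (s v) ∘ s` of endomorphisms of `V` and its universal characteristic polynomial.
-/

set_option autoImplicit false
set_option linter.unusedSectionVars false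
set_option linter.style.haveILetI false
universe u

namespace Groth.Agent.Helper20.CartRel

open TensorProduct LieAlgebra Polynomial

attribute [local instance 100] LieRing.ofAssociativeRing

variable {A : Type u} [CommRing A] {L : Type u} [LieRing L] [LieAlgebra A L]
  {n : ℕ} (s : (Fin n → A) →ₗ[A] L) (i : L →ₗ[A] (Fin n → A))

/-- the family `v ↦ i ∘ ad (s v) ∘ s` -/
noncomputable def famΦ : (Fin n → A) →ₗ[A] Module.End A (Fin n → A) where
  toFun v := i ∘ₗ (LieAlgebra.ad A L (s v) : L →ₗ[A] L) ∘ₗ s
  map_add' v w := by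
    ext x
    simp only [map_add, LinearMap.coe_comp, Function.comp_apply, LinearMap.add_apply]
  map_smul' c v := by
    ext x
    simp only [map_smul, LinearMap.coe_comp, Function.comp_apply, LinearMap.smul_apply,
      RingHom.id_apply]

theorem famΦ_apply (v : Fin n → A) :
    famΦ s i v = i ∘ₗ (LieAlgebra.ad A L (s v) : L →ₗ[A] L) ∘ₗ s := rfl

/-- the base change of the family -/
noncomputable def famΦB (B : Type u) [CommRing B] [Algebra A B] :
    (B ⊗[A] (Fin n → A)) →ₗ[B] Module.End B (B ⊗[A] (Fin n → A)) :=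
  (LinearMap.tensorProduct A B (Fin n → A) (Fin n → A)) ∘ₗ (famΦ s i).baseChange B

theorem famΦB_apply (B : Type u) [CommRing B] [Algebra A B] (x : B ⊗[A] (Fin n → A)) :
    famΦB s i B x = (i.baseChange B) ∘ₗ
      (LieAlgebra.ad B (B ⊗[A] L) ((s.baseChange B) x) : B ⊗[A] L →ₗ[B] B ⊗[A] L) ∘ₗ
        (s.baseChange B) := by
  induction x using TensorProduct.induction_on with
  | zero => simp
  | tmul b v =>
    have h1 : famΦB s i B (b ⊗ₜ[A] v) = b • ((famΦ s i v).baseChange B) := by
      simp only [famΦB, LinearMap.coe_comp, Function.comp_apply, LinearMap.baseChange_tmul]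
      ext y
      simp [LinearMap.tensorProduct]
    have h2 : (s.baseChange B) (b ⊗ₜ[A] v) = b • ((1 : B) ⊗ₜ[A] s v) := by
      rw [LinearMap.baseChange_tmul, TensorProduct.smul_tmul', smul_eq_mul, mul_one]
    rw [h1, h2, map_smul, famΦ_apply, LinearMap.baseChange_comp, LinearMap.baseChange_comp]
    have h3 : (LieAlgebra.ad A L (s v) : L →ₗ[A] L).baseChange B =
        LieAlgebra.ad B (B ⊗[A] L) ((1 : B) ⊗ₜ[A] s v) :=
      (LieModule.toEnd_baseChange (R := A) (A := B) (L := L) (M := L) (s v)).symm
    rw [h3]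
    ext y
    simp
  | add x y hx hy =>
    rw [map_add, hx, hy, map_add, map_add]
    ext z
    simp

/-- the universal polynomial -/
noncomputable def univP : Polynomial (MvPolynomial (Fin n) A) :=
  LinearMap.polyCharpoly (famΦ s i) (Pi.basisFun A (Fin n))

theorem univP_coeff_eval (B : Type u) [CommRing B] [Algebra A B] (x : B ⊗[A] (Fin n → A))
    (j : ℕ) :
    MvPolynomial.eval ((Algebra.TensorProduct.basis B (Pi.basisFun A (Fin n))).repr x)
      (MvPolynomial.map (algebraMap A B) ((univP s i).coeff j)) =
        (famΦB s i B x).charpoly.coeff j := by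
  have h1 := LinearMap.polyCharpoly_baseChange (famΦ s i) (Pi.basisFun A (Fin n)) B
  have h2 := LinearMap.polyCharpoly_coeff_eval
    ((LinearMap.tensorProduct A B (Fin n → A) (Fin n → A)) ∘ₗ (famΦ s i).baseChange B)
    (Algebra.TensorProduct.basis B (Pi.basisFun A (Fin n))) x j
  rw [h1, Polynomial.coeff_map] at h2
  exact h2

section Field

theorem charpoly_conj_retract {K : Type*} [Field K] {V W : Type*} [AddCommGroup V] [Module K V]
    [Module.Finite K V] [AddCommGroup W] [Module K W] [Module.Finite K W]
    (s : V →ₗ[K] W) (i : W →ₗ[K] V) (hsi : s ∘ₗ i = LinearMap.id) (ψ : Module.End K W) :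
    X ^ Module.finrank K W * (i ∘ₗ ψ ∘ₗ s).charpoly = X ^ Module.finrank K V * ψ.charpoly := by
  have h := charpoly_comp_comm s (i ∘ₗ ψ)
  have h1 : s ∘ₗ (i ∘ₗ ψ) = ψ := by
    rw [← LinearMap.comp_assoc, hsi, LinearMap.id_comp]
  rw [h1, LinearMap.comp_assoc] at h
  exact h

theorem coeff_charpoly_conj_retract {K : Type*} [Field K] {V W : Type*} [AddCommGroup V]
    [Module K V] [Module.Finite K V] [AddCommGroup W] [Module K W] [Module.Finite K W]
    (s : V →ₗ[K] W) (i : W →ₗ[K] V) (hsi : s ∘ₗ i = LinearMap.id) (ψ : Module.End K W) (j : ℕ) :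
    (i ∘ₗ ψ ∘ₗ s).charpoly.coeff j =
      if Module.finrank K V ≤ j + Module.finrank K W then
        ψ.charpoly.coeff (j + Module.finrank K W - Module.finrank K V) else 0 := by
  have h := charpoly_conj_retract s i hsi ψ
  have h1 : (X ^ Module.finrank K W * (i ∘ₗ ψ ∘ₗ s).charpoly).coeff (j + Module.finrank K W) =
      (X ^ Module.finrank K V * ψ.charpoly).coeff (j + Module.finrank K W) := by rw [h]
  rw [Polynomial.coeff_X_pow_mul, Polynomial.coeff_X_pow_mul'] at h1
  exact h1

end Field

section Vanish

variable [Module.Finite A L] [Module.Projective A L] (hsi : s ∘ₗ i = LinearMap.id)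

theorem finrank_baseChange_fin (B : Type u) [Field B] [Algebra A B] :
    Module.finrank B (B ⊗[A] (Fin n → A)) = n := by
  rw [(TensorProduct.piScalarRight A B B (Fin n)).finrank_eq, Module.finrank_fin_fun]

include hsi in
/-- the coefficients of low degree of the universal polynomial vanish at every prime -/
theorem univP_coeff_mem (p : PrimeSpectrum A) (j : ℕ)
    (hj : j + Module.finrank p.asIdeal.ResidueField (p.asIdeal.ResidueField ⊗[A] L) <
      n + fibreRank A L p) (μ : Fin n →₀ ℕ) :
    ((univP s i).coeff j).coeff μ ∈ p.asIdeal := by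
  let κ := p.asIdeal.ResidueField
  let Ω := AlgebraicClosure κ
  have hsiΩ : (s.baseChange Ω) ∘ₗ (i.baseChange Ω) = LinearMap.id := by
    rw [← LinearMap.baseChange_comp, hsi, LinearMap.baseChange_id]
  have hd : Module.finrank Ω (Ω ⊗[A] L) = Module.finrank κ (κ ⊗[A] L) := by
    rw [← (TensorProduct.AlgebraTensorModule.cancelBaseChange A κ Ω Ω L).finrank_eq,
      Module.finrank_baseChange]
  have hr : LieAlgebra.rank Ω (Ω ⊗[A] L) = fibreRank A L p := by
    rw [← rank_cancelBaseChange A κ Ω L, rank_baseChange κ Ω (κ ⊗[A] L)]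
    rfl
  have hzero : MvPolynomial.map (algebraMap A Ω) ((univP s i).coeff j) = 0 := by
    apply MvPolynomial.funext
    intro v
    rw [map_zero]
    let x : Ω ⊗[A] (Fin n → A) :=
      (Algebra.TensorProduct.basis Ω (Pi.basisFun A (Fin n))).repr.symm
        (Finsupp.equivFunOnFinite.symm v)
    have hx : ((Algebra.TensorProduct.basis Ω (Pi.basisFun A (Fin n))).repr x : Fin n → Ω) = v := by
      simp only [x, LinearEquiv.apply_symm_apply, Finsupp.coe_equivFunOnFinite_symm]
    have h1 := univP_coeff_eval s i Ω x j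
    rw [hx] at h1
    rw [h1, famΦB_apply,
      coeff_charpoly_conj_retract (s.baseChange Ω) (i.baseChange Ω) hsiΩ _ j,
      finrank_baseChange_fin, hd]
    split_ifs with hle
    · apply Polynomial.coeff_eq_zero_of_lt_natTrailingDegree
      have h2 := LieAlgebra.rank_le_natTrailingDegree_charpoly_ad Ω
        (L := Ω ⊗[A] L) ((s.baseChange Ω) x)
      rw [hr] at h2
      have hj' : j + Module.finrank κ (κ ⊗[A] L) < n + fibreRank A L p := hj
      omega
    · rfl
  have h2 := congrArg (MvPolynomial.coeff μ) hzero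
  rw [MvPolynomial.coeff_map, MvPolynomial.coeff_zero] at h2
  rw [IsScalarTower.algebraMap_apply A κ Ω] at h2
  have h3 : algebraMap A κ (((univP s i).coeff j).coeff μ) = 0 :=
    (algebraMap κ Ω).injective (h2.trans (map_zero _).symm)
  exact Ideal.algebraMap_residueField_eq_zero.mp h3

end Vanish

section Idem

variable [Module.Finite A L] [Module.Projective A L] (hsi : s ∘ₗ i = LinearMap.id)

/-- the (locally constant) expected trailing degree of the universal polynomial -/
noncomputable def mfun (A : Type u) [CommRing A] (L : Type u) [LieRing L] [LieAlgebra A L]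
    [Module.Finite A L] [Module.Projective A L] (n : ℕ) (p : PrimeSpectrum A) : ℕ :=
  n + fibreRank A L p - Module.rankAtStalk (R := A) L p

theorem isLocallyConstant_mfun (hlc : IsLocallyConstant (fibreRank A L)) :
    IsLocallyConstant (mfun A L n) := by
  haveI : Module.FinitePresentation A L := Module.finitePresentation_of_projective A L
  have hd : IsLocallyConstant (Module.rankAtStalk (R := A) L) :=
    Module.isLocallyConstant_rankAtStalk
  exact hlc.comp₂ hd (fun a b => n + a - b)

include hsi in
theorem exists_idempotents [IsReduced A] (hlc : IsLocallyConstant (fibreRank A L)) :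
    ∃ e : ℕ → A, (∀ k, IsIdempotentElem (e k)) ∧
      (∀ k (p : PrimeSpectrum A), e k ∉ p.asIdeal ↔ mfun A L n p = k) ∧
      (∀ k j, j < k → MvPolynomial.C (e k) * (univP s i).coeff j = 0) := by
  have hm := isLocallyConstant_mfun (n := n) hlc
  have hex : ∀ k : ℕ, ∃ e : A, IsIdempotentElem e ∧
      (mfun A L n ⁻¹' {k}) = (PrimeSpectrum.basicOpen e : Set (PrimeSpectrum A)) :=
    fun k => PrimeSpectrum.exists_idempotent_basicOpen_eq_of_isClopen (hm.isClopen_fiber k)
  choose e he1 he2 using hex
  have he3 : ∀ k (p : PrimeSpectrum A), e k ∉ p.asIdeal ↔ mfun A L n p = k := by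
    intro k p
    have : p ∈ (mfun A L n ⁻¹' {k}) ↔ p ∈ (PrimeSpectrum.basicOpen (e k) : Set (PrimeSpectrum A)) := by
      rw [he2 k]
    exact this.symm
  refine ⟨e, he1, he3, ?_⟩
  intro k j hjk
  ext μ
  rw [MvPolynomial.coeff_C_mul, MvPolynomial.coeff_zero]
  apply IsNilpotent.eq_zero
  rw [nilpotent_iff_mem_prime]
  intro J hJ
  let p : PrimeSpectrum A := ⟨J, hJ⟩
  by_cases hk : mfun A L n p = k
  · apply Ideal.mul_mem_left
    apply univP_coeff_mem s i hsi p j _ μ
    have h1 : Module.rankAtStalk (R := A) L p =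
        Module.finrank p.asIdeal.ResidueField (p.asIdeal.ResidueField ⊗[A] L) :=
      Module.rankAtStalk_eq p
    rw [← h1]
    have h2 : j < n + fibreRank A L p - Module.rankAtStalk (R := A) L p := by
      rw [← hk] at hjk
      exact hjk
    omega
  · apply Ideal.mul_mem_right
    by_contra hmem
    exact hk ((he3 k p).mp hmem)

end Idem

end Groth.Agent.Helper20.CartRel
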