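import Mathlib
import Groth.Prelude.Def_W4sga3xiixivxvCartan
import Groth.Agent.Lib.Helper20.CartRel7
import Groth.Agent.Lib.Helper20.CartRel17
import Groth.Agent.Lib.Helper20.CartRel18

/-!
# Over a reduced base, local constancy of the nilpotent rank implies that quasi-regular sections
are regular (helper20)
-/

set_option autoImplicit false
set_option linter.unusedSectionVars false
set_option linter.style.haveILetI false
universe u

namespace Groth.Agent.Helper20.CartRel

open TensorProduct LieAlgebra Polynomial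

section Poly

variable {R : Type*} [CommRing R]

theorem aeval_intertwine {M N : Type*} [AddCommGroup M] [Module R M] [AddCommGroup N]
    [Module R N] (f : M →ₗ[R] N) (φ : Module.End R M) (ψ : Module.End R N)
    (h : f ∘ₗ φ = ψ ∘ₗ f) (P : R[X]) : f ∘ₗ (aeval φ P) = (aeval ψ P) ∘ₗ f := by
  have hpow : ∀ t : ℕ, f ∘ₗ (φ ^ t) = (ψ ^ t) ∘ₗ f := by
    intro t
    induction t with
    | zero => rw [pow_zero, pow_zero]; rfl
    | succ t ih =>
      rw [pow_succ, Module.End.mul_eq_comp, ← LinearMap.comp_assoc, ih, LinearMap.comp_assoc, h,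
        ← LinearMap.comp_assoc, ← Module.End.mul_eq_comp, ← pow_succ]
  induction P using Polynomial.induction_on' with
  | add p q hp hq =>
    rw [map_add, map_add, LinearMap.comp_add, LinearMap.add_comp, hp, hq]
  | monomial t a =>
    rw [← C_mul_X_pow_eq_monomial, map_mul, map_mul, aeval_C, aeval_C, map_pow, map_pow, aeval_X,
      aeval_X, Algebra.algebraMap_eq_smul_one, Algebra.algebraMap_eq_smul_one, smul_mul_assoc,
      smul_mul_assoc, one_mul, one_mul, LinearMap.comp_smul, LinearMap.smul_comp, hpow]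

theorem coeff_iterate_divX (G : R[X]) (k t : ℕ) : (divX^[k] G).coeff t = G.coeff (t + k) := by
  induction k generalizing t with
  | zero => rfl
  | succ k ih =>
    rw [Function.iterate_succ_apply', coeff_divX, ih]
    congr 1
    omega

theorem poly_identity (G : R[X]) (e : ℕ → R) (n : ℕ)
    (h : ∀ k j, j < k → e k * G.coeff j = 0) :
    X ^ n * ∑ k ∈ Finset.range (n + 1), C (e k) * divX^[k] G =
      (∑ k ∈ Finset.range (n + 1), X ^ (n - k) * C (e k)) * G := by
  rw [Finset.mul_sum, Finset.sum_mul]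
  apply Finset.sum_congr rfl
  intro k hk
  have hkn : k ≤ n := Nat.lt_succ_iff.mp (Finset.mem_range.mp hk)
  have h1 : C (e k) * (X ^ k * divX^[k] G) = C (e k) * G := by
    ext t
    rw [coeff_C_mul, coeff_C_mul, coeff_X_pow_mul']
    split_ifs with hkt
    · rw [coeff_iterate_divX, Nat.sub_add_cancel hkt]
    · rw [mul_zero, h k t (not_le.mp hkt)]
  calc X ^ n * (C (e k) * divX^[k] G) = X ^ (n - k) * (C (e k) * (X ^ k * divX^[k] G)) := by
        conv_lhs => rw [← Nat.sub_add_cancel hkn, pow_add]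
        ring
    _ = X ^ (n - k) * C (e k) * G := by rw [h1, mul_assoc]

end Poly

section Main

attribute [local instance 100] LieRing.ofAssociativeRing

variable {A : Type u} [CommRing A] {L : Type u} [LieRing L] [LieAlgebra A L]
  [Module.Finite A L] [Module.Projective A L]

theorem finrank_fibre_baseChange_fin (A' : Type u) [CommRing A'] [Algebra A A'] (n : ℕ)
    (κ' : Type u) [Field κ'] [Algebra A' κ'] [Algebra A κ'] [IsScalarTower A A' κ'] :
    Module.finrank κ' (κ' ⊗[A'] (A' ⊗[A] (Fin n → A))) = n := by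
  rw [(TensorProduct.AlgebraTensorModule.cancelBaseChange A A' κ' κ' (Fin n → A)).finrank_eq,
    finrank_baseChange_fin]

/-- the key polynomial identity for `ad a'` -/
theorem exists_poly_of_quasiRegular [IsReduced A] (hlc : IsLocallyConstant (fibreRank A L))
    (A' : Type u) [CommRing A'] [Algebra A A'] (a' : A' ⊗[A] L)
    (ha' : SGA3t2b.IsQuasiRegular A' (A' ⊗[A] L) a') :
    ∃ (Q : A'[X]) (N : ℕ), IsUnit (Q.coeff 0) ∧
      (LieAlgebra.ad A' (A' ⊗[A] L) a' : Module.End A' (A' ⊗[A] L)) ^ N *
        aeval (LieAlgebra.ad A' (A' ⊗[A] L) a' : Module.End A' (A' ⊗[A] L)) Q = 0 := by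
  classical
  obtain ⟨n, s, i, -, -, hsi⟩ := Module.Finite.exists_comp_eq_id_of_projective A L
  obtain ⟨e, he1, he3, he0⟩ := exists_idempotents s i hsi hlc
  let s' := s.baseChange A'
  let i' := i.baseChange A'
  have hsi' : s' ∘ₗ i' = LinearMap.id := by
    rw [← LinearMap.baseChange_comp, hsi, LinearMap.baseChange_id]
  let φ' : Module.End A' (A' ⊗[A] L) := LieAlgebra.ad A' (A' ⊗[A] L) a'
  let x' := i' a'
  have hx' : s' x' = a' := LinearMap.congr_fun hsi' a'
  let Ψ : Module.End A' (A' ⊗[A] (Fin n → A)) := famΦB s i A' x'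
  have hΨ : Ψ = i' ∘ₗ φ' ∘ₗ s' := by
    show famΦB s i A' x' = _
    rw [famΦB_apply]
    show i' ∘ₗ (LieAlgebra.ad A' (A' ⊗[A] L) (s' x') : Module.End A' (A' ⊗[A] L)) ∘ₗ s' = _
    rw [hx']
  let G := Ψ.charpoly
  have hg : ∀ k j, j < k → algebraMap A A' (e k) * G.coeff j = 0 := by
    intro k j hjk
    have h1 := univP_coeff_eval s i A' x' j
    have h2 := congrArg (fun q => MvPolynomial.eval
      (⇑((Algebra.TensorProduct.basis A' (Pi.basisFun A (Fin n))).repr x'))
      (MvPolynomial.map (algebraMap A A') q)) (he0 k j hjk)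
    simp only [map_mul, MvPolynomial.map_C, MvPolynomial.eval_C, map_zero] at h2
    rw [h1] at h2
    exact h2
  let Q : A'[X] := ∑ k ∈ Finset.range (n + 1), C (algebraMap A A' (e k)) * divX^[k] G
  have hQ := poly_identity G (fun k => algebraMap A A' (e k)) n hg
  have hΨQ : Ψ ^ n * aeval Ψ Q = 0 := by
    have : (Ψ ^ n : Module.End _ _) = aeval Ψ (X ^ n : A'[X]) := by rw [map_pow, aeval_X]
    rw [this, ← map_mul, hQ, map_mul, LinearMap.aeval_self_charpoly, mul_zero]
  have hint : i' ∘ₗ φ' = Ψ ∘ₗ i' := by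
    rw [hΨ, LinearMap.comp_assoc, LinearMap.comp_assoc, hsi', LinearMap.comp_id]
  have hinj : Function.Injective i' :=
    Function.LeftInverse.injective (g := s') (fun y => LinearMap.congr_fun hsi' y)
  have hφQ : φ' ^ n * aeval φ' Q = 0 := by
    have h1 := aeval_intertwine i' φ' Ψ hint (X ^ n * Q)
    rw [map_mul, map_mul, map_pow, map_pow, aeval_X, aeval_X, hΨQ, LinearMap.zero_comp] at h1
    refine LinearMap.ext fun y => ?_
    apply hinj
    have := LinearMap.congr_fun h1 y
    rw [LinearMap.comp_apply, LinearMap.zero_apply] at this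
    rw [this, LinearMap.zero_apply, map_zero]
  refine ⟨Q, n, ?_, hφQ⟩
  -- the constant coefficient is a unit
  have hQ0 : Q.coeff 0 = ∑ k ∈ Finset.range (n + 1), algebraMap A A' (e k) * G.coeff k := by
    simp only [Q]
    rw [Polynomial.finsetSum_coeff]
    apply Finset.sum_congr rfl
    intro k _
    rw [coeff_C_mul, coeff_iterate_divX, zero_add]
  by_contra hnu
  obtain ⟨M, hM, hmem⟩ := exists_max_ideal_of_mem_nonunits hnu
  let q' : PrimeSpectrum A' := ⟨M, hM.isPrime⟩
  let p : PrimeSpectrum A := PrimeSpectrum.comap (algebraMap A A') q'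
  let κ' := q'.asIdeal.ResidueField
  let k₀ := mfun A L n p
  have hdp : Module.rankAtStalk (R := A) L p =
      Module.finrank p.asIdeal.ResidueField (p.asIdeal.ResidueField ⊗[A] L) :=
    Module.rankAtStalk_eq p
  have hrd : fibreRank A L p ≤ Module.rankAtStalk (R := A) L p := by
    rw [hdp]
    exact LieAlgebra.rank_le_finrank _ _
  have hdn : Module.rankAtStalk (R := A) L p ≤ n := by
    rw [hdp]
    have hsurj : Function.Surjective (s.baseChange p.asIdeal.ResidueField) := by
      intro y
      exact ⟨(i.baseChange p.asIdeal.ResidueField) y, by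
        have : (s.baseChange p.asIdeal.ResidueField) ∘ₗ (i.baseChange p.asIdeal.ResidueField) =
            LinearMap.id := by
          rw [← LinearMap.baseChange_comp, hsi, LinearMap.baseChange_id]
        exact LinearMap.congr_fun this y⟩
    have := LinearMap.finrank_le_finrank_of_surjective (R := p.asIdeal.ResidueField) hsurj
    rwa [finrank_baseChange_fin] at this
  have hk₀ : k₀ + Module.rankAtStalk (R := A) L p = n + fibreRank A L p := by
    show n + fibreRank A L p - Module.rankAtStalk (R := A) L p + _ = _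
    omega
  have hk₀n : k₀ ≤ n := by omega
  -- images of the idempotents
  have ht0 : ∀ k, k ≠ k₀ → algebraMap A' κ' (algebraMap A A' (e k)) = 0 := by
    intro k hk
    rw [Ideal.algebraMap_residueField_eq_zero]
    have : e k ∈ p.asIdeal := by
      by_contra hne
      exact hk ((he3 k p).mp hne).symm
    exact this
  have ht1 : algebraMap A' κ' (algebraMap A A' (e k₀)) = 1 := by
    have hne : algebraMap A' κ' (algebraMap A A' (e k₀)) ≠ 0 := by
      rw [Ne, Ideal.algebraMap_residueField_eq_zero]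
      exact (he3 k₀ p).mpr rfl
    have hid : algebraMap A' κ' (algebraMap A A' (e k₀)) * algebraMap A' κ' (algebraMap A A' (e k₀))
        = algebraMap A' κ' (algebraMap A A' (e k₀)) := by
      rw [← map_mul, ← map_mul, (he1 k₀).eq]
    have h2 : algebraMap A' κ' (algebraMap A A' (e k₀)) *
        (algebraMap A' κ' (algebraMap A A' (e k₀)) - 1) = 0 := by
      rw [mul_sub, hid, mul_one, sub_self]
    rcases mul_eq_zero.mp h2 with h | h
    · exact absurd h hne
    · exact sub_eq_zero.mp h
  have himg : algebraMap A' κ' (Q.coeff 0) = algebraMap A' κ' (G.coeff k₀) := by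
    rw [hQ0, map_sum, Finset.sum_eq_single k₀]
    · rw [map_mul, ht1, one_mul]
    · intro k _ hk
      rw [map_mul, ht0 k hk, zero_mul]
    · intro h
      exact absurd (Finset.mem_range.mpr (Nat.lt_succ_of_le hk₀n)) h
  -- the coefficient of `G` in the fibre
  have hsiκ : (s'.baseChange κ') ∘ₗ (i'.baseChange κ') = LinearMap.id := by
    rw [← LinearMap.baseChange_comp, hsi', LinearMap.baseChange_id]
  have hΨκ : Ψ.baseChange κ' = (i'.baseChange κ') ∘ₗ (φ'.baseChange κ') ∘ₗ (s'.baseChange κ') := by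
    rw [hΨ, LinearMap.baseChange_comp, LinearMap.baseChange_comp]
  have hW : Module.finrank κ' (κ' ⊗[A'] (A' ⊗[A] L)) = Module.rankAtStalk (R := A) L p := by
    have h1 : Module.rankAtStalk (R := A') (A' ⊗[A] L) q' =
        Module.finrank κ' (κ' ⊗[A'] (A' ⊗[A] L)) := Module.rankAtStalk_eq q'
    rw [← h1, Module.rankAtStalk_baseChange]
  have hcoef : algebraMap A' κ' (G.coeff k₀) =
      (φ'.baseChange κ').charpoly.coeff (fibreRank A L p) := by
    have h1 : algebraMap A' κ' (G.coeff k₀) = (Ψ.baseChange κ').charpoly.coeff k₀ := by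
      rw [LinearMap.charpoly_baseChange, Polynomial.coeff_map]
    rw [h1, hΨκ, coeff_charpoly_conj_retract (s'.baseChange κ') (i'.baseChange κ') hsiκ _ k₀,
      finrank_fibre_baseChange_fin, hW, if_pos (by omega)]
    congr 1
    omega
  have hreg := ha' q'
  rw [LieAlgebra.isRegular_def] at hreg
  have hφκ : φ'.baseChange κ' =
      LieAlgebra.ad κ' (κ' ⊗[A'] (A' ⊗[A] L)) ((1 : κ') ⊗ₜ[A'] a') :=
    (LieModule.toEnd_baseChange (R := A') (A := κ') (L := A' ⊗[A] L) (M := A' ⊗[A] L) a').symm
  have hrank : fibreRank A L p = LieAlgebra.rank κ' (κ' ⊗[A'] (A' ⊗[A] L)) :=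
    (fibreRank_comap A' q').symm
  apply hreg
  rw [← hrank, ← hφκ, ← hcoef, ← himg]
  exact Ideal.algebraMap_residueField_eq_zero.mpr hmem

/-- **S8379**: over a reduced base, (C₀) ⇒ (C₂) -/
theorem isRegularRel_of_isReduced [IsReduced A] (hlc : IsLocallyConstant (fibreRank A L))
    (A' : Type u) [CommRing A'] [Algebra A A'] (a' : A' ⊗[A] L)
    (ha' : SGA3t2b.IsQuasiRegular A' (A' ⊗[A] L) a') :
    SGA3t2b.IsRegularRel A' (A' ⊗[A] L) a' := by
  obtain ⟨Q, N, hu, hQ⟩ := exists_poly_of_quasiRegular hlc A' a' ha'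
  obtain ⟨u, hu⟩ := hu
  obtain ⟨hproj, hsurj⟩ := fitting_of_poly
    (LieAlgebra.ad A' (A' ⊗[A] L) a' : Module.End A' (A' ⊗[A] L)) Q u hu.symm N hQ
  have hinj : ∀ z : A' ⊗[A] L, ⁅a', z⁆ ∈ LieSubalgebra.engel A' a' →
      z ∈ LieSubalgebra.engel A' a' := by
    intro z hz
    rw [LieSubalgebra.mem_engel_iff] at hz ⊢
    obtain ⟨k, hk⟩ := hz
    refine ⟨k + 1, ?_⟩
    rw [pow_succ, Module.End.mul_apply, LieAlgebra.ad_apply]
    exact hk
  refine ⟨ha', LieSubalgebra.engel A' a', ?_, LieSubalgebra.self_mem_engel A' a'⟩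
  exact isCartanRel_engel a' hinj hsurj ha' hproj

end Main

end Groth.Agent.Helper20.CartRel
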