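import Mathlib
import Groth.Prelude.Def_W4sga3xiixivxvCartan
import Groth.Agent.Lib.Helper20.CartRel3

/-!
# Automorphisms and relative Cartan subalgebras (helper20, for S8373)
-/

set_option autoImplicit false
set_option linter.unusedSectionVars false
set_option linter.style.haveILetI false
universe u

namespace Groth.Agent.Helper20.CartRel

open TensorProduct LieAlgebra

/-- conjugate endomorphisms have corresponding generalized kernels -/
theorem maxGenEigenspace_map_of_conj {R V : Type*} [CommRing R] [AddCommGroup V] [Module R V]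
    (e : V ≃ₗ[R] V) (f g : Module.End R V) (h : g ∘ₗ e.toLinearMap = e.toLinearMap ∘ₗ f) :
    Module.End.maxGenEigenspace g 0 = (Module.End.maxGenEigenspace f 0).map e.toLinearMap := by
  have hpow : ∀ k : ℕ, (g ^ k) ∘ₗ e.toLinearMap = e.toLinearMap ∘ₗ (f ^ k) := by
    intro k
    induction k with
    | zero => rw [pow_zero, pow_zero]; rfl
    | succ k ih =>
      ext x
      have h1 := LinearMap.congr_fun h x
      have h2 := LinearMap.congr_fun ih (f x)
      simp only [LinearMap.coe_comp, LinearEquiv.coe_coe, Function.comp_apply] at h1 h2 ⊢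
      rw [pow_succ, Module.End.mul_apply, h1, h2, pow_succ, Module.End.mul_apply]
  ext y
  rw [mem_maxGenEigenspace_zero, Submodule.mem_map]
  constructor
  · rintro ⟨k, hk⟩
    refine ⟨e.symm y, ?_, by simp⟩
    rw [mem_maxGenEigenspace_zero]
    refine ⟨k, ?_⟩
    apply e.injective
    have := LinearMap.congr_fun (hpow k) (e.symm y)
    simp only [LinearMap.coe_comp, LinearEquiv.coe_coe, Function.comp_apply,
      LinearEquiv.apply_symm_apply] at this
    rw [← this, hk, map_zero]
  · rintro ⟨x, hx, rfl⟩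
    rw [mem_maxGenEigenspace_zero] at hx
    obtain ⟨k, hk⟩ := hx
    refine ⟨k, ?_⟩
    have := LinearMap.congr_fun (hpow k) x
    simp only [LinearMap.coe_comp, LinearEquiv.coe_coe, Function.comp_apply] at this
    show (g ^ k) (e x) = 0
    rw [this, hk, map_zero]

variable {A : Type u} [CommRing A] {L : Type u} [LieRing L] [LieAlgebra A L]
  [Module.Finite A L] [Module.Projective A L]

theorem adL_conj (u : L ≃ₗ⁅A⁆ L) (a : L) :
    adL (A := A) (u a) ∘ₗ u.toLinearEquiv.toLinearMap =
      u.toLinearEquiv.toLinearMap ∘ₗ adL (A := A) a := by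
  ext y
  simp only [LinearMap.coe_comp, LinearEquiv.coe_coe, Function.comp_apply, adL_apply]
  exact (u.map_lie a y).symm

theorem engel_map (u : L ≃ₗ⁅A⁆ L) (a : L) :
    (LieSubalgebra.engel A a).map u.toLieHom = LieSubalgebra.engel A (u a) := by
  apply LieSubalgebra.toSubmodule_injective
  rw [engel_toSubmodule', maxGenEigenspace_map_of_conj u.toLinearEquiv _ _ (adL_conj u a)]
  rfl

theorem isQuasiRegular_map (u : L ≃ₗ⁅A⁆ L) (a : L) (ha : SGA3t2b.IsQuasiRegular A L a) :
    SGA3t2b.IsQuasiRegular A L (u a) := by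
  intro p
  have h0 := ha p
  rw [LieAlgebra.isRegular_iff_finrank_engel_eq_rank] at h0 ⊢
  rw [← h0]
  let U := u.toLinearEquiv.baseChange A p.asIdeal.ResidueField L L
  have hconj : ((adL (A := A) (u a)).baseChange p.asIdeal.ResidueField) ∘ₗ U.toLinearMap =
      U.toLinearMap ∘ₗ ((adL (A := A) a).baseChange p.asIdeal.ResidueField) := by
    have h1 : U.toLinearMap = u.toLinearEquiv.toLinearMap.baseChange p.asIdeal.ResidueField := rfl
    rw [h1, ← LinearMap.baseChange_comp, ← LinearMap.baseChange_comp, adL_conj]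
  have h2 := maxGenEigenspace_map_of_conj U _ _ hconj
  rw [← engel_toSubmodule, ← engel_toSubmodule] at h2
  show Module.finrank p.asIdeal.ResidueField
      ↥(LieSubalgebra.engel p.asIdeal.ResidueField ((1 : p.asIdeal.ResidueField) ⊗ₜ[A] u a)).toSubmodule =
    Module.finrank p.asIdeal.ResidueField
      ↥(LieSubalgebra.engel p.asIdeal.ResidueField ((1 : p.asIdeal.ResidueField) ⊗ₜ[A] a)).toSubmodule
  rw [h2]
  exact LinearEquiv.finrank_map_eq U _

/-- **S8373** -/
theorem map_eq_iff (H : LieSubalgebra A L) (hH : SGA3t2b.IsCartanRel H) (a : L) (haH : a ∈ H)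
    (ha : SGA3t2b.IsQuasiRegular A L a) (u : L ≃ₗ⁅A⁆ L) :
    H.map u.toLieHom = H ↔ u a ∈ H := by
  constructor
  · intro h
    rw [← h]
    exact (LieSubalgebra.mem_map _ _ _).mpr ⟨a, haH, rfl⟩
  · intro hua
    have h1 := eq_engel H a haH hH ha
    have h2 := eq_engel H (u a) hua hH (isQuasiRegular_map u a ha)
    conv_lhs => rw [h1]
    rw [engel_map, ← h2]

end Groth.Agent.Helper20.CartRel
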