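import Mathlib
import Groth.Agent.Lib.Helper14.DimFormula

/-!
# Local catenarity: posets `Set.Iic Q` of primes, heights, and the additivity of heights
-/

set_option autoImplicit false
universe u v w

namespace Groth.Agent.Helper20.CohenDimA

open Order Groth.Agent.Helper14

/-- An order embedding with lower-set range preserves heights. -/
theorem height_embedding_of_isLowerSet {Q : Type v} {P : Type u} [PartialOrder Q] [PartialOrder P]
    (e : Q ↪o P) (hlow : IsLowerSet (Set.range e)) (x : Q) :
    Order.height (e x) = Order.height x := by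
  apply le_antisymm
  · apply Order.height_le
    intro p hp
    have hmem : ∀ i, p i ∈ Set.range e := fun i => hlow (hp ▸ p.monotone (Fin.le_last i)) ⟨x, rfl⟩
    have h1 := Order.length_le_height_last (p := liftSeries e p hmem)
    have h2 : (liftSeries e p hmem).last = x := by
      apply e.injective
      change e ((liftSeries e p hmem) (Fin.last _)) = _
      rw [liftSeries_apply]
      exact hp
    rw [h2] at h1
    exact h1
  · exact Order.height_le_height_apply_of_strictMono _ e.strictMono x

/-- Transport of catenarity to a poset embedded in `P` inside the range of another embedding. -/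
theorem IsCatPoset.of_two_embeddings {X : Type u} {Y : Type v} {P : Type w} [PartialOrder X]
    [PartialOrder Y] [PartialOrder P] (e₁ : X ↪o P) (e₂ : Y ↪o P)
    (hsub : Set.range e₁ ⊆ Set.range e₂) (hoc : (Set.range e₁).OrdConnected)
    (hY : IsCatPoset Y) : IsCatPoset X := by
  classical
  have hch : ∀ x : X, ∃ y : Y, e₂ y = e₁ x := fun x => hsub ⟨x, rfl⟩
  choose ψ hψ using hch
  let ψe : X ↪o Y :=
    { toFun := ψ
      inj' := by
        intro a b hab
        apply e₁.injective
        rw [← hψ a, ← hψ b, hab]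
      map_rel_iff' := by
        intro a b
        change ψ a ≤ ψ b ↔ a ≤ b
        rw [← e₂.le_iff_le, hψ a, hψ b, e₁.le_iff_le] }
  refine IsCatPoset.of_embedding ψe ?_ hY
  constructor
  rintro _ ⟨a, rfl⟩ _ ⟨b, rfl⟩ y ⟨hay, hyb⟩
  have h1 : e₁ a ≤ e₂ y := by
    rw [← hψ a]
    exact e₂.le_iff_le.mpr hay
  have h2 : e₂ y ≤ e₁ b := by
    rw [← hψ b]
    exact e₂.le_iff_le.mpr hyb
  obtain ⟨c, hc⟩ := hoc.out ⟨a, rfl⟩ ⟨b, rfl⟩ ⟨h1, h2⟩
  refine ⟨c, ?_⟩
  apply e₂.injective
  change e₂ (ψ c) = e₂ y
  rw [hψ c, hc]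

/-- The subtype embedding of `Set.Iic a`. -/
def iicEmb {P : Type u} [PartialOrder P] (a : P) : Set.Iic a ↪o P :=
  OrderEmbedding.subtype _

theorem iicEmb_apply {P : Type u} [PartialOrder P] (a : P) (x : Set.Iic a) : iicEmb a x = x.1 := rfl

theorem range_iicEmb {P : Type u} [PartialOrder P] (a : P) : Set.range (iicEmb a) = Set.Iic a := by
  ext x
  constructor
  · rintro ⟨y, rfl⟩
    exact y.2
  · intro hx
    exact ⟨⟨x, hx⟩, rfl⟩

theorem isLowerSet_range_iicEmb {P : Type u} [PartialOrder P] (a : P) :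
    IsLowerSet (Set.range (iicEmb a)) := by
  rw [range_iicEmb]
  exact isLowerSet_Iic a

/-- In a Noetherian domain `P`, locally catenary below `φ⁻¹ q`, if `φ : P → S` is a surjection onto
a domain, then `ht (φ⁻¹ q) = ht (ker φ) + ht q`. -/
theorem height_comap_eq_add_local {P S : Type u} [CommRing P] [IsDomain P] [IsNoetherianRing P]
    [CommRing S] [IsDomain S] (φ : P →+* S)
    (hφ : Function.Surjective φ) (q : Ideal S) [hq : q.IsPrime]
    (hcat : IsCatPoset (Set.Iic (⟨q.comap φ, inferInstance⟩ : PrimeSpectrum P))) :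
    (q.comap φ).height = (RingHom.ker φ).height + q.height := by
  haveI : IsNoetherianRing S := isNoetherianRing_of_surjective _ _ φ hφ
  obtain ⟨l, hlast, hlen⟩ := q.exists_ltSeries_length_eq_height
  have hl1 : (l.length : ℕ∞) = height l.last := by
    rw [hlen, hlast, ← PrimeSpectrum.height_eq_orderHeight]
  have hminl := Helper7.CatDim.isMin_head_of_length_eq_height l hl1
  have hsatl := Helper7.CatDim.covBy_of_length_eq_height l hl1
  have hhead : l.head.asIdeal = ⊥ := by
    have h1 : (⟨⊥, Ideal.isPrime_bot⟩ : PrimeSpectrum S) ≤ l.head := fun x hx => by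
      rw [(Ideal.mem_bot).mp hx]; exact zero_mem _
    have h2 := hminl h1
    exact le_antisymm h2 bot_le
  let e := specEmbOfSurjective φ hφ
  have he : (Set.range e).OrdConnected :=
    (isUpperSet_range_specEmbOfSurjective φ hφ).ordConnected
  let l' : LTSeries (PrimeSpectrum P) := l.map e e.strictMono
  have hsat' : ∀ i : Fin l'.length, l' (Fin.castSucc i) ⋖ l' i.succ :=
    fun i => (he.apply_covBy_apply_iff e).mpr (hsatl i)
  set Qs : PrimeSpectrum P := ⟨q.comap φ, inferInstance⟩ with hQs
  have hlast' : l'.last = Qs := by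
    rw [LTSeries.last_map, hlast]; rfl
  have hhead' : l'.head = ⟨RingHom.ker φ, RingHom.ker_isPrime φ⟩ := by
    rw [LTSeries.head_map]
    apply PrimeSpectrum.ext
    change l.head.asIdeal.comap φ = _
    rw [hhead]; rfl
  -- lift to `Set.Iic Qs`
  have hmem : ∀ i, l' i ∈ Set.range (iicEmb Qs) := by
    intro i
    rw [range_iicEmb]
    exact hlast' ▸ l'.monotone (Fin.le_last i)
  let l'' : LTSeries (Set.Iic Qs) := liftSeries (iicEmb Qs) l' hmem
  have hoc : (Set.range (iicEmb Qs)).OrdConnected := (isLowerSet_range_iicEmb Qs).ordConnected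
  have hsat'' : ∀ i : Fin l''.length, l'' (Fin.castSucc i) ⋖ l'' i.succ := by
    intro i
    rw [← hoc.apply_covBy_apply_iff (iicEmb Qs)]
    have := hsat' i
    rw [← liftSeries_apply (iicEmb Qs) l' hmem, ← liftSeries_apply (iicEmb Qs) l' hmem] at this
    exact this
  have hbotmem : (⟨⊥, Ideal.isPrime_bot⟩ : PrimeSpectrum P) ∈ Set.Iic Qs := by
    change (⟨⊥, Ideal.isPrime_bot⟩ : PrimeSpectrum P) ≤ Qs
    intro x hx
    rw [(Ideal.mem_bot).mp hx]; exact zero_mem _
  have huniq : ∀ a b : Set.Iic Qs, IsMin a → IsMin b → a = b := by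
    have hb : ∀ a : Set.Iic Qs, IsMin a → a = ⟨⟨⊥, Ideal.isPrime_bot⟩, hbotmem⟩ := by
      intro a ha
      have h1 : (⟨⟨⊥, Ideal.isPrime_bot⟩, hbotmem⟩ : Set.Iic Qs) ≤ a := by
        change (⟨⊥, Ideal.isPrime_bot⟩ : PrimeSpectrum P) ≤ a.1
        intro x hx
        rw [(Ideal.mem_bot).mp hx]; exact zero_mem _
      exact le_antisymm (ha h1) h1
    intro a b ha hb'
    rw [hb a ha, hb b hb']
  have hlastv : iicEmb Qs l''.last = Qs := by
    change iicEmb Qs (l'' (Fin.last _)) = _
    rw [liftSeries_apply]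
    exact hlast'
  have hheadv : iicEmb Qs l''.head = ⟨RingHom.ker φ, RingHom.ker_isPrime φ⟩ := by
    change iicEmb Qs (l'' 0) = _
    rw [liftSeries_apply]
    exact hhead'
  have hh1 : height l''.last = (q.comap φ).height := by
    rw [← height_embedding_of_isLowerSet (iicEmb Qs) (isLowerSet_range_iicEmb Qs), hlastv,
      ← PrimeSpectrum.height_eq_orderHeight]
  have hh2 : height l''.head = (RingHom.ker φ).height := by
    rw [← height_embedding_of_isLowerSet (iicEmb Qs) (isLowerSet_range_iicEmb Qs), hheadv,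
      ← PrimeSpectrum.height_eq_orderHeight]
  have hfin : height l''.last < ⊤ := by
    rw [hh1]
    exact Ideal.height_lt_top (Ideal.IsPrime.ne_top')
  have key := DimFormula.height_eq_add_length hcat huniq l'' hsat'' hfin
  rw [hh1, hh2] at key
  rw [key, ← hlen]
  rfl

end Groth.Agent.Helper20.CohenDimA
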