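import Mathlib
import Groth.Agent.Lib.Helper14.DimFormula
import Groth.Agent.Lib.Helper20.CohenDimA

/-!
# The dimension formula for a one-generator extension, under local catenarity
-/

set_option autoImplicit false

namespace Groth.Agent.Helper20.CohenDimB

universe u

open Polynomial Ideal Order Groth.Agent.Helper14 Groth.Agent.Helper20.CohenDimA

/-- the dimension formula for an extension generated by one element, assuming only that the
polynomial ring is catenary below the preimage of `q`. -/
theorem one_gen_eq_local (R : Type u) [CommRing R] [IsDomain R] [IsNoetherianRing R]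
    (S : Type u) [CommRing S] [IsDomain S] [Algebra R S] [FaithfulSMul R S]
    (x : S) (hx : Algebra.adjoin R {x} = ⊤) (p : Ideal R) [p.IsPrime] (q : Ideal S) [q.IsPrime]
    [q.LiesOver p]
    (hloc : IsCatPoset (Set.Iic (⟨q.comap (aeval (R := R) x).toRingHom, inferInstance⟩ :
      PrimeSpectrum R[X]))) :
    (q.height : Cardinal.{u}) + Algebra.trdeg (R ⧸ p) (S ⧸ q) =
      (p.height : Cardinal.{u}) + Algebra.trdeg R S := by
  classical
  let ev : R[X] →ₐ[R] S := aeval x
  have hev : Function.Surjective ev := by
    rw [← AlgHom.range_eq_top, ← Algebra.adjoin_singleton_eq_range_aeval]; exact hx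
  haveI : IsNoetherianRing S := isNoetherianRing_of_surjective _ _ ev.toRingHom hev
  let q' : Ideal R[X] := q.comap ev.toRingHom
  haveI hq' : q'.IsPrime := Ideal.comap_isPrime _ _
  haveI hlo : q'.LiesOver p := by
    constructor
    ext r
    rw [Ideal.mem_comap, (‹q.LiesOver p›).over, Ideal.mem_comap]
    change _ ↔ ev (algebraMap R R[X] r) ∈ q
    rw [AlgHom.commutes]
  have key := Groth.Agent.S4730.result R p q'
  -- the induced map on quotients
  let φ0 : (R[X] ⧸ q') →+* (S ⧸ q) := Ideal.quotientMap q ev.toRingHom le_rfl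
  have hφ0inj : Function.Injective φ0 := Ideal.quotientMap_injective
  have hφ0surj : Function.Surjective φ0 := Ideal.quotientMap_surjective hev
  let φ : (R[X] ⧸ q') →ₐ[R ⧸ p] (S ⧸ q) :=
    { φ0 with
      commutes' := by
        intro r
        obtain ⟨r, rfl⟩ := Ideal.Quotient.mk_surjective r
        change φ0 (algebraMap (R ⧸ p) (R[X] ⧸ q') (Ideal.Quotient.mk p r)) =
          algebraMap (R ⧸ p) (S ⧸ q) (Ideal.Quotient.mk p r)
        rw [Ideal.Quotient.algebraMap_mk_of_liesOver, Ideal.Quotient.algebraMap_mk_of_liesOver]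
        change Ideal.Quotient.mk q (ev (algebraMap R R[X] r)) = _
        rw [AlgHom.commutes] }
  have htr : Algebra.trdeg (R ⧸ p) (S ⧸ q) = Algebra.trdeg (R ⧸ p) (R[X] ⧸ q') :=
    ((AlgEquiv.ofBijective φ ⟨hφ0inj, hφ0surj⟩).trdeg_eq).symm
  rw [htr]
  by_cases hker : RingHom.ker ev.toRingHom = ⊥
  · -- `ev` is an isomorphism
    have hinj : Function.Injective ev := (RingHom.injective_iff_ker_eq_bot ev.toRingHom).mpr hker
    have h1 : q'.height = q.height :=
      (RingEquiv.ofBijective ev.toRingHom ⟨hinj, hev⟩).height_comap q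
    have h2 : Algebra.trdeg R S = 1 := by
      rw [← (AlgEquiv.ofBijective ev ⟨hinj, hev⟩).trdeg_eq, Polynomial.trdeg_of_isDomain]
    rw [h2, key, h1]
  · have hinjRS : Function.Injective (algebraMap R S) := FaithfulSMul.algebraMap_injective R S
    haveI hkp : (RingHom.ker ev.toRingHom).IsPrime := RingHom.ker_isPrime _
    have hkht : (RingHom.ker ev.toRingHom).height = 1 := by
      refine le_antisymm ?_ ?_
      · refine Groth.Agent.Helper7.PolyHeight.height_le_one_of_comap_C_eq_bot R _ ?_
        rw [eq_bot_iff]
        intro r hr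
        rw [Ideal.mem_comap, RingHom.mem_ker] at hr
        have h3 : algebraMap R S r = 0 := by
          have : ev (algebraMap R R[X] r) = 0 := hr
          rwa [AlgHom.commutes] at this
        rw [Ideal.mem_bot]
        exact hinjRS (by rw [h3, map_zero])
      · rw [Order.one_le_iff_ne_zero, Ne, Ideal.height_eq_zero_iff_eq_bot]
        exact hker
    have h1 : q'.height = 1 + q.height := by
      have := height_comap_eq_add_local ev.toRingHom hev q hloc
      rw [hkht] at this
      exact this
    have halg : Algebra.IsAlgebraic R S := by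
      obtain ⟨f, hf, hf0⟩ : ∃ f ∈ RingHom.ker ev.toRingHom, f ≠ 0 := by
        by_contra hcon
        push Not at hcon
        exact hker (eq_bot_iff.mpr fun f hf => (Ideal.mem_bot).mpr (hcon f hf))
      have hxalg : IsAlgebraic R x := ⟨f, hf0, hf⟩
      have hall := (Algebra.isAlgebraic_adjoin_singleton_iff (R := R)).mpr hxalg
      exact ⟨fun y => hall y (by rw [hx]; trivial)⟩
    have h2 : Algebra.trdeg R S = 0 := _root_.trdeg_eq_zero
    rw [h2, add_zero]
    have h3 : (q'.height : Cardinal.{u}) = 1 + (q.height : Cardinal.{u}) := by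
      rw [h1]; push_cast; rfl
    rw [h3] at key
    have h4 : (q.height : Cardinal.{u}) + Algebra.trdeg (R ⧸ p) (R[X] ⧸ q') + 1 =
        (p.height : Cardinal.{u}) + 1 := by
      rw [key]; ring
    exact Cardinal.add_one_inj.mp h4

end Groth.Agent.Helper20.CohenDimB
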