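import Mathlib
import Groth.Agent.Lib.Helper14.DimFormula
import Groth.Agent.Lib.Helper20.CohenDimA

/-!
# Local catenarity of polynomial rings over finite type subalgebras, from catenarity of
localizations at maximal ideals of finitely generated subalgebras of `S[X]`
-/

set_option autoImplicit false

namespace Groth.Agent.Helper20.CohenDimC

universe u

open Polynomial Ideal Order Groth.Agent.Helper14 Groth.Agent.Helper20.CohenDimA

theorem isCatPoset_Iic_of_hcat (R : Type u) [CommRing R] [IsLocalRing R] (S : Type u) [CommRing S]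
    [Algebra R S]
    (hcat : ∀ A' : Subalgebra R (Polynomial S), A'.FG →
      ∀ (m' : Ideal A') [m'.IsMaximal], m'.LiesOver (IsLocalRing.maximalIdeal R) →
        CAlg.IsCatenary (Localization.AtPrime m'))
    (T : Type u) [CommRing T] [Algebra R T] (hT : Algebra.FiniteType R T) (g : T →ₐ[R] S)
    (hg : Function.Injective g)
    (Q : Ideal (Polynomial T)) [hQp : Q.IsPrime]
    (hQ : Q.comap (algebraMap R (Polynomial T)) = IsLocalRing.maximalIdeal R) :
    IsCatPoset (Set.Iic (⟨Q, hQp⟩ : PrimeSpectrum (Polynomial T))) := by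
  classical
  let f : T[X] →ₐ[R] S[X] := Polynomial.mapAlgHom g
  have hf : Function.Injective f := by
    intro a b hab
    apply Polynomial.map_injective (g : T →+* S) hg
    simpa [f] using hab
  let A' : Subalgebra R S[X] := f.range
  have hFG : A'.FG := by
    haveI := hT
    have h1 : (⊤ : Subalgebra R T[X]).FG := Algebra.FiniteType.out
    have h2 := h1.map f
    rwa [Algebra.map_top] at h2
  let e : T[X] ≃ₐ[R] A' := AlgEquiv.ofInjective f hf
  let es : A' →+* T[X] := (e.symm : A' →+* T[X])
  have hes : Function.Surjective es := e.symm.surjective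
  have hesinj : Function.Injective es := e.symm.injective
  let Q' : Ideal A' := Q.comap es
  haveI hQ'p : Q'.IsPrime := Ideal.comap_isPrime es Q
  obtain ⟨m', hm', hQm'⟩ := Ideal.exists_le_maximal Q' hQ'p.ne_top
  haveI := hm'
  have hlies : m'.LiesOver (IsLocalRing.maximalIdeal R) := by
    constructor
    apply le_antisymm
    · intro r hr
      rw [Ideal.under_def, Ideal.mem_comap]
      apply hQm'
      rw [Ideal.mem_comap]
      have h1 : es (algebraMap R A' r) = algebraMap R T[X] r := e.symm.commutes r
      rw [h1, ← Ideal.mem_comap, hQ]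
      exact hr
    · apply IsLocalRing.le_maximalIdeal
      intro htop
      have h1 : (1 : R) ∈ m'.under R := by rw [htop]; trivial
      rw [Ideal.under_def, Ideal.mem_comap, map_one] at h1
      exact hm'.ne_top ((Ideal.eq_top_iff_one _).mpr h1)
  have hcat' := hcat A' hFG m' hlies
  let e₁ : Set.Iic (⟨Q, hQp⟩ : PrimeSpectrum T[X]) ↪o PrimeSpectrum A' :=
    (iicEmb _).trans (specEmbOfSurjective es hes)
  let e₂ : PrimeSpectrum (Localization.AtPrime m') ↪o PrimeSpectrum A' :=
    specEmbOfLocalization (Localization.AtPrime m') m'.primeCompl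
  refine IsCatPoset.of_two_embeddings e₁ e₂ ?_ ?_ ((isCatenary_iff _).mp hcat')
  · rintro _ ⟨a, rfl⟩
    have hr : Set.range e₂ =
        {p : PrimeSpectrum A' | Disjoint (m'.primeCompl : Set A') p.asIdeal} :=
      PrimeSpectrum.localization_comap_range _ _
    rw [hr]
    have hle : (e₁ a).asIdeal ≤ m' := by
      refine le_trans ?_ hQm'
      have ha : a.1.asIdeal ≤ Q := a.2
      exact Ideal.comap_mono ha
    rw [Set.mem_setOf_eq, Set.disjoint_left]
    intro x hx hxa
    exact hx (hle hxa)
  · constructor
    rintro _ ⟨a, rfl⟩ _ ⟨b, rfl⟩ y ⟨hay, hyb⟩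
    have hyr : y ∈ Set.range (specEmbOfSurjective es hes) := by
      rw [range_specEmbOfSurjective, PrimeSpectrum.mem_zeroLocus]
      have hk : RingHom.ker es = ⊥ := (RingHom.injective_iff_ker_eq_bot es).mp hesinj
      rw [hk]
      simp
    obtain ⟨y', rfl⟩ := hyr
    have h1 : y' ≤ b.1 := (specEmbOfSurjective es hes).le_iff_le.mp hyb
    exact ⟨⟨y', le_trans h1 b.2⟩, rfl⟩

end Groth.Agent.Helper20.CohenDimC
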