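import Mathlib
import Groth.Agent.Lib.Helper14.DimFormula
import Groth.Agent.Lib.Helper20.CohenDimA
import Groth.Agent.Lib.Helper20.CohenDimB
import Groth.Agent.Lib.Helper20.CohenDimC

/-!
# The dimension formula over a Noetherian local domain under catenarity of the local rings of
finitely generated subalgebras of `S[T]` at maximal ideals over the closed point (S12126)
-/

set_option autoImplicit false

namespace Groth.Agent.Helper20.CohenDimD

universe u

open Polynomial Ideal Order Groth.Agent.Helper14 Groth.Agent.Helper20.CohenDimA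
  Groth.Agent.Helper20.CohenDimB Groth.Agent.Helper20.CohenDimC

/-- Local catenarity hypothesis for `S` over the local ring `R`. -/
def HLoc (R : Type u) [CommRing R] [IsLocalRing R] (S : Type u) [CommRing S] [Algebra R S] : Prop :=
  ∀ (T : Type u) [CommRing T] [Algebra R T], Algebra.FiniteType R T → ∀ (g : T →ₐ[R] S),
    Function.Injective g → ∀ (Q : Ideal (Polynomial T)) [hQp : Q.IsPrime],
      Q.comap (algebraMap R (Polynomial T)) = IsLocalRing.maximalIdeal R →
        IsCatPoset (Set.Iic (⟨Q, hQp⟩ : PrimeSpectrum (Polynomial T)))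

theorem fin_gen_eq_local (R : Type u) [CommRing R] [IsDomain R] [IsNoetherianRing R]
    [IsLocalRing R] :
    ∀ (n : ℕ) (S : Type u) [CommRing S] [IsDomain S] [Algebra R S] [FaithfulSMul R S]
      (_ : HLoc R S) (x : Fin n → S) (_ : Algebra.adjoin R (Set.range x) = ⊤) (q : Ideal S)
      [q.IsPrime] [q.LiesOver (IsLocalRing.maximalIdeal R)],
      (q.height : Cardinal.{u}) + Algebra.trdeg (R ⧸ IsLocalRing.maximalIdeal R) (S ⧸ q) =
        ((IsLocalRing.maximalIdeal R).height : Cardinal.{u}) + Algebra.trdeg R S := by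
  intro n
  induction n with
  | zero =>
    intro S _ _ _ _ hH x hx q _ hlo
    refine one_gen_eq_local R S 1 ?_ (IsLocalRing.maximalIdeal R) q ?_
    · rw [eq_top_iff, ← hx]
      refine Algebra.adjoin_le ?_
      rintro _ ⟨i, rfl⟩
      exact i.elim0
    · refine hH R inferInstance (Algebra.ofId R S) ?_ _ ?_
      · exact FaithfulSMul.algebraMap_injective R S
      · ext r
        rw [Ideal.mem_comap, Ideal.mem_comap]
        change (aeval (R := R) (1 : S)) (algebraMap R R[X] r) ∈ q ↔ _
        rw [AlgHom.commutes, hlo.over, Ideal.under_def, Ideal.mem_comap]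
  | succ n ih =>
    intro S _ _ _ _ hH x hx q _ hlo
    let S' : Subalgebra R S := Algebra.adjoin R (Set.range (x ∘ Fin.castSucc))
    have hinjRS : Function.Injective (algebraMap R S) := FaithfulSMul.algebraMap_injective R S
    haveI : FaithfulSMul R S' := by
      rw [faithfulSMul_iff_algebraMap_injective]
      intro a b hab
      apply hinjRS
      have := congrArg (algebraMap S' S) hab
      rwa [← IsScalarTower.algebraMap_apply, ← IsScalarTower.algebraMap_apply] at this
    haveI : FaithfulSMul S' S := by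
      rw [faithfulSMul_iff_algebraMap_injective]
      exact Subtype.val_injective
    haveI hftS' : Algebra.FiniteType R S' := by
      rw [← Subalgebra.fg_iff_finiteType, Subalgebra.fg_def]
      exact ⟨_, Set.finite_range _, rfl⟩
    haveI : IsNoetherianRing S' := Algebra.FiniteType.isNoetherianRing R S'
    have hH' : HLoc R S' := by
      intro T _ _ hT g hg Q hQp hQ
      exact hH T hT (S'.val.comp g) (Subtype.val_injective.comp hg) Q hQ
    let x' : Fin n → S' := fun i => ⟨x (Fin.castSucc i), Algebra.subset_adjoin ⟨i, rfl⟩⟩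
    have hx' : Algebra.adjoin R (Set.range x') = ⊤ := by
      have h := Algebra.adjoin_adjoin_coe_preimage (R := R) (s := Set.range (x ∘ Fin.castSucc))
      have h2 : Set.range x' = ((↑) : S' → S) ⁻¹' (Set.range (x ∘ Fin.castSucc)) := by
        ext y
        constructor
        · rintro ⟨i, rfl⟩; exact ⟨i, rfl⟩
        · rintro ⟨i, hi⟩; exact ⟨i, Subtype.ext hi⟩
      rw [h2]; exact h
    let q'' : Ideal S' := q.under S'
    haveI : q''.IsPrime := inferInstance
    haveI : q.LiesOver q'' := inferInstance
    haveI : q''.LiesOver (IsLocalRing.maximalIdeal R) := inferInstance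
    have h1 := ih S' hH' x' hx' q''
    have hx1 : Algebra.adjoin S' {x (Fin.last n)} = ⊤ := by
      have h3 : Set.range x = Set.range (x ∘ Fin.castSucc) ∪ {x (Fin.last n)} := by
        ext y
        constructor
        · rintro ⟨i, rfl⟩
          refine Fin.lastCases ?_ (fun j => ?_) i
          · right; rfl
          · left; exact ⟨j, rfl⟩
        · rintro (⟨i, rfl⟩ | rfl)
          · exact ⟨_, rfl⟩
          · exact ⟨_, rfl⟩
      rw [h3, Algebra.adjoin_union_eq_adjoin_adjoin] at hx
      rw [eq_top_iff]
      intro y _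
      have : y ∈ (Algebra.adjoin S' {x (Fin.last n)}).restrictScalars R := by
        rw [hx]; trivial
      exact this
    have hloc : IsCatPoset (Set.Iic (⟨q.comap (aeval (R := S') (x (Fin.last n))).toRingHom,
        inferInstance⟩ : PrimeSpectrum S'[X])) := by
      refine hH S' hftS' S'.val Subtype.val_injective _ ?_
      ext r
      rw [Ideal.mem_comap, Ideal.mem_comap]
      change (aeval (R := S') (x (Fin.last n))) (algebraMap R S'[X] r) ∈ q ↔ _
      rw [IsScalarTower.algebraMap_apply R S' S'[X], AlgHom.commutes,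
        ← IsScalarTower.algebraMap_apply, hlo.over, Ideal.under_def, Ideal.mem_comap]
    have h2 := one_gen_eq_local S' S (x (Fin.last n)) hx1 q'' q hloc
    have t1 := _root_.trdeg_add_eq R S' (A := S)
    haveI : IsScalarTower (R ⧸ IsLocalRing.maximalIdeal R) (S' ⧸ q'') (S ⧸ q) := by
      refine IsScalarTower.of_algebraMap_eq (fun r => ?_)
      obtain ⟨r, rfl⟩ := Ideal.Quotient.mk_surjective r
      rw [Ideal.Quotient.algebraMap_mk_of_liesOver, Ideal.Quotient.algebraMap_mk_of_liesOver,
        Ideal.Quotient.algebraMap_mk_of_liesOver, ← IsScalarTower.algebraMap_apply]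
    have t2 := _root_.trdeg_add_eq (R ⧸ IsLocalRing.maximalIdeal R) (S' ⧸ q'') (A := S ⧸ q)
    rw [← t1, ← t2]
    calc (q.height : Cardinal.{u}) +
          (Algebra.trdeg (R ⧸ IsLocalRing.maximalIdeal R) (S' ⧸ q'') +
            Algebra.trdeg (S' ⧸ q'') (S ⧸ q))
        = ((q.height : Cardinal.{u}) + Algebra.trdeg (S' ⧸ q'') (S ⧸ q)) +
          Algebra.trdeg (R ⧸ IsLocalRing.maximalIdeal R) (S' ⧸ q'') := by ring
      _ = ((q''.height : Cardinal.{u}) + Algebra.trdeg S' S) +
          Algebra.trdeg (R ⧸ IsLocalRing.maximalIdeal R) (S' ⧸ q'') := by rw [h2]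
      _ = ((q''.height : Cardinal.{u}) +
            Algebra.trdeg (R ⧸ IsLocalRing.maximalIdeal R) (S' ⧸ q'')) +
          Algebra.trdeg S' S := by ring
      _ = (((IsLocalRing.maximalIdeal R).height : Cardinal.{u}) + Algebra.trdeg R S') +
          Algebra.trdeg S' S := by rw [h1]
      _ = _ := by ring

theorem main (R : Type u) [CommRing R] [IsDomain R]
    [IsNoetherianRing R] [IsLocalRing R] (S : Type u) [CommRing S] [IsDomain S] [Algebra R S]
    [FaithfulSMul R S] [Algebra.FiniteType R S] (q : Ideal S) [q.IsPrime]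
    [q.LiesOver (IsLocalRing.maximalIdeal R)]
    (hcat : ∀ A' : Subalgebra R (Polynomial S), A'.FG →
      ∀ (m' : Ideal A') [m'.IsMaximal], m'.LiesOver (IsLocalRing.maximalIdeal R) →
        CAlg.IsCatenary (Localization.AtPrime m')) :
    (q.height : Cardinal.{u}) + Algebra.trdeg (R ⧸ IsLocalRing.maximalIdeal R) (S ⧸ q) =
      ((IsLocalRing.maximalIdeal R).height : Cardinal.{u}) + Algebra.trdeg R S := by
  have hH : HLoc R S := fun T _ _ hT g hg Q hQp hQ =>
    isCatPoset_Iic_of_hcat R S hcat T hT g hg Q hQ
  obtain ⟨s, hs⟩ := (‹Algebra.FiniteType R S›).out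
  obtain ⟨n, ⟨e⟩⟩ := Finite.exists_equiv_fin (s : Set S)
  refine fin_gen_eq_local R n S hH (fun i => (e.symm i : S)) ?_ q
  rw [← hs]
  congr 1
  ext y
  constructor
  · rintro ⟨i, rfl⟩; exact (e.symm i).2
  · intro hy; exact ⟨e ⟨y, hy⟩, by simp⟩

end Groth.Agent.Helper20.CohenDimD
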