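import Mathlib

/-!
# Five points in general position on a cone over a plane cubic (S16351)
-/

open MvPolynomial

namespace Groth.Agent.Helper20.ConeFive

variable {K : Type*} [Field K]

/-- The lifted points. -/
def pt (t : Fin 5 → K) (b : Fin 5 → (Fin 3 → K)) (j : Fin 5) : Fin 4 → K :=
  Fin.cons (t j) (b j)

/-- The 3×3 minors. -/
def B (b : Fin 5 → (Fin 3 → K)) (j : Fin 5) (i : Fin 4) : Matrix (Fin 3) (Fin 3) K :=
  Matrix.of fun i' c => b (j.succAbove (i.succAbove i')) c

/-- The 4×4 matrix of the four lifted points other than `j`. -/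
def A (t : Fin 5 → K) (b : Fin 5 → (Fin 3 → K)) (j : Fin 5) : Matrix (Fin 4) (Fin 4) K :=
  Matrix.of fun i => pt t b (j.succAbove i)

lemma det_A (t : Fin 5 → K) (b : Fin 5 → (Fin 3 → K)) (j : Fin 5) :
    (A t b j).det = ∑ i : Fin 4, (-1) ^ (i : ℕ) * t (j.succAbove i) * (B b j i).det := by
  rw [Matrix.det_succ_column_zero]
  refine Finset.sum_congr rfl fun i _ => ?_
  have h1 : A t b j i 0 = t (j.succAbove i) := by
    simp [A, pt]
  have h2 : (A t b j).submatrix i.succAbove Fin.succ = B b j i := by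
    ext i' c
    simp [A, pt, B]
  rw [h1, h2]

lemma det_B_ne_zero (b : Fin 5 → (Fin 3 → K))
    (h3 : ∀ i j l : Fin 5, i ≠ j → j ≠ l → i ≠ l → LinearIndependent K ![b i, b j, b l])
    (j : Fin 5) (i : Fin 4) : (B b j i).det ≠ 0 := by
  have hinj : Function.Injective fun i' : Fin 3 => j.succAbove (i.succAbove i') :=
    (Fin.succAbove_right_injective).comp (Fin.succAbove_right_injective)
  have hne : ∀ x y : Fin 3, x ≠ y → j.succAbove (i.succAbove x) ≠ j.succAbove (i.succAbove y) :=
    fun x y hxy h => hxy (hinj h)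
  have hli := h3 _ _ _ (hne 0 1 (by decide)) (hne 1 2 (by decide)) (hne 0 2 (by decide))
  have heq : ![b (j.succAbove (i.succAbove 0)), b (j.succAbove (i.succAbove 1)),
      b (j.succAbove (i.succAbove 2))] = (B b j i).row := by
    funext i'
    fin_cases i' <;> rfl
  rw [heq, Matrix.linearIndependent_rows_iff_isUnit, Matrix.isUnit_iff_isUnit_det] at hli
  exact hli.ne_zero

/-- The linear functional `t ↦ det (A t b j)`. -/
noncomputable def φ (b : Fin 5 → (Fin 3 → K)) (j : Fin 5) : (Fin 5 → K) →ₗ[K] K :=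
  ∑ i : Fin 4, ((-1) ^ (i : ℕ) * (B b j i).det) • LinearMap.proj (j.succAbove i)

lemma φ_apply (b : Fin 5 → (Fin 3 → K)) (j : Fin 5) (t : Fin 5 → K) :
    φ b j t = (A t b j).det := by
  rw [det_A]
  simp only [φ, LinearMap.sum_apply, LinearMap.smul_apply, LinearMap.proj_apply, smul_eq_mul]
  refine Finset.sum_congr rfl fun i _ => ?_
  ring

lemma ker_φ_ne_top (b : Fin 5 → (Fin 3 → K))
    (h3 : ∀ i j l : Fin 5, i ≠ j → j ≠ l → i ≠ l → LinearIndependent K ![b i, b j, b l])
    (j : Fin 5) : LinearMap.ker (φ b j) ≠ ⊤ := by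
  intro h
  have h0 : φ b j (Pi.single (j.succAbove 0) 1) = 0 := by
    have : (Pi.single (j.succAbove 0) 1 : Fin 5 → K) ∈ LinearMap.ker (φ b j) := by
      rw [h]; trivial
    exact this
  have h1 : φ b j (Pi.single (j.succAbove 0) 1) = (B b j 0).det := by
    simp only [φ, LinearMap.sum_apply, LinearMap.smul_apply, LinearMap.proj_apply, smul_eq_mul]
    rw [Finset.sum_eq_single (0 : Fin 4)]
    · simp
    · intro i _ hi
      have : j.succAbove 0 ≠ j.succAbove i := fun h => hi (Fin.succAbove_right_injective h).symm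
      simp [Pi.single_apply, this.symm]
    · simp
  rw [h1] at h0
  exact det_B_ne_zero b h3 j 0 h0

theorem main [CharZero K]
    (G : MvPolynomial (Fin 3) K) (F : MvPolynomial (Fin 4) K)
    (hF : F = MvPolynomial.rename Fin.succ G)
    (b : Fin 5 → (Fin 3 → K)) (hb : ∀ j : Fin 5, MvPolynomial.eval (b j) G = 0)
    (h3 : ∀ i j l : Fin 5, i ≠ j → j ≠ l → i ≠ l → LinearIndependent K ![b i, b j, b l]) :
    ∃ p : Fin 5 → (Fin 4 → K), (∀ j : Fin 5, MvPolynomial.eval (p j) F = 0) ∧
      ∀ j : Fin 5, LinearIndependent K (fun i : Fin 4 => p (j.succAbove i)) := by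
  haveI : Infinite K := Infinite.of_injective (Nat.cast : ℕ → K) Nat.cast_injective
  classical
  set s : Finset (Subspace K (Fin 5 → K)) :=
    Finset.univ.image fun j : Fin 5 => LinearMap.ker (φ b j) with hs
  have htop : ⊤ ∉ s := by
    rw [hs, Finset.mem_image]
    rintro ⟨j, _, hj⟩
    exact ker_φ_ne_top b h3 j hj
  have hne := Subspace.biUnion_ne_univ_of_top_notMem htop
  obtain ⟨t, ht⟩ : ∃ t : Fin 5 → K, t ∉ ⋃ p ∈ s, (p : Set (Fin 5 → K)) := by
    by_contra hcon
    push Not at hcon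
    exact hne (Set.eq_univ_of_forall hcon)
  have ht' : ∀ j : Fin 5, φ b j t ≠ 0 := by
    intro j h0
    apply ht
    simp only [Set.mem_iUnion]
    exact ⟨LinearMap.ker (φ b j), Finset.mem_image_of_mem _ (Finset.mem_univ j), h0⟩
  refine ⟨pt t b, fun j => ?_, fun j => ?_⟩
  · rw [hF, MvPolynomial.eval_rename]
    have : pt t b j ∘ Fin.succ = b j := by
      funext c
      simp [pt]
    rw [this]
    exact hb j
  · have hdet : (A t b j).det ≠ 0 := by
      rw [← φ_apply]
      exact ht' j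
    have hunit : IsUnit (A t b j) :=
      (Matrix.isUnit_iff_isUnit_det _).mpr (IsUnit.mk0 _ hdet)
    have := Matrix.linearIndependent_rows_iff_isUnit.mpr hunit
    exact this

end Groth.Agent.Helper20.ConeFive
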