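import Groth.Prelude.Def_W4c3ghconstell
import Groth.Agent.Lib.Helper12.ComodLattice
import Groth.Agent.Lib.Helper12.Comod
import Mathlib

/-!
Isotypic components, weights and `θ`-stability for equivariant modules (helper20):
library for the `W4c3ghconstell` rows.
-/

set_option autoImplicit false
universe u v w x

open TensorProduct
open Groth.Agent.Helper12
open W4c3ghconstell

namespace Groth.Agent.Helper20.Constell

section Coalg

variable {k : Type u} [Field k] {A : Type v} [AddCommGroup A] [Module k A] [Coalgebra k A]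
variable {M : Type x} [AddCommGroup M] [Module k M] [HopfRep.Comod k A M]

/-- right translation by a functional preserves a subcoalgebra -/
theorem rtrans_mem {D : Submodule k A} (hD : IsSubcoalg k A D) (l : A →ₗ[k] k) {d : A}
    (hd : d ∈ D) : rtrans l d ∈ D := by
  obtain ⟨y, hy⟩ := hD d hd
  unfold rtrans
  simp only [LinearMap.comp_apply, LinearEquiv.coe_coe]
  rw [← hy]
  clear hy
  induction y using TensorProduct.induction_on with
  | zero => simp
  | tmul a b =>
    simp only [TensorProduct.map_tmul, LinearMap.lTensor_tmul, TensorProduct.rid_tmul,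
      Submodule.subtype_apply]
    exact D.smul_mem _ a.2
  | add a b ha hb => simp only [map_add]; exact D.add_mem ha hb

omit [HopfRep.Comod k A M] in
theorem lTensor_rtrans_mem {D : Submodule k A} (hD : IsSubcoalg k A D) (l : A →ₗ[k] k)
    {z : M ⊗[k] A} (hz : z ∈ LinearMap.range (LinearMap.lTensor M D.subtype)) :
    LinearMap.lTensor M (rtrans l) z ∈ LinearMap.range (LinearMap.lTensor M D.subtype) := by
  obtain ⟨y, rfl⟩ := hz
  induction y using TensorProduct.induction_on with
  | zero => simp
  | tmul m d =>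
    simp only [LinearMap.lTensor_tmul, Submodule.subtype_apply]
    exact ⟨m ⊗ₜ[k] ⟨rtrans l d.1, rtrans_mem hD l d.2⟩, by simp⟩
  | add a b ha hb => simp only [map_add]; exact Submodule.add_mem _ ha hb

theorem mem_isoComp {D : Submodule k A} {m : M} : m ∈ isoComp M D ↔
    HopfRep.Comod.coact (k := k) (A := A) m ∈ LinearMap.range (LinearMap.lTensor M D.subtype) :=
  Iff.rfl

/-- the isotypic component of a subcoalgebra is a subcomodule -/
theorem isoComp_isSubcomod {D : Submodule k A} (hD : IsSubcoalg k A D) :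
    HopfRep.IsSubcomod (k := k) (A := A) (isoComp M D) := by
  intro m hm
  apply mem_range_rTensor_of_slice_mem (Module.Basis.ofVectorSpace k A)
  intro i
  rw [mem_isoComp, coact_slice_coact]
  exact lTensor_rtrans_mem hD _ hm

/-- slices of the coaction of an element of a subcomodule stay in it -/
theorem slice_coact_mem {N : Submodule k M} (hN : HopfRep.IsSubcomod (k := k) (A := A) N)
    (l : A →ₗ[k] k) {n : M} (hn : n ∈ N) :
    slice l (HopfRep.Comod.coact (k := k) (A := A) n) ∈ N :=
  slice_mem_of_mem_range N l _ (hN n hn)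

omit [Coalgebra k A] [HopfRep.Comod k A M] in
theorem slice_lTensor' {C' : Type*} [AddCommGroup C'] [Module k C'] (l' : C' →ₗ[k] k)
    (T : A →ₗ[k] C') (z : M ⊗[k] A) :
    slice l' (LinearMap.lTensor M T z) = slice (l' ∘ₗ T) z := by
  induction z using TensorProduct.induction_on with
  | zero => simp
  | tmul m a => simp
  | add a b ha hb => simp only [map_add, ha, hb]

omit [Coalgebra k A] [HopfRep.Comod k A M] in
theorem eq_zero_of_bot_tmul {C' : Type*} [AddCommGroup C'] [Module k C']
    (t : (⊥ : Submodule k M) ⊗[k] C') : t = 0 := by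
  induction t using TensorProduct.induction_on with
  | zero => rfl
  | tmul a b =>
    have : a = 0 := Subsingleton.elim _ _
    rw [this, TensorProduct.zero_tmul]
  | add a b ha hb => rw [ha, hb, add_zero]

omit [Coalgebra k A] [HopfRep.Comod k A M] in
/-- slices along functionals vanishing on `D` detect membership in `M ⊗ D` -/
theorem mem_range_lTensor_of_slice {D : Submodule k A} (z : M ⊗[k] A)
    (h : ∀ l : A →ₗ[k] k, (∀ d ∈ D, l d = 0) → slice l z = 0) :
    z ∈ LinearMap.range (LinearMap.lTensor M D.subtype) := by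
  have hex : Function.Exact (LinearMap.lTensor M D.subtype) (LinearMap.lTensor M D.mkQ) :=
    lTensor_exact M (LinearMap.exact_subtype_mkQ D) (Submodule.mkQ_surjective D)
  rw [← LinearMap.exact_iff.mp hex, LinearMap.mem_ker]
  have hy0 : LinearMap.lTensor M D.mkQ z ∈
      LinearMap.range ((⊥ : Submodule k M).subtype.rTensor (A ⧸ D)) := by
    apply mem_range_rTensor_of_slice_mem (Module.Basis.ofVectorSpace k (A ⧸ D))
    intro i
    rw [Submodule.mem_bot, slice_lTensor']
    apply h
    intro d hd
    simp only [LinearMap.comp_apply, Submodule.mkQ_apply]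
    rw [(Submodule.Quotient.mk_eq_zero D).mpr hd, map_zero]
  obtain ⟨t, ht⟩ := hy0
  rw [← ht, eq_zero_of_bot_tmul t, map_zero]

/-- A non-zero subcomodule contained in a finite sum of isotypic components meets one of them. -/
theorem exists_inf_ne_bot_aux {ι : Type*} (D : ι → Submodule k A)
    (hD : ∀ i, IsSubcoalg k A (D i)) {N : Submodule k M}
    (hN : HopfRep.IsSubcomod (k := k) (A := A) N) (s : Finset ι) :
    ∀ n ∈ N, n ≠ 0 → n ∈ ⨆ i ∈ s, isoComp M (D i) → ∃ i, N ⊓ isoComp M (D i) ≠ ⊥ := by
  classical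
  induction s using Finset.induction_on with
  | empty =>
    intro n _ hn0 hn
    simp only [Finset.notMem_empty, iSup_false, iSup_bot, Submodule.mem_bot] at hn
    exact absurd hn hn0
  | insert a s has ih =>
    intro n hnN hn0 hn
    rw [Finset.iSup_insert] at hn
    obtain ⟨m, hm, n', hn', rfl⟩ := Submodule.mem_sup.mp hn
    by_cases hcase : HopfRep.Comod.coact (k := k) (A := A) n' ∈
        LinearMap.range (LinearMap.lTensor M (D a).subtype)
    · -- then `m + n'` lies in the `a`-component
      refine ⟨a, fun hbot => hn0 ?_⟩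
      have : m + n' ∈ N ⊓ isoComp M (D a) :=
        ⟨hnN, Submodule.add_mem _ hm (mem_isoComp.mpr hcase)⟩
      rw [hbot, Submodule.mem_bot] at this
      exact this
    · -- there is a functional vanishing on `D a` with a non-zero slice
      have hex : ∃ l : A →ₗ[k] k, (∀ d ∈ D a, l d = 0) ∧
          slice l (HopfRep.Comod.coact (k := k) (A := A) n') ≠ 0 := by
        by_contra hcon
        push Not at hcon
        exact hcase (mem_range_lTensor_of_slice _ hcon)
      obtain ⟨l, hl, hne⟩ := hex
      have hm0 : slice l (HopfRep.Comod.coact (k := k) (A := A) m) = 0 := by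
        obtain ⟨y, hy⟩ := mem_isoComp.mp hm
        rw [← hy]
        clear hy
        induction y using TensorProduct.induction_on with
        | zero => simp
        | tmul m' d => simp [hl d.1 d.2]
        | add a b ha hb => simp only [map_add, ha, hb, add_zero]
      have hsl : slice l (HopfRep.Comod.coact (k := k) (A := A) (m + n')) =
          slice l (HopfRep.Comod.coact (k := k) (A := A) n') := by
        rw [map_add, map_add, hm0, zero_add]
      refine ih _ (slice_coact_mem hN l hnN) (by rw [hsl]; exact hne) ?_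
      rw [hsl]
      have hsub : HopfRep.IsSubcomod (k := k) (A := A) (⨆ i ∈ s, isoComp M (D i)) := by
        have : (⨆ i ∈ s, isoComp M (D i)) =
            sSup ((fun i => isoComp M (D i)) '' (s : Set ι)) := by
          rw [sSup_image]; rfl
        rw [this]
        apply isSubcomod_sSup
        rintro W ⟨i, -, rfl⟩
        exact isoComp_isSubcomod (hD i)
      exact slice_coact_mem hsub l hn'

/-- A non-zero subcomodule of a comodule which is the sum of its isotypic components meets one
of them. -/
theorem exists_inf_ne_bot (htop : (⨆ D : SimpSub k A, isoComp M D.1) = ⊤) {N : Submodule k M}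
    (hN : HopfRep.IsSubcomod (k := k) (A := A) N) (hN0 : N ≠ ⊥) :
    ∃ D : SimpSub k A, N ⊓ isoComp M D.1 ≠ ⊥ := by
  obtain ⟨n, hnN, hn0⟩ := Submodule.exists_mem_ne_zero_of_ne_bot hN0
  have hn : n ∈ ⨆ D : SimpSub k A, isoComp M D.1 := by rw [htop]; trivial
  obtain ⟨s, hs⟩ := Submodule.exists_finset_of_mem_iSup _ hn
  exact exists_inf_ne_bot_aux (fun D : SimpSub k A => D.1) (fun D => D.2.2.1) hN s n hnN hn0 hs

end Coalg

section HopfMod

variable {k : Type u} [Field k] {A : Type v} [CommRing A] [Bialgebra k A]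
variable {R : Type w} [CommRing R] [Algebra k R] [HopfRep.Comod k A R]
variable {M : Type x} [AddCommGroup M] [Module k M] [Module R M] [IsScalarTower k R M]
  [HopfRep.Comod k A M] [TameAct.IsHopfMod k A R M]

omit [HopfRep.Comod k A R] [HopfRep.Comod k A M] [TameAct.IsHopfMod k A R M] in
theorem hmSMul_mem (N : Submodule R M) (a : R ⊗[k] A) (y : M ⊗[k] A)
    (hy : y ∈ LinearMap.range ((N.restrictScalars k).subtype.rTensor A)) :
    TameAct.hmSMul k A R M a y ∈ LinearMap.range ((N.restrictScalars k).subtype.rTensor A) := by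
  obtain ⟨z, rfl⟩ := hy
  induction a using TensorProduct.induction_on with
  | zero => simp
  | add a b ha hb => rw [map_add, LinearMap.add_apply]; exact add_mem ha hb
  | tmul r a =>
    induction z using TensorProduct.induction_on with
    | zero => simp
    | add c d hc hd => simp only [map_add]; exact add_mem hc hd
    | tmul n a' =>
      rw [LinearMap.rTensor_tmul, Submodule.subtype_apply, TameAct.hmSMul_tmul]
      exact ⟨(⟨r • n.1, N.smul_mem r n.2⟩ : N.restrictScalars k) ⊗ₜ[k] (a * a'), by simp⟩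

/-- The `R`-span of a set whose elements have coaction in `span ⊗ A` is a subcomodule. -/
theorem span_isSubcomod (T : Set M)
    (hT : ∀ t ∈ T, HopfRep.Comod.coact (k := k) (A := A) t ∈
      LinearMap.range (((Submodule.span R T).restrictScalars k).subtype.rTensor A)) :
    HopfRep.IsSubcomod (k := k) (A := A) ((Submodule.span R T).restrictScalars k) := by
  intro n hn
  have hn' : n ∈ Submodule.span R T := hn
  induction hn' using Submodule.span_induction with
  | mem t ht => exact hT t ht
  | zero => rw [map_zero]; exact zero_mem _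
  | add a b ha' hb' ha hb => rw [map_add]; exact add_mem (ha ha') (hb hb')
  | smul r a ha' ha =>
    rw [TameAct.IsHopfMod.coact_smul (k := k) (A := A)]
    exact hmSMul_mem _ _ _ (ha ha')

theorem genIn_isSubcomod (S : Set (SimpSub k A)) (N : Submodule R M)
    (hN : HopfRep.IsSubcomod (k := k) (A := A) (N.restrictScalars k)) :
    HopfRep.IsSubcomod (k := k) (A := A) ((genIn k A R M S N).restrictScalars k) := by
  unfold genIn
  apply span_isSubcomod
  intro t ht
  simp only [Set.mem_iUnion] at ht
  obtain ⟨D, hDS, htD⟩ := ht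
  have hsub : HopfRep.IsSubcomod (k := k) (A := A) (N.restrictScalars k ⊓ isoComp M D.1) :=
    isSubcomod_inf hN (isoComp_isSubcomod D.2.2.1)
  refine range_rTensor_subtype_mono ?_ (hsub t htD)
  intro y hy
  exact Submodule.subset_span (Set.mem_iUnion₂.mpr ⟨D, hDS, hy⟩)

omit [HopfRep.Comod k A R] [TameAct.IsHopfMod k A R M] in
theorem genIn_le (S : Set (SimpSub k A)) (N : Submodule R M) : genIn k A R M S N ≤ N := by
  unfold genIn
  refine Submodule.span_le.mpr ?_
  intro t ht
  simp only [Set.mem_iUnion] at ht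
  obtain ⟨D, -, htD⟩ := ht
  exact htD.1

omit [HopfRep.Comod k A R] [TameAct.IsHopfMod k A R M] in
theorem inf_le_genIn (S : Set (SimpSub k A)) (N : Submodule R M) {D : SimpSub k A} (hD : D ∈ S) :
    N.restrictScalars k ⊓ isoComp M D.1 ≤ (genIn k A R M S N).restrictScalars k := by
  intro y hy
  exact Submodule.subset_span (Set.mem_iUnion₂.mpr ⟨D, hD, hy⟩)

omit [HopfRep.Comod k A R] [TameAct.IsHopfMod k A R M] in
theorem genIn_inf_eq (S : Set (SimpSub k A)) (N : Submodule R M) {D : SimpSub k A} (hD : D ∈ S) :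
    (genIn k A R M S N).restrictScalars k ⊓ isoComp M D.1 =
      N.restrictScalars k ⊓ isoComp M D.1 := by
  apply le_antisymm
  · exact inf_le_inf_right _ (fun y hy => genIn_le S N hy)
  · exact le_inf (inf_le_genIn S N hD) inf_le_right

omit [HopfRep.Comod k A R] [TameAct.IsHopfMod k A R M] in
theorem genIn_genIn (S : Set (SimpSub k A)) (N : Submodule R M) :
    genIn k A R M S (genIn k A R M S N) = genIn k A R M S N := by
  apply le_antisymm (genIn_le S _)
  conv_lhs => unfold genIn
  refine Submodule.span_le.mpr ?_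
  intro t ht
  simp only [Set.mem_iUnion] at ht
  obtain ⟨D, hDS, htD⟩ := ht
  rw [← genIn_inf_eq S N hDS] at htD
  exact Submodule.subset_span (Set.mem_iUnion₂.mpr ⟨D, hDS, htD⟩)

end HopfMod

section Weights

variable {k : Type u} [Field k] {A : Type v} [AddCommGroup A] [Module k A] [Coalgebra k A]
variable {M : Type x} [AddCommGroup M] [Module k M] [HopfRep.Comod k A M]

/-- isotypic components are finite dimensional of dimension `h D` -/
def FinIso (M : Type x) [AddCommGroup M] [Module k M] [HopfRep.Comod k A M]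
    (h : SimpSub k A → ℕ) : Prop :=
  ∀ D : SimpSub k A, Module.Finite k ↥(isoComp M D.1) ∧ Module.finrank k ↥(isoComp M D.1) = h D

theorem hilbAt_top {h : SimpSub k A → ℕ} (hF : FinIso M h) (D : SimpSub k A) :
    hilbAt M (⊤ : Submodule k M) D = h D := by
  unfold hilbAt
  rw [top_inf_eq]
  exact (hF D).2

theorem hilbAt_mono {h : SimpSub k A → ℕ} (hF : FinIso M h) {N₁ N₂ : Submodule k M}
    (D : SimpSub k A) (hle : N₁ ⊓ isoComp M D.1 ≤ N₂ ⊓ isoComp M D.1) :
    hilbAt M N₁ D ≤ hilbAt M N₂ D := by
  unfold hilbAt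
  haveI := (hF D).1
  haveI : Module.Finite k ↥(N₂ ⊓ isoComp M D.1) :=
    Submodule.finiteDimensional_of_le inf_le_right
  exact Submodule.finrank_mono hle

theorem hilbAt_le {h : SimpSub k A → ℕ} (hF : FinIso M h) (N : Submodule k M)
    (D : SimpSub k A) : hilbAt M N D ≤ h D := by
  rw [← hilbAt_top hF D]
  exact hilbAt_mono hF D (inf_le_inf_right _ le_top)

theorem hilbAt_eq_zero {N : Submodule k M} {D : SimpSub k A}
    (h0 : N ⊓ isoComp M D.1 = ⊥) : hilbAt M N D = 0 := by
  unfold hilbAt
  rw [h0]
  exact finrank_bot k M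

theorem hilbAt_pos {h : SimpSub k A → ℕ} (hF : FinIso M h) {N : Submodule k M}
    {D : SimpSub k A} (h0 : N ⊓ isoComp M D.1 ≠ ⊥) : 0 < hilbAt M N D := by
  unfold hilbAt
  haveI := (hF D).1
  haveI : Module.Finite k ↥(N ⊓ isoComp M D.1) :=
    Submodule.finiteDimensional_of_le inf_le_right
  rw [Module.finrank_pos_iff_exists_ne_zero]
  obtain ⟨y, hy, hy0⟩ := Submodule.exists_mem_ne_zero_of_ne_bot h0
  exact ⟨⟨y, hy⟩, fun h => hy0 (congrArg Subtype.val h)⟩

/-- if the dimensions agree, the isotypic component lies in `N` -/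
theorem isoComp_le_of_hilbAt_eq {h : SimpSub k A → ℕ} (hF : FinIso M h) {N : Submodule k M}
    {D : SimpSub k A} (he : hilbAt M N D = h D) : isoComp M D.1 ≤ N := by
  haveI := (hF D).1
  have h1 : N ⊓ isoComp M D.1 = isoComp M D.1 := by
    apply Submodule.eq_of_le_of_finrank_eq inf_le_right
    rw [(hF D).2]
    exact he
  rw [← h1]
  exact inf_le_left

theorem summable_theta {h : SimpSub k A → ℕ} (hF : FinIso M h) (θ : SimpSub k A → ℚ)
    (hsum : Summable fun D => (θ D : ℝ) * (h D : ℝ)) (N : Submodule k M) :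
    Summable fun D => (θ D : ℝ) * (hilbAt M N D : ℝ) := by
  refine Summable.of_norm_bounded (g := fun D => |(θ D : ℝ) * (h D : ℝ)|) hsum.abs ?_
  intro D
  rw [Real.norm_eq_abs, abs_mul, abs_mul]
  apply mul_le_mul_of_nonneg_left _ (abs_nonneg _)
  rw [abs_of_nonneg (Nat.cast_nonneg _), abs_of_nonneg (Nat.cast_nonneg _)]
  exact_mod_cast hilbAt_le hF N D

theorem theta_top {h : SimpSub k A → ℕ} (hF : FinIso M h) (θ : SimpSub k A → ℚ)
    (hsum : HasSum (fun D => (θ D : ℝ) * (h D : ℝ)) 0) :
    theta M θ (⊤ : Submodule k M) = 0 := by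
  unfold theta
  have : (fun D : SimpSub k A => (θ D : ℝ) * (hilbAt M (⊤ : Submodule k M) D : ℝ)) =
      fun D => (θ D : ℝ) * (h D : ℝ) := by
    funext D
    rw [hilbAt_top hF D]
  rw [this]
  exact hsum.tsum_eq

/-- monotonicity of the weight for subspaces with the same parts at the negative weights -/
theorem theta_le {h : SimpSub k A → ℕ} (hF : FinIso M h) (θ : SimpSub k A → ℚ)
    (hsum : Summable fun D => (θ D : ℝ) * (h D : ℝ)) {N₁ N₂ : Submodule k M} (hle : N₁ ≤ N₂)
    (hneg : ∀ D, θ D < 0 → N₁ ⊓ isoComp M D.1 = N₂ ⊓ isoComp M D.1) :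
    theta M θ N₁ ≤ theta M θ N₂ := by
  unfold theta
  refine Summable.tsum_le_tsum ?_ (summable_theta hF θ hsum N₁) (summable_theta hF θ hsum N₂)
  intro D
  by_cases hD : θ D < 0
  · have : hilbAt M N₁ D = hilbAt M N₂ D := by
      unfold hilbAt
      rw [hneg D hD]
    rw [this]
  · have h0 : (0 : ℝ) ≤ (θ D : ℝ) := by exact_mod_cast not_lt.mp hD
    apply mul_le_mul_of_nonneg_left _ h0
    exact_mod_cast hilbAt_mono hF D (inf_le_inf_right _ hle)

/-- strict monotonicity -/
theorem theta_lt {h : SimpSub k A → ℕ} (hF : FinIso M h) (θ : SimpSub k A → ℚ)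
    (hsum : Summable fun D => (θ D : ℝ) * (h D : ℝ)) {N₁ N₂ : Submodule k M} (hle : N₁ ≤ N₂)
    (hneg : ∀ D, θ D < 0 → N₁ ⊓ isoComp M D.1 = N₂ ⊓ isoComp M D.1)
    (D₁ : SimpSub k A) (hD₁ : 0 < θ D₁) (hlt : hilbAt M N₁ D₁ < hilbAt M N₂ D₁) :
    theta M θ N₁ < theta M θ N₂ := by
  unfold theta
  refine Summable.tsum_lt_tsum (i := D₁) ?_ ?_ (summable_theta hF θ hsum N₁)
    (summable_theta hF θ hsum N₂)
  · intro D
    by_cases hD : θ D < 0
    · have : hilbAt M N₁ D = hilbAt M N₂ D := by
        unfold hilbAt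
        rw [hneg D hD]
      change (θ D : ℝ) * (hilbAt M N₁ D : ℝ) ≤ (θ D : ℝ) * (hilbAt M N₂ D : ℝ)
      rw [this]
    · have h0 : (0 : ℝ) ≤ (θ D : ℝ) := by exact_mod_cast not_lt.mp hD
      apply mul_le_mul_of_nonneg_left _ h0
      exact_mod_cast hilbAt_mono hF D (inf_le_inf_right _ hle)
  · have h0 : (0 : ℝ) < (θ D₁ : ℝ) := by exact_mod_cast hD₁
    apply mul_lt_mul_of_pos_left _ h0
    exact_mod_cast hlt

/-- the weight of a subspace with no part at the negative weights is non-negative -/
theorem theta_nonneg (θ : SimpSub k A → ℚ) {N : Submodule k M}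
    (hneg : ∀ D, θ D < 0 → N ⊓ isoComp M D.1 = ⊥) : 0 ≤ theta M θ N := by
  unfold theta
  apply tsum_nonneg
  intro D
  by_cases hD : θ D < 0
  · rw [hilbAt_eq_zero (hneg D hD)]
    simp
  · have h0 : (0 : ℝ) ≤ (θ D : ℝ) := by exact_mod_cast not_lt.mp hD
    exact mul_nonneg h0 (Nat.cast_nonneg _)

/-- ... and positive as soon as it has a part at a positive weight -/
theorem theta_pos {h : SimpSub k A → ℕ} (hF : FinIso M h) (θ : SimpSub k A → ℚ)
    (hsum : Summable fun D => (θ D : ℝ) * (h D : ℝ)) {N : Submodule k M}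
    (hneg : ∀ D, θ D < 0 → N ⊓ isoComp M D.1 = ⊥)
    (D₁ : SimpSub k A) (hD₁ : 0 < θ D₁) (hne : N ⊓ isoComp M D₁.1 ≠ ⊥) : 0 < theta M θ N := by
  unfold theta
  refine Summable.tsum_pos (summable_theta hF θ hsum N) ?_ D₁ ?_
  · intro D
    by_cases hD : θ D < 0
    · rw [hilbAt_eq_zero (hneg D hD)]
      simp
    · have h0 : (0 : ℝ) ≤ (θ D : ℝ) := by exact_mod_cast not_lt.mp hD
      exact mul_nonneg h0 (Nat.cast_nonneg _)
  · have h0 : (0 : ℝ) < (θ D₁ : ℝ) := by exact_mod_cast hD₁
    apply mul_pos h0
    exact_mod_cast hilbAt_pos hF hne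

end Weights

end Groth.Agent.Helper20.Constell
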