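import Groth.Agent.Lib.Helper20.Constell
import Groth.Prelude.Def_GLin

/-!
`θ`-stability statements for equivariant modules (helper20), built on `Constell`.
-/

set_option autoImplicit false
universe u v w x

open TensorProduct
open Groth.Agent.Helper12
open W4c3ghconstell

namespace Groth.Agent.Helper20.Constell

section

variable {k : Type u} [Field k] {A : Type v} [CommRing A] [HopfAlgebra k A]
variable {R : Type w} [CommRing R] [Algebra k R] [HopfRep.Comod k A R]
variable {M : Type x} [AddCommGroup M] [Module k M] [Module R M] [IsScalarTower k R M]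
  [HopfRep.Comod k A M] [TameAct.IsHopfMod k A R M]

omit [HopfRep.Comod k A R] [TameAct.IsHopfMod k A R M] in
theorem top_isSubcomod :
    HopfRep.IsSubcomod (k := k) (A := A) ((⊤ : Submodule R M).restrictScalars k) := by
  intro m _
  apply mem_range_rTensor_of_slice_mem (Module.Basis.ofVectorSpace k A)
  intro i
  trivial

omit [HopfRep.Comod k A R] [TameAct.IsHopfMod k A R M] in
/-- if the span of the negative parts vanishes, so do the negative parts -/
theorem inf_eq_bot_of_genIn_eq_bot {S : Set (SimpSub k A)} {N : Submodule R M}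
    (hbot : genIn k A R M S N = ⊥) {D : SimpSub k A} (hD : D ∈ S) :
    N.restrictScalars k ⊓ isoComp M D.1 = ⊥ := by
  rw [eq_bot_iff]
  intro y hy
  have := inf_le_genIn S N hD hy
  rw [hbot] at this
  exact this

/-- The generation statement: a stable module is generated by its negative parts. -/
theorem gen_of_stable (h : SimpSub k A → ℕ) (θ : SimpSub k A → ℚ)
    (hsum : HasSum (fun D => (θ D : ℝ) * (h D : ℝ)) 0)
    (hne : ∃ D, θ D ≠ 0 ∧ h D ≠ 0)
    (hM : IsConstellation k A R M h)
    (h0 : theta M θ (⊤ : Submodule k M) = 0)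
    (hst : ∀ N : Submodule R M, HopfRep.IsSubcomod (k := k) (A := A) (N.restrictScalars k) →
      N ≠ ⊥ → N ≠ ⊤ → theta M θ (N.restrictScalars k) ≤ 0 → False) :
    genIn k A R M {D | θ D < 0} ⊤ = ⊤ := by
  classical
  obtain ⟨-, -, hF⟩ := hM
  have hF' : FinIso M h := hF
  by_contra hne_top
  have hsub : HopfRep.IsSubcomod (k := k) (A := A)
      ((genIn k A R M {D | θ D < 0} ⊤).restrictScalars k) :=
    genIn_isSubcomod _ ⊤ top_isSubcomod
  have hle : theta M θ ((genIn k A R M {D | θ D < 0} ⊤).restrictScalars k) ≤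
      theta M θ ((⊤ : Submodule R M).restrictScalars k) :=
    theta_le hF' θ hsum.summable (fun y _ => trivial)
      (fun D hD => genIn_inf_eq {D | θ D < 0} ⊤ hD)
  rw [Submodule.restrictScalars_top, h0] at hle
  by_cases hbot : genIn k A R M {D | θ D < 0} ⊤ = ⊥
  · have hterm : ∀ D, 0 ≤ (θ D : ℝ) * (h D : ℝ) := by
      intro D
      by_cases hD : θ D < 0
      · have hiso := inf_eq_bot_of_genIn_eq_bot hbot (D := D) hD
        rw [Submodule.restrictScalars_top, top_inf_eq] at hiso
        have : h D = 0 := by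
          rw [← (hF D).2, hiso]
          exact finrank_bot k M
        rw [this]
        simp
      · exact mul_nonneg (by exact_mod_cast not_lt.mp hD) (Nat.cast_nonneg _)
    have hz := (hasSum_zero_iff_of_nonneg hterm).mp hsum
    obtain ⟨D, hθD, hhD⟩ := hne
    have h1 := congrFun hz D
    simp only [Pi.zero_apply, mul_eq_zero, Rat.cast_eq_zero, Nat.cast_eq_zero] at h1
    rcases h1 with h1 | h1
    · exact hθD h1
    · exact hhD h1
  · exact hst _ hsub hbot hne_top hle

omit [HopfRep.Comod k A R] [TameAct.IsHopfMod k A R M] in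
/-- a positive-weight component not contained in `N` -/
theorem exists_pos_of_ne_top (h : SimpSub k A → ℕ) (θ : SimpSub k A → ℚ)
    (hM : IsConstellation k A R M h) (hθ : ∀ D, θ D ≠ 0) {N : Submodule R M} (hN : N ≠ ⊤)
    (hneg : ∀ D, θ D < 0 → isoComp M D.1 ≤ N.restrictScalars k) :
    ∃ D₁ : SimpSub k A, 0 < θ D₁ ∧
      hilbAt M (N.restrictScalars k) D₁ < hilbAt M (⊤ : Submodule k M) D₁ := by
  obtain ⟨-, htop, hF⟩ := hM
  have hF' : FinIso M h := hF
  have hex : ∃ D₁ : SimpSub k A, ¬ isoComp M D₁.1 ≤ N.restrictScalars k := by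
    by_contra hcon
    push Not at hcon
    apply hN
    rw [eq_top_iff]
    intro y _
    have hy : y ∈ ⨆ D : SimpSub k A, isoComp M D.1 := by rw [htop]; trivial
    exact (iSup_le hcon) hy
  obtain ⟨D₁, hD₁⟩ := hex
  have hpos : 0 < θ D₁ := by
    rcases lt_trichotomy (θ D₁) 0 with h1 | h1 | h1
    · exact absurd (hneg D₁ h1) hD₁
    · exact absurd h1 (hθ D₁)
    · exact h1
  refine ⟨D₁, hpos, ?_⟩
  rw [hilbAt_top hF' D₁]
  apply lt_of_le_of_ne (hilbAt_le hF' _ D₁)
  intro heq
  exact hD₁ (isoComp_le_of_hilbAt_eq hF' heq)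

/-- generation by the negative parts for semistable modules when `θ` vanishes nowhere -/
theorem gen_of_semistable (h : SimpSub k A → ℕ) (θ : SimpSub k A → ℚ)
    (hsum : HasSum (fun D => (θ D : ℝ) * (h D : ℝ)) 0)
    (hM : IsConstellation k A R M h) (hθ : ∀ D, θ D ≠ 0)
    (hss : IsThetaSemistable k A R M θ) :
    genIn k A R M {D | θ D < 0} ⊤ = ⊤ := by
  classical
  have hF' : FinIso M h := hM.2.2
  by_contra hne_top
  have hsub : HopfRep.IsSubcomod (k := k) (A := A)
      ((genIn k A R M {D | θ D < 0} ⊤).restrictScalars k) :=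
    genIn_isSubcomod _ ⊤ top_isSubcomod
  have hge := hss.2 _ hsub
  have hneg : ∀ D, θ D < 0 →
      isoComp M D.1 ≤ (genIn k A R M {D | θ D < 0} ⊤).restrictScalars k := by
    intro D hD y hy
    exact inf_le_genIn {D | θ D < 0} ⊤ hD ⟨trivial, hy⟩
  obtain ⟨D₁, hpos, hlt⟩ := exists_pos_of_ne_top h θ hM hθ hne_top hneg
  have hlt' : theta M θ ((genIn k A R M {D | θ D < 0} ⊤).restrictScalars k) <
      theta M θ (⊤ : Submodule k M) := by
    refine theta_lt hF' θ hsum.summable (fun y _ => trivial) ?_ D₁ hpos hlt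
    intro D hD
    have := genIn_inf_eq {D | θ D < 0} (⊤ : Submodule R M) hD
    rw [Submodule.restrictScalars_top] at this
    exact this
  rw [hss.1] at hlt'
  linarith

/-- semistability can be tested on submodules generated by their negative parts -/
theorem semistable_of (h : SimpSub k A → ℕ) (θ : SimpSub k A → ℚ)
    (hsum : HasSum (fun D => (θ D : ℝ) * (h D : ℝ)) 0)
    (hM : IsConstellation k A R M h)
    (h0 : theta M θ (⊤ : Submodule k M) = 0)
    (hss : ∀ N : Submodule R M, HopfRep.IsSubcomod (k := k) (A := A) (N.restrictScalars k) →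
      N ≠ ⊥ → N ≠ ⊤ → genIn k A R M {D | θ D < 0} N = N → 0 ≤ theta M θ (N.restrictScalars k)) :
    IsThetaSemistable k A R M θ := by
  classical
  have hF' : FinIso M h := hM.2.2
  refine ⟨h0, fun N hN => ?_⟩
  by_cases hbot : genIn k A R M {D | θ D < 0} N = ⊥
  · exact theta_nonneg θ (fun D hD => inf_eq_bot_of_genIn_eq_bot hbot hD)
  by_cases htop : genIn k A R M {D | θ D < 0} N = ⊤
  · have : N = ⊤ := by
      rw [eq_top_iff, ← htop]
      exact genIn_le _ N
    rw [this, Submodule.restrictScalars_top, h0]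
  · have h1 := hss _ (genIn_isSubcomod _ N hN) hbot htop (genIn_genIn _ N)
    have h2 : theta M θ ((genIn k A R M {D | θ D < 0} N).restrictScalars k) ≤
        theta M θ (N.restrictScalars k) :=
      theta_le hF' θ hsum.summable (fun y hy => genIn_le _ N hy)
        (fun D hD => genIn_inf_eq {D | θ D < 0} N hD)
    linarith

omit [HopfRep.Comod k A R] [TameAct.IsHopfMod k A R M] in
/-- a non-zero subcomodule with no negative part has positive weight -/
theorem pos_of_no_neg (h : SimpSub k A → ℕ) (θ : SimpSub k A → ℚ)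
    (hsum : HasSum (fun D => (θ D : ℝ) * (h D : ℝ)) 0)
    (hM : IsConstellation k A R M h) (hθ : ∀ D, h D ≠ 0 → θ D ≠ 0)
    {N : Submodule R M} (hN : HopfRep.IsSubcomod (k := k) (A := A) (N.restrictScalars k))
    (hN0 : N ≠ ⊥) (hneg : ∀ D, θ D < 0 → N.restrictScalars k ⊓ isoComp M D.1 = ⊥) :
    0 < theta M θ (N.restrictScalars k) := by
  have hF' : FinIso M h := hM.2.2
  have hN0' : N.restrictScalars k ≠ ⊥ := by
    intro hcon
    exact hN0 ((Submodule.restrictScalars_eq_bot_iff k R M).mp hcon)
  obtain ⟨D₁, hD₁⟩ := exists_inf_ne_bot hM.2.1 hN hN0'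
  have hh : h D₁ ≠ 0 := by
    have h1 := hilbAt_pos hF' hD₁
    have h2 := hilbAt_le hF' (N.restrictScalars k) D₁
    omega
  have hpos : 0 < θ D₁ := by
    rcases lt_trichotomy (θ D₁) 0 with h1 | h1 | h1
    · exact absurd (hneg D₁ h1) hD₁
    · exact absurd h1 (hθ D₁ hh)
    · exact h1
  exact theta_pos hF' θ hsum.summable hneg D₁ hpos hD₁

/-- stability can be tested on submodules generated by their negative parts -/
theorem stable_of (h : SimpSub k A → ℕ) (θ : SimpSub k A → ℚ)
    (hsum : HasSum (fun D => (θ D : ℝ) * (h D : ℝ)) 0)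
    (hM : IsConstellation k A R M h) (hθ : ∀ D, h D ≠ 0 → θ D ≠ 0)
    (h0 : theta M θ (⊤ : Submodule k M) = 0)
    (hs : ∀ N : Submodule R M, HopfRep.IsSubcomod (k := k) (A := A) (N.restrictScalars k) →
      N ≠ ⊥ → N ≠ ⊤ → genIn k A R M {D | θ D < 0} N = N → 0 < theta M θ (N.restrictScalars k)) :
    IsThetaStable k A R M θ := by
  classical
  have hF' : FinIso M h := hM.2.2
  refine ⟨h0, fun N hN hNbot hNtop => ?_⟩
  by_cases hbot : genIn k A R M {D | θ D < 0} N = ⊥
  · exact pos_of_no_neg h θ hsum hM hθ hN hNbot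
      (fun D hD => inf_eq_bot_of_genIn_eq_bot hbot hD)
  · have htop : genIn k A R M {D | θ D < 0} N ≠ ⊤ := by
      intro htop
      apply hNtop
      rw [eq_top_iff, ← htop]
      exact genIn_le _ N
    have h1 := hs _ (genIn_isSubcomod _ N hN) hbot htop (genIn_genIn _ N)
    have h2 : theta M θ ((genIn k A R M {D | θ D < 0} N).restrictScalars k) ≤
        theta M θ (N.restrictScalars k) :=
      theta_le hF' θ hsum.summable (fun y hy => genIn_le _ N hy)
        (fun D hD => genIn_inf_eq {D | θ D < 0} N hD)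
    linarith

omit [HopfRep.Comod k A R] [TameAct.IsHopfMod k A R M] in
/-- a module generated by a one-dimensional part at the only negative weight is stable -/
theorem stable_of_cyclic (h : SimpSub k A → ℕ) (θ : SimpSub k A → ℚ)
    (hsum : HasSum (fun D => (θ D : ℝ) * (h D : ℝ)) 0)
    (hM : IsConstellation k A R M h)
    (D₀ : SimpSub k A) (h1 : h D₀ = 1) (hneg : ∀ D, θ D < 0 ↔ D = D₀)
    (hθ : ∀ D, h D ≠ 0 → θ D ≠ 0)
    (hgen : genIn k A R M {D₀} ⊤ = ⊤) :
    IsThetaStable k A R M θ := by
  classical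
  have hF' : FinIso M h := hM.2.2
  refine ⟨theta_top hF' θ hsum, fun N hN hNbot hNtop => ?_⟩
  have hD₀ : N.restrictScalars k ⊓ isoComp M D₀.1 = ⊥ := by
    by_contra hne
    have hp := hilbAt_pos hF' hne
    have hl := hilbAt_le hF' (N.restrictScalars k) D₀
    have heq : hilbAt M (N.restrictScalars k) D₀ = h D₀ := by omega
    have hle := isoComp_le_of_hilbAt_eq hF' heq
    apply hNtop
    rw [eq_top_iff, ← hgen]
    unfold genIn
    refine Submodule.span_le.mpr ?_
    intro t ht
    simp only [Set.mem_iUnion, Set.mem_singleton_iff] at ht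
    obtain ⟨D, rfl, htD⟩ := ht
    exact hle htD.2
  refine pos_of_no_neg h θ hsum hM hθ hN hNbot ?_
  intro D hD
  rw [(hneg D).mp hD]
  exact hD₀

end

end Groth.Agent.Helper20.Constell
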