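import Mathlib

set_option autoImplicit false
universe u v

namespace Groth.Agent.Helper20.Cover

open Cardinal

theorem exists_not_mem_of_card_le {k : Type u} [DivisionRing k] {E : Type v} [AddCommGroup E] [Module k E]
    (s : Finset (Submodule k E)) (hs : ∀ W ∈ s, W ≠ ⊤)
    (hcard : (s.card : Cardinal.{u}) ≤ Cardinal.mk k) :
    ∃ v : E, ∀ W ∈ s, v ∉ W := by
  classical
  induction s using Finset.induction_on with
  | empty => exact ⟨0, fun W hW => absurd hW (Finset.notMem_empty W)⟩
  | insert W₁ s' hW₁ ih =>
    have hcard' : (s'.card + 1 : ℕ) ≤ Cardinal.mk k := by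
      rw [Finset.card_insert_of_notMem hW₁] at hcard
      exact hcard
    obtain ⟨u, hu⟩ := ih (fun W hW => hs W (Finset.mem_insert_of_mem hW)) (by
      refine le_trans ?_ hcard'
      exact_mod_cast Nat.le_succ _)
    by_cases huW₁ : u ∈ W₁
    · obtain ⟨v, hv⟩ : ∃ v : E, v ∉ W₁ := by
        by_contra hcon
        push Not at hcon
        exact hs W₁ (Finset.mem_insert_self _ _) (eq_top_iff.mpr fun x _ => hcon x)
      by_contra hcon
      push Not at hcon
      have hcov : ∀ t : k, ∃ W ∈ s', v + t • u ∈ W := by
        intro t
        obtain ⟨W, hW, hmem⟩ := hcon (v + t • u)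
        rcases Finset.mem_insert.mp hW with rfl | hW'
        · exfalso
          apply hv
          have := W.sub_mem hmem (W.smul_mem t huW₁)
          simpa using this
        · exact ⟨W, hW', hmem⟩
      choose g hg hgmem using hcov
      have hinj : Function.Injective (fun t : k => (⟨g t, hg t⟩ : {W // W ∈ s'})) := by
        intro t t' htt'
        by_contra hne
        have heq : g t = g t' := congrArg Subtype.val htt'
        have h1 : v + t • u ∈ g t := hgmem t
        have h2 : v + t' • u ∈ g t := by rw [heq]; exact hgmem t'
        have h3 : (t - t') • u ∈ g t := by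
          have := (g t).sub_mem h1 h2
          rw [sub_smul]
          convert this using 1
          abel
        have h4 : u ∈ g t := by
          have hne' : t - t' ≠ 0 := sub_ne_zero.mpr hne
          have := (g t).smul_mem (t - t')⁻¹ h3
          rwa [smul_smul, inv_mul_cancel₀ hne', one_smul] at this
        exact hu _ (hg t) h4
      have hfink : Finite k := Finite.of_injective _ hinj
      have h1 : Nat.card k ≤ Nat.card {W // W ∈ s'} := Nat.card_le_card_of_injective _ hinj
      have h2 : Nat.card {W // W ∈ s'} = s'.card := by
        rw [Nat.card_eq_fintype_card, Fintype.card_coe]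
      rw [← Nat.cast_card, Nat.cast_le] at hcard'
      omega
    · refine ⟨u, fun W hW => ?_⟩
      rcases Finset.mem_insert.mp hW with rfl | hW'
      · exact huW₁
      · exact hu W hW'

end Groth.Agent.Helper20.Cover
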