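import Mathlib
import Groth.Prelude.Def_ModFun2
import Groth.Agent.Lib.Helper20.VBMap4

/-!
# Stable bundles over an algebraically closed field are simple
-/

set_option autoImplicit false
set_option maxHeartbeats 400000
set_option linter.style.haveILetI false
set_option linter.unusedSectionVars false
set_option linter.unusedVariables false
universe u
open CategoryTheory CategoryTheory.Limits AlgebraicGeometry Opposite TopologicalSpace
open Groth.Agent.Helper20.RankFn

namespace Groth.Agent.Helper20.VBMap

variable (k : Type u) [Field k] [IsAlgClosed k] {X : Scheme.{u}} [X.Over (Spec (CommRingCat.of k))]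
  [IsIntegral X] [IsProper (X ↘ Spec (CommRingCat.of k))] [Smooth (X ↘ Spec (CommRingCat.of k))]

theorem simple_of_stable (hdim : topologicalKrullDim X = 1) (r : ℕ) (hr : 0 < r) (E : X.Modules)
    (hE : FlatMod.IsFinLocFreeOfRank r E)
    (hEss : ModFun.IsSlopeSemistable k X E r) (hEst : ModFun.IsSlopeStable k X E r)
    (φ : E ⟶ E) :
    ∃ c : k, φ = c • 𝟙 E := by
  have hfl := VBIndec.isFinLocFree_of_rank r E hE
  have hcoh : Coh.IsCoh E := Groth.Agent.Helper9.ResVan.isCoh_of_isFinLocFree E hfl
  have hfin : Module.Finite k (End E) := HomFin.finite_hom k E E hcoh hcoh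
  have hne : ¬ IsZero E := VBIndec.not_isZero_of_isFinLocFreeOfRank r hr E hE
  have hnt : Nontrivial (End E) :=
    ⟨⟨1, 0, fun h => hne ((IsZero.iff_id_eq_zero E).mpr h)⟩⟩
  obtain ⟨c, hc⟩ := spectrum.nonempty_of_isAlgClosed_of_finiteDimensional k (End.of φ)
  refine ⟨c, ?_⟩
  rw [spectrum.mem_iff, Algebra.algebraMap_eq_smul_one] at hc
  by_contra hne0
  have hne1 : c • 𝟙 E - φ ≠ 0 := fun h => hne0 (sub_eq_zero.mp h).symm
  have hiso := isIso_of_stable k hdim r r hr hr E E hE hE hEss hEst hEss hEst rfl
    (c • 𝟙 E - φ) hne1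
  exact hc ((isUnit_iff_isIso _).mpr hiso)

end Groth.Agent.Helper20.VBMap
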