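import Groth.Agent.Lib.Helper20.CubicTaylor

/-!
# The first polar of a smooth non-T-point of a cubic surface meets the tangent plane in two lines
(S16352)
-/

open MvPolynomial

namespace Groth.Agent.Helper20.CubicPolar

open Groth.Agent.Helper20.CubicTaylor

universe u

variable {K : Type u} [Field K]

/-- The linear polynomial of a linear functional. -/
noncomputable def linPoly {n : ℕ} (φ : (Fin n → K) →ₗ[K] K) : MvPolynomial (Fin n) K :=
  ∑ i, C (φ (fun j => if i = j then 1 else 0)) * X i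

lemma eval_linPoly {n : ℕ} (φ : (Fin n → K) →ₗ[K] K) (x : Fin n → K) :
    MvPolynomial.eval x (linPoly φ) = φ x := by
  rw [LinearMap.pi_apply_eq_sum_univ φ x]
  simp [linPoly, mul_comm]

lemma linPoly_isHomogeneous {n : ℕ} (φ : (Fin n → K) →ₗ[K] K) :
    (linPoly φ).IsHomogeneous 1 := by
  apply IsHomogeneous.sum
  intro i _
  exact isHomogeneous_C_mul_X _ _

/-- Extend a nonzero vector of a three-dimensional subspace to a basis, with coordinate
functionals on the ambient space. -/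
lemma exists_basis_ext {V : Type*} [AddCommGroup V] [Module K V] (H : Submodule K V)
    (hfin : Module.finrank K H = 3) (a : V) (haH : a ∈ H) (ha : a ≠ 0) :
    ∃ (h₁ h₂ : V) (cα cβ : V →ₗ[K] K), h₁ ∈ H ∧ h₂ ∈ H ∧
      (∀ c₀ c₁ c₂ : K, c₀ • a + c₁ • h₁ + c₂ • h₂ = 0 → c₀ = 0 ∧ c₁ = 0 ∧ c₂ = 0) ∧
      ∀ x ∈ H, ∃ s : K, x = s • a + cα x • h₁ + cβ x • h₂ := by
  haveI : FiniteDimensional K H := Module.finite_of_finrank_pos (by omega)
  have ha' : (⟨a, haH⟩ : H) ≠ 0 := by
    intro h
    exact ha (congrArg Subtype.val h)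
  obtain ⟨y, hy⟩ := exists_linearIndependent_pair_of_one_lt_finrank (R := K) (M := H)
    (by rw [hfin]; norm_num) ha'
  obtain ⟨z, hz⟩ := exists_linearIndependent_cons_of_lt_finrank hy (by rw [hfin]; norm_num)
  have hz' : LinearIndependent K ![z, ⟨a, haH⟩, y] := hz
  set b := basisOfLinearIndependentOfCardEqFinrank hz' (by simp [hfin]) with hb
  have hbv : ∀ i, b i = ![z, ⟨a, haH⟩, y] i := by
    intro i
    rw [hb, coe_basisOfLinearIndependentOfCardEqFinrank]
  obtain ⟨cα, hcα⟩ := LinearMap.exists_extend (b.coord 2)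
  obtain ⟨cβ, hcβ⟩ := LinearMap.exists_extend (b.coord 0)
  refine ⟨y.1, z.1, cα, cβ, y.2, z.2, ?_, ?_⟩
  · intro c₀ c₁ c₂ h
    have hli := Fintype.linearIndependent_iff.mp hz' ![c₂, c₀, c₁] (by
      rw [Fin.sum_univ_three]
      apply Subtype.ext
      simp only [Matrix.cons_val_zero, Matrix.cons_val_one, Matrix.cons_val_two,
        Submodule.coe_add, Submodule.coe_smul, Submodule.coe_zero]
      rw [← h]
      abel)
    have h0 := hli 0
    have h1 := hli 1
    have h2 := hli 2
    simp at h0 h1 h2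
    exact ⟨h1, h2, h0⟩
  · intro x hx
    have hsum := b.sum_repr ⟨x, hx⟩
    rw [Fin.sum_univ_three, hbv 0, hbv 1, hbv 2] at hsum
    have hx' := congrArg Subtype.val hsum
    simp only [Matrix.cons_val_zero, Matrix.cons_val_one, Matrix.cons_val_two,
      Submodule.coe_add, Submodule.coe_smul] at hx'
    have h1 : cα x = b.repr ⟨x, hx⟩ 2 := by
      have := LinearMap.congr_fun hcα ⟨x, hx⟩
      simpa using this
    have h2 : cβ x = b.repr ⟨x, hx⟩ 0 := by
      have := LinearMap.congr_fun hcβ ⟨x, hx⟩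
      simpa using this
    refine ⟨b.repr ⟨x, hx⟩ 1, ?_⟩
    rw [h1, h2]
    calc x = _ := hx'.symm
      _ = _ := by abel

variable [IsAlgClosed K] [CharZero K]

theorem main (F : MvPolynomial (Fin 4) K) (hF : F.IsHomogeneous 3)
    (a : Fin 4 → K) (ha : a ≠ 0) (hFa : MvPolynomial.eval a F = 0)
    (hsm : ∃ i : Fin 4, MvPolynomial.eval a (MvPolynomial.pderiv i F) ≠ 0)
    (ℓ : MvPolynomial (Fin 4) K)
    (hℓ : ℓ = ∑ i : Fin 4, MvPolynomial.C (MvPolynomial.eval a (MvPolynomial.pderiv i F)) *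
      MvPolynomial.X i)
    (hT : ¬ ∃ L₁ L₂ L₃ : MvPolynomial (Fin 4) K, L₁.IsHomogeneous 1 ∧ L₂.IsHomogeneous 1 ∧
      L₃.IsHomogeneous 1 ∧ F - L₁ * L₂ * L₃ ∈ Ideal.span {ℓ})
    (P : MvPolynomial (Fin 4) K) (hP : P = ∑ i : Fin 4, a i • MvPolynomial.pderiv i F)
    (H : Submodule K (Fin 4 → K)) (hH : ∀ x : Fin 4 → K, x ∈ H ↔ MvPolynomial.eval x ℓ = 0) :
    (∃ U₁ U₂ : Submodule K (Fin 4 → K), Module.finrank K ↥U₁ = 2 ∧ Module.finrank K ↥U₂ = 2 ∧
        a ∈ U₁ ∧ a ∈ U₂ ∧ U₁ ≤ H ∧ U₂ ≤ H ∧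
        {x : Fin 4 → K | x ∈ H ∧ MvPolynomial.eval x P = 0} =
          (U₁ : Set (Fin 4 → K)) ∪ (U₂ : Set (Fin 4 → K))) ∧
      ∀ U : Submodule K (Fin 4 → K), a ∈ U → Module.finrank K ↥U = 2 →
        (∀ u ∈ U, MvPolynomial.eval u F = 0) →
        U ≤ H ∧ ∀ u ∈ U, MvPolynomial.eval u P = 0 := by
  classical
  haveI : Infinite K := Infinite.of_injective (Nat.cast : ℕ → K) Nat.cast_injective
  set dF : Fin 4 → K := fun i => MvPolynomial.eval a (MvPolynomial.pderiv i F) with hdF
  have hℓx : ∀ x : Fin 4 → K, MvPolynomial.eval x ℓ = ∑ i, dF i * x i := by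
    intro x
    rw [hℓ]
    simp [hdF]
  have hPx : ∀ x : Fin 4 → K, MvPolynomial.eval x P =
      ∑ i, a i * MvPolynomial.eval x (MvPolynomial.pderiv i F) := by
    intro x
    rw [hP]
    simp [MvPolynomial.smul_eval]
  have hHx : ∀ x : Fin 4 → K, x ∈ H ↔ ∑ i, x i * dF i = 0 := by
    intro x
    rw [hH, hℓx]
    simp only [mul_comm]
  -- part (B)
  refine ⟨?_, ?_⟩
  swap
  · intro U haU _ hUF
    refine ⟨fun u hu => ?_, fun u hu => ?_⟩
    · rw [hHx]
      have := dirDeriv_eq_zero_of_line a u F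
        (fun r => hUF _ (U.add_mem haU (U.smul_mem r hu))) 0
      simpa using this
    · rw [hPx]
      have := dirDeriv_eq_zero_of_line u a F
        (fun r => hUF _ (U.add_mem hu (U.smul_mem r haU))) 0
      simpa using this
  -- part (A)
  -- `a ∈ H` by Euler's identity
  have haH : a ∈ H := by
    rw [hHx]
    have he := hF.sum_X_mul_pderiv
    have := congrArg (MvPolynomial.eval a) he
    simp only [map_sum, map_mul, eval_X, hFa, nsmul_eq_mul, mul_zero] at this
    simpa [hdF] using this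
  -- the linear functional and the dimension of `H`
  set lf : Module.Dual K (Fin 4 → K) := ∑ i, dF i • LinearMap.proj i with hlf
  have hlfx : ∀ x : Fin 4 → K, lf x = ∑ i, dF i * x i := by
    intro x
    simp [hlf]
  have hHker : H = LinearMap.ker lf := by
    ext x
    rw [LinearMap.mem_ker, hlfx, hH, hℓx]
  have hlf0 : lf ≠ 0 := by
    obtain ⟨i₀, hi₀⟩ := hsm
    intro h0
    have := hlfx (Pi.single i₀ 1)
    rw [h0] at this
    simp [Pi.single_apply] at this
    exact hi₀ this.symm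
  have hfin : Module.finrank K H = 3 := by
    have := Module.Dual.finrank_ker_add_one_of_ne_zero hlf0
    rw [Module.finrank_fintype_fun_eq_card, Fintype.card_fin, ← hHker] at this
    omega
  obtain ⟨h₁, h₂, cα, cβ, hh₁, hh₂, hind, hspan⟩ := exists_basis_ext H hfin a haH ha
  -- expansions along `a`
  have hE : ∀ y ∈ H, ∀ r : K, MvPolynomial.eval (y + r • a) F =
      r * MvPolynomial.eval y P + MvPolynomial.eval y F := by
    intro y hy r
    have := cubic_expand F hF a y r 1
    rw [one_smul, add_comm] at this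
    rw [this, hFa, (hHx y).mp hy, hPx]
    ring
  have hE2 : ∀ y ∈ H, ∀ r : K, MvPolynomial.eval (y + r • a) P = MvPolynomial.eval y P := by
    intro y hy r
    have hG : lineP y a F = Polynomial.C (MvPolynomial.eval y F) +
        Polynomial.C (MvPolynomial.eval y P) * Polynomial.X := by
      apply Polynomial.funext
      intro r
      rw [eval_lineP, hE y hy r]
      simp
      ring
    have := eval_derivative_lineP y a F r
    rw [hG] at this
    simp at this
    rw [hPx (y + r • a), ← this]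
  -- `P` is a quadratic form
  have hP2 : P.IsHomogeneous 2 := by
    rw [hP]
    apply IsHomogeneous.sum
    intro i _
    rw [MvPolynomial.smul_eq_C_mul]
    exact (hF.pderiv).C_mul _
  obtain ⟨B, hB⟩ := quad_expand P hP2 h₁ h₂
  have hcomb : ∀ α β : K, α • h₁ + β • h₂ ∈ H := fun α β =>
    H.add_mem (H.smul_mem α hh₁) (H.smul_mem β hh₂)
  have hPdecomp : ∀ s α β : K, MvPolynomial.eval (s • a + α • h₁ + β • h₂) P =
      α ^ 2 * MvPolynomial.eval h₁ P + α * β * B + β ^ 2 * MvPolynomial.eval h₂ P := by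
    intro s α β
    have : s • a + α • h₁ + β • h₂ = (α • h₁ + β • h₂) + s • a := by abel
    rw [this, hE2 _ (hcomb α β) s, hB]
  by_cases hq : MvPolynomial.eval h₁ P = 0 ∧ B = 0 ∧ MvPolynomial.eval h₂ P = 0
  · -- `P` vanishes on `H`: then `a` is a T-point
    exfalso
    obtain ⟨hq1, hq2, hq3⟩ := hq
    have hPz : ∀ α β : K, MvPolynomial.eval (α • h₁ + β • h₂) P = 0 := by
      intro α β
      rw [hB, hq1, hq2, hq3]
      ring
    obtain ⟨c, hc⟩ := binary_form F hF h₁ h₂
    have hc' : ∀ α β : K, MvPolynomial.eval (α • h₁ + β • h₂) F =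
        c 0 * β ^ 3 + c 1 * α * β ^ 2 + c 2 * α ^ 2 * β + c 3 * α ^ 3 := by
      intro α β
      rw [hc α β]
      simp [Finset.sum_range_succ]
    obtain ⟨l₁, m₁, l₂, m₂, l₃, m₃, hfac⟩ := cubic_factor (c 0) (c 1) (c 2) (c 3)
    apply hT
    refine ⟨linPoly (l₁ • cα + m₁ • cβ), linPoly (l₂ • cα + m₂ • cβ),
      linPoly (l₃ • cα + m₃ • cβ), linPoly_isHomogeneous _, linPoly_isHomogeneous _,
      linPoly_isHomogeneous _, ?_⟩
    obtain ⟨i₀, hi₀⟩ := hsm
    rw [hℓ]
    apply mem_span_of_vanish dF i₀ hi₀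
    intro x hx
    have hxH : x ∈ H := by
      rw [hHx]
      simpa [mul_comm] using hx
    obtain ⟨s, hs⟩ := hspan x hxH
    rw [map_sub, map_mul, map_mul, eval_linPoly, eval_linPoly, eval_linPoly, sub_eq_zero]
    have hxdecomp : x = (cα x • h₁ + cβ x • h₂) + s • a := by
      calc x = s • a + cα x • h₁ + cβ x • h₂ := hs
        _ = _ := by abel
    have hFx : MvPolynomial.eval x F = MvPolynomial.eval (cα x • h₁ + cβ x • h₂) F := by
      conv_lhs => rw [hxdecomp]
      rw [hE _ (hcomb _ _) s, hPz, mul_zero, zero_add]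
    rw [hFx, hc', hfac]
    simp only [LinearMap.add_apply, LinearMap.smul_apply, smul_eq_mul]
  · -- factor the quadratic form
    obtain ⟨l₁, m₁, l₂, m₂, hfac⟩ :=
      quad_factor (MvPolynomial.eval h₁ P) B (MvPolynomial.eval h₂ P)
    have hfac' : ∀ α β : K, α ^ 2 * MvPolynomial.eval h₁ P + α * β * B +
        β ^ 2 * MvPolynomial.eval h₂ P = (l₁ * α + m₁ * β) * (l₂ * α + m₂ * β) := by
      intro α β
      rw [← hfac]
      ring
    have hnz1 : ¬ (l₁ = 0 ∧ m₁ = 0) := by
      rintro ⟨h1, h2⟩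
      apply hq
      have e1 := hfac 1 0
      have e2 := hfac 0 1
      have e3 := hfac 1 1
      rw [h1, h2] at e1 e2 e3
      simp at e1 e2 e3
      refine ⟨e1, ?_, e2⟩
      rw [e1, e2] at e3
      simpa using e3
    have hnz2 : ¬ (l₂ = 0 ∧ m₂ = 0) := by
      rintro ⟨h1, h2⟩
      apply hq
      have e1 := hfac 1 0
      have e2 := hfac 0 1
      have e3 := hfac 1 1
      rw [h1, h2] at e1 e2 e3
      simp at e1 e2 e3
      refine ⟨e1, ?_, e2⟩
      rw [e1, e2] at e3
      simpa using e3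
    -- the two lines
    have mkU : ∀ l m : K, ¬ (l = 0 ∧ m = 0) → ∃ U : Submodule K (Fin 4 → K),
        Module.finrank K U = 2 ∧ a ∈ U ∧ U ≤ H ∧
        ∀ x, x ∈ U ↔ ∃ s c : K, x = s • a + c • (m • h₁ - l • h₂) := by
      intro l m hlm
      have hli : LinearIndependent K ![a, m • h₁ - l • h₂] := by
        rw [LinearIndependent.pair_iff]
        intro s t hst
        have h0 : s • a + (t * m) • h₁ + (-(t * l)) • h₂ = 0 := by
          rw [← hst, smul_sub, smul_smul, smul_smul, neg_smul]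
          abel
        obtain ⟨hs0, htm, htl⟩ := hind _ _ _ h0
        refine ⟨hs0, ?_⟩
        by_contra ht
        apply hlm
        constructor
        · have : t * l = 0 := neg_eq_zero.mp htl
          exact (mul_eq_zero.mp this).resolve_left ht
        · exact (mul_eq_zero.mp htm).resolve_left ht
      have hmem : ∀ x, x ∈ Submodule.span K (Set.range ![a, m • h₁ - l • h₂]) ↔
          ∃ s c : K, x = s • a + c • (m • h₁ - l • h₂) := by
        intro x
        rw [Submodule.mem_span_range_iff_exists_fun]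
        constructor
        · rintro ⟨c, hc⟩
          refine ⟨c 0, c 1, ?_⟩
          rw [← hc, Fin.sum_univ_two]
          simp
        · rintro ⟨s, c, hsc⟩
          refine ⟨![s, c], ?_⟩
          rw [hsc, Fin.sum_univ_two]
          simp
      refine ⟨Submodule.span K (Set.range ![a, m • h₁ - l • h₂]), ?_, ?_, ?_, hmem⟩
      · rw [finrank_span_eq_card hli]
        simp
      · rw [hmem]
        exact ⟨1, 0, by simp⟩
      · intro x hx
        rw [hmem] at hx
        obtain ⟨s, c, rfl⟩ := hx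
        exact H.add_mem (H.smul_mem _ haH)
          (H.smul_mem _ (H.sub_mem (H.smul_mem _ hh₁) (H.smul_mem _ hh₂)))
    obtain ⟨U₁, hU₁f, hU₁a, hU₁H, hU₁m⟩ := mkU l₁ m₁ hnz1
    obtain ⟨U₂, hU₂f, hU₂a, hU₂H, hU₂m⟩ := mkU l₂ m₂ hnz2
    refine ⟨U₁, U₂, hU₁f, hU₂f, hU₁a, hU₂a, hU₁H, hU₂H, ?_⟩
    -- kernel of a nonzero linear form in two variables
    have hker : ∀ l m α β : K, ¬ (l = 0 ∧ m = 0) → l * α + m * β = 0 →
        ∃ c : K, α = c * m ∧ β = -(c * l) := by
      intro l m α β hlm h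
      by_cases hl : l = 0
      · have hm : m ≠ 0 := fun hm => hlm ⟨hl, hm⟩
        rw [hl, zero_mul, zero_add] at h
        have hβ : β = 0 := (mul_eq_zero.mp h).resolve_left hm
        refine ⟨α / m, ?_, ?_⟩
        · field_simp
        · rw [hl, hβ]; simp
      · refine ⟨-β / l, ?_, ?_⟩
        · field_simp
          linear_combination h
        · field_simp
    have hvan : ∀ l m l' m' : K, (∀ α β : K, α ^ 2 * MvPolynomial.eval h₁ P + α * β * B +
        β ^ 2 * MvPolynomial.eval h₂ P = (l * α + m * β) * (l' * α + m' * β)) →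
        ∀ s c : K, MvPolynomial.eval (s • a + c • (m • h₁ - l • h₂)) P = 0 := by
      intro l m l' m' hf s c
      have : s • a + c • (m • h₁ - l • h₂) = s • a + (c * m) • h₁ + (-(c * l)) • h₂ := by
        rw [smul_sub, smul_smul, smul_smul, neg_smul]
        abel
      rw [this, hPdecomp, hf]
      ring
    have hfac'' : ∀ α β : K, α ^ 2 * MvPolynomial.eval h₁ P + α * β * B +
        β ^ 2 * MvPolynomial.eval h₂ P = (l₂ * α + m₂ * β) * (l₁ * α + m₁ * β) := by
      intro α β
      rw [hfac', mul_comm]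
    ext x
    simp only [Set.mem_setOf_eq, Set.mem_union, SetLike.mem_coe]
    constructor
    · rintro ⟨hxH, hxP⟩
      obtain ⟨s, hs⟩ := hspan x hxH
      have h1 := hPdecomp s (cα x) (cβ x)
      rw [← hs, hxP, hfac'] at h1
      rcases mul_eq_zero.mp h1.symm with h2 | h2
      · left
        obtain ⟨c, hc1, hc2⟩ := hker _ _ _ _ hnz1 h2
        rw [hU₁m]
        refine ⟨s, c, ?_⟩
        rw [hs, hc1, hc2, smul_sub, smul_smul, smul_smul, neg_smul]
        abel
      · right
        obtain ⟨c, hc1, hc2⟩ := hker _ _ _ _ hnz2 h2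
        rw [hU₂m]
        refine ⟨s, c, ?_⟩
        rw [hs, hc1, hc2, smul_sub, smul_smul, smul_smul, neg_smul]
        abel
    · rintro (hx | hx)
      · refine ⟨hU₁H hx, ?_⟩
        rw [hU₁m] at hx
        obtain ⟨s, c, rfl⟩ := hx
        exact hvan _ _ _ _ hfac' s c
      · refine ⟨hU₂H hx, ?_⟩
        rw [hU₂m] at hx
        obtain ⟨s, c, rfl⟩ := hx
        exact hvan _ _ _ _ hfac'' s c

end Groth.Agent.Helper20.CubicPolar
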