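import Groth.Agent.Lib.Helper20.CubicTaylor
import Groth.Agent.Lib.Helper20.CubicPolar
import Groth.Agent.Lib.Helper25.BezoutA

/-!
# At most six lines through a singular point of an irreducible cubic surface which is not a cone
(S16347)
-/

open MvPolynomial

namespace Groth.Agent.Helper20.CubicSing

open Groth.Agent.Helper20.CubicTaylor Groth.Agent.Helper20.CubicPolar

universe u

variable {K : Type u} [Field K]

lemma eval_aeval_poly {σ τ : Type*} (y : τ → K) (g : σ → MvPolynomial τ K)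
    (G : MvPolynomial σ K) :
    MvPolynomial.eval y (MvPolynomial.aeval g G) =
      MvPolynomial.eval (fun j => MvPolynomial.eval y (g j)) G := by
  have hcomp : ((MvPolynomial.eval y).comp
      (MvPolynomial.aeval g : MvPolynomial σ K →ₐ[K] MvPolynomial τ K).toRingHom) =
      MvPolynomial.eval (fun j => MvPolynomial.eval y (g j)) := by
    apply MvPolynomial.ringHom_ext
    · intro r
      simp
    · intro j
      simp
  exact RingHom.congr_fun hcomp G

lemma eval_zero_ne_zero_of_isUnit {σ : Type*} {p : MvPolynomial σ K} (hp : IsUnit p) :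
    MvPolynomial.eval (0 : σ → K) p ≠ 0 := by
  obtain ⟨q, hq⟩ := hp.exists_right_inv
  intro h0
  have := congrArg (MvPolynomial.eval (0 : σ → K)) hq
  rw [map_mul, h0, zero_mul, map_one] at this
  exact zero_ne_one this

lemma eval_zero_of_isHomogeneous {σ : Type*} {p : MvPolynomial σ K} {d : ℕ}
    (hp : p.IsHomogeneous d) (hd : d ≠ 0) : MvPolynomial.eval (0 : σ → K) p = 0 := by
  rw [eval_zero, constantCoeff_eq]
  apply hp.coeff_eq_zero
  simpa using hd.symm

section Coord

variable (i₀ : Fin 4) (a : Fin 4 → K)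

/-- Insert `0` at position `i₀`. -/
def ι (z : Fin 3 → K) : Fin 4 → K := Fin.insertNth (α := fun _ => K) i₀ (0 : K) z

/-- Project along `a` onto the hyperplane `x_{i₀} = 0`, in coordinates. -/
def π (x : Fin 4 → K) : Fin 3 → K :=
  fun j => x (i₀.succAbove j) - (x i₀ / a i₀) * a (i₀.succAbove j)

lemma ι_same (z : Fin 3 → K) : ι i₀ z i₀ = 0 := by
  simp [ι]

lemma ι_succAbove (z : Fin 3 → K) (j : Fin 3) : ι i₀ z (i₀.succAbove j) = z j := by
  simp [ι]

lemma ι_zero : ι i₀ (0 : Fin 3 → K) = 0 := by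
  funext i
  rcases Fin.eq_self_or_eq_succAbove i₀ i with rfl | ⟨j, rfl⟩
  · rw [ι_same]; rfl
  · rw [ι_succAbove]; rfl

lemma ι_smul (c : K) (z : Fin 3 → K) : ι i₀ (c • z) = c • ι i₀ z := by
  funext i
  rcases Fin.eq_self_or_eq_succAbove i₀ i with rfl | ⟨j, rfl⟩
  · simp [ι_same]
  · simp [ι_succAbove]

lemma decomp (ha0 : a i₀ ≠ 0) (x : Fin 4 → K) :
    x = ι i₀ (π i₀ a x) + (x i₀ / a i₀) • a := by
  funext i
  rcases Fin.eq_self_or_eq_succAbove i₀ i with rfl | ⟨j, rfl⟩
  · simp only [Pi.add_apply, Pi.smul_apply, smul_eq_mul, ι_same]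
    rw [div_mul_cancel₀ _ ha0, zero_add]
  · simp only [Pi.add_apply, Pi.smul_apply, smul_eq_mul, ι_succAbove, π]
    ring

lemma π_add_smul (ha0 : a i₀ ≠ 0) (x : Fin 4 → K) (r : K) : π i₀ a (x + r • a) = π i₀ a x := by
  funext j
  simp only [π, Pi.add_apply, Pi.smul_apply, smul_eq_mul]
  field_simp
  ring

lemma π_zero : π i₀ a (0 : Fin 4 → K) = 0 := by
  funext j
  simp [π]

/-- The substitution `X_{i₀} ↦ 0`, other variables renumbered. -/
noncomputable def ιX : Fin 4 → MvPolynomial (Fin 3) K :=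
  Fin.insertNth (α := fun _ => MvPolynomial (Fin 3) K) i₀ 0 X

lemma ιX_same : ιX (K := K) i₀ i₀ = 0 := by
  simp [ιX]

lemma ιX_succAbove (j : Fin 3) : ιX (K := K) i₀ (i₀.succAbove j) = X j := by
  simp [ιX]

/-- Restriction to the hyperplane `x_{i₀} = 0`. -/
noncomputable def Ψ : MvPolynomial (Fin 4) K →ₐ[K] MvPolynomial (Fin 3) K := aeval (ιX i₀)

/-- Pullback along the projection `π`. -/
noncomputable def Φ : MvPolynomial (Fin 3) K →ₐ[K] MvPolynomial (Fin 4) K :=
  aeval (fun j => X (i₀.succAbove j) - C (a (i₀.succAbove j) / a i₀) * X i₀)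

lemma eval_Ψ (z : Fin 3 → K) (Q : MvPolynomial (Fin 4) K) :
    MvPolynomial.eval z (Ψ i₀ Q) = MvPolynomial.eval (ι i₀ z) Q := by
  rw [Ψ, eval_aeval_poly]
  have : (fun j => MvPolynomial.eval z (ιX (K := K) i₀ j)) = ι i₀ z := by
    funext i
    rcases Fin.eq_self_or_eq_succAbove i₀ i with rfl | ⟨j, rfl⟩
    · rw [ιX_same, ι_same, map_zero]
    · rw [ιX_succAbove, ι_succAbove, eval_X]
  rw [this]

lemma eval_Φ (x : Fin 4 → K) (q : MvPolynomial (Fin 3) K) :
    MvPolynomial.eval x (Φ i₀ a q) = MvPolynomial.eval (π i₀ a x) q := by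
  rw [Φ, eval_aeval_poly]
  have : (fun j => MvPolynomial.eval x
      (X (i₀.succAbove j) - C (a (i₀.succAbove j) / a i₀) * X i₀)) = π i₀ a x := by
    funext j
    simp only [π, map_sub, map_mul, eval_X, eval_C]
    ring
  rw [this]

lemma Ψ_Φ (q : MvPolynomial (Fin 3) K) : Ψ i₀ (Φ i₀ a q) = q := by
  have h : (Ψ (K := K) i₀).comp (Φ i₀ a) = AlgHom.id K _ := by
    apply MvPolynomial.algHom_ext
    intro j
    simp only [AlgHom.comp_apply, Φ, Ψ, aeval_X, map_sub, map_mul, aeval_C, ιX_same,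
      ιX_succAbove, mul_zero, sub_zero, AlgHom.id_apply]
  exact AlgHom.congr_fun h q

lemma Ψ_isHomogeneous {Q : MvPolynomial (Fin 4) K} {d : ℕ} (hQ : Q.IsHomogeneous d) :
    (Ψ i₀ Q).IsHomogeneous d := by
  have := hQ.aeval (ιX (K := K) i₀) (n := 1) (fun i => by
    rcases Fin.eq_self_or_eq_succAbove i₀ i with rfl | ⟨j, rfl⟩
    · rw [ιX_same]; exact isHomogeneous_zero _ _ _
    · rw [ιX_succAbove]; exact isHomogeneous_X _ _)
  rwa [one_mul] at this

end Coord

lemma ι_eq_zero (i₀ : Fin 4) {z : Fin 3 → K} (h : ι i₀ z = 0) : z = 0 := by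
  funext j
  have := congrFun h (i₀.succAbove j)
  rwa [ι_succAbove] at this

lemma line_unique {V : Type*} [AddCommGroup V] [Module K V] [FiniteDimensional K V]
    (U U' : Submodule K V) (hU : Module.finrank K U = 2) (hU' : Module.finrank K U' = 2)
    (a w : V) (hli : LinearIndependent K ![a, w]) (haU : a ∈ U) (hwU : w ∈ U)
    (haU' : a ∈ U') (hwU' : w ∈ U') : U = U' := by
  have hW : Module.finrank K (Submodule.span K (Set.range ![a, w])) = 2 := by
    rw [finrank_span_eq_card hli]
    simp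
  have h1 : Submodule.span K (Set.range ![a, w]) ≤ U := by
    rw [Submodule.span_le]
    rintro _ ⟨i, rfl⟩
    fin_cases i
    · exact haU
    · exact hwU
  have h2 : Submodule.span K (Set.range ![a, w]) ≤ U' := by
    rw [Submodule.span_le]
    rintro _ ⟨i, rfl⟩
    fin_cases i
    · exact haU'
    · exact hwU'
  exact (Submodule.eq_of_le_of_finrank_eq h1 (by rw [hW, hU])).symm.trans
    (Submodule.eq_of_le_of_finrank_eq h2 (by rw [hW, hU']))

lemma exists_sep {ι' : Type*} [Fintype ι'] [DecidableEq ι'] {n : ℕ} (y : ι' → (Fin n → K))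
    (hy : ∀ k l, k ≠ l → y k ∉ Submodule.span K {y l}) :
    ∃ h : ι' → MvPolynomial (Fin n) K, (∀ k, (h k).IsHomogeneous (Fintype.card ι' - 1)) ∧
      (∀ k l, k ≠ l → MvPolynomial.eval (y l) (h k) = 0) ∧
      ∀ k, MvPolynomial.eval (y k) (h k) ≠ 0 := by
  have hφ : ∀ k l, k ≠ l → ∃ φ : Module.Dual K (Fin n → K), φ (y k) ≠ 0 ∧ φ (y l) = 0 := by
    intro k l hkl
    obtain ⟨φ, hφ1, hφ2⟩ := Submodule.exists_dual_map_eq_bot_of_notMem (hy k l hkl) inferInstance
    refine ⟨φ, hφ1, ?_⟩
    have : φ (y l) ∈ (Submodule.span K {y l}).map φ :=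
      Submodule.mem_map_of_mem (Submodule.mem_span_singleton_self _)
    rw [hφ2] at this
    exact (Submodule.mem_bot K).mp this
  choose! φ hφ1 hφ2 using hφ
  refine ⟨fun k => ∏ l ∈ Finset.univ.erase k, linPoly (φ k l), ?_, ?_, ?_⟩
  · intro k
    have := IsHomogeneous.prod (Finset.univ.erase k) (fun l => linPoly (φ k l)) (fun _ => 1)
      (fun l _ => linPoly_isHomogeneous _)
    simpa [Finset.card_erase_of_mem] using this
  · intro k l hkl
    rw [map_prod]
    apply Finset.prod_eq_zero (i := l) (Finset.mem_erase.mpr ⟨hkl.symm, Finset.mem_univ _⟩)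
    rw [eval_linPoly]
    exact hφ2 k l hkl
  · intro k
    rw [map_prod, Finset.prod_ne_zero_iff]
    intro l hl
    rw [eval_linPoly]
    exact hφ1 k l (Finset.ne_of_mem_erase hl).symm

lemma card_le_of_sep {ι' : Type*} [Fintype ι'] [DecidableEq ι'] (f g : MvPolynomial (Fin 3) K)
    (d N : ℕ)
    (hN : Module.finrank K (↥(homogeneousSubmodule (Fin 3) K d) ⧸
      Submodule.comap (homogeneousSubmodule (Fin 3) K d).subtype
        ((Ideal.span ({f, g} : Set (MvPolynomial (Fin 3) K))).restrictScalars K)) = N)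
    (hNpos : 0 < N)
    (y : ι' → (Fin 3 → K)) (hfy : ∀ k, MvPolynomial.eval (y k) f = 0)
    (hgy : ∀ k, MvPolynomial.eval (y k) g = 0)
    (h : ι' → MvPolynomial (Fin 3) K) (hh : ∀ k, (h k).IsHomogeneous d)
    (h0 : ∀ k l, k ≠ l → MvPolynomial.eval (y l) (h k) = 0)
    (h1 : ∀ k, MvPolynomial.eval (y k) (h k) ≠ 0) :
    Fintype.card ι' ≤ N := by
  set S := homogeneousSubmodule (Fin 3) K d with hS
  set J := Submodule.comap S.subtype
    ((Ideal.span ({f, g} : Set (MvPolynomial (Fin 3) K))).restrictScalars K) with hJ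
  let E : S →ₗ[K] (ι' → K) :=
    { toFun := fun p k => MvPolynomial.eval (y k) p.1
      map_add' := by
        intro p q
        funext k
        simp
      map_smul' := by
        intro c p
        funext k
        simp [MvPolynomial.smul_eval] }
  have hEapp : ∀ (p : S) (k : ι'), E p k = MvPolynomial.eval (y k) p.1 := fun _ _ => rfl
  have hEJ : J ≤ LinearMap.ker E := by
    intro p hp
    rw [LinearMap.mem_ker]
    funext k
    have hp' : p.1 ∈ Ideal.span ({f, g} : Set (MvPolynomial (Fin 3) K)) := hp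
    obtain ⟨c, e, hce⟩ := Ideal.mem_span_pair.mp hp'
    rw [hEapp, ← hce, map_add, map_mul, map_mul, hfy, hgy, mul_zero, mul_zero, add_zero]
    rfl
  have hsurj : Function.Surjective (J.liftQ E hEJ) := by
    intro v
    refine ⟨Submodule.Quotient.mk (∑ k, (v k / MvPolynomial.eval (y k) (h k)) •
      (⟨h k, (mem_homogeneousSubmodule _ _).mpr (hh k)⟩ : S)), ?_⟩
    rw [Submodule.liftQ_apply]
    funext l
    rw [map_sum, Finset.sum_apply, Finset.sum_eq_single l]
    · rw [map_smul, Pi.smul_apply, hEapp, smul_eq_mul]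
      exact div_mul_cancel₀ _ (h1 l)
    · intro k _ hkl
      rw [map_smul, Pi.smul_apply, hEapp, smul_eq_mul]
      show _ * MvPolynomial.eval (y l) (h k) = 0
      rw [h0 k l hkl, mul_zero]
    · intro hl
      exact absurd (Finset.mem_univ l) hl
  haveI : Module.Finite K (S ⧸ J) := Module.finite_of_finrank_pos (by rw [hN]; exact hNpos)
  have := LinearMap.finrank_le_finrank_of_surjective hsurj
  rw [Module.finrank_fintype_fun_eq_card, hN] at this
  exact this

variable [IsAlgClosed K] [CharZero K]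

theorem main (F : MvPolynomial (Fin 4) K) (hF : F.IsHomogeneous 3) (hirr : Irreducible F)
    (hcone : ¬ ∃ v : Fin 4 → K, v ≠ 0 ∧ ∑ i : Fin 4, v i • MvPolynomial.pderiv i F = 0)
    (a : Fin 4 → K) (ha : a ≠ 0) (hFa : MvPolynomial.eval a F = 0)
    (hsing : ∀ i : Fin 4, MvPolynomial.eval a (MvPolynomial.pderiv i F) = 0) :
    {U : Submodule K (Fin 4 → K) | a ∈ U ∧ Module.finrank K ↥U = 2 ∧
      ∀ u ∈ U, MvPolynomial.eval u F = 0}.encard ≤ 6 := by
  classical
  haveI : Infinite K := Infinite.of_injective (Nat.cast : ℕ → K) Nat.cast_injective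
  obtain ⟨i₀, hi₀⟩ : ∃ i, a i ≠ 0 := by
    by_contra h
    push Not at h
    exact ha (funext h)
  set P : MvPolynomial (Fin 4) K := ∑ i : Fin 4, a i • MvPolynomial.pderiv i F with hP
  have hPx : ∀ x : Fin 4 → K, MvPolynomial.eval x P =
      ∑ i, a i * MvPolynomial.eval x (MvPolynomial.pderiv i F) := by
    intro x
    rw [hP]
    simp [MvPolynomial.smul_eval]
  have hP0 : P ≠ 0 := fun h => hcone ⟨a, ha, h⟩
  have hPhom : P.IsHomogeneous 2 := by
    apply IsHomogeneous.sum
    intro i _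
    rw [MvPolynomial.smul_eq_C_mul]
    have := (isHomogeneous_C (Fin 4) (a i)).mul (hF.pderiv (i := i))
    simpa using this
  have hE : ∀ (y : Fin 4 → K) (r : K),
      MvPolynomial.eval (y + r • a) F = r * MvPolynomial.eval y P + MvPolynomial.eval y F := by
    intro y r
    have h := cubic_expand F hF a y r 1
    have e : r • a + (1 : K) • y = y + r • a := by rw [one_smul, add_comm]
    rw [e] at h
    rw [h, hFa, hPx]
    simp only [hsing, mul_zero, Finset.sum_const_zero, one_pow, mul_one, zero_add, one_mul]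
  set f := Ψ i₀ P with hf
  set g := Ψ i₀ F with hg
  have hfhom : f.IsHomogeneous 2 := Ψ_isHomogeneous i₀ hPhom
  have hghom : g.IsHomogeneous 3 := Ψ_isHomogeneous i₀ hF
  have hid : F = C (a i₀)⁻¹ * X i₀ * Φ i₀ a f + Φ i₀ a g := by
    apply MvPolynomial.funext
    intro x
    rw [map_add, map_mul, map_mul, eval_C, eval_X, eval_Φ, eval_Φ, hf, hg, eval_Ψ, eval_Ψ]
    conv_lhs => rw [decomp i₀ a hi₀ x]
    rw [hE]
    ring
  have hg0 : g ≠ 0 := by
    intro h0
    rw [h0, map_zero, add_zero] at hid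
    rcases hirr.isUnit_or_isUnit hid with hu | hu
    · apply eval_zero_ne_zero_of_isUnit hu
      simp
    · apply eval_zero_ne_zero_of_isUnit hu
      rw [eval_Φ, π_zero]
      exact eval_zero_of_isHomogeneous hfhom (by norm_num)
  have hrel : IsRelPrime f g := by
    intro d hdf hdg
    obtain ⟨f', hf'⟩ := hdf
    obtain ⟨g', hg'⟩ := hdg
    have hid2 : F = Φ i₀ a d * (C (a i₀)⁻¹ * X i₀ * Φ i₀ a f' + Φ i₀ a g') := by
      conv_lhs => rw [hid, hf', hg', map_mul, map_mul]
      ring
    rcases hirr.isUnit_or_isUnit hid2 with hu | hu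
    · have := hu.map (Ψ i₀)
      rwa [Ψ_Φ] at this
    · exfalso
      obtain ⟨r, hr, hR⟩ := (MvPolynomial.isUnit_iff_eq_C_of_isReduced).mp hu
      rw [hR] at hid2
      have hinv : ∀ (x : Fin 4 → K) (t : K),
          MvPolynomial.eval (x + t • a) F = MvPolynomial.eval x F := by
        intro x t
        rw [hid2, map_mul, map_mul, eval_Φ, eval_Φ, π_add_smul i₀ a hi₀, eval_C, eval_C]
      apply hP0
      apply MvPolynomial.funext
      intro x
      have h1 := hE x 1
      rw [hinv x 1] at h1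
      rw [map_zero]
      linear_combination -h1
  have hbez := Groth.Agent.Helper25.BezoutA.main 2 3 1 f g hfhom hghom hg0 hrel
  have hbez' : Module.finrank K (↥(homogeneousSubmodule (Fin 3) K 6) ⧸
      Submodule.comap (homogeneousSubmodule (Fin 3) K 6).subtype
        ((Ideal.span ({f, g} : Set (MvPolynomial (Fin 3) K))).restrictScalars K)) = 6 := hbez
  by_contra hcon
  rw [not_le] at hcon
  have h7 : ((7 : ℕ) : ℕ∞) ≤ Set.encard {U : Submodule K (Fin 4 → K) | a ∈ U ∧
      Module.finrank K ↥U = 2 ∧ ∀ u ∈ U, MvPolynomial.eval u F = 0} := by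
    have := Order.add_one_le_of_lt hcon
    norm_num at this ⊢
    exact this
  obtain ⟨t, hts, ht⟩ := Set.exists_subset_encard_eq h7
  have htfin : t.Finite := Set.finite_of_encard_eq_coe ht
  obtain ⟨T, rfl⟩ : ∃ T : Finset (Submodule K (Fin 4 → K)), ↑T = t :=
    ⟨htfin.toFinset, htfin.coe_toFinset⟩
  have hTcard : T.card = 7 := by
    rw [Set.encard_coe_eq_coe_finsetCard] at ht
    exact_mod_cast ht
  have hpt : ∀ U : ↥T, ∃ y : Fin 3 → K, y ≠ 0 ∧ MvPolynomial.eval y f = 0 ∧
      MvPolynomial.eval y g = 0 ∧ ι i₀ y ∈ U.1 := by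
    intro U
    obtain ⟨haU, hU2, hUF⟩ := hts (Finset.mem_coe.mpr U.2)
    have hex : ∃ u ∈ U.1, u ∉ Submodule.span K {a} := by
      by_contra hcon
      push Not at hcon
      have hle : U.1 ≤ Submodule.span K {a} := hcon
      have := Submodule.finrank_mono hle
      rw [hU2, finrank_span_singleton ha] at this
      omega
    obtain ⟨u, huU, hua⟩ := hex
    have hdec := decomp i₀ a hi₀ u
    have hιU : ι i₀ (π i₀ a u) ∈ U.1 := by
      have : ι i₀ (π i₀ a u) = u - (u i₀ / a i₀) • a := by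
        rw [eq_sub_iff_add_eq]
        exact hdec.symm
      rw [this]
      exact U.1.sub_mem huU (U.1.smul_mem _ haU)
    refine ⟨π i₀ a u, ?_, ?_, ?_, hιU⟩
    · intro h0
      apply hua
      rw [h0, ι_zero, zero_add] at hdec
      rw [hdec]
      exact Submodule.smul_mem _ _ (Submodule.mem_span_singleton_self a)
    · rw [hf, eval_Ψ, hPx]
      have := dirDeriv_eq_zero_of_line (ι i₀ (π i₀ a u)) a F
        (fun r => hUF _ (U.1.add_mem hιU (U.1.smul_mem r haU))) 0
      simpa using this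
    · rw [hg, eval_Ψ]
      exact hUF _ hιU
  choose y hy0 hyf hyg hyU using hpt
  have hsep : ∀ k l : ↥T, k ≠ l → y k ∉ Submodule.span K {y l} := by
    intro k l hkl hmem
    obtain ⟨c, hc⟩ := Submodule.mem_span_singleton.mp hmem
    apply hkl
    apply Subtype.ext
    have hk := hts (Finset.mem_coe.mpr k.2)
    have hl := hts (Finset.mem_coe.mpr l.2)
    refine line_unique k.1 l.1 hk.2.1 hl.2.1 a (ι i₀ (y k)) ?_ hk.1 (hyU k) hl.1 ?_
    · rw [LinearIndependent.pair_iff]
      intro s t hst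
      have h1 := congrFun hst i₀
      simp only [Pi.add_apply, Pi.smul_apply, smul_eq_mul, ι_same, mul_zero, add_zero,
        Pi.zero_apply] at h1
      have hs : s = 0 := by
        rcases mul_eq_zero.mp h1 with h | h
        · exact h
        · exact absurd h hi₀
      refine ⟨hs, ?_⟩
      rw [hs, zero_smul, zero_add, ← ι_smul] at hst
      have := ι_eq_zero i₀ hst
      rcases smul_eq_zero.mp this with h | h
      · exact h
      · exact absurd h (hy0 k)
    · rw [← hc, ι_smul]
      exact l.1.smul_mem c (hyU l)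
  obtain ⟨h, hh, hh0, hh1⟩ := exists_sep y hsep
  have hcard : Fintype.card ↥T = 7 := by rw [Fintype.card_coe, hTcard]
  rw [hcard] at hh
  have := card_le_of_sep f g 6 6 hbez' (by norm_num) y hyf hyg h hh hh0 hh1
  rw [hcard] at this
  omega

end Groth.Agent.Helper20.CubicSing
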