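import Mathlib

/-!
# Restriction of polynomials to lines and planes through the origin

* `lineP x v F`: the univariate polynomial `r ↦ F (x + r v)`; `derivative_lineP` (chain rule).
* `dirDeriv_eq_zero_of_line`: a polynomial vanishing on an affine line has zero directional
  derivative along it.
* `binary_form`: the restriction of a homogeneous polynomial of degree `d` to the span of two vectors
  is a binary form of degree `d`.
* `cubic_expand`: `F (s a + t x) = s³ F(a) + s² t D_x F(a) + s t² D_a F(x) + t³ F(x)` for a cubic form.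
* `mem_span_of_vanish`: a polynomial vanishing on a hyperplane is divisible by its linear form.
* `quad_factor`, `cubic_factor`: binary quadratic / cubic forms over an algebraically closed field
  are products of linear forms.
-/

open MvPolynomial

namespace Groth.Agent.Helper20.CubicTaylor

variable {K : Type*} [Field K] {σ : Type*}

/-- The restriction of `F` to the line `r ↦ x + r v`. -/
noncomputable def lineP (x v : σ → K) (F : MvPolynomial σ K) : Polynomial K :=
  MvPolynomial.aeval (fun i => Polynomial.C (x i) + Polynomial.C (v i) * Polynomial.X) F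

lemma lineP_add (x v : σ → K) (F G : MvPolynomial σ K) :
    lineP x v (F + G) = lineP x v F + lineP x v G := by
  simp [lineP]

lemma lineP_mul (x v : σ → K) (F G : MvPolynomial σ K) :
    lineP x v (F * G) = lineP x v F * lineP x v G := by
  simp [lineP]

lemma lineP_X (x v : σ → K) (j : σ) :
    lineP x v (X j) = Polynomial.C (x j) + Polynomial.C (v j) * Polynomial.X := by
  simp [lineP]

lemma lineP_C (x v : σ → K) (c : K) : lineP x v (C c) = Polynomial.C c := by
  simp [lineP]

lemma lineP_zero (x v : σ → K) : lineP x v (0 : MvPolynomial σ K) = 0 := by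
  simp [lineP]

lemma lineP_one (x v : σ → K) : lineP x v (1 : MvPolynomial σ K) = 1 := by
  simp [lineP]

lemma eval_lineP (x v : σ → K) (F : MvPolynomial σ K) (r : K) :
    (lineP x v F).eval r = MvPolynomial.eval (x + r • v) F := by
  induction F using MvPolynomial.induction_on with
  | C c => rw [lineP_C, Polynomial.eval_C, eval_C]
  | add p q hp hq => rw [lineP_add, Polynomial.eval_add, hp, hq, map_add]
  | mul_X p j hp =>
    rw [lineP_mul, lineP_X, Polynomial.eval_mul, hp, map_mul, eval_X, Polynomial.eval_add,
      Polynomial.eval_C, Polynomial.eval_mul, Polynomial.eval_C, Polynomial.eval_X, Pi.add_apply,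
      Pi.smul_apply, smul_eq_mul, mul_comm (v j) r]

/-- Chain rule along a line. -/
lemma derivative_lineP [Fintype σ] [DecidableEq σ] (x v : σ → K) (F : MvPolynomial σ K) :
    Polynomial.derivative (lineP x v F) =
      ∑ i, Polynomial.C (v i) * lineP x v (MvPolynomial.pderiv i F) := by
  induction F using MvPolynomial.induction_on with
  | C c => simp [lineP_C, lineP_zero]
  | add p q hp hq =>
    simp only [lineP_add, map_add, hp, hq, mul_add, Finset.sum_add_distrib]
  | mul_X p j hp =>
    rw [lineP_mul, lineP_X, Polynomial.derivative_mul, hp]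
    have h1 : Polynomial.derivative (Polynomial.C (x j) + Polynomial.C (v j) * Polynomial.X) =
        Polynomial.C (v j) := by
      simp
    rw [h1]
    have h2 : ∀ i, lineP x v (pderiv i (p * X j)) =
        lineP x v (pderiv i p) * (Polynomial.C (x j) + Polynomial.C (v j) * Polynomial.X) +
          lineP x v p * (if i = j then 1 else 0) := by
      intro i
      rw [Derivation.leibniz, smul_eq_mul, smul_eq_mul, lineP_add, lineP_mul, lineP_mul, lineP_X,
        pderiv_X]
      by_cases hij : i = j
      · subst hij
        simp [lineP_one]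
        ring
      · have : ((Pi.single i (1 : MvPolynomial σ K) : σ → MvPolynomial σ K) j) = 0 := by
          rw [Pi.single_apply, if_neg (Ne.symm hij)]
        simp [hij, lineP_zero]
        ring
    have h3 : ∀ i, Polynomial.C (v i) * lineP x v (pderiv i (p * X j)) =
        (Polynomial.C (v i) * lineP x v (pderiv i p)) *
            (Polynomial.C (x j) + Polynomial.C (v j) * Polynomial.X) +
          lineP x v p * (Polynomial.C (v i) * (if i = j then 1 else 0)) := by
      intro i
      rw [h2 i]
      ring
    simp only [h3, Finset.sum_add_distrib, ← Finset.sum_mul, ← Finset.mul_sum]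
    congr 1
    simp [mul_ite]

lemma eval_derivative_lineP [Fintype σ] [DecidableEq σ] (x v : σ → K) (F : MvPolynomial σ K)
    (r : K) :
    (Polynomial.derivative (lineP x v F)).eval r =
      ∑ i, v i * MvPolynomial.eval (x + r • v) (MvPolynomial.pderiv i F) := by
  rw [derivative_lineP, Polynomial.eval_finsetSum]
  refine Finset.sum_congr rfl fun i _ => ?_
  rw [Polynomial.eval_mul, Polynomial.eval_C, eval_lineP]

/-- A polynomial vanishing on an affine line has zero directional derivative along it. -/
lemma dirDeriv_eq_zero_of_line [Infinite K] [Fintype σ] [DecidableEq σ] (x v : σ → K)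
    (F : MvPolynomial σ K) (h : ∀ r : K, MvPolynomial.eval (x + r • v) F = 0) (r : K) :
    ∑ i, v i * MvPolynomial.eval (x + r • v) (MvPolynomial.pderiv i F) = 0 := by
  have h0 : lineP x v F = 0 := by
    apply Polynomial.funext
    intro r
    rw [eval_lineP, h r, Polynomial.eval_zero]
  rw [← eval_derivative_lineP, h0]
  simp

/-- The restriction of a homogeneous polynomial of degree `d` to the span of `u, w` is a binary form
of degree `d`. -/
lemma binary_form {n d : ℕ} (P : MvPolynomial (Fin n) K) (hP : P.IsHomogeneous d)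
    (u w : Fin n → K) :
    ∃ c : ℕ → K, ∀ α β : K, MvPolynomial.eval (α • u + β • w) P =
      ∑ k ∈ Finset.range (d + 1), c k * α ^ k * β ^ (d - k) := by
  classical
  set g : Fin n → MvPolynomial (Fin 2) K := fun i => C (u i) * X 0 + C (w i) * X 1 with hg
  set B : MvPolynomial (Fin 2) K := MvPolynomial.aeval g P with hB
  have hBhom : B.IsHomogeneous d := by
    have := hP.aeval g (n := 1) (fun i => by
      apply IsHomogeneous.add
      · exact isHomogeneous_C_mul_X _ _
      · exact isHomogeneous_C_mul_X _ _)
    rwa [one_mul] at this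
  have hev : ∀ α β : K, MvPolynomial.eval (α • u + β • w) P = MvPolynomial.eval ![α, β] B := by
    intro α β
    have h : ((MvPolynomial.eval ![α, β]).comp
        (MvPolynomial.aeval g : MvPolynomial (Fin n) K →ₐ[K] MvPolynomial (Fin 2) K).toRingHom) =
        MvPolynomial.eval (α • u + β • w) := by
      apply MvPolynomial.ringHom_ext
      · intro c
        simp
      · intro i
        simp [hg, mul_comm]
    exact (RingHom.congr_fun h P).symm
  set μ : ℕ → (Fin 2 →₀ ℕ) := fun k => Finsupp.single 0 k + Finsupp.single 1 (d - k) with hμ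
  have hμ0 : ∀ k, μ k 0 = k := by
    intro k
    simp [hμ]
  have hμ1 : ∀ k, μ k 1 = d - k := by
    intro k
    simp [hμ]
  refine ⟨fun k => coeff (μ k) B, fun α β => ?_⟩
  rw [hev, MvPolynomial.eval_eq']
  have hinj : Set.InjOn μ (Finset.range (d + 1) : Set ℕ) := by
    intro k _ k' _ hkk
    have := congrArg (fun m => m 0) hkk
    simpa [hμ0] using this
  have hsub : B.support ⊆ (Finset.range (d + 1)).image μ := by
    intro m hm
    have hdeg : m.degree = d := by
      by_contra hne
      exact (MvPolynomial.mem_support_iff.mp hm) (hBhom.coeff_eq_zero hne)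
    have hsum : m 0 + m 1 = d := by
      rw [← hdeg, Finsupp.degree_eq_sum, Fin.sum_univ_two]
    rw [Finset.mem_image]
    refine ⟨m 0, Finset.mem_range.mpr (by omega), ?_⟩
    ext i
    fin_cases i
    · simp [hμ0]
    · show μ (m 0) 1 = m 1
      rw [hμ1]
      omega
  rw [Finset.sum_subset hsub]
  · rw [Finset.sum_image hinj]
    refine Finset.sum_congr rfl fun k _ => ?_
    rw [Fin.prod_univ_two, hμ0, hμ1]
    simp
    ring
  · intro m _ hm
    rw [MvPolynomial.notMem_support_iff.mp hm, zero_mul]

/-- Expansion of a cubic form on the span of two vectors. -/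
lemma cubic_expand [Infinite K] {n : ℕ} (F : MvPolynomial (Fin n) K) (hF : F.IsHomogeneous 3)
    (a x : Fin n → K) (s t : K) :
    MvPolynomial.eval (s • a + t • x) F =
      s ^ 3 * MvPolynomial.eval a F +
        s ^ 2 * t * (∑ i, x i * MvPolynomial.eval a (MvPolynomial.pderiv i F)) +
        s * t ^ 2 * (∑ i, a i * MvPolynomial.eval x (MvPolynomial.pderiv i F)) +
        t ^ 3 * MvPolynomial.eval x F := by
  obtain ⟨c, hc⟩ := binary_form F hF a x
  have hc' : ∀ α β : K, MvPolynomial.eval (α • a + β • x) F =
      c 0 * β ^ 3 + c 1 * α * β ^ 2 + c 2 * α ^ 2 * β + c 3 * α ^ 3 := by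
    intro α β
    rw [hc α β]
    simp [Finset.sum_range_succ]
  have h3 : c 3 = MvPolynomial.eval a F := by
    have := hc' 1 0
    simp at this
    exact this.symm
  have h0 : c 0 = MvPolynomial.eval x F := by
    have := hc' 0 1
    simp at this
    exact this.symm
  have h1 : c 1 = ∑ i, a i * MvPolynomial.eval x (MvPolynomial.pderiv i F) := by
    have hG : lineP x a F = Polynomial.C (c 0) + Polynomial.C (c 1) * Polynomial.X +
        Polynomial.C (c 2) * Polynomial.X ^ 2 + Polynomial.C (c 3) * Polynomial.X ^ 3 := by
      apply Polynomial.funext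
      intro r
      rw [eval_lineP]
      have := hc' r 1
      rw [one_smul, add_comm] at this
      rw [this]
      simp
    have := eval_derivative_lineP x a F 0
    rw [hG] at this
    simp at this
    exact this
  have h2 : c 2 = ∑ i, x i * MvPolynomial.eval a (MvPolynomial.pderiv i F) := by
    have hG : lineP a x F = Polynomial.C (c 3) + Polynomial.C (c 2) * Polynomial.X +
        Polynomial.C (c 1) * Polynomial.X ^ 2 + Polynomial.C (c 0) * Polynomial.X ^ 3 := by
      apply Polynomial.funext
      intro r
      rw [eval_lineP]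
      have := hc' 1 r
      rw [one_smul] at this
      rw [this]
      simp
      ring
    have := eval_derivative_lineP a x F 0
    rw [hG] at this
    simp at this
    exact this
  rw [hc', h0, h1, h2, h3]
  ring

/-- Expansion of a quadratic form on the span of two vectors. -/
lemma quad_expand {n : ℕ} (P : MvPolynomial (Fin n) K) (hP : P.IsHomogeneous 2)
    (u w : Fin n → K) :
    ∃ B : K, ∀ α β : K, MvPolynomial.eval (α • u + β • w) P =
      α ^ 2 * MvPolynomial.eval u P + α * β * B + β ^ 2 * MvPolynomial.eval w P := by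
  obtain ⟨c, hc⟩ := binary_form P hP u w
  have hc' : ∀ α β : K, MvPolynomial.eval (α • u + β • w) P =
      c 0 * β ^ 2 + c 1 * α * β + c 2 * α ^ 2 := by
    intro α β
    rw [hc α β]
    simp [Finset.sum_range_succ]
  have h2 : c 2 = MvPolynomial.eval u P := by
    have := hc' 1 0
    simp at this
    exact this.symm
  have h0 : c 0 = MvPolynomial.eval w P := by
    have := hc' 0 1
    simp at this
    exact this.symm
  refine ⟨c 1, fun α β => ?_⟩
  rw [hc', h0, h2]
  ring

/-- A polynomial vanishing on the hyperplane `∑ c_i x_i = 0` is a multiple of the linear form. -/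
lemma mem_span_of_vanish [Infinite K] {n : ℕ} (c : Fin n → K) (i₀ : Fin n) (hc : c i₀ ≠ 0)
    (G : MvPolynomial (Fin n) K)
    (h : ∀ x : Fin n → K, (∑ i, c i * x i = 0) → MvPolynomial.eval x G = 0) :
    G ∈ Ideal.span {∑ i, C (c i) * X i} := by
  classical
  set ℓ : MvPolynomial (Fin n) K := ∑ i, C (c i) * X i with hℓ
  set τ : Fin n → MvPolynomial (Fin n) K :=
    fun j => if j = i₀ then X i₀ - C (c i₀)⁻¹ * ℓ else X j with hτ
  set σ' : MvPolynomial (Fin n) K →ₐ[K] MvPolynomial (Fin n) K := MvPolynomial.aeval τ with hσ
  -- G - σ' G ∈ (ℓ)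
  have h1 : G - σ' G ∈ Ideal.span {ℓ} := by
    have hcomp : (Ideal.Quotient.mkₐ K (Ideal.span {ℓ})).comp σ' =
        Ideal.Quotient.mkₐ K (Ideal.span {ℓ}) := by
      apply MvPolynomial.algHom_ext
      intro j
      simp only [AlgHom.comp_apply, hσ, aeval_X, Ideal.Quotient.mkₐ_eq_mk]
      rw [Ideal.Quotient.eq, hτ]
      by_cases hj : j = i₀
      · subst hj
        simp only [if_true]
        have : X j - C (c j)⁻¹ * ℓ - X j = -(C (c j)⁻¹) * ℓ := by ring
        rw [this]
        exact Ideal.mul_mem_left _ _ (Ideal.subset_span rfl)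
      · simp [hj]
    have := AlgHom.congr_fun hcomp G
    simp only [AlgHom.comp_apply, Ideal.Quotient.mkₐ_eq_mk] at this
    rw [← Ideal.Quotient.eq]
    exact this.symm
  -- σ' G vanishes everywhere
  have h2 : σ' G = 0 := by
    apply MvPolynomial.funext
    intro y
    rw [map_zero]
    have hcomp : ((MvPolynomial.eval y).comp σ'.toRingHom) =
        MvPolynomial.eval (fun j => MvPolynomial.eval y (τ j)) := by
      apply MvPolynomial.ringHom_ext
      · intro r
        simp [hσ]
      · intro j
        simp [hσ]
    have h3 : MvPolynomial.eval y (σ' G) =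
        MvPolynomial.eval (fun j => MvPolynomial.eval y (τ j)) G := RingHom.congr_fun hcomp G
    rw [h3]
    apply h
    have hℓy : MvPolynomial.eval y ℓ = ∑ i, c i * y i := by
      simp [hℓ]
    have hτy : ∀ j, MvPolynomial.eval y (τ j) =
        y j - (if j = i₀ then (c i₀)⁻¹ * ∑ i, c i * y i else 0) := by
      intro j
      by_cases hj : j = i₀
      · subst hj
        simp [hτ, hℓy]
      · simp [hτ, hj]
    simp only [hτy, mul_sub, Finset.sum_sub_distrib]
    rw [sub_eq_zero]
    simp only [mul_ite, mul_zero, Finset.sum_ite_eq', Finset.mem_univ, if_true]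
    rw [← mul_assoc, mul_inv_cancel₀ hc, one_mul]
  rw [h2, sub_zero] at h1
  exact h1

section AlgClosed

variable [IsAlgClosed K]

/-- A binary quadratic form over an algebraically closed field is a product of two linear forms. -/
lemma quad_factor (A B C' : K) :
    ∃ l₁ m₁ l₂ m₂ : K, ∀ α β : K,
      A * α ^ 2 + B * α * β + C' * β ^ 2 = (l₁ * α + m₁ * β) * (l₂ * α + m₂ * β) := by
  by_cases hA : A = 0
  · refine ⟨0, 1, B, C', fun α β => ?_⟩
    rw [hA]
    ring
  · have hdeg : (Polynomial.C A * Polynomial.X ^ 2 + Polynomial.C B * Polynomial.X +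
        Polynomial.C C').degree ≠ 0 := by
      rw [Polynomial.degree_quadratic hA]
      decide
    obtain ⟨ρ, hρ⟩ := IsAlgClosed.exists_root _ hdeg
    simp only [Polynomial.IsRoot.def, Polynomial.eval_add, Polynomial.eval_mul, Polynomial.eval_C,
      Polynomial.eval_pow, Polynomial.eval_X] at hρ
    refine ⟨1, -ρ, A, B + A * ρ, fun α β => ?_⟩
    have : C' = -(A * ρ ^ 2 + B * ρ) := by linear_combination hρ
    rw [this]
    ring

/-- A binary cubic form over an algebraically closed field is a product of three linear forms. -/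
lemma cubic_factor (c₀ c₁ c₂ c₃ : K) :
    ∃ l₁ m₁ l₂ m₂ l₃ m₃ : K, ∀ α β : K,
      c₀ * β ^ 3 + c₁ * α * β ^ 2 + c₂ * α ^ 2 * β + c₃ * α ^ 3 =
        (l₁ * α + m₁ * β) * (l₂ * α + m₂ * β) * (l₃ * α + m₃ * β) := by
  by_cases h3 : c₃ = 0
  · obtain ⟨l₁, m₁, l₂, m₂, h⟩ := quad_factor c₂ c₁ c₀
    refine ⟨0, 1, l₁, m₁, l₂, m₂, fun α β => ?_⟩
    rw [h3]
    linear_combination (0 * α + 1 * β) * h α β
  · have hdeg : (Polynomial.C c₃ * Polynomial.X ^ 3 + Polynomial.C c₂ * Polynomial.X ^ 2 +
        Polynomial.C c₁ * Polynomial.X + Polynomial.C c₀).degree ≠ 0 := by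
      rw [Polynomial.degree_cubic h3]
      decide
    obtain ⟨ρ, hρ⟩ := IsAlgClosed.exists_root _ hdeg
    simp only [Polynomial.IsRoot.def, Polynomial.eval_add, Polynomial.eval_mul, Polynomial.eval_C,
      Polynomial.eval_pow, Polynomial.eval_X] at hρ
    obtain ⟨l₁, m₁, l₂, m₂, h⟩ := quad_factor c₃ (c₂ + c₃ * ρ) (c₁ + c₂ * ρ + c₃ * ρ ^ 2)
    refine ⟨1, -ρ, l₁, m₁, l₂, m₂, fun α β => ?_⟩
    linear_combination (1 * α + -ρ * β) * h α β + β ^ 3 * hρ

end AlgClosed

end Groth.Agent.Helper20.CubicTaylor
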