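import Groth.Agent.S0555
import Groth.Prelude.Def_Found
import Mathlib

/-!
# Heights of `Q/P` and `q/p` under finite maps from universally catenary rings (helper20, for S1726)
-/

set_option autoImplicit false
universe u

namespace Groth.Agent.Lib.Helper20.CutoffFinA

/-- height in `Set.Ici p` is the height in the quotient ring. -/
theorem height_Ici_eq {R : Type u} [CommRing R] (p q : PrimeSpectrum R) (h : p ≤ q)
    [hq : (q.asIdeal.map (Ideal.Quotient.mk p.asIdeal)).IsPrime] :
    Order.height (⟨q, h⟩ : Set.Ici p) = (q.asIdeal.map (Ideal.Quotient.mk p.asIdeal)).height := by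
  have hset : Set.Ici p = PrimeSpectrum.zeroLocus (R := R) p.asIdeal := by
    ext x
    rw [Set.mem_Ici, PrimeSpectrum.mem_zeroLocus]
    exact Iff.rfl
  let e' : Set.Ici p ≃o PrimeSpectrum (R ⧸ p.asIdeal) :=
    (OrderIso.setCongr _ _ hset).trans p.asIdeal.primeSpectrumQuotientOrderIsoZeroLocus.symm
  have h1 : Order.height (e' ⟨q, h⟩) = Order.height (⟨q, h⟩ : Set.Ici p) :=
    Order.height_orderIso e' _
  rw [← h1]
  have h2 := PrimeSpectrum.height_eq_orderHeight (e' ⟨q, h⟩)
  rw [← h2]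
  rfl

theorem isUniversallyCatenary_quotient {A : Type u} [CommRing A]
    (hA : CAlg.IsUniversallyCatenary A) (p : Ideal A) : CAlg.IsUniversallyCatenary (A ⧸ p) := by
  haveI : IsNoetherianRing A := hA.1
  refine ⟨inferInstance, fun S _ _ hS => ?_⟩
  letI : Algebra A S := ((algebraMap (A ⧸ p) S).comp (Ideal.Quotient.mk p)).toAlgebra
  haveI : IsScalarTower A (A ⧸ p) S := IsScalarTower.of_algebraMap_eq (fun x => rfl)
  have h1 : Algebra.FiniteType A (A ⧸ p) :=
    Algebra.FiniteType.of_surjective (Ideal.Quotient.mkₐ A p) (Ideal.Quotient.mkₐ_surjective A p)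
  have : Algebra.FiniteType A S := Algebra.FiniteType.trans h1 hS
  exact hA.2 S this

theorem comap_le {A B : Type u} [CommRing A] [CommRing B] (f : A →+* B) {P Q : PrimeSpectrum B}
    (hPQ : P ≤ Q) : PrimeSpectrum.comap f P ≤ PrimeSpectrum.comap f Q :=
  fun _ hx => hPQ hx

theorem height_eq_of_finite {A B : Type u} [CommRing A] [CommRing B] [Algebra A B]
    [Module.Finite A B] (hA : CAlg.IsUniversallyCatenary A) (P Q : PrimeSpectrum B) (hPQ : P ≤ Q) :
    Order.height (⟨Q, hPQ⟩ : Set.Ici P) =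
      Order.height (⟨PrimeSpectrum.comap (algebraMap A B) Q,
        (comap_le (algebraMap A B) hPQ)⟩ :
          Set.Ici (PrimeSpectrum.comap (algebraMap A B) P)) := by
  obtain ⟨p, hp⟩ : ∃ p : Ideal A, p = P.asIdeal.under A := ⟨_, rfl⟩
  obtain ⟨q, hq⟩ : ∃ q : Ideal A, q = Q.asIdeal.under A := ⟨_, rfl⟩
  haveI : p.IsPrime := by rw [hp]; infer_instance
  haveI : q.IsPrime := by rw [hq]; infer_instance
  haveI : P.asIdeal.LiesOver p := ⟨hp⟩
  have hpq : p ≤ q := by
    rw [hp, hq]
    exact Ideal.comap_mono hPQ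
  haveI hq' : (Q.asIdeal.map (Ideal.Quotient.mk P.asIdeal)).IsPrime :=
    Ideal.isPrime_map_quotientMk_of_isPrime hPQ
  haveI hp' : (q.map (Ideal.Quotient.mk p)).IsPrime :=
    Ideal.isPrime_map_quotientMk_of_isPrime hpq
  haveI : (Q.asIdeal.map (Ideal.Quotient.mk P.asIdeal)).LiesOver (q.map (Ideal.Quotient.mk p)) := by
    refine ⟨?_⟩
    ext x
    obtain ⟨a, rfl⟩ := Ideal.Quotient.mk_surjective x
    rw [Ideal.mem_quotient_iff_mem hpq, Ideal.under, Ideal.mem_comap,
      Ideal.Quotient.algebraMap_mk_of_liesOver, Ideal.mem_quotient_iff_mem hPQ, hq, Ideal.under,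
      Ideal.mem_comap]
  haveI : Algebra.IsIntegral A B := Algebra.IsIntegral.of_finite A B
  haveI : Algebra.FiniteType (A ⧸ p) (B ⧸ P.asIdeal) := inferInstance
  have key := Groth.Agent.S0555.result (A ⧸ p) (isUniversallyCatenary_quotient hA p)
    (B ⧸ P.asIdeal) (q.map (Ideal.Quotient.mk p)) (Q.asIdeal.map (Ideal.Quotient.mk P.asIdeal))
  rw [trdeg_eq_zero, trdeg_eq_zero, add_zero, add_zero, Cardinal.ofENat_inj] at key
  rw [height_Ici_eq P Q hPQ, key]
  have h2 := height_Ici_eq (PrimeSpectrum.comap (algebraMap A B) P)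
    (PrimeSpectrum.comap (algebraMap A B) Q) (comap_le (algebraMap A B) hPQ)
    (hq := by
      show (Ideal.map (Ideal.Quotient.mk (P.asIdeal.under A)) (Q.asIdeal.under A)).IsPrime
      rw [← hp, ← hq]; exact hp')
  rw [h2]
  show (q.map (Ideal.Quotient.mk p)).height =
    (Ideal.map (Ideal.Quotient.mk (P.asIdeal.under A)) (Q.asIdeal.under A)).height
  subst hp hq
  rfl

end Groth.Agent.Lib.Helper20.CutoffFinA
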