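import Groth.Agent.Lib.Helper20.CutoffFinA
import Groth.Agent.S2669
import Groth.Prelude.Def_DualLC
import Mathlib

/-!
# The cutoff invariant under finite maps (helper20, for S1726)
-/

set_option autoImplicit false
universe u

namespace Groth.Agent.Lib.Helper20.CutoffFinB
open Groth.Agent.Lib.Helper20.CutoffFinA

theorem depth_eq_top_of_subsingleton (R : Type u) [CommRing R] [IsLocalRing R] (M : Type u)
    [AddCommGroup M] [Module R M] [Subsingleton M] : LocCoh.depth R M = ⊤ := by
  unfold LocCoh.depth LocCoh.idealDepth
  rw [if_pos (Subsingleton.elim _ _)]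

theorem main (A B : Type u) [CommRing A] [CommRing B] [Algebra A B] [IsNoetherianRing A]
    [IsNoetherianRing B] [Module.Finite A B] (hA : CAlg.IsUniversallyCatenary A) (I : Ideal A)
    (M : Type u) [AddCommGroup M] [Module B M] [Module A M] [IsScalarTower A B M]
    [Module.Finite B M] :
    Dual2.cutoff B (I.map (algebraMap A B)) M = Dual2.cutoff A I M := by
  haveI : Module.Finite A M := Module.Finite.trans B M
  haveI : Algebra.IsIntegral A B := Algebra.IsIntegral.of_finite A B
  have hdepth : ∀ (p : Ideal A) [p.IsPrime],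
      LocCoh.depth (Localization.AtPrime p) (LocalizedModule p.primeCompl M) =
        ⨅ q ∈ {q : PrimeSpectrum B | q.asIdeal.comap (algebraMap A B) = p ∧
            q ∈ Module.support B M},
          LocCoh.depth (Localization.AtPrime q.asIdeal)
            (LocalizedModule q.asIdeal.primeCompl M) :=
    fun p _ => (Groth.Agent.S2669.result A B M p).2
  apply le_antisymm
  · -- cutoff B ≤ cutoff A
    unfold Dual2.cutoff
    refine le_iInf fun p => le_iInf fun q => le_iInf fun hpq => le_iInf fun h1 => le_iInf fun h2 => ?_
    rw [hdepth p.asIdeal]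
    obtain ⟨d, hd⟩ : ∃ d : ℕ∞, d = ⨅ q' ∈ {q' : PrimeSpectrum B |
        q'.asIdeal.comap (algebraMap A B) = p.asIdeal ∧ q' ∈ Module.support B M},
        LocCoh.depth (Localization.AtPrime q'.asIdeal)
          (LocalizedModule q'.asIdeal.primeCompl M) := ⟨_, rfl⟩
    rw [← hd]
    rcases eq_or_ne d ⊤ with htop | hne
    · rw [htop, top_add]; exact le_top
    · have hlt : d < d + 1 := by
        refine ENat.lt_add_one_iff hne |>.mpr (le_refl _)
      rw [hd] at hlt
      obtain ⟨P, hP⟩ := iInf_lt_iff.mp hlt
      obtain ⟨hPmem, hP2⟩ := iInf_lt_iff.mp hP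
      rw [← hd] at hP2
      have hPd : LocCoh.depth (Localization.AtPrime P.asIdeal)
          (LocalizedModule P.asIdeal.primeCompl M) = d := by
        apply le_antisymm
        · exact Order.le_of_lt_add_one hP2
        · rw [hd]
          exact iInf₂_le P hPmem
      -- going up
      have hPp : P.asIdeal.comap (algebraMap A B) = p.asIdeal := hPmem.1
      obtain ⟨Qi, hQge, hQprime, hQq⟩ :=
        Ideal.exists_ideal_over_prime_of_isIntegral_of_isPrime (R := A) (S := B) q.asIdeal
          P.asIdeal (by rw [hPp]; exact hpq)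
      let Q : PrimeSpectrum B := ⟨Qi, hQprime⟩
      have hPQ : P ≤ Q := hQge
      have hIP : ¬ I.map (algebraMap A B) ≤ P.asIdeal := by
        intro hle
        apply h1
        rw [← hPp]
        exact Ideal.map_le_iff_le_comap.mp hle
      have hIQ : I.map (algebraMap A B) ≤ Q.asIdeal := by
        rw [Ideal.map_le_iff_le_comap]
        show I ≤ Qi.comap (algebraMap A B)
        rw [hQq]; exact h2
      refine (iInf_le_of_le P (iInf_le_of_le Q (iInf_le_of_le hPQ (iInf_le_of_le hIP
        (iInf_le_of_le hIQ (le_refl _)))))).trans ?_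
      rw [hPd, height_eq_of_finite hA P Q hPQ]
      have e1 : PrimeSpectrum.comap (algebraMap A B) P = p := PrimeSpectrum.ext hPp
      have e2 : PrimeSpectrum.comap (algebraMap A B) Q = q := PrimeSpectrum.ext hQq
      apply le_of_eq
      congr 1
      subst e1 e2
      rfl
  · -- cutoff A ≤ cutoff B
    unfold Dual2.cutoff
    refine le_iInf fun P => le_iInf fun Q => le_iInf fun hPQ => le_iInf fun h1 => le_iInf fun h2 => ?_
    have hIp : ¬ I ≤ (PrimeSpectrum.comap (algebraMap A B) P).asIdeal := by
      intro hle
      apply h1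
      rw [Ideal.map_le_iff_le_comap]
      exact hle
    have hIq : I ≤ (PrimeSpectrum.comap (algebraMap A B) Q).asIdeal :=
      Ideal.map_le_iff_le_comap.mp h2
    refine (iInf_le_of_le (PrimeSpectrum.comap (algebraMap A B) P)
      (iInf_le_of_le (PrimeSpectrum.comap (algebraMap A B) Q)
        (iInf_le_of_le (comap_le (algebraMap A B) hPQ) (iInf_le_of_le hIp
          (iInf_le_of_le hIq (le_refl _)))))).trans ?_
    rw [← height_eq_of_finite hA P Q hPQ]
    refine add_le_add_left ?_ _
    rw [hdepth (PrimeSpectrum.comap (algebraMap A B) P).asIdeal]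
    by_cases hsupp : P ∈ Module.support B M
    · exact iInf₂_le P ⟨rfl, hsupp⟩
    · rw [Module.notMem_support_iff] at hsupp
      rw [depth_eq_top_of_subsingleton]
      exact le_top

end Groth.Agent.Lib.Helper20.CutoffFinB
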