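import Mathlib
import Groth.Prelude.Def_GSzCSA
import Groth.Agent.Lib.Helper17.CSA2

set_option autoImplicit false
open scoped TensorProduct

namespace Groth.Agent.Helper20.CycAlg

section LemmaD

variable {K : Type*} [Field K] {J : Type*} [DecidableEq J]

theorem exists_kill (τ : J → (K →+* K)) (hτ : Function.Injective τ)
    (V : AddSubgroup (J → K))
    (hL : ∀ (c : K) (x : J → K), x ∈ V → (fun j => τ j c * x j) ∈ V)
    (hR : ∀ (c : K) (x : J → K), x ∈ V → (fun j => c * x j) ∈ V)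
    (x : J → K) (hx : x ∈ V) (j₀ : J) (S : Finset J) (hS : j₀ ∉ S) :
    ∃ x' ∈ V, x' j₀ = x j₀ ∧ ∀ j ∈ S, x' j = 0 := by
  induction S using Finset.induction_on with
  | empty => exact ⟨x, hx, rfl, by simp⟩
  | insert j S hj ih =>
    rw [Finset.mem_insert, not_or] at hS
    obtain ⟨x', hx', h0, hS'⟩ := ih hS.2
    have hne : τ j ≠ τ j₀ := fun h => hS.1 (hτ h).symm
    obtain ⟨c, hc⟩ : ∃ c, τ j c ≠ τ j₀ c := by
      by_contra h
      push Not at h
      exact hne (RingHom.ext h)
    set d := τ j₀ c - τ j c with hd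
    have hd0 : d ≠ 0 := sub_ne_zero.mpr (Ne.symm hc)
    refine ⟨fun l => d⁻¹ * (τ l c * x' l - τ j c * x' l), ?_, ?_, ?_⟩
    · have h1 := hL c x' hx'
      have h2 := hR (τ j c) x' hx'
      have h3 := V.sub_mem h1 h2
      exact hR d⁻¹ _ h3
    · show d⁻¹ * (τ j₀ c * x' j₀ - τ j c * x' j₀) = x j₀
      rw [← sub_mul, ← hd, ← mul_assoc, inv_mul_cancel₀ hd0, one_mul, h0]
    · intro l hl
      rw [Finset.mem_insert] at hl
      rcases hl with rfl | hl
      · show d⁻¹ * (τ l c * x' l - τ l c * x' l) = 0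
        rw [sub_self, mul_zero]
      · show d⁻¹ * (τ l c * x' l - τ j c * x' l) = 0
        rw [hS' l hl, mul_zero, mul_zero, sub_zero, mul_zero]

theorem single_mem [Fintype J] (τ : J → (K →+* K)) (hτ : Function.Injective τ)
    (V : AddSubgroup (J → K))
    (hL : ∀ (c : K) (x : J → K), x ∈ V → (fun j => τ j c * x j) ∈ V)
    (hR : ∀ (c : K) (x : J → K), x ∈ V → (fun j => c * x j) ∈ V)
    (x : J → K) (hx : x ∈ V) (j₀ : J) : Pi.single j₀ (x j₀) ∈ V := by
  obtain ⟨x', hx', h0, hS⟩ := exists_kill τ hτ V hL hR x hx j₀ (Finset.univ.erase j₀) (by simp)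
  have : x' = Pi.single j₀ (x j₀) := by
    funext j
    by_cases hj : j = j₀
    · subst hj; simp [h0]
    · rw [Pi.single_eq_of_ne hj]
      exact hS j (by simp [hj])
  rwa [← this]

end LemmaD

/-- Data of a "cyclic pair" in an algebra. -/
structure Cyc (k : Type*) (K : Type*) [Field k] [Field K] [Algebra k K] (σ : K ≃ₐ[k] K)
    (A : Type*) [Ring A] [Algebra k A] where
  ι : K →ₐ[k] A
  y : A
  rel : ∀ x, ι x * y = y * ι (σ x)
  unit : IsUnit y

section Basic

variable {k : Type*} {K : Type*} [Field k] [Field K] [Algebra k K] {σ : K ≃ₐ[k] K}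
  {A : Type*} [Ring A] [Algebra k A] (c : Cyc k K σ A)

theorem Cyc.rel_pow (j : ℕ) (x : K) : c.ι x * c.y ^ j = c.y ^ j * c.ι ((σ ^ j) x) := by
  induction j generalizing x with
  | zero => simp
  | succ j ih =>
    rw [pow_succ, ← mul_assoc, ih, mul_assoc, c.rel, ← mul_assoc, pow_succ' σ, AlgEquiv.mul_apply]

/-- The linear map `(x_j) ↦ ∑ y^j ι(x_j)`. -/
noncomputable def Cyc.Phi (m : ℕ) : (Fin m → K) →ₗ[k] A :=
  ∑ j : Fin m, (LinearMap.mulLeft k (c.y ^ (j : ℕ))) ∘ₗ c.ι.toLinearMap ∘ₗ (LinearMap.proj j)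

theorem Cyc.Phi_apply (m : ℕ) (x : Fin m → K) :
    c.Phi m x = ∑ j : Fin m, c.y ^ (j : ℕ) * c.ι (x j) := by
  simp [Cyc.Phi, LinearMap.sum_apply]

theorem Cyc.ι_mul_Phi (m : ℕ) (a : K) (x : Fin m → K) :
    c.ι a * c.Phi m x = c.Phi m (fun j : Fin m => (σ ^ (j : ℕ)) a * x j) := by
  rw [c.Phi_apply, c.Phi_apply, Finset.mul_sum]
  refine Finset.sum_congr rfl fun j _ => ?_
  rw [← mul_assoc, c.rel_pow, mul_assoc, ← map_mul]

theorem Cyc.Phi_mul_ι (m : ℕ) (a : K) (x : Fin m → K) :
    c.Phi m x * c.ι a = c.Phi m (fun j => a * x j) := by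
  rw [c.Phi_apply, c.Phi_apply, Finset.sum_mul]
  refine Finset.sum_congr rfl fun j _ => ?_
  rw [mul_assoc, ← map_mul, mul_comm]

theorem Cyc.Phi_single (m : ℕ) (j : Fin m) (a : K) :
    c.Phi m (Pi.single j a) = c.y ^ (j : ℕ) * c.ι a := by
  rw [c.Phi_apply, Finset.sum_eq_single j]
  · simp
  · intro l _ hl
    rw [Pi.single_eq_of_ne hl, map_zero, mul_zero]
  · simp

/-- the ring homs `σ^j`, `j < orderOf σ`, are distinct -/
theorem tau_injective (σ : K ≃ₐ[k] K) (m : ℕ) (hm : m ≤ orderOf σ) :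
    Function.Injective (fun j : Fin m => (((σ ^ (j : ℕ) : K ≃ₐ[k] K) : K →ₐ[k] K) : K →+* K)) := by
  intro i j h
  have h1 : σ ^ (i : ℕ) = σ ^ (j : ℕ) := by
    ext x
    have := congrArg (fun f : K →+* K => f x) h
    simpa using this
  have := pow_injOn_Iio_orderOf (x := σ) (show (i : ℕ) ∈ Set.Iio (orderOf σ) from lt_of_lt_of_le i.2 hm)
    (show (j : ℕ) ∈ Set.Iio (orderOf σ) from lt_of_lt_of_le j.2 hm) h1
  exact Fin.ext this

/-- stable subgroups of `Fin m → K` pulled back through `Phi` -/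
theorem single_mem_of_stable (σ : K ≃ₐ[k] K) (m : ℕ) (hm : m ≤ orderOf σ) (V : AddSubgroup (Fin m → K))
    (hL : ∀ (a : K) (x : Fin m → K), x ∈ V → (fun j : Fin m => (σ ^ (j : ℕ)) a * x j) ∈ V)
    (hR : ∀ (a : K) (x : Fin m → K), x ∈ V → (fun j : Fin m => a * x j) ∈ V)
    (x : Fin m → K) (hx : x ∈ V) (j₀ : Fin m) : Pi.single j₀ (x j₀) ∈ V :=
  single_mem _ (tau_injective σ m hm) V hL hR x hx j₀

theorem Cyc.Phi_injective [Nontrivial A] (m : ℕ) (hm : m ≤ orderOf σ) :
    Function.Injective (c.Phi m) := by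
  rw [← LinearMap.ker_eq_bot, eq_bot_iff]
  intro x hx
  rw [LinearMap.mem_ker] at hx
  let V : AddSubgroup (Fin m → K) := (LinearMap.ker (c.Phi m)).toAddSubgroup
  have hV : ∀ z, z ∈ V ↔ c.Phi m z = 0 := fun z => LinearMap.mem_ker
  have hL : ∀ (a : K) (x : Fin m → K), x ∈ V → (fun j : Fin m => (σ ^ (j : ℕ)) a * x j) ∈ V := by
    intro a z hz
    rw [hV] at hz ⊢
    rw [← c.ι_mul_Phi, hz, mul_zero]
  have hR : ∀ (a : K) (x : Fin m → K), x ∈ V → (fun j : Fin m => a * x j) ∈ V := by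
    intro a z hz
    rw [hV] at hz ⊢
    rw [← c.Phi_mul_ι, hz, zero_mul]
  rw [Submodule.mem_bot]
  funext j
  have h1 := single_mem_of_stable σ m hm V hL hR x ((hV x).mpr hx) j
  rw [hV, c.Phi_single] at h1
  have h2 : c.ι (x j) = 0 := by
    have := (c.unit.pow (j : ℕ)).mul_right_eq_zero.mp h1
    exact this
  exact (map_eq_zero_iff c.ι c.ι.toRingHom.injective).mp h2

end Basic

section Struct

variable {k : Type*} {K : Type*} [Field k] [Field K] [Algebra k K] {σ : K ≃ₐ[k] K}
  {A : Type*} [Ring A] [Algebra k A] (c : Cyc k K σ A)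

theorem Cyc.Phi_bijective [FiniteDimensional k K] [Nontrivial A]
    (hm : Module.finrank k K ≤ orderOf σ)
    (hdim : Module.finrank k A = Module.finrank k K ^ 2) :
    Function.Bijective (c.Phi (Module.finrank k K)) := by
  have hinj := c.Phi_injective _ hm
  have hpos : 0 < Module.finrank k K := Module.finrank_pos
  haveI : FiniteDimensional k A := Module.finite_of_finrank_pos (by rw [hdim]; positivity)
  refine ⟨hinj, ?_⟩
  have hfr : Module.finrank k (Fin (Module.finrank k K) → K) = Module.finrank k A := by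
    rw [Module.finrank_pi_fintype, hdim]
    simp [sq]
  exact (LinearMap.injective_iff_surjective_of_finrank_eq_finrank hfr).mp hinj

/-- an element commuting with `ι K` lies in `ι K` -/
theorem Cyc.mem_range_of_commute [Nontrivial A] (m : ℕ) (hm : m ≤ orderOf σ) (hm0 : 0 < m)
    (hsurj : Function.Surjective (c.Phi m)) (z : A) (hz : ∀ a : K, c.ι a * z = z * c.ι a) :
    ∃ x₀ : K, z = c.ι x₀ := by
  obtain ⟨x, rfl⟩ := hsurj z
  have hinj := c.Phi_injective m hm
  have h1 : ∀ (a : K) (j : Fin m), (σ ^ (j : ℕ)) a * x j = a * x j := by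
    intro a j
    have := hz a
    rw [c.ι_mul_Phi, c.Phi_mul_ι] at this
    exact congrFun (hinj this) j
  have h2 : ∀ j : Fin m, j ≠ ⟨0, hm0⟩ → x j = 0 := by
    intro j hj
    by_contra hxj
    have h3 : ∀ a : K, (σ ^ (j : ℕ)) a = a := fun a => mul_right_cancel₀ hxj (h1 a j)
    have h4 : σ ^ (j : ℕ) = σ ^ 0 := by
      ext a
      simpa using h3 a
    have := pow_injOn_Iio_orderOf (x := σ)
      (show (j : ℕ) ∈ Set.Iio (orderOf σ) from lt_of_lt_of_le j.2 hm)
      (show 0 ∈ Set.Iio (orderOf σ) from lt_of_lt_of_le hm0 hm) h4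
    exact hj (Fin.ext this)
  refine ⟨x ⟨0, hm0⟩, ?_⟩
  rw [c.Phi_apply, Finset.sum_eq_single ⟨0, hm0⟩]
  · simp
  · intro j _ hj
    rw [h2 j hj, map_zero, mul_zero]
  · simp

theorem Cyc.isSimpleRing [Nontrivial A] (m : ℕ) (hm : m ≤ orderOf σ)
    (hsurj : Function.Surjective (c.Phi m)) : IsSimpleRing A := by
  refine IsSimpleRing.of_eq_bot_or_eq_top fun I => ?_
  by_cases hI : I = ⊥
  · exact Or.inl hI
  right
  obtain ⟨a, haI, ha0⟩ : ∃ a ∈ I, a ≠ 0 := by
    by_contra hcon
    push Not at hcon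
    apply hI
    rw [eq_bot_iff]
    intro x hx
    rw [TwoSidedIdeal.mem_bot]
    exact hcon x hx
  obtain ⟨x, rfl⟩ := hsurj a
  let V : AddSubgroup (Fin m → K) :=
    { carrier := {z | c.Phi m z ∈ I}
      add_mem' := fun {a b} ha hb => by
        show c.Phi m (a + b) ∈ I
        rw [map_add]; exact I.add_mem ha hb
      zero_mem' := by
        show c.Phi m 0 ∈ I
        rw [map_zero]; exact I.zero_mem
      neg_mem' := fun {a} ha => by
        show c.Phi m (-a) ∈ I
        rw [map_neg]; exact I.neg_mem ha }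
  have hV : ∀ z, z ∈ V ↔ c.Phi m z ∈ I := fun z => Iff.rfl
  have hL : ∀ (a : K) (x : Fin m → K), x ∈ V → (fun j : Fin m => (σ ^ (j : ℕ)) a * x j) ∈ V := by
    intro a z hz
    rw [hV] at hz ⊢
    rw [← c.ι_mul_Phi]
    exact I.mul_mem_left _ _ hz
  have hR : ∀ (a : K) (x : Fin m → K), x ∈ V → (fun j : Fin m => a * x j) ∈ V := by
    intro a z hz
    rw [hV] at hz ⊢
    rw [← c.Phi_mul_ι]
    exact I.mul_mem_right _ _ hz
  obtain ⟨j, hj⟩ : ∃ j, x j ≠ 0 := by
    by_contra hcon
    push Not at hcon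
    apply ha0
    have : x = 0 := funext hcon
    rw [this, map_zero]
  have h1 := single_mem_of_stable σ m hm V hL hR x haI j
  rw [hV, c.Phi_single] at h1
  have hu : IsUnit (c.y ^ (j : ℕ) * c.ι (x j)) :=
    (c.unit.pow _).mul ((isUnit_iff_ne_zero.mpr hj).map c.ι)
  obtain ⟨u, hu'⟩ := hu
  rw [eq_top_iff]
  intro b _
  have : b = b * (↑u⁻¹ : A) * (c.y ^ (j : ℕ) * c.ι (x j)) := by
    rw [← hu', mul_assoc, Units.inv_mul, mul_one]
  rw [this]
  exact I.mul_mem_left _ _ h1

theorem Cyc.isCentral [FiniteDimensional k K] [IsGalois k K] [Nontrivial A]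
    (hσ : ∀ τ : K ≃ₐ[k] K, τ ∈ Subgroup.zpowers σ) (m : ℕ) (hm : m ≤ orderOf σ) (hm0 : 0 < m)
    (hsurj : Function.Surjective (c.Phi m)) : Algebra.IsCentral k A := by
  constructor
  intro z hz
  rw [Subalgebra.mem_center_iff] at hz
  obtain ⟨x₀, rfl⟩ := c.mem_range_of_commute m hm hm0 hsurj z (fun a => (hz (c.ι a)))
  have h1 : c.ι x₀ * c.y = c.y * c.ι x₀ := (hz c.y).symm
  rw [c.rel] at h1
  have h2 : c.ι (σ x₀) = c.ι x₀ := c.unit.mul_left_cancel h1
  have h3 : σ x₀ = x₀ := c.ι.toRingHom.injective h2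
  have h4 : ∀ τ : K ≃ₐ[k] K, τ x₀ = x₀ := by
    intro τ
    obtain ⟨n, rfl⟩ := Subgroup.mem_zpowers_iff.mp (hσ τ)
    have hfix : σ ∈ MulAction.stabilizer (K ≃ₐ[k] K) x₀ := h3
    exact (MulAction.stabilizer (K ≃ₐ[k] K) x₀).zpow_mem hfix n
  obtain ⟨r, rfl⟩ := (IsGalois.mem_range_algebraMap_iff_fixed x₀).mpr h4
  rw [Algebra.mem_bot]
  exact ⟨r, by simp⟩

end Struct

section Split

variable {k : Type*} {K : Type*} [Field k] [Field K] [Algebra k K]
  {A : Type*} [Ring A] [Algebra k A]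

theorem orderOf_eq_finrank [FiniteDimensional k K] [IsGalois k K] {σ : K ≃ₐ[k] K}
    (hσ : ∀ τ : K ≃ₐ[k] K, τ ∈ Subgroup.zpowers σ) :
    orderOf σ = Module.finrank k K := by
  rw [orderOf_eq_card_of_forall_mem_zpowers hσ, IsGalois.card_aut_eq_finrank]

/-- right `K`-structure on `A` through `ι` -/
@[reducible] def rightModule (ι : K →ₐ[k] A) : Module K A where
  smul x a := a * ι x
  one_smul a := by show a * ι 1 = a; simp
  mul_smul x x' a := by
    show a * ι (x * x') = (a * ι x') * ι x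
    rw [mul_comm x x', map_mul, mul_assoc]
  smul_zero x := by show (0 : A) * ι x = 0; simp
  smul_add x a b := by show (a + b) * ι x = a * ι x + b * ι x; rw [add_mul]
  add_smul x x' a := by show a * ι (x + x') = a * ι x + a * ι x'; rw [map_add, mul_add]
  zero_smul a := by show a * ι 0 = 0; simp

/-- If `K` embeds in a central simple algebra `A` with `dim A = [K:k]^2`, then `K` splits `A`. -/
theorem splits_of_embedding [FiniteDimensional k K] [Algebra.IsCentral k A] [IsSimpleRing A]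
    (ι : K →ₐ[k] A) (hdim : Module.finrank k A = Module.finrank k K ^ 2) :
    Curves.Splits k A K := by
  classical
  have hpos : 0 < Module.finrank k K := Module.finrank_pos
  haveI : FiniteDimensional k A := Module.finite_of_finrank_pos (by rw [hdim]; positivity)
  letI : Module K A := rightModule ι
  have hsmul : ∀ (x : K) (a : A), x • a = a * ι x := fun _ _ => rfl
  haveI : IsScalarTower k K A := ⟨fun r x a => by
    rw [hsmul, hsmul, map_smul, mul_smul_comm]⟩
  haveI : SMulCommClass K k A := ⟨fun x r a => by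
    rw [hsmul, hsmul, smul_mul_assoc]⟩
  haveI : Module.Finite K A := Module.Finite.of_restrictScalars_finite k K A
  have hKA : Module.finrank K A = Module.finrank k K := by
    have h1 := Module.finrank_mul_finrank k K A
    rw [hdim, sq] at h1
    exact Nat.eq_of_mul_eq_mul_left hpos h1
  let g : A →ₐ[k] Module.End K A :=
    { toFun := fun a =>
        { toFun := fun v => a * v
          map_add' := mul_add a
          map_smul' := fun x v => by
            simp only [hsmul, RingHom.id_apply, mul_assoc] }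
      map_one' := by ext v; simp
      map_mul' := fun a b => by ext v; simp [mul_assoc]
      map_zero' := by ext v; simp
      map_add' := fun a b => by ext v; simp [add_mul]
      commutes' := fun r => by
        ext v
        simp [Algebra.smul_def] }
  have hg : ∀ a v, g a v = a * v := fun _ _ => rfl
  let ρ : K ⊗[k] A →ₐ[K] Module.End K A :=
    Algebra.TensorProduct.lift (Algebra.ofId K (Module.End K A)) g (fun x a => by
      show _ * _ = _ * _
      ext v
      simp only [Algebra.ofId_apply, Module.End.mul_apply, Module.algebraMap_end_apply, hg, hsmul,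
        mul_assoc])
  haveI : IsSimpleRing (K ⊗[k] A) := Groth.Agent.Helper17.isSimpleRing_tensor k K A
  haveI : Nontrivial (Module.End K A) := inferInstance
  have hinj : Function.Injective ρ := (ρ : K ⊗[k] A →+* Module.End K A).injective
  have hfr : Module.finrank K (K ⊗[k] A) = Module.finrank K (Module.End K A) := by
    rw [Module.finrank_baseChange, Module.finrank_linearMap, hKA, hdim, sq]
  have hbij : Function.Bijective ρ :=
    ⟨hinj, (LinearMap.injective_iff_surjective_of_finrank_eq_finrank (f := ρ.toLinearMap) hfr).mp hinj⟩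
  let e1 : K ⊗[k] A ≃ₐ[K] Module.End K A := AlgEquiv.ofBijective ρ hbij
  let b : Module.Basis (Fin (Module.finrank k K)) K A := Module.finBasisOfFinrankEq K A hKA
  exact ⟨Module.finrank k K, hpos.ne', ⟨e1.trans (algEquivMatrix b)⟩⟩

end Split

end Groth.Agent.Helper20.CycAlg
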