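import Mathlib
import Groth.Agent.Lib.Helper17.CSA2

set_option autoImplicit false
open scoped TensorProduct

namespace Groth.Agent.Helper20.Morita

section LemmaM

variable (k : Type*) [Field k] (C : Type*) [Ring C] [Algebra k C] [IsSimpleRing C] [FiniteDimensional k C]

theorem exists_simple_decomp
    (P : Type*) [AddCommGroup P] [Module C P] [Module k P] [IsScalarTower k C P] [FiniteDimensional k P]
    [Nontrivial P] :
    ∃ (a : ℕ) (_ : NeZero a) (S : Submodule C P), IsSimpleModule C S ∧ Nonempty (P ≃ₗ[C] Fin a → S) := by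
  haveI : IsArtinianRing C := IsArtinianRing.of_finite k C
  haveI : Module.Finite C P := Module.Finite.of_restrictScalars_finite k C P
  exact (IsSimpleRing.isIsotypic C P).linearEquiv_fun

omit [Algebra k C] [FiniteDimensional k C] in
theorem simple_linearEquiv [IsArtinianRing C]
    (P : Type*) [AddCommGroup P] [Module C P] (Q : Type*) [AddCommGroup Q] [Module C Q]
    (S₁ : Submodule C P) [IsSimpleModule C S₁] (S₂ : Submodule C Q) [IsSimpleModule C S₂] :
    Nonempty (S₁ ≃ₗ[C] S₂) := by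
  have hiso := IsSimpleRing.isIsotypic C (P × Q)
  let i₁ : P →ₗ[C] P × Q := LinearMap.inl C P Q
  let i₂ : Q →ₗ[C] P × Q := LinearMap.inr C P Q
  let e₁ : S₁ ≃ₗ[C] S₁.map i₁ := S₁.equivMapOfInjective i₁ LinearMap.inl_injective
  let e₂ : S₂ ≃ₗ[C] S₂.map i₂ := S₂.equivMapOfInjective i₂ LinearMap.inr_injective
  haveI : IsSimpleModule C (S₁.map i₁) := IsSimpleModule.congr e₁.symm
  haveI : IsSimpleModule C (S₂.map i₂) := IsSimpleModule.congr e₂.symm
  obtain ⟨e⟩ := hiso (S₂.map i₂) (S₁.map i₁)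
  exact ⟨e₁.trans (e.trans e₂.symm)⟩

theorem linearEquiv_of_finrank_eq
    (P : Type*) [AddCommGroup P] [Module C P] [Module k P] [IsScalarTower k C P] [FiniteDimensional k P]
    (Q : Type*) [AddCommGroup Q] [Module C Q] [Module k Q] [IsScalarTower k C Q] [FiniteDimensional k Q]
    (h : Module.finrank k P = Module.finrank k Q) : Nonempty (P ≃ₗ[C] Q) := by
  by_cases hP : Module.finrank k P = 0
  · have hQ : Module.finrank k Q = 0 := h ▸ hP
    haveI : Subsingleton P := Module.finrank_zero_iff.mp hP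
    haveI : Subsingleton Q := Module.finrank_zero_iff.mp hQ
    exact ⟨LinearEquiv.ofSubsingleton P Q⟩
  · have hQ : Module.finrank k Q ≠ 0 := h ▸ hP
    haveI : Nontrivial P := Module.nontrivial_of_finrank_pos (R := k) (Nat.pos_of_ne_zero hP)
    haveI : Nontrivial Q := Module.nontrivial_of_finrank_pos (R := k) (Nat.pos_of_ne_zero hQ)
    obtain ⟨a, _, S₁, hS₁, ⟨e₁⟩⟩ := exists_simple_decomp k C P
    obtain ⟨b, _, S₂, hS₂, ⟨e₂⟩⟩ := exists_simple_decomp k C Q
    haveI : IsArtinianRing C := IsArtinianRing.of_finite k C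
    obtain ⟨e⟩ := simple_linearEquiv C P Q S₁ S₂
    haveI : Module.Finite k S₁ :=
      Module.Finite.of_injective ((S₁.subtype).restrictScalars k) Subtype.val_injective
    haveI : Module.Finite k S₂ :=
      Module.Finite.of_injective ((S₂.subtype).restrictScalars k) Subtype.val_injective
    have h1 : Module.finrank k P = a * Module.finrank k S₁ := by
      rw [(e₁.restrictScalars k).finrank_eq, Module.finrank_pi_fintype]
      simp
    have h2 : Module.finrank k Q = b * Module.finrank k S₁ := by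
      rw [(e₂.restrictScalars k).finrank_eq, Module.finrank_pi_fintype, (e.restrictScalars k).finrank_eq]
      simp
    have hS : 0 < Module.finrank k S₁ := by
      rcases Nat.eq_zero_or_pos (Module.finrank k S₁) with h0 | h0
      · rw [h0, mul_zero] at h1; exact absurd h1 hP
      · exact h0
    have hab : a = b := by
      rw [h1, h2] at h
      exact Nat.eq_of_mul_eq_mul_right hS h
    subst hab
    exact ⟨e₁.trans ((LinearEquiv.piCongrRight fun _ => e).trans e₂.symm)⟩

end LemmaM



section SN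

variable {k : Type*} [Field k] {C : Type*} [Ring C] [Algebra k C] {A : Type*} [AddCommGroup A] [Module k A]

/-- `A` with the `C`-module structure given by `φ`. -/
def Tw (_φ : C →ₐ[k] Module.End k A) : Type _ := A

instance (φ : C →ₐ[k] Module.End k A) : AddCommGroup (Tw φ) := inferInstanceAs (AddCommGroup A)
instance (φ : C →ₐ[k] Module.End k A) : Module k (Tw φ) := inferInstanceAs (Module k A)
instance (φ : C →ₐ[k] Module.End k A) : Module C (Tw φ) :=
  Module.compHom A (φ : C →+* Module.End k A)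

theorem Tw.smul_def (φ : C →ₐ[k] Module.End k A) (c : C) (v : Tw φ) :
    c • v = (φ c) (show A from v) := rfl

instance (φ : C →ₐ[k] Module.End k A) : IsScalarTower k C (Tw φ) :=
  ⟨fun r c v => by
    rw [Tw.smul_def, Tw.smul_def, map_smul]
    rfl⟩

instance (φ : C →ₐ[k] Module.End k A) [FiniteDimensional k A] : FiniteDimensional k (Tw φ) :=
  inferInstanceAs (FiniteDimensional k A)

end SN

set_option backward.isDefEq.respectTransparency false in
open MulOpposite in
/-- Skolem–Noether: two embeddings of a simple algebra into a central simple algebra are conjugate. -/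
theorem skolem_noether (k : Type*) [Field k] (B : Type*) [Ring B] [Algebra k B] [IsSimpleRing B]
    [FiniteDimensional k B]
    (A : Type*) [Ring A] [Algebra k A] [Algebra.IsCentral k A] [IsSimpleRing A] [FiniteDimensional k A]
    (f g : B →ₐ[k] A) :
    ∃ u w : A, u * w = 1 ∧ w * u = 1 ∧ ∀ b : B, g b = u * f b * w := by
  haveI : Algebra.IsCentral k Aᵐᵒᵖ := inferInstance
  haveI : IsSimpleRing Aᵐᵒᵖ := inferInstance
  haveI : IsSimpleRing (B ⊗[k] Aᵐᵒᵖ) := Groth.Agent.Helper17.isSimpleRing_tensor k B Aᵐᵒᵖ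
  let φf : B ⊗[k] Aᵐᵒᵖ →ₐ[k] Module.End k A :=
    (AlgHom.mulLeftRight k A).comp (Algebra.TensorProduct.map f (AlgHom.id k Aᵐᵒᵖ))
  let φg : B ⊗[k] Aᵐᵒᵖ →ₐ[k] Module.End k A :=
    (AlgHom.mulLeftRight k A).comp (Algebra.TensorProduct.map g (AlgHom.id k Aᵐᵒᵖ))
  have hφf : ∀ (b : B) (a v : A), φf (b ⊗ₜ[k] op a) v = f b * v * a := fun b a v => by
    simp [φf, AlgHom.mulLeftRight_apply]
  have hφg : ∀ (b : B) (a v : A), φg (b ⊗ₜ[k] op a) v = g b * v * a := fun b a v => by
    simp [φg, AlgHom.mulLeftRight_apply]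
  haveI i1 : IsScalarTower k (B ⊗[k] Aᵐᵒᵖ) (Tw φf) := inferInstance
  haveI i2 : IsScalarTower k (B ⊗[k] Aᵐᵒᵖ) (Tw φg) := inferInstance
  haveI i3 : FiniteDimensional k (Tw φf) := inferInstance
  haveI i4 : FiniteDimensional k (Tw φg) := inferInstance
  obtain ⟨e⟩ := linearEquiv_of_finrank_eq k (B ⊗[k] Aᵐᵒᵖ) (Tw φf) (Tw φg) rfl
  let E : A → A := fun v => e v
  let E' : A → A := fun v => e.symm v
  have hE : ∀ (b : B) (a v : A), E (f b * v * a) = g b * E v * a := by
    intro b a v
    have h1 := e.map_smul (b ⊗ₜ[k] op a) (show Tw φf from v)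
    rw [Tw.smul_def, Tw.smul_def, hφf] at h1
    rw [← hφg]
    exact h1
  have hE' : ∀ (b : B) (a v : A), E' (g b * v * a) = f b * E' v * a := by
    intro b a v
    have h1 := e.symm.map_smul (b ⊗ₜ[k] op a) (show Tw φg from v)
    rw [Tw.smul_def, Tw.smul_def, hφg] at h1
    rw [← hφf]
    exact h1
  have hEE' : ∀ v, E (E' v) = v := fun v => e.apply_symm_apply v
  have hE'E : ∀ v, E' (E v) = v := fun v => e.symm_apply_apply v
  have hEa : ∀ a, E a = E 1 * a := by
    intro a
    have := hE 1 a 1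
    simpa using this
  have hE'a : ∀ a, E' a = E' 1 * a := by
    intro a
    have := hE' 1 a 1
    simpa using this
  refine ⟨E 1, E' 1, ?_, ?_, ?_⟩
  · rw [← hEa, hEE']
  · rw [← hE'a, hE'E]
  · intro b
    have h1 : E (f b) = g b * E 1 := by
      have := hE b 1 1
      simpa using this
    rw [hEa] at h1
    rw [h1, mul_assoc, ← hEa, hEE', mul_one]


universe w



set_option backward.isDefEq.respectTransparency false in
theorem exists_morita (k : Type*) [Field k] (C : Type w) [Ring C] [Algebra k C] [IsSimpleRing C]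
    [FiniteDimensional k C]
    (P : Type*) [AddCommGroup P] [Module C P] [Module k P] [IsScalarTower k C P]
    [FiniteDimensional k P] [Nontrivial P] :
    ∃ (I : Submodule C C) (_ : IsSimpleModule C I) (r a : ℕ) (_ : NeZero r) (_ : NeZero a),
      Nonempty (C ≃ₗ[C] (Fin r → I)) ∧ Nonempty (P ≃ₗ[C] (Fin a → I)) ∧
      Nonempty (C ≃ₐ[k] Matrix (Fin r) (Fin r) (Module.End C I)ᵐᵒᵖ) ∧
      Nonempty ((Module.End C P)ᵐᵒᵖ ≃ₐ[k] Matrix (Fin a) (Fin a) (Module.End C I)ᵐᵒᵖ) := by
  haveI : IsArtinianRing C := IsArtinianRing.of_finite k C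
  obtain ⟨r, hr, I, hI, ⟨eC⟩⟩ := exists_simple_decomp k C C
  obtain ⟨a, ha, S, hS, ⟨eP⟩⟩ := exists_simple_decomp k C P
  obtain ⟨e⟩ := simple_linearEquiv C P C S I
  let eP' : P ≃ₗ[C] (Fin a → I) := eP.trans (LinearEquiv.piCongrRight fun _ => e)
  refine ⟨I, hI, r, a, hr, ha, ⟨eC⟩, ⟨eP'⟩, ⟨?_⟩, ⟨?_⟩⟩
  · refine .trans (.opOp k C) <| .trans (.op ?_) (.symm .mopMatrix)
    exact .trans (.moduleEndSelf k) <| .trans (eC.conjAlgEquiv k) (endVecAlgEquivMatrixEnd ..)
  · refine .trans (.op ?_) (.symm .mopMatrix)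
    exact .trans (eP'.conjAlgEquiv k) (endVecAlgEquivMatrixEnd ..)


set_option backward.isDefEq.respectTransparency false in
theorem exists_morita' (k : Type*) [Field k] (C : Type w) [Ring C] [Algebra k C] [IsSimpleRing C]
    [FiniteDimensional k C]
    (P : Type*) [AddCommGroup P] [Module C P] [Module k P] [IsScalarTower k C P]
    [FiniteDimensional k P] [Nontrivial P] :
    ∃ (D : Type w) (_ : DivisionRing D) (_ : Algebra k D) (_ : Module.Finite k D) (r a : ℕ),
      0 < r ∧ 0 < a ∧
      Nonempty (C ≃ₐ[k] Matrix (Fin r) (Fin r) D) ∧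
      Nonempty ((Module.End C P)ᵐᵒᵖ ≃ₐ[k] Matrix (Fin a) (Fin a) D) ∧
      Module.finrank k P = a * r * Module.finrank k D ∧
      Module.finrank k C = r * r * Module.finrank k D := by
  classical
  obtain ⟨I, hI, r, a, hr, ha, ⟨eC⟩, ⟨eP⟩, ⟨e1⟩, ⟨e2⟩⟩ := exists_morita k C P
  haveI : Module.Finite k (Matrix (Fin r) (Fin r) (Module.End C I)ᵐᵒᵖ) :=
    Module.Finite.equiv e1.toLinearEquiv
  haveI hDfin : Module.Finite k (Module.End C I)ᵐᵒᵖ :=
    .of_surjective (Matrix.entryLinearMap k _ (0 : Fin r) (0 : Fin r)) fun f ↦ ⟨fun _ _ ↦ f, rfl⟩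
  haveI : Module.Finite k I :=
    Module.Finite.of_injective ((I.subtype).restrictScalars k) Subtype.val_injective
  have hrpos : 0 < r := Nat.pos_of_ne_zero hr.out
  have hapos : 0 < a := Nat.pos_of_ne_zero ha.out
  have h1 : Module.finrank k C = r * Module.finrank k I := by
    rw [(eC.restrictScalars k).finrank_eq, Module.finrank_pi_fintype]
    simp
  have h2 : Module.finrank k P = a * Module.finrank k I := by
    rw [(eP.restrictScalars k).finrank_eq, Module.finrank_pi_fintype]
    simp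
  have h3 : Module.finrank k C = r * r * Module.finrank k (Module.End C I)ᵐᵒᵖ := by
    rw [e1.toLinearEquiv.finrank_eq, Module.finrank_matrix]
    simp
  have h4 : Module.finrank k I = r * Module.finrank k (Module.End C I)ᵐᵒᵖ := by
    have : r * Module.finrank k I = r * (r * Module.finrank k (Module.End C I)ᵐᵒᵖ) := by
      rw [← h1, h3, mul_assoc]
    exact Nat.eq_of_mul_eq_mul_left hrpos this
  refine ⟨(Module.End C I)ᵐᵒᵖ, inferInstance, inferInstance, hDfin, r, a, hrpos, hapos, ⟨e1⟩, ⟨e2⟩, ?_, h3⟩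
  rw [h2, h4, mul_assoc]


end Groth.Agent.Helper20.Morita
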