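import Groth.Agent.Lib.Helper20.CycAlg
import Groth.Agent.Lib.Helper20.Morita

set_option autoImplicit false
open scoped TensorProduct

namespace Groth.Agent.Helper20.CycAlg

open Groth.Agent.Helper20.Morita

section Embed

variable {k : Type*} {K : Type*} [Field k] [Field K] [Algebra k K]
  {A : Type*} [Ring A] [Algebra k A]

theorem one_tmul_algebraMap (r : k) :
    (1 : K) ⊗ₜ[k] (algebraMap k A r) = algebraMap K (K ⊗[k] A) (algebraMap k K r) := by
  rw [Algebra.TensorProduct.algebraMap_apply, Algebra.algebraMap_eq_smul_one r,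
    TensorProduct.tmul_smul, TensorProduct.smul_tmul', ← Algebra.algebraMap_eq_smul_one]
  rfl

/-- the action of `A` on `K^n` through a splitting -/
noncomputable def actHom {n : ℕ} (φ : K ⊗[k] A ≃ₐ[K] Matrix (Fin n) (Fin n) K) :
    A →ₐ[k] Module.End k (Fin n → K) where
  toFun a :=
    { toFun := fun v => (φ (1 ⊗ₜ[k] a)).mulVec v
      map_add' := Matrix.mulVec_add _
      map_smul' := fun r v => Matrix.mulVec_smul _ r v }
  map_one' := by
    apply LinearMap.ext; intro v
    show (φ (1 ⊗ₜ[k] (1 : A))).mulVec v = v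
    rw [← Algebra.TensorProduct.one_def, map_one, Matrix.one_mulVec]
  map_mul' a b := by
    apply LinearMap.ext; intro v
    show (φ (1 ⊗ₜ[k] (a * b))).mulVec v = (φ (1 ⊗ₜ[k] a)).mulVec ((φ (1 ⊗ₜ[k] b)).mulVec v)
    rw [Matrix.mulVec_mulVec, ← map_mul, Algebra.TensorProduct.tmul_mul_tmul, mul_one]
  map_zero' := by
    apply LinearMap.ext; intro v
    show (φ (1 ⊗ₜ[k] (0 : A))).mulVec v = 0
    rw [TensorProduct.tmul_zero, map_zero, Matrix.zero_mulVec]
  map_add' a b := by
    apply LinearMap.ext; intro v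
    show (φ (1 ⊗ₜ[k] (a + b))).mulVec v = (φ (1 ⊗ₜ[k] a)).mulVec v + (φ (1 ⊗ₜ[k] b)).mulVec v
    rw [TensorProduct.tmul_add, map_add, Matrix.add_mulVec]
  commutes' r := by
    apply LinearMap.ext; intro v
    show (φ (1 ⊗ₜ[k] (algebraMap k A r))).mulVec v = algebraMap k (Module.End k (Fin n → K)) r v
    rw [one_tmul_algebraMap, AlgEquiv.commutes, Algebra.algebraMap_eq_smul_one, Matrix.smul_mulVec,
      Matrix.one_mulVec, Module.algebraMap_end_apply, algebraMap_smul]

theorem actHom_apply {n : ℕ} (φ : K ⊗[k] A ≃ₐ[K] Matrix (Fin n) (Fin n) K) (a : A) (v : Fin n → K) :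
    actHom φ a v = (φ (1 ⊗ₜ[k] a)).mulVec v := rfl

theorem actHom_smul {n : ℕ} (φ : K ⊗[k] A ≃ₐ[K] Matrix (Fin n) (Fin n) K) (a : A) (x : K)
    (v : Fin n → K) : actHom φ a (x • v) = x • actHom φ a v := by
  rw [actHom_apply, actHom_apply, Matrix.mulVec_smul]

theorem size_eq' [FiniteDimensional k A] [FiniteDimensional k K] {n : ℕ}
    (φ : K ⊗[k] A ≃ₐ[K] Matrix (Fin n) (Fin n) K) : Module.finrank k A = n ^ 2 := by
  have h1 : Module.finrank K (K ⊗[k] A) = Module.finrank k A := Module.finrank_baseChange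
  have h2 := φ.toLinearEquiv.finrank_eq
  rw [h1, Module.finrank_matrix] at h2
  simp only [Module.finrank_self, Fintype.card_fin, mul_one] at h2
  rw [h2, sq]

set_option backward.isDefEq.respectTransparency false in
/-- A splitting field of degree `deg A` embeds in `A`. -/
theorem exists_embedding [FiniteDimensional k K] [Algebra.IsCentral k A] [IsSimpleRing A]
    [FiniteDimensional k A] {n : ℕ}
    (φ : K ⊗[k] A ≃ₐ[K] Matrix (Fin n) (Fin n) K)
    (hdim : Module.finrank k A = Module.finrank k K ^ 2) : Nonempty (K →ₐ[k] A) := by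
  have hn2 := size_eq' φ
  have hn : n = Module.finrank k K := by
    rw [hdim] at hn2
    exact (Nat.pow_left_injective (by norm_num : 2 ≠ 0) hn2).symm
  let g := actHom φ
  have hfr : Module.finrank k (Tw g) = Module.finrank k A := by
    show Module.finrank k (Fin n → K) = _
    rw [Module.finrank_pi_fintype, hdim, ← hn]
    simp [sq]
  obtain ⟨e⟩ := linearEquiv_of_finrank_eq k A (Tw g) A hfr
  let E : (Fin n → K) → A := fun v => e v
  let E' : A → (Fin n → K) := fun a => e.symm a
  have hE : ∀ (a : A) (v : Fin n → K), E (g a v) = a * E v := by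
    intro a v
    have h1 := e.map_smul a (show Tw g from v)
    rw [Tw.smul_def] at h1
    exact h1
  have hE' : ∀ (a b : A), E' (a * b) = g a (E' b) := by
    intro a b
    have h1 := e.symm.map_smul a b
    rw [Tw.smul_def] at h1
    exact h1
  have hEE' : ∀ a, E (E' a) = a := fun a => e.apply_symm_apply a
  have hE'E : ∀ v, E' (E v) = v := fun v => e.symm_apply_apply v
  have hEadd : ∀ v w, E (v + w) = E v + E w := fun v w => e.map_add v w
  have hEsmul : ∀ (r : k) v, E (r • v) = r • E v := fun r v => (e.restrictScalars k).map_smul r v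
  set w₀ := E' 1 with hw₀
  have key : ∀ x : K, x • w₀ = g (E (x • w₀)) w₀ := by
    intro x
    have := hE' (E (x • w₀)) 1
    rw [mul_one, hE'E] at this
    exact this
  refine ⟨
    { toFun := fun x => E (x • w₀)
      map_one' := by rw [one_smul, hw₀, hEE']
      map_mul' := fun x x' => by
        show E ((x * x') • w₀) = E (x • w₀) * E (x' • w₀)
        calc E ((x * x') • w₀) = E (x' • (x • w₀)) := by rw [mul_comm, mul_smul]
          _ = E (x' • g (E (x • w₀)) w₀) := by rw [← key x]
          _ = E (g (E (x • w₀)) (x' • w₀)) := by rw [actHom_smul]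
          _ = E (x • w₀) * E (x' • w₀) := hE _ _
      map_zero' := by
        show E ((0 : K) • w₀) = 0
        rw [zero_smul]; exact e.map_zero
      map_add' := fun x x' => by
        show E ((x + x') • w₀) = E (x • w₀) + E (x' • w₀)
        rw [add_smul, hEadd]
      commutes' := fun r => by
        show E ((algebraMap k K r) • w₀) = algebraMap k A r
        rw [algebraMap_smul, hEsmul, hw₀, hEE', Algebra.algebraMap_eq_smul_one] }⟩

end Embed

section FromEmbedding

variable {k : Type*} {K : Type*} [Field k] [Field K] [Algebra k K]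
  {A : Type*} [Ring A] [Algebra k A]

theorem Cyc.fixed_of_commute {σ : K ≃ₐ[k] K} (c : Cyc k K σ A) [Nontrivial A] (x₀ : K)
    (h : c.ι x₀ * c.y = c.y * c.ι x₀) : σ x₀ = x₀ := by
  rw [c.rel] at h
  exact c.ι.toRingHom.injective (c.unit.mul_left_cancel h)

theorem mem_range_of_fixed [FiniteDimensional k K] [IsGalois k K] {σ : K ≃ₐ[k] K}
    (hσ : ∀ τ : K ≃ₐ[k] K, τ ∈ Subgroup.zpowers σ) (x₀ : K) (h : σ x₀ = x₀) :
    ∃ r : k, algebraMap k K r = x₀ := by
  have h4 : ∀ τ : K ≃ₐ[k] K, τ x₀ = x₀ := by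
    intro τ
    obtain ⟨n, rfl⟩ := Subgroup.mem_zpowers_iff.mp (hσ τ)
    have hfix : σ ∈ MulAction.stabilizer (K ≃ₐ[k] K) x₀ := h
    exact (MulAction.stabilizer (K ≃ₐ[k] K) x₀).zpow_mem hfix n
  exact (IsGalois.mem_range_algebraMap_iff_fixed x₀).mpr h4

theorem Cyc.mem_adjoin {σ : K ≃ₐ[k] K} (c : Cyc k K σ A) (m : ℕ) (x : Fin m → K) :
    c.Phi m x ∈ Algebra.adjoin k (Set.range c.ι ∪ {c.y}) := by
  rw [c.Phi_apply]
  refine Subalgebra.sum_mem _ fun j _ => ?_
  refine Subalgebra.mul_mem _ (Subalgebra.pow_mem _ ?_ _) ?_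
  · exact Algebra.subset_adjoin (Or.inr rfl)
  · exact Algebra.subset_adjoin (Or.inl ⟨_, rfl⟩)

theorem isCyclicAlg_of_cyc [FiniteDimensional k K] [IsGalois k K] {σ : K ≃ₐ[k] K}
    (hσ : ∀ τ : K ≃ₐ[k] K, τ ∈ Subgroup.zpowers σ) [Nontrivial A] (c : Cyc k K σ A)
    (hdim : Module.finrank k A = Module.finrank k K ^ 2) :
    ∃ b : kˣ, c.y ^ Module.finrank k K = algebraMap k A (b : k) ∧ CSAGal.IsCyclicAlg k K σ b A := by
  have hord := orderOf_eq_finrank hσ
  have hm0 : 0 < Module.finrank k K := Module.finrank_pos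
  have hbij := c.Phi_bijective (le_of_eq hord.symm) hdim
  have hcomm : ∀ a : K, c.ι a * c.y ^ Module.finrank k K = c.y ^ Module.finrank k K * c.ι a := by
    intro a
    rw [c.rel_pow, ← hord, pow_orderOf_eq_one]
    rfl
  obtain ⟨x₀, hx₀⟩ := c.mem_range_of_commute _ (le_of_eq hord.symm) hm0 hbij.2 _ hcomm
  have h1 : c.ι x₀ * c.y = c.y * c.ι x₀ := by
    rw [← hx₀, ← pow_succ, ← pow_succ']
  obtain ⟨b₀, hb₀⟩ := mem_range_of_fixed hσ x₀ (c.fixed_of_commute x₀ h1)
  have hyb : c.y ^ Module.finrank k K = algebraMap k A b₀ := by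
    rw [hx₀, ← hb₀, AlgHom.commutes]
  have hb0 : b₀ ≠ 0 := by
    rintro rfl
    rw [map_zero] at hyb
    exact (c.unit.pow _).ne_zero hyb
  refine ⟨Units.mk0 b₀ hb0, hyb, c.ι, c.y, hyb, c.rel, ?_, hm0, hdim⟩
  rw [eq_top_iff]
  intro a _
  obtain ⟨x, rfl⟩ := hbij.2 a
  exact c.mem_adjoin _ x

theorem isCyclicAlg_of_embedding [FiniteDimensional k K] [IsGalois k K] {σ : K ≃ₐ[k] K}
    (hσ : ∀ τ : K ≃ₐ[k] K, τ ∈ Subgroup.zpowers σ)
    [Algebra.IsCentral k A] [IsSimpleRing A] [FiniteDimensional k A] (ι : K →ₐ[k] A)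
    (hdim : Module.finrank k A = Module.finrank k K ^ 2) :
    ∃ b : kˣ, CSAGal.IsCyclicAlg k K σ b A := by
  obtain ⟨u, w, huw, hwu, hconj⟩ := skolem_noether k K A ι (ι.comp (σ : K →ₐ[k] K))
  have hrel : ∀ x, ι x * w = w * ι (σ x) := by
    intro x
    have h1 : ι (σ x) = u * ι x * w := hconj x
    rw [h1, ← mul_assoc, ← mul_assoc, hwu, one_mul]
  let c : Cyc k K σ A := ⟨ι, w, hrel, ⟨⟨w, u, hwu, huw⟩, rfl⟩⟩
  obtain ⟨b, -, hb⟩ := isCyclicAlg_of_cyc hσ c hdim
  exact ⟨b, hb⟩

end FromEmbedding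

section BrauerEquiv

universe w

theorem isCentral_of_matrix (k : Type*) [Field k] (D : Type*) [Ring D] [Algebra k D] (r : ℕ) (hr : 0 < r)
    [Algebra.IsCentral k (Matrix (Fin r) (Fin r) D)] : Algebra.IsCentral k D := by
  constructor
  intro z hz
  rw [Subalgebra.mem_center_iff] at hz
  have h1 : Matrix.scalar (Fin r) z ∈ Subalgebra.center k (Matrix (Fin r) (Fin r) D) := by
    rw [Subalgebra.mem_center_iff]
    intro M
    exact ((Matrix.scalar_commute z (fun r' => (hz r').symm) M).eq).symm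
  rw [Algebra.IsCentral.center_eq_bot, Algebra.mem_bot] at h1
  obtain ⟨c, hc⟩ := h1
  rw [Algebra.mem_bot]
  refine ⟨c, ?_⟩
  have := congrFun (congrFun hc ⟨0, hr⟩) ⟨0, hr⟩
  simpa [Matrix.algebraMap_matrix_apply] using this

variable {k : Type*} {K : Type*} [Field k] [Field K] [Algebra k K]
  {A : Type w} [Ring A] [Algebra k A]

/-- scalar multiplication by `K` on `K^n`, as endomorphisms commuting with `A` -/
noncomputable def scalarHom {n : ℕ} (φ : K ⊗[k] A ≃ₐ[K] Matrix (Fin n) (Fin n) K) :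
    K →ₐ[k] (Module.End A (Tw (actHom φ)))ᵐᵒᵖ where
  toFun x := MulOpposite.op
    { toFun := fun v => (x • (show Fin n → K from v) : Fin n → K)
      map_add' := fun v w => smul_add x (show Fin n → K from v) (show Fin n → K from w)
      map_smul' := fun a v => by
        simp only [RingHom.id_apply]
        rw [Tw.smul_def, Tw.smul_def]
        exact (actHom_smul φ a x v).symm }
  map_one' := by
    rw [← MulOpposite.op_one]
    congr 1
    apply LinearMap.ext; intro v
    exact one_smul K (show Fin n → K from v)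
  map_mul' x x' := by
    rw [← MulOpposite.op_mul]
    congr 1
    apply LinearMap.ext; intro v
    show (x * x') • (show Fin n → K from v) = x' • (x • (show Fin n → K from v))
    rw [mul_comm, mul_smul]
  map_zero' := by
    rw [← MulOpposite.op_zero]
    congr 1
    apply LinearMap.ext; intro v
    exact zero_smul K (show Fin n → K from v)
  map_add' x x' := by
    rw [← MulOpposite.op_add]
    congr 1
    apply LinearMap.ext; intro v
    exact add_smul x x' (show Fin n → K from v)
  commutes' r := by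
    rw [MulOpposite.algebraMap_apply]
    congr 1
    apply LinearMap.ext; intro v
    show (algebraMap k K r) • (show Fin n → K from v) = _
    rw [algebraMap_smul, Module.algebraMap_end_apply]
    rfl

set_option backward.isDefEq.respectTransparency false in
theorem exists_cyclic_brauerEquivalent [FiniteDimensional k K] [IsGalois k K] {σ : K ≃ₐ[k] K}
    (hσ : ∀ τ : K ≃ₐ[k] K, τ ∈ Subgroup.zpowers σ)
    [Algebra.IsCentral k A] [IsSimpleRing A] [FiniteDimensional k A] {n : ℕ} (hn : n ≠ 0)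
    (φ : K ⊗[k] A ≃ₐ[K] Matrix (Fin n) (Fin n) K) :
    ∃ (b : kˣ) (B : Type w) (_ : Ring B) (_ : Algebra k B), CSAGal.IsCyclicAlg k K σ b B ∧
        ∃ n' m' : ℕ, n' ≠ 0 ∧ m' ≠ 0 ∧
          Nonempty (Matrix (Fin n') (Fin n') A ≃ₐ[k] Matrix (Fin m') (Fin m') B) := by
  classical
  haveI : Nonempty (Fin n) := ⟨⟨0, Nat.pos_of_ne_zero hn⟩⟩
  haveI : Nontrivial (Tw (actHom φ)) := (inferInstance : Nontrivial (Fin n → K))
  obtain ⟨D, _, _, _, r, a, hr, ha, ⟨eA⟩, ⟨eE⟩, hP, hA⟩ := exists_morita' k A (Tw (actHom φ))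
  haveI : Nonempty (Fin a) := ⟨⟨0, ha⟩⟩
  haveI : Algebra.IsCentral k (Matrix (Fin r) (Fin r) D) := Algebra.IsCentral.of_algEquiv k A _ eA
  haveI : Algebra.IsCentral k D := isCentral_of_matrix k D r hr
  let ιB : K →ₐ[k] Matrix (Fin a) (Fin a) D := (eE : _ →ₐ[k] _).comp (scalarHom φ)
  have hm0 : 0 < Module.finrank k K := Module.finrank_pos
  have hdD : 0 < Module.finrank k D := Module.finrank_pos
  have hP' : n * Module.finrank k K = a * r * Module.finrank k D := by
    rw [← hP]
    show _ = Module.finrank k (Fin n → K)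
    rw [Module.finrank_pi_fintype]
    simp
  have hA' : n * n = r * r * Module.finrank k D := by
    rw [← hA, size_eq' φ, sq]
  have hB : Module.finrank k (Matrix (Fin a) (Fin a) D) = Module.finrank k K ^ 2 := by
    rw [Module.finrank_matrix]
    simp only [Fintype.card_fin]
    have hpos : 0 < r * r * Module.finrank k D := by positivity
    apply Nat.eq_of_mul_eq_mul_right hpos
    calc a * a * Module.finrank k D * (r * r * Module.finrank k D)
        = (a * r * Module.finrank k D) * (a * r * Module.finrank k D) := by ring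
      _ = (n * Module.finrank k K) * (n * Module.finrank k K) := by rw [hP']
      _ = Module.finrank k K ^ 2 * (n * n) := by ring
      _ = Module.finrank k K ^ 2 * (r * r * Module.finrank k D) := by rw [hA']
  obtain ⟨b, hb⟩ := isCyclicAlg_of_embedding hσ ιB hB
  refine ⟨b, Matrix (Fin a) (Fin a) D, inferInstance, inferInstance, hb, a, r, ha.ne', hr.ne', ⟨?_⟩⟩
  exact (eA.mapMatrix (m := Fin a)).trans <|
    (Matrix.compAlgEquiv (Fin a) (Fin r) D k).trans <|
    (Matrix.reindexAlgEquiv k D (Equiv.prodComm (Fin a) (Fin r))).trans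
    (Matrix.compAlgEquiv (Fin r) (Fin a) D k).symm

end BrauerEquiv

end Groth.Agent.Helper20.CycAlg
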