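import Groth.Agent.Lib.Helper20.CycAlg2

set_option autoImplicit false
open scoped TensorProduct
namespace Groth.Agent.Helper20.CycAlg

section LemmaU

variable {k : Type*} {K : Type*} [Field k] [Field K] [Algebra k K] {σ : K ≃ₐ[k] K}
  {A : Type*} [Ring A] [Algebra k A] {A' : Type*} [Ring A'] [Algebra k A']

/-- `y^n ι z` in terms of `Phi` when `y^m` is a scalar. -/
theorem Cyc.pow_mul_ι_eq (c : Cyc k K σ A) (m : ℕ) (hm0 : 0 < m) (b : k)
    (hb : c.y ^ m = algebraMap k A b) (n : ℕ) (z : K) :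
    c.y ^ n * c.ι z = c.Phi m (Pi.single (⟨n % m, Nat.mod_lt _ hm0⟩ : Fin m) (b ^ (n / m) • z)) := by
  rw [c.Phi_single]
  conv_lhs => rw [← Nat.div_add_mod n m, pow_add, pow_mul, hb, ← map_pow]
  simp only [map_smul]
  rw [Algebra.smul_def, Algebra.commutes, mul_assoc]

/-- The comparison map between two cyclic pairs. -/
noncomputable def Cyc.compare (c : Cyc k K σ A) (c' : Cyc k K σ A') (m : ℕ)
    (hbij : Function.Bijective (c.Phi m)) : A →ₗ[k] A' :=
  (c'.Phi m) ∘ₗ ((LinearEquiv.ofBijective (c.Phi m) hbij).symm : A →ₗ[k] (Fin m → K))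

theorem Cyc.compare_Phi (c : Cyc k K σ A) (c' : Cyc k K σ A') (m : ℕ)
    (hbij : Function.Bijective (c.Phi m)) (x : Fin m → K) :
    c.compare c' m hbij (c.Phi m x) = c'.Phi m x := by
  unfold Cyc.compare
  rw [LinearMap.comp_apply]
  congr 1
  exact (LinearEquiv.ofBijective (c.Phi m) hbij).symm_apply_apply x

theorem Cyc.compare_pow_mul_ι (c : Cyc k K σ A) (c' : Cyc k K σ A') (m : ℕ) (hm0 : 0 < m)
    (hbij : Function.Bijective (c.Phi m)) (b : k)
    (hb : c.y ^ m = algebraMap k A b) (hb' : c'.y ^ m = algebraMap k A' b) (n : ℕ) (z : K) :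
    c.compare c' m hbij (c.y ^ n * c.ι z) = c'.y ^ n * c'.ι z := by
  rw [c.pow_mul_ι_eq m hm0 b hb, c.compare_Phi, ← c'.pow_mul_ι_eq m hm0 b hb']

theorem Cyc.compare_mul (c : Cyc k K σ A) (c' : Cyc k K σ A') (m : ℕ) (hm0 : 0 < m)
    (hbij : Function.Bijective (c.Phi m)) (b : k)
    (hb : c.y ^ m = algebraMap k A b) (hb' : c'.y ^ m = algebraMap k A' b) (a a' : A) :
    c.compare c' m hbij (a * a') = c.compare c' m hbij a * c.compare c' m hbij a' := by
  obtain ⟨x, rfl⟩ := hbij.2 a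
  obtain ⟨x', rfl⟩ := hbij.2 a'
  rw [c.compare_Phi, c.compare_Phi, c.Phi_apply, c.Phi_apply, c'.Phi_apply, c'.Phi_apply,
    Finset.sum_mul_sum, Finset.sum_mul_sum, map_sum]
  refine Finset.sum_congr rfl fun i _ => ?_
  rw [map_sum]
  refine Finset.sum_congr rfl fun j _ => ?_
  have h1 : ∀ (d : Cyc k K σ A), c.y ^ (i : ℕ) * c.ι (x i) * (c.y ^ (j : ℕ) * c.ι (x' j)) =
      c.y ^ ((i : ℕ) + (j : ℕ)) * c.ι ((σ ^ (j : ℕ)) (x i) * x' j) := by
    intro _
    rw [mul_assoc, ← mul_assoc (c.ι (x i)), c.rel_pow, pow_add, map_mul]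
    simp only [mul_assoc]
  have h2 : c'.y ^ (i : ℕ) * c'.ι (x i) * (c'.y ^ (j : ℕ) * c'.ι (x' j)) =
      c'.y ^ ((i : ℕ) + (j : ℕ)) * c'.ι ((σ ^ (j : ℕ)) (x i) * x' j) := by
    rw [mul_assoc, ← mul_assoc (c'.ι (x i)), c'.rel_pow, pow_add, map_mul]
    simp only [mul_assoc]
  rw [h1 c, h2, c.compare_pow_mul_ι c' m hm0 hbij b hb hb']

theorem Cyc.compare_one (c : Cyc k K σ A) (c' : Cyc k K σ A') (m : ℕ) (hm0 : 0 < m)
    (hbij : Function.Bijective (c.Phi m)) (b : k)
    (hb : c.y ^ m = algebraMap k A b) (hb' : c'.y ^ m = algebraMap k A' b) :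
    c.compare c' m hbij 1 = 1 := by
  have := c.compare_pow_mul_ι c' m hm0 hbij b hb hb' 0 1
  simpa using this

/-- The comparison algebra hom. -/
noncomputable def Cyc.compareHom (c : Cyc k K σ A) (c' : Cyc k K σ A') (m : ℕ) (hm0 : 0 < m)
    (hbij : Function.Bijective (c.Phi m)) (b : k)
    (hb : c.y ^ m = algebraMap k A b) (hb' : c'.y ^ m = algebraMap k A' b) : A →ₐ[k] A' :=
  AlgHom.ofLinearMap (c.compare c' m hbij) (c.compare_one c' m hm0 hbij b hb hb')
    (c.compare_mul c' m hm0 hbij b hb hb')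

theorem Cyc.compareHom_ι (c : Cyc k K σ A) (c' : Cyc k K σ A') (m : ℕ) (hm0 : 0 < m)
    (hbij : Function.Bijective (c.Phi m)) (b : k)
    (hb : c.y ^ m = algebraMap k A b) (hb' : c'.y ^ m = algebraMap k A' b) (z : K) :
    c.compareHom c' m hm0 hbij b hb hb' (c.ι z) = c'.ι z := by
  have := c.compare_pow_mul_ι c' m hm0 hbij b hb hb' 0 z
  simp only [pow_zero, one_mul] at this
  exact this

theorem Cyc.compareHom_y (c : Cyc k K σ A) (c' : Cyc k K σ A') (m : ℕ) (hm0 : 0 < m)
    (hbij : Function.Bijective (c.Phi m)) (b : k)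
    (hb : c.y ^ m = algebraMap k A b) (hb' : c'.y ^ m = algebraMap k A' b) :
    c.compareHom c' m hm0 hbij b hb hb' c.y = c'.y := by
  have := c.compare_pow_mul_ι c' m hm0 hbij b hb hb' 1 1
  simp only [pow_one, map_one, mul_one] at this
  exact this

theorem Cyc.compare_bijective (c : Cyc k K σ A) (c' : Cyc k K σ A') (m : ℕ)
    (hbij : Function.Bijective (c.Phi m)) (hbij' : Function.Bijective (c'.Phi m)) :
    Function.Bijective (c.compare c' m hbij) := by
  unfold Cyc.compare
  rw [LinearMap.coe_comp]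
  exact hbij'.comp (LinearEquiv.ofBijective (c.Phi m) hbij).symm.bijective

/-- Uniqueness of the cyclic algebra. -/
theorem Cyc.nonempty_algEquiv [FiniteDimensional k K] [Nontrivial A] [Nontrivial A']
    (c : Cyc k K σ A) (c' : Cyc k K σ A')
    (hord : orderOf σ = Module.finrank k K)
    (hdim : Module.finrank k A = Module.finrank k K ^ 2)
    (hdim' : Module.finrank k A' = Module.finrank k K ^ 2) (b : k)
    (hb : c.y ^ Module.finrank k K = algebraMap k A b)
    (hb' : c'.y ^ Module.finrank k K = algebraMap k A' b) :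
    Nonempty (A ≃ₐ[k] A') := by
  have hm0 : 0 < Module.finrank k K := Module.finrank_pos
  have hbij := c.Phi_bijective (le_of_eq hord.symm) hdim
  have hbij' := c'.Phi_bijective (le_of_eq hord.symm) hdim'
  exact ⟨AlgEquiv.ofBijective (c.compareHom c' _ hm0 hbij b hb hb')
    (c.compare_bijective c' _ hbij hbij')⟩

/-- Extract a `Cyc` from `IsCyclicAlg`. -/
theorem exists_cyc_of_isCyclicAlg (b : kˣ) (h : CSAGal.IsCyclicAlg k K σ b A) :
    ∃ c : Cyc k K σ A, c.y ^ Module.finrank k K = algebraMap k A (b : k) ∧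
      0 < Module.finrank k K ∧ Module.finrank k A = Module.finrank k K ^ 2 ∧ Nontrivial A := by
  obtain ⟨ι, y, hy, hrel, -, hpos, hdim⟩ := h
  have hnt : Nontrivial A := by
    apply Module.nontrivial_of_finrank_pos (R := k)
    rw [hdim]; positivity
  refine ⟨⟨ι, y, hrel, ?_⟩, hy, hpos, hdim, hnt⟩
  have hu : IsUnit (y ^ Module.finrank k K) := by
    rw [hy]
    exact (b.isUnit.map (algebraMap k A))
  exact (isUnit_pow_iff hpos.ne').mp hu

theorem nonempty_algEquiv_of_isCyclicAlg [FiniteDimensional k K] [IsGalois k K]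
    (hσ : ∀ τ : K ≃ₐ[k] K, τ ∈ Subgroup.zpowers σ) (b : kˣ)
    (h : CSAGal.IsCyclicAlg k K σ b A) (h' : CSAGal.IsCyclicAlg k K σ b A') :
    Nonempty (A ≃ₐ[k] A') := by
  obtain ⟨c, hy, -, hdim, hnt⟩ := exists_cyc_of_isCyclicAlg b h
  obtain ⟨c', hy', -, hdim', hnt'⟩ := exists_cyc_of_isCyclicAlg b h'
  exact c.nonempty_algEquiv c' (orderOf_eq_finrank hσ) hdim hdim' _ hy hy'

end LemmaU

end Groth.Agent.Helper20.CycAlg

namespace Groth.Agent.Helper20.CycAlg

section Norm

variable {k : Type*} {K : Type*} [Field k] [Field K] [Algebra k K]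

theorem norm_eq_prod_pow [FiniteDimensional k K] [IsGalois k K] {σ : K ≃ₐ[k] K}
    (hσ : ∀ τ : K ≃ₐ[k] K, τ ∈ Subgroup.zpowers σ) (u : K) :
    algebraMap k K (Algebra.norm k u) = ∏ i ∈ Finset.range (Module.finrank k K), (σ ^ i) u := by
  classical
  rw [Algebra.norm_eq_prod_automorphisms]
  have hord := orderOf_eq_finrank hσ
  have hinj : Set.InjOn (fun i : ℕ => σ ^ i) (Finset.range (Module.finrank k K) : Set ℕ) := by
    intro i hi j hj h
    rw [Finset.coe_range, ← hord] at hi hj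
    exact pow_injOn_Iio_orderOf hi hj h
  have himg : Finset.image (fun i : ℕ => σ ^ i) (Finset.range (Module.finrank k K)) = Finset.univ := by
    apply Finset.eq_univ_of_card
    rw [Finset.card_image_of_injOn hinj, Finset.card_range, ← IsGalois.card_aut_eq_finrank,
      Nat.card_eq_fintype_card]
  rw [← himg, Finset.prod_image hinj]

theorem hσ_symm {σ : K ≃ₐ[k] K}
    (hσ : ∀ τ : K ≃ₐ[k] K, τ ∈ Subgroup.zpowers σ) : ∀ τ : K ≃ₐ[k] K, τ ∈ Subgroup.zpowers σ⁻¹ := by
  intro τ
  rw [Subgroup.zpowers_inv]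
  exact hσ τ

variable {σ : K ≃ₐ[k] K} {A : Type*} [Ring A] [Algebra k A] (c : Cyc k K σ A)

theorem Cyc.mul_ι_pow (u : K) (j : ℕ) :
    (c.y * c.ι u) ^ j = c.y ^ j * c.ι (∏ i ∈ Finset.range j, (σ ^ i) u) := by
  induction j with
  | zero => simp
  | succ j ih =>
    rw [pow_succ, ih, Finset.prod_range_succ', mul_assoc, ← mul_assoc (c.ι _) c.y, c.rel, pow_succ,
      map_mul, map_prod]
    simp only [mul_assoc, pow_zero, AlgEquiv.one_apply, pow_succ', AlgEquiv.mul_apply]

/-- twist a cyclic pair by an element of `K` -/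
noncomputable def Cyc.twist (u : K) (hu : u ≠ 0) : Cyc k K σ A where
  ι := c.ι
  y := c.y * c.ι u
  rel := by
    intro x
    rw [← mul_assoc, c.rel, mul_assoc, mul_assoc, ← map_mul, ← map_mul, mul_comm]
  unit := c.unit.mul ((isUnit_iff_ne_zero.mpr hu).map c.ι)

end Norm

end Groth.Agent.Helper20.CycAlg

namespace Groth.Agent.Helper20.CycAlg

open Groth.Agent.Helper20.Morita

section SplitNorm

variable {k : Type*} {K : Type*} [Field k] [Field K] [Algebra k K]

theorem exists_generator [FiniteDimensional k K] {V : Type*} [AddCommGroup V] [Module k V]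
    (ρ : K →ₐ[k] Module.End k V)
    (h : Module.finrank k V = Module.finrank k K) :
    ∃ v₀ : V, v₀ ≠ 0 ∧ ∀ w : V, ∃ z : K, ρ z v₀ = w := by
  have hpos : 0 < Module.finrank k K := Module.finrank_pos
  haveI : FiniteDimensional k V := Module.finite_of_finrank_pos (by rw [h]; exact hpos)
  haveI : Module.Finite K (Tw ρ) := Module.Finite.of_restrictScalars_finite k K (Tw ρ)
  have h1 : Module.finrank k K * Module.finrank K (Tw ρ) = Module.finrank k (Tw ρ) :=
    Module.finrank_mul_finrank k K (Tw ρ)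
  have h2 : Module.finrank k (Tw ρ) = Module.finrank k K := h
  have h3 : Module.finrank K (Tw ρ) = 1 := by
    rw [h2] at h1
    exact Nat.eq_of_mul_eq_mul_left hpos (by rw [h1, mul_one])
  obtain ⟨v, hv, hw⟩ := finrank_eq_one_iff'.mp h3
  exact ⟨v, hv, fun w => hw w⟩

theorem isNorm_of_rep [FiniteDimensional k K] [IsGalois k K] {σ : K ≃ₐ[k] K}
    (hσ : ∀ τ : K ≃ₐ[k] K, τ ∈ Subgroup.zpowers σ)
    {A : Type*} [Ring A] [Algebra k A] (c : Cyc k K σ A) (b : k)
    (hb : c.y ^ Module.finrank k K = algebraMap k A b)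
    {V : Type*} [AddCommGroup V] [Module k V] (ρ : A →ₐ[k] Module.End k V)
    (hV : Module.finrank k V = Module.finrank k K) : ∃ u : K, Algebra.norm k u = b := by
  obtain ⟨v₀, hv₀, hgen⟩ := exists_generator (ρ.comp c.ι) hV
  obtain ⟨u, hu⟩ := hgen (ρ c.y v₀)
  refine ⟨u, ?_⟩
  have hrel' : ∀ x : K, c.y * c.ι x = c.ι (σ⁻¹ x) * c.y := by
    intro x
    rw [c.rel]
    congr 2
    exact (σ.apply_symm_apply x).symm
  have key : ∀ j : ℕ, ρ (c.y ^ j) v₀ = ρ (c.ι (∏ i ∈ Finset.range j, ((σ⁻¹) ^ i) u)) v₀ := by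
    intro j
    induction j with
    | zero => simp
    | succ j ih =>
      rw [pow_succ', map_mul, Module.End.mul_apply, ih, ← Module.End.mul_apply, ← map_mul, hrel',
        map_mul, Module.End.mul_apply, ← hu, Finset.prod_range_succ']
      simp only [AlgHom.comp_apply, pow_zero, AlgEquiv.one_apply, pow_succ', AlgEquiv.mul_apply]
      rw [← Module.End.mul_apply, ← map_mul, ← map_mul, map_prod]
  have h1 := key (Module.finrank k K)
  rw [← norm_eq_prod_pow (hσ_symm hσ), hb, AlgHom.commutes, AlgHom.commutes, AlgHom.commutes,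
    Module.algebraMap_end_apply, Module.algebraMap_end_apply] at h1
  have h2 : (b - Algebra.norm k u) • v₀ = 0 := by rw [sub_smul, h1, sub_self]
  rcases smul_eq_zero.mp h2 with h | h
  · exact (sub_eq_zero.mp h).symm
  · exact absurd h hv₀

end SplitNorm

end Groth.Agent.Helper20.CycAlg

namespace Groth.Agent.Helper20.CycAlg

section EndModel

variable {k : Type*} {K : Type*} [Field k] [Field K] [Algebra k K]

theorem toLinearMap_pow (τ : K ≃ₐ[k] K) (j : ℕ) :
    (τ.toLinearMap : Module.End k K) ^ j = (τ ^ j).toLinearMap := by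
  induction j with
  | zero => rfl
  | succ j ih =>
    rw [pow_succ, ih, pow_succ]
    rfl

/-- The split model: `End_k K` with `ι = ` left multiplication, `y = σ⁻¹`. -/
noncomputable def endCyc (σ : K ≃ₐ[k] K) : Cyc k K σ (Module.End k K) where
  ι := Algebra.lmul k K
  y := (σ⁻¹).toLinearMap
  rel := by
    intro x
    apply LinearMap.ext; intro z
    show x * σ⁻¹ z = σ⁻¹ (σ x * z)
    rw [map_mul]
    congr 1
    exact (σ.symm_apply_apply x).symm
  unit := by
    refine ⟨⟨(σ⁻¹).toLinearMap, σ.toLinearMap, ?_, ?_⟩, rfl⟩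
    · apply LinearMap.ext; intro z
      exact σ.symm_apply_apply z
    · apply LinearMap.ext; intro z
      exact σ.apply_symm_apply z

theorem endCyc_pow [FiniteDimensional k K] [IsGalois k K] {σ : K ≃ₐ[k] K}
    (hσ : ∀ τ : K ≃ₐ[k] K, τ ∈ Subgroup.zpowers σ) :
    (endCyc σ).y ^ Module.finrank k K = algebraMap k (Module.End k K) 1 := by
  show ((σ⁻¹).toLinearMap : Module.End k K) ^ Module.finrank k K = _
  rw [toLinearMap_pow, inv_pow, ← orderOf_eq_finrank hσ, pow_orderOf_eq_one, inv_one, map_one]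
  rfl

theorem splits_of_isNorm [FiniteDimensional k K] [IsGalois k K] {σ : K ≃ₐ[k] K}
    (hσ : ∀ τ : K ≃ₐ[k] K, τ ∈ Subgroup.zpowers σ)
    {A : Type*} [Ring A] [Algebra k A] [Nontrivial A] (c : Cyc k K σ A) (b : k) (hb0 : b ≠ 0)
    (hb : c.y ^ Module.finrank k K = algebraMap k A b)
    (hdim : Module.finrank k A = Module.finrank k K ^ 2)
    (x : K) (hx : Algebra.norm k x = b) : Curves.Splits k A k := by
  have hx0 : x ≠ 0 := by
    rintro rfl
    rw [Algebra.norm_zero] at hx
    exact hb0 hx.symm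
  let c' := c.twist x⁻¹ (inv_ne_zero hx0)
  have hc' : c'.y ^ Module.finrank k K = algebraMap k A 1 := by
    show (c.y * c.ι x⁻¹) ^ Module.finrank k K = _
    rw [c.mul_ι_pow, ← norm_eq_prod_pow hσ, hb, AlgHom.commutes, ← map_mul, Algebra.norm_inv, hx,
      mul_inv_cancel₀ hb0]
  have hdimE : Module.finrank k (Module.End k K) = Module.finrank k K ^ 2 := by
    rw [Module.finrank_linearMap, sq]
  obtain ⟨e⟩ := c'.nonempty_algEquiv (endCyc σ) (orderOf_eq_finrank hσ) hdim hdimE 1 hc'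
    (endCyc_pow hσ)
  have hpos : 0 < Module.finrank k K := Module.finrank_pos
  refine ⟨Module.finrank k K, hpos.ne', ⟨?_⟩⟩
  exact (Algebra.TensorProduct.lid k A).trans (e.trans (algEquivMatrix (Module.finBasis k K)))

end EndModel

end Groth.Agent.Helper20.CycAlg

namespace Groth.Agent.Helper20.CycAlg

section SplitIff

variable {k : Type*} {K : Type*} [Field k] [Field K] [Algebra k K]

theorem splits_iff_isNorm [FiniteDimensional k K] [IsGalois k K] {σ : K ≃ₐ[k] K}
    (hσ : ∀ τ : K ≃ₐ[k] K, τ ∈ Subgroup.zpowers σ)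
    {A : Type*} [Ring A] [Algebra k A] (b : kˣ) (hA : CSAGal.IsCyclicAlg k K σ b A) :
    Curves.Splits k A k ↔ ∃ x : K, Algebra.norm k x = (b : k) := by
  obtain ⟨c, hy, hpos, hdim, hnt⟩ := exists_cyc_of_isCyclicAlg b hA
  constructor
  · rintro ⟨n, hn, ⟨φ⟩⟩
    haveI : FiniteDimensional k A := Module.finite_of_finrank_pos (by rw [hdim]; positivity)
    have h1 : Module.finrank k A = n ^ 2 := size_eq' φ
    have h2 : n = Module.finrank k K := by
      rw [hdim] at h1
      exact (Nat.pow_left_injective (n := 2) (by norm_num) h1).symm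
    refine isNorm_of_rep hσ c b hy (actHom φ) ?_
    rw [Module.finrank_pi_fintype]
    simp [h2]
  · rintro ⟨x, hx⟩
    exact splits_of_isNorm hσ c b b.ne_zero hy hdim x hx

end SplitIff

end Groth.Agent.Helper20.CycAlg

namespace Groth.Agent.Helper20.Morita

section TwEnd

variable {k : Type*} [Field k] {C : Type*} [Ring C] [Algebra k C] {P : Type*} [AddCommGroup P] [Module k P]

/-- `C`-linear endomorphisms of `Tw φ`, as `k`-linear maps. -/
def Tw.toEnd (φ : C →ₐ[k] Module.End k P) : Module.End C (Tw φ) →ₐ[k] Module.End k P where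
  toFun f := (f.restrictScalars k : Tw φ →ₗ[k] Tw φ)
  map_one' := rfl
  map_mul' _ _ := rfl
  map_zero' := rfl
  map_add' _ _ := rfl
  commutes' r := by
    apply LinearMap.ext; intro v
    rfl

theorem Tw.toEnd_injective (φ : C →ₐ[k] Module.End k P) : Function.Injective (Tw.toEnd φ) := by
  intro f g h
  apply LinearMap.ext; intro v
  exact congrArg (fun F : Module.End k P => F v) h

/-- a `k`-linear map commuting with the action is `C`-linear -/
def Tw.ofCommute (φ : C →ₐ[k] Module.End k P) (f : Module.End k P)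
    (h : ∀ c p, f (φ c p) = φ c (f p)) : Module.End C (Tw φ) where
  toFun := f
  map_add' := f.map_add
  map_smul' c p := h c p

theorem Tw.toEnd_ofCommute (φ : C →ₐ[k] Module.End k P) (f : Module.End k P)
    (h : ∀ c p, f (φ c p) = φ c (f p)) : Tw.toEnd φ (Tw.ofCommute φ f h) = f := rfl

end TwEnd

end Groth.Agent.Helper20.Morita
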