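import Groth.Agent.Lib.Helper20.CycAlg3

set_option autoImplicit false
open scoped TensorProduct
namespace Groth.Agent.Helper20.CycAlg
open Groth.Agent.Helper20.Morita

section RKsec

variable {k : Type*} {K : Type*} [Field k] [Field K] [Algebra k K]
  {A : Type*} [Ring A] [Algebra k A]

/-- `A` with the right `K`-module structure through `ι`. -/
def RK (_ι : K →ₐ[k] A) : Type _ := A

namespace RK

variable (ι : K →ₐ[k] A)

instance : AddCommGroup (RK ι) := inferInstanceAs (AddCommGroup A)
instance : Module k (RK ι) := inferInstanceAs (Module k A)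
instance : Module K (RK ι) := (rightModule ι : Module K A)

/-- the identity `A → RK ι` -/
def mk (a : A) : RK ι := a
/-- the identity `RK ι → A` -/
def out (v : RK ι) : A := v

theorem smul_def (x : K) (v : RK ι) : x • v = mk ι (out ι v * ι x) := rfl

instance : IsScalarTower k K (RK ι) := ⟨fun r x a => by
  show out ι a * ι (r • x) = r • (out ι a * ι x)
  rw [map_smul, mul_smul_comm]⟩

instance : SMulCommClass K k (RK ι) := ⟨fun x r a => by
  show (r • out ι a) * ι x = r • (out ι a * ι x)
  rw [smul_mul_assoc]⟩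

instance [FiniteDimensional k A] : FiniteDimensional k (RK ι) :=
  inferInstanceAs (FiniteDimensional k A)

theorem finrank_k : Module.finrank k (RK ι) = Module.finrank k A := rfl

/-- left multiplication, `K`-linear for the right structure -/
def lmul : A →ₐ[k] Module.End K (RK ι) where
  toFun a :=
    { toFun := fun v => mk ι (a * out ι v)
      map_add' := fun v w => mul_add a _ _
      map_smul' := fun x v => by
        show a * (out ι v * ι x) = (a * out ι v) * ι x
        rw [mul_assoc] }
  map_one' := by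
    apply LinearMap.ext; intro v
    exact one_mul (out ι v)
  map_mul' a b := by
    apply LinearMap.ext; intro v
    exact mul_assoc a b (out ι v)
  map_zero' := by
    apply LinearMap.ext; intro v
    exact zero_mul (out ι v)
  map_add' a b := by
    apply LinearMap.ext; intro v
    exact add_mul a b (out ι v)
  commutes' r := by
    apply LinearMap.ext; intro v
    show algebraMap k A r * out ι v = r • out ι v
    rw [Algebra.smul_def]

theorem lmul_apply (a : A) (v : RK ι) : lmul ι a v = mk ι (a * out ι v) := rfl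

end RK

end RKsec

section TensorModel

variable {k : Type*} {K : Type*} [Field k] [Field K] [Algebra k K]
  {A : Type*} [Ring A] [Algebra k A] {A' : Type*} [Ring A'] [Algebra k A']
variable (ι : K →ₐ[k] A) (ι' : K →ₐ[k] A')

/-- The bimodule `A ⊗_K A'`. -/
abbrev PP := RK ι ⊗[K] RK ι'

/-- restriction of scalars for endomorphisms, as an algebra hom -/
def restrictEnd (M : Type*) [AddCommGroup M] [Module k M] [Module K M] [IsScalarTower k K M] :
    Module.End K M →ₐ[k] Module.End k M where
  toFun f := f.restrictScalars k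
  map_one' := rfl
  map_mul' _ _ := rfl
  map_zero' := rfl
  map_add' _ _ := rfl
  commutes' r := by
    apply LinearMap.ext; intro v
    rfl

/-- action of `A` on `A ⊗_K A'` -/
noncomputable def actL : A →ₐ[k] Module.End K (PP ι ι') where
  toFun a := TensorProduct.map (RK.lmul ι a) LinearMap.id
  map_one' := by rw [map_one]; exact TensorProduct.map_id
  map_mul' a b := by
    rw [map_mul]
    exact TensorProduct.map_mul _ _ LinearMap.id LinearMap.id
  map_zero' := by rw [map_zero]; exact TensorProduct.map_zero_left _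
  map_add' a b := by rw [map_add]; exact TensorProduct.map_add_left _ _ _
  commutes' r := by
    rw [AlgHom.commutes]
    apply TensorProduct.ext'
    intro v w
    rw [TensorProduct.map_tmul]
    rfl

/-- action of `A'` on `A ⊗_K A'` -/
noncomputable def actR : A' →ₐ[k] Module.End K (PP ι ι') where
  toFun a := TensorProduct.map LinearMap.id (RK.lmul ι' a)
  map_one' := by rw [map_one]; exact TensorProduct.map_id
  map_mul' a b := by
    rw [map_mul]
    exact TensorProduct.map_mul LinearMap.id LinearMap.id _ _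
  map_zero' := by rw [map_zero]; exact TensorProduct.map_zero_right _
  map_add' a b := by rw [map_add]; exact TensorProduct.map_add_right _ _ _
  commutes' r := by
    rw [AlgHom.commutes]
    apply TensorProduct.ext'
    intro v w
    rw [TensorProduct.map_tmul]
    show v ⊗ₜ[K] (r • w) = r • (v ⊗ₜ[K] w)
    rw [← algebraMap_smul K r w, TensorProduct.tmul_smul, algebraMap_smul]

theorem actL_tmul (a : A) (v : RK ι) (w : RK ι') :
    actL ι ι' a (v ⊗ₜ[K] w) = (RK.lmul ι a v) ⊗ₜ[K] w := rfl

theorem actR_tmul (a : A') (v : RK ι) (w : RK ι') :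
    actR ι ι' a (v ⊗ₜ[K] w) = v ⊗ₜ[K] (RK.lmul ι' a w) := rfl

/-- the action of `A ⊗ A'` on `A ⊗_K A'`, `K`-linear version -/
noncomputable def actK : A ⊗[k] A' →ₐ[k] Module.End K (PP ι ι') :=
  Algebra.TensorProduct.lift (actL ι ι') (actR ι ι') (fun a a' => by
    show _ * _ = _ * _
    apply TensorProduct.ext'
    intro v w
    rfl)

/-- the action of `A ⊗ A'` on `A ⊗_K A'` -/
noncomputable def act : A ⊗[k] A' →ₐ[k] Module.End k (PP ι ι') :=
  (restrictEnd (PP ι ι')).comp (actK ι ι')

theorem act_tmul (a : A) (a' : A') (v : RK ι) (w : RK ι') :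
    act ι ι' (a ⊗ₜ[k] a') (v ⊗ₜ[K] w) = (RK.lmul ι a v) ⊗ₜ[K] (RK.lmul ι' a' w) := by
  show actK ι ι' (a ⊗ₜ[k] a') (v ⊗ₜ[K] w) = _
  unfold actK
  rw [Algebra.TensorProduct.lift_tmul]
  rfl

theorem act_smul (c : A ⊗[k] A') (x : K) (p : PP ι ι') :
    act ι ι' c (x • p) = x • act ι ι' c p :=
  (actK ι ι' c).map_smul x p

end TensorModel

section CycModel

variable {k : Type*} {K : Type*} [Field k] [Field K] [Algebra k K] {σ : K ≃ₐ[k] K}
  {A : Type*} [Ring A] [Algebra k A] {A' : Type*} [Ring A'] [Algebra k A']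
variable (c : Cyc k K σ A) (c' : Cyc k K σ A')

/-- the ring hom underlying `σ` -/
abbrev sR (σ : K ≃ₐ[k] K) : K →+* K := (σ : K →ₐ[k] K)

/-- right multiplication by `y`, `σ`-semilinear -/
def Cyc.rmul : RK c.ι →ₛₗ[sR σ] RK c.ι where
  toFun v := RK.mk c.ι (RK.out c.ι v * c.y)
  map_add' v w := (add_mul (RK.out c.ι v) (RK.out c.ι w) c.y : (_ : A) = _)
  map_smul' x v := by
    show (RK.out c.ι v * c.ι x) * c.y = (RK.out c.ι v * c.y) * c.ι (σ x)
    rw [mul_assoc, c.rel, mul_assoc]

/-- `y_E`, semilinear version -/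
noncomputable def ySemi : PP c.ι c'.ι →ₛₗ[sR σ] PP c.ι c'.ι :=
  TensorProduct.map c.rmul c'.rmul

/-- `y_E`, `k`-linear version -/
noncomputable def yk : Module.End k (PP c.ι c'.ι) where
  toFun := ySemi c c'
  map_add' := (ySemi c c').map_add
  map_smul' r p := by
    rw [← algebraMap_smul K r p, (ySemi c c').map_smulₛₗ]
    show (σ (algebraMap k K r)) • _ = _
    rw [σ.commutes, algebraMap_smul]
    rfl

theorem yk_tmul (v : RK c.ι) (w : RK c'.ι) :
    yk c c' (v ⊗ₜ[K] w) =
      (RK.mk c.ι (RK.out c.ι v * c.y)) ⊗ₜ[K] (RK.mk c'.ι (RK.out c'.ι w * c'.y)) := rfl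

theorem yk_smul (x : K) (p : PP c.ι c'.ι) : yk c c' (x • p) = σ x • yk c c' p :=
  (ySemi c c').map_smulₛₗ x p

theorem yk_pow_tmul (j : ℕ) (v : RK c.ι) (w : RK c'.ι) :
    (yk c c' ^ j) (v ⊗ₜ[K] w) =
      (RK.mk c.ι (RK.out c.ι v * c.y ^ j)) ⊗ₜ[K] (RK.mk c'.ι (RK.out c'.ι w * c'.y ^ j)) := by
  induction j with
  | zero =>
    simp only [pow_zero, mul_one]
    rfl
  | succ j ih =>
    rw [pow_succ', Module.End.mul_apply, ih, yk_tmul, pow_succ, pow_succ]
    congr 1
    · exact (mul_assoc (RK.out c.ι v) (c.y ^ j) c.y : (_ : A) = _)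
    · exact (mul_assoc (RK.out c'.ι w) (c'.y ^ j) c'.y : (_ : A') = _)

theorem yk_pow (m : ℕ) (b b' : k) (hb : c.y ^ m = algebraMap k A b)
    (hb' : c'.y ^ m = algebraMap k A' b') :
    yk c c' ^ m = algebraMap k (Module.End k (PP c.ι c'.ι)) (b * b') := by
  apply LinearMap.ext; intro p
  rw [Module.algebraMap_end_apply]
  induction p using TensorProduct.induction_on with
  | zero => rw [map_zero, smul_zero]
  | add p q hp hq => rw [map_add, hp, hq, smul_add]
  | tmul v w =>
    rw [yk_pow_tmul, hb, hb', mul_comm b b', mul_smul, TensorProduct.smul_tmul',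
      ← TensorProduct.tmul_smul]
    congr 1
    · show RK.out c.ι v * algebraMap k A b = b • RK.out c.ι v
      rw [← Algebra.commutes, Algebra.smul_def]
    · show RK.out c'.ι w * algebraMap k A' b' = b' • RK.out c'.ι w
      rw [← Algebra.commutes, Algebra.smul_def]

theorem yk_act (x : A ⊗[k] A') (p : PP c.ι c'.ι) :
    yk c c' (act c.ι c'.ι x p) = act c.ι c'.ι x (yk c c' p) := by
  induction x using TensorProduct.induction_on with
  | zero => simp
  | add x x' hx hx' => simp only [map_add, LinearMap.add_apply, hx, hx']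
  | tmul a a' =>
    induction p using TensorProduct.induction_on with
    | zero => simp
    | add p q hp hq => simp only [map_add, hp, hq]
    | tmul v w =>
      rw [act_tmul, yk_tmul, yk_tmul, act_tmul]
      congr 1
      · exact mul_assoc a _ _
      · exact mul_assoc a' _ _

/-- `y_E` as an `A ⊗ A'`-linear endomorphism -/
noncomputable def yE : Module.End (A ⊗[k] A') (Tw (act c.ι c'.ι)) :=
  Tw.ofCommute _ (yk c c') (fun x p => yk_act c c' x p)

/-- scalar multiplication by `K` as an `A ⊗ A'`-linear endomorphism -/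
noncomputable def smE : K →ₐ[k] Module.End (A ⊗[k] A') (Tw (act c.ι c'.ι)) where
  toFun x := Tw.ofCommute _ ((restrictEnd (PP c.ι c'.ι)) (algebraMap K (Module.End K (PP c.ι c'.ι)) x))
    (fun z p => (act_smul c.ι c'.ι z x p).symm)
  map_one' := by
    apply LinearMap.ext; intro p
    exact one_smul K (show PP c.ι c'.ι from p)
  map_mul' x x' := by
    apply LinearMap.ext; intro p
    exact mul_smul x x' (show PP c.ι c'.ι from p)
  map_zero' := by
    apply LinearMap.ext; intro p
    exact zero_smul K (show PP c.ι c'.ι from p)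
  map_add' x x' := by
    apply LinearMap.ext; intro p
    exact add_smul x x' (show PP c.ι c'.ι from p)
  commutes' r := by
    apply LinearMap.ext; intro p
    exact algebraMap_smul K r (show PP c.ι c'.ι from p)

theorem smE_apply (x : K) (p : PP c.ι c'.ι) : smE c c' x p = x • p := rfl

theorem yE_apply (p : PP c.ι c'.ι) : yE c c' p = yk c c' p := rfl

theorem yE_pow (m : ℕ) (b b' : k) (hb : c.y ^ m = algebraMap k A b)
    (hb' : c'.y ^ m = algebraMap k A' b') :
    yE c c' ^ m = algebraMap k _ (b * b') := by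
  apply Tw.toEnd_injective
  rw [map_pow, AlgHom.commutes]
  exact yk_pow c c' m b b' hb hb'

/-- The cyclic pair on `(End_{A ⊗ A'} (A ⊗_K A'))ᵐᵒᵖ`. -/
noncomputable def tensorCyc (m : ℕ) (hm : 0 < m) (b b' : k) (hbb : b * b' ≠ 0)
    (hb : c.y ^ m = algebraMap k A b) (hb' : c'.y ^ m = algebraMap k A' b') :
    Cyc k K σ (Module.End (A ⊗[k] A') (Tw (act c.ι c'.ι)))ᵐᵒᵖ where
  ι := (smE c c').toOpposite (fun x y => by
    show _ * _ = _ * _
    rw [← map_mul, ← map_mul, mul_comm])
  y := MulOpposite.op (yE c c')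
  rel := by
    intro x
    show MulOpposite.op (smE c c' x) * MulOpposite.op (yE c c') =
      MulOpposite.op (yE c c') * MulOpposite.op (smE c c' (σ x))
    rw [← MulOpposite.op_mul, ← MulOpposite.op_mul]
    congr 1
    apply LinearMap.ext; intro p
    exact yk_smul c c' x p
  unit := by
    have h : IsUnit ((MulOpposite.op (yE c c')) ^ m) := by
      rw [← MulOpposite.op_pow, yE_pow c c' m b b' hb hb', ← MulOpposite.algebraMap_apply]
      exact (isUnit_iff_ne_zero.mpr hbb).map _
    exact (isUnit_pow_iff hm.ne').mp h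

end CycModel

section Assembly

universe w₁ w₂

variable {k : Type*} {K : Type*} [Field k] [Field K] [Algebra k K] {σ : K ≃ₐ[k] K}
  {A : Type w₁} [Ring A] [Algebra k A] {A' : Type w₂} [Ring A'] [Algebra k A']

theorem RK.finrank_K [FiniteDimensional k K] (ι : K →ₐ[k] A)
    (hdim : Module.finrank k A = Module.finrank k K ^ 2) :
    Module.finrank K (RK ι) = Module.finrank k K := by
  have hpos : 0 < Module.finrank k K := Module.finrank_pos
  haveI : FiniteDimensional k A := Module.finite_of_finrank_pos (by rw [hdim]; positivity)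
  haveI : Module.Finite K (RK ι) := Module.Finite.of_restrictScalars_finite k K (RK ι)
  have h1 := Module.finrank_mul_finrank k K (RK ι)
  rw [RK.finrank_k, hdim, sq] at h1
  exact Nat.eq_of_mul_eq_mul_left hpos h1

theorem PP.finrank_k [FiniteDimensional k K] (ι : K →ₐ[k] A) (ι' : K →ₐ[k] A')
    (hdim : Module.finrank k A = Module.finrank k K ^ 2)
    (hdim' : Module.finrank k A' = Module.finrank k K ^ 2) :
    Module.finrank k (PP ι ι') = Module.finrank k K ^ 3 := by
  have hpos : 0 < Module.finrank k K := Module.finrank_pos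
  haveI : FiniteDimensional k A := Module.finite_of_finrank_pos (by rw [hdim]; positivity)
  haveI : FiniteDimensional k A' := Module.finite_of_finrank_pos (by rw [hdim']; positivity)
  haveI : Module.Finite K (RK ι) := Module.Finite.of_restrictScalars_finite k K (RK ι)
  haveI : Module.Finite K (RK ι') := Module.Finite.of_restrictScalars_finite k K (RK ι')
  rw [← Module.finrank_mul_finrank k K (PP ι ι'), Module.finrank_tensorProduct,
    RK.finrank_K ι hdim, RK.finrank_K ι' hdim']
  ring

set_option backward.isDefEq.respectTransparency false in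
theorem exists_tensor_model [FiniteDimensional k K] [IsGalois k K]
    (hσ : ∀ τ : K ≃ₐ[k] K, τ ∈ Subgroup.zpowers σ)
    [Nontrivial A] [Nontrivial A'] (c : Cyc k K σ A) (c' : Cyc k K σ A')
    (hdim : Module.finrank k A = Module.finrank k K ^ 2)
    (hdim' : Module.finrank k A' = Module.finrank k K ^ 2) (b b' : kˣ)
    (hb : c.y ^ Module.finrank k K = algebraMap k A (b : k))
    (hb' : c'.y ^ Module.finrank k K = algebraMap k A' (b' : k)) :
    ∃ (E : Type (max w₁ w₂)) (_ : Ring E) (_ : Algebra k E) (_ : Nontrivial E) (cE : Cyc k K σ E),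
      cE.y ^ Module.finrank k K = algebraMap k E ((b * b' : kˣ) : k) ∧
      Module.finrank k E = Module.finrank k K ^ 2 ∧
      ∃ a r : ℕ, a ≠ 0 ∧ r ≠ 0 ∧
        Nonempty (Matrix (Fin a) (Fin a) (A ⊗[k] A') ≃ₐ[k] Matrix (Fin r) (Fin r) E) := by
  classical
  have hord := orderOf_eq_finrank hσ
  have hm0 : 0 < Module.finrank k K := Module.finrank_pos
  haveI : FiniteDimensional k A := Module.finite_of_finrank_pos (by rw [hdim]; positivity)
  haveI : FiniteDimensional k A' := Module.finite_of_finrank_pos (by rw [hdim']; positivity)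
  have hbij := c.Phi_bijective (le_of_eq hord.symm) hdim
  have hbij' := c'.Phi_bijective (le_of_eq hord.symm) hdim'
  haveI : IsSimpleRing A := c.isSimpleRing _ (le_of_eq hord.symm) hbij.2
  haveI : IsSimpleRing A' := c'.isSimpleRing _ (le_of_eq hord.symm) hbij'.2
  haveI : Algebra.IsCentral k A' := c'.isCentral hσ _ (le_of_eq hord.symm) hm0 hbij'.2
  haveI : IsSimpleRing (A ⊗[k] A') := Groth.Agent.Helper17.isSimpleRing_tensor k A A'
  have hPdim : Module.finrank k (Tw (act c.ι c'.ι)) = Module.finrank k K ^ 3 :=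
    PP.finrank_k c.ι c'.ι hdim hdim'
  haveI : FiniteDimensional k (PP c.ι c'.ι) :=
    Module.finite_of_finrank_pos (by rw [PP.finrank_k c.ι c'.ι hdim hdim']; positivity)
  haveI : Nontrivial (Tw (act c.ι c'.ι)) :=
    Module.nontrivial_of_finrank_pos (R := k) (by rw [hPdim]; positivity)
  obtain ⟨D, _, _, _, r, a, hr, ha, ⟨eC⟩, ⟨eE⟩, hP, hC⟩ :=
    exists_morita' k (A ⊗[k] A') (Tw (act c.ι c'.ι))
  have hdD : 0 < Module.finrank k D := Module.finrank_pos
  have hCdim : Module.finrank k (A ⊗[k] A') = Module.finrank k K ^ 4 := by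
    rw [Module.finrank_tensorProduct, hdim, hdim']
    ring
  have hE : Module.finrank k (Module.End (A ⊗[k] A') (Tw (act c.ι c'.ι)))ᵐᵒᵖ =
      Module.finrank k K ^ 2 := by
    rw [eE.toLinearEquiv.finrank_eq, Module.finrank_matrix]
    simp only [Fintype.card_fin]
    have hpos : 0 < r * r * Module.finrank k D := by positivity
    apply Nat.eq_of_mul_eq_mul_right hpos
    calc a * a * Module.finrank k D * (r * r * Module.finrank k D)
        = (a * r * Module.finrank k D) * (a * r * Module.finrank k D) := by ring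
      _ = Module.finrank k K ^ 3 * Module.finrank k K ^ 3 := by rw [← hP, hPdim]
      _ = Module.finrank k K ^ 2 * Module.finrank k K ^ 4 := by ring
      _ = Module.finrank k K ^ 2 * (r * r * Module.finrank k D) := by rw [← hC, hCdim]
  have hnt : Nontrivial (Module.End (A ⊗[k] A') (Tw (act c.ι c'.ι)))ᵐᵒᵖ :=
    Module.nontrivial_of_finrank_pos (R := k) (by rw [hE]; positivity)
  have hbb : (b : k) * (b' : k) ≠ 0 := mul_ne_zero b.ne_zero b'.ne_zero
  refine ⟨(Module.End (A ⊗[k] A') (Tw (act c.ι c'.ι)))ᵐᵒᵖ, inferInstance, inferInstance, hnt,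
    tensorCyc c c' _ hm0 b b' hbb hb hb', ?_, hE, a, r, ha.ne', hr.ne', ⟨?_⟩⟩
  · show (MulOpposite.op (yE c c')) ^ _ = _
    rw [← MulOpposite.op_pow, yE_pow c c' _ b b' hb hb', ← MulOpposite.algebraMap_apply,
      Units.val_mul]
  · exact (eC.mapMatrix (m := Fin a)).trans <|
      (Matrix.compAlgEquiv (Fin a) (Fin r) D k).trans <|
      (Matrix.reindexAlgEquiv k D (Equiv.prodComm (Fin a) (Fin r))).trans <|
      (Matrix.compAlgEquiv (Fin r) (Fin a) D k).symm.trans
      (eE.symm.mapMatrix (m := Fin r))

end Assembly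

end Groth.Agent.Helper20.CycAlg
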