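import Mathlib
import Groth.Prelude.Def_PolLaw

set_option autoImplicit false
universe u

namespace Groth.Agent.Helper20.DPLoc

open DividedPowerAlgebra Finset

variable {A M : Type u} [CommRing A] [AddCommGroup M] [Module A M]

/-- the span of the `e`-th divided powers -/
noncomputable def W (A M : Type u) [CommRing A] [AddCommGroup M] [Module A M] (e : ℕ) :
    Submodule A (DividedPowerAlgebra A M) :=
  Submodule.span A (Set.range (dp A e : M → DividedPowerAlgebra A M))

theorem dp_mem_W (e : ℕ) (m : M) : dp A e m ∈ W A M e := Submodule.subset_span ⟨m, rfl⟩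

theorem dp_add_smul (e : ℕ) (s : A) (m m' : M) :
    dp A e (m + s • m') = ∑ b ∈ range (e + 1), s ^ b • (dp A (e - b) m * dp A b m') := by
  rw [dp_add, Finset.Nat.sum_antidiagonal_eq_sum_range_succ_mk]
  rw [← Finset.sum_flip]
  apply Finset.sum_congr rfl
  intro b hb
  have hb' : b ≤ e := Nat.lt_succ_iff.mp (Finset.mem_range.mp hb)
  simp only [Nat.sub_sub_self hb']
  rw [dp_smul, mul_smul_comm]

/-- with `e` elements `a j`, the Vandermonde determinant times a mixed product of divided powers of total
degree `e` is in the span of the `e`-th divided powers -/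
theorem two_var (e : ℕ) (a : Fin e → A) (m m' : M) (b : ℕ) (hb : b ≤ e) :
    (Matrix.vandermonde a).det • (dp A (e - b) m * dp A b m') ∈ W A M e := by
  classical
  rcases Nat.lt_or_ge b e with hlt | hge
  · set V := Matrix.vandermonde a with hV
    let u : Fin e → DividedPowerAlgebra A M := fun c => dp A (e - c) m * dp A c m'
    let v : Fin e → DividedPowerAlgebra A M :=
      fun j => dp A e (m + a j • m') - a j ^ e • dp A e m'
    have hv : ∀ j, v j = ∑ c, V j c • u c := by
      intro j
      show dp A e (m + a j • m') - a j ^ e • dp A e m' = _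
      rw [dp_add_smul, Finset.sum_range_succ, Nat.sub_self, dp_zero, one_mul, add_sub_cancel_right,
        Finset.sum_range]
      rfl
    have hvW : ∀ j, v j ∈ W A M e := fun j =>
      Submodule.sub_mem _ (dp_mem_W _ _) (Submodule.smul_mem _ _ (dp_mem_W _ _))
    have hadj : V.adjugate * V = V.det • (1 : Matrix (Fin e) (Fin e) A) := Matrix.adjugate_mul V
    have hu : ∀ c, V.det • u c = ∑ j, V.adjugate c j • v j := by
      intro c
      simp_rw [hv, Finset.smul_sum, smul_smul]
      rw [Finset.sum_comm]
      simp_rw [← Finset.sum_smul]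
      have : ∀ c', ∑ j, V.adjugate c j * V j c' =
          (V.det • (1 : Matrix (Fin e) (Fin e) A)) c c' := by
        intro c'
        rw [← hadj, Matrix.mul_apply]
      simp_rw [this, Matrix.smul_apply, Matrix.one_apply, smul_eq_mul, mul_ite, mul_one, mul_zero,
        ite_smul, zero_smul]
      simp
    have := hu ⟨b, hlt⟩
    change V.det • (dp A (e - b) m * dp A b m') = _ at this
    rw [this]
    exact Submodule.sum_mem _ fun j _ => Submodule.smul_mem _ _ (hvW j)
  · have hbe : b = e := le_antisymm hb hge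
    subst hbe
    rw [Nat.sub_self, dp_zero, one_mul]
    exact Submodule.smul_mem _ _ (dp_mem_W _ _)

theorem det_vandermonde_mem (P : Submonoid A) (e : ℕ) (a : Fin e → A)
    (ha : ∀ i j, i < j → a j - a i ∈ P) : (Matrix.vandermonde a).det ∈ P := by
  rw [Matrix.det_vandermonde]
  apply Submonoid.prod_mem
  intro i _
  apply Submonoid.prod_mem
  intro j hj
  exact ha i j (Finset.mem_Ioi.mp hj)

/-- case of enough elements with differences in `P` -/
theorem case1 (P : Submonoid A) (d : ℕ) (c : Fin d → A) (hc : ∀ i j, i < j → c j - c i ∈ P) :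
    ∀ (n e : ℕ), e ≤ d → ∀ (k : Fin n → ℕ) (m : Fin n → M), (∑ i, k i) = e →
      ∃ s ∈ P, s • ∏ i, dp A (k i) (m i) ∈ W A M e := by
  intro n
  induction n with
  | zero =>
    intro e _ k m hk
    simp only [Finset.univ_eq_empty, Finset.sum_empty, Finset.prod_empty] at hk ⊢
    subst hk
    exact ⟨1, P.one_mem, by rw [one_smul]; exact Submodule.subset_span ⟨0, dp_zero⟩⟩
  | succ n ih =>
    intro e he k m hk
    rw [Fin.prod_univ_succ]
    rw [Fin.sum_univ_succ] at hk
    obtain ⟨s₁, hs₁, hrest⟩ := ih (e - k 0) (by omega) (fun i => k i.succ) (fun i => m i.succ)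
      (by omega)
    have hk0 : k 0 = e - (e - k 0) := by omega
    let a : Fin e → A := fun j => c (Fin.castLE he j)
    have ha : ∀ i j, i < j → a j - a i ∈ P := fun i j hij => hc _ _ (by simpa using hij)
    refine ⟨(Matrix.vandermonde a).det * s₁, P.mul_mem (det_vandermonde_mem P e a ha) hs₁, ?_⟩
    rw [mul_smul, ← mul_smul_comm]
    refine Submodule.span_induction (p := fun x _ => (Matrix.vandermonde a).det •
      (dp A (k 0) (m 0) * x) ∈ W A M e) ?_ ?_ ?_ ?_ hrest
    · rintro _ ⟨m', rfl⟩
      have := two_var e a (m 0) m' (e - k 0) (by omega)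
      rwa [← hk0] at this
    · rw [mul_zero, smul_zero]; exact Submodule.zero_mem _
    · intro x y _ _ hx hy
      rw [mul_add, smul_add]; exact Submodule.add_mem _ hx hy
    · intro r x _ hx
      rw [mul_smul_comm, smul_comm]; exact Submodule.smul_mem _ _ hx

/-- cyclic case -/
theorem case2 (P : Submonoid A) (m₀ : M) (h : ∀ m : M, ∃ s ∈ P, ∃ a : A, s • m = a • m₀)
    (n e : ℕ) (k : Fin n → ℕ) (m : Fin n → M) (hk : (∑ i, k i) = e) :
    ∃ s ∈ P, s • ∏ i, dp A (k i) (m i) ∈ W A M e := by
  choose s hs a hsa using h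
  refine ⟨∏ i, s (m i) ^ k i, Submonoid.prod_mem _ fun i _ => P.pow_mem (hs _) _, ?_⟩
  have h1 : (∏ i, s (m i) ^ k i) • ∏ i, dp A (k i) (m i) =
      (∏ i, a (m i) ^ k i) • ∏ i, dp A (k i) m₀ := by
    rw [Algebra.smul_def, Algebra.smul_def, map_prod, map_prod, ← Finset.prod_mul_distrib,
      ← Finset.prod_mul_distrib]
    apply Finset.prod_congr rfl
    intro i _
    rw [← Algebra.smul_def, ← Algebra.smul_def, ← dp_smul, ← dp_smul, hsa]
  rw [h1, prod_dp, hk]
  apply Submodule.smul_mem
  rw [← nsmul_eq_mul]
  exact Submodule.smul_of_tower_mem _ _ (dp_mem_W _ _)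

/-- enough elements in the residue field give elements of `A` with differences outside `p` -/
theorem exists_elements (p : Ideal A) [p.IsPrime] (d : ℕ)
    (hcard : (d : Cardinal.{u}) ≤ Cardinal.mk p.ResidueField) :
    ∃ c : Fin d → A, ∀ i j, i ≠ j → c j - c i ∈ p.primeCompl := by
  classical
  have h0 : Cardinal.mk (ULift.{u} (Fin d)) = d := by simp
  rw [← h0] at hcard
  obtain ⟨f⟩ := hcard
  have hsurj : Function.Surjective (IsLocalRing.residue (Localization.AtPrime p)) :=
    IsLocalRing.residue_surjective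
  choose y hy using fun j : Fin d => hsurj (f ⟨j⟩)
  obtain ⟨b, hb⟩ := IsLocalization.exist_integer_multiples_of_finite p.primeCompl y
  choose c hc using hb
  refine ⟨c, fun i j hij hmem => ?_⟩
  have hcon' : c j - c i ∈ p := hmem
  have h1 : algebraMap A (Localization.AtPrime p) (c j - c i) ∈
      IsLocalRing.maximalIdeal (Localization.AtPrime p) :=
    (IsLocalization.AtPrime.to_map_mem_maximal_iff (Localization.AtPrime p) p _).mpr hcon'
  rw [map_sub, hc, hc, ← smul_sub, Algebra.smul_def] at h1
  have hunit : IsUnit (algebraMap A (Localization.AtPrime p) (b : A)) :=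
    IsLocalization.map_units (Localization.AtPrime p) b
  have h2 : y j - y i ∈ IsLocalRing.maximalIdeal (Localization.AtPrime p) :=
    (Ideal.unit_mul_mem_iff_mem _ hunit).mp h1
  have h3 : IsLocalRing.residue (Localization.AtPrime p) (y j - y i) = 0 :=
    (IsLocalRing.residue_eq_zero_iff _).mpr h2
  rw [map_sub, hy, hy, sub_eq_zero] at h3
  have := f.injective h3
  exact hij (by simpa using this.symm)

/-- a cyclic localization gives a generator up to denominators -/
theorem exists_generator (p : Ideal A) [p.IsPrime] (x : LocalizedModule p.primeCompl M)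
    (hx : Submodule.span (Localization.AtPrime p) {x} = ⊤) :
    ∃ m₀ : M, ∀ m : M, ∃ s ∈ p.primeCompl, ∃ a : A, s • m = a • m₀ := by
  induction x using LocalizedModule.induction_on with
  | h m₀ s₀ =>
    refine ⟨m₀, fun m => ?_⟩
    have hm : LocalizedModule.mk m (1 : p.primeCompl) ∈
        Submodule.span (Localization.AtPrime p) {LocalizedModule.mk m₀ s₀} := by
      rw [hx]; trivial
    obtain ⟨r, hr⟩ := Submodule.mem_span_singleton.mp hm
    induction r using Localization.induction_on with
    | H as =>
      obtain ⟨a, s'⟩ := as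
      rw [LocalizedModule.mk_smul_mk, LocalizedModule.mk_eq] at hr
      obtain ⟨u, hu⟩ := hr
      refine ⟨u * s' * s₀, (u * s' * s₀).2, u * a, ?_⟩
      simp only [one_smul, Submonoid.smul_def, mul_smul] at hu ⊢
      exact hu.symm

/-- the main local-global statement -/
theorem span_dp_eq (d : ℕ)
    (h : ∀ p : PrimeSpectrum A, (d : Cardinal) ≤ Cardinal.mk p.asIdeal.ResidueField ∨
      ∃ x : LocalizedModule p.asIdeal.primeCompl M,
        Submodule.span (Localization.AtPrime p.asIdeal) {x} = ⊤) :
    Submodule.span A (Set.range (dp A d : M → DividedPowerAlgebra A M)) =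
      PolLaw.gammaPiece A M d := by
  classical
  apply le_antisymm
  · apply Submodule.span_le.mpr
    rintro _ ⟨m, rfl⟩
    apply Submodule.subset_span
    exact ⟨1, fun _ => d, fun _ => m, by simp, by simp⟩
  · apply Submodule.span_le.mpr
    rintro _ ⟨n, k, m, hk, rfl⟩
    set x := ∏ i, dp A (k i) (m i) with hxdef
    let I : Ideal A := (W A M d).comap (LinearMap.toSpanSingleton A _ x)
    have hI : ∀ a, a ∈ I ↔ a • x ∈ W A M d := fun a => Iff.rfl
    by_contra hx
    have hne : I ≠ ⊤ := by
      intro htop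
      apply hx
      have : (1 : A) ∈ I := htop ▸ Submodule.mem_top
      rw [hI, one_smul] at this
      exact this
    obtain ⟨𝔪, h𝔪, hle⟩ := Ideal.exists_le_maximal I hne
    haveI := h𝔪.isPrime
    have hex : ∃ s ∈ 𝔪.primeCompl, s • x ∈ W A M d := by
      rcases h ⟨𝔪, h𝔪.isPrime⟩ with h1 | ⟨y, hy⟩
      · obtain ⟨c, hc⟩ := exists_elements 𝔪 d h1
        exact case1 𝔪.primeCompl d c (fun i j hij => hc i j (ne_of_lt hij)) n d le_rfl k m hk
      · obtain ⟨m₀, hm₀⟩ := exists_generator 𝔪 y hy
        exact case2 𝔪.primeCompl m₀ hm₀ n d k m hk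
    obtain ⟨s, hs, hsx⟩ := hex
    exact hs (hle ((hI s).mpr hsx))

end Groth.Agent.Helper20.DPLoc
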