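import Mathlib
import Groth.Agent.Lib.Helper20.DPLoc

set_option autoImplicit false
universe u v

namespace Groth.Agent.Helper20.DPDual

open DividedPowerAlgebra Finset TrivSqZeroExt

variable {A : Type u} {M : Type u} [CommRing A] [AddCommGroup M] [Module A M]
variable {S : Type v} [CommRing S] [Algebra A S]

/-- the second component of the dual-number step -/
noncomputable def g (Φ : DividedPowerAlgebra A M →ₐ[A] S) (ℓ : M →ₗ[A] S) : ℕ × M → S
  | (0, _) => 0
  | (n + 1, m) => ℓ m * Φ (dp A n m)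

/-- the family defining the dual-number step -/
noncomputable def f' (Φ : DividedPowerAlgebra A M →ₐ[A] S) (ℓ : M →ₗ[A] S) (nm : ℕ × M) :
    DualNumber S :=
  inl (Φ (dp A nm.1 nm.2)) + inr (g Φ ℓ nm)

theorem fst_f' (Φ : DividedPowerAlgebra A M →ₐ[A] S) (ℓ : M →ₗ[A] S) (nm : ℕ × M) :
    (f' Φ ℓ nm).fst = Φ (dp A nm.1 nm.2) := by
  simp [f']

theorem snd_f' (Φ : DividedPowerAlgebra A M →ₐ[A] S) (ℓ : M →ₗ[A] S) (nm : ℕ × M) :
    (f' Φ ℓ nm).snd = g Φ ℓ nm := by
  simp [f']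

theorem hf_zero (Φ : DividedPowerAlgebra A M →ₐ[A] S) (ℓ : M →ₗ[A] S) (m : M) :
    f' Φ ℓ (0, m) = 1 := by
  apply TrivSqZeroExt.ext
  · rw [fst_f', dp_zero, map_one, fst_one]
  · rw [snd_f', snd_one]; rfl

theorem hf_smul (Φ : DividedPowerAlgebra A M →ₐ[A] S) (ℓ : M →ₗ[A] S) (n : ℕ) (r : A) (m : M) :
    f' Φ ℓ (n, r • m) = r ^ n • f' Φ ℓ (n, m) := by
  apply TrivSqZeroExt.ext
  · rw [fst_f', fst_smul, fst_f', dp_smul, map_smul]
  · rw [snd_f', snd_smul, snd_f']
    cases n with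
    | zero => simp [g]
    | succ n =>
      simp only [g]
      rw [dp_smul, map_smul, map_smul, pow_succ, mul_smul, smul_mul_assoc, mul_smul_comm,
        smul_comm]

theorem hf_mul (Φ : DividedPowerAlgebra A M →ₐ[A] S) (ℓ : M →ₗ[A] S) (n p : ℕ) (m : M) :
    f' Φ ℓ (n, m) * f' Φ ℓ (p, m) = (n + p).choose n • f' Φ ℓ (n + p, m) := by
  apply TrivSqZeroExt.ext
  · rw [fst_mul, fst_f', fst_f', fst_smul, fst_f', ← map_mul, dp_mul, map_nsmul]
  · rw [DualNumber.snd_mul, fst_f', fst_f', snd_f', snd_f', snd_smul, snd_f']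
    cases n with
    | zero =>
      simp [g, dp_zero]
    | succ n =>
      cases p with
      | zero => simp [g, dp_zero]
      | succ p =>
        have hg : g Φ ℓ (n + 1 + (p + 1), m) = ℓ m * Φ (dp A (n + (p + 1)) m) := by
          have : n + 1 + (p + 1) = (n + (p + 1)) + 1 := by omega
          rw [this]
          rfl
        rw [hg]
        simp only [g]
        have e1 : Φ (dp A (n + 1) m) * (ℓ m * Φ (dp A p m)) =
            ℓ m * Φ (dp A (n + 1) m * dp A p m) := by rw [map_mul]; ring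
        have e2 : ℓ m * Φ (dp A n m) * Φ (dp A (p + 1) m) =
            ℓ m * Φ (dp A n m * dp A (p + 1) m) := by rw [map_mul]; ring
        rw [e1, e2, dp_mul, dp_mul, map_nsmul, map_nsmul]
        have h1 : n + 1 + p = n + (p + 1) := by omega
        rw [h1, mul_smul_comm, mul_smul_comm, ← add_smul]
        congr 1
        have h2 : n + 1 + (p + 1) = (n + (p + 1)) + 1 := by omega
        rw [h2, Nat.choose_succ_succ' (n + (p + 1)) n, add_comm]

theorem hf_add (Φ : DividedPowerAlgebra A M →ₐ[A] S) (ℓ : M →ₗ[A] S) (n : ℕ) (u v : M) :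
    f' Φ ℓ (n, u + v) = (antidiagonal n).sum fun (k, l) => f' Φ ℓ (k, u) * f' Φ ℓ (l, v) := by
  apply TrivSqZeroExt.ext
  · rw [fst_f', fst_sum]
    simp only [fst_mul, fst_f']
    rw [dp_add, map_sum]
    simp only [map_mul]
  · rw [snd_f', snd_sum]
    simp only [DualNumber.snd_mul, fst_f', snd_f']
    rw [Finset.sum_add_distrib]
    cases n with
    | zero =>
      simp [g]
    | succ n =>
      rw [Finset.Nat.sum_antidiagonal_succ' (f := fun kl => Φ (dp A kl.1 u) * g Φ ℓ (kl.2, v)),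
        Finset.Nat.sum_antidiagonal_succ (f := fun kl => g Φ ℓ (kl.1, u) * Φ (dp A kl.2 v))]
      simp only [g, mul_zero, zero_mul, zero_add]
      rw [dp_add, map_sum, map_add, add_mul, Finset.mul_sum, Finset.mul_sum, add_comm]
      congr 1
      · apply Finset.sum_congr rfl
        intro kl _
        rw [map_mul]; ring
      · apply Finset.sum_congr rfl
        intro kl _
        rw [map_mul]; ring

/-- the dual-number step: from `Φ` and a linear form `ℓ`, an algebra map to the dual numbers -/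
noncomputable def dualStep (Φ : DividedPowerAlgebra A M →ₐ[A] S) (ℓ : M →ₗ[A] S) :
    DividedPowerAlgebra A M →ₐ[A] DualNumber S :=
  lift' (f := f' Φ ℓ) (hf_zero Φ ℓ) (hf_smul Φ ℓ) (hf_mul Φ ℓ) (hf_add Φ ℓ)

theorem dualStep_dp (Φ : DividedPowerAlgebra A M →ₐ[A] S) (ℓ : M →ₗ[A] S) (n : ℕ) (m : M) :
    dualStep Φ ℓ (dp A n m) = f' Φ ℓ (n, m) := by
  unfold dualStep
  rw [lift'_apply_dp]

theorem fst_dualStep (Φ : DividedPowerAlgebra A M →ₐ[A] S) (ℓ : M →ₗ[A] S)
    (x : DividedPowerAlgebra A M) : (dualStep Φ ℓ x).fst = Φ x := by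
  have : (TrivSqZeroExt.fstHom A S S).comp (dualStep Φ ℓ) = Φ := by
    apply DividedPowerAlgebra.algHom_ext
    intro n m
    rw [AlgHom.comp_apply, dualStep_dp]
    exact fst_f' Φ ℓ (n, m)
  exact congrArg (fun h => h x) this

theorem snd_dualStep_dp_zero (Φ : DividedPowerAlgebra A M →ₐ[A] S) (ℓ : M →ₗ[A] S) (m : M) :
    (dualStep Φ ℓ (dp A 0 m)).snd = 0 := by
  rw [dualStep_dp, snd_f']; rfl

theorem snd_dualStep_dp_succ (Φ : DividedPowerAlgebra A M →ₐ[A] S) (ℓ : M →ₗ[A] S) (n : ℕ)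
    (m : M) : (dualStep Φ ℓ (dp A (n + 1) m)).snd = ℓ m * Φ (dp A n m) := by
  rw [dualStep_dp, snd_f']; rfl

end Groth.Agent.Helper20.DPDual
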