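import Mathlib
import Groth.Agent.Lib.Helper20.DPDual

set_option autoImplicit false
universe u

namespace Groth.Agent.Helper20.DPDual

open DividedPowerAlgebra Finset TrivSqZeroExt

variable {A : Type u} {M : Type u} [CommRing A] [AddCommGroup M] [Module A M]
variable (k : Type u) [Field k] [Algebra A k]

/-- the augmentation with values in an `A`-algebra -/
noncomputable def aug : DividedPowerAlgebra A M →ₐ[A] k :=
  lift' (f := fun nm : ℕ × M => if nm.1 = 0 then (1 : k) else 0)
    (fun m => by simp)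
    (fun n r m => by
      by_cases hn : n = 0
      · subst hn; simp
      · simp [hn])
    (fun n p m => by
      by_cases hn : n = 0
      · subst hn; simp
      · simp [hn])
    (fun n u v => by
      by_cases hn : n = 0
      · subst hn; simp
      · simp only [hn, if_false]
        symm
        apply Finset.sum_eq_zero
        rintro ⟨a, b⟩ hab
        have : a + b = n := by simpa using hab
        by_cases ha : a = 0
        · have hb : b ≠ 0 := by omega
          simp [hb]
        · simp [ha])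

theorem aug_dp (n : ℕ) (m : M) : aug (A := A) (M := M) k (dp A n m) = if n = 0 then 1 else 0 := by
  unfold aug
  rw [lift'_apply_dp]

variable {k}

/-- the recursion for the mixed coefficient -/
noncomputable def T (ℓ : ℕ → (M →ₗ[A] k)) (m₁ m₂ : M) : ℕ → k
  | 0 => 0
  | j + 1 => ℓ j m₂ * ∏ i ∈ range j, ℓ i m₁ + ℓ j m₁ * T ℓ m₁ m₂ j

theorem tower (ℓ : ℕ → (M →ₗ[A] k)) (m₁ m₂ : M) (j : ℕ) :
    ∃ (S : Type u) (_ : CommRing S) (_ : Algebra A S) (ι : k →ₐ[A] S)
      (Φ : DividedPowerAlgebra A M →ₐ[A] S) (lam : S →ₗ[A] k),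
      (∀ c s, lam (ι c * s) = c * lam s) ∧
      (∀ v, lam (Φ (dp A j v)) = ∏ i ∈ range j, ℓ i v) ∧
      lam (Φ (dp A (j - 1) m₁ * dp A 1 m₂)) = T ℓ m₁ m₂ j := by
  induction j with
  | zero =>
    refine ⟨k, inferInstance, inferInstance, AlgHom.id A k, aug k, LinearMap.id, ?_, ?_, ?_⟩
    · intro c s; rfl
    · intro v; simp [aug_dp]
    · simp [aug_dp, T]
  | succ j ih =>
    obtain ⟨S, _, _, ι, Φ, lam, hC, hI1, hI2⟩ := ih
    let ℓS : M →ₗ[A] S := ι.toLinearMap ∘ₗ ℓ j
    let lam' : DualNumber S →ₗ[A] k :=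
      { toFun := fun x => lam x.snd
        map_add' := fun x y => by rw [snd_add, map_add]
        map_smul' := fun r x => by rw [snd_smul, map_smul, RingHom.id_apply] }
    refine ⟨DualNumber S, inferInstance, inferInstance,
      (TrivSqZeroExt.inlAlgHom A S S).comp ι, dualStep Φ ℓS, lam', ?_, ?_, ?_⟩
    · intro c s
      show lam ((TrivSqZeroExt.inl (ι c) * s).snd) = c * lam s.snd
      rw [DualNumber.snd_mul, fst_inl, snd_inl, zero_mul, add_zero, hC]
    · intro v
      show lam ((dualStep Φ ℓS (dp A (j + 1) v)).snd) = _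
      rw [snd_dualStep_dp_succ]
      show lam (ι (ℓ j v) * Φ (dp A j v)) = _
      rw [hC, hI1, Finset.prod_range_succ, mul_comm]
    · show lam ((dualStep Φ ℓS (dp A (j + 1 - 1) m₁ * dp A 1 m₂)).snd) = _
      rw [Nat.add_sub_cancel, map_mul, DualNumber.snd_mul, fst_dualStep, fst_dualStep,
        snd_dualStep_dp_succ, dp_zero, map_one, mul_one, map_add]
      have h1 : lam (Φ (dp A j m₁) * ℓS m₂) = ℓ j m₂ * ∏ i ∈ range j, ℓ i m₁ := by
        rw [mul_comm]
        show lam (ι (ℓ j m₂) * Φ (dp A j m₁)) = _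
        rw [hC, hI1]
      have h2 : lam ((dualStep Φ ℓS (dp A j m₁)).snd * Φ (dp A 1 m₂)) =
          ℓ j m₁ * T ℓ m₁ m₂ j := by
        cases j with
        | zero =>
          rw [snd_dualStep_dp_zero, zero_mul, map_zero]
          simp [T]
        | succ j' =>
          rw [snd_dualStep_dp_succ]
          show lam (ι (ℓ (j' + 1) m₁) * Φ (dp A j' m₁) * Φ (dp A 1 m₂)) = _
          rw [mul_assoc, hC, ← map_mul]
          rw [Nat.add_sub_cancel] at hI2
          rw [hI2]
      rw [h1, h2]
      rfl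

/-- over a small residue field and a module with two independent linear forms, a mixed product of
divided powers is not in the span of the top divided powers -/
theorem not_mem_span [Finite k] (d : ℕ) (hd : Nat.card k < d) (ξ η : M →ₗ[A] k) (m₁ m₂ : M)
    (h11 : ξ m₁ = 1) (h12 : η m₁ = 0) (h21 : ξ m₂ = 0) (h22 : η m₂ = 1) :
    dp A (d - 1) m₁ * dp A 1 m₂ ∉
      Submodule.span A (Set.range (dp A d : M → DividedPowerAlgebra A M)) := by
  classical
  set q := Nat.card k with hq
  let a : Fin q ≃ k := (Finite.equivFin k).symm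
  let ℓ : ℕ → (M →ₗ[A] k) := fun i =>
    if i = 0 then η else if h : i - 1 < q then ξ - a ⟨i - 1, h⟩ • η else ξ
  obtain ⟨S, _, _, ι, Φ, lam, -, hI1, hI2⟩ := tower ℓ m₁ m₂ d
  have hℓ0 : ℓ 0 = η := by simp [ℓ]
  have hℓ1 : ∀ j, 1 ≤ j → ℓ j m₁ = 1 := by
    intro j hj
    have hj0 : j ≠ 0 := by omega
    simp only [ℓ, hj0, if_false]
    split_ifs with h
    · simp [h11, h12]
    · exact h11
  have hV : ∀ v, ∏ i ∈ range d, ℓ i v = 0 := by
    intro v
    by_cases hv : η v = 0
    · apply Finset.prod_eq_zero (i := 0) (Finset.mem_range.mpr (by omega))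
      rw [hℓ0, hv]
    · set t := a.symm (ξ v / η v) with ht
      have ht' : a t = ξ v / η v := by simp [ht]
      apply Finset.prod_eq_zero (i := (t : ℕ) + 1) (Finset.mem_range.mpr (by have := t.2; omega))
      have h1 : (t : ℕ) + 1 ≠ 0 := by omega
      have h2 : (t : ℕ) + 1 - 1 < q := by have := t.2; omega
      simp only [ℓ, h1, if_false, dif_pos h2]
      have h3 : (⟨(t : ℕ) + 1 - 1, h2⟩ : Fin q) = t := by
        apply Fin.ext
        simp
      rw [h3, ht']
      simp only [LinearMap.sub_apply, LinearMap.smul_apply, smul_eq_mul]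
      field_simp
      ring
  have hT : ∀ j, 1 ≤ j → T ℓ m₁ m₂ j = 1 := by
    intro j hj
    induction j with
    | zero => omega
    | succ j ih =>
      rcases Nat.eq_zero_or_pos j with rfl | hpos
      · simp [T, hℓ0, h22]
      · have h0 : ∏ i ∈ range j, ℓ i m₁ = 0 := by
          apply Finset.prod_eq_zero (i := 0) (Finset.mem_range.mpr hpos)
          rw [hℓ0, h12]
        show ℓ j m₂ * ∏ i ∈ range j, ℓ i m₁ + ℓ j m₁ * T ℓ m₁ m₂ j = 1
        rw [h0, mul_zero, zero_add, hℓ1 j hpos, one_mul, ih hpos]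
  intro hmem
  have hd1 : 1 ≤ d := by omega
  have hvan : ∀ x ∈ Submodule.span A (Set.range (dp A d : M → DividedPowerAlgebra A M)),
      lam (Φ x) = 0 := by
    intro x hx
    refine Submodule.span_induction (p := fun x _ => lam (Φ x) = 0) ?_ ?_ ?_ ?_ hx
    · rintro _ ⟨v, rfl⟩
      rw [hI1, hV]
    · rw [map_zero, map_zero]
    · intro x y _ _ hx hy
      rw [map_add, map_add, hx, hy, add_zero]
    · intro r x _ hx
      rw [map_smul, map_smul, hx, smul_zero]
  have := hvan _ hmem
  rw [hI2, hT d hd1] at this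
  exact one_ne_zero this

end Groth.Agent.Helper20.DPDual
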