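import Mathlib
import Groth.Agent.Lib.Helper20.DPTower

set_option autoImplicit false
universe u

namespace Groth.Agent.Helper20.DPDual

open TensorProduct

variable {A : Type u} {M : Type u} [CommRing A] [AddCommGroup M] [Module A M]

theorem exists_forms (p : Ideal A) [p.IsPrime] [Module.Finite A M]
    (hcyc : ∀ x : LocalizedModule p.primeCompl M,
      Submodule.span (Localization.AtPrime p) {x} ≠ ⊤) :
    ∃ (ξ η : M →ₗ[A] p.ResidueField) (m₁ m₂ : M),
      ξ m₁ = 1 ∧ η m₁ = 0 ∧ ξ m₂ = 0 ∧ η m₂ = 1 := by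
  classical
  let R := Localization.AtPrime p
  let Mp := LocalizedModule p.primeCompl M
  let k := IsLocalRing.ResidueField R
  let τ : Mp →ₗ[R] k ⊗[R] Mp := TensorProduct.mk R k Mp 1
  have hτsurj : Function.Surjective τ :=
    TensorProduct.mk_surjective R Mp k Ideal.Quotient.mk_surjective
  -- the `k`-span of `τ x` is never everything
  have hspan : ∀ x : Mp, Submodule.span k {τ x} ≠ ⊤ := by
    intro x hx
    apply hcyc x
    rw [← IsLocalRing.map_tensorProduct_mk_eq_top, Submodule.map_span, Set.image_singleton]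
    have h1 := Submodule.restrictScalars_span R k (Ideal.Quotient.mk_surjective
      (I := IsLocalRing.maximalIdeal R)) ({τ x} : Set (k ⊗[R] Mp))
    show Submodule.span R {τ x} = ⊤
    rw [← h1, hx]
    rfl
  -- `x₁` with `τ x₁ ≠ 0`
  obtain ⟨x₁, hx₁⟩ : ∃ x₁ : Mp, τ x₁ ≠ 0 := by
    by_contra hall
    push Not at hall
    apply hspan 0
    rw [eq_top_iff]
    intro v _
    obtain ⟨x, rfl⟩ := hτsurj v
    rw [hall x]
    exact Submodule.zero_mem _
  obtain ⟨x₂, hx₂⟩ : ∃ x₂ : Mp, τ x₂ ∉ Submodule.span k {τ x₁} := by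
    by_contra hall
    push Not at hall
    apply hspan x₁
    rw [eq_top_iff]
    intro v _
    obtain ⟨x, rfl⟩ := hτsurj v
    exact hall x
  have hx₁' : τ x₁ ∉ Submodule.span k {τ x₂} := by
    intro hmem
    obtain ⟨c, hc⟩ := Submodule.mem_span_singleton.mp hmem
    have hc0 : c ≠ 0 := by
      rintro rfl
      rw [zero_smul] at hc
      exact hx₁ hc.symm
    apply hx₂
    rw [Submodule.mem_span_singleton]
    exact ⟨c⁻¹, by rw [← hc, smul_smul, inv_mul_cancel₀ hc0, one_smul]⟩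
  obtain ⟨ξ₀, hξ1, hξ2⟩ := Submodule.exists_dual_map_eq_bot_of_notMem hx₁' inferInstance
  obtain ⟨η₀, hη1, hη2⟩ := Submodule.exists_dual_map_eq_bot_of_notMem hx₂ inferInstance
  have hξ2' : ξ₀ (τ x₂) = 0 := by
    have : ξ₀ (τ x₂) ∈ (Submodule.span k {τ x₂}).map ξ₀ :=
      ⟨_, Submodule.mem_span_singleton_self _, rfl⟩
    rw [hξ2] at this
    exact (Submodule.mem_bot k).mp this
  have hη2' : η₀ (τ x₁) = 0 := by
    have : η₀ (τ x₁) ∈ (Submodule.span k {τ x₁}).map η₀ :=
      ⟨_, Submodule.mem_span_singleton_self _, rfl⟩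
    rw [hη2] at this
    exact (Submodule.mem_bot k).mp this
  -- numerators
  have hnum : ∀ x : Mp, ∃ (m : M) (u : k), u ≠ 0 ∧
      ∀ f : (k ⊗[R] Mp) →ₗ[k] k, f (τ (LocalizedModule.mk m 1)) = u * f (τ x) := by
    intro x
    induction x using LocalizedModule.induction_on with
    | h m s =>
      refine ⟨m, IsLocalRing.residue R (algebraMap A R (s : A)), ?_, fun f => ?_⟩
      · have hunit : IsUnit (algebraMap A R (s : A)) := IsLocalization.map_units R s
        exact (hunit.map (IsLocalRing.residue R)).ne_zero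
      · have h1 : (LocalizedModule.mk m 1 : Mp) = (algebraMap A R (s : A)) • LocalizedModule.mk m s := by
          rw [algebraMap_smul, LocalizedModule.smul'_mk]
          exact (LocalizedModule.mk_cancel s m).symm
        rw [h1, map_smul]
        have h2 : (algebraMap A R (s : A)) • τ (LocalizedModule.mk m s) =
            (IsLocalRing.residue R (algebraMap A R (s : A))) • τ (LocalizedModule.mk m s) := by
          rw [← IsLocalRing.ResidueField.algebraMap_eq]
          exact (algebraMap_smul k (algebraMap A R (s : A)) (τ (LocalizedModule.mk m s))).symm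
        rw [h2, map_smul, smul_eq_mul]
  obtain ⟨m₁, u₁, hu₁, hm₁⟩ := hnum x₁
  obtain ⟨m₂, u₂, hu₂, hm₂⟩ := hnum x₂
  let ι : M →ₗ[A] Mp := LocalizedModule.mkLinearMap p.primeCompl M
  let ξA : M →ₗ[A] k := ((ξ₀.restrictScalars R ∘ₗ τ).restrictScalars A) ∘ₗ ι
  let ηA : M →ₗ[A] k := ((η₀.restrictScalars R ∘ₗ τ).restrictScalars A) ∘ₗ ι
  have hξA : ∀ m, ξA m = ξ₀ (τ (LocalizedModule.mk m 1)) := fun m => rfl
  have hηA : ∀ m, ηA m = η₀ (τ (LocalizedModule.mk m 1)) := fun m => rfl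
  have e11 : ξA m₁ = u₁ * ξ₀ (τ x₁) := by rw [hξA, hm₁]
  have e12 : ηA m₁ = 0 := by rw [hηA, hm₁, hη2', mul_zero]
  have e21 : ξA m₂ = 0 := by rw [hξA, hm₂, hξ2', mul_zero]
  have e22 : ηA m₂ = u₂ * η₀ (τ x₂) := by rw [hηA, hm₂]
  have n11 : ξA m₁ ≠ 0 := by rw [e11]; exact mul_ne_zero hu₁ hξ1
  have n22 : ηA m₂ ≠ 0 := by rw [e22]; exact mul_ne_zero hu₂ hη1
  refine ⟨(ξA m₁)⁻¹ • ξA, (ηA m₂)⁻¹ • ηA, m₁, m₂, ?_, ?_, ?_, ?_⟩
  · rw [LinearMap.smul_apply, smul_eq_mul, inv_mul_cancel₀ n11]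
  · rw [LinearMap.smul_apply, e12, smul_zero]
  · rw [LinearMap.smul_apply, e21, smul_zero]
  · rw [LinearMap.smul_apply, smul_eq_mul, inv_mul_cancel₀ n22]

end Groth.Agent.Helper20.DPDual
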