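import Mathlib

/-!
# Characteristic polynomials in short exact sequences, and freeness over depth-zero local rings
-/

set_option autoImplicit false
universe u

namespace Groth.Agent.Helper20.DetA

open Module

section Sub

variable {R V : Type*} [CommRing R] [AddCommGroup V] [Module R V] [Module.Finite R V]
    [Module.Free R V]
    (W : Submodule R V) [Module.Free R W] [Module.Finite R W] [Module.Free R (V ⧸ W)]

open Module.Basis in
theorem charpoly_eq_restrict_mul_mapQ (e : V →ₗ[R] V) (he : W ≤ W.comap e) :
    e.charpoly = (e.restrict he).charpoly * (W.mapQ W e he).charpoly := by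
  let m := Module.Free.ChooseBasisIndex R W
  let bW : Basis m R W := Module.Free.chooseBasis R W
  let n := Module.Free.ChooseBasisIndex R (V ⧸ W)
  let bQ : Basis n R (V ⧸ W) := Module.Free.chooseBasis R (V ⧸ W)
  let b := sumQuot bW bQ
  let A : Matrix m m R := LinearMap.toMatrix bW bW (e.restrict he)
  let B : Matrix m n R := Matrix.of fun i l ↦
    ((sumQuot bW bQ).repr (e ((sumQuot bW bQ) (Sum.inr l)))) (Sum.inl i)
  let D : Matrix n n R := LinearMap.toMatrix bQ bQ (W.mapQ W e he)
  suffices LinearMap.toMatrix b b e = Matrix.fromBlocks A B 0 D by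
    rw [← LinearMap.charpoly_toMatrix e b, this, Matrix.charpoly_fromBlocks_zero₂₁,
      LinearMap.charpoly_toMatrix, LinearMap.charpoly_toMatrix]
  ext u v
  cases u with
  | inl i =>
    cases v with
    | inl k =>
      simp only [b, sumQuot_inl, Matrix.fromBlocks_apply₁₁, A, LinearMap.toMatrix_apply]
      apply sumQuot_repr_inl_of_mem
    | inr l => simp [b, LinearMap.toMatrix_apply, Matrix.fromBlocks_apply₁₂, B]
  | inr j =>
    cases v with
    | inl k =>
      suffices W.mkQ (e (bW k)) = 0 by simp [LinearMap.toMatrix_apply, b, this]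
      rw [← LinearMap.mem_ker, Submodule.ker_mkQ]
      exact he (Submodule.coe_mem (bW k))
    | inr l =>
      simp only [LinearMap.toMatrix_apply, sumQuot_repr_inr,
        Matrix.fromBlocks_apply₂₂, b, D]
      rw [← sumQuot_inr bW bQ l, W.mapQ_apply]
      simp

end Sub

section Exact

variable {R : Type*} [CommRing R] {M1 M2 M3 : Type*} [AddCommGroup M1] [Module R M1]
  [AddCommGroup M2] [Module R M2] [AddCommGroup M3] [Module R M3]

theorem charpoly_eq_mul_of_exact [Module.Free R M1] [Module.Finite R M1] [Module.Free R M2]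
    [Module.Finite R M2] [Module.Free R M3] [Module.Finite R M3]
    (i : M1 →ₗ[R] M2) (π : M2 →ₗ[R] M3) (hi : Function.Injective i)
    (hπ : Function.Surjective π) (hex : Function.Exact i π)
    (f1 : M1 →ₗ[R] M1) (f2 : M2 →ₗ[R] M2) (f3 : M3 →ₗ[R] M3)
    (h12 : ∀ x, f2 (i x) = i (f1 x)) (h23 : ∀ x, π (f2 x) = f3 (π x)) :
    f2.charpoly = f1.charpoly * f3.charpoly := by
  let W : Submodule R M2 := LinearMap.range i
  let e1 : M1 ≃ₗ[R] W := LinearEquiv.ofInjective i hi
  haveI : Module.Free R W := Module.Free.of_equiv e1
  haveI : Module.Finite R W := Module.Finite.equiv e1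
  have hker : W = LinearMap.ker π := hex.linearMap_ker_eq.symm
  let e3 : (M2 ⧸ W) ≃ₗ[R] M3 :=
    (Submodule.quotEquivOfEq W (LinearMap.ker π) hker).trans (π.quotKerEquivOfSurjective hπ)
  haveI : Module.Free R (M2 ⧸ W) := Module.Free.of_equiv e3.symm
  have he : W ≤ W.comap f2 := by
    rintro _ ⟨x, rfl⟩
    exact ⟨f1 x, (h12 x).symm⟩
  have key := charpoly_eq_restrict_mul_mapQ W f2 he
  have r1 : (f2.restrict he).charpoly = f1.charpoly := by
    rw [← LinearEquiv.charpoly_conj e1 f1]
    congr 1
    ext w
    obtain ⟨x, rfl⟩ := e1.surjective w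
    rw [LinearEquiv.conj_apply_apply, LinearEquiv.symm_apply_apply]
    show f2 (i x) = i (f1 x)
    exact h12 x
  have he3 : ∀ x : M2, e3 (Submodule.Quotient.mk x) = π x := fun x => rfl
  have r3 : (W.mapQ W f2 he).charpoly = f3.charpoly := by
    rw [← LinearEquiv.charpoly_conj e3 (W.mapQ W f2 he)]
    congr 1
    ext y
    obtain ⟨x, rfl⟩ := hπ y
    rw [LinearEquiv.conj_apply_apply]
    have : e3.symm (π x) = Submodule.Quotient.mk x := by
      rw [LinearEquiv.symm_apply_eq, he3]
    rw [this, Submodule.mapQ_apply, he3]
    exact h23 x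
  rw [key, r1, r3]

/-- if the quotient in a short exact sequence is projective, the kernel is a direct summand; over a
local ring a finite such kernel of a free module is free -/
theorem free_of_exact_of_projective [IsLocalRing R] [Module.Finite R M1] [Module.Free R M2]
    [Module.Projective R M3]
    (i : M1 →ₗ[R] M2) (π : M2 →ₗ[R] M3) (hi : Function.Injective i)
    (hπ : Function.Surjective π) (hex : Function.Exact i π) : Module.Free R M1 := by
  obtain ⟨s, hs⟩ := Module.projective_lifting_property π LinearMap.id hπ
  let e1 : M1 ≃ₗ[R] LinearMap.range i := LinearEquiv.ofInjective i hi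
  let q : M2 →ₗ[R] M2 := LinearMap.id - s ∘ₗ π
  have hq : ∀ x, q x = x - s (π x) := fun x => rfl
  have hmem : ∀ x : M2, q x ∈ LinearMap.range i := by
    intro x
    rw [← hex.linearMap_ker_eq, LinearMap.mem_ker, hq, map_sub]
    have := LinearMap.congr_fun hs (π x)
    simp only [LinearMap.coe_comp, Function.comp_apply, LinearMap.id_coe, id_eq] at this
    rw [this, sub_self]
  let r : M2 →ₗ[R] M1 :=
    e1.symm.toLinearMap ∘ₗ q.codRestrict (LinearMap.range i) hmem
  have hr : r ∘ₗ i = LinearMap.id := by
    ext x
    show e1.symm (q.codRestrict (LinearMap.range i) hmem (i x)) = x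
    rw [LinearEquiv.symm_apply_eq]
    apply Subtype.ext
    have h0 : π (i x) = 0 := hex.apply_apply_eq_zero x
    show q (i x) = i x
    rw [hq, h0, map_zero, sub_zero]
  haveI : Module.Projective R M1 := Module.Projective.of_split i r hr
  exact Module.free_of_flat_of_isLocalRing

end Exact

section DepthZero

open IsLocalRing TensorProduct

variable {R : Type*} [CommRing R] [IsLocalRing R]

theorem lTensor_injective_of_depth_zero (y : R) (hy : y ≠ 0)
    (hym : ∀ z ∈ maximalIdeal R, z * y = 0)
    {M N : Type*} [AddCommGroup M] [Module R M] [Module.Free R M] [AddCommGroup N] [Module R N]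
    (l : M →ₗ[R] N) (hl : Function.Injective l) :
    Function.Injective (l.lTensor (ResidueField R)) := by
  classical
  rw [injective_iff_map_eq_zero]
  intro z hz
  obtain ⟨v, rfl⟩ := TensorProduct.mk_surjective R M (ResidueField R) residue_surjective z
  have hz' : (1 : R ⧸ maximalIdeal R) ⊗ₜ[R] (l v) = 0 := hz
  have h1 : l v ∈ (maximalIdeal R • ⊤ : Submodule R N) := by
    have := congrArg (quotTensorEquivQuotSMul N (maximalIdeal R)) hz'
    rw [quotTensorEquivQuotSMul_mk_one_tmul, map_zero, Submodule.Quotient.mk_eq_zero] at this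
    exact this
  have h2 : y • l v = 0 := by
    refine Submodule.smul_induction_on h1 ?_ ?_
    · intro r hr n _
      rw [smul_smul, mul_comm, hym r hr, zero_smul]
    · intro a b ha hb
      rw [smul_add, ha, hb, add_zero]
  have h3 : y • v = 0 := hl (by rw [map_smul, h2, map_zero])
  let b := Module.Free.chooseBasis R M
  have h4 : ∀ i, b.repr v i ∈ maximalIdeal R := by
    intro i
    rw [mem_maximalIdeal, mem_nonunits_iff]
    intro hu
    apply hy
    have h5 : y * b.repr v i = 0 := by
      have := congrArg (fun w => b.repr w i) h3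
      simpa using this
    exact (hu.mul_left_eq_zero).mp h5
  have h6 : v ∈ (maximalIdeal R • ⊤ : Submodule R M) := by
    rw [← b.linearCombination_repr v, Finsupp.linearCombination_apply]
    refine Submodule.sum_mem _ fun i _ => ?_
    exact Submodule.smul_mem_smul (h4 i) trivial
  show (1 : R ⧸ maximalIdeal R) ⊗ₜ[R] v = 0
  apply (quotTensorEquivQuotSMul M (maximalIdeal R)).injective
  rw [quotTensorEquivQuotSMul_mk_one_tmul, map_zero, Submodule.Quotient.mk_eq_zero]
  exact h6

end DepthZero

section Loc

variable {A : Type u} [CommRing A] (S : Submonoid A) {M : Type u} [AddCommGroup M] [Module A M]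

theorem charpoly_localizedModule_map [Module.Free A M] [Module.Finite A M]
    [Module.Free (Localization S) (LocalizedModule S M)] (φ : M →ₗ[A] M) :
    (LocalizedModule.map S φ).charpoly = φ.charpoly.map (algebraMap A (Localization S)) := by
  classical
  let b := Module.Free.chooseBasis A M
  haveI : Fintype (Module.Free.ChooseBasisIndex A M) := Module.Free.ChooseBasisIndex.fintype A M
  let b' := b.ofIsLocalizedModule (Localization S) S (LocalizedModule.mkLinearMap S M)
  rw [← LinearMap.charpoly_toMatrix (LocalizedModule.map S φ) b', ← LinearMap.charpoly_toMatrix φ b,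
    ← Matrix.charpoly_map]
  congr 1
  ext i j
  rw [LinearMap.toMatrix_apply, Matrix.map_apply, LinearMap.toMatrix_apply,
    Module.Basis.ofIsLocalizedModule_apply, LocalizedModule.mkLinearMap_apply,
    LocalizedModule.map_mk, ← LocalizedModule.mkLinearMap_apply]
  exact Module.Basis.ofIsLocalizedModule_repr_apply (Localization S) S
    (LocalizedModule.mkLinearMap S M) b (φ (b j)) i

end Loc

end Groth.Agent.Helper20.DetA
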