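import Mathlib
import Groth.Prelude.Def_W4c1famcyclesFFR
import Groth.Agent.Lib.Helper20.DetA

/-!
# Determinants for modules with a finite free resolution
-/

set_option autoImplicit false
universe u

namespace Groth.Agent.Helper20.DetB

open Groth.Agent.Helper20.DetA Polynomial

variable (A : Type u) [CommRing A]

theorem finite_of_ffr (n : ℕ) : ∀ (M : Type u) [AddCommGroup M] [Module A M]
    (_ : FamCyc.HasFiniteFreeResolutionLE A n M), Module.Finite A M := by
  cases n with
  | zero => intro M _ _ hM; exact hM.2
  | succ n =>
    intro M _ _ hM
    obtain ⟨k, f, hf, -⟩ := hM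
    exact Module.Finite.of_surjective f hf

variable [IsNoetherianRing A]

/-- localized maps compose pointwise -/
theorem exact_localized {M0 M1 M2 : Type u} [AddCommGroup M0] [Module A M0] [AddCommGroup M1]
    [Module A M1] [AddCommGroup M2] [Module A M2] (S : Submonoid A)
    (g : M0 →ₗ[A] M1) (h : M1 →ₗ[A] M2) (ex : Function.Exact g h) :
    Function.Exact (LocalizedModule.map S g) (LocalizedModule.map S h) :=
  LocalizedModule.map_exact S g h ex

theorem exists_charpoly (n : ℕ) : ∀ (M : Type u) [AddCommGroup M] [Module A M] [Module.Finite A M]
    (_ : FamCyc.HasFiniteFreeResolutionLE A n M) (φ : M →ₗ[A] M),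
    ∃ χ : Polynomial A, χ.Monic ∧ ∀ (p : Ideal A) [p.IsPrime]
      [Module.Free (Localization.AtPrime p) (LocalizedModule p.primeCompl M)],
      χ.map (algebraMap A (Localization.AtPrime p)) =
        (LocalizedModule.map p.primeCompl φ).charpoly := by
  induction n with
  | zero =>
    intro M _ _ _ hM φ
    haveI : Module.Free A M := hM.1
    refine ⟨φ.charpoly, LinearMap.charpoly_monic φ, ?_⟩
    intro p _ _
    exact (charpoly_localizedModule_map p.primeCompl φ).symm
  | succ n ih =>
    intro M _ _ _ hM φ
    obtain ⟨k, f, hf, hK⟩ := hM
    obtain ⟨ψ, hψ⟩ := Module.projective_lifting_property f (φ.comp f) hf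
    have hψ' : ∀ x, f (ψ x) = φ (f x) := fun x => LinearMap.congr_fun hψ x
    have hKψ : ∀ x ∈ LinearMap.ker f, ψ x ∈ LinearMap.ker f := by
      intro x hx
      rw [LinearMap.mem_ker] at hx ⊢
      rw [hψ', hx, map_zero]
    let κ : LinearMap.ker f →ₗ[A] LinearMap.ker f := ψ.restrict hKψ
    haveI : Module.Finite A (LinearMap.ker f) := inferInstance
    obtain ⟨χκ, hmon, hχκ⟩ := ih (LinearMap.ker f) hK κ
    let P : Polynomial A := ψ.charpoly
    have hPmon : P.Monic := LinearMap.charpoly_monic ψ
    refine ⟨if χκ.natDegree ≤ P.natDegree then P /ₘ χκ else 1, ?_, ?_⟩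
    · split_ifs with hdeg
      · rcases subsingleton_or_nontrivial A with hA | hA
        · exact Subsingleton.elim _ _
        · have : (P /ₘ χκ).leadingCoeff = P.leadingCoeff := by
            apply leadingCoeff_divByMonic_of_monic hmon
            rw [degree_eq_natDegree hmon.ne_zero, degree_eq_natDegree hPmon.ne_zero]
            exact_mod_cast hdeg
          rw [Monic, this]
          exact hPmon
      · exact monic_one
    · intro p _ hfree
      -- notation
      haveI hVfree : Module.Free (Localization.AtPrime p)
          (LocalizedModule p.primeCompl (Fin k → A)) :=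
        Module.free_of_isLocalizedModule p.primeCompl
          (LocalizedModule.mkLinearMap p.primeCompl (Fin k → A))
      have hinj := LocalizedModule.map_injective p.primeCompl (LinearMap.ker f).subtype
        (LinearMap.ker f).injective_subtype
      have hsurj := LocalizedModule.map_surjective p.primeCompl f hf
      have hex := exact_localized A p.primeCompl (LinearMap.ker f).subtype f
        (LinearMap.exact_subtype_ker_map f)
      haveI hKfree : Module.Free (Localization.AtPrime p)
          (LocalizedModule p.primeCompl (LinearMap.ker f)) :=
        free_of_exact_of_projective _ _ hinj hsurj hex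
      have h1 : P.map (algebraMap A (Localization.AtPrime p)) =
          (LocalizedModule.map p.primeCompl ψ).charpoly :=
        (charpoly_localizedModule_map p.primeCompl ψ).symm
      have h2 := hχκ p
      have h3 : (LocalizedModule.map p.primeCompl ψ).charpoly =
          LinearMap.charpoly (R := Localization.AtPrime p)
            (M := LocalizedModule p.primeCompl (LinearMap.ker f))
            (LocalizedModule.map p.primeCompl κ) *
            (LocalizedModule.map p.primeCompl φ).charpoly := by
        apply charpoly_eq_mul_of_exact _ _ hinj hsurj hex
        · intro x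
          induction x using LocalizedModule.induction_on with | _ m s
          rw [LocalizedModule.map_mk, LocalizedModule.map_mk, LocalizedModule.map_mk,
            LocalizedModule.map_mk]
          rfl
        · intro x
          induction x using LocalizedModule.induction_on with | _ m s
          rw [LocalizedModule.map_mk, LocalizedModule.map_mk, LocalizedModule.map_mk,
            LocalizedModule.map_mk, hψ']
      have hmon' : (χκ.map (algebraMap A (Localization.AtPrime p))).Monic := hmon.map _
      have hdeg : χκ.natDegree ≤ P.natDegree := by
        rw [← hmon.natDegree_map (algebraMap A (Localization.AtPrime p)),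
          ← hPmon.natDegree_map (algebraMap A (Localization.AtPrime p)), h1, h3, h2,
          (LinearMap.charpoly_monic _).natDegree_mul (LinearMap.charpoly_monic _)]
        exact Nat.le_add_right _ _
      rw [if_pos hdeg, map_divByMonic _ hmon, h1, h3, ← h2]
      exact mul_divByMonic_cancel_left _ hmon'

theorem free_localized_of_isAssociatedPrime (n : ℕ) : ∀ (M : Type u) [AddCommGroup M]
    [Module A M] (_ : FamCyc.HasFiniteFreeResolutionLE A n M) (P : Ideal A) [P.IsPrime]
    (_ : IsAssociatedPrime P A),
    Module.Free (Localization.AtPrime P) (LocalizedModule P.primeCompl M) := by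
  induction n with
  | zero =>
    intro M _ _ hM P _ _
    haveI : Module.Free A M := hM.1
    exact Module.free_of_isLocalizedModule P.primeCompl
      (LocalizedModule.mkLinearMap P.primeCompl M)
  | succ n ih =>
    intro M _ _ hM P _ hP
    obtain ⟨k, f, hf, hK⟩ := hM
    haveI hKfree := ih (LinearMap.ker f) hK P hP
    haveI : Module.Finite A (LinearMap.ker f) := inferInstance
    haveI hVfree : Module.Free (Localization.AtPrime P)
        (LocalizedModule P.primeCompl (Fin k → A)) :=
      Module.free_of_isLocalizedModule P.primeCompl
        (LocalizedModule.mkLinearMap P.primeCompl (Fin k → A))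
    obtain ⟨-, y, hy⟩ := isAssociatedPrime_iff.mp hP
    have hmemP : ∀ r : A, r ∈ P ↔ r * y = 0 := by
      intro r
      rw [hy, Submodule.mem_colon_singleton, Submodule.mem_bot, smul_eq_mul]
    have hy0 : algebraMap A (Localization.AtPrime P) y ≠ 0 := by
      intro h
      obtain ⟨s, hs⟩ := (IsLocalization.map_eq_zero_iff P.primeCompl _ y).mp h
      exact s.2 ((hmemP _).mpr hs)
    have hym : ∀ z ∈ IsLocalRing.maximalIdeal (Localization.AtPrime P),
        z * algebraMap A (Localization.AtPrime P) y = 0 := by
      intro z hz
      obtain ⟨r, s, rfl⟩ := IsLocalization.exists_mk'_eq P.primeCompl z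
      have hr : r ∈ P := (IsLocalization.AtPrime.mk'_mem_maximal_iff _ P r s).mp hz
      rw [mul_comm, IsLocalization.mul_mk'_eq_mk'_of_mul, mul_comm, (hmemP r).mp hr,
        IsLocalization.mk'_zero]
    have hinj := LocalizedModule.map_injective P.primeCompl (LinearMap.ker f).subtype
      (LinearMap.ker f).injective_subtype
    have hsurj := LocalizedModule.map_surjective P.primeCompl f hf
    have hex := exact_localized A P.primeCompl (LinearMap.ker f).subtype f
      (LinearMap.exact_subtype_ker_map f)
    have hten := lTensor_injective_of_depth_zero (R := Localization.AtPrime P)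
      (M := LocalizedModule P.primeCompl (LinearMap.ker f))
      (N := LocalizedModule P.primeCompl (Fin k → A)) _ hy0 hym
      (LocalizedModule.map P.primeCompl (LinearMap.ker f).subtype) hinj
    exact Module.free_of_lTensor_residueField_injective _ _ hsurj hex hten

end Groth.Agent.Helper20.DetB
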