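import Mathlib
import Groth.Prelude.Def_W4c1chowmix47Eta
import Groth.Agent.Lib.Helper20.EtaSpec
import Groth.Agent.Lib.Helper20.EtaRel

namespace Groth.Agent.Helper20.EtaInt

open EtaPt Groth.Agent.Helper20.EtaBase Groth.Agent.Helper20.EtaSpec Groth.Agent.Helper20.EtaRel

universe u

variable (η : FieldEndo.{u})

section Lift

variable {A B : Type u} [CommRing A] [CommRing B]

/-- a point of `A` with values in an algebraically closed field extends along an integral map
which is surjective on spectra -/
theorem exists_lift_algClosed (f : A →+* B) (hf : f.IsIntegral)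
    (hs : Function.Surjective (PrimeSpectrum.comap f)) {Ω : Type u} [Field Ω] [IsAlgClosed Ω]
    (φ : A →+* Ω) : ∃ ψ : B →+* Ω, ψ.comp f = φ := by
  obtain ⟨q, hq⟩ := hs (pt φ)
  letI : Algebra A B := f.toAlgebra
  haveI : Algebra.IsIntegral A B := ⟨hf⟩
  haveI : q.asIdeal.LiesOver (RingHom.ker φ) := ⟨by
    have := congrArg PrimeSpectrum.asIdeal hq
    rw [pt_asIdeal] at this
    rw [← this]; rfl⟩
  haveI : (RingHom.ker φ).IsPrime := RingHom.ker_isPrime φ
  letI : Algebra (A ⧸ RingHom.ker φ) Ω := (RingHom.kerLift φ).toAlgebra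
  haveI : FaithfulSMul (A ⧸ RingHom.ker φ) (B ⧸ q.asIdeal) := inferInstance
  haveI : Module.IsTorsionFree (A ⧸ RingHom.ker φ) (B ⧸ q.asIdeal) :=
    FaithfulSMul.to_isTorsionFree _ _
  haveI : FaithfulSMul (A ⧸ RingHom.ker φ) Ω := by
    rw [faithfulSMul_iff_algebraMap_injective]
    exact RingHom.kerLift_injective φ
  haveI : Module.IsTorsionFree (A ⧸ RingHom.ker φ) Ω := FaithfulSMul.to_isTorsionFree _ _
  let l : (B ⧸ q.asIdeal) →ₐ[A ⧸ RingHom.ker φ] Ω := IsAlgClosed.lift
  refine ⟨l.toRingHom.comp (Ideal.Quotient.mk q.asIdeal), ?_⟩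
  ext a
  have e : Ideal.Quotient.mk q.asIdeal (f a) =
      algebraMap (A ⧸ RingHom.ker φ) (B ⧸ q.asIdeal) (Ideal.Quotient.mk (RingHom.ker φ) a) := rfl
  simp only [RingHom.comp_apply]
  rw [e]
  change l (algebraMap (A ⧸ RingHom.ker φ) (B ⧸ q.asIdeal) (Ideal.Quotient.mk (RingHom.ker φ) a)) = _
  rw [AlgHom.commutes]
  rfl

end Lift

section LocalAnalysis

variable {R : Type u} [CommRing R] [IsDomain R] [ValuationRing R]

theorem apply_eq_of_eq {A : Type u} [CommRing A] (x y : η.N A) {P P' : PrimeSpectrum A} (h : P = P')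
    (h0 : x P' = y P') : x P = y P := by
  subst h; exact h0

/-- the generic value of `y` transported to a bigger valuation ring -/
theorem generic_compare (y : η.N R) (r : FractionRing R)
    (hr : η.eta _ r = ev η (algebraMap R (FractionRing R)) y)
    (W : Type u) [CommRing W] [IsDomain W] (j : R →+* W) (w : W)
    (hw : η.Nmap j y = η.t W w) (ι : FractionRing R →+* FractionRing W)
    (hι : ι.comp (algebraMap R (FractionRing R)) = (algebraMap W (FractionRing W)).comp j) :
    algebraMap W (FractionRing W) w = ι r := by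
  apply (η.eta (FractionRing W)).injective
  have h1 : ev η ((algebraMap W (FractionRing W)).comp j) y = η.eta _ (algebraMap W (FractionRing W) w) := by
    rw [← ev_Nmap, hw, ev_t]
  rw [← h1, ← hι, ev_comp, ← hr]
  have := DFunLike.congr_fun (η.eta_natural ι) r
  simp only [RingHom.comp_apply] at this
  exact this

theorem exists_fracMap (W : Type u) [CommRing W] [IsDomain W] (j : R →+* W) (hj : Function.Injective j) :
    ∃ ι : FractionRing R →+* FractionRing W,
      ι.comp (algebraMap R (FractionRing R)) = (algebraMap W (FractionRing W)).comp j := by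
  have hinj : Function.Injective ((algebraMap W (FractionRing W)).comp j) :=
    (IsFractionRing.injective W (FractionRing W)).comp hj
  refine ⟨IsFractionRing.lift (A := R) (K := FractionRing R) (L := FractionRing W) hinj, ?_⟩
  apply RingHom.ext
  intro a
  rw [RingHom.comp_apply]
  exact IsFractionRing.lift_algebraMap hinj a

theorem mem_range_t_of_local (hR : η.InV R) (y : η.N R)
    (H : ∀ 𝔮 : PrimeSpectrum R, ∃ (W : Type u) (_ : CommRing W) (_ : IsDomain W) (_ : IsLocalRing W)
      (j : R →+* W), Function.Injective j ∧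
        (IsLocalRing.maximalIdeal W).comap j = 𝔮.asIdeal ∧ η.Nmap j y ∈ (η.t W).range) :
    y ∈ (η.t R).range := by
  obtain ⟨r, hr⟩ := hR.2 (ev η (algebraMap R (FractionRing R)) y)
  -- `r` lies in `R`
  have hrR : ∃ r₀ : R, algebraMap R (FractionRing R) r₀ = r := by
    rcases ValuationRing.isInteger_or_isInteger R r with ⟨r₀, h⟩ | ⟨s, hs⟩
    · exact ⟨r₀, h⟩
    · by_cases hr0 : r = 0
      · exact ⟨0, by rw [map_zero, hr0]⟩
      by_cases hsu : IsUnit s
      · obtain ⟨u, rfl⟩ := hsu
        refine ⟨((u⁻¹ : Rˣ) : R), ?_⟩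
        have h1 : algebraMap R (FractionRing R) (u : R) * algebraMap R (FractionRing R) ((u⁻¹ : Rˣ) : R) = 1 := by
          rw [← map_mul, Units.mul_inv, map_one]
        rw [hs] at h1
        field_simp at h1
        exact h1
      · exfalso
        obtain ⟨W, _, _, _, j, hj, hcomap, w, hw⟩ := H (IsLocalRing.closedPoint R)
        obtain ⟨ι, hι⟩ := exists_fracMap W j hj
        have hwr := generic_compare η y r hr W j w hw.symm ι hι
        have hs𝔪 : j s ∈ IsLocalRing.maximalIdeal W := by
          have : s ∈ (IsLocalRing.closedPoint R).asIdeal := hsu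
          rw [← hcomap] at this
          exact this
        apply hs𝔪
        have h2 : algebraMap W (FractionRing W) (j s * w) = 1 := by
          have := DFunLike.congr_fun hι s
          simp only [RingHom.comp_apply] at this
          rw [map_mul, ← this, hwr, hs, ← map_mul, inv_mul_cancel₀ hr0, map_one]
        have h3 : j s * w = 1 := IsFractionRing.injective W (FractionRing W) (by rw [h2, map_one])
        exact IsUnit.of_mul_eq_one _ h3
  obtain ⟨r₀, rfl⟩ := hrR
  refine ⟨r₀, ?_⟩
  funext 𝔮
  obtain ⟨W, _, _, _, j, hj, hcomap, w, hw⟩ := H 𝔮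
  obtain ⟨ι, hι⟩ := exists_fracMap W j hj
  have hwr := generic_compare η y _ hr W j w hw.symm ι hι
  have hw2 : w = j r₀ := by
    apply IsFractionRing.injective W (FractionRing W)
    rw [hwr]
    exact DFunLike.congr_fun hι r₀
  have h1 : η.Nmap j (η.t R r₀) = η.Nmap j y := by
    rw [η.Nmap_t_apply, ← hw2, hw]
  have h2 := congrFun h1 (IsLocalRing.closedPoint W)
  rw [Nmap_apply, Nmap_apply] at h2
  have h3 := (η.map _).injective h2
  exact apply_eq_of_eq η _ _ (PrimeSpectrum.ext hcomap.symm) h3

end LocalAnalysis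

section MainInt

variable {A B : Type u} [CommRing A] [CommRing B]

theorem mem_M_of_Nmap_mem_M_of_surjective (f : A →+* B) (hf : f.IsIntegral)
    (hs : Function.Surjective (PrimeSpectrum.comap f)) (x : η.N A) (hx : η.Nmap f x ∈ η.M B) :
    x ∈ η.M A := by
  intro R _ _ _ hR g
  apply mem_range_t_of_local η hR
  intro 𝔮
  -- the algebraic closure of the fraction field
  set K := FractionRing R with hK
  set K' := AlgebraicClosure K with hK'
  let φ : A →+* K' := (algebraMap R K').comp g
  obtain ⟨ψ, hψ⟩ := exists_lift_algClosed f hf hs φ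
  -- the subalgebra generated by the image of `B`
  let D : Subalgebra R K' := Algebra.adjoin R (Set.range ψ)
  haveI hDint : Algebra.IsIntegral R D := Algebra.IsIntegral.adjoin (by
    rintro _ ⟨b, rfl⟩
    obtain ⟨P, hP, h0⟩ := hf b
    refine ⟨P.map g, hP.map g, ?_⟩
    rw [Polynomial.eval₂_map]
    have h1 := Polynomial.hom_eval₂ P f ψ b
    rw [h0, map_zero, hψ] at h1
    exact h1.symm)
  have hRK' : Function.Injective (algebraMap R K') := by
    rw [IsScalarTower.algebraMap_eq R K K']
    exact (algebraMap K K').injective.comp (IsFractionRing.injective R K)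
  have hRD : Function.Injective (algebraMap R D) := by
    intro a b hab
    apply hRK'
    exact congrArg Subtype.val hab
  -- a prime of `D` over `𝔮`
  haveI := 𝔮.isPrime
  obtain ⟨𝔔, -, h𝔔prime, h𝔔⟩ := Ideal.exists_ideal_over_prime_of_isIntegral 𝔮.asIdeal
    (⊥ : Ideal D) (by
      rw [Ideal.comap_bot_of_injective _ hRD]
      exact bot_le)
  -- a valuation ring of `F(K')` centered there
  let θ : D →+* η.obj K' := (η.eta K').comp D.val.toRingHom
  have hθinj : Function.Injective θ := (η.eta K').injective.comp Subtype.val_injective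
  obtain ⟨W, gD, hgD, hcen⟩ := exists_valuationSubring_center θ 𝔔 (by
    rw [(RingHom.injective_iff_ker_eq_bot θ).mp hθinj]
    exact bot_le)
  have hInV : η.InV W := inV_valuationSubring η W (bijective_eta_obj η)
  let ψD : B →+* D := ψ.codRestrict D.toSubring (fun b => Algebra.subset_adjoin ⟨b, rfl⟩)
  have hcomm : (gD.comp ψD).comp f = (gD.comp (algebraMap R D)).comp g := by
    rw [RingHom.comp_assoc, RingHom.comp_assoc]
    congr 1
    apply RingHom.ext
    intro a
    apply Subtype.ext
    exact DFunLike.congr_fun hψ a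
  refine ⟨W, inferInstance, inferInstance, inferInstance, gD.comp (algebraMap R D), ?_, ?_, ?_⟩
  · intro a b hab
    apply hRD
    apply hθinj
    have := congrArg Subtype.val hab
    simp only [RingHom.comp_apply] at this
    rw [← hgD, ← hgD]
    exact this
  · rw [← Ideal.comap_comap, hcen, h𝔔]
  · have := hx W hInV (gD.comp ψD)
    rw [← Nmap_comp, hcomm, Nmap_comp] at this
    exact this

end MainInt

end Groth.Agent.Helper20.EtaInt
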