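import Mathlib
import Groth.Prelude.Def_W4c1chowmix47Eta
import Groth.Agent.Lib.Helper20.EtaSpec
import Groth.Agent.Lib.Helper20.EtaRel

namespace Groth.Agent.Helper20.EtaLoc

open EtaPt Groth.Agent.Helper20.EtaBase Groth.Agent.Helper20.EtaSpec Groth.Agent.Helper20.EtaRel

universe u

variable (η : FieldEndo.{u})

section Away

variable {A : Type u} [CommRing A] (f : A) {Af : Type u} [CommRing Af] [Algebra A Af]
  [IsLocalization.Away f Af]

/-- a point of `A` not killing `f` extends to the localization -/
noncomputable def liftPt {L : Type u} [Field L] (φ : A →+* L) (h : φ f ≠ 0) : Af →+* L :=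
  IsLocalization.Away.lift f (g := φ) (isUnit_iff_ne_zero.mpr h)

theorem liftPt_comp {L : Type u} [Field L] (φ : A →+* L) (h : φ f ≠ 0) :
    (liftPt f φ h : Af →+* L).comp (algebraMap A Af) = φ :=
  IsLocalization.Away.lift_comp _ _

theorem liftPt_unique {L : Type u} [Field L] (φ : A →+* L) (h : φ f ≠ 0) (ψ : Af →+* L)
    (hψ : ψ.comp (algebraMap A Af) = φ) : ψ = liftPt f φ h := by
  apply IsLocalization.ringHom_ext (Submonoid.powers f)
  rw [hψ, liftPt_comp]

theorem algebraMap_residue_ne_zero (p : PrimeSpectrum A) (h : f ∉ p.asIdeal) :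
    algebraMap A p.asIdeal.ResidueField f ≠ 0 := by
  intro h0
  apply h
  rw [← Ideal.ker_algebraMap_residueField p.asIdeal]
  exact h0

variable (Af)

open Classical in
/-- extension by zero of an element of `N (A_f)` -/
noncomputable def ext0 (y : η.N Af) : η.N A := fun p =>
  if h : f ∉ p.asIdeal then
    ev η (liftPt f (algebraMap A p.asIdeal.ResidueField) (algebraMap_residue_ne_zero f p h) : Af →+* _) y
  else 0

theorem ext0_apply_of_mem (y : η.N Af) (p : PrimeSpectrum A) (h : f ∈ p.asIdeal) :
    ext0 η f Af y p = 0 := by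
  rw [ext0, dif_neg (not_not.mpr h)]

theorem ev_ext0 {L : Type u} [Field L] (ψ : Af →+* L) (y : η.N Af) :
    ev η (ψ.comp (algebraMap A Af)) (ext0 η f Af y) = ev η ψ y := by
  rw [ev_apply]
  have hf : f ∉ (pt (ψ.comp (algebraMap A Af))).asIdeal := by
    rw [pt_asIdeal, RingHom.mem_ker, RingHom.comp_apply]
    have : IsUnit (ψ (algebraMap A Af f)) :=
      (IsLocalization.Away.algebraMap_isUnit (S := Af) f).map ψ
    exact this.ne_zero
  rw [ext0, dif_pos hf, ← ev_comp]
  have e : (resLift (pt (ψ.comp (algebraMap A Af))) (ψ.comp (algebraMap A Af)) rfl).comp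
      (liftPt f (algebraMap A (pt (ψ.comp (algebraMap A Af))).asIdeal.ResidueField)
        (algebraMap_residue_ne_zero f _ hf) : Af →+* _) = ψ := by
    apply IsLocalization.ringHom_ext (Submonoid.powers f)
    rw [RingHom.comp_assoc, liftPt_comp, resLift_comp_algebraMap]
  rw [e]

theorem Nmap_ext0 (y : η.N Af) : η.Nmap (algebraMap A Af) (ext0 η f Af y) = y := by
  apply N_ext
  intro q
  rw [ev_Nmap, ev_ext0]

theorem ev_eq_zero_of_Nmap_eq_zero {L : Type u} [Field L] (φ : A →+* L) (h : φ f ≠ 0) (x : η.N A)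
    (hx : η.Nmap (algebraMap A Af) x = 0) : ev η φ x = 0 := by
  rw [← liftPt_comp (Af := Af) f φ h, ← ev_Nmap, hx, map_zero]

theorem t_mul_eq_zero_of_Nmap_eq_zero (x : η.N A) (hx : η.Nmap (algebraMap A Af) x = 0) :
    η.t A f * x = 0 := by
  funext p
  change η.t A f p * x p = 0
  by_cases h : f ∈ p.asIdeal
  · have : η.t A f p = 0 := by
      rw [t_apply]
      have : f ∈ RingHom.ker (phiF η p) := by rw [ker_phiF]; exact h
      exact this
    rw [this, zero_mul]
  · have := ev_eq_zero_of_Nmap_eq_zero η f Af (algebraMap A p.asIdeal.ResidueField)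
      (algebraMap_residue_ne_zero f p h) x hx
    rw [ev_algebraMap] at this
    rw [this, mul_zero]

theorem Nmap_away_isLocalization :
    (∀ y : η.N Af, ∃ (x : η.N A) (n : ℕ),
        y * η.t Af (algebraMap A Af f) ^ n = η.Nmap (algebraMap A Af) x) ∧
      ∀ x : η.N A, η.Nmap (algebraMap A Af) x = 0 → ∃ n : ℕ, η.t A f ^ n * x = 0 := by
  constructor
  · intro y
    exact ⟨ext0 η f Af y, 0, by rw [pow_zero, mul_one, Nmap_ext0]⟩
  · intro x hx
    exact ⟨1, by rw [pow_one]; exact t_mul_eq_zero_of_Nmap_eq_zero η f Af x hx⟩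

end Away

section MinPrimes

variable {A : Type u} [CommRing A] (S : Submonoid A) (Af : Type u) [CommRing Af] [Algebra A Af]
  [IsLocalization S Af]

include S in
theorem minimalPrimes_finite_of_isLocalization (hA : (minimalPrimes A).Finite) :
    (minimalPrimes Af).Finite := by
  have h1 : minimalPrimes Af = Ideal.under A ⁻¹' minimalPrimes A := by
    have := IsLocalization.minimalPrimes_map S Af (⊥ : Ideal A)
    rw [Ideal.map_bot] at this
    exact this
  rw [h1]
  apply Set.Finite.preimage _ hA
  intro I _ J _ hIJ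
  rw [← IsLocalization.map_under S Af I, ← IsLocalization.map_under S Af J, hIJ]

end MinPrimes

section Scale

variable {A : Type u} [CommRing A] (f : A) (Af : Type u) [CommRing Af] [Algebra A Af]
  [IsLocalization.Away f Af]

/-- a power multiple of an element of `M (A_f)` is integral over `A` -/
theorem exists_scaled_integral (hA : (minimalPrimes A).Finite) {y : η.N Af} (hy : y ∈ η.M Af) :
    ∃ k : ℕ, ((η.t Af).comp (algebraMap A Af)).IsIntegralElem (y * η.t Af (algebraMap A Af f) ^ k) := by
  have hAf : (minimalPrimes Af).Finite :=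
    minimalPrimes_finite_of_isLocalization (Submonoid.powers f) Af hA
  have hint := isIntegral_q η hAf ⟨y, hy⟩
  have hint' : (η.t Af).IsIntegralElem y := by
    obtain ⟨P, hP, h0⟩ := hint
    refine ⟨P, hP, ?_⟩
    have h1 := Polynomial.hom_eval₂ P (η.q Af) (η.M Af).subtype ⟨y, hy⟩
    rw [h0, map_zero] at h1
    exact h1.symm
  letI : Algebra Af (η.N Af) := (η.t Af).toAlgebra
  letI : Algebra A (η.N Af) := ((η.t Af).comp (algebraMap A Af)).toAlgebra
  haveI : IsScalarTower A Af (η.N Af) := IsScalarTower.of_algebraMap_eq (fun _ => rfl)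
  obtain ⟨⟨m, k, hk⟩, hm⟩ := IsIntegral.exists_multiple_integral_of_isLocalization
    (Submonoid.powers f) (Rₘ := Af) (S := η.N Af) y hint'
  refine ⟨k, ?_⟩
  have e : (⟨m, k, hk⟩ : Submonoid.powers f) • y = y * η.t Af (algebraMap A Af f) ^ k := by
    rw [Submonoid.smul_def, Algebra.smul_def, mul_comm]
    congr 1
    change η.t Af (algebraMap A Af m) = _
    rw [← hk, map_pow, map_pow]
  rw [e] at hm
  exact hm

end Scale

section ValLoc

variable (R : Type u) [CommRing R] [IsDomain R] [ValuationRing R] (s : R)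

/-- the map from `R[1/s]` to the fraction field of `R` -/
noncomputable def awayToFrac (hs : s ≠ 0) : Localization.Away s →+* FractionRing R :=
  IsLocalization.Away.lift s (g := algebraMap R (FractionRing R))
    (isUnit_iff_ne_zero.mpr (by
      intro h
      exact hs (IsFractionRing.injective R (FractionRing R) (by rw [h, map_zero]))))

theorem awayToFrac_algebraMap (hs : s ≠ 0) (r : R) :
    awayToFrac R s hs (algebraMap R (Localization.Away s) r) = algebraMap R (FractionRing R) r :=
  IsLocalization.Away.lift_eq _ _ _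

theorem away_props (hs : s ≠ 0) (hR : η.InV R) :
    ∃ (_ : IsDomain (Localization.Away s)) (_ : ValuationRing (Localization.Away s)),
      η.InV (Localization.Away s) ∧ Function.Injective (awayToFrac R s hs) := by
  haveI hdom : IsDomain (Localization.Away s) :=
    IsLocalization.isDomain_localization (powers_le_nonZeroDivisors_of_noZeroDivisors hs)
  letI : Algebra (Localization.Away s) (FractionRing R) := (awayToFrac R s hs).toAlgebra
  haveI : IsScalarTower R (Localization.Away s) (FractionRing R) :=
    IsScalarTower.of_algebraMap_eq (fun r => (awayToFrac_algebraMap R s hs r).symm)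
  haveI : IsFractionRing (Localization.Away s) (FractionRing R) :=
    IsFractionRing.isFractionRing_of_isDomain_of_isLocalization (Submonoid.powers s)
      (Localization.Away s) (FractionRing R)
  have hval : ValuationRing (Localization.Away s) := by
    rw [ValuationRing.iff_isInteger_or_isInteger (Localization.Away s) (FractionRing R)]
    intro x
    rcases ValuationRing.isInteger_or_isInteger R x with ⟨r, hr⟩ | ⟨r, hr⟩
    · left
      exact ⟨algebraMap R _ r, by rw [← hr, ← IsScalarTower.algebraMap_apply]⟩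
    · right
      exact ⟨algebraMap R _ r, by rw [← hr, ← IsScalarTower.algebraMap_apply]⟩
  refine ⟨hdom, hval, ?_, ?_⟩
  · exact (inV_iff η (Localization.Away s) (FractionRing R)).mpr hR
  · exact IsFractionRing.injective (Localization.Away s) (FractionRing R)

theorem away_integral (hs : s ≠ 0) (r' : Localization.Away s)
    (h : (algebraMap R (Localization.Away s)).IsIntegralElem r') :
    ∃ r₀ : R, algebraMap R (Localization.Away s) r₀ = r' := by
  obtain ⟨_, _, _, hinj⟩ := away_props (η := FieldEndo.ident) R s hs (by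
    change Function.Bijective (RingHom.id _)
    exact Function.bijective_id)
  have h1 : IsIntegral R (awayToFrac R s hs r') := by
    obtain ⟨P, hP, h0⟩ := h
    refine ⟨P, hP, ?_⟩
    have h2 := Polynomial.hom_eval₂ P (algebraMap R (Localization.Away s)) (awayToFrac R s hs) r'
    rw [h0, map_zero] at h2
    rw [h2]
    congr 1
    apply RingHom.ext
    intro r
    exact (awayToFrac_algebraMap R s hs r).symm
  obtain ⟨r₀, hr₀⟩ := (IsIntegrallyClosed.isIntegral_iff (R := R)).mp h1
  refine ⟨r₀, hinj ?_⟩
  rw [awayToFrac_algebraMap, hr₀]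

end ValLoc

section MAway

variable {A : Type u} [CommRing A] (f : A) (Af : Type u) [CommRing Af] [Algebra A Af]
  [IsLocalization.Away f Af]

theorem Nmap_comp_t {B C : Type u} [CommRing B] [CommRing C] (g : B →+* C) :
    (η.Nmap g).comp (η.t B) = (η.t C).comp g := by
  apply RingHom.ext
  intro b
  exact η.Nmap_t_apply g b

theorem mem_M_ext0 {y : η.N Af} (hy : y ∈ η.M Af) (k : ℕ)
    (hk : ((η.t Af).comp (algebraMap A Af)).IsIntegralElem (y * η.t Af (algebraMap A Af f) ^ k)) :
    ext0 η f Af (y * η.t Af (algebraMap A Af f) ^ (k + 1)) ∈ η.M A := by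
  intro R _ _ _ hR g
  by_cases hgf : g f = 0
  · refine ⟨0, ?_⟩
    rw [map_zero]
    symm
    funext 𝔮
    rw [Nmap_apply, ext0_apply_of_mem, map_zero]
    · rfl
    · change g f ∈ 𝔮.asIdeal
      rw [hgf]
      exact Ideal.zero_mem _
  · obtain ⟨hdom, hval, hInV, -⟩ := away_props η R (g f) hgf hR
    set R' := Localization.Away (g f) with hR'
    have hunit : IsUnit (((algebraMap R R').comp g) f) :=
      IsLocalization.Away.algebraMap_isUnit (S := R') (g f)
    set g' : Af →+* R' := IsLocalization.Away.lift f (g := (algebraMap R R').comp g) hunit with hg'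
    have hg'comp : g'.comp (algebraMap A Af) = (algebraMap R R').comp g :=
      IsLocalization.Away.lift_comp _ _
    obtain ⟨r', hr'⟩ := hy R' hInV g'
    have hg'f : g' (algebraMap A Af f) = algebraMap R R' (g f) := DFunLike.congr_fun hg'comp f
    -- the scaled element comes from `R`
    have hint : (algebraMap R R').IsIntegralElem (r' * algebraMap R R' (g f) ^ k) := by
      obtain ⟨P, hP, h0⟩ := hk
      have h1 := Polynomial.hom_eval₂ P ((η.t Af).comp (algebraMap A Af)) (η.Nmap g')
        (y * η.t Af (algebraMap A Af f) ^ k)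
      rw [h0, map_zero, ← RingHom.comp_assoc, Nmap_comp_t, RingHom.comp_assoc, hg'comp,
        map_mul, map_pow, η.Nmap_t_apply, hg'f, ← hr', ← map_pow, ← map_mul,
        ← Polynomial.hom_eval₂] at h1
      have h2 := t_injective η (B := R') (h1.symm.trans (map_zero _).symm)
      refine ⟨P.map g, hP.map g, ?_⟩
      rw [Polynomial.eval₂_map]
      exact h2
    obtain ⟨r₀, hr₀⟩ := away_integral R (g f) hgf _ hint
    refine ⟨r₀ * g f, ?_⟩
    symm
    apply N_ext
    intro 𝔮
    rw [ev_Nmap, ev_t]
    by_cases h𝔮 : g f ∈ 𝔮.asIdeal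
    · have e0 : algebraMap R 𝔮.asIdeal.ResidueField (r₀ * g f) = 0 := by
        have : r₀ * g f ∈ RingHom.ker (algebraMap R 𝔮.asIdeal.ResidueField) := by
          rw [Ideal.ker_algebraMap_residueField]
          exact Ideal.mul_mem_left _ _ h𝔮
        exact this
      rw [e0, map_zero, ev_apply, ext0_apply_of_mem, map_zero]
      rw [pt_asIdeal, RingHom.mem_ker, RingHom.comp_apply]
      have : g f ∈ RingHom.ker (algebraMap R 𝔮.asIdeal.ResidueField) := by
        rw [Ideal.ker_algebraMap_residueField]
        exact h𝔮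
      exact this
    · have hχu : IsUnit (algebraMap R 𝔮.asIdeal.ResidueField (g f)) :=
        isUnit_iff_ne_zero.mpr (algebraMap_residue_ne_zero (g f) 𝔮 h𝔮)
      set χ : R' →+* 𝔮.asIdeal.ResidueField := IsLocalization.Away.lift (g f) hχu with hχ
      have hχcomp : χ.comp (algebraMap R R') = algebraMap R 𝔮.asIdeal.ResidueField :=
        IsLocalization.Away.lift_comp _ _
      have e1 : (algebraMap R 𝔮.asIdeal.ResidueField).comp g = (χ.comp g').comp (algebraMap A Af) := by
        rw [RingHom.comp_assoc, hg'comp, ← RingHom.comp_assoc, hχcomp]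
      rw [e1, ev_ext0, ← ev_Nmap, map_mul, map_pow, η.Nmap_t_apply, hg'f, ← hr', ← map_pow,
        ← map_mul, ev_t, pow_succ, ← mul_assoc, ← hr₀, ← map_mul]
      exact congrArg _ (DFunLike.congr_fun hχcomp (r₀ * g f))

theorem M_away_isLocalization (hA : (minimalPrimes A).Finite) :
    (∀ y ∈ η.M Af, ∃ x ∈ η.M A, ∃ n : ℕ,
        y * η.t Af (algebraMap A Af f) ^ n = η.Nmap (algebraMap A Af) x) ∧
      ∀ x ∈ η.M A, η.Nmap (algebraMap A Af) x = 0 → ∃ n : ℕ, η.t A f ^ n * x = 0 := by
  constructor
  · intro y hy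
    obtain ⟨k, hk⟩ := exists_scaled_integral η f Af hA hy
    exact ⟨_, mem_M_ext0 η f Af hy k hk, k + 1, (Nmap_ext0 η f Af _).symm⟩
  · intro x _ hx
    exact ⟨1, by rw [pow_one]; exact t_mul_eq_zero_of_Nmap_eq_zero η f Af x hx⟩

end MAway

section RelAway

variable {A B : Type u} [CommRing A] [CommRing B]

theorem awayMap_comp (φ : A →+* B) (f : A) :
    (Localization.awayMap φ f).comp (algebraMap A (Localization.Away f)) =
      (algebraMap B (Localization.Away (φ f))).comp φ :=
  IsLocalization.map_comp _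

theorem rel_away_isLocalization (hA : (minimalPrimes A).Finite) (φ : A →+* B) (f : A) :
    (η.rel φ).map (algebraMap B (Localization.Away (φ f))) ≤ η.rel (Localization.awayMap φ f) ∧
      ∀ y ∈ η.rel (Localization.awayMap φ f), ∃ x ∈ η.rel φ, ∃ n : ℕ,
        y * algebraMap B (Localization.Away (φ f)) (φ f) ^ n =
          algebraMap B (Localization.Away (φ f)) x := by
  constructor
  · rintro _ ⟨b, hb, rfl⟩
    obtain ⟨x, hx, hxb⟩ := (mem_rel_iff η φ b).mp hb
    refine ⟨η.Nmap (algebraMap A (Localization.Away f)) x, Nmap_mem_M η _ hx, ?_⟩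
    rw [← Nmap_comp, awayMap_comp, Nmap_comp, hxb, η.Nmap_t_apply]
  · intro y hy
    obtain ⟨z, hz, hzy⟩ := (mem_rel_iff η _ y).mp hy
    obtain ⟨x', hx', n, hn⟩ := (M_away_isLocalization η f (Localization.Away f) hA).1 z hz
    obtain ⟨m, b, hmb⟩ := IsLocalization.Away.surj (φ f) y
    have e2 : Localization.awayMap φ f (algebraMap A (Localization.Away f) f) =
        algebraMap B (Localization.Away (φ f)) (φ f) :=
      DFunLike.congr_fun (awayMap_comp φ f) f
    have l1 : η.Nmap (algebraMap B (Localization.Away (φ f))) (η.t B (b * φ f ^ n)) =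
        η.t _ y * η.t _ (algebraMap B (Localization.Away (φ f)) (φ f)) ^ m *
          η.t _ (algebraMap B (Localization.Away (φ f)) (φ f)) ^ n := by
      rw [η.Nmap_t_apply, map_mul, map_pow, ← hmb, map_mul, map_mul, map_pow, map_pow]
    have l2 : η.Nmap (algebraMap B (Localization.Away (φ f))) (η.Nmap φ (x' * η.t A f ^ m)) =
        η.t _ y * η.t _ (algebraMap B (Localization.Away (φ f)) (φ f)) ^ n *
          η.t _ (algebraMap B (Localization.Away (φ f)) (φ f)) ^ m := by
      rw [← Nmap_comp, ← awayMap_comp, Nmap_comp, map_mul, map_pow, η.Nmap_t_apply, ← hn,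
        map_mul, map_mul, map_pow, map_pow, η.Nmap_t_apply, hzy, e2]
    have key : η.Nmap (algebraMap B (Localization.Away (φ f)))
        (η.t B (b * φ f ^ n) - η.Nmap φ (x' * η.t A f ^ m)) = 0 := by
      rw [map_sub, l1, l2]
      ring
    have h1 := t_mul_eq_zero_of_Nmap_eq_zero η (φ f) (Localization.Away (φ f)) _ key
    refine ⟨b * φ f ^ (n + 1), ⟨x' * η.t A f ^ (m + 1), ?_, ?_⟩, m + n + 1, ?_⟩
    · exact Subring.mul_mem _ hx' (Subring.pow_mem _ (η.t_mem_M A f) _)
    · rw [mul_sub, sub_eq_zero] at h1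
      have e3 : η.Nmap φ (η.t A f) = η.t B (φ f) := η.Nmap_t_apply φ f
      rw [pow_succ, ← mul_assoc, map_mul, e3, mul_comm, ← h1, pow_succ, ← mul_assoc,
        map_mul (η.t B), mul_comm]
      simp only [map_mul]
    · rw [map_mul, map_pow, ← hmb, pow_add, pow_add]
      ring

end RelAway

end Groth.Agent.Helper20.EtaLoc
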