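import Mathlib
import Groth.Prelude.Def_W4c1chowmix47Eta
import Groth.Agent.Lib.Helper20.EtaSpec
import Groth.Agent.Lib.Helper20.EtaRel
import Groth.Agent.Lib.Helper20.EtaLoc

namespace Groth.Agent.Helper20.EtaMore

open EtaPt Groth.Agent.Helper20.EtaBase Groth.Agent.Helper20.EtaSpec Groth.Agent.Helper20.EtaRel
  Groth.Agent.Helper20.EtaLoc

universe u

variable (η : FieldEndo.{u})

section Cover

variable {A B : Type u} [CommRing A] [CommRing B]

theorem ideal_eq_top_of_pow_mem (s : Finset A) (hspan : Ideal.span (s : Set A) = ⊤) (J : Ideal A)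
    (h : ∀ f ∈ s, ∃ n : ℕ, f ^ n ∈ J) : J = ⊤ := by
  by_contra hne
  obtain ⟨m, hm, hle⟩ := Ideal.exists_le_maximal _ hne
  have : Ideal.span (s : Set A) ≤ m := by
    rw [Ideal.span_le]
    intro f hf
    obtain ⟨n, hn⟩ := h f hf
    exact hm.isPrime.mem_of_pow_mem n (hle hn)
  rw [hspan] at this
  exact hm.ne_top (top_le_iff.mp this)

theorem bijective_qRel_awayMap (hA : (minimalPrimes A).Finite) (φ : A →+* B)
    (h : Function.Bijective (η.qRel φ)) (f : A) :
    Function.Bijective (η.qRel (Localization.awayMap φ f)) := by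
  have hi := (qRel_injective_iff η _).mp h.1
  have hs := (qRel_surjective_iff η _).mp h.2
  refine ⟨(qRel_injective_iff η _).mpr ?_, (qRel_surjective_iff η _).mpr ?_⟩
  · rw [Localization.awayMap_injective_iff]
    intro a ha
    refine ⟨0, ?_⟩
    rw [pow_zero, one_mul]
    exact hi (by rw [ha, map_zero])
  · intro y hy
    obtain ⟨x, hx, n, hn⟩ := (rel_away_isLocalization η hA φ f).2 y hy
    obtain ⟨a, rfl⟩ := hs x hx
    have hu : IsUnit (algebraMap A (Localization.Away f) f) :=
      IsLocalization.Away.algebraMap_isUnit f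
    have hu' : IsUnit (algebraMap B (Localization.Away (φ f)) (φ f)) :=
      IsLocalization.Away.algebraMap_isUnit (φ f)
    refine ⟨algebraMap A _ a * ((hu.unit⁻¹ : (Localization.Away f)ˣ) : Localization.Away f) ^ n, ?_⟩
    apply (hu'.pow n).mul_right_cancel
    rw [hn]
    have e1 : Localization.awayMap φ f (algebraMap A (Localization.Away f) f) =
        algebraMap B (Localization.Away (φ f)) (φ f) :=
      DFunLike.congr_fun (awayMap_comp φ f) f
    have e2 : Localization.awayMap φ f (algebraMap A (Localization.Away f) a) =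
        algebraMap B (Localization.Away (φ f)) (φ a) :=
      DFunLike.congr_fun (awayMap_comp φ f) a
    rw [← e1, ← map_pow, ← map_mul, mul_assoc, ← mul_pow, IsUnit.val_inv_mul, one_pow, mul_one, e2]

theorem bijective_qRel_of_cover (hA : (minimalPrimes A).Finite) (φ : A →+* B)
    (s : Finset A) (hspan : Ideal.span (s : Set A) = ⊤)
    (h : ∀ f ∈ s, Function.Bijective (η.qRel (Localization.awayMap φ f))) :
    Function.Bijective (η.qRel φ) := by
  refine ⟨(qRel_injective_iff η _).mpr ?_, (qRel_surjective_iff η _).mpr ?_⟩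
  · rw [injective_iff_map_eq_zero]
    intro a ha
    let J : Ideal A :=
      { carrier := {r | r * a = 0}
        add_mem' := by
          intro r r' hr hr'
          change (r + r') * a = 0
          rw [add_mul, hr, hr', add_zero]
        zero_mem' := zero_mul a
        smul_mem' := by
          intro c r hr
          change c * r * a = 0
          rw [mul_assoc, hr, mul_zero] }
    have hJtop : J = ⊤ := by
      apply ideal_eq_top_of_pow_mem s hspan
      intro f hf
      have hi := (qRel_injective_iff η _).mp (h f hf).1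
      have h0 : algebraMap A (Localization.Away f) a = 0 := by
        apply hi
        have := DFunLike.congr_fun (awayMap_comp φ f) a
        simp only [RingHom.comp_apply] at this
        rw [this, ha, map_zero, map_zero]
      rw [IsLocalization.map_eq_zero_iff (Submonoid.powers f)] at h0
      obtain ⟨⟨_, n, rfl⟩, hn⟩ := h0
      exact ⟨n, hn⟩
    have h1 : (1 : A) ∈ J := by rw [hJtop]; trivial
    have h2 : (1 : A) * a = 0 := h1
    rwa [one_mul] at h2
  · intro b hb
    let J : Ideal A :=
      { carrier := {r | ∃ a, φ r * b = φ a}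
        add_mem' := by
          rintro r r' ⟨a, ha⟩ ⟨a', ha'⟩
          exact ⟨a + a', by rw [map_add, add_mul, ha, ha', map_add]⟩
        zero_mem' := ⟨0, by rw [map_zero, zero_mul]⟩
        smul_mem' := by
          rintro c r ⟨a, ha⟩
          exact ⟨c * a, by rw [smul_eq_mul, map_mul, mul_assoc, ha, map_mul]⟩ }
    have hJtop : J = ⊤ := by
      apply ideal_eq_top_of_pow_mem s hspan
      intro f hf
      have hs := (qRel_surjective_iff η _).mp (h f hf).2
      have hmem : algebraMap B (Localization.Away (φ f)) b ∈ η.rel (Localization.awayMap φ f) :=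
        (rel_away_isLocalization η hA φ f).1 ⟨b, hb, rfl⟩
      obtain ⟨z, hz⟩ := hs _ hmem
      obtain ⟨n, a, hna⟩ := IsLocalization.Away.surj f z
      have e1 : Localization.awayMap φ f (algebraMap A (Localization.Away f) f) =
          algebraMap B (Localization.Away (φ f)) (φ f) :=
        DFunLike.congr_fun (awayMap_comp φ f) f
      have e2 : Localization.awayMap φ f (algebraMap A (Localization.Away f) a) =
          algebraMap B (Localization.Away (φ f)) (φ a) :=
        DFunLike.congr_fun (awayMap_comp φ f) a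
      have h2 : algebraMap B (Localization.Away (φ f)) (b * φ f ^ n) =
          algebraMap B (Localization.Away (φ f)) (φ a) := by
        rw [map_mul, map_pow, ← hz, ← e1, ← map_pow, ← map_mul, hna, e2]
      rw [IsLocalization.eq_iff_exists (Submonoid.powers (φ f))] at h2
      obtain ⟨⟨_, m, rfl⟩, hm⟩ := h2
      refine ⟨m + n, f ^ m * a, ?_⟩
      rw [map_pow, map_mul, map_pow, ← hm, pow_add]
      ring
    have h1 : (1 : A) ∈ J := by rw [hJtop]; trivial
    obtain ⟨a, ha⟩ := h1
    exact ⟨a, by rw [← ha, map_one, one_mul]⟩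

end Cover

section Mmap

variable {A B : Type u} [CommRing A] [CommRing B] (f : A →+* B)
    (g : η.M A →+* η.M B) (hg : ∀ x : η.M A, ((g x : η.M B) : η.N B) = η.Nmap f (x : η.N A))

include hg

theorem Mmap_comm : g.comp (η.q A) = (η.q B).comp f := by
  apply RingHom.ext
  intro a
  apply Subtype.ext
  rw [RingHom.comp_apply, hg]
  exact η.Nmap_t_apply f a

theorem Mmap_comap_comm (Q : PrimeSpectrum (η.M B)) :
    PrimeSpectrum.comap (η.q A) (PrimeSpectrum.comap g Q) =
      PrimeSpectrum.comap f (PrimeSpectrum.comap (η.q B) Q) := by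
  rw [← PrimeSpectrum.comap_comp_apply, ← PrimeSpectrum.comap_comp_apply, Mmap_comm η f g hg]

theorem Mmap_isIntegral_iff (hA : (minimalPrimes A).Finite) (hB : (minimalPrimes B).Finite) :
    f.IsIntegral ↔ g.IsIntegral := by
  constructor
  · intro hf
    apply RingHom.IsIntegral.tower_top (η.q A)
    rw [Mmap_comm η f g hg]
    exact hf.trans _ _ (isIntegral_q η hB)
  · intro hgi
    have h1 : ((η.q B).comp f).IsIntegral := by
      rw [← Mmap_comm η f g hg]
      exact (isIntegral_q η hA).trans _ _ hgi
    intro b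
    obtain ⟨P, hP, h0⟩ := h1 (η.q B b)
    rw [← Polynomial.hom_eval₂] at h0
    have h2 : η.t B (Polynomial.eval₂ f b P) = 0 := congrArg Subtype.val h0
    obtain ⟨m, hm⟩ := (t_eq_zero_iff η _).mp h2
    exact ⟨P ^ m, hP.pow m, by rw [Polynomial.eval₂_pow, hm]⟩

theorem Mmap_comap_surjective_iff (hA : (minimalPrimes A).Finite) (hB : (minimalPrimes B).Finite) :
    Function.Surjective (PrimeSpectrum.comap f) ↔ Function.Surjective (PrimeSpectrum.comap g) := by
  constructor
  · intro hf Q
    obtain ⟨P', hP'⟩ := hf (PrimeSpectrum.comap (η.q A) Q)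
    obtain ⟨Q', hQ'⟩ := (comap_q_bijective η hB).2 P'
    refine ⟨Q', ?_⟩
    apply (comap_q_bijective η hA).1
    rw [Mmap_comap_comm η f g hg, hQ', hP']
  · intro hgs P
    obtain ⟨Q, hQ⟩ := (comap_q_bijective η hA).2 P
    obtain ⟨Q', hQ'⟩ := hgs Q
    refine ⟨PrimeSpectrum.comap (η.q B) Q', ?_⟩
    rw [← Mmap_comap_comm η f g hg, hQ', hQ]

theorem Mmap_comap_bijective (hA : (minimalPrimes A).Finite) (hB : (minimalPrimes B).Finite)
    (hbij : Function.Bijective g) : Function.Bijective (PrimeSpectrum.comap f) := by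
  let e : η.M A ≃+* η.M B := RingEquiv.ofBijective g hbij
  have hgb : Function.Bijective (PrimeSpectrum.comap g) := by
    constructor
    · exact PrimeSpectrum.comap_injective_of_surjective g hbij.2
    · intro Q
      refine ⟨PrimeSpectrum.comap (e.symm : η.M B →+* η.M A) Q, ?_⟩
      rw [← PrimeSpectrum.comap_comp_apply]
      have : (e.symm : η.M B →+* η.M A).comp g = RingHom.id _ := by
        apply RingHom.ext
        intro x
        exact e.symm_apply_apply x
      rw [this]
      rfl
  have h1 : Function.Bijective (PrimeSpectrum.comap f ∘ PrimeSpectrum.comap (η.q B)) := by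
    have : PrimeSpectrum.comap f ∘ PrimeSpectrum.comap (η.q B) =
        PrimeSpectrum.comap (η.q A) ∘ PrimeSpectrum.comap g := by
      funext Q
      exact (Mmap_comap_comm η f g hg Q).symm
    rw [this]
    exact (comap_q_bijective η hA).comp hgb
  exact (Function.Bijective.of_comp_iff _ (comap_q_bijective η hB)).mp h1

theorem Mmap_residue_factor (hA : (minimalPrimes A).Finite) (hB : (minimalPrimes B).Finite)
    (hbij : Function.Bijective g) (Q : PrimeSpectrum B) :
    ∃ φ : Q.asIdeal.ResidueField →+* η.obj (PrimeSpectrum.comap f Q).asIdeal.ResidueField,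
      φ.comp (Ideal.ResidueField.map (PrimeSpectrum.comap f Q).asIdeal Q.asIdeal f rfl) =
        η.eta (PrimeSpectrum.comap f Q).asIdeal.ResidueField := by
  let e : η.M A ≃+* η.M B := RingEquiv.ofBijective g hbij
  let ψ : B →+* η.obj (PrimeSpectrum.comap f Q).asIdeal.ResidueField :=
    (prM η (PrimeSpectrum.comap f Q)).comp ((e.symm : η.M B →+* η.M A).comp (η.q B))
  have hψf : ψ.comp f = phiF η (PrimeSpectrum.comap f Q) := by
    apply RingHom.ext
    intro a
    have h1 : η.q B (f a) = g (η.q A a) := (DFunLike.congr_fun (Mmap_comm η f g hg) a).symm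
    change prM η _ (e.symm (η.q B (f a))) = _
    rw [h1]
    have h2 : e.symm (g (η.q A a)) = η.q A a := e.symm_apply_apply _
    rw [h2]
    rfl
  have hpt : pt ψ = Q := by
    apply (Mmap_comap_bijective η f g hg hA hB hbij).1
    apply PrimeSpectrum.ext
    ext a
    change f a ∈ RingHom.ker ψ ↔ a ∈ (PrimeSpectrum.comap f Q).asIdeal
    rw [RingHom.mem_ker, ← RingHom.comp_apply, hψf, ← RingHom.mem_ker, ker_phiF]
  have hk : RingHom.ker ψ = Q.asIdeal := congrArg PrimeSpectrum.asIdeal hpt
  refine ⟨resLift Q ψ hk, ?_⟩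
  apply Ideal.ResidueField.ringHom_ext
  apply RingHom.ext
  intro a
  rw [RingHom.comp_apply, RingHom.comp_apply, RingHom.comp_apply, Ideal.ResidueField.map_algebraMap,
    resLift_algebraMap, ← RingHom.comp_apply, hψf]
  rfl

end Mmap

end Groth.Agent.Helper20.EtaMore
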