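import Mathlib
import Groth.Prelude.Def_W4c1chowmix47Eta
import Groth.Agent.Lib.Helper20.EtaSpec

namespace Groth.Agent.Helper20.EtaVal

open EtaPt Groth.Agent.Helper20.EtaBase Groth.Agent.Helper20.EtaSpec

universe u

variable (η : FieldEndo.{u})

section Gen

variable (R : Type u) [CommRing R] [IsDomain R]

/-- the generic point -/
abbrev gen : PrimeSpectrum R := ⟨⊥, Ideal.isPrime_bot⟩

theorem phiF_gen : phiF η (gen R) =
    (η.eta (⊥ : Ideal R).ResidueField).comp (algebraMap R (⊥ : Ideal R).ResidueField) := rfl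

theorem gen_injOn : Set.InjOn (fun x : η.N R => x ⟨⊥, Ideal.isPrime_bot⟩) (η.M R) := by
  intro x hx y hy hxy
  simp only at hxy
  have hz : x - y ∈ η.M R := Subring.sub_mem _ hx hy
  have hz0 : x - y = 0 := by
    funext P
    apply eq_zero_of_le η hz (gen R) P bot_le
    change x _ - y _ = 0
    rw [gen, hxy, sub_self]
  exact sub_eq_zero.mp hz0

variable {R}

omit [IsDomain R] in
/-- integrality descends along `η` -/
theorem isIntegral_of_eta {K : Type u} [Field K] (φ : R →+* K) (k : K)
    (h : ((η.eta K).comp φ).IsIntegralElem (η.eta K k)) : φ.IsIntegralElem k := by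
  obtain ⟨P, hP, h0⟩ := h
  refine ⟨P, hP, ?_⟩
  have := Polynomial.hom_eval₂ P φ (η.eta K) k
  rw [← this] at h0
  exact (map_eq_zero _).mp h0

end Gen

section CharP

variable {R : Type u} [CommRing R] [IsDomain R] {L : Type u} [Field L]

theorem ringChar_eq_of_ringHom (φ : R →+* L) (h0 : ringChar R ≠ 0) : ringChar L = ringChar R := by
  have hp : (ringChar R).Prime := by
    rcases CharP.char_is_prime_or_zero R (ringChar R) with h | h
    · exact h
    · exact absurd h h0
  have h1 : ((ringChar R : ℕ) : L) = 0 := by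
    rw [← map_natCast φ, ringChar.Nat.cast_ringChar, map_zero]
  have h2 : ringChar L ∣ ringChar R := ringChar.dvd h1
  rcases (Nat.dvd_prime hp).mp h2 with h | h
  · exact absurd h (CharP.ringChar_ne_one)
  · exact h

end CharP


section IntPow

theorem isIntegralElem_pow {R S : Type*} [CommRing R] [CommRing S] (f : R →+* S) {x : S}
    (hx : f.IsIntegralElem x) (n : ℕ) : f.IsIntegralElem (x ^ n) := by
  induction n with
  | zero => rw [pow_zero]; exact f.isIntegralElem_one
  | succ n ih => rw [pow_succ]; exact ih.mul f hx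

end IntPow

section CharP2

variable {L : Type u} [Field L]

theorem pow_char_inj (p : ℕ) (hp : p ≠ 0) (hc : ringChar L = p) (n : ℕ) {a b : L}
    (h : a ^ (p ^ n) = b ^ (p ^ n)) : a = b := by
  haveI : CharP L p := hc ▸ ringChar.charP L
  have hp' : p.Prime := by
    rcases CharP.char_is_prime_or_zero L p with h | h
    · exact h
    · exact absurd h hp
  haveI : ExpChar L p := ExpChar.prime hp'
  apply iterateFrobenius_inj L p n
  rw [iterateFrobenius_def, iterateFrobenius_def]
  exact h

theorem exists_pow_char_eq (p : ℕ) (hp : p ≠ 0) (hc : ringChar L = p) [PerfectField L] (n : ℕ)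
    (z : L) : ∃ w : L, w ^ (p ^ n) = z := by
  haveI : CharP L p := hc ▸ ringChar.charP L
  have hp' : p.Prime := by
    rcases CharP.char_is_prime_or_zero L p with h | h
    · exact h
    · exact absurd h hp
  haveI : ExpChar L p := ExpChar.prime hp'
  haveI : PerfectRing L p := PerfectField.toPerfectRing p
  obtain ⟨w, hw⟩ := (bijective_iterateFrobenius L p n).2 z
  exact ⟨w, by rw [← hw, iterateFrobenius_def]⟩

end CharP2

section Main

variable {R : Type u} [CommRing R] [IsDomain R] [ValuationRing R]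

theorem gen_surj_of_inV (hR : η.InV R) (y : η.obj (⊥ : Ideal R).ResidueField)
    (hy : ((η.eta (⊥ : Ideal R).ResidueField).comp
      (algebraMap R (⊥ : Ideal R).ResidueField)).IsIntegralElem y) :
    ∃ x ∈ η.M R, x ⟨⊥, Ideal.isPrime_bot⟩ = y := by
  have hL : Function.Bijective (η.eta (⊥ : Ideal R).ResidueField) :=
    (inV_iff η R (⊥ : Ideal R).ResidueField).mp hR
  obtain ⟨k, rfl⟩ := hL.2 y
  have hk := isIntegral_of_eta η (algebraMap R (⊥ : Ideal R).ResidueField) k hy
  obtain ⟨r, hr⟩ := (IsIntegrallyClosed.isIntegral_iff (R := R)).mp hk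
  refine ⟨η.t R r, η.t_mem_M R r, ?_⟩
  rw [← hr]
  rfl

theorem inV_of_ringChar_eq_zero (h0 : ringChar R = 0) : η.InV R := by
  haveI : CharP R 0 := h0 ▸ ringChar.charP R
  haveI : CharZero R := CharP.charP_to_charZero R
  haveI : CharZero (FractionRing R) := charZero_of_injective_algebraMap
    (IsFractionRing.injective R (FractionRing R))
  refine ⟨(η.eta (FractionRing R)).injective, fun y => ?_⟩
  obtain ⟨n, hn⟩ := η.exists_pow_mem_range_eta (FractionRing R) y
  rw [ringExpChar.eq_one, one_pow, pow_one] at hn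
  exact hn

theorem gen_surj_of_perfect (hp : ringChar R ≠ 0)
    (hperf : ∀ (k : Type u) [Field k], ringChar k = ringChar R →
      Function.Bijective (η.eta k) → PerfectField k)
    (y : η.obj (⊥ : Ideal R).ResidueField)
    (hy : ((η.eta (⊥ : Ideal R).ResidueField).comp
      (algebraMap R (⊥ : Ideal R).ResidueField)).IsIntegralElem y) :
    ∃ x ∈ η.M R, x ⟨⊥, Ideal.isPrime_bot⟩ = y := by
  set p := ringChar R with hpdef
  set K := (⊥ : Ideal R).ResidueField with hK
  have hcK : ringChar K = p := ringChar_eq_of_ringHom (algebraMap R K) hp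
  have hcF : ∀ P : PrimeSpectrum R, ringChar (η.obj P.asIdeal.ResidueField) = p :=
    fun P => ringChar_eq_of_ringHom (phiF η P) hp
  -- a power of `y` comes from `R`
  obtain ⟨n, k, hk⟩ := η.exists_pow_mem_range_eta K y
  have hexp : ringExpChar K = p := by
    rw [ringExpChar, hcK]
    exact max_eq_left (Nat.one_le_iff_ne_zero.mpr hp)
  rw [hexp] at hk
  have hkint : (algebraMap R K).IsIntegralElem k := by
    apply isIntegral_of_eta η
    rw [hk]
    exact isIntegralElem_pow _ hy _
  obtain ⟨r, hr⟩ := (IsIntegrallyClosed.isIntegral_iff (R := R)).mp hkint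
  -- roots at all primes
  have hroot : ∀ P : PrimeSpectrum R, ∃ w : η.obj P.asIdeal.ResidueField,
      w ^ (p ^ n) = phiF η P r := by
    intro P
    haveI : PerfectField (η.obj P.asIdeal.ResidueField) :=
      hperf _ (hcF P) (bijective_eta_obj η)
    exact exists_pow_char_eq p hp (hcF P) n _
  choose x hx using hroot
  refine ⟨x, ?_, ?_⟩
  · intro R' _ _ _ hR' g
    set K' := FractionRing R' with hK'
    have hcK' : ringChar K' = p := ringChar_eq_of_ringHom ((algebraMap R' K').comp g) hp
    haveI : PerfectField K' := hperf K' hcK' hR'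
    obtain ⟨s, hs⟩ := exists_pow_char_eq p hp hcK' n (algebraMap R' K' (g r))
    have hsint : IsIntegral R' s := by
      apply IsIntegral.of_pow (Nat.pos_of_ne_zero (pow_ne_zero n hp))
      rw [hs]
      exact isIntegral_algebraMap
    obtain ⟨s', hs'⟩ := (IsIntegrallyClosed.isIntegral_iff (R := R')).mp hsint
    have hs'pow : s' ^ (p ^ n) = g r := by
      apply IsFractionRing.injective R' K'
      rw [map_pow, hs', hs]
    refine ⟨s', ?_⟩
    funext 𝔮
    have hc𝔮 : ringChar (η.obj 𝔮.asIdeal.ResidueField) = p :=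
      ringChar_eq_of_ringHom ((phiF η 𝔮).comp g) hp
    apply pow_char_inj p hp hc𝔮 n
    rw [t_apply, ← map_pow, hs'pow, Nmap_apply, ← map_pow, hx, eta_map_algebraMap]
  · apply pow_char_inj p hp (hcF _) n
    rw [hx, ← hk, ← hr]
    rfl

theorem gen_image
    (hη : η.InV R ∨ ∀ (k : Type u) [Field k], ringChar k = ringChar R →
      Function.Bijective (η.eta k) → PerfectField k) :
    (fun x : η.N R => x ⟨⊥, Ideal.isPrime_bot⟩) '' (η.M R : Set (η.N R)) =
      {y | ((η.eta (⊥ : Ideal R).ResidueField).comp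
        (algebraMap R (⊥ : Ideal R).ResidueField)).IsIntegralElem y} := by
  apply Set.Subset.antisymm
  · rintro _ ⟨x, hx, rfl⟩
    exact isIntegralElem_apply η hx (gen R)
  · intro y hy
    have hR : η.InV R ∨ (ringChar R ≠ 0 ∧ ∀ (k : Type u) [Field k], ringChar k = ringChar R →
      Function.Bijective (η.eta k) → PerfectField k) := by
      rcases hη with h | h
      · exact Or.inl h
      · by_cases h0 : ringChar R = 0
        · exact Or.inl (inV_of_ringChar_eq_zero η h0)
        · exact Or.inr ⟨h0, h⟩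
    rcases hR with h | ⟨h0, h⟩
    · obtain ⟨x, hx, hxy⟩ := gen_surj_of_inV η h y hy
      exact ⟨x, hx, hxy⟩
    · obtain ⟨x, hx, hxy⟩ := gen_surj_of_perfect η h0 h y hy
      exact ⟨x, hx, hxy⟩

end Main

section Val2

variable {R : Type u} [CommRing R] [IsDomain R] [ValuationRing R]

theorem isIntegralElem_of_pow_eq {A S : Type*} [CommRing A] [CommRing S] (f : A →+* S) (z : S) (m : ℕ)
    (hm : m ≠ 0) (r : A) (h : z ^ m = f r) : f.IsIntegralElem z := by
  refine ⟨Polynomial.X ^ m - Polynomial.C r, Polynomial.monic_X_pow_sub_C r hm, ?_⟩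
  rw [Polynomial.eval₂_sub, Polynomial.eval₂_pow, Polynomial.eval₂_X, Polynomial.eval₂_C, h, sub_self]

theorem integral_or_inv (z : η.obj (⊥ : Ideal R).ResidueField) :
    ((η.eta (⊥ : Ideal R).ResidueField).comp
        (algebraMap R (⊥ : Ideal R).ResidueField)).IsIntegralElem z ∨
    ((η.eta (⊥ : Ideal R).ResidueField).comp
        (algebraMap R (⊥ : Ideal R).ResidueField)).IsIntegralElem z⁻¹ := by
  obtain ⟨n, k, hk⟩ := η.exists_pow_mem_range_eta (⊥ : Ideal R).ResidueField z
  have hm : ringExpChar (⊥ : Ideal R).ResidueField ^ n ≠ 0 := by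
    apply pow_ne_zero
    rw [ringExpChar]
    exact (lt_of_lt_of_le Nat.zero_lt_one (le_max_right _ _)).ne'
  rcases ValuationRing.isInteger_or_isInteger R k with ⟨r, hr⟩ | ⟨r, hr⟩
  · left
    apply isIntegralElem_of_pow_eq _ z _ hm r
    rw [← hk, ← hr]; rfl
  · right
    apply isIntegralElem_of_pow_eq _ z⁻¹ _ hm r
    rw [inv_pow, ← hk, ← map_inv₀, ← hr]; rfl

theorem M_valuationRing
    (hη : η.InV R ∨ ∀ (k : Type u) [Field k], ringChar k = ringChar R →
      Function.Bijective (η.eta k) → PerfectField k) :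
    IsDomain (η.M R) ∧ PreValuationRing (η.M R) ∧
      (∀ y : η.obj (⊥ : Ideal R).ResidueField, ∃ a b : η.M R,
        (b : η.N R) ⟨⊥, Ideal.isPrime_bot⟩ ≠ 0 ∧
          y * (b : η.N R) ⟨⊥, Ideal.isPrime_bot⟩ = (a : η.N R) ⟨⊥, Ideal.isPrime_bot⟩) ∧
      (fun x : η.N R => x ⟨⊥, Ideal.isPrime_bot⟩) '' (η.M R : Set (η.N R)) ∩
          Set.range (η.eta (⊥ : Ideal R).ResidueField) =
        Set.range ((η.eta (⊥ : Ideal R).ResidueField).comp (algebraMap R (⊥ : Ideal R).ResidueField)) := by
  have himg := gen_image η hη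
  have hinj : Function.Injective (prM η (gen R)) := by
    intro a b hab
    apply Subtype.ext
    exact gen_injOn η R a.2 b.2 hab
  have hsurj : ∀ z : η.obj (⊥ : Ideal R).ResidueField,
      ((η.eta (⊥ : Ideal R).ResidueField).comp
        (algebraMap R (⊥ : Ideal R).ResidueField)).IsIntegralElem z →
      ∃ c : η.M R, prM η (gen R) c = z := by
    intro z hz
    have : z ∈ (fun x : η.N R => x ⟨⊥, Ideal.isPrime_bot⟩) '' (η.M R : Set (η.N R)) := by
      rw [himg]; exact hz
    obtain ⟨x, hx, hxz⟩ := this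
    exact ⟨⟨x, hx⟩, hxz⟩
  refine ⟨Function.Injective.isDomain (prM η (gen R)) hinj, ⟨?_⟩, ?_, ?_⟩
  · intro a b
    by_cases ha : prM η (gen R) a = 0
    · refine ⟨0, Or.inr ?_⟩
      apply hinj
      rw [mul_zero, ha, map_zero]
    by_cases hb : prM η (gen R) b = 0
    · refine ⟨0, Or.inl ?_⟩
      apply hinj
      rw [mul_zero, hb, map_zero]
    rcases integral_or_inv η (prM η (gen R) a / prM η (gen R) b) with h | h
    · obtain ⟨c, hc⟩ := hsurj _ h
      refine ⟨c, Or.inr ?_⟩
      apply hinj
      rw [map_mul, hc]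
      field_simp
    · obtain ⟨c, hc⟩ := hsurj _ h
      refine ⟨c, Or.inl ?_⟩
      apply hinj
      rw [map_mul, hc, inv_div, mul_div_assoc', mul_comm, mul_div_assoc, div_self ha, mul_one]
  · intro y
    obtain ⟨n, k, hk⟩ := η.exists_pow_mem_range_eta (⊥ : Ideal R).ResidueField y
    obtain ⟨s, t, ht, hst⟩ := IsFractionRing.div_surjective (A := R) k
    have ht0 : t ≠ 0 := nonZeroDivisors.ne_zero ht
    have hm : ringExpChar (⊥ : Ideal R).ResidueField ^ n ≠ 0 := by
      apply pow_ne_zero
      rw [ringExpChar]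
      exact (lt_of_lt_of_le Nat.zero_lt_one (le_max_right _ _)).ne'
    set m := ringExpChar (⊥ : Ideal R).ResidueField ^ n with hmdef
    have hat0 : algebraMap R (⊥ : Ideal R).ResidueField t ≠ 0 := by
      intro h
      exact ht0 (IsFractionRing.injective R (⊥ : Ideal R).ResidueField (by rw [h, map_zero]))
    have hint : ((η.eta (⊥ : Ideal R).ResidueField).comp
        (algebraMap R (⊥ : Ideal R).ResidueField)).IsIntegralElem
        (y * η.eta _ (algebraMap R (⊥ : Ideal R).ResidueField t)) := by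
      apply isIntegralElem_of_pow_eq _ _ m hm (s * t ^ (m - 1))
      rw [mul_pow, ← hk, ← hst, RingHom.comp_apply, map_mul, map_pow, ← map_pow, ← map_mul]
      congr 1
      obtain ⟨m', hm'⟩ := Nat.exists_eq_succ_of_ne_zero hm
      rw [hm', Nat.succ_sub_one, pow_succ]
      field_simp
    obtain ⟨a, ha⟩ := hsurj _ hint
    refine ⟨a, η.q R t, ?_, ?_⟩
    · change η.eta _ (algebraMap R (⊥ : Ideal R).ResidueField t) ≠ 0
      rw [Ne, map_eq_zero]
      exact hat0
    · exact ha.symm
  · apply Set.Subset.antisymm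
    · rintro y ⟨hy1, ⟨k, rfl⟩⟩
      rw [himg] at hy1
      have hk := isIntegral_of_eta η (algebraMap R (⊥ : Ideal R).ResidueField) k hy1
      obtain ⟨r, hr⟩ := (IsIntegrallyClosed.isIntegral_iff (R := R)).mp hk
      exact ⟨r, by rw [← hr]; rfl⟩
    · rintro _ ⟨r, rfl⟩
      exact ⟨⟨η.t R r, η.t_mem_M R r, rfl⟩, ⟨algebraMap R _ r, rfl⟩⟩

end Val2

end Groth.Agent.Helper20.EtaVal
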