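import Mathlib
import Groth.Prelude.Def_W4c1chowmix47Eta
import Groth.Prelude.Def_EGA4b
import Groth.Agent.Lib.Helper20.EtaSpec
import Groth.Agent.Lib.Helper20.EtaVal

namespace Groth.Agent.Helper20.EtaNormal

open EtaPt Groth.Agent.Helper20.EtaBase Groth.Agent.Helper20.EtaSpec Groth.Agent.Helper20.EtaVal

universe u

section Normal

variable {A : Type u} [CommRing A]

theorem isReduced_of_isNormalRing (hn : EGA4.IsNormalRing A) : IsReduced A := by
  apply isReduced_ofLocalizationMaximal
  intro J hJ
  haveI := (hn J).1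
  infer_instance

/-- in a normal ring, the kernel of the localization at a prime `P` is the minimal prime
contained in `P` -/
theorem ker_algebraMap_atPrime (hn : EGA4.IsNormalRing A) (p : Ideal A) (hp : p ∈ minimalPrimes A)
    (P : Ideal A) [P.IsPrime] (hpP : p ≤ P) :
    RingHom.ker (algebraMap A (Localization.AtPrime P)) = p := by
  haveI hpprime : p.IsPrime := hp.1.1
  haveI := (hn P).1
  haveI := (hn p).1
  apply le_antisymm
  · intro a ha
    rw [RingHom.mem_ker, IsLocalization.map_eq_zero_iff P.primeCompl] at ha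
    obtain ⟨u, hu⟩ := ha
    have : (u : A) * a ∈ p := by rw [hu]; exact Ideal.zero_mem _
    rcases hpprime.mem_or_mem this with h | h
    · exact absurd (hpP h) u.2
    · exact h
  · intro a ha
    -- `a` dies in the localization at `p`
    have h1 : algebraMap A (Localization.AtPrime p) a = 0 := by
      have h2 := IsLocalization.AtPrime.radical_map_of_mem_minimalPrimes (A := Localization.AtPrime p)
        p (⊥ : Ideal A) hp
      rw [Ideal.map_bot] at h2
      have h3 : algebraMap A (Localization.AtPrime p) a ∈ (⊥ : Ideal (Localization.AtPrime p)).radical := by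
        rw [h2]; exact Ideal.mem_map_of_mem _ ha
      obtain ⟨n, hn'⟩ := h3
      rw [Ideal.mem_bot] at hn'
      exact pow_eq_zero_iff (n := n) (by
        intro h0
        rw [h0, pow_zero] at hn'
        exact one_ne_zero hn') |>.mp hn'
    rw [IsLocalization.map_eq_zero_iff p.primeCompl] at h1
    obtain ⟨t, ht⟩ := h1
    rw [RingHom.mem_ker]
    have h4 : algebraMap A (Localization.AtPrime P) (t : A) * algebraMap A (Localization.AtPrime P) a = 0 := by
      rw [← map_mul, ht, map_zero]
    rcases mul_eq_zero.mp h4 with h | h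
    · exfalso
      rw [IsLocalization.map_eq_zero_iff P.primeCompl] at h
      obtain ⟨u, hu⟩ := h
      have : (u : A) * t ∈ p := by rw [hu]; exact Ideal.zero_mem _
      rcases hpprime.mem_or_mem this with h' | h'
      · exact u.2 (hpP h')
      · exact t.2 h'
    · exact h

theorem isCoprime_minimalPrimes (hn : EGA4.IsNormalRing A) (p p' : Ideal A) (hp : p ∈ minimalPrimes A)
    (hp' : p' ∈ minimalPrimes A) (hne : p ≠ p') : IsCoprime p p' := by
  rw [Ideal.isCoprime_iff_sup_eq]
  by_contra hsup
  obtain ⟨m, hm, hle⟩ := Ideal.exists_le_maximal _ hsup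
  haveI := hm.isPrime
  apply hne
  rw [← ker_algebraMap_atPrime hn p hp m (le_trans le_sup_left hle),
    ← ker_algebraMap_atPrime hn p' hp' m (le_trans le_sup_right hle)]

theorem residue_div_surjective (Q : Ideal A) [Q.IsPrime] (z : Q.ResidueField) :
    ∃ c d : A, d ∉ Q ∧ z = algebraMap A _ c / algebraMap A _ d := by
  obtain ⟨x, y, hy, hxy⟩ := IsFractionRing.div_surjective (A := A ⧸ Q) z
  obtain ⟨c, rfl⟩ := Ideal.Quotient.mk_surjective x
  obtain ⟨d, rfl⟩ := Ideal.Quotient.mk_surjective y
  refine ⟨c, d, ?_, ?_⟩
  · intro hd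
    have : (Ideal.Quotient.mk Q d) = 0 := Ideal.Quotient.eq_zero_iff_mem.mpr hd
    exact nonZeroDivisors.ne_zero hy this
  · rw [← hxy, Ideal.algebraMap_quotient_residueField_mk, Ideal.algebraMap_quotient_residueField_mk]

/-- local integrality: an element of `κ(p)` integral over `A` has a denominator outside any given
prime containing the minimal prime `p` -/
theorem exists_denominator (hn : EGA4.IsNormalRing A) (p : Ideal A) (hp : p ∈ minimalPrimes A)
    [p.IsPrime] (P : Ideal A) [P.IsPrime] (hpP : p ≤ P) (k : p.ResidueField)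
    (hk : (algebraMap A p.ResidueField).IsIntegralElem k) :
    ∃ a s : A, s ∉ P ∧ algebraMap A p.ResidueField s * k = algebraMap A p.ResidueField a := by
  haveI := (hn P).1
  haveI := (hn P).2
  have hunits : ∀ s : P.primeCompl, IsUnit (algebraMap A p.ResidueField s) := by
    intro s
    rw [isUnit_iff_ne_zero, Ne, Ideal.algebraMap_residueField_eq_zero]
    exact fun h => s.2 (hpP h)
  let φ : Localization.AtPrime P →+* p.ResidueField := IsLocalization.lift (M := P.primeCompl) hunits
  have hφcomp : φ.comp (algebraMap A (Localization.AtPrime P)) = algebraMap A p.ResidueField :=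
    IsLocalization.lift_comp _
  have hφinj : Function.Injective φ := by
    rw [IsLocalization.lift_injective_iff]
    intro x y
    rw [← sub_eq_zero, ← map_sub, ← RingHom.mem_ker, ker_algebraMap_atPrime hn p hp P hpP,
      ← sub_eq_zero (a := algebraMap A p.ResidueField x), ← map_sub,
      Ideal.algebraMap_residueField_eq_zero]
  letI : Algebra (Localization.AtPrime P) p.ResidueField := φ.toAlgebra
  haveI : FaithfulSMul (Localization.AtPrime P) p.ResidueField :=
    (faithfulSMul_iff_algebraMap_injective _ _).mpr hφinj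
  haveI : IsFractionRing (Localization.AtPrime P) p.ResidueField := by
    apply IsFractionRing.of_field
    intro z
    obtain ⟨c, d, -, rfl⟩ := residue_div_surjective p z
    refine ⟨algebraMap A _ c, algebraMap A _ d, ?_⟩
    change _ = φ _ / φ _
    rw [← RingHom.comp_apply, ← RingHom.comp_apply, hφcomp]
  have hkint : IsIntegral (Localization.AtPrime P) k := by
    obtain ⟨Pol, hPol, h0⟩ := hk
    refine ⟨Pol.map (algebraMap A (Localization.AtPrime P)), hPol.map _, ?_⟩
    rw [Polynomial.eval₂_map]
    change Polynomial.eval₂ (φ.comp _) k Pol = 0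
    rw [hφcomp]
    exact h0
  obtain ⟨z, hz⟩ := (IsIntegrallyClosed.isIntegral_iff (R := Localization.AtPrime P)).mp hkint
  obtain ⟨⟨a, s⟩, has⟩ := IsLocalization.surj P.primeCompl z
  refine ⟨a, s, s.2, ?_⟩
  have := congrArg φ has
  rw [map_mul, ← RingHom.comp_apply, ← RingHom.comp_apply, hφcomp] at this
  rw [mul_comm, ← this]
  congr 1
  exact hz.symm

/-- global integrality: the quotient of a normal ring by a minimal prime is integrally closed -/
theorem exists_algebraMap_eq (hn : EGA4.IsNormalRing A) (p : Ideal A) (hp : p ∈ minimalPrimes A)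
    [p.IsPrime] (k : p.ResidueField) (hk : (algebraMap A p.ResidueField).IsIntegralElem k) :
    ∃ a : A, algebraMap A p.ResidueField a = k := by
  let I : Ideal A :=
    { carrier := {s | ∃ a, algebraMap A p.ResidueField s * k = algebraMap A p.ResidueField a}
      add_mem' := by
        rintro s s' ⟨a, ha⟩ ⟨a', ha'⟩
        exact ⟨a + a', by rw [map_add, add_mul, ha, ha', map_add]⟩
      zero_mem' := ⟨0, by rw [map_zero, zero_mul]⟩
      smul_mem' := by
        rintro c s ⟨a, ha⟩
        exact ⟨c * a, by rw [smul_eq_mul, map_mul, mul_assoc, ha, map_mul]⟩ }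
  have hI : I = ⊤ := by
    by_contra hne
    obtain ⟨m, hm, hle⟩ := Ideal.exists_le_maximal _ hne
    haveI := hm.isPrime
    have hpm : p ≤ m := by
      intro s hs
      apply hle
      refine ⟨0, ?_⟩
      rw [(Ideal.algebraMap_residueField_eq_zero).mpr hs, zero_mul, map_zero]
    obtain ⟨a, s, hs, has⟩ := exists_denominator hn p hp m hpm k hk
    exact hs (hle ⟨a, has⟩)
  have h1 : (1 : A) ∈ I := by rw [hI]; trivial
  obtain ⟨a, ha⟩ := h1
  exact ⟨a, by rw [← ha, map_one, one_mul]⟩

end Normal

variable (η : FieldEndo.{u})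

section NormalMain

variable (A : Type u) [CommRing A]

theorem bijective_q_of_isNormalRing (hn : EGA4.IsNormalRing A) (hA : (minimalPrimes A).Finite)
    (hη : ∀ p : PrimeSpectrum A, p.asIdeal ∈ minimalPrimes A →
      Function.Bijective (η.eta p.asIdeal.ResidueField)) :
    Function.Bijective (η.q A) := by
  haveI := isReduced_of_isNormalRing hn
  constructor
  · intro a b hab
    apply t_injective η
    exact congrArg Subtype.val hab
  · rintro ⟨x, hx⟩
    haveI : Finite ↥(minimalPrimes A) := hA.to_subtype
    have hprime : ∀ i : ↥(minimalPrimes A), (i : Ideal A).IsPrime := fun i => i.2.1.1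
    -- the local solutions
    have hloc : ∀ i : ↥(minimalPrimes A), ∃ a : A, x ⟨i, hprime i⟩ = η.t A a ⟨i, hprime i⟩ := by
      intro i
      haveI := hprime i
      obtain ⟨k, hk⟩ := (hη ⟨i, hprime i⟩ i.2).2 (x ⟨i, hprime i⟩)
      have hkint : (algebraMap A (i : Ideal A).ResidueField).IsIntegralElem k := by
        apply isIntegral_of_eta η
        rw [hk]
        exact isIntegralElem_apply η hx ⟨i, hprime i⟩
      obtain ⟨a, ha⟩ := exists_algebraMap_eq hn i i.2 k hkint
      exact ⟨a, by rw [← hk, ← ha]; rfl⟩
    choose a ha using hloc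
    obtain ⟨r, hr⟩ := Ideal.exists_forall_sub_mem_ideal
      (I := fun i : ↥(minimalPrimes A) => (i : Ideal A)) (by
        intro i j hij
        exact isCoprime_minimalPrimes hn i j i.2 j.2 (fun h => hij (Subtype.ext h))) a
    refine ⟨r, Subtype.ext ?_⟩
    change η.t A r = x
    have hz : x - η.t A r ∈ η.M A := Subring.sub_mem _ hx (η.t_mem_M A r)
    have hz0 : x - η.t A r = 0 := by
      funext P
      obtain ⟨I, hI, hIP⟩ := Ideal.exists_minimalPrimes_le (bot_le : (⊥ : Ideal A) ≤ P.asIdeal)
      have hIprime : I.IsPrime := hI.1.1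
      apply eq_zero_of_le η hz ⟨I, hIprime⟩ P hIP
      change x _ - η.t A r _ = 0
      rw [ha ⟨I, hI⟩, ← Pi.sub_apply, ← map_sub, t_apply]
      have : a ⟨I, hI⟩ - r ∈ RingHom.ker (phiF η ⟨I, hIprime⟩) := by
        rw [ker_phiF]
        have := hr ⟨I, hI⟩
        rw [← neg_sub]
        exact neg_mem this
      exact this
    exact (sub_eq_zero.mp hz0).symm

end NormalMain

end Groth.Agent.Helper20.EtaNormal
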