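import Mathlib
import Groth.Prelude.Def_W4c1chowmix47Eta
import Groth.Agent.Lib.Helper20.EtaSpec

namespace Groth.Agent.Helper20.EtaProd

open EtaPt Groth.Agent.Helper20.EtaBase Groth.Agent.Helper20.EtaSpec

universe u

variable (η : FieldEndo.{u})

section Prod

variable {A B : Type u} [CommRing A] [CommRing B] {S : Type*} [CommRing S]

/-- a map from a product killing `(0,1)` factors through the first projection -/
def prodFst (φ : A × B →+* S) (h : φ (0, 1) = 0) : A →+* S where
  toFun a := φ (a, 0)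
  map_one' := by
    have : ((1 : A), (0 : B)) = 1 - (0, 1) := by ext <;> simp
    rw [this, map_sub, map_one, h, sub_zero]
  map_mul' a b := by rw [← map_mul]; congr 1; ext <;> simp
  map_zero' := by
    have : ((0 : A), (0 : B)) = 0 := rfl
    rw [this, map_zero]
  map_add' a b := by rw [← map_add]; congr 1; ext <;> simp

theorem prodFst_comp (φ : A × B →+* S) (h : φ (0, 1) = 0) :
    (prodFst φ h).comp (RingHom.fst A B) = φ := by
  ext ⟨a, b⟩
  change φ (a, 0) = φ (a, b)
  have : ((a, b) : A × B) = (a, 0) + (0, 1) * (0, b) := by ext <;> simp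
  rw [this, map_add, map_mul, h, zero_mul, add_zero]

/-- a map from a product killing `(1,0)` factors through the second projection -/
def prodSnd (φ : A × B →+* S) (h : φ (1, 0) = 0) : B →+* S where
  toFun b := φ (0, b)
  map_one' := by
    have : ((0 : A), (1 : B)) = 1 - (1, 0) := by ext <;> simp
    rw [this, map_sub, map_one, h, sub_zero]
  map_mul' a b := by rw [← map_mul]; congr 1; ext <;> simp
  map_zero' := by
    have : ((0 : A), (0 : B)) = 0 := rfl
    rw [this, map_zero]
  map_add' a b := by rw [← map_add]; congr 1; ext <;> simp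

theorem prodSnd_comp (φ : A × B →+* S) (h : φ (1, 0) = 0) :
    (prodSnd φ h).comp (RingHom.snd A B) = φ := by
  ext ⟨a, b⟩
  change φ (0, b) = φ (a, b)
  have : ((a, b) : A × B) = (0, b) + (1, 0) * (a, 0) := by ext <;> simp
  rw [this, map_add, map_mul, h, zero_mul, add_zero]

theorem prod_dichotomy [IsDomain S] (φ : A × B →+* S) : φ (0, 1) = 0 ∨ φ (1, 0) = 0 := by
  have : φ (0, 1) * φ (1, 0) = 0 := by
    rw [← map_mul]
    have : ((0 : A), (1 : B)) * ((1 : A), (0 : B)) = 0 := by ext <;> simp
    rw [this, map_zero]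
  exact mul_eq_zero.mp this

theorem prod_not_both [Nontrivial S] (φ : A × B →+* S) (h : φ (0, 1) = 0) : φ (1, 0) ≠ 0 := by
  intro h'
  have : ((1 : A × B)) = (0, 1) + (1, 0) := by ext <;> simp
  have h1 := congrArg φ this
  rw [map_one, map_add, h, h', add_zero] at h1
  exact one_ne_zero h1

end Prod

section ProdM

variable (A B : Type u) [CommRing A] [CommRing B]

open Classical in
/-- glue elements of `N A` and `N B` to an element of `N (A × B)` -/
noncomputable def prodGlue (a : η.N A) (b : η.N B) : η.N (A × B) := fun P =>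
  if h : algebraMap (A × B) P.asIdeal.ResidueField (0, 1) = 0 then
    ev η (prodFst (algebraMap (A × B) P.asIdeal.ResidueField) h) a
  else
    ev η (prodSnd (algebraMap (A × B) P.asIdeal.ResidueField)
      ((prod_dichotomy (algebraMap (A × B) P.asIdeal.ResidueField)).resolve_left h)) b

variable {A B}

theorem ev_prodGlue_fst {L : Type u} [Field L] (a : η.N A) (b : η.N B) (φ : A × B →+* L)
    (h : φ (0, 1) = 0) : ev η φ (prodGlue η A B a b) = ev η (prodFst φ h) a := by
  rw [ev_apply]
  have h0 : algebraMap (A × B) (pt φ).asIdeal.ResidueField (0, 1) = 0 := by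
    have : ((0 : A), (1 : B)) ∈ RingHom.ker (algebraMap (A × B) (pt φ).asIdeal.ResidueField) := by
      rw [Ideal.ker_algebraMap_residueField]
      exact h
    exact this
  rw [prodGlue, dif_pos h0, ← ev_comp]
  have e : (resLift (pt φ) φ rfl).comp (prodFst (algebraMap (A × B) (pt φ).asIdeal.ResidueField) h0)
      = prodFst φ h := by
    apply RingHom.ext
    intro x
    change resLift (pt φ) φ rfl (algebraMap _ _ ((x, 0) : A × B)) = φ (x, 0)
    rw [resLift_algebraMap]
  rw [e]

theorem ev_prodGlue_snd {L : Type u} [Field L] (a : η.N A) (b : η.N B) (φ : A × B →+* L)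
    (h : φ (1, 0) = 0) : ev η φ (prodGlue η A B a b) = ev η (prodSnd φ h) b := by
  rw [ev_apply]
  have h0 : algebraMap (A × B) (pt φ).asIdeal.ResidueField (1, 0) = 0 := by
    have : ((1 : A), (0 : B)) ∈ RingHom.ker (algebraMap (A × B) (pt φ).asIdeal.ResidueField) := by
      rw [Ideal.ker_algebraMap_residueField]
      exact h
    exact this
  have h1 : ¬ algebraMap (A × B) (pt φ).asIdeal.ResidueField (0, 1) = 0 := by
    intro h1
    exact prod_not_both _ h1 h0
  rw [prodGlue, dif_neg h1, ← ev_comp]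
  have e : (resLift (pt φ) φ rfl).comp (prodSnd (algebraMap (A × B) (pt φ).asIdeal.ResidueField) h0)
      = prodSnd φ h := by
    apply RingHom.ext
    intro x
    change resLift (pt φ) φ rfl (algebraMap _ _ ((0, x) : A × B)) = φ (0, x)
    rw [resLift_algebraMap]
  rw [e]

theorem Nmap_fst_prodGlue (a : η.N A) (b : η.N B) :
    η.Nmap (RingHom.fst A B) (prodGlue η A B a b) = a := by
  apply N_ext
  intro p
  rw [ev_Nmap, ev_prodGlue_fst η a b _ (by simp)]
  congr 1

theorem Nmap_snd_prodGlue (a : η.N A) (b : η.N B) :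
    η.Nmap (RingHom.snd A B) (prodGlue η A B a b) = b := by
  apply N_ext
  intro p
  rw [ev_Nmap, ev_prodGlue_snd η a b _ (by simp)]
  congr 1

theorem prod_N_ext {x y : η.N (A × B)} (h1 : η.Nmap (RingHom.fst A B) x = η.Nmap (RingHom.fst A B) y)
    (h2 : η.Nmap (RingHom.snd A B) x = η.Nmap (RingHom.snd A B) y) : x = y := by
  apply N_ext
  intro P
  rcases prod_dichotomy (algebraMap (A × B) P.asIdeal.ResidueField) with h | h
  · rw [← prodFst_comp _ h, ← ev_Nmap, ← ev_Nmap, h1]
  · rw [← prodSnd_comp _ h, ← ev_Nmap, ← ev_Nmap, h2]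

theorem bijOn_M_prod :
    Set.BijOn (fun x : η.N (A × B) => (η.Nmap (RingHom.fst A B) x, η.Nmap (RingHom.snd A B) x))
      (η.M (A × B)) ((η.M A : Set (η.N A)) ×ˢ (η.M B : Set (η.N B))) := by
  refine ⟨fun x hx => ⟨Nmap_mem_M η _ hx, Nmap_mem_M η _ hx⟩, ?_, ?_⟩
  · intro x _ y _ hxy
    simp only [Prod.mk.injEq] at hxy
    exact prod_N_ext η hxy.1 hxy.2
  · rintro ⟨a, b⟩ ⟨ha, hb⟩
    refine ⟨prodGlue η A B a b, ?_, ?_⟩
    · intro R _ _ _ hR g
      rcases prod_dichotomy g with h | h
      · rw [← prodFst_comp g h, Nmap_comp, Nmap_fst_prodGlue]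
        exact ha R hR _
      · rw [← prodSnd_comp g h, Nmap_comp, Nmap_snd_prodGlue]
        exact hb R hR _
    · simp only [Nmap_fst_prodGlue, Nmap_snd_prodGlue]

end ProdM

end Groth.Agent.Helper20.EtaProd
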