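import Groth.Prelude.Def_W4c6instabfans3FanCvx
import Groth.Agent.Lib.Helper6.FanMax
import Groth.Agent.Lib.Helper7.FanTop2
import Groth.Agent.Lib.Helper29.Fan
import Mathlib

/-!
# Uniqueness of local maxima of strictly quasi-concave functions on compact convex subsets of `P F`
(helper20, for S19371)
-/

set_option autoImplicit false
universe u v
open CategoryTheory Opposite Instab Instab.Fan
open Groth.Agent.Lib.Helper6.FanMax

namespace Groth.Agent.Lib.Helper20.FanUniq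

variable {F : Fan.{u}}

/-- the ray `v + |s| v'` in the orthant. -/
noncomputable def ray {n : ICone} (v v' : Orth n) (s : ℝ) : Orth n :=
  ⟨fun j => v.1 j + |s| * v'.1 j, fun j => add_nonneg (v.2.1 j) (mul_nonneg (abs_nonneg s) (v'.2.1 j)),
    fun h => by
      obtain ⟨i, hi⟩ := exists_pos v
      have h1 : v.1 i + |s| * v'.1 i = 0 := congr_fun h i
      have h2 : 0 ≤ |s| * v'.1 i := mul_nonneg (abs_nonneg s) (v'.2.1 i)
      linarith⟩

theorem ray_val {n : ICone} (v v' : Orth n) (s : ℝ) (j : Fin n.dim) :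
    (ray v v' s).1 j = v.1 j + |s| * v'.1 j := rfl

theorem ray_zero {n : ICone} (v v' : Orth n) : ray v v' 0 = v := by
  apply Subtype.ext
  funext j
  rw [ray_val, abs_zero, zero_mul, add_zero]

theorem ray_decomp {n : ICone} (v v' : Orth n) {s : ℝ} (hs : 0 < s) :
    (ray v v' s).1 = (1:ℝ) • v.1 + s • v'.1 := by
  funext j
  rw [ray_val, Pi.add_apply, Pi.smul_apply, Pi.smul_apply, abs_of_pos hs, smul_eq_mul, smul_eq_mul,
    one_mul]

theorem continuous_ray {n : ICone} (v v' : Orth n) : Continuous (ray v v') := by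
  apply Continuous.subtype_mk
  apply continuous_pi
  intro j
  exact continuous_const.add (continuous_abs.mul continuous_const)

/-- points of `U` lie in cells contained in `U`. -/
theorem exists_cell {U : Set (Fan.P F)} (hU : Fan.IsRealizable U) (x : Fan.P F) (hx : x ∈ U) :
    ∃ (n : ICone) (ξ : F.obj (op n)) (w : Orth n), P.mk ξ w = x ∧ ∀ v : Orth n, P.mk ξ v ∈ U := by
  obtain ⟨S, hS⟩ := hU
  have hy : x ∈ Set.range (P.map S.ι) := by rw [← hS]; exact hx
  obtain ⟨p, hp⟩ := hy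
  obtain ⟨⟨⟨n, ξ'⟩, w⟩, rfl⟩ := Quot.exists_rep p
  refine ⟨n, S.ι.app (op n) ξ', w, hp, fun v => ?_⟩
  rw [hS]; exact ⟨P.mk ξ' v, rfl⟩

/-- rational points of `U` are dense in `U`. -/
theorem exists_rational_mem {U : Set (Fan.P F)} (hU : Fan.IsRealizable U) (x : U) (O : Set U)
    (hO : IsOpen O) (hx : x ∈ O) : ∃ x' : U, x' ∈ O ∧ (x' : Fan.P F).IsRational := by
  obtain ⟨n, ξ, w, hw, hmemU⟩ := exists_cell hU x.1 x.2
  obtain ⟨H, hHdef⟩ : ∃ H : Orth n → U, H = fun v => ⟨P.mk ξ v, hmemU v⟩ := ⟨_, rfl⟩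
  have hHval : ∀ v, (H v : Fan.P F) = P.mk ξ v := fun v => by rw [hHdef]
  have hHcont : Continuous H := by
    rw [hHdef]
    exact Continuous.subtype_mk (continuous_mk _) _
  have hHw : H w = x := Subtype.ext (by rw [hHval]; exact hw)
  have htend : Filter.Tendsto (fun N : ℕ => H (approxOrth w N)) Filter.atTop (nhds x) := by
    have := (hHcont.tendsto w).comp (tendsto_approxOrth w)
    rwa [hHw] at this
  have hev : ∀ᶠ N in Filter.atTop, H (approxOrth w N) ∈ O := htend.eventually (hO.mem_nhds hx)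
  obtain ⟨N, hN⟩ := hev.exists
  exact ⟨H (approxOrth w N), hN, by rw [hHval]; exact isRational_mk_approx _ w N⟩

section Main

variable {U : Set (Fan.P F)} {Γ : Type v} [LinearOrder Γ]

/-- In a cell through a point of an open set on which `Φ ≤ c`, where `Φ = c`, no other point has
`Φ ≥ c`. -/
theorem claimA (hU : Fan.IsConvex U) (Φ : U → Γ) (hΦ : Fan.IsStrictQuasiConcaveOn U Φ)
    (W₀ : Set U) (hW₀ : IsOpen W₀) (c : Γ) (hle : ∀ u ∈ W₀, Φ u ≤ c)
    {n : ICone} (ζ : F.obj (op n)) (v v' : Orth n) (hv : P.mk ζ v ∈ U) (hv' : P.mk ζ v' ∈ U)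
    (h1 : (⟨_, hv⟩ : U) ∈ W₀) (h2 : Φ ⟨_, hv⟩ = c) (h3 : c ≤ Φ ⟨_, hv'⟩) :
    P.mk ζ v = P.mk ζ v' := by
  by_contra hne
  have hindep : ¬ ∃ c' : ℝ, v'.1 = c' • v.1 := by
    rintro ⟨c', hc'⟩
    rcases lt_or_ge 0 c' with hpos | hneg
    · exact hne (Groth.Agent.Helper29.P_mk_smul ζ v v' c' hpos hc')
    · obtain ⟨i, hi⟩ := exists_pos v'
      have h4 : v'.1 i = c' * v.1 i := by
        have := congr_fun hc' i
        rwa [Pi.smul_apply, smul_eq_mul] at this
      have h5 : c' * v.1 i ≤ 0 := mul_nonpos_of_nonpos_of_nonneg hneg (v.2.1 i)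
      linarith
  have hmem : ∀ s : ℝ, P.mk ζ (ray v v' s) ∈ U := by
    intro s
    by_cases hs : s = 0
    · rw [hs, ray_zero]; exact hv
    · have hs' : 0 < |s| := abs_pos.mpr hs
      refine hU.1 n ζ v (ray v v' s) v' hv hv' ⟨1, |s|, one_pos, hs', ?_⟩
      funext j
      rw [ray_val, Pi.add_apply, Pi.smul_apply, Pi.smul_apply, smul_eq_mul, smul_eq_mul, one_mul]
  obtain ⟨G, hGdef⟩ : ∃ G : ℝ → U, G = fun s => ⟨P.mk ζ (ray v v' s), hmem _⟩ := ⟨_, rfl⟩
  have hGval : ∀ s, (G s : Fan.P F) = P.mk ζ (ray v v' s) := fun s => by rw [hGdef]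
  have hGcont : Continuous G := by
    rw [hGdef]
    exact Continuous.subtype_mk ((continuous_mk ζ).comp (continuous_ray v v')) _
  have hG0 : G 0 = ⟨_, hv⟩ := Subtype.ext (by rw [hGval, ray_zero])
  have h1' : Filter.Tendsto G (nhds 0) (nhds ⟨_, hv⟩) := by
    have h := hGcont.tendsto 0
    rwa [hG0] at h
  have hev : ∀ᶠ s in nhds (0:ℝ), G s ∈ W₀ := h1'.eventually (hW₀.mem_nhds h1)
  have hev2 : ∀ᶠ s in nhdsWithin (0:ℝ) (Set.Ioi 0), G s ∈ W₀ :=
    hev.filter_mono nhdsWithin_le_nhds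
  have hev3 : ∀ᶠ s in nhdsWithin (0:ℝ) (Set.Ioi 0), s ∈ Set.Ioi (0:ℝ) := self_mem_nhdsWithin
  obtain ⟨s, hs1, hs2⟩ := (hev2.and hev3).exists
  have hs : 0 < s := hs2
  have hst := hΦ n ζ v (ray v v' s) v' hv (hmem s) hv' hindep
    ⟨1, s, one_pos, hs, ray_decomp v v' hs⟩
  have es : (⟨P.mk ζ (ray v v' s), hmem s⟩ : U) = G s := Subtype.ext (hGval s).symm
  rw [es, h2, min_eq_left h3] at hst
  exact absurd (hle _ hs1) (not_le.mpr hst)

theorem orth_two_decomp (w : Orth two) :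
    w.1 = (w.1 0) • (Orth.basis two 0).1 + (w.1 1) • (Orth.basis two 1).1 := by
  funext j
  rw [Pi.add_apply, Pi.smul_apply, Pi.smul_apply, basis_val, basis_val]
  rcases fin_two_cases j with h | h
  · rw [h, if_pos (rfl : (0 : Fin two.dim) = 0), if_neg zero_ne_one_two]; simp
  · rw [h, if_neg one_ne_zero_two, if_pos (rfl : (1 : Fin two.dim) = 1)]; simp

theorem orth_two_eq_smul_zero (w : Orth two) (h : w.1 1 = 0) :
    w.1 = (w.1 0) • (Orth.basis two 0).1 := by
  have := orth_two_decomp w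
  rw [h, zero_smul, add_zero] at this
  exact this

theorem orth_two_eq_smul_one (w : Orth two) (h : w.1 0 = 0) :
    w.1 = (w.1 1) • (Orth.basis two 1).1 := by
  have := orth_two_decomp w
  rw [h, zero_smul, zero_add] at this
  exact this

theorem orth_two_pos_zero (w : Orth two) (h : w.1 1 = 0) : 0 < w.1 0 := by
  obtain ⟨i, hi⟩ := exists_pos w
  rcases fin_two_cases i with h' | h'
  · rwa [h'] at hi
  · rw [h', h] at hi; exact absurd hi (lt_irrefl _)

theorem orth_two_pos_one (w : Orth two) (h : w.1 0 = 0) : 0 < w.1 1 := by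
  obtain ⟨i, hi⟩ := exists_pos w
  rcases fin_two_cases i with h' | h'
  · rw [h', h] at hi; exact absurd hi (lt_irrefl _)
  · rwa [h'] at hi

/-- superlevel sets are "segment-convex". -/
theorem superlevel_segment (Φ : U → Γ) (hΦ : Fan.IsStrictQuasiConcaveOn U Φ) (m : Γ)
    (τ : F.obj (op two)) (hmem : ∀ w : Orth two, P.mk τ w ∈ U)
    (h0 : m < Φ ⟨_, hmem (Orth.basis two 0)⟩) (h1 : m < Φ ⟨_, hmem (Orth.basis two 1)⟩)
    (w : Orth two) : m < Φ ⟨_, hmem w⟩ := by
  by_cases hw1 : w.1 1 = 0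
  · have hpos := orth_two_pos_zero w hw1
    have heq : P.mk τ (Orth.basis two 0) = P.mk τ w :=
      Groth.Agent.Helper29.P_mk_smul τ _ w (w.1 0) hpos (orth_two_eq_smul_zero w hw1)
    have e : (⟨_, hmem w⟩ : U) = ⟨_, hmem (Orth.basis two 0)⟩ := Subtype.ext heq.symm
    rw [e]; exact h0
  · by_cases hw0 : w.1 0 = 0
    · have hpos := orth_two_pos_one w hw0
      have heq : P.mk τ (Orth.basis two 1) = P.mk τ w :=
        Groth.Agent.Helper29.P_mk_smul τ _ w (w.1 1) hpos (orth_two_eq_smul_one w hw0)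
      have e : (⟨_, hmem w⟩ : U) = ⟨_, hmem (Orth.basis two 1)⟩ := Subtype.ext heq.symm
      rw [e]; exact h1
    · have hp0 : 0 < w.1 0 := lt_of_le_of_ne (w.2.1 0) (Ne.symm hw0)
      have hp1 : 0 < w.1 1 := lt_of_le_of_ne (w.2.1 1) (Ne.symm hw1)
      have hst := hΦ two τ (Orth.basis two 0) w (Orth.basis two 1) (hmem _) (hmem _) (hmem _)
        basis_indep ⟨w.1 0, w.1 1, hp0, hp1, orth_two_decomp w⟩
      exact lt_of_lt_of_le (lt_min h0 h1) hst.le

instance preconnectedSpace_orth (n : ICone) : PreconnectedSpace (Orth n) := by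
  have hconv : Convex ℝ {v : Fin n.dim → ℝ | (∀ i, 0 ≤ v i) ∧ v ≠ 0} := by
    intro v hv v' hv' a b ha hb hab
    refine ⟨fun i => ?_, fun h => ?_⟩
    · show 0 ≤ a * v i + b * v' i
      exact add_nonneg (mul_nonneg ha (hv.1 i)) (mul_nonneg hb (hv'.1 i))
    · rcases (lt_or_eq_of_le ha) with ha' | ha'
      · obtain ⟨i, hi⟩ := Function.ne_iff.mp hv.2
        have hi' : 0 < v i := lt_of_le_of_ne (hv.1 i) (Ne.symm hi)
        have h1 : a * v i + b * v' i = 0 := congr_fun h i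
        have h2 : 0 < a * v i := mul_pos ha' hi'
        have h3 : 0 ≤ b * v' i := mul_nonneg hb (hv'.1 i)
        linarith
      · have hb' : b = 1 := by rw [← ha'] at hab; linarith
        obtain ⟨i, hi⟩ := Function.ne_iff.mp hv'.2
        have hi' : 0 < v' i := lt_of_le_of_ne (hv'.1 i) (Ne.symm hi)
        have h1 : a * v i + b * v' i = 0 := congr_fun h i
        rw [← ha', hb'] at h1
        linarith
  exact Subtype.preconnectedSpace hconv.isPreconnected

theorem main (F : Fan.{u})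
    (hF : F.IsQuasiSeparated) (hT2 : T2Space (Fan.P F)) (U : Set (Fan.P F)) (hUc : IsCompact U)
    (hU : Fan.IsConvex U) {Γ : Type v} [LinearOrder Γ] [TopologicalSpace Γ] [OrderTopology Γ]
    (Φ : U → Γ) (hΦc : Continuous Φ) (hΦ : Fan.IsStrictQuasiConcaveOn U Φ) (x y : U)
    (hx : IsLocalMax Φ x) (hy : IsLocalMax Φ y) : x = y := by
  wlog hle : Φ x ≤ Φ y generalizing x y
  · exact (this y x hy hx (le_of_not_ge hle)).symm
  by_contra hne
  haveI : CompactSpace U := isCompact_iff_compactSpace.mp hUc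
  -- the open set on which Φ ≤ c
  obtain ⟨W₀, hW₀sub, hW₀open, hxW₀⟩ := mem_nhds_iff.mp hx
  have hW₀le : ∀ u ∈ W₀, Φ u ≤ Φ x := fun u hu => hW₀sub hu
  -- a closed neighbourhood inside W₀
  obtain ⟨t, ht_nhds, ht_closed, ht_sub⟩ := exists_mem_nhds_isClosed_subset (hW₀open.mem_nhds hxW₀)
  -- the set A
  obtain ⟨A, hAdef⟩ : ∃ A : Set U, A = {u : U | u ∈ t ∧ Φ u = Φ x ∧ u ≠ x} := ⟨_, rfl⟩
  have hAclosed : IsClosed A := by
    have hB : IsClosed (Subtype.val '' A : Set (Fan.P F)) := by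
      rw [(Groth.Agent.Helper7.FanTop2.quasiSeparated_topology hF).2]
      intro n ξ
      refine Set.Subsingleton.isClosed ?_
      rintro p ⟨⟨a, ha, rfl⟩, ⟨v, hv⟩⟩ p' ⟨⟨a', ha', rfl⟩, ⟨v', hv'⟩⟩
      rw [hAdef] at ha ha'
      rw [← hv, ← hv']
      have hvU : P.mk ξ v ∈ U := by rw [hv]; exact a.2
      have hv'U : P.mk ξ v' ∈ U := by rw [hv']; exact a'.2
      have ea : (⟨_, hvU⟩ : U) = a := Subtype.ext hv
      have ea' : (⟨_, hv'U⟩ : U) = a' := Subtype.ext hv'
      refine claimA hU Φ hΦ W₀ hW₀open (Φ x) hW₀le ξ v v' hvU hv'U ?_ ?_ ?_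
      · rw [ea]; exact ht_sub ha.1
      · rw [ea]; exact ha.2.1
      · rw [ea']; exact ha'.2.1.ge
    have : A = Subtype.val ⁻¹' (Subtype.val '' A) :=
      (Set.preimage_image_eq A Subtype.val_injective).symm
    rw [this]
    exact hB.preimage continuous_subtype_val
  have hxA : x ∉ A := by
    rw [hAdef]
    rintro ⟨_, _, h⟩
    exact h rfl
  obtain ⟨t₂, ht₂_nhds, ht₂_closed, ht₂_sub⟩ :=
    exists_mem_nhds_isClosed_subset (hAclosed.isOpen_compl.mem_nhds hxA)
  obtain ⟨W, hWdef⟩ : ∃ W : Set U, W = interior t ∩ interior t₂ := ⟨_, rfl⟩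
  have hWopen : IsOpen W := by rw [hWdef]; exact isOpen_interior.inter isOpen_interior
  have hxW : x ∈ W := by
    rw [hWdef]
    exact ⟨mem_interior_iff_mem_nhds.mpr ht_nhds, mem_interior_iff_mem_nhds.mpr ht₂_nhds⟩
  have hclW_t : closure W ⊆ t := by
    rw [hWdef]
    exact closure_minimal (fun u hu => interior_subset hu.1) ht_closed
  have hclW_t₂ : closure W ⊆ t₂ := by
    rw [hWdef]
    exact closure_minimal (fun u hu => interior_subset hu.2) ht₂_closed
  -- key property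
  have hK : ∀ u ∈ closure W, u ≠ x → Φ u < Φ x := by
    intro u hu hux
    have h1 : Φ u ≤ Φ x := hW₀le u (ht_sub (hclW_t hu))
    refine lt_of_le_of_ne h1 ?_
    intro heq
    have : u ∈ A := by rw [hAdef]; exact ⟨hclW_t hu, heq, hux⟩
    exact ht₂_sub (hclW_t₂ hu) this
  have hyW : y ∉ closure W := by
    intro hy'
    have := hK y hy' (fun h => hne h.symm)
    exact absurd hle (not_le.mpr this)
  -- the boundary
  obtain ⟨Dset, hDdef⟩ : ∃ D : Set U, D = closure W \ W := ⟨_, rfl⟩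
  have hDclosed : IsClosed Dset := by
    rw [hDdef]; exact isClosed_closure.sdiff hWopen
  have hDlt : ∀ u ∈ Dset, Φ u < Φ x := by
    intro u hu
    rw [hDdef] at hu
    exact hK u hu.1 (fun h => hu.2 (h ▸ hxW))
  -- the open set O
  have hO : ∃ O : Set U, IsOpen O ∧ x ∈ O ∧ y ∈ O ∧ (∀ u ∈ Dset, u ∉ O) ∧
      (∀ (τ : F.obj (op two)) (hmem : ∀ w : Orth two, P.mk τ w ∈ U),
        (⟨_, hmem (Orth.basis two 0)⟩ : U) ∈ O → (⟨_, hmem (Orth.basis two 1)⟩ : U) ∈ O →
          ∀ w : Orth two, (⟨_, hmem w⟩ : U) ∈ O) := by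
    rcases Set.eq_empty_or_nonempty Dset with hemp | hnon
    · refine ⟨Set.univ, isOpen_univ, trivial, trivial, ?_, fun _ _ _ _ _ => trivial⟩
      intro u hu
      rw [hemp] at hu
      exact absurd hu (Set.notMem_empty u)
    · obtain ⟨b, hbD, hbmax⟩ := hDclosed.isCompact.exists_isMaxOn hnon hΦc.continuousOn
      refine ⟨{u | Φ b < Φ u}, ?_, hDlt b hbD, lt_of_lt_of_le (hDlt b hbD) hle, ?_, ?_⟩
      · exact isOpen_lt continuous_const hΦc
      · intro u hu hu'
        have h1 : Φ u ≤ Φ b := hbmax hu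
        exact absurd hu' (not_lt.mpr h1)
      · intro τ hmem h0 h1 w
        exact superlevel_segment Φ hΦ (Φ b) τ hmem h0 h1 w
  obtain ⟨O, hOopen, hxO, hyO, hOD, hOseg⟩ := hO
  -- rational approximations
  obtain ⟨x', hx'mem, hx'rat⟩ := exists_rational_mem hU.2.1 x (W ∩ O) (hWopen.inter hOopen)
    ⟨hxW, hxO⟩
  obtain ⟨y', hy'mem, hy'rat⟩ := exists_rational_mem hU.2.1 y ((closure W)ᶜ ∩ O)
    (isClosed_closure.isOpen_compl.inter hOopen) ⟨hyW, hyO⟩
  have hne' : (x' : Fan.P F) ≠ (y' : Fan.P F) := by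
    intro h
    have h2 : x' = y' := Subtype.ext h
    rw [h2] at hx'mem
    exact hy'mem.1 (subset_closure hx'mem.1)
  obtain ⟨τ, hcell, hτx, hτy⟩ := hU.2.2 x'.1 y'.1 x'.2 y'.2 hx'rat hy'rat hne'
  have hmem : ∀ v : Orth two, P.mk τ v ∈ U := fun v => hcell ⟨v, rfl⟩
  have e0 : (⟨P.mk τ (Orth.basis two 0), hmem _⟩ : U) = x' := Subtype.ext hτx
  have e1 : (⟨P.mk τ (Orth.basis two 1), hmem _⟩ : U) = y' := Subtype.ext hτy
  obtain ⟨γ, hγdef⟩ : ∃ γ : Orth two → U, γ = fun w => ⟨P.mk τ w, hmem w⟩ := ⟨_, rfl⟩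
  have hγcont : Continuous γ := by
    rw [hγdef]
    exact Continuous.subtype_mk (continuous_mk τ) _
  have hγO : ∀ w, γ w ∈ O := by
    intro w
    rw [hγdef]
    exact hOseg τ hmem (by rw [e0]; exact hx'mem.2) (by rw [e1]; exact hy'mem.2) w
  have hγ0 : γ (Orth.basis two 0) = x' := by rw [hγdef]; exact e0
  have hγ1 : γ (Orth.basis two 1) = y' := by rw [hγdef]; exact e1
  have hconn : IsPreconnected (Set.range γ) := isPreconnected_range hγcont
  have hsub : Set.range γ ⊆ W ∪ (closure W)ᶜ := by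
    rintro _ ⟨w, rfl⟩
    by_cases h1 : γ w ∈ closure W
    · left
      by_contra h2
      exact hOD (γ w) (by rw [hDdef]; exact ⟨h1, h2⟩) (hγO w)
    · right; exact h1
  have hdisj : Disjoint W (closure W)ᶜ :=
    Set.disjoint_left.mpr (fun u hu hu' => hu' (subset_closure hu))
  rcases hconn.subset_or_subset hWopen isClosed_closure.isOpen_compl hdisj hsub with h | h
  · have : y' ∈ W := h ⟨_, hγ1⟩
    exact hy'mem.1 (subset_closure this)
  · have : x' ∈ (closure W)ᶜ := h ⟨_, hγ0⟩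
    exact this (subset_closure hx'mem.1)


end Main

end Groth.Agent.Lib.Helper20.FanUniq
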