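import Mathlib
import Groth.Agent.Lib.Helper20.CartRel1

/-!
# Base change of submodules: suprema, complements, Nakayama (helper20)
-/

set_option autoImplicit false
set_option linter.unusedSectionVars false
set_option linter.style.haveILetI false
universe u v w

namespace Groth.Agent.Helper20.FiltSplit

open TensorProduct

section BaseChange

variable {R : Type u} [CommRing R] {M : Type v} [AddCommGroup M] [Module R M]
  (κ : Type w) [CommRing κ] [Algebra R κ]

theorem baseChange_iSup {ι : Sort*} (N : ι → Submodule R M) :
    (⨆ i, N i).baseChange κ = ⨆ i, (N i).baseChange κ := by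
  apply le_antisymm
  · rw [Submodule.baseChange_eq_span, Submodule.span_le]
    have h : (⨆ i, N i) ≤ Submodule.comap (TensorProduct.mk R κ M 1)
        ((⨆ i, (N i).baseChange κ).restrictScalars R) := by
      apply iSup_le
      intro i x hx
      exact (le_iSup (fun i => (N i).baseChange κ) i)
        (Submodule.tmul_mem_baseChange_of_mem (1 : κ) hx)
    rintro _ ⟨x, hx, rfl⟩
    exact h hx
  · exact iSup_le fun i => Submodule.baseChange_mono κ (le_iSup N i)

theorem baseChange_sup (N N' : Submodule R M) :
    (N ⊔ N').baseChange κ = N.baseChange κ ⊔ N'.baseChange κ := by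
  have h1 : N ⊔ N' = ⨆ b : Bool, (if b then N else N') := by
    rw [iSup_bool_eq]; rfl
  have h2 : N.baseChange κ ⊔ N'.baseChange κ =
      ⨆ b : Bool, (if b then N else N').baseChange κ := by
    rw [iSup_bool_eq]; rfl
  rw [h1, h2, baseChange_iSup]

theorem baseChange_biSup {ι : Type*} (s : Set ι) (N : ι → Submodule R M) :
    (⨆ i ∈ s, N i).baseChange κ = ⨆ i ∈ s, (N i).baseChange κ := by
  rw [baseChange_iSup]
  congr 1
  funext i
  rw [baseChange_iSup]

/-- base change preserves complements -/
theorem disjoint_baseChange_of_isCompl (N N' : Submodule R M) (h : IsCompl N N') :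
    Disjoint (N.baseChange κ) (N'.baseChange κ) := by
  let π : M →ₗ[R] M := N.subtype ∘ₗ (Submodule.projectionOnto N N' h)
  have hπN : ∀ x ∈ N, π x = x := by
    intro x hx
    show ((Submodule.projectionOnto N N' h) x : M) = x
    have := Submodule.projectionOnto_apply_left h ⟨x, hx⟩
    exact congrArg Subtype.val this
  have hπN' : ∀ x ∈ N', π x = 0 := by
    intro x hx
    show ((Submodule.projectionOnto N N' h) x : M) = 0
    have := Submodule.projectionOnto_apply_right h ⟨x, hx⟩
    exact congrArg Subtype.val this
  have h1 : ∀ y ∈ N.baseChange κ, (π.baseChange κ) y = y := by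
    rintro _ ⟨η, rfl⟩
    induction η using TensorProduct.induction_on with
    | zero => simp
    | tmul c n =>
      rw [LinearMap.baseChange_tmul, LinearMap.baseChange_tmul, Submodule.subtype_apply,
        hπN n n.2]
    | add a b ha hb => rw [map_add, map_add, ha, hb]
  have h2 : ∀ y ∈ N'.baseChange κ, (π.baseChange κ) y = 0 := by
    rintro _ ⟨η, rfl⟩
    induction η using TensorProduct.induction_on with
    | zero => simp
    | tmul c n =>
      rw [LinearMap.baseChange_tmul, LinearMap.baseChange_tmul, Submodule.subtype_apply,
        hπN' n n.2, TensorProduct.tmul_zero]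
    | add a b ha hb => rw [map_add, map_add, ha, hb, add_zero]
  rw [Submodule.disjoint_def]
  intro y hy hy'
  rw [← h1 y hy, h2 y hy']

end BaseChange

section Nakayama

open Groth.Agent.Helper20.CartRel

variable {R : Type u} [CommRing R] {M : Type v} [AddCommGroup M] [Module R M]

theorem sup_smul_top_eq_top_of_baseChange_eq_top (m : Ideal R) [m.IsMaximal] (N : Submodule R M)
    (h : N.baseChange m.ResidueField = ⊤) : N ⊔ m • (⊤ : Submodule R M) = ⊤ := by
  rw [eq_top_iff]
  intro y _
  have hy : ((1 : m.ResidueField) ⊗ₜ[R] y : m.ResidueField ⊗[R] M) ∈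
      N.baseChange m.ResidueField := by rw [h]; trivial
  obtain ⟨η, hη⟩ := hy
  obtain ⟨n, rfl⟩ := exists_tmul_one_eq m η
  rw [LinearMap.baseChange_tmul, Submodule.subtype_apply] at hη
  have h0 : ((1 : m.ResidueField) ⊗ₜ[R] (y - (n : M)) : m.ResidueField ⊗[R] M) = 0 := by
    rw [TensorProduct.tmul_sub, hη, sub_self]
  have h1 := mem_smul_top_of_tmul_eq_zero m _ h0
  have h2 : y = (n : M) + (y - (n : M)) := by abel
  rw [h2]
  exact Submodule.add_mem_sup n.2 h1

/-- Nakayama: a submodule of a finite module whose base change to every residue field at a maximal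
ideal is everything, is everything -/
theorem eq_top_of_forall_baseChange_eq_top [Module.Finite R M] (N : Submodule R M)
    (h : ∀ m : Ideal R, ∀ _ : m.IsMaximal, N.baseChange m.ResidueField = ⊤) : N = ⊤ :=
  eq_top_of_forall_maximal N fun m hm =>
    haveI := hm
    sup_smul_top_eq_top_of_baseChange_eq_top m N (h m hm)

end Nakayama

end Groth.Agent.Helper20.FiltSplit
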