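import Mathlib

/-!
# Jumps of a decreasing filtration of a finite-dimensional vector space (helper20)
-/

set_option autoImplicit false
set_option linter.unusedSectionVars false
set_option linter.style.haveILetI false

namespace Groth.Agent.Helper20.FiltSplit

open Module

variable {K : Type*} [Field K] {V : Type*} [AddCommGroup V] [Module K V] [FiniteDimensional K V]
  {Γ : Type*} [LinearOrder Γ] (X : Γ → Submodule K V)

/-- the sum of the later steps of the filtration -/
def plus (γ : Γ) : Submodule K V := ⨆ η ∈ Set.Ioi γ, X η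

/-- the jump of the filtration at `γ` -/
noncomputable def jump (γ : Γ) : ℕ := finrank K (X γ) - finrank K (plus X γ)

variable {X}

theorem plus_le (hX : Antitone X) (γ : Γ) : plus X γ ≤ X γ :=
  iSup₂_le fun _ hη => hX (le_of_lt hη)

theorem le_plus {γ η : Γ} (h : γ < η) : X η ≤ plus X γ :=
  le_iSup₂ (f := fun η (_ : η ∈ Set.Ioi γ) => X η) η h

theorem jump_add (hX : Antitone X) (γ : Γ) :
    jump X γ + finrank K (plus X γ) = finrank K (X γ) := by
  have := Submodule.finrank_mono (plus_le hX γ)
  unfold jump
  omega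

theorem sum_jump_le (hX : Antitone X) (T : Finset Γ) :
    ∑ γ ∈ T, jump X γ ≤ finrank K (⨆ γ ∈ T, X γ : Submodule K V) := by
  induction T using Finset.induction_on_min with
  | empty => simp
  | insert a s has ih =>
    have hnot : a ∉ s := fun h => lt_irrefl a (has a h)
    rw [Finset.sum_insert hnot]
    have h1 : (⨆ γ ∈ s, X γ : Submodule K V) ≤ plus X a :=
      iSup₂_le fun γ hγ => le_plus (has γ hγ)
    have h2 := Submodule.finrank_mono h1
    have h3 := jump_add hX a
    have h4 : X a ≤ (⨆ γ ∈ insert a s, X γ : Submodule K V) :=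
      le_iSup₂ (f := fun γ (_ : γ ∈ insert a s) => X γ) a (Finset.mem_insert_self a s)
    have h5 := Submodule.finrank_mono h4
    omega

theorem sum_jump_le_finrank (hX : Antitone X) (T : Finset Γ) :
    ∑ γ ∈ T, jump X γ ≤ finrank K V :=
  (sum_jump_le hX T).trans (Submodule.finrank_le _)

theorem finite_support_jump (hX : Antitone X) : (Function.support (jump X)).Finite := by
  by_contra hinf
  obtain ⟨T, hT, hcard⟩ := Set.Infinite.exists_subset_card_eq hinf (finrank K V + 1)
  have h1 : T.card ≤ ∑ γ ∈ T, jump X γ := by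
    rw [Finset.card_eq_sum_ones]
    apply Finset.sum_le_sum
    intro γ hγ
    have : jump X γ ≠ 0 := hT hγ
    omega
  have h2 := sum_jump_le_finrank hX T
  omega

/-- if the jumps add up to the dimension and `W` fills all the jumps then `W` is everything -/
theorem eq_top_of_jumps (hX : Antitone X) (W : Submodule K V)
    (hW : ∀ γ, X γ ≤ W ⊔ plus X γ) (hcount : finrank K V = ∑ᶠ γ, jump X γ) : W = ⊤ := by
  let Y : Γ → Submodule K V := fun γ => X γ ⊓ W
  have hY : Antitone Y := fun a b hab => inf_le_inf_right W (hX hab)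
  have hjump : ∀ γ, jump X γ ≤ jump Y γ := by
    intro γ
    have h1 : Y γ ⊔ plus X γ = X γ := by
      show X γ ⊓ W ⊔ plus X γ = X γ
      rw [inf_sup_assoc_of_le W (plus_le hX γ)]
      exact inf_eq_left.mpr (hW γ)
    have h2 := Submodule.finrank_sup_add_finrank_inf_eq (Y γ) (plus X γ)
    rw [h1] at h2
    have h3 : plus Y γ ≤ Y γ ⊓ plus X γ := by
      apply le_inf (plus_le hY γ)
      exact iSup₂_le fun η hη => inf_le_left.trans (le_plus hη)
    have h4 := Submodule.finrank_mono h3
    have h5 := jump_add hX γ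
    have h6 := jump_add hY γ
    omega
  have hfin := finite_support_jump hX
  have h1 : ∑ᶠ γ, jump X γ = ∑ γ ∈ hfin.toFinset, jump X γ :=
    finsum_eq_sum_of_support_subset _ (by simp)
  have h2 : ∑ γ ∈ hfin.toFinset, jump X γ ≤ ∑ γ ∈ hfin.toFinset, jump Y γ :=
    Finset.sum_le_sum fun γ _ => hjump γ
  have h3 := sum_jump_le hY hfin.toFinset
  have h4 : (⨆ γ ∈ hfin.toFinset, Y γ : Submodule K V) ≤ W :=
    iSup₂_le fun γ _ => inf_le_right
  have h5 := Submodule.finrank_mono h4
  apply Submodule.eq_top_of_finrank_eq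
  have h6 := Submodule.finrank_le W
  omega

end Groth.Agent.Helper20.FiltSplit
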