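import Mathlib
import Groth.Agent.Lib.Helper20.FiltSplit1
import Groth.Agent.Lib.Helper20.FiltSplit2

/-!
# Splitting a filtration of a finite projective module: from graded pieces to a grading (helper20)
-/

set_option autoImplicit false
set_option linter.unusedSectionVars false
set_option linter.style.haveILetI false
universe u v w

namespace Groth.Agent.Helper20.FiltSplit

open TensorProduct Module

variable {Γ : Type w} [LinearOrder Γ]
  {R : Type u} [CommRing R] {M : Type v} [AddCommGroup M] [Module R M]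
  (F : Γ → Submodule R M) (hF : Antitone F)
  (Fp : Γ → Submodule R M) (hFp : ∀ γ, Fp γ = ⨆ η ∈ Set.Ioi γ, F η)

/-- a complement of `Fp γ` in `F γ` when the graded piece is projective -/
theorem exists_complement (γ : Γ)
    (hproj : Module.Projective R (↥(F γ) ⧸ Submodule.comap (F γ).subtype (Fp γ))) :
    ∃ G : Submodule R M, G ≤ F γ ∧ G ⊓ Fp γ = ⊥ ∧ F γ ≤ G ⊔ Fp γ := by
  let Q := Submodule.comap (F γ).subtype (Fp γ)
  obtain ⟨σ, hσ⟩ := Module.projective_lifting_property Q.mkQ LinearMap.id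
    (Submodule.mkQ_surjective Q)
  have hσ' : ∀ y, Q.mkQ (σ y) = y := fun y => LinearMap.congr_fun hσ y
  refine ⟨LinearMap.range ((F γ).subtype ∘ₗ σ), ?_, ?_, ?_⟩
  · rintro _ ⟨y, rfl⟩
    exact (σ y).2
  · rw [eq_bot_iff]
    rintro _ ⟨⟨y, rfl⟩, hx⟩
    have h1 : σ y ∈ Q := hx
    have h2 : Q.mkQ (σ y) = 0 := (Submodule.Quotient.mk_eq_zero Q).mpr h1
    rw [hσ'] at h2
    rw [h2, map_zero]
    exact Submodule.zero_mem _
  · intro x hx
    let x' : F γ := ⟨x, hx⟩
    have h1 : x' - σ (Q.mkQ x') ∈ Q := by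
      rw [← Submodule.Quotient.mk_eq_zero Q, Submodule.Quotient.mk_sub]
      have := hσ' (Q.mkQ x')
      simp only [Submodule.mkQ_apply] at this ⊢
      rw [this, sub_self]
    have h2 : ((x' - σ (Q.mkQ x') : F γ) : M) ∈ Fp γ := h1
    have h3 : x = ((F γ).subtype ∘ₗ σ) (Q.mkQ x') + ((x' - σ (Q.mkQ x') : F γ) : M) := by
      simp only [LinearMap.coe_comp, Function.comp_apply, Submodule.subtype_apply,
        Submodule.coe_sub]
      show x = _ + ((x' : M) - _)
      abel
    rw [h3]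
    exact Submodule.add_mem_sup (LinearMap.mem_range_self _ _) h2

variable (G : Γ → Submodule R M) (hG1 : ∀ γ, G γ ≤ F γ) (hG2 : ∀ γ, G γ ⊓ Fp γ = ⊥)
  (hG3 : ∀ γ, F γ ≤ G γ ⊔ Fp γ)

include hF hFp in
theorem le_Fp {γ η : Γ} (h : γ < η) : F η ≤ Fp γ := by
  rw [hFp γ]
  exact le_iSup₂ (f := fun η (_ : η ∈ Set.Ioi γ) => F η) η h

include hF hFp hG1 in
theorem sum_mem_Fp (a : Γ) (s : Finset Γ) (has : ∀ x ∈ s, a < x) (v : Γ → M)
    (hv : ∀ i ∈ s, v i ∈ G i) : ∑ i ∈ s, v i ∈ Fp a :=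
  Submodule.sum_mem _ fun i hi => le_Fp F hF Fp hFp (has i hi) (hG1 i (hv i hi))

include hF hFp hG1 hG2 in
theorem iSupIndep_G : iSupIndep G := by
  rw [iSupIndep_iff_finsetSum_eq_zero_imp_eq_zero]
  intro s
  induction s using Finset.induction_on_min with
  | empty => intro v _ _ i hi; exact absurd hi (Finset.notMem_empty i)
  | insert a s has ih =>
    intro v hv hsum i hi
    have hnot : a ∉ s := fun h => lt_irrefl a (has a h)
    rw [Finset.sum_insert hnot] at hsum
    have hvs : ∀ i ∈ s, v i ∈ G i := fun i hi => hv i (Finset.mem_insert_of_mem hi)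
    have h1 : ∑ i ∈ s, v i ∈ Fp a := sum_mem_Fp F hF Fp hFp G hG1 a s has v hvs
    have h2 : v a = - ∑ i ∈ s, v i := eq_neg_of_add_eq_zero_left hsum
    have h3 : v a ∈ G a ⊓ Fp a :=
      ⟨hv a (Finset.mem_insert_self a s), by rw [h2]; exact Submodule.neg_mem _ h1⟩
    rw [hG2 a, Submodule.mem_bot] at h3
    rw [h3, zero_add] at hsum
    rcases Finset.mem_insert.mp hi with rfl | hi'
    · exact h3
    · exact ih v hvs hsum i hi'

include hF hFp hG1 hG2 in
theorem sum_mem_of_mem_F (γ : Γ) (s : Finset Γ) (v : Γ → M) (hv : ∀ i ∈ s, v i ∈ G i)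
    (hsum : ∑ i ∈ s, v i ∈ F γ) : ∑ i ∈ s, v i ∈ ⨆ η ∈ Set.Ici γ, G η := by
  induction s using Finset.induction_on_min with
  | empty => simp
  | insert a s has ih =>
    have hnot : a ∉ s := fun h => lt_irrefl a (has a h)
    have hvs : ∀ i ∈ s, v i ∈ G i := fun i hi => hv i (Finset.mem_insert_of_mem hi)
    by_cases haγ : γ ≤ a
    · apply Submodule.sum_mem
      intro i hi
      have hγi : γ ≤ i := by
        rcases Finset.mem_insert.mp hi with rfl | hi'
        · exact haγ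
        · exact haγ.trans (le_of_lt (has i hi'))
      exact (le_iSup₂ (f := fun η (_ : η ∈ Set.Ici γ) => G η) i hγi) (hv i hi)
    · have haγ' : a < γ := not_le.mp haγ
      rw [Finset.sum_insert hnot] at hsum ⊢
      have h1 : ∑ i ∈ s, v i ∈ Fp a := sum_mem_Fp F hF Fp hFp G hG1 a s has v hvs
      have h2 : v a + ∑ i ∈ s, v i ∈ Fp a := le_Fp F hF Fp hFp haγ' hsum
      have h3 : v a ∈ G a ⊓ Fp a := by
        refine ⟨hv a (Finset.mem_insert_self a s), ?_⟩
        have := Submodule.sub_mem _ h2 h1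
        rwa [add_sub_cancel_right] at this
      rw [hG2 a, Submodule.mem_bot] at h3
      rw [h3, zero_add] at hsum ⊢
      exact ih hvs hsum

include hF hFp hG1 hG2 in
theorem F_eq_of_iSup_eq_top (htop : ⨆ γ, G γ = ⊤) (γ : Γ) : F γ = ⨆ η ∈ Set.Ici γ, G η := by
  apply le_antisymm
  · intro x hx
    have hx' : x ∈ ⨆ γ, G γ := by rw [htop]; trivial
    obtain ⟨f, hf, rfl⟩ := (Submodule.mem_iSup_iff_exists_finsupp G x).mp hx'
    exact sum_mem_of_mem_F F hF Fp hFp G hG1 hG2 γ f.support f (fun i _ => hf i) hx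
  · exact iSup₂_le fun η hη => (hG1 η).trans (hF hη)

include hF hFp hG3 in
theorem iSup_G_eq_top [Module.Finite R M]
    (hcount : ∀ (m : Ideal R) (_ : m.IsMaximal),
      finrank m.ResidueField (m.ResidueField ⊗[R] M) =
        ∑ᶠ γ, jump (fun γ => (F γ).baseChange m.ResidueField) γ) : ⨆ γ, G γ = ⊤ := by
  apply eq_top_of_forall_baseChange_eq_top
  intro m hm
  haveI := hm
  let κ := m.ResidueField
  have hX : Antitone (fun γ => (F γ).baseChange κ) :=
    fun a b hab => Submodule.baseChange_mono κ (hF hab)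
  apply eq_top_of_jumps hX _ _ (hcount m hm)
  intro γ
  have h1 : (Fp γ).baseChange κ = plus (fun γ => (F γ).baseChange κ) γ := by
    rw [hFp γ, baseChange_biSup]
    rfl
  calc (F γ).baseChange κ ≤ (G γ ⊔ Fp γ).baseChange κ := Submodule.baseChange_mono κ (hG3 γ)
    _ = (G γ).baseChange κ ⊔ (Fp γ).baseChange κ := baseChange_sup κ _ _
    _ ≤ (⨆ γ, G γ).baseChange κ ⊔ plus (fun γ => (F γ).baseChange κ) γ := by
        rw [h1]
        exact sup_le_sup_right (Submodule.baseChange_mono κ (le_iSup G γ)) _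

omit G in
include hF hFp in
/-- **(4) ⇒ (1)** -/
theorem exists_grading_of_gr_projective [Module.Finite R M]
    (hproj : ∀ γ, Module.Projective R (↥(F γ) ⧸ Submodule.comap (F γ).subtype (Fp γ)))
    (hcount : ∀ (m : Ideal R) (_ : m.IsMaximal),
      finrank m.ResidueField (m.ResidueField ⊗[R] M) =
        ∑ᶠ γ, jump (fun γ => (F γ).baseChange m.ResidueField) γ) :
    ∃ G : Γ → Submodule R M, DirectSum.IsInternal G ∧ ∀ γ, F γ = ⨆ η ∈ Set.Ici γ, G η := by
  choose G hG1 hG2 hG3 using fun γ => exists_complement F Fp γ (hproj γ)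
  have htop := iSup_G_eq_top F hF Fp hFp G hG3 hcount
  exact ⟨G, DirectSum.isInternal_submodule_of_iSupIndep_of_iSup_eq_top
    (iSupIndep_G F hF Fp hFp G hG1 hG2) htop,
    F_eq_of_iSup_eq_top F hF Fp hFp G hG1 hG2 htop⟩

end Groth.Agent.Helper20.FiltSplit
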