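import Mathlib
import Groth.Agent.Lib.Helper20.FiltSplit1
import Groth.Agent.Lib.Helper20.FiltSplit2

/-!
# Splitting a filtration of a finite projective module: from a grading to graded pieces (helper20)
-/

set_option autoImplicit false
set_option linter.unusedSectionVars false
set_option linter.style.haveILetI false
universe u v w

namespace Groth.Agent.Helper20.FiltSplit

open TensorProduct Module

variable {Γ : Type w} [LinearOrder Γ]
  {R : Type u} [CommRing R] {M : Type v} [AddCommGroup M] [Module R M]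
  (F : Γ → Submodule R M)
  (Fp : Γ → Submodule R M) (hFp : ∀ γ, Fp γ = ⨆ η ∈ Set.Ioi γ, F η)
  (G : Γ → Submodule R M) (hind : iSupIndep G) (htop : ⨆ γ, G γ = ⊤)
  (hFG : ∀ γ, F γ = ⨆ η ∈ Set.Ici γ, G η)

/-- the sum of the other graded pieces -/
def others (γ : Γ) : Submodule R M := ⨆ (η : Γ) (_ : η ≠ γ), G η

include hFG in
theorem G_le_F (γ : Γ) : G γ ≤ F γ := by
  rw [hFG γ]
  exact le_iSup₂ (f := fun η (_ : η ∈ Set.Ici γ) => G η) γ (Set.self_mem_Ici)

include hFp hFG in
theorem Fp_eq (γ : Γ) : Fp γ = ⨆ η ∈ Set.Ioi γ, G η := by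
  rw [hFp γ]
  apply le_antisymm
  · apply iSup₂_le
    intro η hη
    rw [hFG η]
    apply iSup₂_le
    intro ζ hζ
    exact le_iSup₂ (f := fun η (_ : η ∈ Set.Ioi γ) => G η) ζ (lt_of_lt_of_le hη hζ)
  · apply iSup₂_le
    intro η hη
    exact (G_le_F F G hFG η).trans (le_iSup₂ (f := fun η (_ : η ∈ Set.Ioi γ) => F η) η hη)

include hFp hFG in
theorem Fp_le_others (γ : Γ) : Fp γ ≤ others G γ := by
  rw [Fp_eq F Fp hFp G hFG γ]
  apply iSup₂_le
  intro η hη
  exact le_iSup₂ (f := fun η (_ : η ≠ γ) => G η) η (ne_of_gt hη)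

include hFp hFG in
theorem F_eq_sup (γ : Γ) : F γ = G γ ⊔ Fp γ := by
  apply le_antisymm
  · rw [hFG γ]
    apply iSup₂_le
    intro η hη
    rcases eq_or_lt_of_le (show γ ≤ η from hη) with h | h
    · subst h; exact le_sup_left
    · rw [Fp_eq F Fp hFp G hFG γ]
      exact le_sup_of_le_right (le_iSup₂ (f := fun η (_ : η ∈ Set.Ioi γ) => G η) η h)
  · apply sup_le (G_le_F F G hFG γ)
    rw [hFp γ]
    apply iSup₂_le
    intro η hη
    rw [hFG η, hFG γ]
    apply iSup₂_le
    intro ζ hζ
    exact le_iSup₂ (f := fun η (_ : η ∈ Set.Ici γ) => G η) ζ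
      (le_of_lt (lt_of_lt_of_le hη hζ))

include hind htop in
theorem isCompl_others (γ : Γ) : IsCompl (G γ) (others G γ) := by
  refine ⟨hind γ, ?_⟩
  rw [codisjoint_iff, eq_top_iff, ← htop]
  apply iSup_le
  intro η
  by_cases h : η = γ
  · subst h; exact le_sup_left
  · exact le_sup_of_le_right (le_iSup₂ (f := fun η (_ : η ≠ γ) => G η) η h)

include hind htop in
theorem finite_G [Module.Finite R M] (γ : Γ) : Module.Finite R (G γ) := by
  have h := isCompl_others G hind htop γ
  refine Module.Finite.of_surjective (Submodule.projectionOnto (G γ) (others G γ) h) ?_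
  intro g
  exact ⟨g, Submodule.projectionOnto_apply_left h g⟩

include hind htop in
theorem projective_G [Module.Projective R M] (γ : Γ) : Module.Projective R (G γ) := by
  have h := isCompl_others G hind htop γ
  refine Module.Projective.of_split (G γ).subtype
    (Submodule.projectionOnto (G γ) (others G γ) h) ?_
  refine LinearMap.ext fun g => ?_
  exact Submodule.projectionOnto_apply_left h g

/-- the comparison map from the graded piece of the grading to that of the filtration -/
def toGr (γ : Γ) (h : G γ ≤ F γ) :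
    G γ →ₗ[R] (↥(F γ) ⧸ Submodule.comap (F γ).subtype (Fp γ)) :=
  (Submodule.comap (F γ).subtype (Fp γ)).mkQ ∘ₗ Submodule.inclusion h

include hind htop hFp hFG in
theorem toGr_bijective (γ : Γ) :
    Function.Bijective (toGr F Fp G γ (G_le_F F G hFG γ)) := by
  constructor
  · rw [← LinearMap.ker_eq_bot, eq_bot_iff]
    intro g hg
    have h1 : Submodule.inclusion (G_le_F F G hFG γ) g ∈
        Submodule.comap (F γ).subtype (Fp γ) := by
      rw [← Submodule.Quotient.mk_eq_zero]
      exact hg
    have h2 : (g : M) ∈ Fp γ := h1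
    have h3 : (g : M) ∈ G γ ⊓ others G γ :=
      ⟨g.2, Fp_le_others F Fp hFp G hFG γ h2⟩
    rw [(isCompl_others G hind htop γ).inf_eq_bot] at h3
    have h4 : (g : M) = 0 := (Submodule.mem_bot R).mp h3
    rw [Submodule.mem_bot]
    exact Subtype.ext h4
  · intro y
    obtain ⟨x, rfl⟩ := Submodule.Quotient.mk_surjective _ y
    have hx : (x : M) ∈ G γ ⊔ Fp γ := by
      rw [← F_eq_sup F Fp hFp G hFG γ]; exact x.2
    obtain ⟨g, hg, f, hf, hgf⟩ := Submodule.mem_sup.mp hx
    refine ⟨⟨g, hg⟩, ?_⟩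
    show Submodule.Quotient.mk _ = Submodule.Quotient.mk x
    rw [Submodule.Quotient.eq]
    show ((Submodule.inclusion (G_le_F F G hFG γ) ⟨g, hg⟩ - x : F γ) : M) ∈ Fp γ
    have : ((Submodule.inclusion (G_le_F F G hFG γ) ⟨g, hg⟩ - x : F γ) : M) = - f := by
      rw [Submodule.coe_sub, ← hgf]
      show g - (g + f) = -f
      abel
    rw [this]
    exact Submodule.neg_mem _ hf

include hind htop hFp hFG in
theorem gr_finite_projective [Module.Finite R M] [Module.Projective R M] (γ : Γ) :
    Module.Finite R (↥(F γ) ⧸ Submodule.comap (F γ).subtype (Fp γ)) ∧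
      Module.Projective R (↥(F γ) ⧸ Submodule.comap (F γ).subtype (Fp γ)) := by
  let e := LinearEquiv.ofBijective _ (toGr_bijective F Fp hFp G hind htop hFG γ)
  haveI := finite_G G hind htop γ
  haveI := projective_G G hind htop γ
  exact ⟨Module.Finite.equiv e, Module.Projective.of_equiv e⟩

section Fibre

variable (κ : Type*) [Field κ] [Algebra R κ]

theorem finrank_biSup_le {K : Type*} [Field K] {V : Type*} [AddCommGroup V] [Module K V]
    [FiniteDimensional K V] (Y : Γ → Submodule K V) (T : Finset Γ) :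
    finrank K (⨆ γ ∈ T, Y γ : Submodule K V) ≤ ∑ γ ∈ T, finrank K (Y γ) := by
  classical
  induction T using Finset.induction_on with
  | empty => simp
  | insert a s has ih =>
    rw [Finset.sum_insert has, Finset.iSup_insert]
    exact (Submodule.finrank_add_le_finrank_add_finrank _ _).trans (by omega)

include hind htop hFp hFG in
/-- the fibre count -/
theorem fibre_count [Module.Finite R M] :
    finrank κ (κ ⊗[R] M) = ∑ᶠ γ, jump (fun γ => (F γ).baseChange κ) γ := by
  let X : Γ → Submodule κ (κ ⊗[R] M) := fun γ => (F γ).baseChange κ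
  let Y : Γ → Submodule κ (κ ⊗[R] M) := fun γ => (G γ).baseChange κ
  have hFanti : Antitone F := by
    intro a b hab
    rw [hFG a, hFG b]
    apply iSup₂_le
    intro ζ hζ
    exact le_iSup₂ (f := fun η (_ : η ∈ Set.Ici a) => G η) ζ (le_trans hab hζ)
  have hX : Antitone X := fun a b hab => Submodule.baseChange_mono κ (hFanti hab)
  have hplus : ∀ γ, plus X γ = (Fp γ).baseChange κ := by
    intro γ
    rw [hFp γ, baseChange_biSup]
    rfl
  have hsup : ∀ γ, X γ = Y γ ⊔ plus X γ := by
    intro γ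
    rw [hplus γ, ← baseChange_sup, ← F_eq_sup F Fp hFp G hFG γ]
  have hdisj : ∀ γ, Y γ ⊓ plus X γ = ⊥ := by
    intro γ
    have h1 := disjoint_baseChange_of_isCompl κ _ _ (isCompl_others G hind htop γ)
    have h2 : plus X γ ≤ (others G γ).baseChange κ := by
      rw [hplus γ]
      exact Submodule.baseChange_mono κ (Fp_le_others F Fp hFp G hFG γ)
    exact (h1.mono_right h2).eq_bot
  have hjump : ∀ γ, jump X γ = finrank κ (Y γ) := by
    intro γ
    have h1 := Submodule.finrank_sup_add_finrank_inf_eq (Y γ) (plus X γ)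
    rw [← hsup γ, hdisj γ, finrank_bot] at h1
    have h2 := jump_add hX γ
    omega
  have hfin := finite_support_jump hX
  have h1 : ∑ᶠ γ, jump X γ = ∑ γ ∈ hfin.toFinset, jump X γ :=
    finsum_eq_sum_of_support_subset _ (by simp)
  have h2 := sum_jump_le_finrank hX hfin.toFinset
  have hYbot : ∀ γ, γ ∉ hfin.toFinset → Y γ = ⊥ := by
    intro γ hγ
    have h3 : jump X γ = 0 := by
      by_contra h
      exact hγ (hfin.mem_toFinset.mpr h)
    rw [hjump γ] at h3
    exact Submodule.finrank_eq_zero.mp h3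
  have hYtop : (⨆ γ ∈ hfin.toFinset, Y γ : Submodule κ (κ ⊗[R] M)) = ⊤ := by
    rw [eq_top_iff]
    have h3 : (⊤ : Submodule κ (κ ⊗[R] M)) = ⨆ γ, Y γ := by
      rw [← baseChange_iSup, htop, Submodule.baseChange_top]
    rw [h3]
    apply iSup_le
    intro γ
    by_cases hγ : γ ∈ hfin.toFinset
    · exact le_iSup₂ (f := fun γ (_ : γ ∈ hfin.toFinset) => Y γ) γ hγ
    · rw [hYbot γ hγ]; exact bot_le
  have h4 := finrank_biSup_le Y hfin.toFinset
  rw [hYtop, finrank_top] at h4
  have h5 : ∑ γ ∈ hfin.toFinset, finrank κ (Y γ) = ∑ γ ∈ hfin.toFinset, jump X γ :=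
    Finset.sum_congr rfl fun γ _ => (hjump γ).symm
  show finrank κ (κ ⊗[R] M) = ∑ᶠ γ, jump X γ
  omega

end Fibre

end Groth.Agent.Helper20.FiltSplit
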