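import Mathlib
import Groth.Agent.Lib.Helper10.Fitting
import Groth.Agent.Lib.Helper10.FittingC

/-!
# Cramer's rule consequences for a module whose `k`-th Fitting ideal is principal, generated by a
nonzerodivisor, with vanishing `(k-1)`-st Fitting ideal
-/

set_option autoImplicit false

namespace Groth.Agent.Helper20.FitSplitA

open Groth.Agent.Lib.Helper10.Fitting Matrix

variable {R : Type*} [CommRing R] {M : Type*} [AddCommGroup M] [Module R M]
variable {ι : Type*} [Fintype ι] [DecidableEq ι]

lemma cramer_row (A : Matrix ι ι R) (b : ι → R) :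
    ∑ i, (A.updateRow i b).det • A i = A.det • b := by
  have h := Matrix.mulVec_cramer Aᵀ b
  rw [Matrix.det_transpose] at h
  rw [← h]
  funext j
  rw [Finset.sum_apply, Matrix.mulVec, dotProduct]
  refine Finset.sum_congr rfl (fun i _ => ?_)
  rw [Pi.smul_apply, smul_eq_mul, Matrix.cramer_transpose_apply, Matrix.transpose_apply, mul_comm]

lemma det_mul_eq_zero_of_sum_eq_zero (A : Matrix ι ι R) (c : ι → R)
    (h : ∑ i, c i • A i = 0) (i : ι) : A.det * c i = 0 := by
  have h1 : c ᵥ* A = 0 := by
    funext j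
    have h2 := congrFun h j
    rw [Finset.sum_apply] at h2
    rw [Matrix.vecMul, dotProduct]
    simpa [Pi.smul_apply, smul_eq_mul] using h2
  have h3 : (c ᵥ* A) ᵥ* A.adjugate = A.det • c := by
    rw [Matrix.vecMul_vecMul, Matrix.mul_adjugate, Matrix.vecMul_smul, Matrix.vecMul_one]
  rw [h1, Matrix.zero_vecMul] at h3
  have h4 := congrFun h3 i
  simpa [Pi.smul_apply, smul_eq_mul] using h4.symm

section Data

variable (x : ι → M) (k : ℕ) (f h : R) (hf : f ∈ nonZeroDivisors R)
  (hk : Jf x k = Ideal.span {f}) (hk' : k = 0 ∨ Jf (R := R) x (k - 1) = ⊥)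
  (a : Matrix ι ι R) (S : Finset ι) (hS : S.card ≤ k) (hrel : ∀ i, i ∉ S → IsRel x (a i))
  (hdet : a.det = f * h)

include hk' hS hrel in
lemma A1 (v : ι → R) (hv : IsRel x v) (i : ι) (hi : i ∈ S) : (a.updateRow i v).det = 0 := by
  rcases hk' with h0 | hbot
  · exfalso
    rw [h0, Nat.le_zero, Finset.card_eq_zero] at hS
    rw [hS] at hi
    exact Finset.notMem_empty i hi
  · have hmem : (a.updateRow i v).det ∈ Jf (R := R) x (k - 1) := by
      refine Ideal.subset_span ⟨a.updateRow i v, S.erase i, ?_, ?_, rfl⟩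
      · rw [Finset.card_erase_of_mem hi]
        exact Nat.sub_le_sub_right hS 1
      · intro i' hi'
        by_cases hii : i' = i
        · rw [hii, Matrix.updateRow_self]
          exact hv
        · rw [Matrix.updateRow_ne hii]
          apply hrel
          intro h'
          exact hi' (Finset.mem_erase.mpr ⟨hii, h'⟩)
    rw [hbot] at hmem
    exact (Submodule.mem_bot R).mp hmem

include hk hS hrel in
lemma A2 (v : ι → R) (i : ι) (hi : i ∈ S) : f ∣ (a.updateRow i v).det := by
  have hmem : (a.updateRow i v).det ∈ Jf (R := R) x k := by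
    refine Ideal.subset_span ⟨a.updateRow i v, S, hS, ?_, rfl⟩
    intro i' hi'
    have hii : i' ≠ i := fun h' => hi' (h' ▸ hi)
    rw [Matrix.updateRow_ne hii]
    exact hrel i' hi'
  rw [hk] at hmem
  exact Ideal.mem_span_singleton.mp hmem

include hk hS hrel in
lemma A3 (v : ι → R) (hv : IsRel x v) (i : ι) : f ∣ (a.updateRow i v).det := by
  have hmem : (a.updateRow i v).det ∈ Jf (R := R) x k := by
    refine Ideal.subset_span ⟨a.updateRow i v, S, hS, ?_, rfl⟩
    intro i' hi'
    by_cases hii : i' = i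
    · rw [hii, Matrix.updateRow_self]
      exact hv
    · rw [Matrix.updateRow_ne hii]
      exact hrel i' hi'
  rw [hk] at hmem
  exact Ideal.mem_span_singleton.mp hmem

include hf hk hk' hS hrel hdet in
/-- every relation is, up to `h`, a combination of the relation rows of `a` -/
lemma Ka (v : ι → R) (hv : IsRel x v) :
    ∃ c : ι → R, (∀ i, i ∈ S → c i = 0) ∧ h • v = ∑ i, c i • a i := by
  classical
  choose d hd using fun i : ι => A3 x k f hk a S hS hrel v hv i
  refine ⟨fun i => if i ∈ S then 0 else d i, fun i hi => if_pos hi, ?_⟩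
  have h1 := cramer_row a v
  rw [hdet] at h1
  have h3 : f • (h • v) = f • ∑ i, (if i ∈ S then 0 else d i) • a i := by
    rw [smul_smul, ← h1, Finset.smul_sum]
    refine Finset.sum_congr rfl (fun i _ => ?_)
    by_cases hi : i ∈ S
    · rw [if_pos hi, A1 x k hk' a S hS hrel v hv i hi, zero_smul, smul_zero]
    · rw [if_neg hi, hd i, smul_smul]
  funext l
  have h4 := congrFun h3 l
  rw [Pi.smul_apply, Pi.smul_apply f, smul_eq_mul, smul_eq_mul] at h4
  exact (mul_cancel_left_mem_nonZeroDivisors hf).mp h4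

include hk hS hrel hdet in
/-- every vector is, up to `h` and modulo the span of the free rows, `f`-torsion modulo relations -/
lemma Qa (v : ι → R) :
    ∃ c : ι → R, (∀ i, i ∉ S → c i = 0) ∧ f • (h • v - ∑ i, c i • a i) ∈ relMod x := by
  classical
  choose d hd using fun j : {i // i ∈ S} => A2 x k f hk a S hS hrel v j j.2
  refine ⟨fun i => if hi : i ∈ S then d ⟨i, hi⟩ else 0, fun i hi => dif_neg hi, ?_⟩
  have h1 := cramer_row a v
  rw [hdet] at h1
  have h2 : f • (h • v - ∑ i, (if hi : i ∈ S then d ⟨i, hi⟩ else 0) • a i) =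
      ∑ i, ((a.updateRow i v).det - f * (if hi : i ∈ S then d ⟨i, hi⟩ else 0)) • a i := by
    rw [smul_sub, smul_smul, ← h1, Finset.smul_sum, ← Finset.sum_sub_distrib]
    refine Finset.sum_congr rfl (fun i _ => ?_)
    rw [sub_smul, smul_smul]
  rw [h2]
  refine Submodule.sum_mem _ (fun i _ => ?_)
  by_cases hi : i ∈ S
  · rw [dif_pos hi, hd ⟨i, hi⟩, sub_self, zero_smul]
    exact Submodule.zero_mem _
  · refine Submodule.smul_mem _ _ ?_
    rw [mem_relMod]
    exact hrel i hi

include hf hdet in
lemma A6 (c : ι → R) (hc : ∑ i, c i • a i = 0) (i : ι) : h * c i = 0 := by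
  have h1 := det_mul_eq_zero_of_sum_eq_zero a c hc i
  rw [hdet, mul_assoc] at h1
  have h2 : f * (h * c i) = f * 0 := by rw [h1, mul_zero]
  exact (mul_cancel_left_mem_nonZeroDivisors hf).mp h2

include hf hk hk' hS hrel hdet in
lemma Qb (c : ι → R) (hc0 : ∀ i, i ∉ S → c i = 0) (hc : f • ∑ i, c i • a i ∈ relMod x) (i : ι) :
    h * h * c i = 0 := by
  classical
  by_cases hi : i ∈ S
  · rw [mem_relMod] at hc
    obtain ⟨b, hb0, hb⟩ := Ka x k f h hf hk hk' a S hS hrel hdet _ hc
    have hC : ∑ i, (h * f * c i - b i) • a i = 0 := by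
      have h1 : ∑ i, (h * f * c i - b i) • a i =
          h • f • ∑ i, c i • a i - ∑ i, b i • a i := by
        rw [Finset.smul_sum, Finset.smul_sum, ← Finset.sum_sub_distrib]
        refine Finset.sum_congr rfl (fun i _ => ?_)
        rw [sub_smul, smul_smul, smul_smul]
      rw [h1, hb, sub_self]
    have h3 := A6 f h hf a hdet _ hC i
    rw [hb0 i hi, sub_zero] at h3
    have h5 : f * (h * h * c i) = f * 0 := by
      rw [mul_zero, ← h3]; ring
    exact (mul_cancel_left_mem_nonZeroDivisors hf).mp h5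
  · rw [hc0 i hi, mul_zero]

end Data

end Groth.Agent.Helper20.FitSplitA
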