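import Mathlib

/-!
# A localized module is free when a finite family generates and is independent up to a
denominator
-/

set_option autoImplicit false

namespace Groth.Agent.Helper20.FitSplitB

variable {R : Type*} [CommRing R] {Q : Type*} [AddCommGroup Q] [Module R Q]

theorem basis_of_approx (T : Submonoid R) (h : R) (hT : h ∈ T) {ι : Type*} [Fintype ι]
    [DecidableEq ι] (S : Finset ι) (Y : ι → Q) (e : ℕ)
    (ha : ∀ q : Q, ∃ c : ι → R, (∀ i, i ∉ S → c i = 0) ∧ h • q = ∑ i, c i • Y i)
    (hb : ∀ c : ι → R, (∀ i, i ∉ S → c i = 0) → ∑ i, c i • Y i = 0 → ∀ i, h ^ e * c i = 0) :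
    Nonempty (Module.Basis ↥S (Localization T) (LocalizedModule T Q)) := by
  classical
  let ℓ := LocalizedModule.mkLinearMap T Q
  let v : ↥S → LocalizedModule T Q := fun j => ℓ (Y j)
  have hli : LinearIndependent (Localization T) v := by
    rw [Fintype.linearIndependent_iff]
    intro g hg j
    obtain ⟨t, ht⟩ := IsLocalization.exist_integer_multiples T (Finset.univ : Finset ↥S) g
    choose c' hc' using fun j : ↥S => ht j (Finset.mem_univ j)
    let C : ι → R := fun i => if hi : i ∈ S then c' ⟨i, hi⟩ else 0
    have hC0 : ∀ i, i ∉ S → C i = 0 := fun i hi => dif_neg hi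
    have hCj : ∀ j : ↥S, C j = c' j := fun j => by
      simp only [C]
      rw [dif_pos j.2]
    have h1 : ℓ (∑ i, C i • Y i) = (t : R) • ∑ j, g j • v j := by
      rw [map_sum, Finset.smul_sum]
      have h2 : ∑ i, ℓ (C i • Y i) = ∑ j : ↥S, ℓ (C j • Y j) := by
        rw [Finset.sum_coe_sort S (fun i => ℓ (C i • Y i))]
        symm
        apply Finset.sum_subset (Finset.subset_univ S)
        intro i _ hi
        rw [hC0 i hi, zero_smul, map_zero]
      rw [h2]
      refine Finset.sum_congr rfl (fun j _ => ?_)
      rw [hCj j, map_smul, ← algebraMap_smul (Localization T) (c' j), hc' j, smul_assoc]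
    rw [hg, smul_zero] at h1
    obtain ⟨t', ht'⟩ := (IsLocalizedModule.eq_zero_iff T ℓ).mp h1
    have h3 : ∑ i, ((t' : R) * C i) • Y i = 0 := by
      rw [← ht', Submonoid.smul_def, Finset.smul_sum]
      refine Finset.sum_congr rfl (fun i _ => ?_)
      rw [smul_smul]
    have h4 := hb (fun i => (t' : R) * C i) (fun i hi => by
      show (t' : R) * C i = 0
      rw [hC0 i hi, mul_zero]) h3 j
    have h5 : algebraMap R (Localization T) (c' j) = 0 := by
      rw [IsLocalization.map_eq_zero_iff T (Localization T)]
      refine ⟨⟨h ^ e, pow_mem hT e⟩ * t', ?_⟩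
      rw [← hCj j, Submonoid.coe_mul, mul_assoc]
      exact h4
    rw [hc' j, Algebra.smul_def] at h5
    exact (IsLocalization.map_units (Localization T) t).mul_right_eq_zero.mp h5
  have hsp : ⊤ ≤ Submodule.span (Localization T) (Set.range v) := by
    rintro z -
    induction z using LocalizedModule.induction_on with
    | h q s =>
      obtain ⟨c, hc0, hc⟩ := ha q
      have h1 : ℓ (h • q) ∈ Submodule.span (Localization T) (Set.range v) := by
        rw [hc, map_sum]
        refine Submodule.sum_mem _ (fun i _ => ?_)
        by_cases hi : i ∈ S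
        · rw [map_smul, ← algebraMap_smul (Localization T) (c i)]
          exact Submodule.smul_mem _ _ (Submodule.subset_span ⟨⟨i, hi⟩, rfl⟩)
        · rw [hc0 i hi, zero_smul, map_zero]
          exact Submodule.zero_mem _
      have hz : LocalizedModule.mk q s =
          Localization.mk 1 (s * ⟨h, hT⟩) • LocalizedModule.mk (h • q) (1 : T) := by
        rw [LocalizedModule.mk_smul_mk, one_smul, mul_one]
        exact (LocalizedModule.mk_cancel_common_right s ⟨h, hT⟩ q).symm
      rw [hz]
      exact Submodule.smul_mem _ _ h1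
  exact ⟨Module.Basis.mk hli hsp⟩

end Groth.Agent.Helper20.FitSplitB
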