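import Mathlib
import Groth.Agent.Lib.Helper10.Fitting
import Groth.Agent.Lib.Helper10.FittingC
import Groth.Agent.Lib.Helper20.FitSplitA
import Groth.Agent.Lib.Helper20.FitSplitB

/-!
# Splitting of a module whose `k`-th Fitting ideal is generated by a nonzerodivisor and whose
`(k-1)`-st Fitting ideal vanishes
-/

set_option autoImplicit false
universe u

namespace Groth.Agent.Helper20.FitSplitC

open Groth.Agent.Lib.Helper10.Fitting CategoryTheory

variable {R : Type u} [CommRing R] (M : Type u) [AddCommGroup M] [Module R M]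

/-- the `f`-torsion submodule -/
abbrev tors (f : R) : Submodule R M := LinearMap.ker (f • (LinearMap.id : M →ₗ[R] M))

lemma mem_tors (f : R) (m : M) : m ∈ tors M f ↔ f • m = 0 := by
  rw [LinearMap.mem_ker, LinearMap.smul_apply, LinearMap.id_apply]

variable {M}
variable {n : ℕ} (x : Fin n → M) (hx : Submodule.span R (Set.range x) = ⊤)

include hx in
lemma pi_surjective : Function.Surjective (Fintype.linearCombination R x) := by
  rw [← LinearMap.range_eq_top, Fintype.range_linearCombination, hx]

lemma pi_eq_zero_iff (v : Fin n → R) : Fintype.linearCombination R x v = 0 ↔ IsRel x v := by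
  rw [Fintype.linearCombination_apply]
  rfl

variable (k : ℕ) (f h : R) (hf0 : f ∈ nonZeroDivisors R)
  (hf : Jf x k = Ideal.span {f}) (hk : k = 0 ∨ Jf (R := R) x (k - 1) = ⊥)
  (a : Matrix (Fin n) (Fin n) R) (S : Finset (Fin n)) (hS : S.card ≤ k)
  (hrel : ∀ i, i ∉ S → IsRel x (a i)) (hdet : a.det = f * h)
  (T : Submonoid R) (hT : h ∈ T)

include hx hf0 hf hk hS hrel hdet hT in
theorem Q_basis :
    Nonempty (Module.Basis ↥S (Localization T) (LocalizedModule T (M ⧸ tors M f))) := by
  classical
  refine FitSplitB.basis_of_approx T h hT S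
    (fun i => Submodule.mkQ (tors M f) (Fintype.linearCombination R x (a i))) 2 ?_ ?_
  · intro q
    obtain ⟨m, rfl⟩ := Submodule.mkQ_surjective _ q
    obtain ⟨v, rfl⟩ := pi_surjective x hx m
    obtain ⟨c, hc0, hc⟩ := FitSplitA.Qa x k f h hf a S hS hrel hdet v
    refine ⟨c, hc0, ?_⟩
    rw [mem_relMod, ← pi_eq_zero_iff, map_smul] at hc
    have h2 : Fintype.linearCombination R x (h • v - ∑ i, c i • a i) ∈ tors M f :=
      (mem_tors M f _).mpr hc
    have h3 : Submodule.mkQ (tors M f)
        (Fintype.linearCombination R x (h • v - ∑ i, c i • a i)) = 0 :=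
      (Submodule.Quotient.mk_eq_zero _).mpr h2
    rw [map_sub, map_sub, sub_eq_zero, map_smul, map_smul, map_sum, map_sum] at h3
    rw [h3]
    refine Finset.sum_congr rfl (fun i _ => ?_)
    rw [map_smul, map_smul]
  · intro c hc0 hc i
    have h1 : Submodule.mkQ (tors M f)
        (Fintype.linearCombination R x (∑ i, c i • a i)) = 0 := by
      rw [map_sum, map_sum, ← hc]
      refine Finset.sum_congr rfl (fun i _ => ?_)
      rw [map_smul, map_smul]
    have h2 : Fintype.linearCombination R x (∑ i, c i • a i) ∈ tors M f :=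
      (Submodule.Quotient.mk_eq_zero _).mp h1
    rw [mem_tors, ← map_smul, pi_eq_zero_iff, ← mem_relMod] at h2
    have h3 := FitSplitA.Qb x k f h hf0 hf hk a S hS hrel hdet c hc0 h2 i
    rw [pow_two]
    exact h3

include hf0 hf hk hS hrel hdet hT in
theorem K_basis :
    Nonempty (Module.Basis ↥(Sᶜ) (Localization T)
      (LocalizedModule T ↥(LinearMap.ker (Fintype.linearCombination R x)))) := by
  classical
  refine FitSplitB.basis_of_approx T h hT Sᶜ
    (fun i => if hi : i ∉ S then
      (⟨a i, LinearMap.mem_ker.mpr ((pi_eq_zero_iff x _).mpr (hrel i hi))⟩ :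
        ↥(LinearMap.ker (Fintype.linearCombination R x))) else 0) 1 ?_ ?_
  · intro q
    obtain ⟨c, hc0, hc⟩ := FitSplitA.Ka x k f h hf0 hf hk a S hS hrel hdet q.1
      ((pi_eq_zero_iff x _).mp (LinearMap.mem_ker.mp q.2))
    refine ⟨c, fun i hi => hc0 i (by simpa using hi), ?_⟩
    apply Subtype.ext
    rw [Submodule.coe_smul, hc, Submodule.coe_sum]
    refine Finset.sum_congr rfl (fun i _ => ?_)
    rw [Submodule.coe_smul]
    by_cases hi : i ∈ S
    · rw [hc0 i hi, zero_smul, zero_smul]
    · rw [dif_pos hi]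
  · intro c hc0 hc i
    have h1 : ∑ i, c i • a i = 0 := by
      have h2 := congrArg Subtype.val hc
      rw [Submodule.coe_sum, Submodule.coe_zero] at h2
      rw [← h2]
      refine Finset.sum_congr rfl (fun i _ => ?_)
      rw [Submodule.coe_smul]
      by_cases hi : i ∈ S
      · rw [hc0 i (by simpa using hi), zero_smul, zero_smul]
      · rw [dif_pos hi]
    have h3 := FitSplitA.A6 f h hf0 a hdet c h1 i
    rw [pow_one]
    exact h3

end Groth.Agent.Helper20.FitSplitC
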