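import Mathlib
import Groth.Agent.Lib.Helper20.FitSplitC

/-!
# Main splitting theorem for Fitting ideals
-/

set_option autoImplicit false
universe u

namespace Groth.Agent.Helper20.FitSplitD

open Groth.Agent.Lib.Helper10.Fitting CategoryTheory Groth.Agent.Helper20.FitSplitC

variable {R : Type u} [CommRing R] (M : Type u) [AddCommGroup M] [Module R M]
  [Module.FinitePresentation R M]
  {n : ℕ} (x : Fin n → M) (hx : Submodule.span R (Set.range x) = ⊤)
  (k : ℕ) (f : R) (hf0 : f ∈ nonZeroDivisors R)
  (hf : Jf x k = Ideal.span {f}) (hk : k = 0 ∨ Jf (R := R) x (k - 1) = ⊥)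

include hf0 hf hk in
lemma exists_good (p : Ideal R) [hp : p.IsPrime] :
    ∃ h, h ∉ p ∧ ∃ (a : Matrix (Fin n) (Fin n) R) (S : Finset (Fin n)), S.card = k ∧
      (∀ i, i ∉ S → IsRel x (a i)) ∧ a.det = f * h := by
  classical
  by_contra hcon
  push Not at hcon
  have hle : Jf x k ≤ Ideal.span {f} * p := by
    refine Ideal.span_le.mpr ?_
    rintro d ⟨a, S, hS, hrel, rfl⟩
    have hd : a.det ∈ Ideal.span {f} := by
      rw [← hf]
      exact Ideal.subset_span ⟨a, S, hS, hrel, rfl⟩
    obtain ⟨h, hh⟩ := Ideal.mem_span_singleton'.mp hd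
    have hdet : a.det = f * h := by rw [← hh, mul_comm]
    have hhp : h ∈ p := by
      by_contra hnp
      have hcard : S.card = k := by
        rcases hk with h0 | hbot
        · omega
        · by_contra hne
          have hlt : S.card ≤ k - 1 := by omega
          have h1 : a.det ∈ Jf (R := R) x (k - 1) := Ideal.subset_span ⟨a, S, hlt, hrel, rfl⟩
          rw [hbot, Submodule.mem_bot, hdet] at h1
          have h2 : h = 0 :=
            (mul_cancel_left_mem_nonZeroDivisors hf0).mp (by rw [h1, mul_zero])
          exact hnp (h2 ▸ p.zero_mem)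
      exact hcon h hnp a S hcard hrel hdet
    rw [SetLike.mem_coe, hdet]
    exact Ideal.mul_mem_mul (Ideal.mem_span_singleton_self f) hhp
  have hfmem : f ∈ Ideal.span {f} * p := hle (by rw [hf]; exact Ideal.mem_span_singleton_self f)
  obtain ⟨r, hr, hfr⟩ := Ideal.mem_span_singleton_mul.mp hfmem
  have h1 : r = 1 := (mul_cancel_left_mem_nonZeroDivisors hf0).mp (by rw [hfr, mul_one])
  exact hp.ne_top ((Ideal.eq_top_iff_one p).mpr (h1 ▸ hr))

include hx hf0 hf hk in
theorem main :
    HasProjectiveDimensionLT (ModuleCat.of R M) 2 ∧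
    (∀ y : M, (∃ N : ℕ, f ^ N • y = 0) ↔ f • y = 0) ∧
    HasProjectiveDimensionLT (ModuleCat.of R ↥(tors M f)) 2 ∧
    (∀ (p : Ideal R) [p.IsPrime], ∃ g : R, g ∉ p ∧
      Module.Free (Localization.Away g) (LocalizedModule (Submonoid.powers g) (M ⧸ tors M f)) ∧
      Module.finrank (Localization.Away g)
        (LocalizedModule (Submonoid.powers g) (M ⧸ tors M f)) = k) ∧
    Nonempty (M ≃ₗ[R] (M ⧸ tors M f) × ↥(tors M f)) := by
  classical
  have hπ := pi_surjective x hx
  have hgood : ∀ (p : Ideal R), p.IsPrime → ∃ h, h ∉ p ∧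
      ∃ (a : Matrix (Fin n) (Fin n) R) (S : Finset (Fin n)), S.card = k ∧
        (∀ i, i ∉ S → IsRel x (a i)) ∧ a.det = f * h := fun p hp => by
    haveI := hp
    exact exists_good M x k f hf0 hf hk p
  let G : Set R := {h | ∃ (a : Matrix (Fin n) (Fin n) R) (S : Finset (Fin n)), S.card = k ∧
      (∀ i, i ∉ S → IsRel x (a i)) ∧ a.det = f * h}
  have hGspan : Ideal.span G = ⊤ := by
    by_contra hne
    obtain ⟨m, hm, hle⟩ := Ideal.exists_le_maximal _ hne
    obtain ⟨h, hh, hg⟩ := hgood m hm.isPrime
    exact hh (hle (Ideal.subset_span hg))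
  haveI hKfin : Module.Finite R ↥(LinearMap.ker (Fintype.linearCombination R x)) :=
    Module.Finite.iff_fg.mpr (Module.FinitePresentation.fg_ker _ hπ)
  haveI hQfp : Module.FinitePresentation R (M ⧸ tors M f) := by
    refine Module.FinitePresentation.of_localizationSpan G hGspan (fun g => ?_)
    obtain ⟨a, S, hS, hrel, hdet⟩ := g.2
    obtain ⟨b⟩ := Q_basis x hx k f g.1 hf0 hf hk a S hS.le hrel hdet (Submonoid.powers g.1)
      (Submonoid.mem_powers g.1)
    haveI : Module.Free (Localization.Away g.1) (LocalizedModule.Away g.1 (M ⧸ tors M f)) :=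
      Module.Free.of_basis b
    haveI : Module.Finite (Localization.Away g.1) (LocalizedModule.Away g.1 (M ⧸ tors M f)) :=
      Module.Finite.of_basis b
    exact Module.finitePresentation_of_projective _ _
  haveI hKfp : Module.FinitePresentation R ↥(LinearMap.ker (Fintype.linearCombination R x)) := by
    refine Module.FinitePresentation.of_localizationSpan G hGspan (fun g => ?_)
    obtain ⟨a, S, hS, hrel, hdet⟩ := g.2
    obtain ⟨b⟩ := K_basis x k f g.1 hf0 hf hk a S hS.le hrel hdet (Submonoid.powers g.1)
      (Submonoid.mem_powers g.1)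
    haveI : Module.Free (Localization.Away g.1)
        (LocalizedModule.Away g.1 ↥(LinearMap.ker (Fintype.linearCombination R x))) :=
      Module.Free.of_basis b
    haveI : Module.Finite (Localization.Away g.1)
        (LocalizedModule.Away g.1 ↥(LinearMap.ker (Fintype.linearCombination R x))) :=
      Module.Finite.of_basis b
    exact Module.finitePresentation_of_projective _ _
  haveI hQproj : Module.Projective R (M ⧸ tors M f) := by
    apply Module.projective_of_localization_maximal
    intro I hI
    obtain ⟨h, hh, a, S, hS, hrel, hdet⟩ := hgood I hI.isPrime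
    haveI := hI.isPrime
    obtain ⟨b⟩ := Q_basis x hx k f h hf0 hf hk a S hS.le hrel hdet I.primeCompl hh
    haveI : Module.Free (Localization.AtPrime I) (LocalizedModule I.primeCompl (M ⧸ tors M f)) :=
      Module.Free.of_basis b
    infer_instance
  haveI hKproj : Module.Projective R ↥(LinearMap.ker (Fintype.linearCombination R x)) := by
    apply Module.projective_of_localization_maximal
    intro I hI
    obtain ⟨h, hh, a, S, hS, hrel, hdet⟩ := hgood I hI.isPrime
    haveI := hI.isPrime
    obtain ⟨b⟩ := K_basis x k f h hf0 hf hk a S hS.le hrel hdet I.primeCompl hh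
    haveI : Module.Free (Localization.AtPrime I)
        (LocalizedModule I.primeCompl ↥(LinearMap.ker (Fintype.linearCombination R x))) :=
      Module.Free.of_basis b
    infer_instance
  -- projective dimension of `M`
  have hP1 : HasProjectiveDimensionLT (ModuleCat.of R M) 2 := by
    have hSE := LinearMap.shortExact_shortComplexKer hπ
    have hproj2 : Projective (Fintype.linearCombination R x).shortComplexKer.X₂ :=
      (IsProjective.iff_projective (R := R) (Fin n → R)).mp inferInstance
    have h1 : HasProjectiveDimensionLT (Fintype.linearCombination R x).shortComplexKer.X₁ 1 := by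
      haveI : Projective (Fintype.linearCombination R x).shortComplexKer.X₁ :=
        (IsProjective.iff_projective (R := R)
          ↥(LinearMap.ker (Fintype.linearCombination R x))).mp hKproj
      infer_instance
    exact (hSE.hasProjectiveDimensionLT_X₃_iff 0 hproj2).mpr h1
  -- the splitting
  obtain ⟨s, hs⟩ := Module.projective_lifting_property (Submodule.mkQ (tors M f)) LinearMap.id
    (Submodule.mkQ_surjective (tors M f))
  have hs' : ∀ q, Submodule.mkQ (tors M f) (s q) = q := fun q => LinearMap.congr_fun hs q
  let r : M →ₗ[R] ↥(tors M f) := LinearMap.codRestrict (tors M f)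
    (LinearMap.id - s.comp (Submodule.mkQ (tors M f))) (fun m =>
      (Submodule.Quotient.mk_eq_zero (tors M f)).mp (by
        show Submodule.mkQ (tors M f)
          ((LinearMap.id - s.comp (Submodule.mkQ (tors M f)) : M →ₗ[R] M) m) = 0
        rw [LinearMap.sub_apply, LinearMap.id_apply, LinearMap.comp_apply, map_sub, hs',
          sub_self]))
  have hrv : ∀ m : M, ((r m : ↥(tors M f)) : M) = m - s (Submodule.mkQ (tors M f) m) :=
    fun m => rfl
  have hr : ∀ m' : ↥(tors M f), r m'.1 = m' := by
    intro m'
    apply Subtype.ext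
    rw [hrv]
    have h0 : Submodule.mkQ (tors M f) m'.1 = 0 := (Submodule.Quotient.mk_eq_zero _).mpr m'.2
    rw [h0, map_zero, sub_zero]
  have hrs : ∀ q, r (s q) = 0 := by
    intro q
    apply Subtype.ext
    rw [hrv, hs', sub_self]
    rfl
  refine ⟨hP1, ?_, ?_, ?_, ?_⟩
  · intro y
    constructor
    · rintro ⟨N, hN⟩
      have hreg : IsSMulRegular (M ⧸ tors M f) (f ^ N) :=
        Module.Flat.isSMulRegular_of_nonZeroDivisors (pow_mem hf0 N)
      have h1 : f ^ N • Submodule.mkQ (tors M f) y = f ^ N • (0 : M ⧸ tors M f) := by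
        rw [← map_smul, hN, map_zero, smul_zero]
      have h2 := hreg h1
      exact (mem_tors M f y).mp ((Submodule.Quotient.mk_eq_zero _).mp h2)
    · intro hy
      exact ⟨1, by rw [pow_one]; exact hy⟩
  · let ret : Retract (ModuleCat.of R ↥(tors M f)) (ModuleCat.of R M) :=
      { i := ModuleCat.ofHom (tors M f).subtype
        r := ModuleCat.ofHom r
        retract := by
          apply ModuleCat.hom_ext
          apply LinearMap.ext
          intro m'
          simp only [ModuleCat.hom_comp, ModuleCat.hom_ofHom, ModuleCat.hom_id,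
            LinearMap.comp_apply, Submodule.subtype_apply, LinearMap.id_apply]
          exact hr m' }
    haveI := hP1
    exact ret.hasProjectiveDimensionLT 2
  · intro p hp
    obtain ⟨h, hh, a, S, hS, hrel, hdet⟩ := hgood p hp
    obtain ⟨b⟩ := Q_basis x hx k f h hf0 hf hk a S hS.le hrel hdet (Submonoid.powers h)
      (Submonoid.mem_powers h)
    refine ⟨h, hh, Module.Free.of_basis b, ?_⟩
    haveI : Nontrivial (Localization.Away h) := by
      have h0 : (0 : R) ∉ Submonoid.powers h := by
        rintro ⟨m, hm⟩
        have hm' : h ^ m = 0 := hm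
        exact hh (hp.mem_of_pow_mem m (by
          rw [hm']
          exact p.zero_mem))
      exact not_subsingleton_iff_nontrivial.mp (fun hsub =>
        h0 ((IsLocalization.subsingleton_iff (M := Submonoid.powers h)
          (S := Localization.Away h)).mp hsub))
    rw [Module.finrank_eq_card_basis b, Fintype.card_coe, hS]
  · refine ⟨LinearEquiv.ofLinearMap ((Submodule.mkQ (tors M f)).prod r)
      (s.coprod (tors M f).subtype) ?_ ?_⟩
    · apply LinearMap.ext
      rintro ⟨q, m'⟩
      apply Prod.ext
      · show Submodule.mkQ (tors M f) (s q + m'.1) = q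
        have h0 : Submodule.mkQ (tors M f) m'.1 = 0 := (Submodule.Quotient.mk_eq_zero _).mpr m'.2
        rw [map_add, hs', h0, add_zero]
      · show r (s q + m'.1) = m'
        rw [map_add, hrs, hr, zero_add]
    · apply LinearMap.ext
      intro m
      show s (Submodule.mkQ (tors M f) m) + ((r m : ↥(tors M f)) : M) = m
      rw [hrv, add_sub_cancel]

end Groth.Agent.Helper20.FitSplitD
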