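import Mathlib

set_option autoImplicit false
universe u v

namespace Groth.Agent.Helper20.FonLaf

open Module

section semilinear
variable {R : Type*} [Ring R] {R₂ : Type*} [Ring R₂] {σ : R →+* R₂} [RingHomSurjective σ]
  {M : Type*} [AddCommGroup M] [Module R M] {M₂ : Type*} [AddCommGroup M₂] [Module R₂ M₂]

theorem length_eq_of_semilinear_bijective (f : M →ₛₗ[σ] M₂) (hf : Function.Bijective f) :
    Module.length R M = Module.length R₂ M₂ := by
  rw [Module.length, Module.length, WithBot.unbot_inj,
    Order.krullDim_eq_of_orderIso (Submodule.orderIsoMapComapOfBijective f hf)]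

theorem length_eq_add_of_semilinear_surjective (f : M →ₛₗ[σ] M₂) (hf : Function.Surjective f) :
    Module.length R M = Module.length R (LinearMap.ker f) + Module.length R₂ M₂ := by
  have h1 := Module.length_eq_add_of_exact (LinearMap.ker f).subtype (LinearMap.ker f).mkQ
    (Submodule.subtype_injective _) (Submodule.mkQ_surjective _) (LinearMap.exact_subtype_mkQ _)
  rw [h1]
  congr 1
  refine length_eq_of_semilinear_bijective ((LinearMap.ker f).liftQ f le_rfl) ⟨?_, ?_⟩
  · rw [← LinearMap.ker_eq_bot, Submodule.ker_liftQ_eq_bot _ _ _ le_rfl]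
  · rw [← LinearMap.range_eq_top, Submodule.range_liftQ, LinearMap.range_eq_top]
    exact hf

end semilinear

section data

variable {R : Type u} [CommRing R] (σ : R →+* R) (c : R)
  (r : ℕ) (N : ℕ → Type v) [∀ i, AddCommGroup (N i)] [∀ i, Module R (N i)]
  (α : ∀ i, N (i + 1) →ₗ[R] N i) (φ : ∀ i, N i →ₛₗ[σ] N 0)

/-- Tuples `(y_i)` vanishing above `r`. -/
def Tsub : Submodule R ((i : ℕ) → N i) where
  carrier := {y | ∀ i, r < i → y i = 0}
  add_mem' := by
    intro a b ha hb i hi
    simp [ha i hi, hb i hi]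
  zero_mem' := by
    intro i _
    rfl
  smul_mem' := by
    intro a y hy i hi
    simp [hy i hi]

/-- Tuples `(z_i)`, `z_i ∈ N (i+1)`, vanishing from `r` on. -/
def Ssub : Submodule R ((i : ℕ) → N (i + 1)) where
  carrier := {z | ∀ i, r ≤ i → z i = 0}
  add_mem' := by
    intro a b ha hb i hi
    simp [ha i hi, hb i hi]
  zero_mem' := by
    intro i _
    rfl
  smul_mem' := by
    intro a y hy i hi
    simp [hy i hi]

theorem mem_Tsub {y : (i : ℕ) → N i} : y ∈ Tsub (R := R) r N ↔ ∀ i, r < i → y i = 0 := Iff.rfl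

theorem mem_Ssub {z : (i : ℕ) → N (i + 1)} :
    z ∈ Ssub (R := R) r N ↔ ∀ i, r ≤ i → z i = 0 := Iff.rfl

/-- The glued map `Φ`. -/
noncomputable def Phi : Tsub (R := R) r N →ₛₗ[σ] N 0 :=
  (Finset.range (r + 1)).sum fun i =>
    (φ i).comp ((LinearMap.proj (R := R) (φ := N) i).comp (Tsub (R := R) r N).subtype)

theorem Phi_apply (y : Tsub (R := R) r N) :
    Phi σ r N φ y = (Finset.range (r + 1)).sum fun i => φ i (y.1 i) := by
  simp [Phi, LinearMap.sum_apply]

/-- The map `ι` on full tuples. -/
noncomputable def iota0 : ((i : ℕ) → N (i + 1)) →ₗ[R] ((i : ℕ) → N i) :=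
  LinearMap.pi fun i =>
    match i with
    | 0 => (α 0).comp (LinearMap.proj 0)
    | j + 1 => (α (j + 1)).comp (LinearMap.proj (j + 1)) - c • LinearMap.proj j

theorem iota0_zero (z : (i : ℕ) → N (i + 1)) : iota0 c N α z 0 = α 0 (z 0) := rfl

theorem iota0_succ (z : (i : ℕ) → N (i + 1)) (j : ℕ) :
    iota0 c N α z (j + 1) = α (j + 1) (z (j + 1)) - c • z j := rfl

theorem iota0_mem (z : (i : ℕ) → N (i + 1)) (hz : z ∈ Ssub (R := R) r N) :
    iota0 c N α z ∈ Tsub (R := R) r N := by
  intro i hi
  cases i with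
  | zero => omega
  | succ j =>
    rw [iota0_succ, hz (j + 1) (by omega), hz j (by omega)]
    simp

/-- The map `ι`. -/
noncomputable def iota : Ssub (R := R) r N →ₗ[R] Tsub (R := R) r N :=
  (iota0 c N α).restrict (iota0_mem c r N α)

/-- shift -/
noncomputable def shift0 : ((i : ℕ) → N (i + 1)) →ₗ[R] ((i : ℕ) → N i) :=
  LinearMap.pi fun i =>
    match i with
    | 0 => 0
    | j + 1 => LinearMap.proj j

theorem shift0_zero (z : (i : ℕ) → N (i + 1)) : shift0 (R := R) N z 0 = 0 := rfl

theorem shift0_succ (z : (i : ℕ) → N (i + 1)) (j : ℕ) :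
    shift0 (R := R) N z (j + 1) = z j := rfl

theorem shift0_mem (z : (i : ℕ) → N (i + 1)) (hz : z ∈ Ssub (R := R) r N) :
    shift0 (R := R) N z ∈ Tsub (R := R) r N := by
  intro i hi
  cases i with
  | zero => rfl
  | succ j => rw [shift0_succ, hz j (by omega)]

noncomputable def shift : Ssub (R := R) r N →ₗ[R] Tsub (R := R) r N :=
  (shift0 (R := R) N).restrict (shift0_mem r N)

noncomputable def head : Tsub (R := R) r N →ₗ[R] N 0 :=
  (LinearMap.proj (R := R) (φ := N) 0).comp (Tsub (R := R) r N).subtype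

theorem shift_injective : Function.Injective (shift (R := R) r N) := by
  intro a b hab
  apply Subtype.ext
  funext j
  have := congrArg (fun t : Tsub (R := R) r N => t.1 (j + 1)) hab
  exact this

theorem head_surjective : Function.Surjective (head (R := R) r N) := by
  intro a
  refine ⟨⟨Pi.single 0 a, ?_⟩, ?_⟩
  · intro i hi
    rw [Pi.single_eq_of_ne (by omega)]
  · simp [head]

theorem shift_head_exact : Function.Exact (shift (R := R) r N) (head (R := R) r N) := by
  intro y
  constructor
  · intro hy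
    refine ⟨⟨fun j => y.1 (j + 1), fun j hj => y.2 (j + 1) (by omega)⟩, ?_⟩
    apply Subtype.ext
    funext i
    cases i with
    | zero => exact hy.symm
    | succ j => rfl
  · rintro ⟨z, rfl⟩
    rfl

theorem length_Tsub :
    Module.length R (Tsub (R := R) r N) =
      Module.length R (Ssub (R := R) r N) + Module.length R (N 0) :=
  Module.length_eq_add_of_exact _ _ (shift_injective r N) (head_surjective r N)
    (shift_head_exact r N)

theorem isFiniteLength_Ssub (hfl : ∀ i, IsFiniteLength R (N i)) :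
    IsFiniteLength R (Ssub (R := R) r N) := by
  have h1 : IsFiniteLength R ((i : Fin r) → N (i.1 + 1)) := by
    rw [isFiniteLength_iff_isNoetherian_isArtinian]
    have hN : ∀ i, IsNoetherian R (N i) := fun i =>
      (isFiniteLength_iff_isNoetherian_isArtinian.mp (hfl i)).1
    have hA : ∀ i, IsArtinian R (N i) := fun i =>
      (isFiniteLength_iff_isNoetherian_isArtinian.mp (hfl i)).2
    exact ⟨inferInstance, inferInstance⟩
  let ρ : Ssub (R := R) r N →ₗ[R] ((i : Fin r) → N (i.1 + 1)) :=
    LinearMap.pi fun i => (LinearMap.proj (R := R) (φ := fun j => N (j + 1)) i.1).comp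
      (Ssub (R := R) r N).subtype
  refine h1.of_injective (f := ρ) ?_
  intro a b hab
  apply Subtype.ext
  funext j
  by_cases hj : j < r
  · exact congrFun hab ⟨j, hj⟩
  · rw [a.2 j (by omega), b.2 j (by omega)]

end data

end Groth.Agent.Helper20.FonLaf
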