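import Groth.Agent.Lib.Helper20.FonLaf1

set_option autoImplicit false
universe u v

namespace Groth.Agent.Helper20.FonLaf

open Module

section data

variable {R : Type u} [CommRing R] (σ : R →+* R) [RingHomSurjective σ] (c : R)
  (r : ℕ) (N : ℕ → Type v) [∀ i, AddCommGroup (N i)] [∀ i, Module R (N i)]
  (α : ∀ i, N (i + 1) →ₗ[R] N i) (φ : ∀ i, N i →ₛₗ[σ] N 0)

include σ φ in
theorem iota_injective (hfl : ∀ i, IsFiniteLength R (N i))
    (hsurj : ∀ m : N 0, ∃ y : (i : ℕ) → N i, (∀ i, r < i → y i = 0) ∧
      (Finset.range (r + 1)).sum (fun i => φ i (y i)) = m)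
    (hker : ∀ y : (i : ℕ) → N i, (∀ i, r < i → y i = 0) →
      (Finset.range (r + 1)).sum (fun i => φ i (y i)) = 0 →
        ∃ z : (i : ℕ) → N (i + 1), (∀ i, r ≤ i → z i = 0) ∧
          y 0 = α 0 (z 0) ∧ ∀ i, y (i + 1) = α (i + 1) (z (i + 1)) - c • z i) :
    Function.Injective (iota c r N α) := by
  have hS := isFiniteLength_Ssub r N hfl
  have hS' : Module.length R (Ssub (R := R) r N) ≠ ⊤ := Module.length_ne_top_iff.mpr hS
  have hN0 : Module.length R (N 0) ≠ ⊤ := Module.length_ne_top_iff.mpr (hfl 0)
  have hΦsurj : Function.Surjective (Phi σ r N φ) := by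
    intro m
    obtain ⟨y, hy, hm⟩ := hsurj m
    exact ⟨⟨y, hy⟩, by rw [Phi_apply]; exact hm⟩
  have h1 := length_eq_add_of_semilinear_surjective (Phi σ r N φ) hΦsurj
  rw [length_Tsub] at h1
  have h2 : Module.length R (Ssub (R := R) r N) =
      Module.length R (LinearMap.ker (Phi σ r N φ)) := ENat.add_left_injective_of_ne_top hN0 h1
  have hle : LinearMap.ker (Phi σ r N φ) ≤ LinearMap.range (iota c r N α) := by
    intro y hy
    rw [LinearMap.mem_ker, Phi_apply] at hy
    obtain ⟨z, hz, h0, hs⟩ := hker y.1 y.2 hy
    refine ⟨⟨z, hz⟩, ?_⟩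
    apply Subtype.ext
    funext i
    cases i with
    | zero => exact h0.symm
    | succ j => exact (hs j).symm
  have h3 : Module.length R (LinearMap.ker (Phi σ r N φ)) ≤
      Module.length R (LinearMap.range (iota c r N α)) :=
    Module.length_le_of_injective (Submodule.inclusion hle) (Submodule.inclusion_injective hle)
  have hex : Function.Exact (LinearMap.ker (iota c r N α)).subtype
      (iota c r N α).rangeRestrict := by
    intro z
    rw [Submodule.coe_subtype, Subtype.range_coe_subtype]
    constructor
    · intro h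
      exact congrArg Subtype.val h
    · intro h
      apply Subtype.ext
      exact h
  have h4 : Module.length R (Ssub (R := R) r N) =
      Module.length R (LinearMap.ker (iota c r N α)) +
        Module.length R (LinearMap.range (iota c r N α)) :=
    Module.length_eq_add_of_exact _ _ (Submodule.subtype_injective _)
      (LinearMap.surjective_rangeRestrict _) hex
  have h5 : Module.length R (LinearMap.range (iota c r N α)) ≠ ⊤ := by
    intro h
    rw [h, add_top] at h4
    exact hS' h4
  have h6 : Module.length R (LinearMap.ker (iota c r N α)) = 0 := by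
    have : Module.length R (LinearMap.ker (iota c r N α)) +
        Module.length R (LinearMap.range (iota c r N α)) ≤
        0 + Module.length R (LinearMap.range (iota c r N α)) := by
      rw [← h4, h2, zero_add]
      exact h3
    have := (ENat.add_le_add_iff_right h5).mp this
    exact le_antisymm this zero_le
  rw [Module.length_eq_zero_iff] at h6
  rw [← LinearMap.ker_eq_bot]
  exact Submodule.eq_bot_of_subsingleton

include σ φ in
/-- Interface form: `α i x = 0` and `c • x = 0` imply `x = 0` for `i < r`. -/
theorem eq_zero_of_map_eq_zero_of_smul_eq_zero (hfl : ∀ i, IsFiniteLength R (N i))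
    (hsurj : ∀ m : N 0, ∃ y : (i : ℕ) → N i, (∀ i, r < i → y i = 0) ∧
      (Finset.range (r + 1)).sum (fun i => φ i (y i)) = m)
    (hker : ∀ y : (i : ℕ) → N i, (∀ i, r < i → y i = 0) →
      (Finset.range (r + 1)).sum (fun i => φ i (y i)) = 0 →
        ∃ z : (i : ℕ) → N (i + 1), (∀ i, r ≤ i → z i = 0) ∧
          y 0 = α 0 (z 0) ∧ ∀ i, y (i + 1) = α (i + 1) (z (i + 1)) - c • z i)
    (i : ℕ) (hi : i < r) (x : N (i + 1)) (h1 : α i x = 0) (h2 : c • x = 0) : x = 0 := by
  have hinj := iota_injective σ c r N α φ hfl hsurj hker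
  have hz : (Pi.single i x : (j : ℕ) → N (j + 1)) ∈ Ssub (R := R) r N := by
    intro j hj
    rw [Pi.single_eq_of_ne (by omega)]
  have h0 : iota c r N α ⟨Pi.single i x, hz⟩ = 0 := by
    apply Subtype.ext
    funext j
    change iota0 c N α (Pi.single i x) j = 0
    cases j with
    | zero =>
      rw [iota0_zero]
      by_cases h : i = 0
      · subst h
        rw [Pi.single_eq_same, h1]
      · rw [Pi.single_eq_of_ne (Ne.symm h), map_zero]
    | succ j =>
      rw [iota0_succ]
      by_cases h : i = j + 1
      · subst h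
        rw [Pi.single_eq_same, h1, Pi.single_eq_of_ne (by omega), smul_zero, sub_zero]
      · rw [Pi.single_eq_of_ne (Ne.symm h), map_zero]
        by_cases h' : i = j
        · subst h'
          rw [Pi.single_eq_same, h2, sub_zero]
        · rw [Pi.single_eq_of_ne (Ne.symm h'), smul_zero, sub_zero]
  have := hinj (h0.trans (map_zero _).symm)
  have h7 := congrArg (fun s : Ssub (R := R) r N => s.1 i) this
  simpa using h7

end data

end Groth.Agent.Helper20.FonLaf
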