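import Groth.Agent.Lib.Helper20.FonLaf2

set_option autoImplicit false
universe u v

namespace Groth.Agent.Helper20.FonLaf

open Module

section mult
variable {R : Type u} [CommRing R] (d : R) (M : Type v) [AddCommGroup M] [Module R M]

/-- The submodule `d M`. -/
def mult : Submodule R M := LinearMap.range (d • (LinearMap.id : M →ₗ[R] M))

variable {d M}
theorem mem_mult {x : M} : x ∈ mult d M ↔ ∃ y : M, d • y = x := by
  simp [mult, LinearMap.mem_range]

theorem smul_mem_mult (y : M) : d • y ∈ mult d M := mem_mult.mpr ⟨y, rfl⟩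

end mult

section data

variable {R : Type u} [CommRing R] (σ : R →+* R) [RingHomSurjective σ] (c d : R) (hd : σ d = d)
  (r : ℕ) (N : ℕ → Type v) [∀ i, AddCommGroup (N i)] [∀ i, Module R (N i)]
  (α : ∀ i, N (i + 1) →ₗ[R] N i) (φ : ∀ i, N i →ₛₗ[σ] N 0)

/-- quotient datum: `α` -/
noncomputable def αq (i : ℕ) : (N (i + 1) ⧸ mult d (N (i + 1))) →ₗ[R] (N i ⧸ mult d (N i)) :=
  (mult d (N (i + 1))).mapQ (mult d (N i)) (α i) (by
    intro x hx
    obtain ⟨y, rfl⟩ := mem_mult.mp hx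
    rw [Submodule.mem_comap, map_smul]
    exact smul_mem_mult _)

omit [RingHomSurjective σ] in
include hd in
theorem φq_aux (i : ℕ) : mult d (N i) ≤ (mult d (N 0)).comap (φ i) := by
  intro x hx
  obtain ⟨y, rfl⟩ := mem_mult.mp hx
  rw [Submodule.mem_comap, map_smulₛₗ, hd]
  exact smul_mem_mult _

/-- quotient datum: `φ` -/
noncomputable def φq (i : ℕ) : (N i ⧸ mult d (N i)) →ₛₗ[σ] (N 0 ⧸ mult d (N 0)) :=
  (mult d (N i)).mapQ (mult d (N 0)) (φ i) (φq_aux σ d hd N φ i)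

theorem αq_mk (i : ℕ) (x : N (i + 1)) :
    αq d N α i ((mult d (N (i + 1))).mkQ x) = (mult d (N i)).mkQ (α i x) := rfl

omit [RingHomSurjective σ] in
theorem φq_mk (i : ℕ) (x : N i) :
    φq σ d hd N φ i ((mult d (N i)).mkQ x) = (mult d (N 0)).mkQ (φ i x) := rfl

omit [RingHomSurjective σ] in
include hd in
theorem hsurj_q
    (hsurj : ∀ m : N 0, ∃ y : (i : ℕ) → N i, (∀ i, r < i → y i = 0) ∧
      (Finset.range (r + 1)).sum (fun i => φ i (y i)) = m) :
    ∀ m : N 0 ⧸ mult d (N 0), ∃ y : (i : ℕ) → N i ⧸ mult d (N i), (∀ i, r < i → y i = 0) ∧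
      (Finset.range (r + 1)).sum (fun i => φq σ d hd N φ i (y i)) = m := by
  intro m'
  obtain ⟨m, rfl⟩ := Submodule.mkQ_surjective _ m'
  obtain ⟨y, hy, hm⟩ := hsurj m
  refine ⟨fun i => (mult d (N i)).mkQ (y i), ?_, ?_⟩
  · intro i hi
    change (mult d (N i)).mkQ (y i) = 0
    rw [hy i hi, map_zero]
  · rw [← hm, map_sum]
    rfl

omit [RingHomSurjective σ] in
include hd in
theorem hker_q
    (hsurj : ∀ m : N 0, ∃ y : (i : ℕ) → N i, (∀ i, r < i → y i = 0) ∧
      (Finset.range (r + 1)).sum (fun i => φ i (y i)) = m)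
    (hker : ∀ y : (i : ℕ) → N i, (∀ i, r < i → y i = 0) →
      (Finset.range (r + 1)).sum (fun i => φ i (y i)) = 0 →
        ∃ z : (i : ℕ) → N (i + 1), (∀ i, r ≤ i → z i = 0) ∧
          y 0 = α 0 (z 0) ∧ ∀ i, y (i + 1) = α (i + 1) (z (i + 1)) - c • z i) :
    ∀ y : (i : ℕ) → N i ⧸ mult d (N i), (∀ i, r < i → y i = 0) →
      (Finset.range (r + 1)).sum (fun i => φq σ d hd N φ i (y i)) = 0 →
        ∃ z : (i : ℕ) → N (i + 1) ⧸ mult d (N (i + 1)), (∀ i, r ≤ i → z i = 0) ∧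
          y 0 = αq d N α 0 (z 0) ∧
            ∀ i, y (i + 1) = αq d N α (i + 1) (z (i + 1)) - c • z i := by
  intro y' hy' hsum
  classical
  let y : (i : ℕ) → N i := fun i =>
    if r < i then 0 else Classical.choose (Submodule.mkQ_surjective (mult d (N i)) (y' i))
  have hy : ∀ i, (mult d (N i)).mkQ (y i) = y' i := by
    intro i
    by_cases h : r < i
    · simp only [y, if_pos h, map_zero]
      exact (hy' i h).symm
    · simp only [y, if_neg h]
      exact Classical.choose_spec (Submodule.mkQ_surjective (mult d (N i)) (y' i))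
  have hy0 : ∀ i, r < i → y i = 0 := by
    intro i h
    simp only [y, if_pos h]
  have h1 : (mult d (N 0)).mkQ ((Finset.range (r + 1)).sum (fun i => φ i (y i))) = 0 := by
    rw [map_sum, ← hsum]
    refine Finset.sum_congr rfl fun i _ => ?_
    rw [← hy i]
    rfl
  rw [Submodule.mkQ_apply, Submodule.Quotient.mk_eq_zero] at h1
  obtain ⟨m, hm⟩ := mem_mult.mp h1
  obtain ⟨w, hw0, hw⟩ := hsurj m
  obtain ⟨z, hz0, hz1, hz2⟩ := hker (fun i => y i - d • w i)
    (by
      intro i hi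
      rw [hy0 i hi, hw0 i hi, smul_zero, sub_zero])
    (by
      simp only [map_sub, map_smulₛₗ, hd, Finset.sum_sub_distrib, ← Finset.smul_sum]
      rw [hw, hm, sub_self])
  have hdw : ∀ i, (mult d (N i)).mkQ (d • w i) = 0 := by
    intro i
    rw [Submodule.mkQ_apply, Submodule.Quotient.mk_eq_zero]
    exact smul_mem_mult _
  refine ⟨fun i => (mult d (N (i + 1))).mkQ (z i), ?_, ?_, ?_⟩
  · intro i hi
    change (mult d (N (i + 1))).mkQ (z i) = 0
    rw [hz0 i hi, map_zero]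
  · change y' 0 = αq d N α 0 ((mult d (N (0 + 1))).mkQ (z 0))
    rw [αq_mk, ← hz1, map_sub, hdw, sub_zero, hy]
  · intro i
    change y' (i + 1) = αq d N α (i + 1) ((mult d (N (i + 1 + 1))).mkQ (z (i + 1))) -
      c • (mult d (N (i + 1))).mkQ (z i)
    rw [αq_mk, ← map_smul, ← map_sub, ← hz2 i, map_sub, hdw, sub_zero, hy]

include hd in
/-- Purity at level `d`, given `c x ∈ d N`. -/
theorem mem_mult_of_map_mem_mult (hfl : ∀ i, IsFiniteLength R (N i))
    (hsurj : ∀ m : N 0, ∃ y : (i : ℕ) → N i, (∀ i, r < i → y i = 0) ∧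
      (Finset.range (r + 1)).sum (fun i => φ i (y i)) = m)
    (hker : ∀ y : (i : ℕ) → N i, (∀ i, r < i → y i = 0) →
      (Finset.range (r + 1)).sum (fun i => φ i (y i)) = 0 →
        ∃ z : (i : ℕ) → N (i + 1), (∀ i, r ≤ i → z i = 0) ∧
          y 0 = α 0 (z 0) ∧ ∀ i, y (i + 1) = α (i + 1) (z (i + 1)) - c • z i)
    (i : ℕ) (hi : i < r) (x : N (i + 1)) (h1 : α i x ∈ mult d (N i))
    (h2 : c • x ∈ mult d (N (i + 1))) : x ∈ mult d (N (i + 1)) := by
  have hflq : ∀ i, IsFiniteLength R (N i ⧸ mult d (N i)) := fun i =>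
    (hfl i).of_surjective (f := (mult d (N i)).mkQ) (Submodule.mkQ_surjective _)
  have key := eq_zero_of_map_eq_zero_of_smul_eq_zero σ c r (fun i => N i ⧸ mult d (N i))
    (αq d N α) (φq σ d hd N φ) hflq (hsurj_q σ d hd r N φ hsurj)
    (hker_q σ c d hd r N α φ hsurj hker) i hi ((mult d (N (i + 1))).mkQ x)
    (by
      rw [αq_mk, Submodule.mkQ_apply, Submodule.Quotient.mk_eq_zero]
      exact h1)
    (by
      rw [← map_smul, Submodule.mkQ_apply, Submodule.Quotient.mk_eq_zero]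
      exact h2)
  rwa [Submodule.mkQ_apply, Submodule.Quotient.mk_eq_zero] at key

include σ φ in
/-- Purity of `α i`: `α i x ∈ c^j N_i` implies `x ∈ c^j N_{i+1}`. -/
theorem pure (hc : σ c = c) (hfl : ∀ i, IsFiniteLength R (N i))
    (hsurj : ∀ m : N 0, ∃ y : (i : ℕ) → N i, (∀ i, r < i → y i = 0) ∧
      (Finset.range (r + 1)).sum (fun i => φ i (y i)) = m)
    (hker : ∀ y : (i : ℕ) → N i, (∀ i, r < i → y i = 0) →
      (Finset.range (r + 1)).sum (fun i => φ i (y i)) = 0 →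
        ∃ z : (i : ℕ) → N (i + 1), (∀ i, r ≤ i → z i = 0) ∧
          y 0 = α 0 (z 0) ∧ ∀ i, y (i + 1) = α (i + 1) (z (i + 1)) - c • z i)
    (i : ℕ) (hi : i < r) (j : ℕ) (x : N (i + 1)) (y : N i) (h : α i x = c ^ j • y) :
    ∃ x' : N (i + 1), x = c ^ j • x' := by
  induction j generalizing y with
  | zero => exact ⟨x, by simp⟩
  | succ j ih =>
    obtain ⟨x₁, hx₁⟩ := ih (c • y) (by rw [h, pow_succ, mul_smul])
    have hd : σ (c ^ (j + 1)) = c ^ (j + 1) := by rw [map_pow, hc]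
    have := mem_mult_of_map_mem_mult σ c (c ^ (j + 1)) hd r N α φ hfl hsurj hker i hi x
      (by rw [h]; exact smul_mem_mult _)
      (by
        rw [hx₁, ← mul_smul, ← pow_succ']
        exact smul_mem_mult _)
    obtain ⟨x', hx'⟩ := mem_mult.mp this
    exact ⟨x', hx'.symm⟩

end data

end Groth.Agent.Helper20.FonLaf
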