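import Groth.Agent.Lib.Helper20.FonLaf3

set_option autoImplicit false
universe u v

namespace Groth.Agent.Helper20.FonLaf

open Module DirectSum

/-- Over a local ring, a finite length module is killed by a power of any element of the
maximal ideal. -/
theorem exists_pow_smul_eq_zero {R : Type u} [CommRing R] [IsLocalRing R] (c : R)
    (hc : c ∈ IsLocalRing.maximalIdeal R) (M : Type v) [AddCommGroup M] [Module R M]
    (hfl : IsFiniteLength R M) : ∃ n : ℕ, ∀ x : M, c ^ n • x = 0 := by
  obtain ⟨hN, hA⟩ := isFiniteLength_iff_isNoetherian_isArtinian.mp hfl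
  let f : ℕ →o (Submodule R M)ᵒᵈ :=
    ⟨fun n => OrderDual.toDual (mult (c ^ n) M), by
      intro a b hab
      change mult (c ^ b) M ≤ mult (c ^ a) M
      intro x hx
      obtain ⟨y, rfl⟩ := mem_mult.mp hx
      obtain ⟨k, rfl⟩ := Nat.exists_eq_add_of_le hab
      rw [pow_add, mul_smul]
      exact smul_mem_mult _⟩
  obtain ⟨n, hn⟩ := IsArtinian.monotone_stabilizes f
  have h1 : mult (c ^ n) M = mult (c ^ (n + 1)) M :=
    congrArg OrderDual.ofDual (hn (n + 1) (by omega))
  have h2 : mult (c ^ n) M ≤ Ideal.span {c} • mult (c ^ n) M := by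
    intro x hx
    rw [h1] at hx
    obtain ⟨y, rfl⟩ := mem_mult.mp hx
    rw [pow_succ', mul_smul]
    exact Submodule.smul_mem_smul (Ideal.mem_span_singleton_self c) (smul_mem_mult y)
  have h3 := Submodule.eq_bot_of_le_smul_of_le_jacobson_bot (Ideal.span {c}) (mult (c ^ n) M)
    (IsNoetherian.noetherian _) h2 (by
      rw [IsLocalRing.jacobson_eq_maximalIdeal ⊥ bot_ne_top, Ideal.span_singleton_le_iff_mem]
      exact hc)
  refine ⟨n, fun x => ?_⟩
  have : c ^ n • x ∈ mult (c ^ n) M := smul_mem_mult x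
  rw [h3] at this
  exact (Submodule.mem_bot R).mp this

/-- A pure submodule of a finite length module over a DVR has a complement. -/
theorem exists_isCompl_of_pure {R : Type u} [CommRing R] [IsDomain R]
    [IsDiscreteValuationRing R] (c : R) (hc : Irreducible c)
    (B : Type v) [AddCommGroup B] [Module R B] (hfl : IsFiniteLength R B) (A : Submodule R B)
    (hpure : ∀ (j : ℕ) (b : B), c ^ j • b ∈ A → ∃ a ∈ A, c ^ j • a = c ^ j • b) :
    ∃ Q : Submodule R B, IsCompl A Q := by
  classical
  obtain ⟨hN, hA⟩ := isFiniteLength_iff_isNoetherian_isArtinian.mp hfl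
  have hcm : c ∈ IsLocalRing.maximalIdeal R := by
    rw [IsLocalRing.mem_maximalIdeal]
    exact hc.not_isUnit
  obtain ⟨n, hn⟩ := exists_pow_smul_eq_zero c hcm B hfl
  have htors : Module.IsTorsion R (B ⧸ A) := by
    intro x
    obtain ⟨b, rfl⟩ := Submodule.mkQ_surjective A x
    refine ⟨⟨c ^ n, mem_nonZeroDivisors_of_ne_zero (pow_ne_zero _ hc.ne_zero)⟩, ?_⟩
    change c ^ n • A.mkQ b = 0
    rw [← map_smul, hn, map_zero]
  obtain ⟨ι, _, p, hp, e, ⟨g⟩⟩ := Module.equiv_directSum_of_isTorsion htors
  -- the chosen lifts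
  have hlift : ∀ i : ι, ∃ b : B, p i ^ e i • b = 0 ∧
      A.mkQ b = g.symm (DirectSum.lof R ι (fun i => R ⧸ Submodule.span R {p i ^ e i}) i
        (Submodule.Quotient.mk 1)) := by
    intro i
    obtain ⟨u, hu⟩ := IsDiscreteValuationRing.associated_of_irreducible R hc (hp i)
    set t := g.symm (DirectSum.lof R ι (fun i => R ⧸ Submodule.span R {p i ^ e i}) i
        (Submodule.Quotient.mk 1)) with ht
    have ht0 : p i ^ e i • t = 0 := by
      rw [ht, ← map_smul, ← map_smul, ← Submodule.Quotient.mk_smul, smul_eq_mul, mul_one,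
        (Submodule.Quotient.mk_eq_zero _).mpr (Submodule.mem_span_singleton_self _), map_zero,
        map_zero]
    obtain ⟨b, hb⟩ := Submodule.mkQ_surjective A t
    have hpc : p i ^ e i = (u : R) ^ e i * c ^ e i := by
      rw [← hu, mul_pow, mul_comm]
    have hb1 : c ^ e i • b ∈ A := by
      rw [← Submodule.Quotient.mk_eq_zero, ← Submodule.mkQ_apply, map_smul, hb]
      have : (u : R) ^ e i • (c ^ e i • t) = 0 := by
        rw [← mul_smul, ← hpc, ht0]
      have hu' : IsUnit ((u : R) ^ e i) := (u.isUnit).pow _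
      exact (hu'.smul_eq_zero).mp this
    obtain ⟨a, ha, hab⟩ := hpure (e i) b hb1
    refine ⟨b - a, ?_, ?_⟩
    · rw [hpc, mul_smul, smul_sub, hab, sub_self, smul_zero]
    · rw [map_sub, hb, (Submodule.mkQ_apply A a).trans ((Submodule.Quotient.mk_eq_zero A).mpr ha),
        sub_zero]
  choose b hb0 hb1 using hlift
  let s₀ : ∀ i, (R ⧸ Submodule.span R {p i ^ e i}) →ₗ[R] B := fun i =>
    (Submodule.span R {p i ^ e i}).liftQ (LinearMap.toSpanSingleton R B (b i)) (by
      rw [Submodule.span_le, Set.singleton_subset_iff]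
      change _ ∈ LinearMap.ker _
      rw [LinearMap.mem_ker, LinearMap.toSpanSingleton_apply]
      exact hb0 i)
  let s : (B ⧸ A) →ₗ[R] B := (DirectSum.toModule R ι B s₀).comp g.toLinearMap
  have hs : A.mkQ.comp s = LinearMap.id := by
    have h1 : A.mkQ.comp (DirectSum.toModule R ι B s₀) = g.symm.toLinearMap := by
      apply DirectSum.linearMap_ext
      intro i
      apply Submodule.linearMap_qext
      apply LinearMap.ext_ring
      change A.mkQ (DirectSum.toModule R ι B s₀
        (DirectSum.lof R ι (fun i => R ⧸ Submodule.span R {p i ^ e i}) i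
          (Submodule.Quotient.mk 1))) =
        g.symm (DirectSum.lof R ι (fun i => R ⧸ Submodule.span R {p i ^ e i}) i
          (Submodule.Quotient.mk 1))
      rw [DirectSum.toModule_lof, ← hb1 i]
      congr 1
      change LinearMap.toSpanSingleton R B (b i) 1 = b i
      rw [LinearMap.toSpanSingleton_apply, one_smul]
    refine LinearMap.ext fun x => ?_
    simp only [s, LinearMap.comp_apply, LinearMap.id_apply, LinearEquiv.coe_coe]
    have := LinearMap.congr_fun h1 (g x)
    simp only [LinearMap.comp_apply, LinearEquiv.coe_coe, LinearEquiv.symm_apply_apply] at this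
    exact this
  refine ⟨LinearMap.range s, ⟨?_, ?_⟩⟩
  · rw [Submodule.disjoint_def]
    rintro x hx ⟨t, rfl⟩
    have h1 : A.mkQ (s t) = 0 := by
      rw [Submodule.mkQ_apply, Submodule.Quotient.mk_eq_zero]
      exact hx
    have h2 : A.mkQ (s t) = t := LinearMap.congr_fun hs t
    rw [← h2, h1, map_zero]
  · rw [Submodule.codisjoint_iff_exists_add_eq]
    intro z
    refine ⟨z - s (A.mkQ z), s (A.mkQ z), ?_, ⟨_, rfl⟩, by abel⟩
    rw [← Submodule.Quotient.mk_eq_zero, ← Submodule.mkQ_apply, map_sub]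
    have h2 : A.mkQ (s (A.mkQ z)) = A.mkQ z := LinearMap.congr_fun hs _
    rw [h2, sub_self]

end Groth.Agent.Helper20.FonLaf
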