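import Mathlib
import Groth.Prelude
import Groth.Agent.Lib.Helper1.MatlisLib1
import Groth.Agent.Lib.Helper8.Matlis2

/-!
# Embedding `m`-power torsion modules into direct sums of copies of `E` (helper20)
-/

set_option autoImplicit false
set_option linter.style.haveILetI false

universe u

open IsLocalRing LocCoh

namespace Groth.Agent.Helper20.Fs

variable {R : Type u} [CommRing R]

/-- finitely supported families of power torsion elements are power torsion -/
theorem isPowerTorsion_finsupp (I : Ideal R) {E : Type u} [AddCommGroup E] [Module R E]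
    (hE : IsPowerTorsion I E) (ι : Type u) : IsPowerTorsion I (ι →₀ E) := by
  classical
  intro y
  choose n hn using hE
  refine ⟨y.support.sup (fun i => n (y i)), fun a ha => ?_⟩
  ext i
  rw [Finsupp.smul_apply, Finsupp.zero_apply]
  by_cases hi : i ∈ y.support
  · apply hn (y i) a
    exact Ideal.pow_le_pow_right (Finset.le_sup (f := fun i => n (y i)) hi) ha
  · rw [Finsupp.notMem_support_iff.mp hi, smul_zero]

theorem injective_finsupp [IsNoetherianRing R] {E : Type u} [AddCommGroup E] [Module R E]
    (hE : Module.Injective R E) (ι : Type u) : Module.Injective R (ι →₀ E) := by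
  classical
  have h1 : Module.Injective R (DirectSum ι fun _ : ι => E) :=
    Groth.Agent.Helper1.injective_directSum (fun _ : ι => E) (fun _ => hE)
  exact Groth.Agent.Helper1.injective_of_linearEquiv
    (finsuppLEquivDirectSum R E ι).symm h1

variable [IsLocalRing R]

/-- every nonzero submodule of a direct sum of copies of `E` contains a nonzero socle element -/
theorem exists_socle_mem_finsupp [IsNoetherianRing R] {E : Type u} [AddCommGroup E] [Module R E]
    (f : ResidueField R →ₗ[R] E) (hf : InjHull.IsInjectiveHull f) (ι : Type u)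
    (N : Submodule R (ι →₀ E)) (hN : N ≠ ⊥) :
    ∃ y ∈ N, y ≠ 0 ∧ ∀ a ∈ maximalIdeal R, a • y = 0 :=
  Groth.Agent.Helper8.Matlis.exists_socle_mem
    (isPowerTorsion_finsupp _ (Groth.Agent.Helper8.Matlis.isPowerTorsion hf.toIsEssentialInj) ι)
    N hN

/-- an `m`-power torsion module embeds in a direct sum of copies of `E`, with image containing
the socle -/
theorem exists_embedding_finsupp [IsNoetherianRing R] {E : Type u} [AddCommGroup E] [Module R E]
    (f : ResidueField R →ₗ[R] E) (hf : InjHull.IsInjectiveHull f)
    (M : Type u) [AddCommGroup M] [Module R M] (hM : IsPowerTorsion (maximalIdeal R) M) :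
    ∃ (ι : Type u) (j : M →ₗ[R] (ι →₀ E)), Function.Injective j ∧
      ∀ y : ι →₀ E, (∀ a ∈ maximalIdeal R, a • y = 0) → y ∈ LinearMap.range j := by
  classical
  have h := Groth.Agent.Helper1.isMatlisHull_of_hull f hf
  let _ : Field (R ⧸ maximalIdeal R) := Ideal.Quotient.field (maximalIdeal R)
  let V : Submodule R M := LocCoh.torsionBy (maximalIdeal R) M
  let ι : Type u := ↥(Module.Basis.ofVectorSpaceIndex (R ⧸ maximalIdeal R) V)
  let b : Module.Basis ι (R ⧸ maximalIdeal R) V := Module.Basis.ofVectorSpace _ _
  have hinjE : Module.Injective R (ι →₀ E) := injective_finsupp h.injective ι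
  let g₀ : V →ₗ[R] (ι →₀ E) :=
    (Finsupp.mapRange.linearMap h.f₀) ∘ₗ (b.repr.restrictScalars R).toLinearMap
  have hg₀ : Function.Injective g₀ := by
    intro v w hvw
    apply (b.repr.restrictScalars R).injective
    ext i
    apply h.f₀_injective
    have := DFunLike.congr_fun hvw i
    simpa [g₀] using this
  obtain ⟨j, hj⟩ := Module.Injective.extension_property R (ι →₀ E) V M V.subtype
    (Submodule.injective_subtype _) g₀
  have hjv : ∀ v : V, j (v : M) = g₀ v := fun v => LinearMap.congr_fun hj v
  refine ⟨ι, j, ?_, ?_⟩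
  · rw [← LinearMap.ker_eq_bot, LinearMap.ker_eq_bot']
    intro x hx
    by_contra hx0
    obtain ⟨r, hrx, hr⟩ := Groth.Agent.Helper1.exists_smul_mem_socle hM x hx0
    have hmem : r • x ∈ V := by
      change r • x ∈ Submodule.torsionBySet R M _
      rw [Submodule.mem_torsionBySet_iff]
      intro a
      exact hr a a.2
    have h1 : g₀ ⟨r • x, hmem⟩ = 0 := by
      rw [← hjv, map_smul, hx, smul_zero]
    have h2 : (⟨r • x, hmem⟩ : V) = 0 := hg₀ (h1.trans (map_zero g₀).symm)
    exact hrx (congrArg Subtype.val h2)
  · intro y hy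
    have hex : ∀ i, ∃ c : R ⧸ maximalIdeal R, h.f₀ c = y i := by
      intro i
      obtain ⟨c, hc⟩ := h.exists_smul_eq_of_torsion (y i) (fun a ha => by
        have := DFunLike.congr_fun (hy a ha) i
        simpa using this)
      exact ⟨Ideal.Quotient.mk _ c, by rw [h.f₀_mk, hc]⟩
    let g : E → R ⧸ maximalIdeal R := fun e =>
      if hh : ∃ c : R ⧸ maximalIdeal R, h.f₀ c = e then hh.choose else 0
    have hg0 : g 0 = 0 := by
      have hh : ∃ c : R ⧸ maximalIdeal R, h.f₀ c = 0 := ⟨0, map_zero _⟩
      change (if hh : ∃ c : R ⧸ maximalIdeal R, h.f₀ c = 0 then hh.choose else 0) = 0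
      rw [dif_pos hh]
      exact h.f₀_injective (hh.choose_spec.trans (map_zero _).symm)
    have hgy : ∀ i, h.f₀ (g (y i)) = y i := by
      intro i
      change h.f₀ (if hh : ∃ c : R ⧸ maximalIdeal R, h.f₀ c = y i then hh.choose else 0) = y i
      rw [dif_pos (hex i)]
      exact (hex i).choose_spec
    let c : ι →₀ (R ⧸ maximalIdeal R) := y.mapRange g hg0
    let v : V := b.repr.symm c
    refine ⟨(v : M), ?_⟩
    rw [hjv]
    ext i
    change h.f₀ ((b.repr (b.repr.symm c)) i) = y i
    rw [LinearEquiv.apply_symm_apply]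
    change h.f₀ (g (y i)) = y i
    exact hgy i

end Groth.Agent.Helper20.Fs
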