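import Mathlib
import Groth.Prelude
import Groth.Agent.Lib.Helper5.PSR

/-!
# Power torsion modules with derivations over power series rings in characteristic zero (helper20)
-/

set_option autoImplicit false
set_option linter.style.haveILetI false

universe u v w

open IsLocalRing LocCoh

namespace Groth.Agent.Helper20.Fs

section Div

variable {A : Type u} [CommRing A] {M : Type v} [AddCommGroup M] [Module A M]

/-- the one-variable divisibility argument -/
theorem exists_smul_eq_of_pow_smul_eq_zero (hunit : ∀ t : ℕ, IsUnit (((t + 1 : ℕ) : A)))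
    (x : A) (N : Submodule A M) (D : M →+ M) (hDN : ∀ z ∈ N, D z ∈ N)
    (hD : ∀ (t : ℕ) (z : M),
      D (x ^ (t + 1) • z) = ((t + 1 : ℕ) : A) • x ^ t • z + x ^ (t + 1) • D z) :
    ∀ (t : ℕ) (z : M), z ∈ N → x ^ t • z = 0 → ∃ z' ∈ N, x • z' = z := by
  intro t
  induction t with
  | zero =>
    intro z _ h0
    rw [pow_zero, one_smul] at h0
    exact ⟨0, N.zero_mem, by rw [smul_zero, h0]⟩
  | succ t ih =>
    intro z hz h0
    have h1 : D (x ^ (t + 1) • z) = 0 := by rw [h0, map_zero]
    rw [hD] at h1
    have h2 : x ^ t • (((t + 1 : ℕ) : A) • z + x • D z) = 0 := by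
      rw [smul_add, ← h1, smul_comm (x ^ t) (((t + 1 : ℕ) : A)) z, pow_succ, mul_smul]
    obtain ⟨u', hu'N, hu'⟩ := ih _ (N.add_mem (N.smul_mem _ hz) (N.smul_mem _ (hDN z hz))) h2
    obtain ⟨c, hc⟩ := hunit t
    refine ⟨(↑c⁻¹ : A) • (u' - D z), N.smul_mem _ (N.sub_mem hu'N (hDN z hz)), ?_⟩
    have h3 : ((t + 1 : ℕ) : A) • z = x • (u' - D z) := by
      rw [smul_sub, hu']
      abel
    rw [smul_comm, ← h3, ← hc, ← mul_smul, Units.inv_mul, one_smul]

end Div

section Main

variable (k : Type u) [Field k] (d : ℕ)

/-- elements killed by the variables of index `≥ n` -/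
def Kn (Y : Type v) [AddCommGroup Y] [Module (MvPowerSeries (Fin d) k) Y] (n : ℕ) :
    Submodule (MvPowerSeries (Fin d) k) Y where
  carrier := {y | ∀ i : Fin d, n ≤ i.val → (MvPowerSeries.X i : MvPowerSeries (Fin d) k) • y = 0}
  zero_mem' := fun i _ => smul_zero _
  add_mem' := by
    intro a b ha hb i hi
    rw [smul_add, ha i hi, hb i hi, add_zero]
  smul_mem' := by
    intro c a ha i hi
    rw [smul_comm, ha i hi, smul_zero]

variable {k d}

theorem mem_Kn {Y : Type v} [AddCommGroup Y] [Module (MvPowerSeries (Fin d) k) Y] (n : ℕ) (y : Y) :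
    y ∈ Kn k d Y n ↔
      ∀ i : Fin d, n ≤ i.val → (MvPowerSeries.X i : MvPowerSeries (Fin d) k) • y = 0 := Iff.rfl

variable [CharZero k]

theorem surjective_of_derivations {E' : Type v} [AddCommGroup E']
    [Module (MvPowerSeries (Fin d) k) E'] {M : Type w} [AddCommGroup M]
    [Module (MvPowerSeries (Fin d) k) M]
    (hE' : IsPowerTorsion (maximalIdeal (MvPowerSeries (Fin d) k)) E')
    (θ : Fin d → Derivation k (MvPowerSeries (Fin d) k) (MvPowerSeries (Fin d) k))
    (hθ : ∀ i j : Fin d, θ i (MvPowerSeries.X j) = if i = j then 1 else 0)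
    (D : Fin d → M →+ M)
    (hD : ∀ (i : Fin d) (f : MvPowerSeries (Fin d) k) (z : M),
      D i (f • z) = θ i f • z + f • D i z)
    (j : M →ₗ[MvPowerSeries (Fin d) k] E') (hj : Function.Injective j)
    (hsoc : ∀ y : E', (∀ a ∈ maximalIdeal (MvPowerSeries (Fin d) k), a • y = 0) →
      y ∈ LinearMap.range j) : Function.Surjective j := by
  classical
  have hunit : ∀ t : ℕ, IsUnit (((t + 1 : ℕ) : MvPowerSeries (Fin d) k)) := by
    intro t
    have h1 : (((t + 1 : ℕ) : MvPowerSeries (Fin d) k)) =
        algebraMap k (MvPowerSeries (Fin d) k) ((t + 1 : ℕ) : k) := by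
      rw [map_natCast]
    rw [h1]
    apply IsUnit.map
    exact isUnit_iff_ne_zero.mpr (Nat.cast_ne_zero.mpr (Nat.succ_ne_zero t))
  have hXm : ∀ i : Fin d, (MvPowerSeries.X i : MvPowerSeries (Fin d) k) ∈
      maximalIdeal (MvPowerSeries (Fin d) k) := by
    intro i
    rw [Groth.Agent.Helper5.PSR.maximalIdeal_eq_span_X]
    exact Ideal.subset_span ⟨i, rfl⟩
  have key : ∀ n : ℕ, n ≤ d → Kn k d E' n ≤ LinearMap.range j := by
    intro n
    induction n with
    | zero =>
      intro _ y hy
      apply hsoc
      intro a ha
      rw [Groth.Agent.Helper5.PSR.maximalIdeal_eq_span_X] at ha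
      induction ha using Submodule.span_induction with
      | mem a ha =>
        obtain ⟨i, rfl⟩ := ha
        exact hy i (Nat.zero_le _)
      | zero => exact zero_smul _ _
      | add a b _ _ h1 h2 => rw [add_smul, h1, h2, add_zero]
      | smul r a _ h1 => rw [smul_eq_mul, mul_smul, h1, smul_zero]
    | succ n ih =>
      intro hn
      have ihn := ih (by omega)
      let i : Fin d := ⟨n, by omega⟩
      set x : MvPowerSeries (Fin d) k := MvPowerSeries.X i with hx
      -- the derivation identity for powers of x
      have hDx : ∀ (t : ℕ) (z : M),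
          D i (x ^ (t + 1) • z) =
            ((t + 1 : ℕ) : MvPowerSeries (Fin d) k) • x ^ t • z + x ^ (t + 1) • D i z := by
        intro t z
        rw [hD, Derivation.leibniz_pow, hx, hθ i i, if_pos rfl, Nat.add_sub_cancel]
        congr 1
        rw [smul_eq_mul, mul_one, ← mul_smul]
        congr 1
        rw [nsmul_eq_mul]
      have hDN : ∀ z ∈ Kn k d M (n + 1), D i z ∈ Kn k d M (n + 1) := by
        intro z hz i' hi'
        have h1 := hD i (MvPowerSeries.X i') z
        have hne : i ≠ i' := by
          intro h
          have : n = i'.val := by rw [← h]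
          omega
        rw [hz i' hi', map_zero, hθ i i', if_neg hne, zero_smul, zero_add] at h1
        exact h1.symm
      have hdiv := exists_smul_eq_of_pow_smul_eq_zero hunit x (Kn k d M (n + 1)) (D i) hDN hDx
      -- inner induction
      have inner : ∀ (t : ℕ) (y : E'), y ∈ Kn k d E' (n + 1) → x ^ t • y = 0 →
          y ∈ LinearMap.range j := by
        intro t
        induction t with
        | zero =>
          intro y _ h0
          rw [pow_zero, one_smul] at h0
          rw [h0]
          exact Submodule.zero_mem _
        | succ t iht =>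
          intro y hy h0
          have h1 : x • y ∈ LinearMap.range j := by
            apply iht (x • y) (Submodule.smul_mem _ _ hy)
            rw [← mul_smul, ← pow_succ]
            exact h0
          obtain ⟨z, hz⟩ := h1
          have hzK : z ∈ Kn k d M (n + 1) := by
            intro i' hi'
            apply hj
            rw [map_smul, hz, map_zero, smul_comm, hy i' hi', smul_zero]
          have hzt : x ^ t • z = 0 := by
            apply hj
            rw [map_smul, hz, map_zero, ← mul_smul, ← pow_succ]
            exact h0
          obtain ⟨z', hz'K, hz'⟩ := hdiv t z hzK hzt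
          have h2 : y - j z' ∈ Kn k d E' n := by
            intro i' hi'
            by_cases hii : i' = i
            · rw [hii, smul_sub, ← map_smul]
              change x • y - j (x • z') = 0
              rw [hz', hz, sub_self]
            · have hlt : n + 1 ≤ i'.val := by
                have : i'.val ≠ n := fun h => hii (Fin.ext h)
                omega
              rw [smul_sub, hy i' hlt, ← map_smul, hz'K i' hlt, map_zero, sub_zero]
          have h3 := ihn h2
          have : y = (y - j z') + j z' := by abel
          rw [this]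
          exact Submodule.add_mem _ h3 (LinearMap.mem_range_self j z')
      intro y hy
      obtain ⟨t, ht⟩ := hE' y
      apply inner t y hy
      apply ht
      exact Ideal.pow_mem_pow (hXm i) t
  intro y
  have : y ∈ Kn k d E' d := by
    intro i hi
    exact absurd i.isLt (by omega)
  exact key d le_rfl this

end Main

end Groth.Agent.Helper20.Fs
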