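import Mathlib
import Groth.Prelude

/-!
# Quotient bases of torsion submodules and flat base change (helper20)
-/

set_option autoImplicit false
set_option linter.style.haveILetI false

universe u v w u'

open TensorProduct

namespace Groth.Agent.Helper20.Fs

section QB

variable {R : Type u} [CommRing R] {M : Type v} [AddCommGroup M] [Module R M] {ι : Type w}

/-- `v` is a "quotient basis" of `M[I]`: the family generates `M[I]`, and its relations are
exactly the families with coefficients in `I`; i.e. `M[I]` is `(R ⧸ I)`-free on `v`. -/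
structure IsQB (I : Ideal R) (v : ι → M) : Prop where
  span : ∀ x : M, (∀ a ∈ I, a • x = 0) ↔ ∃ c : ι →₀ R, Finsupp.linearCombination R v c = x
  indep : ∀ c : ι →₀ R, Finsupp.linearCombination R v c = 0 → ∀ i, c i ∈ I

variable {I : Ideal R} {v : ι → M}

theorem IsQB.smul_eq_zero (h : IsQB I v) (i : ι) {a : R} (ha : a ∈ I) : a • v i = 0 := by
  classical
  apply (h.span (v i)).mpr ⟨Finsupp.single i 1, by simp⟩ a ha

theorem IsQB.linearCombination_mem (h : IsQB I v) (c : ι →₀ R) :
    Finsupp.linearCombination R v c ∈ Submodule.torsionBySet R M (I : Set R) := by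
  rw [Submodule.mem_torsionBySet_iff]
  intro a
  exact (h.span _).mpr ⟨c, rfl⟩ a a.2

theorem IsQB.linearCombination_eq_zero_iff (h : IsQB I v) (c : ι →₀ R) :
    Finsupp.linearCombination R v c = 0 ↔ ∀ i, c i ∈ I := by
  refine ⟨h.indep c, fun hc => ?_⟩
  rw [Finsupp.linearCombination_apply, Finsupp.sum]
  apply Finset.sum_eq_zero
  intro i _
  exact h.smul_eq_zero i (hc i)

/-- the projection `(ι →₀ R) → (ι →₀ R ⧸ I)` -/
noncomputable def Pq (I : Ideal R) (ι : Type w) : (ι →₀ R) →ₗ[R] (ι →₀ R ⧸ I) :=
  Finsupp.mapRange.linearMap (Submodule.mkQ I)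

theorem Pq_apply (c : ι →₀ R) (i : ι) : Pq I ι c i = Submodule.Quotient.mk (c i) := rfl

theorem Pq_surjective : Function.Surjective (Pq I ι) := by
  intro y
  obtain ⟨c, hc⟩ := Finsupp.mapRange_surjective (α := ι) (Submodule.mkQ I) (map_zero _)
    (Submodule.mkQ_surjective I) y
  exact ⟨c, hc⟩

theorem Pq_eq_zero_iff (c : ι →₀ R) : Pq I ι c = 0 ↔ ∀ i, c i ∈ I := by
  constructor
  · intro h i
    have := DFunLike.congr_fun h i
    rw [Pq_apply, Finsupp.zero_apply, Submodule.Quotient.mk_eq_zero] at this
    exact this
  · intro h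
    ext i
    rw [Pq_apply, Finsupp.zero_apply, Submodule.Quotient.mk_eq_zero]
    exact h i

/-- a quotient basis gives an isomorphism `M[I] ≃ (ι →₀ R ⧸ I)` -/
theorem IsQB.exists_equiv (h : IsQB I v) :
    ∃ g : Submodule.torsionBySet R M (I : Set R) ≃ₗ[R] (ι →₀ R ⧸ I),
      ∀ c : ι →₀ R, g ⟨Finsupp.linearCombination R v c, h.linearCombination_mem c⟩ = Pq I ι c := by
  classical
  let N₀ := Submodule.torsionBySet R M (I : Set R)
  let Lc' : (ι →₀ R) →ₗ[R] N₀ :=
    LinearMap.codRestrict N₀ (Finsupp.linearCombination R v) h.linearCombination_mem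
  have hsurj : Function.Surjective Lc' := by
    intro x
    obtain ⟨c, hc⟩ := (h.span (x : M)).mp (fun a ha =>
      (Submodule.mem_torsionBySet_iff _ _).mp x.2 ⟨a, ha⟩)
    exact ⟨c, Subtype.ext hc⟩
  have hker : LinearMap.ker Lc' = LinearMap.ker (Pq I ι) := by
    ext c
    rw [LinearMap.mem_ker, LinearMap.mem_ker, Pq_eq_zero_iff, ← h.linearCombination_eq_zero_iff]
    constructor
    · intro hc; exact congrArg Subtype.val hc
    · intro hc; exact Subtype.ext hc
  let g : N₀ ≃ₗ[R] (ι →₀ R ⧸ I) :=
    (Lc'.quotKerEquivOfSurjective hsurj).symm.trans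
      ((Submodule.quotEquivOfEq _ _ hker).trans ((Pq I ι).quotKerEquivOfSurjective Pq_surjective))
  refine ⟨g, fun c => ?_⟩
  change ((Pq I ι).quotKerEquivOfSurjective Pq_surjective)
    ((Submodule.quotEquivOfEq _ _ hker) ((Lc'.quotKerEquivOfSurjective hsurj).symm (Lc' c))) = _
  rw [LinearMap.quotKerEquivOfSurjective_symm_apply, Submodule.quotEquivOfEq_mk,
    LinearMap.quotKerEquivOfSurjective_apply_mk]

/-- conversely, an isomorphism `M[I] ≃ (ι →₀ R ⧸ I)` gives a quotient basis -/
theorem IsQB.of_equiv [DecidableEq ι]
    (g : Submodule.torsionBySet R M (I : Set R) ≃ₗ[R] (ι →₀ R ⧸ I)) :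
    IsQB I (fun i => ((g.symm (Finsupp.single i 1) :
      Submodule.torsionBySet R M (I : Set R)) : M)) := by
  have key : ∀ c : ι →₀ R, Finsupp.linearCombination R (fun i => ((g.symm (Finsupp.single i 1) :
      Submodule.torsionBySet R M (I : Set R)) : M)) c = ((g.symm (Pq I ι c) :
      Submodule.torsionBySet R M (I : Set R)) : M) := by
    intro c
    have : Finsupp.linearCombination R (fun i => ((g.symm (Finsupp.single i 1) :
        Submodule.torsionBySet R M (I : Set R)) : M)) =
        (Submodule.torsionBySet R M (I : Set R)).subtype ∘ₗ g.symm.toLinearMap ∘ₗ Pq I ι := by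
      apply Finsupp.lhom_ext
      intro i r
      rw [Finsupp.linearCombination_single, LinearMap.comp_apply, LinearMap.comp_apply]
      have h1 : Pq I ι (Finsupp.single i r) = r • Finsupp.single i (1 : R ⧸ I) := by
        ext j
        rw [Pq_apply, Finsupp.smul_apply]
        by_cases hij : i = j
        · subst hij
          rw [Finsupp.single_eq_same, Finsupp.single_eq_same]
          change Submodule.Quotient.mk r = r • (Submodule.Quotient.mk (1 : R) : R ⧸ I)
          rw [← Submodule.Quotient.mk_smul, smul_eq_mul, mul_one]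
        · rw [Finsupp.single_eq_of_ne' hij, Finsupp.single_eq_of_ne' hij, smul_zero]
          rfl
      rw [h1, LinearEquiv.coe_coe, map_smul]
      rfl
    rw [this]
    rfl
  constructor
  · intro x
    constructor
    · intro hx
      have hxm : x ∈ Submodule.torsionBySet R M (I : Set R) := by
        rw [Submodule.mem_torsionBySet_iff]
        intro a
        exact hx a a.2
      obtain ⟨c, hc⟩ := Pq_surjective (I := I) (g ⟨x, hxm⟩)
      refine ⟨c, ?_⟩
      rw [key, hc, LinearEquiv.symm_apply_apply]
    · rintro ⟨c, rfl⟩ a ha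
      rw [key]
      exact (Submodule.mem_torsionBySet_iff _ _).mp (g.symm (Pq I ι c)).2 ⟨a, ha⟩
  · intro c hc
    rw [key] at hc
    have h1 : g.symm (Pq I ι c) = 0 := Subtype.ext hc
    rw [LinearEquiv.map_eq_zero_iff] at h1
    exact (Pq_eq_zero_iff c).mp h1

end QB

section BaseChange

variable {R : Type u} [CommRing R] {M : Type v} [AddCommGroup M] [Module R M] {ι : Type w}
variable (S : Type u') [CommRing S] [Algebra R S]

/-- flat base change of the submodule killed by finitely many elements -/
theorem mem_range_lTensor_of_smul_eq_zero [Module.Flat R S] {n : ℕ} (a : Fin n → R)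
    (N₀ : Submodule R M) (hN₀ : ∀ x : M, x ∈ N₀ ↔ ∀ k, a k • x = 0)
    (z : S ⊗[R] M) (hz : ∀ k, a k • z = 0) : z ∈ LinearMap.range (N₀.subtype.lTensor S) := by
  classical
  let g : M →ₗ[R] (Fin n → M) := LinearMap.pi (fun k => LinearMap.lsmul R M (a k))
  have hker : LinearMap.ker g = N₀ := by
    ext x
    rw [LinearMap.mem_ker, hN₀]
    constructor
    · intro h k
      exact congrFun h k
    · intro h
      funext k
      exact h k
  have hex : Function.Exact N₀.subtype g := by
    rw [LinearMap.exact_iff, Submodule.range_subtype, hker]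
  have hex' := Module.Flat.lTensor_exact S hex
  rw [LinearMap.exact_iff] at hex'
  rw [← hex', LinearMap.mem_ker]
  apply (TensorProduct.piRight R R S (fun _ : Fin n => M)).injective
  rw [map_zero]
  funext k
  have key : ∀ z : S ⊗[R] M,
      TensorProduct.piRight R R S (fun _ : Fin n => M) (g.lTensor S z) k = a k • z := by
    intro z
    induction z using TensorProduct.induction_on with
    | zero => simp
    | tmul s m =>
      rw [LinearMap.lTensor_tmul, TensorProduct.piRight_apply, TensorProduct.piRightHom_tmul,
        TensorProduct.smul_tmul']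
      change s ⊗ₜ[R] (a k • m) = _
      rw [TensorProduct.tmul_smul, TensorProduct.smul_tmul']
    | add x y hx hy =>
      rw [map_add, map_add, Pi.add_apply, hx, hy, smul_add]
  rw [key, hz]
  rfl

variable {S}
variable {I : Ideal R} {v : ι → M}

/-- base change of a quotient basis along a flat ring map -/
theorem IsQB.baseChange [Module.Flat R S] (h : IsQB I v) {n : ℕ} (a : Fin n → R)
    (ha : I = Ideal.span (Set.range a)) :
    IsQB (I.map (algebraMap R S)) (fun i => (1 : S) ⊗ₜ[R] v i) := by
  classical
  let N₀ := Submodule.torsionBySet R M (I : Set R)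
  have hN₀ : ∀ x : M, x ∈ N₀ ↔ ∀ k, a k • x = 0 := by
    intro x
    change x ∈ Submodule.torsionBySet R M (I : Set R) ↔ _
    rw [Submodule.mem_torsionBySet_iff]
    constructor
    · intro hx k
      exact hx ⟨a k, by rw [ha]; exact Ideal.subset_span ⟨k, rfl⟩⟩
    · intro hx b
      have aux : ∀ b ∈ Ideal.span (Set.range a), b • x = 0 := by
        intro b hb
        induction hb using Submodule.span_induction with
        | mem b hb =>
          obtain ⟨k, rfl⟩ := hb
          exact hx k
        | zero => exact zero_smul _ _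
        | add b c _ _ h1 h2 => rw [add_smul, h1, h2, add_zero]
        | smul r b _ h1 => rw [smul_eq_mul, mul_smul, h1, smul_zero]
      exact aux b (by rw [← ha]; exact b.2)
  -- the generators are killed by `IS`
  have hkill : ∀ i, ∀ b ∈ I.map (algebraMap R S), b • ((1 : S) ⊗ₜ[R] v i) = 0 := by
    intro i b hb
    induction hb using Submodule.span_induction with
    | mem b hb =>
      obtain ⟨a₀, ha₀, rfl⟩ := hb
      rw [TensorProduct.smul_tmul', smul_eq_mul, mul_one, Algebra.algebraMap_eq_smul_one,
        TensorProduct.smul_tmul, h.smul_eq_zero i ha₀, TensorProduct.tmul_zero]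
    | zero => exact zero_smul _ _
    | add b c _ _ h1 h2 => rw [add_smul, h1, h2, add_zero]
    | smul r b _ h1 => rw [smul_eq_mul, mul_smul, h1, smul_zero]
  constructor
  · intro z
    constructor
    · intro hz
      have hz' : ∀ k, a k • z = 0 := by
        intro k
        rw [← algebraMap_smul S (a k) z]
        apply hz
        apply Ideal.mem_map_of_mem
        rw [ha]
        exact Ideal.subset_span ⟨k, rfl⟩
      obtain ⟨z', rfl⟩ := mem_range_lTensor_of_smul_eq_zero S a N₀ hN₀ z hz'
      have hspan : ∀ z' : S ⊗[R] N₀, N₀.subtype.lTensor S z' ∈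
          Submodule.span S (Set.range fun i => (1 : S) ⊗ₜ[R] v i) := by
        intro z'
        induction z' using TensorProduct.induction_on with
        | zero => rw [map_zero]; exact Submodule.zero_mem _
        | tmul s x =>
          rw [LinearMap.lTensor_tmul, Submodule.subtype_apply]
          obtain ⟨c, hc⟩ := (h.span (x : M)).mp (fun a ha =>
            (Submodule.mem_torsionBySet_iff _ _).mp x.2 ⟨a, ha⟩)
          rw [← hc, Finsupp.linearCombination_apply, Finsupp.sum, TensorProduct.tmul_sum]
          apply Submodule.sum_mem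
          intro i _
          have : s ⊗ₜ[R] (c i • v i) = (s * algebraMap R S (c i)) • ((1 : S) ⊗ₜ[R] v i) := by
            rw [TensorProduct.smul_tmul', smul_eq_mul, mul_one, TensorProduct.tmul_smul,
              TensorProduct.smul_tmul', Algebra.smul_def, mul_comm]
          rw [this]
          exact Submodule.smul_mem _ _ (Submodule.subset_span ⟨i, rfl⟩)
        | add x y hx hy =>
          rw [map_add]
          exact Submodule.add_mem _ hx hy
      obtain ⟨c, hc⟩ := Finsupp.mem_span_range_iff_exists_finsupp.mp (hspan z')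
      exact ⟨c, by rw [Finsupp.linearCombination_apply]; exact hc⟩
    · rintro ⟨c, rfl⟩ b hb
      rw [Finsupp.linearCombination_apply, Finsupp.sum, Finset.smul_sum]
      apply Finset.sum_eq_zero
      intro i _
      rw [smul_comm, hkill i b hb, smul_zero]
  · intro c hc i
    obtain ⟨g, hg⟩ := h.exists_equiv
    let v' : ι → N₀ := fun i => ⟨Finsupp.linearCombination R v (Finsupp.single i 1),
      h.linearCombination_mem _⟩
    have hv' : ∀ i, ((v' i : N₀) : M) = v i := by
      intro i
      change Finsupp.linearCombination R v (Finsupp.single i 1) = v i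
      rw [Finsupp.linearCombination_single, one_smul]
    have hgv' : ∀ i, g (v' i) = Finsupp.single i 1 := by
      intro i
      rw [hg]
      ext j
      rw [Pq_apply]
      by_cases hij : i = j
      · subst hij
        rw [Finsupp.single_eq_same, Finsupp.single_eq_same]
        rfl
      · rw [Finsupp.single_eq_of_ne' hij, Finsupp.single_eq_of_ne' hij]
        rfl
    let z' : S ⊗[R] N₀ := Finsupp.linearCombination S (fun i => (1 : S) ⊗ₜ[R] v' i) c
    have hz' : N₀.subtype.baseChange S z' = 0 := by
      have hcomp : (⇑(N₀.subtype.baseChange S) ∘ fun i => (1 : S) ⊗ₜ[R] v' i) =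
          fun i => (1 : S) ⊗ₜ[R] v i := by
        funext i
        change N₀.subtype.baseChange S ((1 : S) ⊗ₜ[R] v' i) = _
        rw [LinearMap.baseChange_tmul, Submodule.subtype_apply, hv']
      rw [Finsupp.apply_linearCombination, hcomp, hc]
    have hinj : Function.Injective (N₀.subtype.baseChange S) := by
      have := Module.Flat.lTensor_preserves_injective_linearMap (M := S) N₀.subtype
        (Submodule.injective_subtype _)
      exact this
    have hz0 : z' = 0 := hinj (hz'.trans (map_zero _).symm)
    -- coordinates
    let toSQ : (R ⧸ I) →ₗ[R] (S ⧸ I.map (algebraMap R S)) :=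
      Submodule.liftQ I (((Submodule.mkQ (I.map (algebraMap R S))).restrictScalars R) ∘ₗ
        Algebra.linearMap R S) (by
        intro r hr
        rw [LinearMap.mem_ker, LinearMap.comp_apply, Algebra.linearMap_apply]
        change Submodule.Quotient.mk (algebraMap R S r) = 0
        rw [Submodule.Quotient.mk_eq_zero]
        exact Ideal.mem_map_of_mem _ hr)
    have htoSQ1 : toSQ 1 = Submodule.Quotient.mk 1 := by
      change toSQ (Submodule.Quotient.mk 1) = _
      rw [Submodule.liftQ_apply, LinearMap.comp_apply, Algebra.linearMap_apply, map_one]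
      rfl
    let l : N₀ →ₗ[R] (S ⧸ I.map (algebraMap R S)) :=
      toSQ ∘ₗ Finsupp.lapply i ∘ₗ g.toLinearMap
    have hl : ∀ j, l (v' j) = if j = i then Submodule.Quotient.mk 1 else 0 := by
      intro j
      change toSQ ((g (v' j)) i) = _
      rw [hgv']
      by_cases hij : j = i
      · subst hij
        rw [Finsupp.single_eq_same, if_pos rfl, htoSQ1]
      · rw [Finsupp.single_eq_of_ne' hij, if_neg hij, map_zero]
    have h1 : l.liftBaseChange S z' = Submodule.Quotient.mk (c i) := by
      rw [Finsupp.apply_linearCombination, Finsupp.linearCombination_apply, Finsupp.sum]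
      rw [Finset.sum_eq_single i]
      · change c i • l.liftBaseChange S ((1 : S) ⊗ₜ[R] v' i) = _
        rw [LinearMap.liftBaseChange_tmul, one_smul, hl, if_pos rfl,
          ← Submodule.Quotient.mk_smul, smul_eq_mul, mul_one]
      · intro j _ hji
        change c j • l.liftBaseChange S ((1 : S) ⊗ₜ[R] v' j) = _
        rw [LinearMap.liftBaseChange_tmul, one_smul, hl, if_neg hji, smul_zero]
      · intro hi
        rw [Finsupp.notMem_support_iff.mp hi, zero_smul]
    rw [hz0, map_zero] at h1
    exact (Submodule.Quotient.mk_eq_zero _).mp h1.symm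

end BaseChange

section Transport

variable {R : Type u} [CommRing R] {M : Type v} [AddCommGroup M] [Module R M] {ι : Type w}
variable {S : Type u'} [CommRing S] {Z : Type*} [AddCommGroup Z] [Module S Z]

/-- transport of a quotient basis along a semilinear isomorphism -/
theorem IsQB.transport (e : S ≃+* R) (ψ : Z ≃+ M) (hψ : ∀ (s : S) (z : Z), ψ (s • z) = e s • ψ z)
    {K : Ideal S} {w : ι → Z} (h : IsQB K w) :
    IsQB (K.map (e : S →+* R)) (fun i => ψ (w i)) := by
  classical
  have key : ∀ c : ι →₀ S, ψ (Finsupp.linearCombination S w c) =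
      Finsupp.linearCombination R (fun i => ψ (w i)) (c.mapRange e (map_zero e)) := by
    intro c
    rw [Finsupp.linearCombination_apply, Finsupp.linearCombination_apply,
      Finsupp.sum_mapRange_index (h := fun i a => a • ψ (w i)) (fun i => zero_smul _ _),
      Finsupp.sum, map_sum, Finsupp.sum]
    apply Finset.sum_congr rfl
    intro i _
    exact hψ _ _
  have hsymm : ∀ c' : ι →₀ R,
      (c'.mapRange e.symm (map_zero e.symm)).mapRange e (map_zero e) = c' := by
    intro c'
    ext i
    simp
  have hmem : ∀ b : R, b ∈ K.map (e : S →+* R) ↔ e.symm b ∈ K := by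
    intro b
    rw [Ideal.map_comap_of_equiv, Ideal.mem_comap]
  constructor
  · intro x
    constructor
    · intro hx
      have h1 : ∀ s ∈ K, s • ψ.symm x = 0 := by
        intro s hs
        apply ψ.injective
        rw [hψ, AddEquiv.apply_symm_apply, map_zero]
        apply hx
        rw [hmem, RingEquiv.symm_apply_apply]
        exact hs
      obtain ⟨c, hc⟩ := (h.span _).mp h1
      refine ⟨c.mapRange e (map_zero e), ?_⟩
      rw [← key, hc, AddEquiv.apply_symm_apply]
    · rintro ⟨c', rfl⟩ b hb
      rw [← hsymm c', ← key]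
      have hb' := (hmem b).mp hb
      have h1 := (h.span (Finsupp.linearCombination S w
        (c'.mapRange e.symm (map_zero e.symm)))).mpr ⟨_, rfl⟩ (e.symm b) hb'
      have h2 := hψ (e.symm b) (Finsupp.linearCombination S w
        (c'.mapRange e.symm (map_zero e.symm)))
      rw [h1, map_zero, RingEquiv.apply_symm_apply] at h2
      exact h2.symm
  · intro c' hc' i
    rw [← hsymm c', ← key] at hc'
    have h1 : Finsupp.linearCombination S w (c'.mapRange e.symm (map_zero e.symm)) = 0 := by
      apply ψ.injective
      rw [hc', map_zero]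
    have h2 := h.indep _ h1 i
    rw [hmem]
    simpa using h2

end Transport

end Groth.Agent.Helper20.Fs
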