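import Mathlib
import Groth.Prelude
import Groth.Agent.Lib.Helper20.FsC
import Groth.Agent.Lib.Helper29.FrobFree

/-!
# Quotient bases and modules isomorphic to their pullback along a flat endomorphism (helper20)
-/

set_option autoImplicit false
set_option linter.style.haveILetI false

universe u v w

open TensorProduct

namespace Groth.Agent.Helper20.Fs

open Groth.Agent.Helper29.FrobFree

section

variable {R : Type u} [CommRing R] (F : R →+* R)

/-- a copy of `R`, regarded as an `R`-algebra through `F` -/
@[nolint unusedArguments]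
def FR (_F : R →+* R) : Type u := R

instance : CommRing (FR F) := inferInstanceAs (CommRing R)

noncomputable instance : Algebra R (FR F) := F.toAlgebra

theorem algebraMap_FR (r : R) : algebraMap R (FR F) r = F r := rfl

theorem flat_FR (hF : F.Flat) : Module.Flat R (FR F) := hF

/-- the identity ring isomorphism -/
def eFR : FR F ≃+* R := RingEquiv.refl R

theorem eFR_algebraMap (r : R) : eFR F (algebraMap R (FR F) r) = F r := rfl

/-- identity, as a linear equivalence to the restriction of scalars -/
noncomputable def toQ : FR F ≃ₗ[R] ↑(Q F) where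
  toFun := fun s => s
  invFun := fun q => q
  map_add' := fun _ _ => rfl
  map_smul' := fun _ _ => rfl
  left_inv := fun _ => rfl
  right_inv := fun _ => rfl

variable (M : Type u) [AddCommGroup M] [Module R M]

/-- the additive identification of `FR F ⊗ M` with the extension of scalars -/
noncomputable def toTe : FR F ⊗[R] M ≃+ T F M :=
  (TensorProduct.congr (toQ F) (LinearEquiv.refl R M)).toAddEquiv.trans
    (AddEquiv.refl (↑(Q F) ⊗[R] M))

theorem toTe_tmul (s : FR F) (m : M) : toTe F M (s ⊗ₜ[R] m) = toT F M ((toQ F s) ⊗ₜ[R] m) := rfl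

theorem toTe_smul (s : FR F) (z : FR F ⊗[R] M) : toTe F M (s • z) = eFR F s • toTe F M z := by
  induction z using TensorProduct.induction_on with
  | zero => rw [smul_zero, map_zero, smul_zero]
  | tmul s' m =>
    rw [TensorProduct.smul_tmul', toTe_tmul, toTe_tmul, smul_toT]
    rfl
  | add x y hx hy => rw [smul_add, map_add, hx, hy, map_add, smul_add]

variable {F M}

/-- one Frobenius step for quotient bases -/
theorem IsQB.pullback_step (hF : F.Flat) (φ : T F M ≃ₗ[R] M) {ι : Type w} {I : Ideal R}
    {v : ι → M} (h : IsQB I v) {n : ℕ} (a : Fin n → R) (ha : I = Ideal.span (Set.range a)) :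
    IsQB (I.map F) (fun i => φ (toTe F M ((1 : FR F) ⊗ₜ[R] v i))) := by
  haveI : Module.Flat R (FR F) := flat_FR F hF
  have h1 : IsQB (I.map (algebraMap R (FR F))) (fun i => (1 : FR F) ⊗ₜ[R] v i) :=
    h.baseChange a ha
  have h2 := h1.transport (eFR F) ((toTe F M).trans φ.toAddEquiv) (by
    intro s z
    change φ (toTe F M (s • z)) = eFR F s • φ (toTe F M z)
    rw [toTe_smul, map_smul])
  have h3 : (I.map (algebraMap R (FR F))).map ((eFR F : FR F ≃+* R) : FR F →+* R) = I.map F := by
    rw [Ideal.map_map]
    rfl
  rw [h3] at h2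
  exact h2

/-- iterating -/
theorem exists_isQB_iterate [IsNoetherianRing R] (hF : F.Flat) (φ : T F M ≃ₗ[R] M) {ι : Type w}
    (I : Ideal R) (v : ι → M) (h : IsQB I v) (e : ℕ) :
    ∃ v' : ι → M, IsQB ((fun J : Ideal R => J.map F)^[e] I) v' := by
  induction e with
  | zero => exact ⟨v, h⟩
  | succ e ih =>
    obtain ⟨v', hv'⟩ := ih
    obtain ⟨n, a, ha⟩ := Submodule.fg_iff_exists_fin_generating_family.mp
      (IsNoetherian.noetherian ((fun J : Ideal R => J.map F)^[e] I))
    rw [Function.iterate_succ_apply']
    exact ⟨_, hv'.pullback_step hF φ a ha.symm⟩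

end

end Groth.Agent.Helper20.Fs
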