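import Mathlib
import Groth.Prelude
import Groth.Agent.Lib.Helper20.FsA

/-!
# Free torsion parts over a self-injective quotient fill up the torsion of the hull (helper20)
-/

set_option autoImplicit false
set_option linter.style.haveILetI false

universe u

open IsLocalRing

namespace Groth.Agent.Helper20.Fs

theorem torsionBySet_le_of_baer {R : Type u} [CommRing R] [IsLocalRing R] [IsNoetherianRing R]
    (J : Ideal R) (hJ : Module.Baer (R ⧸ J) (R ⧸ J))
    {E' : Type u} [AddCommGroup E'] [Module R E']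
    (hsoc : ∀ N : Submodule R E', N ≠ ⊥ → ∃ y ∈ N, y ≠ 0 ∧ ∀ a ∈ maximalIdeal R, a • y = 0)
    (M' : Submodule R E') (hM' : ∀ y : E', (∀ a ∈ maximalIdeal R, a • y = 0) → y ∈ M')
    {ι : Type u} (g : ↥(M' ⊓ Submodule.torsionBySet R E' (J : Set R)) ≃ₗ[R] (ι →₀ R ⧸ J)) :
    Submodule.torsionBySet R E' (J : Set R) ≤ M' := by
  classical
  set X : Submodule R E' := Submodule.torsionBySet R E' (J : Set R) with hX
  have hNinj : Module.Injective (R ⧸ J) (ι →₀ R ⧸ J) :=
    injective_finsupp (Module.Baer.injective hJ) ι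
  let inc : (ι →₀ R ⧸ J) →ₗ[R] X :=
    (Submodule.inclusion (inf_le_right : M' ⊓ X ≤ X)) ∘ₗ g.symm.toLinearMap
  have hinc : Function.Injective inc := by
    intro a b hab
    apply g.symm.injective
    exact Submodule.inclusion_injective (inf_le_right : M' ⊓ X ≤ X) hab
  let inc' : (ι →₀ R ⧸ J) →ₗ[R ⧸ J] X :=
    inc.extendScalarsOfSurjective Ideal.Quotient.mk_surjective
  obtain ⟨r', hr'⟩ := Module.Injective.extension_property (R ⧸ J) (ι →₀ R ⧸ J) (ι →₀ R ⧸ J) X
    inc' hinc LinearMap.id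
  have hr'inc : ∀ n, r' (inc n) = n := fun n => LinearMap.congr_fun hr' n
  intro y hy
  let yX : X := ⟨y, hy⟩
  let u : X := yX - inc (r' yX)
  have hru : r' u = 0 := by
    change r' (yX - inc (r' yX)) = 0
    rw [map_sub, hr'inc, sub_self]
  have hu0 : u = 0 := by
    by_contra hne
    have hspan : Submodule.span R {(u : E')} ≠ ⊥ := by
      rw [Ne, Submodule.span_singleton_eq_bot]
      intro h0
      exact hne (Subtype.ext h0)
    obtain ⟨s, hs, hs0, hsm⟩ := hsoc _ hspan
    obtain ⟨c, rfl⟩ := Submodule.mem_span_singleton.mp hs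
    have hsM : c • (u : E') ∈ M' ⊓ X :=
      ⟨hM' _ hsm, X.smul_mem c u.2⟩
    have h1 : inc (g ⟨c • (u : E'), hsM⟩) = c • u := by
      apply Subtype.ext
      change ((g.symm (g ⟨c • (u : E'), hsM⟩) : ↥(M' ⊓ X)) : E') = c • (u : E')
      rw [LinearEquiv.symm_apply_apply]
    have h2 : r' (c • u) = 0 := by
      have : c • u = (Ideal.Quotient.mk J c) • u := rfl
      rw [this, map_smul, hru, smul_zero]
    have h3 : g ⟨c • (u : E'), hsM⟩ = 0 := by
      rw [← hr'inc (g ⟨c • (u : E'), hsM⟩), h1, h2]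
    rw [LinearEquiv.map_eq_zero_iff] at h3
    exact hs0 (congrArg Subtype.val h3)
  have hy' : yX = inc (r' yX) := sub_eq_zero.mp hu0
  have : y = ((g.symm (r' yX) : ↥(M' ⊓ X)) : E') := congrArg Subtype.val hy'
  rw [this]
  exact (g.symm (r' yX)).2.1

end Groth.Agent.Helper20.Fs
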