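import Mathlib
import Groth.Prelude
import Groth.Agent.Lib.Helper12.Liaison3
import Groth.Agent.Lib.Lead.Depth2
import Groth.Agent.Lib.Helper20.Link4

/-!
# Quotients of a regular local ring by powers of a regular system of parameters are self-injective
(helper20)
-/

set_option autoImplicit false
set_option linter.style.haveILetI false

universe u

open IsLocalRing

namespace Groth.Agent.Helper20.Fs

theorem ofList_ofFn' {R : Type*} [CommRing R] {n : ℕ} (f : Fin n → R) :
    Ideal.ofList (List.ofFn f) = Ideal.span (Set.range f) := by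
  unfold Ideal.ofList
  congr 1
  ext y
  simp [List.mem_ofFn]

theorem baer_quot_pow {R : Type u} [CommRing R] [IsRegularLocalRing R] (J : Ideal R) {r : ℕ}
    (x : Fin r → R) (hx : Ideal.span (Set.range x) = maximalIdeal R)
    (hr : r = (maximalIdeal R).spanFinrank) (q : ℕ) (hq : 0 < q)
    (hJ : J = Ideal.span (Set.range fun k => x k ^ q)) : Module.Baer (R ⧸ J) (R ⧸ J) := by
  classical
  haveI : LocCoh.IsGorensteinLocalRing R :=
    Groth.Agent.Lead.Depth.isGorensteinLocalRing_of_isRegularLocalRing R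
  have hxm : ∀ k, x k ∈ maximalIdeal R := fun k => by
    rw [← hx]; exact Ideal.subset_span ⟨k, rfl⟩
  have hJm : J ≤ maximalIdeal R := by
    rw [hJ, Ideal.span_le]
    rintro _ ⟨k, rfl⟩
    exact Ideal.pow_mem_of_mem _ (hxm k) q hq
  have hmrad : maximalIdeal R ≤ J.radical := by
    rw [← hx, Ideal.span_le]
    rintro _ ⟨k, rfl⟩
    exact ⟨q, by rw [hJ]; exact Ideal.subset_span ⟨k, rfl⟩⟩
  have hmin : ∀ P ∈ J.minimalPrimes, P = maximalIdeal R := by
    intro P hP
    have hPprime : P.IsPrime := hP.1.1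
    have hJP : J ≤ P := hP.1.2
    apply le_antisymm (le_maximalIdeal hPprime.ne_top)
    exact hmrad.trans (hPprime.radical_le_iff.mpr hJP)
  have hJne : J ≠ ⊤ := fun h => (maximalIdeal.isMaximal R).ne_top (top_le_iff.mp (h ▸ hJm))
  have hmmem : maximalIdeal R ∈ J.minimalPrimes := by
    obtain ⟨P, hP⟩ := Ideal.nonempty_minimalPrimes hJne
    rw [← hmin P hP]
    exact hP
  let rs : List R := List.ofFn (fun k => x k ^ q)
  have hrs : Ideal.ofList rs = J := by rw [hJ]; exact ofList_ofFn' _
  have hmem : ∀ a ∈ rs, a ∈ maximalIdeal R := by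
    intro a ha
    obtain ⟨k, rfl⟩ := (List.mem_ofFn' _ _).mp ha
    exact Ideal.pow_mem_of_mem _ (hxm k) q hq
  have hht : (rs.length : ℕ∞) ≤ (Ideal.ofList rs).height := by
    rw [hrs, List.length_ofFn, Ideal.height_eq_inf_minimalPrimes]
    refine le_iInf₂ fun P hP => ?_
    rw [hmin P hP]
    have h1 : ((maximalIdeal R).height : WithBot ℕ∞) = ringKrullDim R :=
      IsLocalRing.maximalIdeal_height_eq_ringKrullDim
    have h2 : ringKrullDim R = ((maximalIdeal R).spanFinrank : ℕ) :=
      (IsRegularLocalRing.spanFinrank_maximalIdeal (R := R)).symm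
    rw [h2] at h1
    have h3 : (maximalIdeal R).height = ((maximalIdeal R).spanFinrank : ℕ∞) := by
      exact_mod_cast h1
    rw [h3, hr]
  haveI hG : LocCoh.IsGorensteinLocalRing (R ⧸ Ideal.ofList rs) :=
    Groth.Agent.Helper20.Link.gor_quot_of_height R rs hmem hht
  haveI hG' : LocCoh.IsGorensteinLocalRing (R ⧸ J) := by
    rw [← hrs]; exact hG
  haveI : IsArtinianRing (R ⧸ J) :=
    IsLocalRing.quotient_artinian_of_mem_minimalPrimes_of_isLocalRing J hmmem
  haveI : Nontrivial (R ⧸ J) := Ideal.Quotient.nontrivial_iff.mpr hJne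
  have hdim : ringKrullDim (R ⧸ J) = 0 :=
    ringKrullDimZero_iff_ringKrullDim_eq_zero.mp inferInstance
  exact Groth.Agent.Helper12.Liaison.baer_of_gorenstein_dim_zero hdim

/-- the iterated Frobenius powers of the maximal ideal -/
theorem iterate_map_frobenius {R : Type u} [CommRing R] (p : ℕ) [Fact p.Prime] [CharP R p]
    {r : ℕ} (x : Fin r → R) (e : ℕ) :
    (fun J : Ideal R => J.map (frobenius R p))^[e] (Ideal.span (Set.range x)) =
      Ideal.span (Set.range fun k => x k ^ p ^ e) := by
  induction e with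
  | zero => simp
  | succ e ih =>
    rw [Function.iterate_succ_apply', ih, Ideal.map_span]
    congr 1
    ext y
    constructor
    · rintro ⟨_, ⟨k, rfl⟩, rfl⟩
      exact ⟨k, by rw [frobenius_def, ← pow_mul, ← pow_succ]⟩
    · rintro ⟨k, rfl⟩
      exact ⟨x k ^ p ^ e, ⟨k, rfl⟩, by rw [frobenius_def, ← pow_mul, ← pow_succ]⟩

end Groth.Agent.Helper20.Fs
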