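import Groth.Agent.Lib.Helper20.KunzB
import Groth.Agent.Lib.Lead.NFReg
import Groth.Agent.Lib.Lead.RLR2
import Groth.Agent.Lib.Helper9.RegPow

/-!
# Kunz's theorem, `regular ⇒ Frobenius flat` (helper20)
-/

set_option autoImplicit false
universe u

namespace Groth.Agent.Helper20.Kunz

open Function IsLocalRing Groth.Agent.Helper12.HK RingTheory.Sequence TensorProduct

section

variable {R : Type u} [CommRing R] (p : ℕ) [Fact p.Prime] [CharP R p]

instance [IsNoetherianRing R] (j : ℕ) : IsNoetherianRing (FC R p j) :=
  inferInstanceAs (IsNoetherianRing R)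

theorem algebraMap_FC (j : ℕ) (a : R) : algebraMap R (FC R p j) a = (a ^ p ^ j : R) :=
  iterateFrobenius_def p j a

theorem rTensor_transport {N : Type u} [AddCommGroup N] [Module R N] (I J : Ideal R) (h : I = J)
    (hI : Injective (I.subtype.rTensor N)) : Injective (J.subtype.rTensor N) := by
  subst h; exact hI

end

section Local

variable {R : Type u} [CommRing R] [IsRegularLocalRing R] (p : ℕ) [Fact p.Prime] [CharP R p]

/-- **Kunz**: the Frobenius of a regular local ring of characteristic `p` is flat. -/
theorem flat_frobenius_of_isRegularLocalRing : (frobenius R p).Flat := by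
  obtain ⟨s, hs, hspan⟩ := Submodule.FG.exists_span_finset_card_eq_spanFinrank
    (IsNoetherian.noetherian (maximalIdeal R))
  set r := (maximalIdeal R).spanFinrank with hr
  let x : Fin r → R := fun i => ((s.equivFin.symm (Fin.cast hs.symm i) : s) : R)
  have hrange : Set.range x = (s : Set R) := by
    ext z
    constructor
    · rintro ⟨i, rfl⟩
      exact (s.equivFin.symm (Fin.cast hs.symm i)).2
    · intro hz
      refine ⟨Fin.cast hs (s.equivFin ⟨z, hz⟩), ?_⟩
      simp [x]
  have hx : Ideal.span (Set.range x) = maximalIdeal R := by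
    rw [hrange]; exact hspan
  have hreg : IsWeaklyRegular R (List.ofFn x) :=
    Groth.Agent.Lead.RLR.isWeaklyRegular_aux r R x rfl hx
  -- powers
  have hpow : IsWeaklyRegular R ((List.ofFn x).map (fun a => a ^ p ^ 1)) := by
    have h1 := Groth.Agent.Helper9.RegPow.isWeaklyRegular_pow_list
      ((List.ofFn x).map (fun a => (a, p ^ 1)))
      (by
        intro q hq
        obtain ⟨a, -, rfl⟩ := List.mem_map.mp hq
        exact Nat.pos_of_ne_zero (pow_ne_zero _ (Fact.out : p.Prime).ne_zero)) R
      (by
        rw [List.map_map]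
        have : (Prod.fst ∘ fun a : R => (a, p ^ 1)) = id := rfl
        rw [this, List.map_id]
        exact hreg)
    rw [List.map_map] at h1
    exact h1
  -- transfer to the Frobenius copy
  have hFC : IsWeaklyRegular (FC R p 1) (List.ofFn x) := by
    rw [← isWeaklyRegular_map_algebraMap_iff (FC R p 1) (FC R p 1) (List.ofFn x)]
    have hlist : (List.ofFn x).map (algebraMap R (FC R p 1)) =
        (List.ofFn x).map (fun a => (a ^ p ^ 1 : R)) :=
      List.map_congr_left fun a _ => algebraMap_FC p 1 a
    rw [hlist]
    exact hpow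
  have H0 := Groth.Agent.Lead.NFReg.rTensor_injective_of_isWeaklyRegular (B := R)
    (N := FC R p 1) (List.ofFn x) hFC
  have hI : Ideal.ofList (List.ofFn x) = maximalIdeal R := by
    rw [← hx]
    unfold Ideal.ofList
    congr 1
    ext z
    simp only [Set.mem_setOf_eq, List.mem_ofFn, Set.mem_range]
  have H1 : Injective ((maximalIdeal R).subtype.rTensor (FC R p 1)) :=
    rTensor_transport _ _ hI H0
  haveI H2 : Module.Flat (R ⧸ maximalIdeal R) ((R ⧸ maximalIdeal R) ⊗[R] FC R p 1) :=
    (inferInstance : Module.Flat (ResidueField R) ((ResidueField R) ⊗[R] FC R p 1))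
  have hflat : Module.Flat R (FC R p 1) := by
    refine Groth.Agent.Helper1.flat_of_flat_quotient_pow (R := R) (S := FC R p 1)
      (M := FC R p 1) (maximalIdeal R) ?_
      (fun n _ => Groth.Agent.Helper1.flat_quotient_pow (maximalIdeal R) H1 n)
    rw [IsLocalRing.jacobson_eq_maximalIdeal ⊥ bot_ne_top, Ideal.map_le_iff_le_comap]
    intro a ha
    rw [Ideal.mem_comap, algebraMap_FC]
    show (a ^ p ^ 1 : R) ∈ maximalIdeal R
    exact Ideal.pow_mem_of_mem _ ha _ (Nat.pos_of_ne_zero (pow_ne_zero _ (Fact.out : p.Prime).ne_zero))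
  have h : (iterateFrobenius R p 1).Flat := hflat
  rwa [iterateFrobenius_one] at h

end Local

end Groth.Agent.Helper20.Kunz
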