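import Mathlib
import Groth.Prelude
import Groth.Agent.Lib.Helper20.FsA
import Groth.Agent.Lib.Helper20.FsD
import Groth.Agent.Lib.Helper20.FsE
import Groth.Agent.Lib.Helper20.FsF
import Groth.Agent.Lib.Helper20.KunzC

/-!
# Frobenius-stable power torsion modules over regular local rings are sums of copies of `E`
(helper20)
-/

set_option autoImplicit false
set_option linter.style.haveILetI false

universe u

open IsLocalRing LocCoh

namespace Groth.Agent.Helper20.Fs

open Groth.Agent.Helper29.FrobFree

theorem exists_fin_generators {R : Type u} [CommRing R] [IsLocalRing R] [IsNoetherianRing R] :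
    ∃ x : Fin (maximalIdeal R).spanFinrank → R, Ideal.span (Set.range x) = maximalIdeal R := by
  classical
  obtain ⟨s, hs, hspan⟩ := Submodule.FG.exists_span_finset_card_eq_spanFinrank
    (IsNoetherian.noetherian (maximalIdeal R))
  let x : Fin (maximalIdeal R).spanFinrank → R :=
    fun i => ((s.equivFin.symm (Fin.cast hs.symm i) : s) : R)
  have hrange : Set.range x = (s : Set R) := by
    ext z
    constructor
    · rintro ⟨i, rfl⟩
      exact (s.equivFin.symm (Fin.cast hs.symm i)).2
    · intro hz
      refine ⟨Fin.cast hs (s.equivFin ⟨z, hz⟩), ?_⟩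
      simp [x]
  exact ⟨x, by rw [hrange]; exact hspan⟩

/-- the restriction of an embedding to torsion parts -/
theorem nonempty_torsion_equiv {R : Type u} [CommRing R] {M E' : Type u} [AddCommGroup M]
    [Module R M] [AddCommGroup E'] [Module R E'] (j : M →ₗ[R] E') (hj : Function.Injective j)
    (J : Ideal R) :
    Nonempty (Submodule.torsionBySet R M (J : Set R) ≃ₗ[R]
      ↥(LinearMap.range j ⊓ Submodule.torsionBySet R E' (J : Set R))) := by
  let jr : Submodule.torsionBySet R M (J : Set R) →ₗ[R]
      ↥(LinearMap.range j ⊓ Submodule.torsionBySet R E' (J : Set R)) :=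
    LinearMap.codRestrict _ (j ∘ₗ (Submodule.torsionBySet R M (J : Set R)).subtype) (by
      intro z
      refine ⟨LinearMap.mem_range_self j _, ?_⟩
      change _ ∈ Submodule.torsionBySet R E' (J : Set R)
      rw [Submodule.mem_torsionBySet_iff]
      intro a
      rw [LinearMap.comp_apply, Submodule.subtype_apply, ← map_smul,
        (Submodule.mem_torsionBySet_iff _ _).mp z.2 a, map_zero])
  refine ⟨LinearEquiv.ofBijective jr ⟨?_, ?_⟩⟩
  · intro a b hab
    apply Subtype.ext
    apply hj
    exact congrArg (fun t : ↥(LinearMap.range j ⊓ Submodule.torsionBySet R E' (J : Set R)) =>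
      (t : E')) hab
  · rintro ⟨y, ⟨z, rfl⟩, hy⟩
    have hz : z ∈ Submodule.torsionBySet R M (J : Set R) := by
      rw [Submodule.mem_torsionBySet_iff]
      intro a
      apply hj
      rw [map_smul, map_zero]
      exact (Submodule.mem_torsionBySet_iff _ _).mp hy a
    exact ⟨⟨z, hz⟩, Subtype.ext rfl⟩

theorem main (p : ℕ) [Fact p.Prime] (R : Type u) [CommRing R] [IsRegularLocalRing R] [CharP R p]
    (E : Type u) [AddCommGroup E] [Module R E] (f : ResidueField R →ₗ[R] E)
    (hf : InjHull.IsInjectiveHull f) (M : Type u) [AddCommGroup M] [Module R M]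
    (hM : IsPowerTorsion (maximalIdeal R) M)
    (φ : T (frobenius R p) M ≃ₗ[R] M) : ∃ ι : Type u, Nonempty (M ≃ₗ[R] (ι →₀ E)) := by
  classical
  have hF : (frobenius R p).Flat :=
    Groth.Agent.Helper20.Kunz.flat_frobenius_of_isRegularLocalRing p
  obtain ⟨x, hx⟩ := exists_fin_generators (R := R)
  obtain ⟨ι₀, j, hj, hsoc⟩ := exists_embedding_finsupp f hf M hM
  have htors : IsPowerTorsion (maximalIdeal R) (ι₀ →₀ E) :=
    isPowerTorsion_finsupp _ (Groth.Agent.Helper8.Matlis.isPowerTorsion hf.toIsEssentialInj) ι₀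
  -- base quotient basis
  let _ : Field (R ⧸ maximalIdeal R) := Ideal.Quotient.field (maximalIdeal R)
  let V : Submodule R M := Submodule.torsionBySet R M (maximalIdeal R : Set R)
  let ι : Type u := ↥(Module.Basis.ofVectorSpaceIndex (R ⧸ maximalIdeal R) V)
  let b : Module.Basis ι (R ⧸ maximalIdeal R) V := Module.Basis.ofVectorSpace _ _
  have hQB0 := IsQB.of_equiv (b.repr.restrictScalars R)
  -- surjectivity
  have hsurj : Function.Surjective j := by
    intro y
    obtain ⟨n, hn⟩ := htors y
    obtain ⟨v', hv'⟩ := exists_isQB_iterate hF φ (maximalIdeal R) _ hQB0 n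
    have hJ := iterate_map_frobenius p x n
    rw [hx] at hJ
    set J : Ideal R := (fun J : Ideal R => J.map (frobenius R p))^[n] (maximalIdeal R) with hJdef
    have hbaer : Module.Baer (R ⧸ J) (R ⧸ J) :=
      baer_quot_pow J x hx rfl (p ^ n) (pow_pos (Fact.out : p.Prime).pos n) hJ
    obtain ⟨g, -⟩ := hv'.exists_equiv
    obtain ⟨g'⟩ := nonempty_torsion_equiv j hj J
    have hle := torsionBySet_le_of_baer J hbaer
      (fun N hN => exists_socle_mem_finsupp f hf ι₀ N hN) (LinearMap.range j) hsoc
      (g'.symm.trans g)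
    apply hle
    rw [Submodule.mem_torsionBySet_iff]
    intro a
    apply hn
    have hJle : J ≤ maximalIdeal R ^ n := by
      rw [hJ, Ideal.span_le]
      rintro _ ⟨k, rfl⟩
      have hxk : x k ∈ maximalIdeal R := by
        rw [← hx]; exact Ideal.subset_span ⟨k, rfl⟩
      exact Ideal.pow_le_pow_right (Nat.lt_pow_self (Fact.out : p.Prime).one_lt).le
        (Ideal.pow_mem_pow hxk _)
    exact hJle a.2
  exact ⟨ι₀, ⟨LinearEquiv.ofBijective j ⟨hj, hsurj⟩⟩⟩

end Groth.Agent.Helper20.Fs
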