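import Mathlib
import Groth.Prelude.Def_PolLaw
import Groth.Agent.Lib.Helper20.PLRed

universe u

open scoped TensorProduct

namespace Groth.Agent.Helper20.PLQuot

open PolLaw Groth.Agent.Helper20.PLKer

variable {A : Type u} [CommRing A] {B B' E : Type u} [CommRing B] [Algebra A B]
  [CommRing B'] [Algebra A B'] [CommRing E] [Algebra A E]

theorem toFun_add_ker (F : B →ₚₗ[A] E) (π : B →ₐ[A] B') (h : RingHom.ker π ≤ PolLaw.ker F)
    (S : Type u) [CommSemiring S] [Algebra A S]
    (u : S ⊗[A] (LinearMap.ker π.toLinearMap)) : ∀ (z : S ⊗[A] B),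
    F.toFun' S (z + (LinearMap.ker π.toLinearMap).subtype.lTensor S u) = F.toFun' S z := by
  induction u using TensorProduct.induction_on with
  | zero => intro z; simp
  | tmul s b =>
    intro z
    have hb : (b : B) ∈ PolLaw.ker F := h (by
      have := b.2
      rw [LinearMap.mem_ker] at this
      exact this)
    have := hb S z (s ⊗ₜ 1)
    rw [LinearMap.lTensor_tmul]
    simpa [Algebra.TensorProduct.tmul_mul_tmul] using this
  | add u v hu hv => intro z; rw [map_add, ← add_assoc, hv, hu]

theorem toFun_eq_of_map_eq (F : B →ₚₗ[A] E) (π : B →ₐ[A] B') (hπ : Function.Surjective π)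
    (h : RingHom.ker π ≤ PolLaw.ker F)
    (S : Type u) [CommSemiring S] [Algebra A S] (z₁ z₂ : S ⊗[A] B)
    (hz : π.toLinearMap.lTensor S z₁ = π.toLinearMap.lTensor S z₂) :
    F.toFun' S z₁ = F.toFun' S z₂ := by
  letI : AddCommGroup S := Module.addCommMonoidToAddCommGroup A
  have hex : Function.Exact ((LinearMap.ker π.toLinearMap).subtype.lTensor S)
      (π.toLinearMap.lTensor S) :=
    lTensor_exact S (LinearMap.exact_subtype_ker_map π.toLinearMap) hπ
  have h0 : π.toLinearMap.lTensor S (z₁ - z₂) = 0 := by rw [map_sub, hz, sub_self]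
  obtain ⟨u, hu⟩ := (hex _).1 h0
  have h1 : z₁ = z₂ + (LinearMap.ker π.toLinearMap).subtype.lTensor S u := by
    rw [hu]; abel
  rw [h1]
  exact toFun_add_ker F π h S u z₂

theorem lsurj (π : B →ₐ[A] B') (hπ : Function.Surjective π) (S : Type u) [CommSemiring S]
    [Algebra A S] : Function.Surjective (π.toLinearMap.lTensor S) :=
  LinearMap.lTensor_surjective S (g := π.toLinearMap) hπ

/-- the law induced on a quotient `B'` of `B` by a law whose kernel contains `ker π` -/
noncomputable def descend (F : B →ₚₗ[A] E) (π : B →ₐ[A] B') (hπ : Function.Surjective π)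
    (h : RingHom.ker π ≤ PolLaw.ker F) : B' →ₚₗ[A] E where
  toFun' S _ _ z' := F.toFun' S (Function.surjInv (lsurj π hπ S) z')
  isCompat' {S} _ _ {S'} _ _ φ := by
    funext z'
    simp only [Function.comp_apply]
    rw [PolynomialLaw.isCompat_apply']
    apply toFun_eq_of_map_eq F π hπ h
    rw [Function.surjInv_eq (lsurj π hπ S'), ← LinearMap.comp_apply,
      LinearMap.lTensor_comp_rTensor,
      ← LinearMap.rTensor_comp_lTensor, LinearMap.comp_apply, Function.surjInv_eq (lsurj π hπ S)]

theorem descend_apply (F : B →ₚₗ[A] E) (π : B →ₐ[A] B') (hπ : Function.Surjective π)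
    (h : RingHom.ker π ≤ PolLaw.ker F) (S : Type u) [CommSemiring S] [Algebra A S]
    (z : S ⊗[A] B) :
    (descend F π hπ h).toFun' S (π.toLinearMap.lTensor S z) = F.toFun' S z := by
  show F.toFun' S _ = _
  apply toFun_eq_of_map_eq F π hπ h
  rw [Function.surjInv_eq (lsurj π hπ S)]

theorem precomp_descend (F : B →ₚₗ[A] E) (π : B →ₐ[A] B') (hπ : Function.Surjective π)
    (h : RingHom.ker π ≤ PolLaw.ker F) :
    PolLaw.precomp (descend F π hπ h) π.toLinearMap = F := by
  ext S _ _ z
  exact descend_apply F π hπ h S z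

/-- the descended multiplicative law -/
noncomputable def descendMul {d : ℕ} (F : MulLaw A B E d) (π : B →ₐ[A] B')
    (hπ : Function.Surjective π) (h : RingHom.ker π ≤ PolLaw.ker F.law) : MulLaw A B' E d where
  law := descend F.law π hπ h
  homog S _ _ s z' := by
    obtain ⟨z, rfl⟩ := LinearMap.lTensor_surjective S (g := π.toLinearMap) hπ z'
    have h1 : s • π.toLinearMap.lTensor S z = π.toLinearMap.lTensor S (s • z) := by
      rw [lTensor_algHom_apply, lTensor_algHom_apply, map_smul]
    rw [h1, descend_apply, descend_apply, F.homog S s z]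
  mult S _ _ := by
    refine ⟨?_, fun x' y' => ?_⟩
    · have h1 : (1 : S ⊗[A] B') = π.toLinearMap.lTensor S 1 := by
        rw [lTensor_algHom_apply, map_one]
      rw [h1, descend_apply, (F.mult S).1]
    · obtain ⟨x, rfl⟩ := LinearMap.lTensor_surjective S (g := π.toLinearMap) hπ x'
      obtain ⟨y, rfl⟩ := LinearMap.lTensor_surjective S (g := π.toLinearMap) hπ y'
      have h1 : π.toLinearMap.lTensor S x * π.toLinearMap.lTensor S y =
          π.toLinearMap.lTensor S (x * y) := by
        rw [lTensor_algHom_apply, lTensor_algHom_apply, lTensor_algHom_apply, map_mul]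
      rw [h1, descend_apply, descend_apply, descend_apply, (F.mult S).2]

/-- two laws on `B'` agreeing after precomposition with a surjection agree -/
theorem law_ext_of_surjective (F₁ F₂ : B' →ₚₗ[A] E) (π : B →ₐ[A] B')
    (hπ : Function.Surjective π)
    (h : PolLaw.precomp F₁ π.toLinearMap = PolLaw.precomp F₂ π.toLinearMap) : F₁ = F₂ := by
  ext S _ _ z'
  obtain ⟨z, rfl⟩ := LinearMap.lTensor_surjective S (g := π.toLinearMap) hπ z'
  have := congrArg (fun G => PolynomialLaw.toFun' G S z) h
  exact this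

/-- `Γ^d` of a surjection is a surjection -/
theorem surjective_of_gammaD {C C' : Type u} [CommRing C] [Algebra A C] [CommRing C']
    [Algebra A C'] {d : ℕ}
    (γ : MulLaw A B C d) (γ' : MulLaw A B' C' d) (hγ' : IsGammaD γ')
    (π : B →ₐ[A] B') (hπ : Function.Surjective π) (φ : C →ₐ[A] C')
    (hφ : PolLaw.postcomp φ.toLinearMap γ.law = (γ'.precomp π).law) :
    Function.Surjective φ := by
  let K : Ideal C := RingHom.ker φ
  let q : C →ₐ[A] C ⧸ K := Ideal.Quotient.mkₐ A K
  let φ' : C ⧸ K →ₐ[A] C' := Ideal.Quotient.liftₐ K φ (fun a ha => ha)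
  have hφ'inj : Function.Injective φ' := by
    intro x y hxy
    obtain ⟨x, rfl⟩ := Ideal.Quotient.mk_surjective x
    obtain ⟨y, rfl⟩ := Ideal.Quotient.mk_surjective y
    have h1 : φ x = φ y := hxy
    rw [Ideal.Quotient.eq]
    show x - y ∈ RingHom.ker φ
    rw [RingHom.mem_ker, map_sub, h1, sub_self]
  have hφ'q : φ'.comp q = φ := AlgHom.ext (fun c => rfl)
  have hfac : ∀ (S : Type u) [CommSemiring S] [Algebra A S] (y : S ⊗[A] B),
      φ'.toLinearMap.lTensor S ((γ.postcomp q).law.toFun' S y) =
        γ'.law.toFun' S (π.toLinearMap.lTensor S y) := by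
    intro S _ _ y
    have := congrArg (fun G => PolynomialLaw.toFun' G S y) hφ
    show φ'.toLinearMap.lTensor S (q.toLinearMap.lTensor S (γ.law.toFun' S y)) = _
    rw [← LinearMap.comp_apply, ← LinearMap.lTensor_comp, ← AlgHom.comp_toLinearMap, hφ'q]
    exact this
  let F : MulLaw A B (C ⧸ K) d := γ.postcomp q
  have hker : RingHom.ker π ≤ PolLaw.ker F.law := by
    intro b hb
    apply Groth.Agent.Helper20.PLKer.mem_ker_of_mvPolynomial
    intro σ x w
    have hinj : Function.Injective (φ'.toLinearMap.lTensor (MvPolynomial σ A)) :=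
      Module.Flat.lTensor_preserves_injective_linearMap _ hφ'inj
    apply hinj
    rw [hfac, hfac]
    congr 1
    rw [map_add, lTensor_algHom_apply _ _ (w * _), map_mul, Algebra.TensorProduct.map_tmul,
      (RingHom.mem_ker.1 hb : π b = 0), TensorProduct.tmul_zero, mul_zero, add_zero]
  let γ₁ : MulLaw A B' (C ⧸ K) d := descendMul F π hπ hker
  obtain ⟨ψ, hψ, -⟩ := hγ' (C ⧸ K) γ₁
  have h1 : PolLaw.postcomp (φ'.comp ψ).toLinearMap γ'.law = γ'.law := by
    apply law_ext_of_surjective _ _ π hπ
    ext S _ _ z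
    show (φ'.comp ψ).toLinearMap.lTensor S (γ'.law.toFun' S (π.toLinearMap.lTensor S z)) =
      γ'.law.toFun' S (π.toLinearMap.lTensor S z)
    have h2 := congrArg (fun G => PolynomialLaw.toFun' G S (π.toLinearMap.lTensor S z)) hψ
    have h3 : ψ.toLinearMap.lTensor S (γ'.law.toFun' S (π.toLinearMap.lTensor S z)) =
        F.law.toFun' S z := by
      refine h2.trans ?_
      exact descend_apply F.law π hπ hker S z
    rw [AlgHom.comp_toLinearMap, LinearMap.lTensor_comp, LinearMap.comp_apply, h3, hfac]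
  have h2 : PolLaw.postcomp (AlgHom.id A C').toLinearMap γ'.law = γ'.law := by
    ext S _ _ z
    show (AlgHom.id A C').toLinearMap.lTensor S _ = _
    simp
  have h3 : φ'.comp ψ = AlgHom.id A C' := (hγ' C' γ').unique h1 h2
  intro c'
  obtain ⟨c, hc⟩ := Ideal.Quotient.mk_surjective (ψ c')
  refine ⟨c, ?_⟩
  have h4 : φ' (ψ c') = c' := congrArg (fun f : C' →ₐ[A] C' => f c') h3
  rw [← h4, ← hc]
  rfl

end Groth.Agent.Helper20.PLQuot
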