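import Mathlib
import Groth.Agent.Lib.Helper20.CHBridge
import Groth.Agent.Lib.Helper20.PLQuot

set_option autoImplicit false
universe u v w
open scoped TensorProduct
open MvPolynomial

namespace Groth.Agent.Helper20.GD
open Groth.Agent.Helper20.PLKer Groth.Agent.Helper20.CHConc

variable {A : Type u} [CommRing A] {E : Type u} [CommRing E] [Algebra A E]

section eMvG
variable (A E) (ι : Type v)

/-- `A[T_i : i ∈ ι] ⊗ E ≃ E[T_i : i ∈ ι]` -/
noncomputable def eMvG : MvPolynomial ι A ⊗[A] E ≃ₐ[A] MvPolynomial ι E :=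
  (Algebra.TensorProduct.comm A (MvPolynomial ι A) E).trans
    ((MvPolynomial.algebraTensorAlgEquiv A E).restrictScalars A)

variable {A E ι}

theorem eMvG_symm_monomial (α : ι →₀ ℕ) (b : E) :
    (eMvG A E ι).symm (monomial α b) = (monomial α (1 : A)) ⊗ₜ[A] b := by
  unfold eMvG
  rw [AlgEquiv.symm_trans_apply]
  show (Algebra.TensorProduct.comm A (MvPolynomial ι A) E).symm
    ((MvPolynomial.algebraTensorAlgEquiv A E).symm (monomial α b)) = _
  rw [MvPolynomial.algebraTensorAlgEquiv_symm_monomial]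
  rfl

theorem eMvG_tmul (p : MvPolynomial ι A) (e : E) :
    eMvG A E ι (p ⊗ₜ[A] e) = e • MvPolynomial.map (algebraMap A E) p := by
  unfold eMvG
  show (MvPolynomial.algebraTensorAlgEquiv A E) (e ⊗ₜ[A] p) = _
  rw [algebraTensorAlgEquiv_tmul]

theorem eq_sum_tmul (z : MvPolynomial ι A ⊗[A] E) :
    z = ∑ α ∈ (eMvG A E ι z).support,
      (monomial α (1 : A)) ⊗ₜ[A] coeff α (eMvG A E ι z) := by
  have h1 : z = (eMvG A E ι).symm (eMvG A E ι z) := ((eMvG A E ι).symm_apply_apply z).symm
  conv_lhs => rw [h1, (eMvG A E ι z).as_sum]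
  rw [map_sum]
  refine Finset.sum_congr rfl (fun α _ => ?_)
  rw [eMvG_symm_monomial]

/-- representation of the image of an element under a change of the test algebra -/
theorem map_eq_sum {S : Type u} [CommSemiring S] [Algebra A S]
    (ψ : MvPolynomial ι A →ₐ[A] S) (z : MvPolynomial ι A ⊗[A] E) :
    Algebra.TensorProduct.map ψ (AlgHom.id A E) z =
      ∑ α ∈ (eMvG A E ι z).support, ψ (monomial α (1 : A)) ⊗ₜ[A] coeff α (eMvG A E ι z) := by
  conv_lhs => rw [eq_sum_tmul z]
  rw [map_sum]
  refine Finset.sum_congr rfl (fun α _ => ?_)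
  rw [Algebra.TensorProduct.map_tmul, AlgHom.id_apply]

/-- naturality of `eMvG` in the polynomial ring -/
theorem eMvG_map {κ : Type w} (ψ : MvPolynomial ι A →ₐ[A] MvPolynomial κ A)
    (z : MvPolynomial ι A ⊗[A] E) :
    eMvG A E κ (Algebra.TensorProduct.map ψ (AlgHom.id A E) z) =
      aeval (fun i => MvPolynomial.map (algebraMap A E) (ψ (X i))) (eMvG A E ι z) := by
  have : ((eMvG A E κ).toAlgHom).comp (Algebra.TensorProduct.map ψ (AlgHom.id A E)) =
      ((aeval (fun i => MvPolynomial.map (algebraMap A E) (ψ (X i))) :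
        MvPolynomial ι E →ₐ[E] MvPolynomial κ E).restrictScalars A).comp
        (eMvG A E ι).toAlgHom := by
    apply Algebra.TensorProduct.ext
    · apply MvPolynomial.algHom_ext
      intro i
      simp [eMvG_tmul]
    · refine AlgHom.ext (fun b => ?_)
      simp [eMvG_tmul, MvPolynomial.smul_eq_C_mul]
  exact DFunLike.congr_fun this z

theorem eMvG_smul (s : MvPolynomial ι A) (z : MvPolynomial ι A ⊗[A] E) :
    eMvG A E ι (s • z) = MvPolynomial.map (algebraMap A E) s * eMvG A E ι z := by
  have h1 : s • z = (s ⊗ₜ[A] (1 : E)) * z := by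
    induction z using TensorProduct.induction_on with
    | zero => simp
    | tmul t a => rw [TensorProduct.smul_tmul', Algebra.TensorProduct.tmul_mul_tmul, smul_eq_mul,
        one_mul]
    | add x y hx hy => rw [smul_add, mul_add, hx, hy]
  rw [h1, map_mul, eMvG_tmul, one_smul]

end eMvG


section lamO
variable {R : Type u} [CommSemiring R] {M : Type u}

/-- the exponent of the image of a monomial under the scaling substitution -/
noncomputable def scaleExp (β : M →₀ ℕ) : Option M →₀ ℕ :=
  β.mapDomain some + Finsupp.single none (β.sum fun _ n => n)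

theorem scaleExp_some (β : M →₀ ℕ) (ν : M) : scaleExp β (some ν) = β ν := by
  unfold scaleExp
  rw [Finsupp.add_apply, Finsupp.mapDomain_apply (Option.some_injective M),
    Finsupp.single_apply, if_neg (by simp), add_zero]

theorem scaleExp_none (β : M →₀ ℕ) : scaleExp β none = β.sum fun _ n => n := by
  unfold scaleExp
  rw [Finsupp.add_apply, Finsupp.mapDomain_of_notMem_range _ _ (by simp), Finsupp.single_apply,
    if_pos rfl, zero_add]

theorem scaleExp_injective : Function.Injective (scaleExp (M := M)) := by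
  intro β β' h
  ext ν
  rw [← scaleExp_some β ν, ← scaleExp_some β' ν, h]

theorem aeval_scale_monomial (β : M →₀ ℕ) (a : R) :
    aeval (fun ν : M => (X none * X (some ν) : MvPolynomial (Option M) R)) (monomial β a) =
      monomial (scaleExp β) a := by
  classical
  rw [aeval_monomial]
  unfold scaleExp
  have h1 : (monomial (β.mapDomain some + Finsupp.single none (β.sum fun _ n => n)) a :
      MvPolynomial (Option M) R) =
      monomial (β.mapDomain some) a * monomial (Finsupp.single none (β.sum fun _ n => n)) 1 := by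
    rw [monomial_mul, mul_one]
  rw [h1, ← X_pow_eq_monomial, monomial_eq (s := β.mapDomain some),
    Finsupp.prod_mapDomain_index_inj (Option.some_injective M)]
  simp only [mul_pow, Finsupp.prod_mul]
  have h2 : (β.prod fun _ n => (X none : MvPolynomial (Option M) R) ^ n) =
      X none ^ (β.sum fun _ n => n) := by
    unfold Finsupp.prod Finsupp.sum
    rw [Finset.prod_pow_eq_pow_sum]
  rw [h2, MvPolynomial.algebraMap_eq]
  ring

theorem coeff_aeval_scale (p : MvPolynomial M R) (α : M →₀ ℕ) :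
    coeff (scaleExp α)
      (aeval (fun ν : M => (X none * X (some ν) : MvPolynomial (Option M) R)) p) = coeff α p := by
  classical
  induction p using MvPolynomial.induction_on' with
  | monomial β a =>
    rw [aeval_scale_monomial, coeff_monomial, coeff_monomial]
    by_cases h : β = α
    · rw [if_pos h, if_pos (by rw [h])]
    · rw [if_neg h, if_neg (fun h' => h (scaleExp_injective h'))]
  | add p q hp hq => rw [map_add, coeff_add, hp, hq, coeff_add]

theorem coeff_pow_mul_rename (p : MvPolynomial M R) (α : M →₀ ℕ) (d : ℕ)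
    (h : (α.sum fun _ n => n) ≠ d) :
    coeff (scaleExp α) ((X none : MvPolynomial (Option M) R) ^ d * rename some p) = 0 := by
  classical
  rw [X_pow_eq_monomial, coeff_monomial_mul']
  split_ifs with h1
  · rw [one_mul]
    apply coeff_rename_eq_zero
    intro u hu
    exfalso
    have h2 := congrArg (fun f : Option M →₀ ℕ => f none) hu
    rw [Finsupp.mapDomain_of_notMem_range _ _ (by simp), Finsupp.tsub_apply, scaleExp_none,
      Finsupp.single_apply, if_pos rfl] at h2
    have h3 := h1 none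
    rw [Finsupp.single_apply, if_pos rfl, scaleExp_none] at h3
    omega
  · rfl

end lamO

section bridge
variable {σ : Type u} {d : ℕ}

/-- the value of the law on the generic element, as a polynomial over `E` -/
noncomputable def gE (F : MvPolynomial σ A →ₚₗ[A] E) (N : Finset (σ →₀ ℕ)) :
    MvPolynomial (σ →₀ ℕ) E := eMvG A E _ (F.toFun' _ (uN N))

/-- the coefficients of the law -/
noncomputable def cE (F : MvPolynomial σ A →ₚₗ[A] E) : ((σ →₀ ℕ) →₀ ℕ) → E :=
  fun α => coeff α (gE F α.support)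

theorem toFun_sum (F : MvPolynomial σ A →ₚₗ[A] E) {S : Type u} [CommSemiring S] [Algebra A S]
    (ψ : MvPolynomial (σ →₀ ℕ) A →ₐ[A] S) (N : Finset (σ →₀ ℕ)) :
    F.toFun' S (∑ ν ∈ N, ψ (X ν) ⊗ₜ[A] (monomial ν (1 : A))) =
      Algebra.TensorProduct.map ψ (AlgHom.id A E) (F.toFun' _ (uN N)) := by
  rw [← compat, map_uN]

theorem kap_gE (F : MvPolynomial σ A →ₚₗ[A] E) {N' N : Finset (σ →₀ ℕ)} (h : N' ⊆ N) :
    kap (A := E) N' (gE F N) = gE F N' := by
  classical
  have h0 : uN (A := A) (σ := σ) N' =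
      Algebra.TensorProduct.map (kap (A := A) N') (AlgHom.id A (MvPolynomial σ A)) (uN N) := by
    rw [map_uN]
    unfold uN
    have h1 : ∀ ν ∈ N, (kap (A := A) N' (X ν)) ⊗ₜ[A] (monomial ν (1 : A) : MvPolynomial σ A) =
        if ν ∈ N' then (X ν : MvPolynomial (σ →₀ ℕ) A) ⊗ₜ[A] (monomial ν (1 : A)) else 0 := by
      intro ν _
      unfold kap
      rw [aeval_X]
      split_ifs
      · rfl
      · rw [TensorProduct.zero_tmul]
    rw [Finset.sum_congr rfl h1, Finset.sum_ite_mem, Finset.inter_eq_right.2 h]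
  have h2 : gE F N' = eMvG A E _ (Algebra.TensorProduct.map (kap (A := A) N') (AlgHom.id A E)
      (F.toFun' _ (uN N))) := by
    unfold gE
    rw [h0, compat]
  rw [h2, eMvG_map]
  unfold gE kap
  congr 2
  funext ν
  rw [aeval_X]
  split_ifs
  · rw [map_X]
  · rw [map_zero]

theorem coeff_gE_of_not_subset (F : MvPolynomial σ A →ₚₗ[A] E) (N : Finset (σ →₀ ℕ))
    (α : (σ →₀ ℕ) →₀ ℕ) (h : ¬ α.support ⊆ N) : coeff α (gE F N) = 0 := by
  rw [← kap_gE F (Finset.Subset.refl N), coeff_kap, if_neg h]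

theorem coeff_gE_eq (F : MvPolynomial σ A →ₚₗ[A] E) (N : Finset (σ →₀ ℕ))
    (α : (σ →₀ ℕ) →₀ ℕ) (h : α.support ⊆ N) : coeff α (gE F N) = cE F α := by
  unfold cE
  rw [← kap_gE F h, coeff_kap, if_pos (Finset.Subset.refl _)]

theorem scale_gE (F : MvPolynomial σ A →ₚₗ[A] E) (hF : PolLaw.IsHomog F d)
    (N : Finset (σ →₀ ℕ)) :
    aeval (fun ν : σ →₀ ℕ => (X none * X (some ν) : MvPolynomial (Option (σ →₀ ℕ)) E))
      (gE F N) = (X none : MvPolynomial (Option (σ →₀ ℕ)) E) ^ d * rename some (gE F N) := by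
  let lamA : MvPolynomial (σ →₀ ℕ) A →ₐ[A] MvPolynomial (Option (σ →₀ ℕ)) A :=
    aeval (fun ν : σ →₀ ℕ => (X none * X (some ν) : MvPolynomial (Option (σ →₀ ℕ)) A))
  let renA : MvPolynomial (σ →₀ ℕ) A →ₐ[A] MvPolynomial (Option (σ →₀ ℕ)) A := rename some
  have h1 : Algebra.TensorProduct.map lamA (AlgHom.id A (MvPolynomial σ A)) (uN N) =
      (X none : MvPolynomial (Option (σ →₀ ℕ)) A) •
        Algebra.TensorProduct.map renA (AlgHom.id A (MvPolynomial σ A)) (uN N) := by
    rw [map_uN, map_uN, Finset.smul_sum]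
    refine Finset.sum_congr rfl (fun ν _ => ?_)
    rw [TensorProduct.smul_tmul', smul_eq_mul]
    congr 1
    simp [lamA, renA]
  have h2 : Algebra.TensorProduct.map lamA (AlgHom.id A E) (F.toFun' _ (uN N)) =
      (X none : MvPolynomial (Option (σ →₀ ℕ)) A) ^ d •
        Algebra.TensorProduct.map renA (AlgHom.id A E) (F.toFun' _ (uN N)) := by
    rw [← compat, ← compat, h1, hF]
  have h3 := congrArg (eMvG A E (Option (σ →₀ ℕ))) h2
  rw [eMvG_map, eMvG_smul, eMvG_map] at h3
  have e1 : (fun i : σ →₀ ℕ => MvPolynomial.map (algebraMap A E) (lamA (X i))) =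
      fun ν => (X none * X (some ν) : MvPolynomial (Option (σ →₀ ℕ)) E) := by
    funext ν
    simp [lamA]
  have e2 : (aeval (fun i : σ →₀ ℕ => MvPolynomial.map (algebraMap A E) (renA (X i))) :
      MvPolynomial (σ →₀ ℕ) E →ₐ[E] MvPolynomial (Option (σ →₀ ℕ)) E) = rename some := by
    apply MvPolynomial.algHom_ext
    intro ν
    simp [renA]
  rw [e1, e2, map_pow, map_X] at h3
  exact h3

theorem coeff_gE_of_degree_ne (F : MvPolynomial σ A →ₚₗ[A] E) (hF : PolLaw.IsHomog F d)
    (N : Finset (σ →₀ ℕ)) (α : (σ →₀ ℕ) →₀ ℕ) (h : α.sum (fun _ n => n) ≠ d) :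
    coeff α (gE F N) = 0 := by
  rw [← coeff_aeval_scale (gE F N) α, scale_gE F hF, coeff_pow_mul_rename _ _ _ h]

theorem toT_eq_sum' {S : Type u} [CommSemiring S] [Algebra A S] (q : MvPolynomial σ S) :
    (algebraTensorAlgEquiv A S).symm q =
      ∑ ν ∈ q.support, coeff ν q ⊗ₜ[A] (monomial ν (1 : A)) := by
  conv_lhs => rw [q.as_sum]
  rw [map_sum]
  refine Finset.sum_congr rfl (fun ν _ => ?_)
  rw [algebraTensorAlgEquiv_symm_monomial]

open Classical in
/-- the explicit formula for a homogeneous law on a polynomial ring -/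
theorem bridgeE (F : MvPolynomial σ A →ₚₗ[A] E) (hF : PolLaw.IsHomog F d)
    {S : Type u} [CommSemiring S] [Algebra A S] (q : MvPolynomial σ S) :
    F.toFun' S ((algebraTensorAlgEquiv A S).symm q) =
      ∑ α ∈ Finset.finsuppAntidiag q.support d,
        (α.prod fun ν k => coeff ν q ^ k) ⊗ₜ[A] cE F α := by
  classical
  have h1 : (algebraTensorAlgEquiv A S).symm q =
      ∑ ν ∈ q.support, (aeval (fun ν => coeff ν q) : MvPolynomial (σ →₀ ℕ) A →ₐ[A] S) (X ν)
        ⊗ₜ[A] (monomial ν (1 : A)) := by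
    rw [toT_eq_sum']
    refine Finset.sum_congr rfl (fun ν _ => ?_)
    rw [aeval_X]
  rw [h1, toFun_sum, map_eq_sum]
  refine (Finset.sum_subset ?_ ?_).trans (Finset.sum_congr rfl ?_)
  · intro α hα
    rw [mem_support_iff] at hα
    rw [Finset.mem_finsuppAntidiag']
    constructor
    · by_contra h
      exact hα (coeff_gE_of_degree_ne F hF _ _ h)
    · by_contra h
      exact hα (coeff_gE_of_not_subset F _ _ h)
  · intro α _ hα
    rw [notMem_support_iff] at hα
    have hα' : coeff α (gE F q.support) = 0 := hα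
    show _ ⊗ₜ[A] coeff α (gE F q.support) = 0
    rw [hα', TensorProduct.tmul_zero]
  · intro α hα
    show _ ⊗ₜ[A] coeff α (gE F q.support) = _
    rw [coeff_gE_eq F _ _ (Finset.mem_finsuppAntidiag'.1 hα).2, aeval_monomial, map_one, one_mul]

end bridge

end Groth.Agent.Helper20.GD
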