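import Mathlib
import Groth.Agent.Lib.Helper20.GDCoef

set_option autoImplicit false
universe u
open scoped TensorProduct
open MvPolynomial

namespace Groth.Agent.Helper20.GD
open Groth.Agent.Helper20.PLKer Groth.Agent.Helper20.CHConc

variable {A : Type u} [CommRing A]

section Lc
variable {σ : Type u} {N N' : Type u} [AddCommGroup N] [Module A N] [AddCommGroup N'] [Module A N']

open Classical in
/-- the explicit formula of a homogeneous law of degree `d` with coefficients `c` -/
noncomputable def LcFun (d : ℕ) (c : ((σ →₀ ℕ) →₀ ℕ) → N) (S : Type u) [CommSemiring S]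
    [Algebra A S] (q : MvPolynomial σ S) : S ⊗[A] N :=
  ∑ α ∈ Finset.finsuppAntidiag q.support d, (α.prod fun ν k => coeff ν q ^ k) ⊗ₜ[A] c α

theorem LcFun_map (d : ℕ) (c : ((σ →₀ ℕ) →₀ ℕ) → N) {S S' : Type u} [CommSemiring S]
    [Algebra A S] [CommSemiring S'] [Algebra A S'] (φ : S →ₐ[A] S') (q : MvPolynomial σ S) :
    φ.toLinearMap.rTensor N (LcFun d c S q) = LcFun d c S' (MvPolynomial.map (φ : S →+* S') q) := by
  classical
  unfold LcFun
  rw [map_sum]
  have hterm : ∀ α : (σ →₀ ℕ) →₀ ℕ,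
      φ.toLinearMap.rTensor N ((α.prod fun ν k => coeff ν q ^ k) ⊗ₜ[A] c α) =
        (α.prod fun ν k => coeff ν (MvPolynomial.map (φ : S →+* S') q) ^ k) ⊗ₜ[A] c α := by
    intro α
    rw [LinearMap.rTensor_tmul, AlgHom.toLinearMap_apply, map_finsuppProd]
    congr 2
    funext ν k
    rw [map_pow, coeff_map]
    rfl
  rw [Finset.sum_congr rfl (fun α _ => hterm α)]
  symm
  refine Finset.sum_subset (Finset.finsuppAntidiag_mono (support_map_subset _ q) d) ?_
  intro α hα hα'
  rw [Finset.mem_finsuppAntidiag'] at hα hα'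
  have h1 : ¬ α.support ⊆ (MvPolynomial.map (φ : S →+* S') q).support := fun h => hα' ⟨hα.1, h⟩
  rw [Finset.not_subset] at h1
  obtain ⟨ν, hν, hν'⟩ := h1
  have h2 : (α.prod fun ν k => coeff ν (MvPolynomial.map (φ : S →+* S') q) ^ k) = 0 := by
    refine Finset.prod_eq_zero hν ?_
    rw [notMem_support_iff] at hν'
    show coeff ν (MvPolynomial.map (φ : S →+* S') q) ^ (α ν) = 0
    rw [hν', zero_pow (Finsupp.mem_support_iff.1 hν)]
  rw [h2, TensorProduct.zero_tmul]

theorem tensorEquiv_map {S S' : Type u} [CommSemiring S]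
    [Algebra A S] [CommSemiring S'] [Algebra A S'] (φ : S →ₐ[A] S')
    (z : S ⊗[A] MvPolynomial σ A) :
    algebraTensorAlgEquiv A S' (φ.toLinearMap.rTensor (MvPolynomial σ A) z) =
      MvPolynomial.map (φ : S →+* S') (algebraTensorAlgEquiv A S z) := by
  induction z using TensorProduct.induction_on with
  | zero => simp
  | tmul s p =>
    rw [LinearMap.rTensor_tmul, algebraTensorAlgEquiv_tmul, algebraTensorAlgEquiv_tmul,
      AlgHom.toLinearMap_apply, MvPolynomial.smul_eq_C_mul, MvPolynomial.smul_eq_C_mul, map_mul,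
      map_C, map_map]
    have h1 : ((φ : S →+* S').comp (algebraMap A S)) = algebraMap A S' := by
      ext a
      simp
    rw [h1]
    rfl
  | add x y hx hy => rw [map_add, map_add, map_add, map_add, hx, hy]

/-- the homogeneous law of degree `d` on a polynomial ring with coefficients `c` -/
noncomputable def Lc (d : ℕ) (c : ((σ →₀ ℕ) →₀ ℕ) → N) : MvPolynomial σ A →ₚₗ[A] N where
  toFun' S _ _ z := LcFun d c S (algebraTensorAlgEquiv A S z)
  isCompat' {S} _ _ {S'} _ _ φ := by
    funext z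
    simp only [Function.comp_apply]
    rw [LcFun_map, tensorEquiv_map]

theorem Lc_apply_symm (d : ℕ) (c : ((σ →₀ ℕ) →₀ ℕ) → N) {S : Type u} [CommSemiring S]
    [Algebra A S] (q : MvPolynomial σ S) :
    (Lc d c).toFun' S ((algebraTensorAlgEquiv A S).symm q) = LcFun d c S q := by
  show LcFun d c S _ = _
  rw [AlgEquiv.apply_symm_apply]

theorem eq_Lc {E : Type u} [CommRing E] [Algebra A E] {d : ℕ}
    (F : MvPolynomial σ A →ₚₗ[A] E) (hF : PolLaw.IsHomog F d) : F = Lc d (cE F) := by
  ext S _ _ z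
  obtain ⟨q, rfl⟩ := (algebraTensorAlgEquiv A S).symm.surjective z
  rw [bridgeE F hF, Lc_apply_symm]
  rfl

theorem postcomp_Lc (d : ℕ) (c : ((σ →₀ ℕ) →₀ ℕ) → N) (g : N →ₗ[A] N') :
    PolLaw.postcomp g (Lc d c) = Lc d (fun α => g (c α)) := by
  ext S _ _ z
  show g.lTensor S (LcFun d c S _) = LcFun d _ S _
  unfold LcFun
  rw [map_sum]
  refine Finset.sum_congr rfl (fun α _ => ?_)
  rw [LinearMap.lTensor_tmul]

end Lc

end Groth.Agent.Helper20.GD
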