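import Mathlib
import Groth.Agent.Lib.Helper20.GDLc
import Groth.Agent.Lib.Helper20.CHMain

set_option autoImplicit false
universe u v
open scoped TensorProduct
open MvPolynomial

namespace Groth.Agent.Helper20.GD
open Groth.Agent.Helper20.PLKer Groth.Agent.Helper20.CHConc PolLaw

variable {A : Type u} [CommRing A]

section valued
variable {B E₀ E : Type u} [CommRing B] [Algebra A B] [AddCommGroup E₀] [Module A E₀]
  [CommRing E] [Algebra A E]

/-- the law takes its values in the image of `ι` -/
def ValuedIn (F : B →ₚₗ[A] E) (ι : E₀ →ₗ[A] E) : Prop :=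
  ∀ (S : Type u) [CommSemiring S] [Algebra A S] (z : S ⊗[A] B),
    F.toFun' S z ∈ LinearMap.range (ι.lTensor S)

theorem coeff_mem_of_mem_range {κ : Type v} (ι : E₀ →ₗ[A] E) (z : MvPolynomial κ A ⊗[A] E)
    (hz : z ∈ LinearMap.range (ι.lTensor (MvPolynomial κ A))) (α : κ →₀ ℕ) :
    coeff α (eMvG A E κ z) ∈ LinearMap.range ι := by
  obtain ⟨y, rfl⟩ := hz
  induction y using TensorProduct.induction_on with
  | zero => simp
  | tmul p e =>
    rw [LinearMap.lTensor_tmul, eMvG_tmul, coeff_smul, coeff_map, smul_eq_mul, mul_comm,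
      ← Algebra.smul_def, ← map_smul]
    exact ⟨_, rfl⟩
  | add x y hx hy =>
    rw [map_add, map_add, coeff_add]
    exact add_mem hx hy

end valued

section general
variable {B E₀ E : Type u} [CommRing B] [Algebra A B] [CommRing E₀] [Algebra A E₀]
  [CommRing E] [Algebra A E]

theorem lift_surj (S : Type u) [CommSemiring S] [Algebra A S] :
    Function.Surjective (Algebra.TensorProduct.map
      (aeval id : MvPolynomial S A →ₐ[A] S) (AlgHom.id A B)) := by
  have hπ : Function.Surjective (aeval id : MvPolynomial S A →ₐ[A] S) :=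
    fun s => ⟨X s, by simp⟩
  intro v
  obtain ⟨v', hv'⟩ := LinearMap.rTensor_surjective B
    (g := (aeval id : MvPolynomial S A →ₐ[A] S).toLinearMap) hπ v
  exact ⟨v', by rw [← rTensor_eq_map]; exact hv'⟩

theorem smul_eq_mul' {S : Type u} [CommSemiring S] [Algebra A S] (s : S) (z : S ⊗[A] B) :
    s • z = (s ⊗ₜ[A] (1 : B)) * z := by
  induction z using TensorProduct.induction_on with
  | zero => simp
  | tmul t a => rw [TensorProduct.smul_tmul', Algebra.TensorProduct.tmul_mul_tmul, smul_eq_mul,
      one_mul]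
  | add x y hx hy => rw [smul_add, mul_add, hx, hy]

theorem map_smul' {S S' : Type u} [CommSemiring S] [Algebra A S] [CommSemiring S'] [Algebra A S']
    (φ : S →ₐ[A] S') (s : S) (z : S ⊗[A] B) :
    Algebra.TensorProduct.map φ (AlgHom.id A B) (s • z) =
      φ s • Algebra.TensorProduct.map φ (AlgHom.id A B) z := by
  rw [smul_eq_mul', smul_eq_mul', map_mul, Algebra.TensorProduct.map_tmul, map_one]

variable (G : B →ₚₗ[A] E₀) (ι : E₀ →ₐ[A] E) (hι : Function.Injective ι) (F : B →ₚₗ[A] E)
  (h : PolLaw.postcomp ι.toLinearMap G = F)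

include h in
theorem postcomp_apply (S : Type u) [CommSemiring S] [Algebra A S] (z : S ⊗[A] B) :
    Algebra.TensorProduct.map (AlgHom.id S S) ι (G.toFun' S z) = F.toFun' S z := by
  rw [← lTensor_algHom_apply, ← h]
  rfl

include hι in
theorem map_injective (τ : Type u) : Function.Injective
    (Algebra.TensorProduct.map (AlgHom.id (MvPolynomial τ A) (MvPolynomial τ A)) ι) := by
  have hinj : Function.Injective (ι.toLinearMap.lTensor (MvPolynomial τ A)) :=
    Module.Flat.lTensor_preserves_injective_linearMap _ hι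
  intro x y hxy
  apply hinj
  rw [lTensor_algHom_apply, lTensor_algHom_apply]
  exact hxy

include hι h in
theorem isMult_of_injective (hF : IsMult F) : IsMult G := by
  have key : ∀ (τ : Type u), G.toFun' (MvPolynomial τ A) 1 = 1 ∧
      ∀ x y : MvPolynomial τ A ⊗[A] B, G.toFun' (MvPolynomial τ A) (x * y) =
        G.toFun' (MvPolynomial τ A) x * G.toFun' (MvPolynomial τ A) y := by
    intro τ
    constructor
    · apply map_injective ι hι τ
      rw [postcomp_apply G ι F h, (hF _).1, map_one]
    · intro x y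
      apply map_injective ι hι τ
      rw [postcomp_apply G ι F h, (hF _).2, map_mul, postcomp_apply G ι F h,
        postcomp_apply G ι F h]
  intro S _ _
  constructor
  · have h1 : (1 : S ⊗[A] B) = Algebra.TensorProduct.map
        (aeval id : MvPolynomial S A →ₐ[A] S) (AlgHom.id A B) 1 := (map_one _).symm
    rw [h1, compat, (key S).1, map_one]
  · intro x y
    obtain ⟨x', rfl⟩ := lift_surj (B := B) S x
    obtain ⟨y', rfl⟩ := lift_surj (B := B) S y
    rw [← map_mul, compat, compat, compat, (key S).2, map_mul]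

include hι h in
theorem isHomog_of_injective {d : ℕ} (hF : IsHomog F d) : IsHomog G d := by
  have key : ∀ (τ : Type u) (s : MvPolynomial τ A) (x : MvPolynomial τ A ⊗[A] B),
      G.toFun' (MvPolynomial τ A) (s • x) = s ^ d • G.toFun' (MvPolynomial τ A) x := by
    intro τ s x
    apply map_injective ι hι τ
    rw [postcomp_apply G ι F h, hF, map_smul, postcomp_apply G ι F h]
  intro S _ _ s x
  obtain ⟨x', rfl⟩ := lift_surj (B := B) S x
  have hs : s = (aeval id : MvPolynomial S A →ₐ[A] S) (X s) := by simp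
  rw [hs, ← map_smul', compat, compat, key, map_smul', map_pow]

include hι h in
theorem ker_le_of_injective : PolLaw.ker F ≤ PolLaw.ker G := by
  intro b hb
  apply mem_ker_of_mvPolynomial
  intro τ x w
  apply map_injective ι hι τ
  rw [postcomp_apply G ι F h, postcomp_apply G ι F h]
  exact hb _ x w

end general

section sublaw
variable {B E : Type u} [CommRing B] [Algebra A B] [CommRing E] [Algebra A E] {d : ℕ}

theorem piB_surjective : Function.Surjective (piB A B) := fun b => ⟨X b, by simp [piB]⟩

theorem ker_piB_le (F : B →ₚₗ[A] E) :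
    RingHom.ker (piB A B) ≤ PolLaw.ker (PolLaw.precomp F (piB A B).toLinearMap) := by
  intro b hb
  rw [mem_ker_iff]
  intro S _ _ x w
  show F.toFun' S ((piB A B).toLinearMap.lTensor S _) = F.toFun' S ((piB A B).toLinearMap.lTensor S _)
  rw [lTensor_algHom_apply, lTensor_algHom_apply, map_add, map_mul,
    Algebra.TensorProduct.map_tmul, (RingHom.mem_ker.1 hb : piB A B b = 0),
    TensorProduct.tmul_zero, mul_zero, add_zero]

/-- a multiplicative law with values in a subalgebra factors through it -/
theorem exists_subLaw (F : MulLaw A B E d) (E₀ : Subalgebra A E)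
    (hV : ValuedIn F.law E₀.val.toLinearMap) :
    ∃ F₀ : MulLaw A B E₀ d, PolLaw.postcomp E₀.val.toLinearMap F₀.law = F.law := by
  let π := piB A B
  have hπ : Function.Surjective π := piB_surjective
  let Fπ : MvPolynomial B A →ₚₗ[A] E := PolLaw.precomp F.law π.toLinearMap
  have hFπ : IsHomog Fπ d := (F.precomp π).homog
  have hc : ∀ α, cE Fπ α ∈ E₀ := by
    intro α
    have h1 := coeff_mem_of_mem_range E₀.val.toLinearMap
      (Fπ.toFun' _ (uN α.support)) (hV _ _) α
    obtain ⟨y, hy⟩ := h1
    have : cE Fπ α = E₀.val y := hy.symm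
    rw [this]
    exact y.2
  let c₀ : ((B →₀ ℕ) →₀ ℕ) → E₀ := fun α => ⟨cE Fπ α, hc α⟩
  let L₀ : MvPolynomial B A →ₚₗ[A] E₀ := Lc d c₀
  have h1 : PolLaw.postcomp E₀.val.toLinearMap L₀ = Fπ := by
    rw [postcomp_Lc]
    exact (eq_Lc Fπ hFπ).symm
  have hinj : Function.Injective E₀.val := Subtype.val_injective
  have hker : RingHom.ker π ≤ PolLaw.ker L₀ :=
    (ker_piB_le F.law).trans (ker_le_of_injective L₀ E₀.val hinj Fπ h1)
  let G : B →ₚₗ[A] E₀ := PLQuot.descend L₀ π hπ hker
  have h2 : PolLaw.postcomp E₀.val.toLinearMap G = F.law := by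
    apply PLQuot.law_ext_of_surjective _ _ π hπ
    ext S _ _ z
    show E₀.val.toLinearMap.lTensor S (G.toFun' S (π.toLinearMap.lTensor S z)) =
      F.law.toFun' S (π.toLinearMap.lTensor S z)
    rw [PLQuot.descend_apply]
    exact congrArg (fun L => PolynomialLaw.toFun' L S z) h1
  exact ⟨⟨G, isHomog_of_injective G E₀.val hinj F.law h2 F.homog,
    isMult_of_injective G E₀.val hinj F.law h2 F.mult⟩, h2⟩

/-- a subalgebra of `Γ^d_A(B)` through which the universal law factors is everything -/
theorem eq_top_of_valuedIn {C : Type u} [CommRing C] [Algebra A C] (γ : MulLaw A B C d)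
    (hγ : IsGammaD γ) (E₀ : Subalgebra A C) (hV : ValuedIn γ.law E₀.val.toLinearMap) :
    E₀ = ⊤ := by
  obtain ⟨γ₀, h0⟩ := exists_subLaw γ E₀ hV
  obtain ⟨e, he, -⟩ := hγ E₀ γ₀
  have h1 : PolLaw.postcomp (E₀.val.comp e).toLinearMap γ.law = γ.law := by
    ext S _ _ z
    show (E₀.val.comp e).toLinearMap.lTensor S (γ.law.toFun' S z) = _
    rw [AlgHom.comp_toLinearMap, LinearMap.lTensor_comp, LinearMap.comp_apply]
    have h2 := congrArg (fun L => PolynomialLaw.toFun' L S z) he
    have h3 := congrArg (fun L => PolynomialLaw.toFun' L S z) h0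
    exact (congrArg (E₀.val.toLinearMap.lTensor S) h2).trans h3
  have h2 : PolLaw.postcomp (AlgHom.id A C).toLinearMap γ.law = γ.law := by
    ext S _ _ z
    show (AlgHom.id A C).toLinearMap.lTensor S _ = _
    simp
  have h3 : E₀.val.comp e = AlgHom.id A C := (hγ C γ).unique h1 h2
  rw [eq_top_iff]
  intro c _
  have h4 : E₀.val (e c) = c := congrArg (fun f : C →ₐ[A] C => f c) h3
  rw [← h4]
  exact (e c).2

end sublaw

end Groth.Agent.Helper20.GD
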