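import Mathlib
import Groth.Agent.Lib.Helper20.GDSub

set_option autoImplicit false
universe u v
open scoped TensorProduct
open MvPolynomial

namespace Groth.Agent.Helper20.GD
open Groth.Agent.Helper20.PLKer Groth.Agent.Helper20.CHConc PolLaw

variable {A : Type u} [CommRing A]

section coeffmul
variable {R : Type u} [CommSemiring R] {ι κ : Type v}

theorem sumExp_inj {β₁ β : ι →₀ ℕ} {β₂ β' : κ →₀ ℕ}
    (h : β₁.mapDomain Sum.inl + β₂.mapDomain Sum.inr =
      (β.mapDomain Sum.inl + β'.mapDomain Sum.inr : ι ⊕ κ →₀ ℕ)) : β₁ = β ∧ β₂ = β' := by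
  constructor
  · ext i
    have := congrArg (fun f : ι ⊕ κ →₀ ℕ => f (Sum.inl i)) h
    simp only [Finsupp.add_apply] at this
    rwa [Finsupp.mapDomain_apply Sum.inl_injective, Finsupp.mapDomain_apply Sum.inl_injective,
      Finsupp.mapDomain_of_notMem_range _ _ (by simp),
      Finsupp.mapDomain_of_notMem_range _ _ (by simp), add_zero, add_zero] at this
  · ext i
    have := congrArg (fun f : ι ⊕ κ →₀ ℕ => f (Sum.inr i)) h
    simp only [Finsupp.add_apply] at this
    rwa [Finsupp.mapDomain_apply Sum.inr_injective, Finsupp.mapDomain_apply Sum.inr_injective,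
      Finsupp.mapDomain_of_notMem_range _ _ (by simp),
      Finsupp.mapDomain_of_notMem_range _ _ (by simp), zero_add, zero_add] at this

theorem coeff_rename_mul_rename (G : MvPolynomial ι R) (H : MvPolynomial κ R)
    (β : ι →₀ ℕ) (β' : κ →₀ ℕ) :
    coeff (β.mapDomain Sum.inl + β'.mapDomain Sum.inr)
      (rename Sum.inl G * rename Sum.inr H : MvPolynomial (ι ⊕ κ) R) =
        coeff β G * coeff β' H := by
  classical
  induction G using MvPolynomial.induction_on' with
  | monomial β₁ a =>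
    induction H using MvPolynomial.induction_on' with
    | monomial β₂ a₂ =>
      rw [rename_monomial, rename_monomial, monomial_mul, coeff_monomial, coeff_monomial,
        coeff_monomial]
      by_cases h1 : β₁ = β
      · by_cases h2 : β₂ = β'
        · rw [if_pos h1, if_pos h2, if_pos (by rw [h1, h2])]
        · rw [if_neg h2, mul_zero, if_neg (fun h => h2 (sumExp_inj h).2)]
      · rw [if_neg h1, zero_mul, if_neg (fun h => h1 (sumExp_inj h).1)]
    | add p q hp hq => rw [map_add, mul_add, coeff_add, hp, hq, coeff_add, mul_add]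
  | add p q hp hq => rw [map_add, add_mul, coeff_add, hp, hq, coeff_add, add_mul]

end coeffmul

section gen
variable {B E₀ E : Type u} [CommRing B] [Algebra A B] [AddCommGroup E₀] [Module A E₀]
  [CommRing E] [Algebra A E] {n : ℕ}

/-- the generic linear combination of a finite family -/
noncomputable def gen (b : Fin n → B) : MvPolynomial (Fin n) A ⊗[A] B :=
  ∑ i, (X i : MvPolynomial (Fin n) A) ⊗ₜ[A] b i

theorem map_gen {S : Type u} [CommSemiring S] [Algebra A S]
    (ψ : MvPolynomial (Fin n) A →ₐ[A] S) (b : Fin n → B) :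
    Algebra.TensorProduct.map ψ (AlgHom.id A B) (gen b) = ∑ i, ψ (X i) ⊗ₜ[A] b i := by
  unfold gen
  rw [map_sum]
  refine Finset.sum_congr rfl (fun i _ => ?_)
  rw [Algebra.TensorProduct.map_tmul, AlgHom.id_apply]

theorem exists_repr (b : Fin n → B) (hb : Submodule.span A (Set.range b) = ⊤)
    {S : Type u} [CommSemiring S] [Algebra A S] (z : S ⊗[A] B) :
    ∃ t : Fin n → S, z = ∑ i, t i ⊗ₜ[A] b i := by
  induction z using TensorProduct.induction_on with
  | zero => exact ⟨fun _ => 0, by simp⟩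
  | tmul s x =>
    have hx : x ∈ Submodule.span A (Set.range b) := by rw [hb]; trivial
    obtain ⟨c, rfl⟩ := (Submodule.mem_span_range_iff_exists_fun A).1 hx
    refine ⟨fun i => c i • s, ?_⟩
    rw [TensorProduct.tmul_sum]
    refine Finset.sum_congr rfl (fun i _ => ?_)
    rw [TensorProduct.tmul_smul, TensorProduct.smul_tmul']
  | add x y hx hy =>
    obtain ⟨t, rfl⟩ := hx
    obtain ⟨t', rfl⟩ := hy
    refine ⟨fun i => t i + t' i, ?_⟩
    rw [← Finset.sum_add_distrib]
    refine Finset.sum_congr rfl (fun i _ => ?_)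
    rw [TensorProduct.add_tmul]

theorem map_mem_range {S S' : Type u} [CommSemiring S] [Algebra A S] [CommSemiring S']
    [Algebra A S'] (ψ : S →ₐ[A] S') (ι : E₀ →ₗ[A] E) (z : S ⊗[A] E)
    (hz : z ∈ LinearMap.range (ι.lTensor S)) :
    Algebra.TensorProduct.map ψ (AlgHom.id A E) z ∈ LinearMap.range (ι.lTensor S') := by
  obtain ⟨y, rfl⟩ := hz
  refine ⟨ψ.toLinearMap.rTensor E₀ y, ?_⟩
  rw [← rTensor_eq_map, ← LinearMap.comp_apply, ← LinearMap.comp_apply,
    LinearMap.rTensor_comp_lTensor, LinearMap.lTensor_comp_rTensor]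

/-- a law is valued in the image of `ι` as soon as its value on the generic combination of a
generating family is -/
theorem valuedIn_of_gen (F : B →ₚₗ[A] E) (ι : E₀ →ₗ[A] E) (b : Fin n → B)
    (hb : Submodule.span A (Set.range b) = ⊤)
    (hg : F.toFun' _ (gen b) ∈ LinearMap.range (ι.lTensor (MvPolynomial (Fin n) A))) :
    ValuedIn F ι := by
  intro S _ _ z
  obtain ⟨t, rfl⟩ := exists_repr b hb z
  have h1 : (∑ i, t i ⊗ₜ[A] b i) =
      Algebra.TensorProduct.map (aeval t : MvPolynomial (Fin n) A →ₐ[A] S) (AlgHom.id A B)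
        (gen b) := by
    rw [map_gen]
    refine Finset.sum_congr rfl (fun i _ => ?_)
    rw [aeval_X]
  rw [h1, compat]
  exact map_mem_range _ ι _ hg

theorem mem_range_of_coeff {κ : Type v} (ι : E₀ →ₗ[A] E) (z : MvPolynomial κ A ⊗[A] E)
    (h : ∀ α, coeff α (eMvG A E κ z) ∈ LinearMap.range ι) :
    z ∈ LinearMap.range (ι.lTensor (MvPolynomial κ A)) := by
  rw [eq_sum_tmul z]
  refine Submodule.sum_mem _ (fun α _ => ?_)
  obtain ⟨y, hy⟩ := h α
  exact ⟨(monomial α (1 : A)) ⊗ₜ[A] y, by rw [LinearMap.lTensor_tmul, hy]⟩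

theorem valuedIn_mono {E₁ : Type u} [AddCommGroup E₁] [Module A E₁] (F : B →ₚₗ[A] E)
    (ι : E₀ →ₗ[A] E) (ι₁ : E₁ →ₗ[A] E) (j : E₀ →ₗ[A] E₁) (hj : ι₁.comp j = ι)
    (h : ValuedIn F ι) : ValuedIn F ι₁ := by
  intro S _ _ z
  obtain ⟨y, hy⟩ := h S z
  refine ⟨j.lTensor S y, ?_⟩
  rw [← LinearMap.comp_apply, ← LinearMap.lTensor_comp, hj, hy]

end gen

section fin
variable {B E : Type u} [CommRing B] [Algebra A B] [CommRing E] [Algebra A E] {n d : ℕ}

/-- the span of the coefficients of the law on the generic combination of the family `b` -/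
noncomputable def coeffSpan (F : B →ₚₗ[A] E) (b : Fin n → B) : Submodule A E :=
  Submodule.span A (Set.range fun β => coeff β (eMvG A E (Fin n) (F.toFun' _ (gen b))))

theorem coeffSpan_fg (F : B →ₚₗ[A] E) (b : Fin n → B) : (coeffSpan F b).FG := by
  classical
  unfold coeffSpan
  apply Submodule.fg_span
  refine Set.Finite.subset (((eMvG A E (Fin n) (F.toFun' _ (gen b))).support.image
    (fun β => coeff β (eMvG A E (Fin n) (F.toFun' _ (gen b))))).finite_toSet.insert 0) ?_
  rintro _ ⟨β, rfl⟩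
  by_cases hβ : β ∈ (eMvG A E (Fin n) (F.toFun' _ (gen b))).support
  · right
    exact Finset.mem_coe.2 (Finset.mem_image_of_mem _ hβ)
  · left
    exact notMem_support_iff.1 hβ

theorem valuedIn_coeffSpan (F : B →ₚₗ[A] E) (b : Fin n → B)
    (hb : Submodule.span A (Set.range b) = ⊤) (E₀ : Subalgebra A E)
    (h : coeffSpan F b ≤ Subalgebra.toSubmodule E₀) : ValuedIn F E₀.val.toLinearMap := by
  apply valuedIn_of_gen F _ b hb
  apply mem_range_of_coeff
  intro α
  have h1 : coeff α (eMvG A E (Fin n) (F.toFun' _ (gen b))) ∈ E₀ :=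
    h (Submodule.subset_span ⟨α, rfl⟩)
  exact ⟨⟨_, h1⟩, rfl⟩

theorem coeff_mem_coeffSpan (F : B →ₚₗ[A] E) (b : Fin n → B)
    (hb : Submodule.span A (Set.range b) = ⊤) {κ : Type}
    (z : MvPolynomial κ A ⊗[A] B) (α : κ →₀ ℕ) :
    coeff α (eMvG A E κ (F.toFun' _ z)) ∈ coeffSpan F b := by
  have hV : ValuedIn F (coeffSpan F b).subtype := by
    apply valuedIn_of_gen F _ b hb
    apply mem_range_of_coeff
    intro α
    exact ⟨⟨_, Submodule.subset_span ⟨α, rfl⟩⟩, rfl⟩
  obtain ⟨y, hy⟩ := coeff_mem_of_mem_range (coeffSpan F b).subtype _ (hV _ z) α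
  rw [← hy]
  exact y.2

theorem one_mem_coeffSpan (F : B →ₚₗ[A] E) (hF : IsMult F) (b : Fin n → B)
    (hb : Submodule.span A (Set.range b) = ⊤) : (1 : E) ∈ coeffSpan F b := by
  have h1 := coeff_mem_coeffSpan F b hb (κ := PEmpty) 1 0
  rw [(hF _).1, map_one, coeff_zero_one] at h1
  exact h1

theorem mul_mem_coeffSpan (F : B →ₚₗ[A] E) (hF : IsMult F) (b : Fin n → B)
    (hb : Submodule.span A (Set.range b) = ⊤) (x y : E) (hx : x ∈ coeffSpan F b)
    (hy : y ∈ coeffSpan F b) : x * y ∈ coeffSpan F b := by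
  have key : ∀ β β' : Fin n →₀ ℕ,
      coeff β (eMvG A E (Fin n) (F.toFun' _ (gen b))) *
        coeff β' (eMvG A E (Fin n) (F.toFun' _ (gen b))) ∈ coeffSpan F b := by
    intro β β'
    let rl : MvPolynomial (Fin n) A →ₐ[A] MvPolynomial (Fin n ⊕ Fin n) A := rename Sum.inl
    let rr : MvPolynomial (Fin n) A →ₐ[A] MvPolynomial (Fin n ⊕ Fin n) A := rename Sum.inr
    have h1 := coeff_mem_coeffSpan F b hb
      (Algebra.TensorProduct.map rl (AlgHom.id A B) (gen b) *
        Algebra.TensorProduct.map rr (AlgHom.id A B) (gen b))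
      (β.mapDomain Sum.inl + β'.mapDomain Sum.inr)
    rw [(hF _).2, compat, compat, map_mul, eMvG_map, eMvG_map] at h1
    have e1 : (aeval (fun i : Fin n => MvPolynomial.map (algebraMap A E) (rl (X i))) :
        MvPolynomial (Fin n) E →ₐ[E] MvPolynomial (Fin n ⊕ Fin n) E) = rename Sum.inl := by
      apply MvPolynomial.algHom_ext
      intro ν
      simp [rl]
    have e2 : (aeval (fun i : Fin n => MvPolynomial.map (algebraMap A E) (rr (X i))) :
        MvPolynomial (Fin n) E →ₐ[E] MvPolynomial (Fin n ⊕ Fin n) E) = rename Sum.inr := by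
      apply MvPolynomial.algHom_ext
      intro ν
      simp [rr]
    rw [e1, e2, coeff_rename_mul_rename] at h1
    exact h1
  have h2 : coeffSpan F b * coeffSpan F b ≤ coeffSpan F b := by
    unfold coeffSpan
    rw [Submodule.span_mul_span, Submodule.span_le]
    rintro _ ⟨_, ⟨β, rfl⟩, _, ⟨β', rfl⟩, rfl⟩
    exact key β β'
  exact h2 (Submodule.mul_mem_mul hx hy)

/-- the subalgebra spanned by the coefficients of the law on a generic combination of
a generating family -/
noncomputable def coeffAlg (F : B →ₚₗ[A] E) (hF : IsMult F) (b : Fin n → B)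
    (hb : Submodule.span A (Set.range b) = ⊤) : Subalgebra A E :=
  (coeffSpan F b).toSubalgebra (one_mem_coeffSpan F hF b hb) (mul_mem_coeffSpan F hF b hb)

theorem exists_fg_valuedIn [Module.Finite A B] (F : B →ₚₗ[A] E) (hF : IsMult F) :
    ∃ E₀ : Subalgebra A E, (Subalgebra.toSubmodule E₀).FG ∧ ValuedIn F E₀.val.toLinearMap := by
  obtain ⟨n, b, hb⟩ := Module.Finite.exists_fin (R := A) (M := B)
  refine ⟨coeffAlg F hF b hb, ?_, ?_⟩
  · exact coeffSpan_fg F b
  · exact valuedIn_coeffSpan F b hb _ (le_refl _)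

end fin

end Groth.Agent.Helper20.GD
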