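import Mathlib
import Groth.Agent.Lib.Helper20.GDFin

set_option autoImplicit false
universe u v
open scoped TensorProduct
open MvPolynomial

namespace Groth.Agent.Helper20.GD
open Groth.Agent.Helper20.PLKer Groth.Agent.Helper20.CHConc PolLaw

variable {A : Type u} [CommRing A]
variable {B E : Type u} [CommRing B] [Algebra A B] [CommRing E] [Algebra A E] {d : ℕ}

theorem exists_finset_mem_range (S : Type u) [CommSemiring S] [Algebra A S] (z : S ⊗[A] B) :
    ∃ t : Finset B, z ∈ LinearMap.range
      ((Algebra.adjoin A (t : Set B)).val.toLinearMap.lTensor S) := by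
  classical
  have mono : ∀ (t t' : Finset B), t ⊆ t' → ∀ z : S ⊗[A] B,
      z ∈ LinearMap.range ((Algebra.adjoin A (t : Set B)).val.toLinearMap.lTensor S) →
      z ∈ LinearMap.range ((Algebra.adjoin A (t' : Set B)).val.toLinearMap.lTensor S) := by
    rintro t t' htt' _ ⟨y, rfl⟩
    have hle : Algebra.adjoin A (t : Set B) ≤ Algebra.adjoin A (t' : Set B) :=
      Algebra.adjoin_mono (Finset.coe_subset.2 htt')
    refine ⟨(Subalgebra.inclusion hle).toLinearMap.lTensor S y, ?_⟩
    rw [← LinearMap.comp_apply, ← LinearMap.lTensor_comp, ← AlgHom.comp_toLinearMap,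
      Subalgebra.val_comp_inclusion]
  induction z using TensorProduct.induction_on with
  | zero => exact ⟨∅, Submodule.zero_mem _⟩
  | tmul s x =>
    refine ⟨{x}, ⟨s ⊗ₜ[A] ⟨x, Algebra.subset_adjoin (by simp)⟩, ?_⟩⟩
    rw [LinearMap.lTensor_tmul]
    rfl
  | add x y hx hy =>
    obtain ⟨t, ht⟩ := hx
    obtain ⟨t', ht'⟩ := hy
    exact ⟨t ∪ t', Submodule.add_mem _ (mono t _ Finset.subset_union_left _ ht)
      (mono t' _ Finset.subset_union_right _ ht')⟩

/-- a multiplicative law on an integral algebra takes its values in the integral closure -/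
theorem valuedIn_integralClosure [Algebra.IsIntegral A B] (F : MulLaw A B E d) :
    ValuedIn F.law (integralClosure A E).val.toLinearMap := by
  intro S _ _ z
  obtain ⟨t, z', rfl⟩ := exists_finset_mem_range S z
  haveI : Module.Finite A (Algebra.adjoin A (t : Set B)) :=
    .of_fg (fg_adjoin_of_finite t.finite_toSet
      (fun x _ => Algebra.IsIntegral.isIntegral x))
  let F' := F.precomp (Algebra.adjoin A (t : Set B)).val
  obtain ⟨E₀, hfg, hV⟩ := exists_fg_valuedIn F'.law F'.mult
  have hle : E₀ ≤ integralClosure A E := fun x hx => IsIntegral.of_mem_of_fg E₀ hfg x hx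
  exact valuedIn_mono F'.law E₀.val.toLinearMap (integralClosure A E).val.toLinearMap
    (Subalgebra.inclusion hle).toLinearMap
    (by rw [← AlgHom.comp_toLinearMap, Subalgebra.val_comp_inclusion]) hV S z'

end Groth.Agent.Helper20.GD
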