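import Mathlib
import Groth.Agent.Lib.Helper20.GDInt

set_option autoImplicit false
universe u v
open scoped TensorProduct
open MvPolynomial

namespace Groth.Agent.Helper20.GD
open Groth.Agent.Helper20.PLKer Groth.Agent.Helper20.CHConc PolLaw

variable {A : Type u} [CommRing A]

section nat
variable {E E' : Type u} [CommRing E] [Algebra A E] [CommRing E'] [Algebra A E'] {κ : Type v}

/-- naturality of `eMvG` in the coefficient algebra -/
theorem eMvG_lTensor (g : E →ₐ[A] E') (w : MvPolynomial κ A ⊗[A] E) :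
    eMvG A E' κ (g.toLinearMap.lTensor (MvPolynomial κ A) w) =
      MvPolynomial.map (g : E →+* E') (eMvG A E κ w) := by
  induction w using TensorProduct.induction_on with
  | zero => simp
  | tmul p e =>
    rw [LinearMap.lTensor_tmul, eMvG_tmul, eMvG_tmul, AlgHom.toLinearMap_apply,
      MvPolynomial.smul_eq_C_mul, MvPolynomial.smul_eq_C_mul, map_mul, map_C, map_map]
    have h1 : ((g : E →+* E').comp (algebraMap A E)) = algebraMap A E' := by
      ext a
      simp
    rw [h1]
    rfl
  | add x y hx hy => rw [map_add, map_add, map_add, map_add, hx, hy]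

end nat

section fam
variable {B E : Type u} [CommRing B] [Algebra A B] [CommRing E] [Algebra A E]

theorem eMvG_gen {n : ℕ} (b : Fin n → B) :
    eMvG A B (Fin n) (gen b) = ∑ i, C (b i) * X i := by
  unfold gen
  rw [map_sum]
  refine Finset.sum_congr rfl (fun i _ => ?_)
  rw [eMvG_tmul, MvPolynomial.smul_eq_C_mul, map_X]

theorem exists_repr_fin {S : Type u} [CommSemiring S] [Algebra A S] (z : S ⊗[A] B) :
    ∃ (n : ℕ) (t : Fin n → S) (b : Fin n → B), z = ∑ i, t i ⊗ₜ[A] b i := by
  induction z using TensorProduct.induction_on with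
  | zero => exact ⟨0, Fin.elim0, Fin.elim0, by simp⟩
  | tmul s x => exact ⟨1, fun _ => s, fun _ => x, by simp⟩
  | add x y hx hy =>
    obtain ⟨n, t, b, rfl⟩ := hx
    obtain ⟨n', t', b', rfl⟩ := hy
    refine ⟨n + n', Fin.append t t', Fin.append b b', ?_⟩
    rw [Fin.sum_univ_add]
    simp only [Fin.append_left, Fin.append_right]

/-- a law is valued in the image of `ι` as soon as its coefficients with respect to all
finite families starting with `1` are -/
theorem valuedIn_of_families {E₀ : Type u} [AddCommGroup E₀] [Module A E₀]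
    (F : B →ₚₗ[A] E) (ι : E₀ →ₗ[A] E)
    (h : ∀ (n : ℕ) (b : Fin (n + 1) → B), b 0 = 1 → ∀ α,
      coeff α (eMvG A E (Fin (n + 1)) (F.toFun' _ (gen b))) ∈ LinearMap.range ι) :
    ValuedIn F ι := by
  intro S _ _ z
  obtain ⟨n, t, b, rfl⟩ := exists_repr_fin z
  let t' : Fin (n + 1) → S := Fin.cons 0 t
  let b' : Fin (n + 1) → B := Fin.cons 1 b
  have h1 : (∑ i, t i ⊗ₜ[A] b i) =
      Algebra.TensorProduct.map (aeval t' : MvPolynomial (Fin (n + 1)) A →ₐ[A] S) (AlgHom.id A B)
        (gen b') := by
    rw [map_gen, Fin.sum_univ_succ]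
    simp only [aeval_X, t', b', Fin.cons_zero, Fin.cons_succ, TensorProduct.zero_tmul, zero_add]
  rw [h1, compat]
  exact map_mem_range _ ι _ (mem_range_of_coeff ι _ (h n b' rfl))

end fam

section omega
variable {B Cd Ce : Type u} [CommRing B] [Algebra A B] [CommRing Cd] [Algebra A Cd]
  [CommRing Ce] [Algebra A Ce] {e : ℕ}

/-- the non-unit degree of a multi-index on `Fin (n+1)` -/
def degS {n : ℕ} (α : Fin (n + 1) →₀ ℕ) : ℕ := ∑ i : Fin n, α i.succ

theorem degS_shift {n : ℕ} (α : Fin (n + 1) →₀ ℕ) (i : Fin n) (hi : α i.succ ≠ 0) :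
    degS (α + Finsupp.single (0 : Fin (n + 1)) 1 - Finsupp.single i.succ 1) + 1 = degS α := by
  classical
  unfold degS
  have h1 : ∀ j : Fin n,
      (α + Finsupp.single (0 : Fin (n + 1)) 1 - Finsupp.single i.succ 1 : Fin (n + 1) →₀ ℕ) j.succ =
      α j.succ - (if j = i then 1 else 0) := by
    intro j
    rw [Finsupp.tsub_apply, Finsupp.add_apply, Finsupp.single_apply, Finsupp.single_apply,
      if_neg (Fin.succ_ne_zero j).symm, add_zero]
    by_cases hji : j = i
    · rw [if_pos hji, if_pos (by rw [hji])]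
    · rw [if_neg hji, if_neg (fun h => hji (Fin.succ_injective _ h).symm)]
  rw [Finset.sum_congr rfl (fun j _ => h1 j)]
  have h2 : ∀ j : Fin n, (if j = i then 1 else 0) ≤ α j.succ := by
    intro j
    split_ifs with h
    · rw [h]; exact Nat.one_le_iff_ne_zero.2 hi
    · exact Nat.zero_le _
  rw [Finset.sum_tsub_distrib _ (fun j _ => h2 j), Finset.sum_ite_eq' Finset.univ i,
    if_pos (Finset.mem_univ i)]
  have h3 : 1 ≤ ∑ j : Fin n, α j.succ :=
    le_trans (Nat.one_le_iff_ne_zero.2 hi)
      (Finset.single_le_sum (f := fun j : Fin n => α j.succ) (fun _ _ => Nat.zero_le _)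
        (Finset.mem_univ i))
  omega

theorem omega_surjective (γd : MulLaw A B Cd (e + 1)) (γe : MulLaw A B Ce e)
    (hγe : IsGammaD γe) (ω : Cd ⊗[A] B →ₐ[A] Ce ⊗[A] B)
    (hω : ∀ (S : Type u) [CommSemiring S] [Algebra A S] (x y : S ⊗[A] B),
      ω.toLinearMap.lTensor S
        ((Algebra.TensorProduct.includeLeft : Cd →ₐ[A] Cd ⊗[A] B).toLinearMap.lTensor S
            (γd.law.toFun' S x) *
          (Algebra.TensorProduct.includeRight : B →ₐ[A] Cd ⊗[A] B).toLinearMap.lTensor S y) =
      (Algebra.TensorProduct.includeLeft : Ce →ₐ[A] Ce ⊗[A] B).toLinearMap.lTensor S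
          (γe.law.toFun' S x) *
        (Algebra.TensorProduct.includeRight : B →ₐ[A] Ce ⊗[A] B).toLinearMap.lTensor S (x * y)) :
    Function.Surjective ω := by
  classical
  let iL : Ce →ₐ[A] Ce ⊗[A] B := Algebra.TensorProduct.includeLeft
  let iR : B →ₐ[A] Ce ⊗[A] B := Algebra.TensorProduct.includeRight
  -- the key membership
  have star : ∀ (κ : Type) (x y : MvPolynomial κ A ⊗[A] B) (β : κ →₀ ℕ),
      coeff β (MvPolynomial.map (iL : Ce →+* Ce ⊗[A] B)
          (eMvG A Ce κ (γe.law.toFun' _ x)) *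
        MvPolynomial.map (iR : B →+* Ce ⊗[A] B) (eMvG A B κ (x * y))) ∈ ω.range := by
    intro κ x y β
    have h1 := congrArg (eMvG A (Ce ⊗[A] B) κ) (hω (MvPolynomial κ A) x y)
    have e1 : eMvG A (Ce ⊗[A] B) κ
        (iL.toLinearMap.lTensor (MvPolynomial κ A) (γe.law.toFun' _ x) *
          iR.toLinearMap.lTensor (MvPolynomial κ A) (x * y)) =
        MvPolynomial.map (iL : Ce →+* Ce ⊗[A] B) (eMvG A Ce κ (γe.law.toFun' _ x)) *
          MvPolynomial.map (iR : B →+* Ce ⊗[A] B) (eMvG A B κ (x * y)) := by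
      rw [map_mul, eMvG_lTensor, eMvG_lTensor]
    rw [← e1, ← h1, eMvG_lTensor, coeff_map]
    exact ⟨_, rfl⟩
  -- `1 ⊗ b` lies in the range
  have hR : ∀ b₁ : B, (1 : Ce) ⊗ₜ[A] b₁ ∈ ω.range := by
    intro b₁
    have h1 := star PEmpty 1 ((1 : MvPolynomial PEmpty A) ⊗ₜ[A] b₁) 0
    rw [(γe.mult _).1, map_one, map_one, one_mul, one_mul, eMvG_tmul, map_one,
      MvPolynomial.smul_eq_C_mul, mul_one, map_C, coeff_C, if_pos rfl] at h1
    exact h1
  -- the coefficients with respect to families starting with `1`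
  have hcoef : ∀ (n : ℕ) (b : Fin (n + 1) → B), b 0 = 1 → ∀ (m : ℕ) (α : Fin (n + 1) →₀ ℕ),
      degS α = m →
      (coeff α (eMvG A Ce (Fin (n + 1)) (γe.law.toFun' _ (gen b)))) ⊗ₜ[A] (1 : B) ∈ ω.range := by
    intro n b hb m
    induction m using Nat.strong_induction_on with
    | _ m ih =>
      intro α hα
      set G := eMvG A Ce (Fin (n + 1)) (γe.law.toFun' _ (gen b)) with hG
      have h1 := star (Fin (n + 1)) (gen b) 1 (α + Finsupp.single 0 1)
      rw [mul_one, eMvG_gen, map_sum, Finset.mul_sum, coeff_sum] at h1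
      have hterm : ∀ i : Fin (n + 1),
          coeff (α + Finsupp.single 0 1)
            (MvPolynomial.map (iL : Ce →+* Ce ⊗[A] B) G *
              MvPolynomial.map (iR : B →+* Ce ⊗[A] B) (C (b i) * X i)) =
          if i ∈ (α + Finsupp.single 0 1).support then
            (coeff (α + Finsupp.single 0 1 - Finsupp.single i 1) G ⊗ₜ[A] (1 : B)) *
              ((1 : Ce) ⊗ₜ[A] b i) else 0 := by
        intro i
        rw [map_mul, map_C, map_X, ← mul_assoc, coeff_mul_X']
        split_ifs with hi
        · rw [mul_comm (MvPolynomial.map _ G), coeff_C_mul, coeff_map, mul_comm]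
          rfl
        · rfl
      rw [Finset.sum_congr rfl (fun i _ => hterm i), Fin.sum_univ_succ] at h1
      have h0 : (0 : Fin (n + 1)) ∈ (α + Finsupp.single 0 1).support := by
        rw [Finsupp.mem_support_iff, Finsupp.add_apply, Finsupp.single_apply, if_pos rfl]
        omega
      rw [if_pos h0, add_tsub_cancel_right, hb, ← Algebra.TensorProduct.one_def, mul_one] at h1
      have hrest : (∑ i : Fin n, if i.succ ∈ (α + Finsupp.single 0 1).support then
          (coeff (α + Finsupp.single 0 1 - Finsupp.single i.succ 1) G ⊗ₜ[A] (1 : B)) *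
            ((1 : Ce) ⊗ₜ[A] b i.succ) else 0) ∈ ω.range := by
        refine Subalgebra.sum_mem _ (fun i _ => ?_)
        split_ifs with hi
        · refine Subalgebra.mul_mem _ ?_ (hR _)
          have hi' : α i.succ ≠ 0 := by
            rw [Finsupp.mem_support_iff, Finsupp.add_apply, Finsupp.single_apply,
              if_neg (Fin.succ_ne_zero i).symm, add_zero] at hi
            exact hi
          have hd := degS_shift α i hi'
          exact ih (degS (α + Finsupp.single 0 1 - Finsupp.single i.succ 1)) (by omega) _ rfl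
        · exact Subalgebra.zero_mem _
      have := Subalgebra.sub_mem _ h1 hrest
      rwa [add_sub_cancel_right] at this
  -- the subalgebra of `Ce` of elements `c` with `c ⊗ 1` in the range
  let E₀ : Subalgebra A Ce := ω.range.comap iL
  have hV : ValuedIn γe.law E₀.val.toLinearMap := by
    apply valuedIn_of_families
    intro n b hb α
    have h1 := hcoef n b hb _ α rfl
    exact ⟨⟨_, h1⟩, rfl⟩
  have htop := eq_top_of_valuedIn γe hγe E₀ hV
  have hL : ∀ c : Ce, c ⊗ₜ[A] (1 : B) ∈ ω.range := by
    intro c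
    have : c ∈ E₀ := by rw [htop]; trivial
    exact this
  intro z
  show z ∈ ω.range
  induction z using TensorProduct.induction_on with
  | zero => exact Subalgebra.zero_mem _
  | tmul c b₁ =>
    have h1 := Subalgebra.mul_mem _ (hL c) (hR b₁)
    rwa [Algebra.TensorProduct.tmul_mul_tmul, mul_one, one_mul] at h1
  | add x y hx hy => exact Subalgebra.add_mem _ hx hy

end omega

end Groth.Agent.Helper20.GD
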