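import Groth.Agent.Lib.Helper26.KosG
import Groth.Agent.Lib.Helper13.SemiLocal6
import Groth.Agent.Lib.Helper13.ResAffine
import Groth.Agent.Lib.Helper13.AmpleBasis

/-!
# Global generation from surjectivity of the multiplication maps (no finiteness hypothesis)
-/

set_option autoImplicit false
set_option linter.unusedSectionVars false
set_option linter.unusedVariables false
universe u
open CategoryTheory CategoryTheory.Limits AlgebraicGeometry Opposite TopologicalSpace TensorProduct
open Groth.Agent.Helper13 Groth.Agent.Helper13.Tensor Groth.Agent.Helper13.GlobGen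
  Groth.Agent.Helper13.Inv Groth.Agent.Helper13.GenLoc Groth.Agent.Helper13.Qcqs
  Groth.Agent.Helper13.Twist Groth.Agent.Helper13.Ample Groth.Agent.Helper13.QCoh
  Groth.Agent.Helper13.SemiLocal

namespace Groth.Agent.Helper20.GGMult

variable {X : Scheme.{u}}

/-- surjectivity of the multiplication map is invariant under isomorphisms of the second
factor. -/
theorem mult_surjective_iso (G : X.Modules) {N N' : X.Modules} (e : N ≅ N')
    (h : Function.Surjective ((Tensor.ηpre G N).app (op ⊤))) :
    Function.Surjective ((Tensor.ηpre G N').app (op ⊤)) := by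
  intro τ'
  obtain ⟨t, ht⟩ := h ((Tensor.map (𝟙 G) e.inv).app ⊤ τ')
  refine ⟨(Tensor.preMap (𝟙 G) e.hom).app (op ⊤) t, ?_⟩
  rw [← Groth.Agent.Helper26.Kos.map_app_ηpre, ht]
  have h1 : Tensor.map (𝟙 G) e.inv ≫ Tensor.map (𝟙 G) e.hom = 𝟙 _ :=
    (Tensor.mapIso (Iso.refl G) e).inv_hom_id
  have h2 := congr((Scheme.Modules.Hom.app $h1 ⊤) τ')
  simp only [Scheme.Modules.Hom.comp_app, ConcreteCategory.comp_apply] at h2
  exact h2

/-- elementwise version of `ggAt_of_tensor`: a germ `g` of `G` at `y` such that `g ⊗ ν` is the germ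
of a global section of `G ⊗ N`, `ν` a generator of `N` at `y`, lies in the span of the germs of
global sections of `G`, provided the multiplication map is surjective. -/
theorem mem_span_of_tensor (G N : X.Modules) (y : X)
    (hmult : Function.Surjective ((Tensor.ηpre G N).app (op ⊤)))
    (ν : N.presheaf.stalk y) (hνb : Function.Bijective (fun r : X.presheaf.stalk y => r • ν))
    (g : G.presheaf.stalk y) (τ : Γ(CohB1.tensorMod G N, ⊤))
    (hτ : (CohB1.tensorMod G N).presheaf.germ ⊤ y trivial τ = stalkTensorEquiv G N y (g ⊗ₜ ν)) :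
    g ∈ Submodule.span (X.presheaf.stalk y)
      (Set.range fun t : Γ(G, ⊤) => G.presheaf.germ ⊤ y trivial t) := by
  let ε : X.presheaf.stalk y ≃ₗ[X.presheaf.stalk y] N.presheaf.stalk y :=
    LinearEquiv.ofBijective
      (LinearMap.toSpanSingleton (X.presheaf.stalk y) (N.presheaf.stalk y) ν) hνb
  let φ : G.presheaf.stalk y ≃ₗ[X.presheaf.stalk y] (CohB1.tensorMod G N).presheaf.stalk y :=
    ((TensorProduct.rid (X.presheaf.stalk y) (G.presheaf.stalk y)).symm.trans
      (LinearEquiv.lTensor (G.presheaf.stalk y) ε)).trans (stalkTensorEquiv G N y)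
  have hφ : ∀ g, φ g = stalkTensorEquiv G N y (g ⊗ₜ ν) := by
    intro g
    change stalkTensorEquiv G N y (LinearEquiv.lTensor (G.presheaf.stalk y) ε
      ((TensorProduct.rid (X.presheaf.stalk y) (G.presheaf.stalk y)).symm g)) = _
    have hε : ε 1 = ν := one_smul (X.presheaf.stalk y) ν
    rw [TensorProduct.rid_symm_apply, LinearEquiv.lTensor_tmul, hε]
  set S : Submodule (X.presheaf.stalk y) (G.presheaf.stalk y) :=
    Submodule.span (X.presheaf.stalk y)
      (Set.range fun t : Γ(G, ⊤) => G.presheaf.germ ⊤ y trivial t) with hS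
  have hpure : ∀ (s : Γ(G, ⊤)) (u : Γ(N, ⊤)),
      (CohB1.tensorMod G N).presheaf.germ ⊤ y trivial (tmul G N s u) ∈ S.map φ.toLinearMap := by
    intro s u
    have e1 : (CohB1.tensorMod G N).presheaf.germ ⊤ y trivial (tmul G N s u) =
        stalkTensorEquiv G N y
          (G.presheaf.germ ⊤ y trivial s ⊗ₜ N.presheaf.germ ⊤ y trivial u) :=
      (stalkTensorEquiv_germ G N y _ s u).symm
    rw [e1]
    obtain ⟨c, hc⟩ := hνb.2 (N.presheaf.germ ⊤ y trivial u)
    have hc' : N.presheaf.germ ⊤ y trivial u = c • ν := hc.symm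
    rw [hc', TensorProduct.tmul_smul, TensorProduct.smul_tmul', ← hφ]
    exact Submodule.mem_map_of_mem (S.smul_mem c (Submodule.subset_span ⟨s, rfl⟩))
  have hall : ∀ t : Γ(G, ⊤) ⊗[Γ(X, ⊤)] Γ(N, ⊤),
      (CohB1.tensorMod G N).presheaf.germ ⊤ y trivial
        ((Tensor.ηpre G N).app (op ⊤) (toSecT' G N t)) ∈ S.map φ.toLinearMap := by
    intro t
    induction t using TensorProduct.induction_on with
    | zero =>
      have : (Tensor.ηpre G N).app (op ⊤) (toSecT' G N 0) = 0 := map_zero _
      rw [this, map_zero]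
      exact Submodule.zero_mem _
    | tmul s u => exact hpure s u
    | add a b ha hb =>
      have : (Tensor.ηpre G N).app (op ⊤) (toSecT' G N (a + b)) =
          (Tensor.ηpre G N).app (op ⊤) (toSecT' G N a) +
            (Tensor.ηpre G N).app (op ⊤) (toSecT' G N b) := map_add _ _ _
      rw [this, map_add]
      exact Submodule.add_mem _ ha hb
  obtain ⟨t, rfl⟩ := hmult τ
  have h1 := hall t
  have h2 : (CohB1.tensorMod G N).presheaf.germ ⊤ y trivial
      ((Tensor.ηpre G N).app (op ⊤) (toSecT' G N t)) = φ g := by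
    rw [hφ]; exact hτ
  rw [h2] at h1
  obtain ⟨g', hg', hgg'⟩ := h1
  have : g' = g := φ.injective hgg'
  rw [← this]
  exact hg'

section Twist

variable [CompactSpace X] [QuasiSeparatedSpace X]

/-- if `X_σ` is affine for a section `σ` of the invertible module `M` and all multiplication maps
`Γ(G) ⊗ Γ(M^m) → Γ(G ⊗ M^m)` are surjective, then the quasi-coherent module `G` is generated by
global sections at the points of `X_σ`. -/
theorem ggAt_of_mult (G M : X.Modules) [G.IsQuasicoherent] (hM : PicF.IsInvertible M)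
    (σ : Coh.structureModule X ⟶ M) (hσ : IsAffineOpen (CohB1.genLocus M σ))
    (hmult : ∀ m : ℕ, Function.Surjective
      ((Tensor.ηpre G (CohB1.tensorPow M m)).app (op ⊤)))
    (y : X) (hy : y ∈ CohB1.genLocus M σ) : GGAt G y := by
  unfold GGAt
  rw [eq_top_iff]
  have hspan := Groth.Agent.Helper13.ResAffine.germSpanAt_eq_top G hσ
    (fun t : Γ(G, CohB1.genLocus M σ) => t) (by
      rw [eq_top_iff]
      intro z _
      exact Submodule.subset_span ⟨z, rfl⟩) ⟨y, hy⟩
  unfold Groth.Agent.Helper13.Ext.germSpanAt at hspan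
  rw [← hspan, Submodule.span_le]
  rintro _ ⟨t, rfl⟩
  obtain ⟨m₀, h⟩ := exists_twist_eq_res_ge M hM σ G t
  obtain ⟨v, hv⟩ := h m₀ le_rfl
  have hp : IsGen (CohB1.tensorPow M m₀) (SecTwist.pow σ m₀ (CohB1.genLocus M σ)) y hy := by
    rw [pow_eq_lpow]
    apply Groth.Agent.Helper13.Ample.isGen_lpow
    have := isGen_of_mem_genLocus M σ hy
    rw [← isGen_res M (homOfLE (le_top : CohB1.genLocus M σ ≤ ⊤)) _ y hy] at this
    have h2 : M.presheaf.map (homOfLE (le_top : CohB1.genLocus M σ ≤ ⊤)).op (sec M σ) =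
        SecTwist.val σ (CohB1.genLocus M σ) := SecTwist.map_val σ (homOfLE le_top)
    rw [h2] at this
    exact this
  refine mem_span_of_tensor G (CohB1.tensorPow M m₀) y (hmult m₀) _ hp _ v ?_
  have e1 : (CohB1.tensorMod G (CohB1.tensorPow M m₀)).presheaf.germ ⊤ y trivial v =
      (CohB1.tensorMod G (CohB1.tensorPow M m₀)).presheaf.germ (CohB1.genLocus M σ) y hy
        (res _ (le_top : CohB1.genLocus M σ ≤ ⊤) v) :=
    (TopCat.Presheaf.germ_res_apply _ (homOfLE (le_top : CohB1.genLocus M σ ≤ ⊤)) y hy v).symm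
  rw [e1, hv]
  exact (stalkTensorEquiv_germ G (CohB1.tensorPow M m₀) y hy t
    (SecTwist.pow σ m₀ (CohB1.genLocus M σ))).symm

end Twist

/-- a quasi-coherent module all of whose multiplication maps against the powers of an ample
invertible module are surjective is generated by its global sections. -/
theorem isGloballyGenerated_of_mult (G L₁ : X.Modules) [G.IsQuasicoherent]
    (hL : CohB1.IsAmple L₁)
    (hmult : ∀ m : ℕ, Function.Surjective
      ((Tensor.ηpre G (CohB1.tensorPow L₁ m)).app (op ⊤))) :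
    Curv2.IsGloballyGenerated G := by
  have := Groth.Agent.Helper13.Ample.quasiSeparatedSpace_of_isAmple L₁ hL
  obtain ⟨h1, h2, h3⟩ := hL
  have := h2
  rw [isGloballyGenerated_iff]
  intro y
  obtain ⟨d, s, hy, hs⟩ := h3 y
  refine ggAt_of_mult G (CohB1.tensorPow L₁ (d + 1)) (isInvertible_tensorPow L₁ h1 (d + 1)) s hs
    (fun m => ?_) y hy
  exact mult_surjective_iso G (powMul L₁ (d + 1) m).symm (hmult ((d + 1) * m))

end Groth.Agent.Helper20.GGMult
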