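import Groth.Agent.Lib.Helper20.TPtE

/-!
# Rational points of a cubic surface from a non-T-point: base change, secant points, and density
from a good point (towards S16348)
-/

open MvPolynomial

namespace Groth.Agent.Helper20.GPA

open Groth.Agent.Helper20.CubicTaylor Groth.Agent.Helper20.CubicPolar
  Groth.Agent.Helper20.CubicSing Groth.Agent.Helper20.TPtA Groth.Agent.Helper20.TPtC
  Groth.Agent.Lib.Helper2.MvPolyHom

universe u v

section Secant

variable {k : Type u} [Field k]

/-- The residual point of the line through `a` and `w` (for `w` in the tangent plane at `a`, or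
`a` singular). -/
noncomputable def sec (F : MvPolynomial (Fin 4) k) (a w : Fin 4 → k) : Fin 4 → k :=
  eval w F • a - eval w (pq F a) • w

lemma eval_sec [Infinite k] {F : MvPolynomial (Fin 4) k} (hF : F.IsHomogeneous 3)
    (a w : Fin 4 → k) (hFa : eval a F = 0) (hw : eval w (tl F a) = 0) :
    eval (sec F a w) F = 0 := by
  have h := cubic_expand F hF a w (eval w F) (-(eval w (pq F a)))
  rw [eval_tl] at hw
  have hw' : ∑ i, w i * eval a (pderiv i F) = 0 := by
    rw [← hw]
    exact Finset.sum_congr rfl fun i _ => mul_comm _ _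
  rw [hFa, hw', ← eval_pq] at h
  have hs : sec F a w = eval w F • a + -(eval w (pq F a)) • w := by
    rw [sec, neg_smul, sub_eq_add_neg]
  rw [hs, h]
  ring

/-- The cubic form `w ↦ φ (sec F a w)`. -/
noncomputable def GG (F : MvPolynomial (Fin 4) k) (a : Fin 4 → k) (φ : (Fin 4 → k) →ₗ[k] k) :
    MvPolynomial (Fin 4) k :=
  C (φ a) * F - pq F a * linPoly φ

lemma eval_GG (F : MvPolynomial (Fin 4) k) (a : Fin 4 → k) (φ : (Fin 4 → k) →ₗ[k] k)
    (w : Fin 4 → k) : eval w (GG F a φ) = φ (sec F a w) := by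
  simp only [GG, sec, map_sub, map_mul, eval_C, eval_linPoly, map_smul, smul_eq_mul]
  ring

/-- The tangent form as a linear functional. -/
noncomputable def tlf (F : MvPolynomial (Fin 4) k) (b : Fin 4 → k) : (Fin 4 → k) →ₗ[k] k :=
  ∑ i, eval b (pderiv i F) • LinearMap.proj i

lemma tlf_apply (F : MvPolynomial (Fin 4) k) (b x : Fin 4 → k) :
    tlf F b x = eval x (tl F b) := by
  rw [eval_tl]
  simp [tlf]

lemma eval_tl_sec (F : MvPolynomial (Fin 4) k) (a w : Fin 4 → k) :
    eval (sec F a w) (tl F a) =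
      eval w F * eval a (tl F a) - eval w (pq F a) * eval w (tl F a) := by
  rw [← tlf_apply, ← tlf_apply, ← tlf_apply, sec, map_sub, map_smul, map_smul, smul_eq_mul,
    smul_eq_mul]

lemma eval_tl_eq_pq (F : MvPolynomial (Fin 4) k) (b v : Fin 4 → k) :
    eval v (tl F b) = eval b (pq F v) := by
  rw [eval_tl, eval_pq]
  exact Finset.sum_congr rfl fun i _ => mul_comm _ _

lemma eval_pq_sec [CharZero k] {F : MvPolynomial (Fin 4) k} (hF : F.IsHomogeneous 3)
    (a w : Fin 4 → k) (hFa : eval a F = 0) (hw : eval w (tl F a) = 0) :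
    eval (sec F a w) (pq F a) = eval w (pq F a) ^ 3 := by
  haveI : Infinite k := Infinite.of_injective (Nat.cast : ℕ → k) Nat.cast_injective
  have hs : sec F a w = (-(eval w (pq F a))) • w + eval w F • a := by
    rw [sec, neg_smul]
    abel
  have hy : eval ((-(eval w (pq F a))) • w) (tl F a) = 0 := by
    rw [eval_smul_of_isHomogeneous (tl_isHomogeneous F a), hw, mul_zero]
  rw [hs, expand_pq hF a hFa _ hy, eval_smul_of_isHomogeneous (pq_isHomogeneous hF a)]
  ring

end Secant

section BaseChange

variable {k : Type u} (K : Type v) [Field k] [Field K] [Algebra k K]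

/-- Base change of a point. -/
def bc (x : Fin 4 → k) : Fin 4 → K := fun i => algebraMap k K (x i)

variable {K}

lemma eval_bc (x : Fin 4 → k) (G : MvPolynomial (Fin 4) k) :
    eval (bc K x) (map (algebraMap k K) G) = algebraMap k K (eval x G) := by
  induction G using MvPolynomial.induction_on with
  | C c => simp
  | add p q hp hq => simp only [map_add, hp, hq]
  | mul_X p i hp => simp only [map_mul, hp, map_X, eval_X, bc]

lemma bc_injective : Function.Injective (bc K : (Fin 4 → k) → (Fin 4 → K)) := by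
  intro x y h
  funext i
  exact (algebraMap k K).injective (congrFun h i)

lemma bc_ne_zero {x : Fin 4 → k} (hx : x ≠ 0) : bc K x ≠ 0 := by
  intro h
  apply hx
  apply bc_injective (K := K)
  rw [h]
  funext i
  simp [bc]

lemma tl_bc (F : MvPolynomial (Fin 4) k) (b : Fin 4 → k) :
    tl (map (algebraMap k K) F) (bc K b) = map (algebraMap k K) (tl F b) := by
  simp only [tl, map_sum, map_mul, map_C, map_X, pderiv_map, eval_bc]

lemma pq_bc (F : MvPolynomial (Fin 4) k) (b : Fin 4 → k) :
    pq (map (algebraMap k K) F) (bc K b) = map (algebraMap k K) (pq F b) := by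
  simp only [pq_eq, map_sum, map_mul, map_C, pderiv_map, bc]

/-- A polynomial over `k` vanishing on the `k`-points of the tangent plane vanishes on its
`K`-points. -/
lemma vanish_bc [Infinite k] (F : MvPolynomial (Fin 4) k) (b : Fin 4 → k) (i₀ : Fin 4)
    (hb : eval b (pderiv i₀ F) ≠ 0) (G : MvPolynomial (Fin 4) k)
    (h : ∀ x, eval x (tl F b) = 0 → eval x G = 0) :
    ∀ y : Fin 4 → K, eval y (tl (map (algebraMap k K) F) (bc K b)) = 0 →
      eval y (map (algebraMap k K) G) = 0 := by
  have hmem : G ∈ Ideal.span {tl F b} := by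
    apply mem_span_of_vanish (fun i => eval b (pderiv i F)) i₀ hb
    intro x hx
    apply h
    rw [eval_tl]
    exact hx
  obtain ⟨q, hq⟩ := Ideal.mem_span_singleton'.mp hmem
  intro y hy
  rw [← hq, map_mul, map_mul, ← tl_bc, hy, mul_zero]

/-- Descent of a scalar. -/
lemma descend {x y : Fin 4 → k} (hy : y ≠ 0) (c : K) (h : c • bc K y = bc K x) :
    ∃ c' : k, c' • y = x := by
  obtain ⟨j₀, hj₀⟩ : ∃ j, y j ≠ 0 := by
    by_contra h'
    push Not at h'
    exact hy (funext h')
  have hinj := (algebraMap k K).injective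
  have hc : c = algebraMap k K (x j₀ / y j₀) := by
    have := congrFun h j₀
    simp only [Pi.smul_apply, bc, smul_eq_mul] at this
    rw [map_div₀]
    have hne : algebraMap k K (y j₀) ≠ 0 := (map_ne_zero _).mpr hj₀
    field_simp
    exact this
  refine ⟨x j₀ / y j₀, ?_⟩
  funext j
  apply hinj
  have := congrFun h j
  simp only [Pi.smul_apply, bc, smul_eq_mul] at this
  rw [Pi.smul_apply, smul_eq_mul, map_mul, ← hc]
  exact this

end BaseChange

section Good

variable {k : Type u} {K : Type v} [Field k] [Field K] [Algebra k K]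

/-- Coordinates on the tangent plane are unique. -/
lemma coords_unique {a h₁ h₂ : Fin 4 → k} {c₀ cα cβ : (Fin 4 → k) →ₗ[k] k}
    {T : (Fin 4 → k) → Prop}
    (hind : ∀ s α β : k, s • a + α • h₁ + β • h₂ = 0 → s = 0 ∧ α = 0 ∧ β = 0)
    (hspan : ∀ x, T x → x = c₀ x • a + cα x • h₁ + cβ x • h₂)
    (x : Fin 4 → k) (hx : T x) (s α β : k) (h : x = s • a + α • h₁ + β • h₂) :
    c₀ x = s ∧ cα x = α ∧ cβ x = β := by
  have h2 := hspan x hx
  have h3 : (s - c₀ x) • a + (α - cα x) • h₁ + (β - cβ x) • h₂ = 0 := by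
    have : (s - c₀ x) • a + (α - cα x) • h₁ + (β - cβ x) • h₂ =
        (s • a + α • h₁ + β • h₂) - (c₀ x • a + cα x • h₁ + cβ x • h₂) := by
      simp only [sub_smul]
      abel
    rw [this, ← h, ← h2, sub_self]
  obtain ⟨e1, e2, e3⟩ := hind _ _ _ h3
  exact ⟨(sub_eq_zero.mp e1).symm, (sub_eq_zero.mp e2).symm, (sub_eq_zero.mp e3).symm⟩

/-- From a smooth rational point which is not a T-point, rational points avoiding finitely many
planes none of which is the tangent plane. -/
theorem dense_of_good [CharZero k] [CharZero K] [IsAlgClosed K]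
    {F : MvPolynomial (Fin 4) k} (hF : F.IsHomogeneous 3)
    (b : Fin 4 → k) (hFb : eval b F = 0) (i₀ : Fin 4) (hb : eval b (pderiv i₀ F) ≠ 0)
    (hTb : ¬ TP (map (algebraMap k K) F) (bc K b))
    (n : ℕ) (φ : Fin n → ((Fin 4 → k) →ₗ[k] k)) (v : Fin n → (Fin 4 → k))
    (hv : ∀ i, φ i (v i) = 0) (hv' : ∀ i, eval (v i) (tl F b) ≠ 0) (hφ : ∀ i, φ i ≠ 0) :
    ∃ p, eval p F = 0 ∧ ∀ i, φ i p ≠ 0 := by
  classical
  haveI : Infinite k := Infinite.of_injective (Nat.cast : ℕ → k) Nat.cast_injective
  have hFK : (map (algebraMap k K) F).IsHomogeneous 3 := hF.map _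
  have hFbK : eval (bc K b) (map (algebraMap k K) F) = 0 := by rw [eval_bc, hFb, map_zero]
  have hbK : eval (bc K b) (pderiv i₀ (map (algebraMap k K) F)) ≠ 0 := by
    rw [pderiv_map, eval_bc]
    exact (map_ne_zero _).mpr hb
  obtain ⟨h₁, h₂, c₀, cα, cβ, hh₁, hh₂, hind, hspan⟩ := tangent_coords hF b hFb i₀ hb
  have hrestr : ∀ G : MvPolynomial (Fin 4) k, psi b h₁ h₂ G = 0 →
      ∀ x, eval x (tl F b) = 0 → eval x G = 0 := by
    intro G h0 x hx
    have := congrArg (eval ![c₀ x, cα x, cβ x]) h0
    rw [eval_psi, map_zero] at this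
    have e0 : (![c₀ x, cα x, cβ x] : Fin 3 → k) 0 = c₀ x := rfl
    have e1 : (![c₀ x, cα x, cβ x] : Fin 3 → k) 1 = cα x := rfl
    have e2 : (![c₀ x, cα x, cβ x] : Fin 3 → k) 2 = cβ x := rfl
    rw [e0, e1, e2, ← hspan x hx] at this
    exact this
  have hne : ∀ i, psi b h₁ h₂ (GG F b (φ i)) ≠ 0 := by
    intro i h0
    have hvan := hrestr _ h0
    by_cases hφb : φ i b = 0
    · have hprod : psi b h₁ h₂ (pq F b) * psi b h₁ h₂ (linPoly (φ i)) = 0 := by
        rw [← map_mul]
        have hG : GG F b (φ i) = -(pq F b * linPoly (φ i)) := by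
          simp [GG, hφb]
        rw [hG, map_neg, neg_eq_zero] at h0
        exact h0
      rcases mul_eq_zero.mp hprod with h1 | h1
      · apply hTb
        apply TP_of_pq_vanish hFK (bc K b) hFbK i₀ hbK
        rw [pq_bc]
        exact vanish_bc F b i₀ hb _ (hrestr _ h1)
      · have hvan2 : ∀ x, eval x (tl F b) = 0 → φ i x = 0 := by
          intro x hx
          have := hrestr _ h1 x hx
          rw [eval_linPoly] at this
          exact this
        apply hφ i
        apply LinearMap.ext
        intro x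
        have hvi := hv' i
        have hx' : eval (x + (-(eval x (tl F b) / eval (v i) (tl F b))) • v i) (tl F b) = 0 := by
          rw [eval_tl_add_smul]
          field_simp
          ring
        have := hvan2 _ hx'
        rw [map_add, map_smul, hv i, smul_zero, add_zero] at this
        rw [this]
        rfl
    · apply hTb
      apply TP_of_pq_mul hFK (bc K b) hFbK i₀ hbK
        (C (algebraMap k K (φ i b))⁻¹ * map (algebraMap k K) (linPoly (φ i)))
        (((linPoly_isHomogeneous (φ i)).map _).C_mul _)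
      intro y hy
      have h1 := vanish_bc (K := K) F b i₀ hb (GG F b (φ i)) hvan y hy
      have hne' : algebraMap k K (φ i b) ≠ 0 := (map_ne_zero _).mpr hφb
      rw [GG, map_sub, map_mul, map_mul, map_C, ← pq_bc,
        map_sub, map_mul, map_mul, eval_C] at h1
      rw [map_mul, eval_C]
      field_simp
      linear_combination h1
  have hprod : ∏ i, psi b h₁ h₂ (GG F b (φ i)) ≠ 0 :=
    Finset.prod_ne_zero_iff.mpr fun i _ => hne i
  obtain ⟨y, hy⟩ : ∃ y : Fin 3 → k, eval y (∏ i, psi b h₁ h₂ (GG F b (φ i))) ≠ 0 := by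
    by_contra hcon
    push Not at hcon
    exact hprod (MvPolynomial.funext fun y => by rw [hcon y, map_zero])
  rw [map_prod] at hy
  set w := y 0 • b + y 1 • h₁ + y 2 • h₂ with hw
  have hwT : eval w (tl F b) = 0 := by
    rw [hw, eval_tl_comb, eval_tl_self hF b hFb, hh₁, hh₂]
    ring
  refine ⟨sec F b w, eval_sec hF b w hFb hwT, fun i => ?_⟩
  rw [← eval_GG, hw, ← eval_psi]
  exact (Finset.prod_ne_zero_iff.mp hy) i (Finset.mem_univ i)

end Good

end Groth.Agent.Helper20.GPA
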