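import Groth.Agent.Lib.Helper20.GPA

/-!
# Rational points of a cubic surface from a non-T-point: existence of a good point and density
(towards S16348)
-/

open MvPolynomial

namespace Groth.Agent.Helper20.GPB

open Groth.Agent.Helper20.CubicTaylor Groth.Agent.Helper20.CubicPolar
  Groth.Agent.Helper20.CubicSing Groth.Agent.Helper20.TPtA Groth.Agent.Helper20.TPtC
  Groth.Agent.Helper20.TPtD Groth.Agent.Helper20.GPA
  Groth.Agent.Lib.Helper2.MvPolyHom

universe u v

variable {k : Type u} {K : Type v} [Field k] [Field K] [Algebra k K]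

/-- In the tangent plane section at a smooth rational non-T-point there is a rational point which is
smooth, not a T-point, and whose tangent plane is none of finitely many given planes. -/
theorem exists_good [CharZero k] [CharZero K] [IsAlgClosed K]
    {F : MvPolynomial (Fin 4) k} (hF : F.IsHomogeneous 3)
    (a : Fin 4 → k) (hFa : eval a F = 0) (k₀ : Fin 4) (hk₀ : eval a (pderiv k₀ F) ≠ 0)
    (hT : ¬ TP (map (algebraMap k K) F) (bc K a))
    (n : ℕ) (φ : Fin n → ((Fin 4 → k) →ₗ[k] k)) :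
    ∃ (b : Fin 4 → k) (v : Fin n → (Fin 4 → k)), eval b F = 0 ∧ eval b (pderiv k₀ F) ≠ 0 ∧
      ¬ TP (map (algebraMap k K) F) (bc K b) ∧ (∀ i, φ i (v i) = 0) ∧
      ∀ i, eval (v i) (tl F b) ≠ 0 := by
  classical
  haveI : Infinite k := Infinite.of_injective (Nat.cast : ℕ → k) Nat.cast_injective
  set FK := map (algebraMap k K) F with hFKdef
  have hFK : FK.IsHomogeneous 3 := hF.map _
  have hFaK : eval (bc K a) FK = 0 := by rw [hFKdef, eval_bc, hFa, map_zero]
  have hkK : eval (bc K a) (pderiv k₀ FK) ≠ 0 := by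
    rw [hFKdef, pderiv_map, eval_bc]
    exact (map_ne_zero _).mpr hk₀
  have ha0 : a ≠ 0 := ne_zero_of_smooth hF a k₀ hk₀
  obtain ⟨i₁, hi₁⟩ : ∃ i, a i ≠ 0 := by
    by_contra h
    push Not at h
    exact ha0 (funext h)
  have hi₁K : bc K a i₁ ≠ 0 := (map_ne_zero _).mpr hi₁
  have hinj := injective_of_not_TP hFK k₀ i₁ (bc K a) hFaK hkK hi₁K hT
  obtain ⟨D, hDhom, hDa, hDb⟩ := Groth.Agent.Helper20.TPtB.semicont (Lam FK k₀ i₁) 2
    (fun e ψ => Lam_poly hFK k₀ i₁ e ψ) (bc K a) hinj
  -- the auxiliary vectors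
  have hvex : ∀ i, ∃ v : Fin 4 → k, φ i v = 0 ∧ (eval v (tl F a) ≠ 0 ∨ v = a) := by
    intro i
    by_cases h : ∃ v, φ i v = 0 ∧ eval v (tl F a) ≠ 0
    · obtain ⟨v, h1, h2⟩ := h
      exact ⟨v, h1, Or.inl h2⟩
    · push Not at h
      refine ⟨a, ?_, Or.inr rfl⟩
      by_contra hφa
      have hall : ∀ x, eval x (tl F a) = 0 := by
        intro x
        have hx := h (x + (-(φ i x / φ i a)) • a) (by
          rw [map_add, map_smul, smul_eq_mul]
          field_simp
          ring)
        rw [eval_tl_add_smul, eval_tl_self hF a hFa, mul_zero, add_zero] at hx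
        exact hx
      have h3 := hall (Pi.single k₀ 1)
      rw [eval_tl] at h3
      simp [Pi.single_apply] at h3
      exact hk₀ h3
  choose v hv1 hv2 using hvex
  set Q : Fin n → MvPolynomial (Fin 4) K := fun i =>
    if eval (v i) (tl F a) ≠ 0 then map (algebraMap k K) (pq F (v i)) else pderiv k₀ FK with hQ
  have hQhom : ∀ i, (Q i).IsHomogeneous 2 := by
    intro i
    simp only [hQ]
    split_ifs
    · exact (pq_isHomogeneous hF (v i)).map _
    · exact hFK.pderiv
  have hQa : ∀ i, eval (bc K a) (Q i) ≠ 0 := by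
    intro i
    simp only [hQ]
    split_ifs with h
    · rw [eval_bc, ← eval_tl_eq_pq]
      exact (map_ne_zero _).mpr h
    · exact hkK
  set D' : MvPolynomial (Fin 4) K := pderiv k₀ FK * D * ∏ i, Q i with hD'
  have hD'hom : D'.IsHomogeneous (2 + 2 * Module.finrank K (E K) + ∑ _i : Fin n, 2) := by
    apply IsHomogeneous.mul
    · apply IsHomogeneous.mul
      · exact hFK.pderiv
      · exact hDhom
    · exact IsHomogeneous.prod _ _ _ (fun i _ => hQhom i)
  have hD'a : eval (bc K a) D' ≠ 0 := by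
    rw [hD', map_mul, map_mul, map_prod]
    exact mul_ne_zero (mul_ne_zero hkK hDa) (Finset.prod_ne_zero_iff.mpr fun i _ => hQa i)
  have hfin := finite_of_det hFK (bc K a) hFaK k₀ hkK hT D' _ (by omega) hD'hom hD'a
  -- coordinates on the tangent plane
  obtain ⟨h₁, h₂, c₀, cα, cβ, hh₁, hh₂, hind, hspan⟩ := tangent_coords hF a hFa k₀ hk₀
  obtain ⟨B, hB⟩ := quad_expand (pq F a) (pq_isHomogeneous hF a) h₁ h₂
  set w : k → (Fin 4 → k) := fun t => h₁ + t • h₂ with hwdef
  have hwT : ∀ t, eval (w t) (tl F a) = 0 := by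
    intro t
    simp only [hwdef]
    rw [eval_tl_add_smul, hh₁, hh₂]
    ring
  have hPw : ∀ t, eval (w t) (pq F a) =
      eval h₁ (pq F a) + t * B + t ^ 2 * eval h₂ (pq F a) := by
    intro t
    have := hB 1 t
    rw [one_smul] at this
    simp only [hwdef]
    rw [this]
    ring
  set π : Polynomial k := Polynomial.C (eval h₁ (pq F a)) + Polynomial.C B * Polynomial.X +
    Polynomial.C (eval h₂ (pq F a)) * Polynomial.X ^ 2 with hπ
  have hπeval : ∀ t, π.eval t = eval (w t) (pq F a) := by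
    intro t
    rw [hPw, hπ]
    simp
    ring
  have hπ0 : π ≠ 0 := by
    intro h0
    have hz0 : ∀ t, eval (w t) (pq F a) = 0 := by
      intro t
      rw [← hπeval, h0, Polynomial.eval_zero]
    have e0 := hPw 0
    have e1 := hPw 1
    have em := hPw (-1)
    rw [hz0] at e0 e1 em
    have c0 : eval h₁ (pq F a) = 0 := by linear_combination -e0
    have c1 : B = 0 := by linear_combination (-1 / 2 : k) * e1 + (1 / 2 : k) * em
    have c2 : eval h₂ (pq F a) = 0 := by
      linear_combination (-1 / 2 : k) * e1 - (1 / 2 : k) * em + e0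
    apply hT
    apply TP_of_pq_vanish hFK (bc K a) hFaK k₀ hkK
    rw [hFKdef, pq_bc]
    apply vanish_bc F a k₀ hk₀
    intro x hx
    have hx' := hspan x hx
    have hcomb : eval (cα x • h₁ + cβ x • h₂) (tl F a) = 0 := by
      have := eval_tl_comb F a h₁ h₂ 0 (cα x) (cβ x) 0
      rw [zero_smul, add_zero] at this
      rw [this, hh₁, hh₂]
      ring
    have hxd : x = (cα x • h₁ + cβ x • h₂) + c₀ x • a := by
      calc x = c₀ x • a + cα x • h₁ + cβ x • h₂ := hx'
        _ = _ := by abel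
    rw [hxd, expand_pq hF a hFa _ hcomb, hB, c0, c1, c2]
    ring
  have hTinf : Set.Infinite {t : k | π.eval t ≠ 0} := by
    have hfin' : Set.Finite {t : k | π.IsRoot t} := Polynomial.finite_setOfPred_isRoot hπ0
    exact hfin'.infinite_compl.mono (fun t ht => ht)
  set bt : k → (Fin 4 → k) := fun t => sec F a (w t) with hbt
  have hbtF : ∀ t, eval (bt t) F = 0 := fun t => eval_sec hF a (w t) hFa (hwT t)
  have hbtT : ∀ t, eval (bt t) (tl F a) = 0 := by
    intro t
    simp only [hbt]
    rw [eval_tl_sec, eval_tl_self hF a hFa, hwT t]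
    ring
  have hbtcoord : ∀ t, cα (bt t) = -(eval (w t) (pq F a)) ∧
      cβ (bt t) = -(eval (w t) (pq F a)) * t := by
    intro t
    have hdec : bt t = eval (w t) F • a + (-(eval (w t) (pq F a))) • h₁ +
        (-(eval (w t) (pq F a)) * t) • h₂ := by
      simp only [hbt, sec]
      conv_lhs => rw [show w t = h₁ + t • h₂ from rfl]
      rw [smul_add, smul_smul]
      simp only [neg_smul, neg_mul]
      abel
    obtain ⟨-, e2, e3⟩ := coords_unique hind hspan (bt t) (hbtT t) _ _ _ hdec
    exact ⟨e2, e3⟩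
  have hbt0 : ∀ t, π.eval t ≠ 0 → bt t ≠ 0 := by
    intro t ht h0
    have := (hbtcoord t).1
    rw [h0, map_zero] at this
    apply ht
    rw [hπeval]
    exact neg_eq_zero.mp this.symm
  set U : k → Submodule K (Fin 4 → K) := fun t => Submodule.span K {bc K (bt t)} with hU
  have hUinj : Set.InjOn U {t : k | π.eval t ≠ 0} := by
    intro t ht t' ht' hUU
    have hmem : bc K (bt t) ∈ U t' := by
      rw [← hUU]
      exact Submodule.mem_span_singleton_self _
    obtain ⟨c, hc⟩ := Submodule.mem_span_singleton.mp hmem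
    obtain ⟨c', hc'⟩ := descend (hbt0 t' ht') c hc
    have e1 := (hbtcoord t).1
    have e2 := (hbtcoord t).2
    have e1' := (hbtcoord t').1
    have e2' := (hbtcoord t').2
    rw [← hc', map_smul, smul_eq_mul, e1'] at e1
    rw [← hc', map_smul, smul_eq_mul, e2'] at e2
    have hP : eval (w t) (pq F a) ≠ 0 := by
      rw [← hπeval]
      exact ht
    have : eval (w t) (pq F a) * t' = eval (w t) (pq F a) * t := by
      linear_combination t' * e1 - e2
    exact (mul_left_cancel₀ hP this).symm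
  have hUbad : ∀ t, π.eval t ≠ 0 → eval (bc K (bt t)) D' = 0 →
      U t ∈ {U : Submodule K (Fin 4 → K) | Module.finrank K U = 1 ∧
        (∀ x ∈ U, eval x (tl FK (bc K a)) = 0) ∧
          ∀ b ∈ U, b ≠ 0 → eval b FK = 0 ∧ eval b D' = 0} := by
    intro t ht hD0
    refine ⟨finrank_span_singleton (bc_ne_zero (hbt0 t ht)), ?_, ?_⟩
    · intro x hx
      obtain ⟨c, rfl⟩ := Submodule.mem_span_singleton.mp hx
      rw [eval_smul_of_isHomogeneous (tl_isHomogeneous _ _), hFKdef, tl_bc, eval_bc, hbtT t,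
        map_zero, mul_zero]
    · intro x hx _
      obtain ⟨c, rfl⟩ := Submodule.mem_span_singleton.mp hx
      constructor
      · rw [eval_smul_of_isHomogeneous hFK, hFKdef, eval_bc, hbtF t, map_zero, mul_zero]
      · rw [eval_smul_of_isHomogeneous hD'hom, hD0, mul_zero]
  have himg : (U '' {t : k | π.eval t ≠ 0}).Infinite := hTinf.image hUinj
  obtain ⟨_, ⟨t, ht, rfl⟩, hnot⟩ := himg.exists_notMem_finite hfin
  have hD'ne : eval (bc K (bt t)) D' ≠ 0 := fun h => hnot (hUbad t ht h)
  rw [hD', map_mul, map_mul, map_prod] at hD'ne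
  have h1 : eval (bc K (bt t)) (pderiv k₀ FK) ≠ 0 :=
    left_ne_zero_of_mul (left_ne_zero_of_mul hD'ne)
  have h2 : eval (bc K (bt t)) D ≠ 0 := right_ne_zero_of_mul (left_ne_zero_of_mul hD'ne)
  have h3 : ∏ i, eval (bc K (bt t)) (Q i) ≠ 0 := right_ne_zero_of_mul hD'ne
  have hPt : eval (w t) (pq F a) ≠ 0 := by
    rw [← hπeval]
    exact ht
  refine ⟨bt t, v, hbtF t, ?_, ?_, hv1, ?_⟩
  · rw [hFKdef, pderiv_map, eval_bc] at h1
    exact (map_ne_zero _).mp h1
  · intro hTb
    have hFbK : eval (bc K (bt t)) FK = 0 := by rw [hFKdef, eval_bc, hbtF t, map_zero]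
    exact not_injective_of_TP hFK k₀ i₁ (bc K (bt t)) hFbK k₀ h1 hTb (hDb _ h2)
  · intro i
    rcases hv2 i with h | h
    · have hq := (Finset.prod_ne_zero_iff.mp h3) i (Finset.mem_univ i)
      simp only [hQ] at hq
      rw [if_pos h, eval_bc] at hq
      rw [eval_tl_eq_pq]
      exact (map_ne_zero _).mp hq
    · rw [h, eval_tl_eq_pq]
      simp only [hbt]
      rw [eval_pq_sec hF a (w t) hFa (hwT t)]
      exact pow_ne_zero 3 hPt

/-- Density of rational points from a singular rational point. -/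
theorem dense_of_sing [CharZero k]
    {F : MvPolynomial (Fin 4) k} (hF : F.IsHomogeneous 3)
    (hirr : Irreducible (map (algebraMap k K) F))
    (hcone : ¬ ∃ v : Fin 4 → k, v ≠ 0 ∧ ∑ i : Fin 4, v i • pderiv i F = 0)
    (a : Fin 4 → k) (ha : a ≠ 0) (hFa : eval a F = 0) (hsing : ∀ i, eval a (pderiv i F) = 0)
    (n : ℕ) (φ : Fin n → ((Fin 4 → k) →ₗ[k] k)) (hφ : ∀ i, φ i ≠ 0) :
    ∃ p, eval p F = 0 ∧ ∀ i, φ i p ≠ 0 := by
  classical
  haveI : Infinite k := Infinite.of_injective (Nat.cast : ℕ → k) Nat.cast_injective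
  have hlin0 : ∀ i, linPoly (φ i) ≠ 0 := by
    intro i h0
    apply hφ i
    apply LinearMap.ext
    intro x
    have := congrArg (eval x) h0
    rw [eval_linPoly, map_zero] at this
    rw [this]
    rfl
  have hpq0 : pq F a ≠ 0 := fun h0 => hcone ⟨a, ha, h0⟩
  have hne : ∀ i, GG F a (φ i) ≠ 0 := by
    intro i h0
    by_cases hφa : φ i a = 0
    · have hG : GG F a (φ i) = -(pq F a * linPoly (φ i)) := by
        simp [GG, hφa]
      rw [hG, neg_eq_zero] at h0
      rcases mul_eq_zero.mp h0 with h | h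
      · exact hpq0 h
      · exact hlin0 i h
    · have hCF : C (φ i a) * F = pq F a * linPoly (φ i) := sub_eq_zero.mp h0
      have hFeq : F = (C (φ i a)⁻¹ * pq F a) * linPoly (φ i) := by
        calc F = C (φ i a)⁻¹ * (C (φ i a) * F) := by
              rw [← mul_assoc, ← C_mul, inv_mul_cancel₀ hφa, C_1, one_mul]
          _ = _ := by rw [hCF, mul_assoc]
      have hmapF : map (algebraMap k K) F = map (algebraMap k K) (C (φ i a)⁻¹ * pq F a) *
          map (algebraMap k K) (linPoly (φ i)) := by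
        conv_lhs => rw [hFeq]
        rw [map_mul]
      rcases hirr.isUnit_or_isUnit hmapF with hu | hu
      · have h1 := eval_zero_ne_zero_of_isUnit hu
        have h2 : (map (algebraMap k K) (C (φ i a)⁻¹ * pq F a)).IsHomogeneous 2 :=
          ((pq_isHomogeneous hF a).C_mul _).map _
        exact h1 (eval_zero_of_isHomogeneous h2 (by norm_num))
      · have h1 := eval_zero_ne_zero_of_isUnit hu
        have h2 : (map (algebraMap k K) (linPoly (φ i))).IsHomogeneous 1 :=
          (linPoly_isHomogeneous (φ i)).map _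
        exact h1 (eval_zero_of_isHomogeneous h2 (by norm_num))
  have hprod : ∏ i, GG F a (φ i) ≠ 0 := Finset.prod_ne_zero_iff.mpr fun i _ => hne i
  obtain ⟨w, hw⟩ : ∃ w : Fin 4 → k, eval w (∏ i, GG F a (φ i)) ≠ 0 := by
    by_contra hcon
    push Not at hcon
    exact hprod (MvPolynomial.funext fun y => by rw [hcon y, map_zero])
  rw [map_prod] at hw
  have hwT : eval w (tl F a) = 0 := by
    rw [eval_tl]
    simp [hsing]
  refine ⟨sec F a w, eval_sec hF a w hFa hwT, fun i => ?_⟩
  rw [← eval_GG]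
  exact (Finset.prod_ne_zero_iff.mp hw) i (Finset.mem_univ i)

/-- Density of rational points of a cubic surface with a rational point which is not a T-point. -/
theorem dense [CharZero k] [CharZero K] [IsAlgClosed K]
    {F : MvPolynomial (Fin 4) k} (hF : F.IsHomogeneous 3)
    (hirr : Irreducible (map (algebraMap k K) F))
    (hcone : ¬ ∃ v : Fin 4 → k, v ≠ 0 ∧ ∑ i : Fin 4, v i • pderiv i F = 0)
    (a : Fin 4 → k) (ha : a ≠ 0) (hFa : eval a F = 0)
    (hT : ¬ TP (map (algebraMap k K) F) (bc K a))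
    (n : ℕ) (φ : Fin n → ((Fin 4 → k) →ₗ[k] k)) (hφ : ∀ i, φ i ≠ 0) :
    ∃ p, eval p F = 0 ∧ ∀ i, φ i p ≠ 0 := by
  by_cases hsm : ∃ k₀, eval a (pderiv k₀ F) ≠ 0
  · obtain ⟨k₀, hk₀⟩ := hsm
    obtain ⟨b, v, hFb, hb, hTb, hv1, hv2⟩ := exists_good (K := K) hF a hFa k₀ hk₀ hT n φ
    exact dense_of_good (K := K) hF b hFb k₀ hb hTb n φ v hv1 hv2 hφ
  · push Not at hsm
    exact dense_of_sing (K := K) hF hirr hcone a ha hFa hsm n φ hφ

end Groth.Agent.Helper20.GPB
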