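import Groth.Agent.Lib.Helper20.GPB

/-!
# Five rational points in general position on a cubic surface with a rational non-T-point (S16348)
-/

open MvPolynomial

namespace Groth.Agent.Helper20.GPC

open Groth.Agent.Helper20.TPtA Groth.Agent.Helper20.GPA Groth.Agent.Helper20.GPB

universe u

variable {k : Type u} [Field k]

lemma avoid (S : Set (Fin 4 → k))
    (hdense : ∀ (n : ℕ) (φ : Fin n → ((Fin 4 → k) →ₗ[k] k)), (∀ i, φ i ≠ 0) →
      ∃ p ∈ S, ∀ i, φ i p ≠ 0)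
    (n : ℕ) (W : Fin n → Submodule k (Fin 4 → k)) (hW : ∀ i, W i < ⊤) :
    ∃ p ∈ S, ∀ i, p ∉ W i := by
  have := fun i => (W i).exists_le_ker_of_lt_top (hW i)
  choose φ hφ0 hφ using this
  obtain ⟨p, hpS, hp⟩ := hdense n φ hφ0
  exact ⟨p, hpS, fun i hmem => hp i (LinearMap.mem_ker.mp (hφ i hmem))⟩

lemma span_lt_top {m : ℕ} (hm : m < 4) (v : Fin m → (Fin 4 → k)) :
    Submodule.span k (Set.range v) < ⊤ := by
  apply Submodule.lt_top_of_finrank_lt_finrank
  have h1 := finrank_range_le_card (R := k) v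
  rw [Fintype.card_fin] at h1
  rw [Module.finrank_fin_fun]
  exact lt_of_le_of_lt h1 hm

theorem assemble (S : Set (Fin 4 → k))
    (hdense : ∀ (n : ℕ) (φ : Fin n → ((Fin 4 → k) →ₗ[k] k)), (∀ i, φ i ≠ 0) →
      ∃ p ∈ S, ∀ i, φ i p ≠ 0)
    (a : Fin 4 → k) (ha : a ≠ 0) (haS : a ∈ S) :
    ∃ p : Fin 5 → (Fin 4 → k), p 0 = a ∧ (∀ j, p j ∈ S) ∧
      ∀ j : Fin 5, LinearIndependent k (fun i : Fin 4 => p (j.succAbove i)) := by
  set q₁ : Fin 1 → (Fin 4 → k) := fun _ => a with hq₁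
  have li1 : LinearIndependent k q₁ := linearIndependent_unique_iff.mpr ha
  obtain ⟨p₁, h1S, h1⟩ := avoid S hdense 1 (fun _ => Submodule.span k (Set.range q₁))
    (fun _ => span_lt_top (by norm_num) _)
  have li2 := li1.finSnoc (h1 0)
  set q₂ : Fin 2 → (Fin 4 → k) := Fin.snoc q₁ p₁ with hq₂
  obtain ⟨p₂, h2S, h2⟩ := avoid S hdense 1 (fun _ => Submodule.span k (Set.range q₂))
    (fun _ => span_lt_top (by norm_num) _)
  have li3 := li2.finSnoc (h2 0)
  set q₃ : Fin 3 → (Fin 4 → k) := Fin.snoc q₂ p₂ with hq₃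
  obtain ⟨p₃, h3S, h3⟩ := avoid S hdense 1 (fun _ => Submodule.span k (Set.range q₃))
    (fun _ => span_lt_top (by norm_num) _)
  have li4 := li3.finSnoc (h3 0)
  set q₄ : Fin 4 → (Fin 4 → k) := Fin.snoc q₃ p₃ with hq₄
  obtain ⟨p₄, h4S, h4⟩ := avoid S hdense 4
    (fun j => Submodule.span k (Set.range (q₄ ∘ j.succAbove)))
    (fun j => span_lt_top (by norm_num) _)
  have key : ∀ j : Fin 4, LinearIndependent k
      (Fin.snoc (q₄ ∘ j.succAbove) p₄ : Fin 4 → (Fin 4 → k)) := fun j =>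
    (li4.comp j.succAbove Fin.succAbove_right_injective).finSnoc (h4 j)
  refine ⟨Fin.snoc q₄ p₄, rfl, ?_, ?_⟩
  · intro j
    fin_cases j
    · exact haS
    · exact h1S
    · exact h2S
    · exact h3S
    · exact h4S
  · intro j
    fin_cases j
    · have : (fun i : Fin 4 => (Fin.snoc q₄ p₄ : Fin 5 → (Fin 4 → k))
          (Fin.succAbove (⟨0, by norm_num⟩ : Fin 5) i)) =
          Fin.snoc (q₄ ∘ (0 : Fin 4).succAbove) p₄ := by
        funext i
        fin_cases i <;> rfl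
      rw [this]
      exact key 0
    · have : (fun i : Fin 4 => (Fin.snoc q₄ p₄ : Fin 5 → (Fin 4 → k))
          (Fin.succAbove (⟨1, by norm_num⟩ : Fin 5) i)) =
          Fin.snoc (q₄ ∘ (1 : Fin 4).succAbove) p₄ := by
        funext i
        fin_cases i <;> rfl
      rw [this]
      exact key 1
    · have : (fun i : Fin 4 => (Fin.snoc q₄ p₄ : Fin 5 → (Fin 4 → k))
          (Fin.succAbove (⟨2, by norm_num⟩ : Fin 5) i)) =
          Fin.snoc (q₄ ∘ (2 : Fin 4).succAbove) p₄ := by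
        funext i
        fin_cases i <;> rfl
      rw [this]
      exact key 2
    · have : (fun i : Fin 4 => (Fin.snoc q₄ p₄ : Fin 5 → (Fin 4 → k))
          (Fin.succAbove (⟨3, by norm_num⟩ : Fin 5) i)) =
          Fin.snoc (q₄ ∘ (3 : Fin 4).succAbove) p₄ := by
        funext i
        fin_cases i <;> rfl
      rw [this]
      exact key 3
    · have : (fun i : Fin 4 => (Fin.snoc q₄ p₄ : Fin 5 → (Fin 4 → k))
          (Fin.succAbove (⟨4, by norm_num⟩ : Fin 5) i)) = q₄ := by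
        funext i
        fin_cases i <;> rfl
      rw [this]
      exact li4

theorem main (k : Type u) [Field k] [CharZero k]
    (F : MvPolynomial (Fin 4) k) (hF : F.IsHomogeneous 3)
    (hirr : Irreducible (MvPolynomial.map (algebraMap k (AlgebraicClosure k)) F))
    (hcone : ¬ ∃ v : Fin 4 → k, v ≠ 0 ∧ ∑ i : Fin 4, v i • MvPolynomial.pderiv i F = 0)
    (a : Fin 4 → k) (ha : a ≠ 0) (hFa : MvPolynomial.eval a F = 0)
    (ℓ : MvPolynomial (Fin 4) (AlgebraicClosure k))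
    (hℓ : ℓ = ∑ i : Fin 4, MvPolynomial.C (algebraMap k (AlgebraicClosure k)
      (MvPolynomial.eval a (MvPolynomial.pderiv i F))) * MvPolynomial.X i)
    (hT : ¬ ∃ L₁ L₂ L₃ : MvPolynomial (Fin 4) (AlgebraicClosure k), L₁.IsHomogeneous 1 ∧
      L₂.IsHomogeneous 1 ∧ L₃.IsHomogeneous 1 ∧
      MvPolynomial.map (algebraMap k (AlgebraicClosure k)) F - L₁ * L₂ * L₃ ∈ Ideal.span {ℓ}) :
    ∃ p : Fin 5 → (Fin 4 → k), p 0 = a ∧ (∀ j : Fin 5, MvPolynomial.eval (p j) F = 0) ∧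
      ∀ j : Fin 5, LinearIndependent k (fun i : Fin 4 => p (j.succAbove i)) := by
  have htl : tl (map (algebraMap k (AlgebraicClosure k)) F) (bc (AlgebraicClosure k) a) = ℓ := by
    rw [tl_bc, hℓ]
    simp only [tl, map_sum, map_mul, map_C, map_X]
  have hT' : ¬ TP (map (algebraMap k (AlgebraicClosure k)) F) (bc (AlgebraicClosure k) a) := by
    intro h
    apply hT
    obtain ⟨L₁, L₂, L₃, h1, h2, h3, hmem⟩ := h
    refine ⟨L₁, L₂, L₃, h1, h2, h3, ?_⟩
    rw [← htl]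
    exact hmem
  obtain ⟨p, hp0, hpS, hpli⟩ := assemble {x : Fin 4 → k | eval x F = 0}
    (fun n φ hφ => by
      obtain ⟨p, h1, h2⟩ := dense (K := AlgebraicClosure k) hF hirr hcone a ha hFa hT' n φ hφ
      exact ⟨p, h1, h2⟩) a ha hFa
  exact ⟨p, hp0, hpS, hpli⟩

end Groth.Agent.Helper20.GPC
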