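import Mathlib
import Groth.Prelude
import Groth.Agent.Lib.Helper8.Gor6
import Groth.Agent.Lib.Helper8.LCFlat2
import Groth.Agent.Lib.Helper8.Canon13

/-!
# Local cohomology at a maximal ideal and at the localization (helper20)

For a maximal ideal `m` of a Noetherian ring `R` and `A = R_m`, an `m`-power torsion module `H`
is its own localization; we transfer vanishing, the socle and faithfulness between `H^i_m(R)` and
`H^i_{mA}(A)`.
-/

open TensorProduct IsLocalRing

namespace Groth.Agent.Helper20.GorBr

universe u

/-- the socle of `H` with respect to `m` is nonzero and cyclic -/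
def SocSimple {R : Type u} [CommRing R] (m : Ideal R) (H : Type u) [AddCommGroup H] [Module R H] :
    Prop :=
  ∃ w₀ : H, w₀ ≠ 0 ∧ (∀ r ∈ m, r • w₀ = 0) ∧
    ∀ w : H, (∀ r ∈ m, r • w = 0) → ∃ c : R, w = c • w₀

theorem SocSimple.of_linearEquiv {R : Type u} [CommRing R] {m : Ideal R} {H H' : Type u}
    [AddCommGroup H] [Module R H] [AddCommGroup H'] [Module R H'] (e : H ≃ₗ[R] H')
    (h : SocSimple m H) : SocSimple m H' := by
  obtain ⟨w₀, h0, hm, hgen⟩ := h
  refine ⟨e w₀, fun h => h0 (by simpa using h), fun r hr => by rw [← map_smul, hm r hr, map_zero],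
    fun w hw => ?_⟩
  obtain ⟨c, hc⟩ := hgen (e.symm w) (fun r hr => by rw [← map_smul, hw r hr, map_zero])
  refine ⟨c, ?_⟩
  rw [← map_smul, ← hc, LinearEquiv.apply_symm_apply]

section Loc

variable {R : Type u} [CommRing R] (m : Ideal R) [hm : m.IsMaximal]
variable {H : Type u} [AddCommGroup H] [Module R H]

theorem eq_zero_of_smul_eq_zero {u : R} (hu : u ∉ m) {a : H} {k : ℕ}
    (hk : ∀ c ∈ m ^ k, c • a = 0) (h : u • a = 0) : a = 0 := by
  obtain ⟨y, i, hi, hyi⟩ := Ideal.IsMaximal.exists_inv_pow m hu k
  calc a = (1 : R) • a := (one_smul _ _).symm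
    _ = (y * u + i) • a := by rw [hyi]
    _ = y • (u • a) + i • a := by rw [add_smul, mul_smul]
    _ = 0 := by rw [h, smul_zero, hk i hi, add_zero]

variable (htors : ∀ x : H, ∃ k : ℕ, ∀ c ∈ m ^ k, c • x = 0)

/-- the canonical map `H → R_m ⊗ H` -/
noncomputable abbrev iota : H →ₗ[R] (Localization.AtPrime m ⊗[R] H) :=
  TensorProduct.mk R (Localization.AtPrime m) H 1

instance isLocalizedModule_iota : IsLocalizedModule m.primeCompl (iota m (H := H)) :=
  (isLocalizedModule_iff_isBaseChange m.primeCompl (Localization.AtPrime m) _).2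
    (TensorProduct.isBaseChange R _ (Localization.AtPrime m))

include htors in
theorem iota_injective : Function.Injective (iota m (H := H)) := by
  intro x y hxy
  obtain ⟨c, hc⟩ := (IsLocalizedModule.eq_iff_exists m.primeCompl (iota m (H := H))).1 hxy
  obtain ⟨k, hk⟩ := htors (x - y)
  have h1 : (c : R) • (x - y) = 0 := by
    rw [smul_sub, sub_eq_zero]
    exact hc
  exact sub_eq_zero.1 (eq_zero_of_smul_eq_zero m c.2 hk h1)

include htors in
theorem iota_surjective : Function.Surjective (iota m (H := H)) := by
  intro y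
  obtain ⟨⟨w, s⟩, hws⟩ := IsLocalizedModule.surj m.primeCompl (iota m (H := H)) y
  obtain ⟨k, hk⟩ := htors w
  obtain ⟨y', i, hi, hyi⟩ := Ideal.IsMaximal.exists_inv_pow m s.2 k
  have hw : w = (s : R) • (y' • w) := by
    calc w = (1 : R) • w := (one_smul _ _).symm
      _ = (y' * s + i) • w := by rw [hyi]
      _ = (s : R) • (y' • w) + i • w := by rw [add_smul, mul_comm, mul_smul]
      _ = (s : R) • (y' • w) := by rw [hk i hi, add_zero]
  refine ⟨y' • w, ?_⟩
  apply IsLocalizedModule.smul_injective (iota m (H := H)) s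
  have hws' : s • y = iota m w := hws
  show s • iota m (y' • w) = s • y
  rw [hws', Submonoid.smul_def, ← map_smul, ← hw]

theorem iota_smul (r : R) (w : H) :
    iota m (r • w) = algebraMap R (Localization.AtPrime m) r • iota m w := by
  rw [map_smul, algebraMap_smul]

include htors in
theorem iota_mem_torsion_iff (w : H) :
    iota m w ∈ Submodule.torsionBySet (Localization.AtPrime m) (Localization.AtPrime m ⊗[R] H)
      (maximalIdeal (Localization.AtPrime m) : Set (Localization.AtPrime m)) ↔
      ∀ r ∈ m, r • w = 0 := by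
  rw [Submodule.mem_torsionBySet_iff]
  constructor
  · intro h r hr
    have h1 : algebraMap R (Localization.AtPrime m) r ∈ maximalIdeal (Localization.AtPrime m) :=
      (IsLocalization.AtPrime.to_map_mem_maximal_iff (Localization.AtPrime m) m r).2 hr
    have h2 := h ⟨_, h1⟩
    simp only [] at h2
    rw [← iota_smul] at h2
    exact iota_injective m htors (by rw [h2, map_zero])
  · rintro h ⟨a, ha⟩
    obtain ⟨r, s, rfl⟩ := IsLocalization.exists_mk'_eq m.primeCompl a
    have hr : r ∈ m := (IsLocalization.AtPrime.mk'_mem_maximal_iff (Localization.AtPrime m) m r s).1 ha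
    have hu : IsUnit (algebraMap R (Localization.AtPrime m) s) :=
      IsLocalization.map_units (Localization.AtPrime m) s
    show IsLocalization.mk' (Localization.AtPrime m) r s • iota m w = 0
    have h1 : algebraMap R (Localization.AtPrime m) s •
        (IsLocalization.mk' (Localization.AtPrime m) r s • iota m w) = 0 := by
      rw [smul_smul, mul_comm, IsLocalization.mk'_spec, ← iota_smul, h r hr, map_zero]
    exact (IsUnit.smul_eq_zero hu).1 h1

include htors in
/-- the socle of `R_m ⊗ H` is simple iff the socle of `H` is nonzero and cyclic -/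
theorem isSimpleModule_torsion_iff_socSimple :
    IsSimpleModule (Localization.AtPrime m)
      (Submodule.torsionBySet (Localization.AtPrime m) (Localization.AtPrime m ⊗[R] H)
        (maximalIdeal (Localization.AtPrime m) : Set (Localization.AtPrime m))) ↔
      SocSimple m H := by
  rw [isSimpleModule_iff_toSpanSingleton_surjective]
  constructor
  · rintro ⟨hnt, hsurj⟩
    obtain ⟨z, hz⟩ := exists_ne (0 : Submodule.torsionBySet (Localization.AtPrime m)
      (Localization.AtPrime m ⊗[R] H)
        (maximalIdeal (Localization.AtPrime m) : Set (Localization.AtPrime m)))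
    obtain ⟨w₀, hw₀⟩ := iota_surjective m htors z.1
    refine ⟨w₀, ?_, ?_, ?_⟩
    · rintro rfl
      apply hz
      apply Subtype.ext
      rw [← hw₀, map_zero]
      rfl
    · exact (iota_mem_torsion_iff m htors w₀).1 (hw₀ ▸ z.2)
    · intro w hw
      have hwT := (iota_mem_torsion_iff m htors w).2 hw
      obtain ⟨a, ha⟩ := hsurj z hz ⟨iota m w, hwT⟩
      obtain ⟨c, s, rfl⟩ := IsLocalization.exists_mk'_eq m.primeCompl a
      have h1 : IsLocalization.mk' (Localization.AtPrime m) c s • iota m w₀ = iota m w := by
        have := congrArg Subtype.val ha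
        rw [LinearMap.toSpanSingleton_apply] at this
        rw [hw₀]
        exact this
      have h2 : iota m (c • w₀) = iota m ((s : R) • w) := by
        rw [iota_smul, iota_smul, ← h1, smul_smul, mul_comm, IsLocalization.mk'_spec]
      have h3 : c • w₀ = (s : R) • w := iota_injective m htors h2
      obtain ⟨y, i, hi, hyi⟩ := Ideal.IsMaximal.exists_inv_pow m s.2 1
      rw [pow_one] at hi
      refine ⟨y * c, ?_⟩
      calc w = (1 : R) • w := (one_smul _ _).symm
        _ = (y * s + i) • w := by rw [hyi]
        _ = y • ((s : R) • w) + i • w := by rw [add_smul, mul_smul]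
        _ = (y * c) • w₀ := by rw [← h3, hw i hi, add_zero, mul_smul]
  · rintro ⟨w₀, hw₀0, hw₀m, hgen⟩
    have hw₀T := (iota_mem_torsion_iff m htors w₀).2 hw₀m
    refine ⟨⟨⟨iota m w₀, hw₀T⟩, 0, ?_⟩, ?_⟩
    · intro h
      apply hw₀0
      apply iota_injective m htors
      rw [map_zero]
      exact congrArg Subtype.val h
    · intro x hx t
      obtain ⟨w, hw⟩ := iota_surjective m htors x.1
      have hwm := (iota_mem_torsion_iff m htors w).1 (hw ▸ x.2)
      obtain ⟨c, hc⟩ := hgen w hwm
      have hcm : c ∉ m := by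
        intro h
        apply hx
        apply Subtype.ext
        rw [← hw, hc, hw₀m c h, map_zero]
        rfl
      obtain ⟨w', hw'⟩ := iota_surjective m htors t.1
      have hw'm := (iota_mem_torsion_iff m htors w').1 (hw' ▸ t.2)
      obtain ⟨c', hc'⟩ := hgen w' hw'm
      refine ⟨IsLocalization.mk' (Localization.AtPrime m) c' (⟨c, hcm⟩ : m.primeCompl), ?_⟩
      apply Subtype.ext
      rw [LinearMap.toSpanSingleton_apply]
      show IsLocalization.mk' (Localization.AtPrime m) c' (⟨c, hcm⟩ : m.primeCompl) • x.1 = t.1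
      rw [← hw, ← hw', hc, hc', iota_smul, iota_smul, smul_smul]
      congr 1
      exact IsLocalization.mk'_spec (Localization.AtPrime m) c' (⟨c, hcm⟩ : m.primeCompl)

include htors in
theorem subsingleton_iff :
    Subsingleton (Localization.AtPrime m ⊗[R] H) ↔ Subsingleton H :=
  (Equiv.ofBijective _ ⟨iota_injective m htors, iota_surjective m htors⟩).subsingleton_congr.symm

include htors in
theorem faithful_of_faithful
    (h : ∀ a : Localization.AtPrime m, a ≠ 0 → ∃ z : Localization.AtPrime m ⊗[R] H, a • z ≠ 0)
    (r : R) (hr : algebraMap R (Localization.AtPrime m) r ≠ 0) : ∃ w : H, r • w ≠ 0 := by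
  obtain ⟨z, hz⟩ := h _ hr
  obtain ⟨w, rfl⟩ := iota_surjective m htors z
  refine ⟨w, fun h0 => hz ?_⟩
  rw [← iota_smul, h0, map_zero]

end Loc

end Groth.Agent.Helper20.GorBr
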