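import Mathlib
import Groth.Prelude
import Groth.Agent.Lib.Helper20.GorBr1
import Groth.Agent.Lib.Helper8.LCLes4
import Groth.Agent.Lib.Helper8.LCTors

/-!
# Local cohomology at a maximal ideal and at the localization, II (helper20)
-/

open TensorProduct IsLocalRing

namespace Groth.Agent.Helper20.GorBr

open Groth.Agent.Helper8 Groth.Agent.Helper8.LC Groth.Agent.Helper8.Gor

universe u

section LC

variable {R : Type u} [CommRing R] [IsNoetherianRing R] (m : Ideal R) [hm : m.IsMaximal]

theorem nonempty_loc_H_equiv (i : ℕ) :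
    Nonempty (Localization.AtPrime m ⊗[R] H m i R ≃ₗ[Localization.AtPrime m]
      H (maximalIdeal (Localization.AtPrime m)) i (Localization.AtPrime m)) := by
  haveI : IsNoetherianRing (Localization.AtPrime m) :=
    IsLocalization.isNoetherianRing m.primeCompl _ inferInstance
  haveI : Module.Flat R (Localization.AtPrime m) := IsLocalization.flat _ m.primeCompl
  obtain ⟨e1⟩ := exists_equiv_baseChange (R' := Localization.AtPrime m) m i ⟨R⟩
  have hmap : m.map (algebraMap R (Localization.AtPrime m)) =
      maximalIdeal (Localization.AtPrime m) := Localization.AtPrime.map_eq_maximalIdeal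
  exact ⟨e1 ≪≫ₗ Hcongr _ i (TensorProduct.AlgebraTensorModule.rid R (Localization.AtPrime m)
    (Localization.AtPrime m)) ≪≫ₗ HcongrIdeal hmap i (Localization.AtPrime m)⟩

theorem lc_subsingleton_iff (i : ℕ) :
    Subsingleton (H (maximalIdeal (Localization.AtPrime m)) i (Localization.AtPrime m)) ↔
      Subsingleton (H m i R) := by
  obtain ⟨e⟩ := nonempty_loc_H_equiv m i
  rw [← e.toEquiv.subsingleton_congr]
  exact subsingleton_iff m (fun x => H_exists_pow_smul_eq_zero m i R x)

theorem lc_socle_iff (n : ℕ) :
    IsSimpleModule (Localization.AtPrime m)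
      (Submodule.torsionBySet (Localization.AtPrime m)
        (H (maximalIdeal (Localization.AtPrime m)) n (Localization.AtPrime m))
        (maximalIdeal (Localization.AtPrime m) : Set (Localization.AtPrime m))) ↔
      SocSimple m (H m n R) := by
  obtain ⟨e⟩ := nonempty_loc_H_equiv m n
  rw [← isSimpleModule_torsion_iff_socSimple m (fun x => H_exists_pow_smul_eq_zero m n R x)]
  have e2 := Groth.Agent.Helper8.Uniq.torsionBySetCongr e
    (maximalIdeal (Localization.AtPrime m) : Set (Localization.AtPrime m))
  exact ⟨fun h => IsSimpleModule.congr e2, fun h => IsSimpleModule.congr e2.symm⟩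

theorem lc_faithful (n : ℕ)
    (h : ∀ a : Localization.AtPrime m, a ≠ 0 →
      ∃ z : H (maximalIdeal (Localization.AtPrime m)) n (Localization.AtPrime m), a • z ≠ 0)
    (r : R) (hr : algebraMap R (Localization.AtPrime m) r ≠ 0) : ∃ w : H m n R, r • w ≠ 0 := by
  obtain ⟨e⟩ := nonempty_loc_H_equiv m n
  refine faithful_of_faithful m (fun x => H_exists_pow_smul_eq_zero m n R x) ?_ r hr
  intro a ha
  obtain ⟨z, hz⟩ := h a ha
  refine ⟨e.symm z, fun h0 => hz ?_⟩
  rw [← map_smul] at h0
  exact (LinearEquiv.map_eq_zero_iff _).1 h0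

end LC

section Hull

variable {A : Type u} [CommRing A] [IsLocalRing A] {E : Type u} [AddCommGroup E] [Module A E]

/-- an injective hull of the residue field is a faithful module -/
theorem exists_smul_ne_zero_of_isInjectiveHull {g : ResidueField A →ₗ[A] E}
    (hg : InjHull.IsInjectiveHull g) (a : A) (ha : a ≠ 0) : ∃ z : E, a • z ≠ 0 := by
  let f : A →ₗ[A] A := LinearMap.toSpanSingleton A A a
  have hf : ∀ r, f r = r * a := fun r => by
    rw [LinearMap.toSpanSingleton_apply, smul_eq_mul]
  have hle : LinearMap.ker f ≤ LinearMap.ker (Algebra.linearMap A (ResidueField A)) := by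
    intro x hx
    rw [LinearMap.mem_ker, hf] at hx
    rw [LinearMap.mem_ker, Algebra.linearMap_apply]
    show residue A x = 0
    rw [residue_eq_zero_iff]
    by_contra hxm
    have hu : IsUnit x := by
      by_contra hnu
      exact hxm ((mem_maximalIdeal x).2 hnu)
    exact ha (hu.mul_right_eq_zero.1 hx)
  let g' : LinearMap.range f →ₗ[A] E :=
    g ∘ₗ (LinearMap.ker f).liftQ (Algebra.linearMap A (ResidueField A)) hle ∘ₗ
      f.quotKerEquivRange.symm.toLinearMap
  haveI := hg.isInjective
  obtain ⟨h, hh⟩ := Module.Injective.out (LinearMap.range f).subtype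
    (LinearMap.range f).injective_subtype g'
  refine ⟨h 1, ?_⟩
  have h1 : a • h 1 = g' ⟨f 1, LinearMap.mem_range_self f 1⟩ := by
    rw [← hh, ← map_smul]
    congr 1
    show a • (1 : A) = f 1
    rw [hf, smul_eq_mul, mul_one, one_mul]
  rw [h1]
  show g ((LinearMap.ker f).liftQ (Algebra.linearMap A (ResidueField A)) hle
    (f.quotKerEquivRange.symm ⟨f 1, LinearMap.mem_range_self f 1⟩)) ≠ 0
  rw [LinearMap.quotKerEquivRange_symm_apply_image, Submodule.mkQ_apply, Submodule.liftQ_apply,
    Algebra.linearMap_apply, map_one]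
  intro h0
  have := hg.injective (h0.trans (map_zero g).symm)
  exact one_ne_zero this

end Hull

section Gor

variable (A : Type u) [CommRing A] [hG : LocCoh.IsGorensteinLocalRing A]

/-- the local cohomology of a Gorenstein local ring -/
theorem gorenstein_facts (n : ℕ) (hn : ringKrullDim A = n) :
    (∀ i : ℕ, i ≠ n → Subsingleton (H (maximalIdeal A) i A)) ∧
    IsSimpleModule A
      (Submodule.torsionBySet A (H (maximalIdeal A) n A) (maximalIdeal A : Set A)) ∧
    ∀ a : A, a ≠ 0 → ∃ z : H (maximalIdeal A) n A, a • z ≠ 0 := by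
  haveI hCM := Groth.Agent.Lead.Depth.isCohenMacaulayLocalRing_of_isGorensteinLocalRing A
  have hhi := Groth.Agent.Lead.Depth.gorenstein_ext_residueField_subsingleton (R := A) n hn
    (n + 1) le_rfl
  obtain ⟨g, hg⟩ := exists_isInjectiveHull_H hn hhi
  refine ⟨fun i hi => ?_, isSimpleModule_socle_of_injective hn hg.isInjective,
    fun a ha => exists_smul_ne_zero_of_isInjectiveHull hg a ha⟩
  rcases lt_or_gt_of_ne hi with h | h
  · exact H_subsingleton_of_lt_depth A n (Groth.Agent.Helper8.Canon.depth_eq_of_CM hn) i h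
  · exact H_subsingleton_of_ringKrullDim_lt (maximalIdeal A) n hn A i h

end Gor

end Groth.Agent.Helper20.GorBr
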