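import Mathlib
import Groth.Agent.Lib.Helper20.GrInj2

open DirectSum

namespace Groth.Agent.Helper20.GrInj

universe u

variable {ι : Type} [AddCommGroup ι] [DecidableEq ι]
variable {R : Type u} [CommRing R]
variable {σ : Type u} [SetLike σ R] [AddSubgroupClass σ R] (𝒜 : ι → σ) [GradedRing 𝒜]
variable {X : Type u} [AddCommGroup X] [Module R X] (𝒳 : ι → AddSubgroup X)
  [DirectSum.Decomposition 𝒳] [SetLike.GradedSMul 𝒜 𝒳]

omit [GradedRing 𝒜] [AddSubgroupClass σ R] in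
/-- components of `r • m` for homogeneous `r` -/
theorem decompose_smul_of_mem {h : ι} {r : R} (hr : r ∈ 𝒜 h) (m : X) (g : ι) :
    (decompose 𝒳 (r • m) (h + g) : X) = r • (decompose 𝒳 m g : X) := by
  induction m using DirectSum.Decomposition.inductionOn 𝒳 with
  | zero => simp
  | @homogeneous j m =>
    have hm : r • (m : X) ∈ 𝒳 (h + j) := by
      have := SetLike.GradedSMul.smul_mem (A := 𝒜) (B := 𝒳) hr m.2
      rwa [vadd_eq_add] at this
    by_cases hjg : j = g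
    · subst hjg
      rw [decompose_of_mem_same 𝒳 hm, decompose_of_mem_same 𝒳 m.2]
    · have : h + j ≠ h + g := fun e => hjg (add_left_cancel e)
      rw [decompose_of_mem_ne 𝒳 hm this, decompose_of_mem_ne 𝒳 m.2 hjg, smul_zero]
  | add m m' ih ih' =>
    rw [smul_add, decompose_add, decompose_add, DirectSum.add_apply, DirectSum.add_apply,
      AddSubgroup.coe_add, AddSubgroup.coe_add, smul_add, ih, ih']

omit [GradedRing 𝒜] [SetLike.GradedSMul 𝒜 𝒳] in
theorem inf_isHomogeneous {P Q : Submodule R X} (hP : P.IsHomogeneous 𝒳) (hQ : Q.IsHomogeneous 𝒳) :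
    (P ⊓ Q).IsHomogeneous 𝒳 := fun i _ hm => ⟨hP i hm.1, hQ i hm.2⟩

omit [GradedRing 𝒜] [SetLike.GradedSMul 𝒜 𝒳] in
theorem bot_isHomogeneous : (⊥ : Submodule R X).IsHomogeneous 𝒳 := by
  intro i m hm
  rw [Submodule.mem_bot] at hm
  rw [hm, decompose_zero, DirectSum.zero_apply, ZeroMemClass.coe_zero]
  exact Submodule.zero_mem _

omit [GradedRing 𝒜] [SetLike.GradedSMul 𝒜 𝒳] in
theorem map_isHomogeneous {Y : Type u} [AddCommGroup Y] [Module R Y] (𝒴 : ι → AddSubgroup Y)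
    [DirectSum.Decomposition 𝒴] {f : X →ₗ[R] Y} (hf : GrLC.IsGrHom 𝒳 𝒴 f)
    {P : Submodule R X} (hP : P.IsHomogeneous 𝒳) : (P.map f).IsHomogeneous 𝒴 := by
  rintro i _ ⟨m, hm, rfl⟩
  exact ⟨_, hP i hm, (decompose_map 𝒳 𝒴 hf m i).symm⟩

theorem pow_isHomogeneous (a : HomogeneousIdeal 𝒜) (n : ℕ) : (a.toIdeal ^ n).IsHomogeneous 𝒜 := by
  induction n with
  | zero => rw [pow_zero, Ideal.one_eq_top]; exact Ideal.IsHomogeneous.top 𝒜
  | succ n ih => rw [pow_succ]; exact ih.mul a.isHomogeneous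

/-- the torsion submodule for a homogeneous ideal is homogeneous -/
theorem gam_isHomogeneous (a : HomogeneousIdeal 𝒜) :
    (GrLC.gam a.toIdeal X).IsHomogeneous 𝒳 := by
  classical
  rintro g m ⟨n, hn⟩
  refine ⟨n, fun r hr => ?_⟩
  have hhom := pow_isHomogeneous 𝒜 a n
  rw [← sum_support_decompose 𝒜 r, Finset.sum_smul]
  apply Finset.sum_eq_zero
  intro h _
  have h1 : (decompose 𝒜 r h : R) ∈ a.toIdeal ^ n := hhom h hr
  rw [← decompose_smul_of_mem 𝒜 𝒳 (decompose 𝒜 r h).2 m g, hn _ h1, decompose_zero,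
    DirectSum.zero_apply, ZeroMemClass.coe_zero]

end Groth.Agent.Helper20.GrInj
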