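import Mathlib
import Groth.Agent.Lib.Helper20.GrInj3

open DirectSum

namespace Groth.Agent.Helper20.GrInj

universe u


variable {ι : Type} [AddCommGroup ι] [DecidableEq ι]
variable {R : Type u} [CommRing R]
variable {σ : Type u} [SetLike σ R] [AddSubgroupClass σ R] {𝒜 : ι → σ} [GradedRing 𝒜]
variable {M : Type u} [AddCommGroup M] [Module R M] {ℳ : ι → AddSubgroup M}
  [DirectSum.Decomposition ℳ] [SetLike.GradedSMul 𝒜 ℳ]

theorem comap_isHomogeneous {X : Type u} [AddCommGroup X] [Module R X] (𝒳 : ι → AddSubgroup X)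
    [DirectSum.Decomposition 𝒳] {Y : Type u} [AddCommGroup Y] [Module R Y] (𝒴 : ι → AddSubgroup Y)
    [DirectSum.Decomposition 𝒴] {f : X →ₗ[R] Y} (hf : GrLC.IsGrHom 𝒳 𝒴 f)
    {Q : Submodule R Y} (hQ : Q.IsHomogeneous 𝒴) : (Q.comap f).IsHomogeneous 𝒳 := by
  intro i m hm
  rw [Submodule.mem_comap] at hm ⊢
  rw [← decompose_map 𝒳 𝒴 hf]
  exact hQ i hm

theorem cocyc_isHomogeneous (E : GrLC.StarInjRes 𝒜 ℳ) (a : HomogeneousIdeal 𝒜) (i : ℕ) :
    (E.cocyc a i).IsHomogeneous (E.X i).gr :=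
  inf_isHomogeneous _ (gam_isHomogeneous 𝒜 _ a) (ker_isHomogeneous _ _ (E.d_grHom i))

theorem cobdy_isHomogeneous (E : GrLC.StarInjRes 𝒜 ℳ) (a : HomogeneousIdeal 𝒜) (i : ℕ) :
    (E.cobdy a i).IsHomogeneous (E.X i).gr := by
  cases i with
  | zero => exact bot_isHomogeneous _
  | succ n => exact map_isHomogeneous _ _ (E.d_grHom n) (gam_isHomogeneous 𝒜 _ a)

theorem Hgr_isInternal (E : GrLC.StarInjRes 𝒜 ℳ) (a : HomogeneousIdeal 𝒜) (i : ℕ) :
    DirectSum.IsInternal (E.Hgr a i) := by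
  letI := (subGr_isInternal (E.X i).gr (E.cocyc a i) (cocyc_isHomogeneous E a i)).chooseDecomposition
  have hsub : GrLC.IsGrHom (subGr (E.X i).gr (E.cocyc a i)) (E.X i).gr (E.cocyc a i).subtype :=
    fun g m hm => hm
  have hB : ((E.cobdy a i).comap (E.cocyc a i).subtype).IsHomogeneous
      (subGr (E.X i).gr (E.cocyc a i)) :=
    comap_isHomogeneous _ _ hsub (cobdy_isHomogeneous E a i)
  have h := quotGrM_isInternal (subGr (E.X i).gr (E.cocyc a i)) _ hB
  have heq : E.Hgr a i = quotGrM (subGr (E.X i).gr (E.cocyc a i))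
      ((E.cobdy a i).comap (E.cocyc a i).subtype) := by
    funext g
    ext x
    constructor
    · rintro ⟨z, hz, rfl⟩
      exact ⟨z, hz, rfl⟩
    · rintro ⟨z, hz, rfl⟩
      exact ⟨z, hz, rfl⟩
  rw [heq]
  exact h

end Groth.Agent.Helper20.GrInj
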