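import Mathlib
import Groth.Prelude.Def_Wider
import Groth.Agent.Lib.Helper20.GrInj4

open DirectSum

namespace Groth.Agent.Helper20.GrInj

universe u

variable {ι : Type} [AddCommGroup ι] [DecidableEq ι]
variable {R : Type u} [CommRing R]
variable {σ : Type u} [SetLike σ R] [AddSubgroupClass σ R] (𝒜 : ι → σ) [GradedRing 𝒜]
variable {L : Type u} [AddCommGroup L] [Module R L] (𝓛 : ι → AddSubgroup L)
  [DirectSum.Decomposition 𝓛] [SetLike.GradedSMul 𝒜 𝓛]

omit [GradedRing 𝒜] [AddSubgroupClass σ R] [SetLike σ R] [SetLike.GradedSMul 𝒜 𝓛] [CommRing R]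
  [Module R L] in
theorem decompose_sum_homog_shift (d : ι) (s : Finset ι) (c : ι → L) (hc : ∀ i, c i ∈ 𝓛 (d + i))
    (j : ι) : (decompose 𝓛 (∑ i ∈ s, c i) (d + j) : L) = if j ∈ s then c j else 0 := by
  rw [decompose_sum, DFinsupp.finsetSum_apply, AddSubmonoidClass.coe_finsetSum]
  have : ∀ i ∈ s, ((decompose 𝓛 (c i)) (d + j) : L) = if i = j then c j else 0 := by
    intro i _
    by_cases hij : i = j
    · subst hij
      rw [if_pos rfl, decompose_of_mem_same 𝓛 (hc i)]
    · have : d + i ≠ d + j := fun e => hij (add_left_cancel e)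
      rw [if_neg hij, decompose_of_mem_ne 𝓛 (hc i) this]
  rw [Finset.sum_congr rfl this, Finset.sum_ite_eq' s j]

/-- components of `r • x` for homogeneous `x` -/
theorem decompose_smul_homog_right {g : ι} {x : L} (hx : x ∈ 𝓛 g) (r : R) (h : ι) :
    (decompose 𝓛 (r • x) (h + g) : L) = (decompose 𝒜 r h : R) • x := by
  induction r using DirectSum.Decomposition.inductionOn 𝒜 with
  | zero => simp
  | @homogeneous j r =>
    have hm : (r : R) • x ∈ 𝓛 (j + g) := by
      have := SetLike.GradedSMul.smul_mem (A := 𝒜) (B := 𝓛) r.2 hx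
      rwa [vadd_eq_add] at this
    by_cases hjh : j = h
    · subst hjh
      rw [decompose_of_mem_same 𝓛 hm, decompose_of_mem_same 𝒜 r.2]
    · have : j + g ≠ h + g := fun e => hjh (add_right_cancel e)
      rw [decompose_of_mem_ne 𝓛 hm this, decompose_of_mem_ne 𝒜 r.2 hjh, zero_smul]
  | add r r' ih ih' =>
    rw [add_smul, decompose_add, decompose_add, DirectSum.add_apply, DirectSum.add_apply,
      AddSubgroup.coe_add, AddMemClass.coe_add, add_smul, ih, ih']

variable {M : Type u} [AddCommGroup M] [Module R M] (ℳ : ι → AddSubgroup M)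
  [DirectSum.Decomposition ℳ]

/-- Step A: a nonzero homogeneous element has a nonzero homogeneous multiple in the image -/
theorem exists_homog_smul_mem_range {f : M →ₗ[R] L} (hf : GrLC.IsStarEss ℳ 𝓛 f)
    {g : ι} {x : L} (hx : x ∈ 𝓛 g) (hx0 : x ≠ 0) :
    ∃ (h : ι) (r : R), r ∈ 𝒜 h ∧ r • x ∈ LinearMap.range f ∧ r • x ≠ 0 := by
  classical
  have hP : (Submodule.span R {x}).IsHomogeneous 𝓛 := by
    intro i m hm
    rw [Submodule.mem_span_singleton] at hm
    obtain ⟨r, rfl⟩ := hm
    have : i = (i - g) + g := (sub_add_cancel i g).symm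
    rw [this, decompose_smul_homog_right 𝒜 𝓛 hx]
    exact Submodule.smul_mem _ _ (Submodule.mem_span_singleton_self x)
  have hne : Submodule.span R {x} ≠ ⊥ := by
    rw [Ne, Submodule.span_singleton_eq_bot]
    exact hx0
  have hess := hf.essential _ hP hne
  rw [Ne, Submodule.eq_bot_iff] at hess
  push Not at hess
  obtain ⟨z, ⟨hz1, hz2⟩, hz0⟩ := hess
  rw [SetLike.mem_coe, Submodule.mem_span_singleton] at hz1
  obtain ⟨r, rfl⟩ := hz1
  -- some component is nonzero
  have hrange := range_isHomogeneous ℳ 𝓛 hf.grHom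
  by_contra hcon
  push Not at hcon
  apply hz0
  rw [← sum_support_decompose 𝒜 r, Finset.sum_smul]
  apply Finset.sum_eq_zero
  intro h _
  apply hcon h _ (decompose 𝒜 r h).2
  rw [← decompose_smul_homog_right 𝒜 𝓛 hx]
  exact hrange _ hz2

theorem exists_homog_smul_sum_mem_range {f : M →ₗ[R] L} (hf : GrLC.IsStarEss ℳ 𝓛 f) :
    ∀ (n : ℕ) (d : ι) (s : Finset ι) (c : ι → L), s.card ≤ n → (∀ g, c g ∈ 𝓛 (d + g)) →
      ∑ g ∈ s, c g ≠ 0 →
      ∃ (h : ι) (r : R), r ∈ 𝒜 h ∧ r • ∑ g ∈ s, c g ∈ LinearMap.range f ∧ r • ∑ g ∈ s, c g ≠ 0 := by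
  intro n
  induction n with
  | zero =>
    intro d s c hs hc hne
    exfalso
    apply hne
    rw [Nat.le_zero, Finset.card_eq_zero] at hs
    rw [hs, Finset.sum_empty]
  | succ n ih =>
    intro d s c hs hc hne
    -- pick an index with nonzero term
    have hex : ∃ g0 ∈ s, c g0 ≠ 0 := by
      by_contra hcon
      push Not at hcon
      exact hne (Finset.sum_eq_zero hcon)
    obtain ⟨g0, hg0s, hg0⟩ := hex
    obtain ⟨h, r, hr, hrmem, hrne⟩ := exists_homog_smul_mem_range 𝒜 𝓛 ℳ hf (hc g0) hg0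
    have hsplit : ∑ g ∈ s, c g = c g0 + ∑ g ∈ s.erase g0, c g :=
      (Finset.add_sum_erase s c hg0s).symm
    have hc' : ∀ g, r • c g ∈ 𝓛 ((h + d) + g) := by
      intro g
      have := SetLike.GradedSMul.smul_mem (A := 𝒜) (B := 𝓛) hr (hc g)
      rwa [vadd_eq_add, ← add_assoc] at this
    by_cases hy : ∑ g ∈ s.erase g0, r • c g = 0
    · refine ⟨h, r, hr, ?_, ?_⟩
      · rw [hsplit, smul_add, Finset.smul_sum, hy, add_zero]; exact hrmem
      · rw [hsplit, smul_add, Finset.smul_sum, hy, add_zero]; exact hrne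
    · have hcard : (s.erase g0).card ≤ n := by
        rw [Finset.card_erase_of_mem hg0s]; omega
      obtain ⟨h', r', hr', hr'mem, hr'ne⟩ := ih (h + d) (s.erase g0) (fun g => r • c g) hcard hc' hy
      refine ⟨h' + h, r' * r, ?_, ?_, ?_⟩
      · have := SetLike.GradedMonoid.toGradedMul.mul_mem hr' hr
        exact this
      · rw [hsplit, smul_add, mul_smul, mul_smul, Finset.smul_sum]
        exact Submodule.add_mem _ (Submodule.smul_mem _ _ hrmem) hr'mem
      · intro hzero
        apply hr'ne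
        -- all terms vanish
        have hc'' : ∀ g, (r' * r) • c g ∈ 𝓛 ((h' + h + d) + g) := by
          intro g
          have h1 := SetLike.GradedSMul.smul_mem (A := 𝒜) (B := 𝓛) hr' (hc' g)
          rw [vadd_eq_add, ← add_assoc, ← add_assoc, ← mul_smul] at h1
          exact h1
        rw [Finset.smul_sum] at hzero
        rw [Finset.smul_sum]
        apply Finset.sum_eq_zero
        intro g hg
        have h2 := decompose_sum_homog_shift 𝓛 (h' + h + d) s (fun g => (r' * r) • c g) hc'' g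
        rw [hzero, if_pos (Finset.mem_of_mem_erase hg), decompose_zero, DirectSum.zero_apply,
          ZeroMemClass.coe_zero] at h2
        rw [← mul_smul]
        exact h2.symm

include 𝒜 in
/-- a *essential extension is essential -/
theorem isEssentialInj_of_isStarEss {f : M →ₗ[R] L} (hf : GrLC.IsStarEss ℳ 𝓛 f) :
    InjHull.IsEssentialInj f := by
  classical
  refine ⟨hf.injective, fun N hN => ?_⟩
  rw [Ne, Submodule.eq_bot_iff] at hN
  push Not at hN
  obtain ⟨x, hxN, hx0⟩ := hN
  have hsum := sum_support_decompose 𝓛 x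
  have hc : ∀ g, (decompose 𝓛 x g : L) ∈ 𝓛 (0 + g) := by
    intro g
    rw [zero_add]
    exact (decompose 𝓛 x g).2
  have hne : ∑ g ∈ (decompose 𝓛 x).support, (decompose 𝓛 x g : L) ≠ 0 := by
    rw [hsum]; exact hx0
  obtain ⟨h, r, _, hmem, hne'⟩ := exists_homog_smul_sum_mem_range 𝒜 𝓛 ℳ hf _ 0 _ _ le_rfl hc hne
  rw [hsum] at hmem hne'
  intro hbot
  apply hne'
  have : r • x ∈ N ⊓ LinearMap.range f := ⟨Submodule.smul_mem _ _ hxN, hmem⟩
  rw [hbot, Submodule.mem_bot] at this
  exact this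

end Groth.Agent.Helper20.GrInj
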