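import Mathlib
import Groth.Agent.Lib.Helper20.GrInj5

open DirectSum

namespace Groth.Agent.Helper20.GrInj

universe u

variable {ι : Type} [AddCommGroup ι] [DecidableEq ι]
variable {R : Type u} [CommRing R]
variable {σ : Type u} [SetLike σ R] [AddSubgroupClass σ R] (𝒜 : ι → σ) [GradedRing 𝒜]
variable (N : Type u) [AddCommGroup N] [Module R N]

/-- scale by `a` and shift degrees by `h` -/
noncomputable def coindφ (h : ι) : 𝒜 h →+ Module.End R (ι →₀ N) where
  toFun a := (a : R) • Finsupp.lmapDomain N R (h + ·)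
  map_zero' := by simp
  map_add' a b := by simp [add_smul]

theorem coindφ_one : coindφ 𝒜 N 0 (GradedMonoid.GOne.one (A := fun i => 𝒜 i)) = 1 := by
  show ((1 : R) • Finsupp.lmapDomain N R ((0 : ι) + ·)) = 1
  rw [one_smul]
  have : ((0 : ι) + ·) = id := funext zero_add
  rw [this, Finsupp.lmapDomain_id]
  rfl

theorem coindφ_mul {i j : ι} (a : 𝒜 i) (b : 𝒜 j) :
    coindφ 𝒜 N (i + j) (GradedMonoid.GMul.mul (A := fun i => 𝒜 i) a b) =
      coindφ 𝒜 N i a * coindφ 𝒜 N j b := by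
  show ((a : R) * (b : R)) • Finsupp.lmapDomain N R ((i + j) + ·) =
    ((a : R) • Finsupp.lmapDomain N R (i + ·)) * ((b : R) • Finsupp.lmapDomain N R (j + ·))
  rw [smul_mul_smul_comm]
  congr 1
  have : ((i + j) + ·) = (i + ·) ∘ (j + ·) := by
    funext x
    simp [add_assoc]
  rw [this, Finsupp.lmapDomain_comp]
  rfl

/-- the action of `R` on the coinduced module -/
noncomputable def coindAct : R →+* Module.End R (ι →₀ N) :=
  (DirectSum.toSemiring (fun h => coindφ 𝒜 N h) (coindφ_one 𝒜 N)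
    (fun a b => coindφ_mul 𝒜 N a b)).comp (DirectSum.decomposeRingEquiv 𝒜).toRingHom

theorem coindAct_of_mem {h : ι} {r : R} (hr : r ∈ 𝒜 h) :
    coindAct 𝒜 N r = r • Finsupp.lmapDomain N R (h + ·) := by
  unfold coindAct
  rw [RingHom.comp_apply]
  show (DirectSum.toSemiring _ _ _) (DirectSum.decompose 𝒜 r) = _
  rw [DirectSum.decompose_of_mem 𝒜 hr, DirectSum.toSemiring_of]
  rfl

/-- the coinduced graded module: finitely supported functions `ι → N` -/
def Coind (_𝒜 : ι → σ) (N : Type u) [AddCommGroup N] : Type u := ι →₀ N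

namespace Coind

noncomputable instance : AddCommGroup (Coind 𝒜 N) := inferInstanceAs (AddCommGroup (ι →₀ N))

/-- the underlying finitely supported function -/
noncomputable def toF : Coind 𝒜 N ≃+ (ι →₀ N) := AddEquiv.refl _

noncomputable instance : Module R (Coind 𝒜 N) := Module.compHom (ι →₀ N) (coindAct 𝒜 N)

theorem toF_smul (r : R) (x : Coind 𝒜 N) :
    toF 𝒜 N (r • x) = coindAct 𝒜 N r (toF 𝒜 N x) := rfl

theorem toF_smul_of_mem {h : ι} {r : R} (hr : r ∈ 𝒜 h) (x : Coind 𝒜 N) :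
    toF 𝒜 N (r • x) = r • Finsupp.mapDomain (h + ·) (toF 𝒜 N x) := by
  rw [toF_smul, coindAct_of_mem 𝒜 N hr]
  rfl

theorem toF_smul_apply {h : ι} {r : R} (hr : r ∈ 𝒜 h) (x : Coind 𝒜 N) (g : ι) :
    toF 𝒜 N (r • x) (h + g) = r • toF 𝒜 N x g := by
  rw [toF_smul_of_mem 𝒜 N hr, Finsupp.smul_apply,
    Finsupp.mapDomain_apply (add_right_injective h)]

/-- the homogeneous pieces of the coinduced module -/
noncomputable def gr (g : ι) : AddSubgroup (Coind 𝒜 N) :=
  (Finsupp.singleAddHom g : N →+ (ι →₀ N)).range.comap (toF 𝒜 N).toAddMonoidHom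

theorem mem_gr {g : ι} {x : Coind 𝒜 N} : x ∈ gr 𝒜 N g ↔ ∃ n, Finsupp.single g n = toF 𝒜 N x :=
  Iff.rfl

theorem gr_isInternal : DirectSum.IsInternal (gr 𝒜 N) := by
  classical
  apply isInternal_of
  · intro x
    refine ⟨(toF 𝒜 N x).support, fun g => (toF 𝒜 N).symm (Finsupp.single g (toF 𝒜 N x g)),
      fun g => ⟨_, rfl⟩, ?_⟩
    apply (toF 𝒜 N).injective
    rw [map_sum]
    simp only [AddEquiv.apply_symm_apply]
    exact (Finsupp.sum_single (toF 𝒜 N x)).symm
  · intro s c hc hsum i hi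
    have hc' : ∀ i, ∃ n, Finsupp.single i n = toF 𝒜 N (c i) := fun i => (mem_gr 𝒜 N).1 (hc i)
    choose n hn using hc'
    have h1 := congrArg (fun y => toF 𝒜 N y i) hsum
    simp only [map_sum, map_zero, Finsupp.coe_zero, Pi.zero_apply] at h1
    rw [Finsupp.finsetSum_apply] at h1
    have h2 : ∀ j ∈ s, toF 𝒜 N (c j) i = if j = i then n i else 0 := by
      intro j _
      rw [← hn j]
      by_cases hji : j = i
      · subst hji; simp
      · rw [if_neg hji, Finsupp.single_apply, if_neg hji]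
    rw [Finset.sum_congr rfl h2, Finset.sum_ite_eq' s i, if_pos hi] at h1
    apply (toF 𝒜 N).injective
    rw [← hn i, h1, Finsupp.single_zero, map_zero]

theorem gr_gradedSMul : SetLike.GradedSMul 𝒜 (gr 𝒜 N) :=
  ⟨fun {h g} {r} {x} hr hx => by
    rw [mem_gr] at hx ⊢
    obtain ⟨n, hn⟩ := hx
    refine ⟨r • n, ?_⟩
    rw [toF_smul_of_mem 𝒜 N hr, ← hn, Finsupp.mapDomain_single, Finsupp.smul_single, vadd_eq_add]⟩

noncomputable instance : DirectSum.Decomposition (gr 𝒜 N) :=
  (gr_isInternal 𝒜 N).chooseDecomposition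

instance : SetLike.GradedSMul 𝒜 (gr 𝒜 N) := gr_gradedSMul 𝒜 N

end Coind

end Groth.Agent.Helper20.GrInj
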