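import Mathlib
import Groth.Agent.Lib.Helper20.GrCoind1

open DirectSum

namespace Groth.Agent.Helper20.GrInj

universe u

variable {ι : Type} [AddCommGroup ι] [DecidableEq ι]
variable {R : Type u} [CommRing R]
variable {σ : Type u} [SetLike σ R] [AddSubgroupClass σ R] (𝒜 : ι → σ) [GradedRing 𝒜]
variable (N : Type u) [AddCommGroup N] [Module R N]
variable {M : Type u} [AddCommGroup M] [Module R M] (ℳ : ι → AddSubgroup M)
  [DirectSum.Decomposition ℳ] [SetLike.GradedSMul 𝒜 ℳ]

namespace Coind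

/-- additive version of the adjunction map -/
noncomputable def liftAdd (φ : M →+ N) : M →+ Coind 𝒜 N :=
  ((toF 𝒜 N).symm.toAddMonoidHom.comp
    (DirectSum.toAddMonoid (fun g => (Finsupp.singleAddHom g).comp (φ.comp (ℳ g).subtype)))).comp
    (DirectSum.decomposeAddEquiv ℳ).toAddMonoidHom

theorem liftAdd_of_mem (φ : M →+ N) {g : ι} {m : M} (hm : m ∈ ℳ g) :
    toF 𝒜 N (liftAdd 𝒜 N ℳ φ m) = Finsupp.single g (φ m) := by
  unfold liftAdd
  simp only [AddMonoidHom.comp_apply, AddEquiv.coe_toAddMonoidHom, AddEquiv.apply_symm_apply,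
    DirectSum.decomposeAddEquiv_apply]
  rw [DirectSum.decompose_of_mem ℳ hm, DirectSum.toAddMonoid_of]
  rfl

theorem liftAdd_smul (φ : M →ₗ[R] N) (r : R) (m : M) :
    liftAdd 𝒜 N ℳ φ.toAddMonoidHom (r • m) = r • liftAdd 𝒜 N ℳ φ.toAddMonoidHom m := by
  induction r using DirectSum.Decomposition.inductionOn 𝒜 with
  | zero => simp
  | add r r' ih ih' => rw [add_smul, map_add, ih, ih', add_smul]
  | @homogeneous h r =>
    induction m using DirectSum.Decomposition.inductionOn ℳ with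
    | zero => simp
    | add m m' ih ih' => rw [smul_add, map_add, ih, ih', map_add, smul_add]
    | @homogeneous g m =>
      apply (toF 𝒜 N).injective
      have hrm : (r : R) • (m : M) ∈ ℳ (h + g) := by
        have := SetLike.GradedSMul.smul_mem (A := 𝒜) (B := ℳ) r.2 m.2
        rwa [vadd_eq_add] at this
      rw [liftAdd_of_mem 𝒜 N ℳ _ hrm, toF_smul_of_mem 𝒜 N r.2, liftAdd_of_mem 𝒜 N ℳ _ m.2,
        Finsupp.mapDomain_single, Finsupp.smul_single]
      simp

/-- the graded map `M → Coind N` attached to a linear map `M → N` -/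
noncomputable def lift (φ : M →ₗ[R] N) : M →ₗ[R] Coind 𝒜 N where
  toFun := liftAdd 𝒜 N ℳ φ.toAddMonoidHom
  map_add' := map_add _
  map_smul' r m := liftAdd_smul 𝒜 N ℳ φ r m

theorem lift_of_mem (φ : M →ₗ[R] N) {g : ι} {m : M} (hm : m ∈ ℳ g) :
    toF 𝒜 N (lift 𝒜 N ℳ φ m) = Finsupp.single g (φ m) :=
  liftAdd_of_mem 𝒜 N ℳ φ.toAddMonoidHom hm

theorem lift_isGrHom (φ : M →ₗ[R] N) : GrLC.IsGrHom ℳ (gr 𝒜 N) (lift 𝒜 N ℳ φ) := by
  intro g m hm
  rw [mem_gr]
  exact ⟨φ m, (lift_of_mem 𝒜 N ℳ φ hm).symm⟩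

theorem lift_apply (φ : M →ₗ[R] N) (m : M) (g : ι) :
    toF 𝒜 N (lift 𝒜 N ℳ φ m) g = φ (decompose ℳ m g) := by
  induction m using DirectSum.Decomposition.inductionOn ℳ with
  | zero => simp
  | add m m' ih ih' =>
    rw [map_add, map_add, Finsupp.add_apply, ih, ih', decompose_add, DirectSum.add_apply,
      AddSubgroup.coe_add, map_add]
  | @homogeneous j m =>
    rw [lift_of_mem 𝒜 N ℳ φ m.2]
    by_cases hjg : j = g
    · subst hjg
      rw [Finsupp.single_eq_same, decompose_of_mem_same ℳ m.2]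
    · rw [Finsupp.single_eq_of_ne' hjg, decompose_of_mem_ne ℳ m.2 hjg, map_zero]

theorem lift_injective (φ : M →ₗ[R] N) (hφ : Function.Injective φ) :
    Function.Injective (lift 𝒜 N ℳ φ) := by
  rw [injective_iff_map_eq_zero]
  intro m hm
  have h1 : ∀ g, (decompose ℳ m g : M) = 0 := by
    intro g
    apply hφ
    rw [← lift_apply 𝒜 N ℳ φ m g, hm, map_zero, map_zero]
    rfl
  classical
  rw [← sum_support_decompose ℳ m]
  exact Finset.sum_eq_zero (fun g _ => h1 g)

end Coind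

end Groth.Agent.Helper20.GrInj
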