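import Mathlib
import Groth.Agent.Lib.Helper20.GrCoind2

open DirectSum

namespace Groth.Agent.Helper20.GrInj

universe u

variable {ι : Type} [AddCommGroup ι] [DecidableEq ι]
variable {R : Type u} [CommRing R]
variable {σ : Type u} [SetLike σ R] [AddSubgroupClass σ R] (𝒜 : ι → σ) [GradedRing 𝒜]
variable (N : Type u) [AddCommGroup N] [Module R N]

namespace Coind

/-- the sum map on finitely supported functions (for the pointwise module structure) -/
noncomputable def sum₀ : (ι →₀ N) →ₗ[R] N := Finsupp.lsum ℕ (fun _ : ι => (LinearMap.id : N →ₗ[R] N))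

theorem sum₀_single (g : ι) (n : N) : sum₀ (R := R) N (Finsupp.single g n) = n := by
  unfold sum₀
  rw [Finsupp.lsum_single]
  rfl

theorem sum₀_comp_lmapDomain (f : ι → ι) :
    (sum₀ (R := R) N).comp (Finsupp.lmapDomain N R f) = sum₀ (R := R) N := by
  apply Finsupp.lhom_ext'
  intro a
  ext n
  simp only [LinearMap.comp_apply, Finsupp.lsingle_apply, Finsupp.lmapDomain_apply,
    Finsupp.mapDomain_single, sum₀_single]

theorem sum₀_coindAct (r : R) (y : ι →₀ N) :
    sum₀ (R := R) N (coindAct 𝒜 N r y) = r • sum₀ (R := R) N y := by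
  induction r using DirectSum.Decomposition.inductionOn 𝒜 with
  | zero => simp
  | add r r' ih ih' => rw [map_add, LinearMap.add_apply, map_add, ih, ih', add_smul]
  | @homogeneous h r =>
    rw [coindAct_of_mem 𝒜 N r.2, LinearMap.smul_apply, map_smul]
    congr 1
    exact congrArg (fun φ => φ y) (sum₀_comp_lmapDomain (R := R) N (h + ·))

/-- the sum map `Coind N → N`, which is linear for the twisted module structure -/
noncomputable def sumMap : Coind 𝒜 N →ₗ[R] N where
  toFun x := sum₀ (R := R) N (toF 𝒜 N x)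
  map_add' x y := by rw [map_add, map_add]
  map_smul' r x := by
    rw [toF_smul, sum₀_coindAct]
    rfl

theorem sumMap_of_single {x : Coind 𝒜 N} {g : ι} {n : N} (hx : Finsupp.single g n = toF 𝒜 N x) :
    sumMap 𝒜 N x = n := by
  show sum₀ (R := R) N (toF 𝒜 N x) = n
  rw [← hx, sum₀_single]

/-- the coinduced module of an injective module is *injective -/
theorem isStarInj (I : Type u) [AddCommGroup I] [Module R I] [Module.Injective R I] :
    GrLC.IsStarInj 𝒜 (gr 𝒜 I) := by
  intro A B f hf hinj g hg
  obtain ⟨hb, hhb⟩ := Module.Injective.out f hinj ((sumMap 𝒜 I).comp g)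
  refine ⟨lift 𝒜 I B.gr hb, lift_isGrHom 𝒜 I B.gr hb, ?_⟩
  apply LinearMap.ext
  intro a
  induction a using DirectSum.Decomposition.inductionOn A.gr with
  | zero => simp
  | add a a' ih ih' => rw [map_add, map_add, ih, ih']
  | @homogeneous j a =>
    apply (toF 𝒜 I).injective
    rw [LinearMap.comp_apply, lift_of_mem 𝒜 I B.gr hb (hf j a a.2), hhb, LinearMap.comp_apply]
    obtain ⟨n, hn⟩ := (mem_gr 𝒜 I).1 (hg j a a.2)
    rw [sumMap_of_single 𝒜 I hn, hn]

end Coind

end Groth.Agent.Helper20.GrInj
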