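import Mathlib
import Groth.Agent.Lib.Helper20.GrCoind3

open DirectSum CategoryTheory

namespace Groth.Agent.Helper20.GrInj

universe u

theorem exists_injective_embedding (R : Type u) [CommRing R] (M : Type u) [AddCommGroup M]
    [Module R M] :
    ∃ (I : Type u) (_ : AddCommGroup I) (_ : Module R I) (_ : Module.Injective R I)
      (e : M →ₗ[R] I), Function.Injective e := by
  let X : ModuleCat.{u} R := ModuleCat.of R M
  let J := Injective.under X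
  have hJ : CategoryTheory.Injective (ModuleCat.of R J) := inferInstanceAs (CategoryTheory.Injective J)
  refine ⟨J, inferInstance, inferInstance, Module.injective_module_of_injective_object R J,
    (Injective.ι X).hom, ?_⟩
  exact (ModuleCat.mono_iff_injective (Injective.ι X)).1 inferInstance

variable {ι : Type} [AddCommGroup ι] [DecidableEq ι]
variable {R : Type u} [CommRing R]
variable {σ : Type u} [SetLike σ R] [AddSubgroupClass σ R] (𝒜 : ι → σ) [GradedRing 𝒜]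
variable {M : Type u} [AddCommGroup M] [Module R M] (ℳ : ι → AddSubgroup M)
  [DirectSum.Decomposition ℳ] [SetLike.GradedSMul 𝒜 ℳ]

/-- enough *injectives -/
theorem exists_starInj_embedding :
    ∃ (X : GrLC.GMod.{u} 𝒜) (j : M →ₗ[R] X.carrier), GrLC.IsStarInj 𝒜 X.gr ∧
      GrLC.IsGrHom ℳ X.gr j ∧ Function.Injective j := by
  obtain ⟨I, _, _, _, e, he⟩ := exists_injective_embedding R M
  exact ⟨GrLC.GMod.of 𝒜 (Coind 𝒜 I) (Coind.gr 𝒜 I), Coind.lift 𝒜 I ℳ e, Coind.isStarInj 𝒜 I,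
    Coind.lift_isGrHom 𝒜 I ℳ e, Coind.lift_injective 𝒜 I ℳ e he⟩

section Res

/-- a chosen *injective module receiving `Y` -/
noncomputable def hullX (Y : GrLC.GMod.{u} 𝒜) : GrLC.GMod.{u} 𝒜 :=
  (exists_starInj_embedding 𝒜 Y.gr).choose

/-- the chosen embedding -/
noncomputable def hullJ (Y : GrLC.GMod.{u} 𝒜) : Y.carrier →ₗ[R] (hullX 𝒜 Y).carrier :=
  (exists_starInj_embedding 𝒜 Y.gr).choose_spec.choose

theorem hullX_starInj (Y : GrLC.GMod.{u} 𝒜) : GrLC.IsStarInj 𝒜 (hullX 𝒜 Y).gr :=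
  (exists_starInj_embedding 𝒜 Y.gr).choose_spec.choose_spec.1

theorem hullJ_grHom (Y : GrLC.GMod.{u} 𝒜) : GrLC.IsGrHom Y.gr (hullX 𝒜 Y).gr (hullJ 𝒜 Y) :=
  (exists_starInj_embedding 𝒜 Y.gr).choose_spec.choose_spec.2.1

theorem hullJ_injective (Y : GrLC.GMod.{u} 𝒜) : Function.Injective (hullJ 𝒜 Y) :=
  (exists_starInj_embedding 𝒜 Y.gr).choose_spec.choose_spec.2.2

/-- the cokernel of the chosen embedding -/
noncomputable def cokerY (Y : GrLC.GMod.{u} 𝒜) : GrLC.GMod.{u} 𝒜 :=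
  quotGMod (hullX 𝒜 Y).gr 𝒜 (LinearMap.range (hullJ 𝒜 Y))
    (range_isHomogeneous Y.gr (hullX 𝒜 Y).gr (hullJ_grHom 𝒜 Y))

/-- the quotient map to the cokernel -/
noncomputable def cokerQ (Y : GrLC.GMod.{u} 𝒜) : (hullX 𝒜 Y).carrier →ₗ[R] (cokerY 𝒜 Y).carrier :=
  (LinearMap.range (hullJ 𝒜 Y)).mkQ

theorem cokerQ_grHom (Y : GrLC.GMod.{u} 𝒜) :
    GrLC.IsGrHom (hullX 𝒜 Y).gr (cokerY 𝒜 Y).gr (cokerQ 𝒜 Y) :=
  fun _ m hm => ⟨m, hm, rfl⟩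

theorem cokerQ_surjective (Y : GrLC.GMod.{u} 𝒜) : Function.Surjective (cokerQ 𝒜 Y) :=
  Submodule.mkQ_surjective _

theorem cokerQ_ker (Y : GrLC.GMod.{u} 𝒜) :
    LinearMap.ker (cokerQ 𝒜 Y) = LinearMap.range (hullJ 𝒜 Y) :=
  Submodule.ker_mkQ _

/-- the successive cokernels -/
noncomputable def Yseq (Y : GrLC.GMod.{u} 𝒜) : ℕ → GrLC.GMod.{u} 𝒜
  | 0 => Y
  | n + 1 => cokerY 𝒜 (Yseq Y n)

/-- the differential of the resolution -/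
noncomputable def resD (Y : GrLC.GMod.{u} 𝒜) (n : ℕ) :
    (hullX 𝒜 (Yseq 𝒜 Y n)).carrier →ₗ[R] (hullX 𝒜 (Yseq 𝒜 Y (n + 1))).carrier :=
  (hullJ 𝒜 (Yseq 𝒜 Y (n + 1))).comp (cokerQ 𝒜 (Yseq 𝒜 Y n))

theorem comp_cokerQ_ker (Y : GrLC.GMod.{u} 𝒜) {Z : Type u} [AddCommGroup Z] [Module R Z]
    (j : (cokerY 𝒜 Y).carrier →ₗ[R] Z) (hj : Function.Injective j) :
    LinearMap.ker (j.comp (cokerQ 𝒜 Y)) = LinearMap.range (hullJ 𝒜 Y) := by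
  rw [LinearMap.ker_comp_of_ker_eq_bot _ (LinearMap.ker_eq_bot.2 hj), cokerQ_ker]

theorem comp_cokerQ_range (Y : GrLC.GMod.{u} 𝒜) {Z : Type u} [AddCommGroup Z] [Module R Z]
    (j : (cokerY 𝒜 Y).carrier →ₗ[R] Z) :
    LinearMap.range (j.comp (cokerQ 𝒜 Y)) = LinearMap.range j := by
  rw [LinearMap.range_comp_of_range_eq_top _ (LinearMap.range_eq_top.2 (cokerQ_surjective 𝒜 _))]

theorem resD_ker (Y : GrLC.GMod.{u} 𝒜) (n : ℕ) :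
    LinearMap.ker (resD 𝒜 Y n) = LinearMap.range (hullJ 𝒜 (Yseq 𝒜 Y n)) :=
  comp_cokerQ_ker 𝒜 (Yseq 𝒜 Y n) (hullJ 𝒜 (cokerY 𝒜 (Yseq 𝒜 Y n)))
    (hullJ_injective 𝒜 (cokerY 𝒜 (Yseq 𝒜 Y n)))

theorem resD_range (Y : GrLC.GMod.{u} 𝒜) (n : ℕ) :
    LinearMap.range (resD 𝒜 Y n) = LinearMap.range (hullJ 𝒜 (Yseq 𝒜 Y (n + 1))) :=
  comp_cokerQ_range 𝒜 (Yseq 𝒜 Y n) (hullJ 𝒜 (cokerY 𝒜 (Yseq 𝒜 Y n)))

/-- every graded module has a *injective resolution -/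
noncomputable def starInjRes : GrLC.StarInjRes 𝒜 ℳ where
  X n := hullX 𝒜 (Yseq 𝒜 (GrLC.GMod.of 𝒜 M ℳ) n)
  d n := resD 𝒜 (GrLC.GMod.of 𝒜 M ℳ) n
  ε := hullJ 𝒜 (GrLC.GMod.of 𝒜 M ℳ)
  d_grHom n := fun g m hm =>
    hullJ_grHom 𝒜 _ g _ (cokerQ_grHom 𝒜 _ g m hm)
  ε_grHom := hullJ_grHom 𝒜 (GrLC.GMod.of 𝒜 M ℳ)
  ε_injective := hullJ_injective 𝒜 (GrLC.GMod.of 𝒜 M ℳ)
  exact_zero := resD_ker 𝒜 (GrLC.GMod.of 𝒜 M ℳ) 0
  exact_succ n := by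
    rw [resD_ker, resD_range]
  starInj n := hullX_starInj 𝒜 _

end Res

end Groth.Agent.Helper20.GrInj
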