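import Mathlib
import Groth.Agent.Lib.Helper20.GrCoind4

open DirectSum

namespace Groth.Agent.Helper20.GrInj

universe u

variable {ι : Type} [AddCommGroup ι] [DecidableEq ι]
variable {R : Type u} [CommRing R]
variable {σ : Type u} [SetLike σ R] [AddSubgroupClass σ R] (𝒜 : ι → σ) [GradedRing 𝒜]
variable {X : Type u} [AddCommGroup X] [Module R X] (𝒳 : ι → AddSubgroup X)
  [DirectSum.Decomposition 𝒳] [SetLike.GradedSMul 𝒜 𝒳]

include 𝒜 in
theorem span_singleton_isHomogeneous {g : ι} {x : X} (hx : x ∈ 𝒳 g) :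
    (Submodule.span R {x}).IsHomogeneous 𝒳 := by
  intro i m hm
  rw [Submodule.mem_span_singleton] at hm
  obtain ⟨r, rfl⟩ := hm
  have : i = (i - g) + g := (sub_add_cancel i g).symm
  rw [this, decompose_smul_homog_right 𝒜 𝒳 hx]
  exact Submodule.smul_mem _ _ (Submodule.mem_span_singleton_self x)

omit [AddCommGroup ι] in
theorem exists_homog_ne_zero_mem {P : Submodule R X} (hP : P.IsHomogeneous 𝒳) (hne : P ≠ ⊥) :
    ∃ (g : ι) (x : X), x ∈ P ∧ x ∈ 𝒳 g ∧ x ≠ 0 := by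
  classical
  rw [Ne, Submodule.eq_bot_iff] at hne
  push Not at hne
  obtain ⟨x, hxP, hx0⟩ := hne
  by_contra hcon
  push Not at hcon
  apply hx0
  rw [← sum_support_decompose 𝒳 x]
  apply Finset.sum_eq_zero
  intro g _
  exact hcon g _ (hP g hxP) (decompose 𝒳 x g).2

omit [AddCommGroup ι] in
theorem sSup_isHomogeneous_of_chain {c : Set (Submodule R X)} (hc : IsChain (· ≤ ·) c)
    (hne : c.Nonempty) (hhom : ∀ Q ∈ c, Q.IsHomogeneous 𝒳) : (sSup c).IsHomogeneous 𝒳 := by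
  intro i m hm
  rw [Submodule.mem_sSup_of_directed hne hc.directedOn] at hm ⊢
  obtain ⟨Q, hQ, hmQ⟩ := hm
  exact ⟨Q, hQ, hhom Q hQ i hmQ⟩

/-- Zorn: a maximal homogeneous submodule disjoint from `S` -/
theorem exists_maximal_disjoint (S : Submodule R X) :
    ∃ Q : Submodule R X, Q.IsHomogeneous 𝒳 ∧ Q ⊓ S = ⊥ ∧
      ∀ Q' : Submodule R X, Q'.IsHomogeneous 𝒳 → Q' ⊓ S = ⊥ → Q ≤ Q' → Q' = Q := by
  have := zorn_le₀ {Q : Submodule R X | Q.IsHomogeneous 𝒳 ∧ Q ⊓ S = ⊥} ?_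
  · obtain ⟨Q, hQ⟩ := this
    refine ⟨Q, hQ.prop.1, hQ.prop.2, fun Q' h1 h2 hle => ?_⟩
    exact le_antisymm (hQ.le_of_ge ⟨h1, h2⟩ hle) hle
  · intro c hcS hc
    by_cases hne : c.Nonempty
    · refine ⟨sSup c, ⟨sSup_isHomogeneous_of_chain 𝒳 hc hne (fun Q hQ => (hcS hQ).1), ?_⟩,
        fun Q hQ => le_sSup hQ⟩
      rw [eq_bot_iff]
      rintro x ⟨hx1, hx2⟩
      rw [SetLike.mem_coe, Submodule.mem_sSup_of_directed hne hc.directedOn] at hx1
      obtain ⟨Q, hQ, hxQ⟩ := hx1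
      rw [← (hcS hQ).2]
      exact ⟨hxQ, hx2⟩
    · rw [Set.not_nonempty_iff_eq_empty] at hne
      subst hne
      exact ⟨⊥, ⟨bot_isHomogeneous 𝒳, bot_inf_eq S⟩, fun _ h => (Set.notMem_empty _ h).elim⟩

variable {M : Type u} [AddCommGroup M] [Module R M] (ℳ : ι → AddSubgroup M)
  [DirectSum.Decomposition ℳ]

/-- the inverse of a bijective graded map is graded -/
theorem symm_isGrHom (e : M ≃ₗ[R] X) (he : GrLC.IsGrHom ℳ 𝒳 e.toLinearMap) :
    GrLC.IsGrHom 𝒳 ℳ e.symm.toLinearMap := by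
  classical
  intro g x hx
  have h1 : ∀ i, i ≠ g → (decompose ℳ (e.symm x) i : M) = 0 := by
    intro i hi
    apply e.injective
    have := decompose_map ℳ 𝒳 he (e.symm x) i
    rw [LinearEquiv.coe_coe, LinearEquiv.apply_symm_apply] at this
    rw [← this, decompose_of_mem_ne 𝒳 hx (Ne.symm hi), map_zero]
  have h2 : e.symm x = (decompose ℳ (e.symm x) g : M) := by
    conv_lhs => rw [← sum_support_decompose ℳ (e.symm x)]
    rw [Finset.sum_eq_single g]
    · intro i _ hi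
      exact h1 i hi
    · intro hg
      rw [DFinsupp.notMem_support_iff] at hg
      rw [hg]; rfl
  show e.symm x ∈ ℳ g
  rw [h2]
  exact (decompose ℳ (e.symm x) g).2

end Groth.Agent.Helper20.GrInj
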