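import Mathlib
import Groth.Agent.Lib.Helper20.GrHull1

open DirectSum

namespace Groth.Agent.Helper20.GrInj

universe u

variable {ι : Type} [AddCommGroup ι] [DecidableEq ι]
variable {R : Type u} [CommRing R]
variable {σ : Type u} [SetLike σ R] [AddSubgroupClass σ R] (𝒜 : ι → σ) [GradedRing 𝒜]
variable {X : Type u} [AddCommGroup X] [Module R X] (𝒳 : ι → AddSubgroup X)
  [DirectSum.Decomposition 𝒳] [SetLike.GradedSMul 𝒜 𝒳]
variable (P : Submodule R X) (hP : P.IsHomogeneous 𝒳)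

/-- the quotient map to the bundled quotient -/
noncomputable def quotMk : X →ₗ[R] (quotGMod 𝒳 𝒜 P hP).carrier := P.mkQ

theorem quotMk_grHom : GrLC.IsGrHom 𝒳 (quotGMod 𝒳 𝒜 P hP).gr (quotMk 𝒜 𝒳 P hP) :=
  fun _ m hm => ⟨m, hm, rfl⟩

theorem quotMk_surjective : Function.Surjective (quotMk 𝒜 𝒳 P hP) := Submodule.mkQ_surjective _

theorem quotMk_ker : LinearMap.ker (quotMk 𝒜 𝒳 P hP) = P := Submodule.ker_mkQ _

theorem quotMk_eq_zero_iff {x : X} : quotMk 𝒜 𝒳 P hP x = 0 ↔ x ∈ P := by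
  rw [← LinearMap.mem_ker, quotMk_ker]

/-- the inclusion of the bundled submodule -/
noncomputable def subVal : (subGMod 𝒳 𝒜 P hP).carrier →ₗ[R] X := P.subtype

theorem subVal_grHom : GrLC.IsGrHom (subGMod 𝒳 𝒜 P hP).gr 𝒳 (subVal 𝒜 𝒳 P hP) :=
  fun _ _ hm => hm

theorem subVal_injective : Function.Injective (subVal 𝒜 𝒳 P hP) := Subtype.val_injective

theorem subVal_range : LinearMap.range (subVal 𝒜 𝒳 P hP) = P := Submodule.range_subtype _

theorem subVal_mem (x : (subGMod 𝒳 𝒜 P hP).carrier) : subVal 𝒜 𝒳 P hP x ∈ P :=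
  Subtype.property (p := fun y => y ∈ P) x

variable {M : Type u} [AddCommGroup M] [Module R M] (ℳ : ι → AddSubgroup M)

/-- lifting a map with image in `P` to the bundled submodule -/
noncomputable def subLift (f : M →ₗ[R] X) (hf : ∀ m, f m ∈ P) :
    M →ₗ[R] (subGMod 𝒳 𝒜 P hP).carrier := f.codRestrict P hf

theorem subVal_subLift (f : M →ₗ[R] X) (hf : ∀ m, f m ∈ P) (m : M) :
    subVal 𝒜 𝒳 P hP (subLift 𝒜 𝒳 P hP f hf m) = f m := rfl

theorem subLift_grHom (f : M →ₗ[R] X) (hf : ∀ m, f m ∈ P) (hgr : GrLC.IsGrHom ℳ 𝒳 f) :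
    GrLC.IsGrHom ℳ (subGMod 𝒳 𝒜 P hP).gr (subLift 𝒜 𝒳 P hP f hf) :=
  fun g m hm => hgr g m hm

end Groth.Agent.Helper20.GrInj
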