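import Mathlib
import Groth.Agent.Lib.Helper20.GrHull2

open DirectSum

namespace Groth.Agent.Helper20.GrInj

universe u

variable {ι : Type} [AddCommGroup ι] [DecidableEq ι]
variable {R : Type u} [CommRing R]
variable {σ : Type u} [SetLike σ R] [AddSubgroupClass σ R] (𝒜 : ι → σ) [GradedRing 𝒜]
variable {M : Type u} [AddCommGroup M] [Module R M] (ℳ : ι → AddSubgroup M)
  [DirectSum.Decomposition ℳ] [SetLike.GradedSMul 𝒜 ℳ]

/-- a *injective module has no proper *essential extension -/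
theorem surjective_of_starInj_of_starEss (hM : GrLC.IsStarInj 𝒜 ℳ)
    {N : Type u} [AddCommGroup N] [Module R N] (𝒩 : ι → AddSubgroup N)
    [DirectSum.Decomposition 𝒩] [SetLike.GradedSMul 𝒜 𝒩]
    (f : M →ₗ[R] N) (hf : GrLC.IsStarEss ℳ 𝒩 f) : Function.Surjective f := by
  obtain ⟨h, hgr, hh⟩ := starInj_extend ℳ 𝒜 hM ℳ 𝒩 f hf.grHom hf.injective LinearMap.id
    (fun _ _ hm => hm)
  have hinj : Function.Injective h := by
    apply injective_of_starEss ℳ 𝒩 ℳ hf hgr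
    rw [hh]
    exact fun _ _ h => h
  intro y
  refine ⟨h y, hinj ?_⟩
  exact congrArg (fun φ => φ (h y)) hh

/-- a graded module without proper *essential extensions is *injective -/
theorem starInj_of_forall_starEss_surjective
    (H : ∀ (N : GrLC.GMod.{u} 𝒜) (f : M →ₗ[R] N.carrier), GrLC.IsStarEss ℳ N.gr f →
      Function.Surjective f) : GrLC.IsStarInj 𝒜 ℳ := by
  obtain ⟨X, j, hX, hjgr, hjinj⟩ := exists_starInj_embedding 𝒜 ℳ
  obtain ⟨Q, hQhom, hQdisj, hQmax⟩ := exists_maximal_disjoint X.gr (LinearMap.range j)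
  set f : M →ₗ[R] (quotGMod X.gr 𝒜 Q hQhom).carrier := (quotMk 𝒜 X.gr Q hQhom).comp j with hfdef
  have hfinj : Function.Injective f := by
    rw [injective_iff_map_eq_zero]
    intro m hm
    rw [hfdef, LinearMap.comp_apply, quotMk_eq_zero_iff] at hm
    have : j m ∈ Q ⊓ LinearMap.range j := ⟨hm, ⟨m, rfl⟩⟩
    rw [hQdisj, Submodule.mem_bot] at this
    exact hjinj (this.trans (map_zero j).symm)
  have hfgr : GrLC.IsGrHom ℳ (quotGMod X.gr 𝒜 Q hQhom).gr f :=
    fun g m hm => quotMk_grHom 𝒜 X.gr Q hQhom g _ (hjgr g m hm)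
  have hfess : GrLC.IsStarEss ℳ (quotGMod X.gr 𝒜 Q hQhom).gr f := by
    refine ⟨hfinj, hfgr, fun P hPhom hPne => ?_⟩
    have hP'hom : (P.comap (quotMk 𝒜 X.gr Q hQhom)).IsHomogeneous X.gr :=
      comap_isHomogeneous _ _ (quotMk_grHom 𝒜 X.gr Q hQhom) hPhom
    have hQle : Q ≤ P.comap (quotMk 𝒜 X.gr Q hQhom) := by
      intro q hq
      rw [Submodule.mem_comap, (quotMk_eq_zero_iff 𝒜 X.gr Q hQhom).2 hq]
      exact Submodule.zero_mem _
    have hne : P.comap (quotMk 𝒜 X.gr Q hQhom) ≠ Q := by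
      intro heq
      apply hPne
      rw [eq_bot_iff]
      intro y hy
      obtain ⟨x, rfl⟩ := quotMk_surjective 𝒜 X.gr Q hQhom y
      have : x ∈ P.comap (quotMk 𝒜 X.gr Q hQhom) := hy
      rw [heq] at this
      rw [Submodule.mem_bot, quotMk_eq_zero_iff]
      exact this
    have hmeet : P.comap (quotMk 𝒜 X.gr Q hQhom) ⊓ LinearMap.range j ≠ ⊥ :=
      fun hbot => hne (hQmax _ hP'hom hbot hQle)
    rw [Ne, Submodule.eq_bot_iff] at hmeet
    push Not at hmeet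
    obtain ⟨z, ⟨hz1, ⟨m, rfl⟩⟩, hz0⟩ := hmeet
    intro hbot
    have h1 : f m ∈ P ⊓ LinearMap.range f := ⟨hz1, ⟨m, rfl⟩⟩
    rw [hbot, Submodule.mem_bot] at h1
    have : m = 0 := hfinj (h1.trans (map_zero f).symm)
    apply hz0
    rw [this, map_zero]
  have hfsurj := H _ f hfess
  set e : M ≃ₗ[R] (quotGMod X.gr 𝒜 Q hQhom).carrier := LinearEquiv.ofBijective f ⟨hfinj, hfsurj⟩
    with hedef
  have hegr : GrLC.IsGrHom ℳ (quotGMod X.gr 𝒜 Q hQhom).gr e.toLinearMap := hfgr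
  have hesymm := symm_isGrHom (quotGMod X.gr 𝒜 Q hQhom).gr ℳ e hegr
  set π : X.carrier →ₗ[R] M := e.symm.toLinearMap.comp (quotMk 𝒜 X.gr Q hQhom) with hπdef
  have hπgr : GrLC.IsGrHom X.gr ℳ π :=
    fun g x hx => hesymm g _ (quotMk_grHom 𝒜 X.gr Q hQhom g x hx)
  have hπj : ∀ m, π (j m) = m := by
    intro m
    rw [hπdef, LinearMap.comp_apply]
    show e.symm (f m) = m
    exact e.symm_apply_apply m
  intro A B φ hφ hinj g hg
  obtain ⟨h', hh'gr, hh'⟩ := hX A B φ hφ hinj (j.comp g) (fun i a ha => hjgr i _ (hg i a ha))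
  refine ⟨π.comp h', fun i b hb => hπgr i _ (hh'gr i b hb), ?_⟩
  rw [LinearMap.comp_assoc, hh']
  ext a
  exact hπj (g a)

end Groth.Agent.Helper20.GrInj
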