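import Mathlib
import Groth.Agent.Lib.Helper20.GrHull3

open DirectSum

namespace Groth.Agent.Helper20.GrInj

universe u

variable {ι : Type} [AddCommGroup ι] [DecidableEq ι]
variable {R : Type u} [CommRing R]
variable {σ : Type u} [SetLike σ R] [AddSubgroupClass σ R] (𝒜 : ι → σ) [GradedRing 𝒜]
variable {X : Type u} [AddCommGroup X] [Module R X] (𝒳 : ι → AddSubgroup X)
  [DirectSum.Decomposition 𝒳] [SetLike.GradedSMul 𝒜 𝒳]

/-- `S` is *essential in `N` (both submodules of the graded module `X`) -/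
def EssIn (S N : Submodule R X) : Prop :=
  ∀ P : Submodule R X, P.IsHomogeneous 𝒳 → P ≤ N → P ≠ ⊥ → P ⊓ S ≠ ⊥

include 𝒜 in
/-- Zorn: a maximal *essential extension of `S` inside `X` -/
theorem exists_maximal_essIn (S : Submodule R X) (hS : S.IsHomogeneous 𝒳) :
    ∃ N : Submodule R X, N.IsHomogeneous 𝒳 ∧ S ≤ N ∧ EssIn 𝒳 S N ∧
      ∀ N' : Submodule R X, N'.IsHomogeneous 𝒳 → EssIn 𝒳 S N' → N ≤ N' → N' = N := by
  have hSmem : S ∈ {N : Submodule R X | N.IsHomogeneous 𝒳 ∧ S ≤ N ∧ EssIn 𝒳 S N} := by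
    refine ⟨hS, le_rfl, fun P _ hPle hPne => ?_⟩
    rw [inf_eq_left.2 hPle]
    exact hPne
  have hz := zorn_le_nonempty₀ {N : Submodule R X | N.IsHomogeneous 𝒳 ∧ S ≤ N ∧ EssIn 𝒳 S N} ?_ S hSmem
  · obtain ⟨N, hSN, hN⟩ := hz
    refine ⟨N, hN.prop.1, hN.prop.2.1, hN.prop.2.2, fun N' h1 h2 hle => ?_⟩
    exact le_antisymm (hN.le_of_ge ⟨h1, le_trans hN.prop.2.1 hle, h2⟩ hle) hle
  · intro c hcS hc y hy
    have hne : c.Nonempty := ⟨y, hy⟩
    refine ⟨sSup c, ⟨sSup_isHomogeneous_of_chain 𝒳 hc hne (fun Q hQ => (hcS hQ).1),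
      le_trans (hcS hy).2.1 (le_sSup hy), ?_⟩, fun Q hQ => le_sSup hQ⟩
    intro P hPhom hPle hPne
    obtain ⟨g, x, hxP, hxg, hx0⟩ := exists_homog_ne_zero_mem 𝒳 hPhom hPne
    have hx := hPle hxP
    rw [Submodule.mem_sSup_of_directed hne hc.directedOn] at hx
    obtain ⟨N, hNc, hxN⟩ := hx
    have h1 := (hcS hNc).2.2 (Submodule.span R {x}) (span_singleton_isHomogeneous 𝒜 𝒳 hxg)
      (by rw [Submodule.span_singleton_le_iff_mem]; exact hxN)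
      (by rw [Ne, Submodule.span_singleton_eq_bot]; exact hx0)
    intro hbot
    apply h1
    rw [eq_bot_iff, ← hbot]
    apply inf_le_inf_right
    rw [Submodule.span_singleton_le_iff_mem]
    exact hxP

variable {M : Type u} [AddCommGroup M] [Module R M] (ℳ : ι → AddSubgroup M)
  [DirectSum.Decomposition ℳ] [SetLike.GradedSMul 𝒜 ℳ]

/-- the *injective hull of `M` inside a *injective module `X` -/
theorem exists_starInjHull_in (hX : GrLC.IsStarInj 𝒜 𝒳) (j : M →ₗ[R] X)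
    (hjgr : GrLC.IsGrHom ℳ 𝒳 j) (hjinj : Function.Injective j) :
    ∃ (N : Submodule R X) (hN : N.IsHomogeneous 𝒳) (hjN : ∀ m, j m ∈ N),
      GrLC.IsStarInjHull 𝒜 ℳ (subGMod 𝒳 𝒜 N hN).gr (subLift 𝒜 𝒳 N hN j hjN) := by
  have hShom := range_isHomogeneous ℳ 𝒳 hjgr
  obtain ⟨N, hNhom, hSN, hess, hmax⟩ := exists_maximal_essIn 𝒜 𝒳 (LinearMap.range j) hShom
  have hjN : ∀ m, j m ∈ N := fun m => hSN ⟨m, rfl⟩
  refine ⟨N, hNhom, hjN, ?_⟩
  have hLinj : Function.Injective (subLift 𝒜 𝒳 N hNhom j hjN) := by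
    intro a b hab
    apply hjinj
    have := congrArg (subVal 𝒜 𝒳 N hNhom) hab
    rwa [subVal_subLift, subVal_subLift] at this
  have hLess : GrLC.IsStarEss ℳ (subGMod 𝒳 𝒜 N hNhom).gr (subLift 𝒜 𝒳 N hNhom j hjN) := by
    refine ⟨hLinj, subLift_grHom 𝒜 𝒳 N hNhom ℳ j hjN hjgr, fun P hPhom hPne => ?_⟩
    have h1 : (P.map (subVal 𝒜 𝒳 N hNhom)).IsHomogeneous 𝒳 :=
      map_isHomogeneous _ _ (subVal_grHom 𝒜 𝒳 N hNhom) hPhom
    have h2 : P.map (subVal 𝒜 𝒳 N hNhom) ≤ N := by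
      rintro _ ⟨p, _, rfl⟩
      exact subVal_mem 𝒜 𝒳 N hNhom p
    have h3 : P.map (subVal 𝒜 𝒳 N hNhom) ≠ ⊥ := by
      intro hbot
      apply hPne
      rw [eq_bot_iff]
      intro p hp
      have : subVal 𝒜 𝒳 N hNhom p ∈ P.map (subVal 𝒜 𝒳 N hNhom) := ⟨p, hp, rfl⟩
      rw [hbot, Submodule.mem_bot] at this
      rw [Submodule.mem_bot]
      exact subVal_injective 𝒜 𝒳 N hNhom (this.trans (map_zero _).symm)
    have h4 := hess _ h1 h2 h3
    rw [Ne, Submodule.eq_bot_iff] at h4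
    push Not at h4
    obtain ⟨z, ⟨⟨p, hpP, rfl⟩, ⟨m, hm⟩⟩, hz0⟩ := h4
    have hpm : subLift 𝒜 𝒳 N hNhom j hjN m = p := by
      apply subVal_injective 𝒜 𝒳 N hNhom
      rw [subVal_subLift, hm]
    intro hbot
    have h5 : p ∈ P ⊓ LinearMap.range (subLift 𝒜 𝒳 N hNhom j hjN) := ⟨hpP, ⟨m, hpm⟩⟩
    rw [hbot, Submodule.mem_bot] at h5
    apply hz0
    rw [h5, map_zero]
  refine ⟨hLess, ?_⟩
  apply starInj_of_forall_starEss_surjective 𝒜 (subGMod 𝒳 𝒜 N hNhom).gr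
  intro N' φ hφ
  obtain ⟨ψ, hψgr, hψ⟩ := hX (subGMod 𝒳 𝒜 N hNhom) N' φ hφ.grHom hφ.injective
    (subVal 𝒜 𝒳 N hNhom) (subVal_grHom 𝒜 𝒳 N hNhom)
  have hψinj : Function.Injective ψ := by
    apply injective_of_starEss (subGMod 𝒳 𝒜 N hNhom).gr N'.gr 𝒳 hφ hψgr
    rw [hψ]
    exact subVal_injective 𝒜 𝒳 N hNhom
  have hψφ : ∀ n, ψ (φ n) = subVal 𝒜 𝒳 N hNhom n := fun n => congrArg (fun f => f n) hψ
  have hN''hom : (LinearMap.range ψ).IsHomogeneous 𝒳 := range_isHomogeneous N'.gr 𝒳 hψgr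
  have hNle : N ≤ LinearMap.range ψ := by
    intro x hx
    rw [← subVal_range 𝒜 𝒳 N hNhom] at hx
    obtain ⟨n, rfl⟩ := hx
    exact ⟨φ n, hψφ n⟩
  have hess'' : EssIn 𝒳 (LinearMap.range j) (LinearMap.range ψ) := by
    intro P hPhom hPle hPne
    have h1 : (P.comap ψ).IsHomogeneous N'.gr := comap_isHomogeneous _ _ hψgr hPhom
    have h2 : P.comap ψ ≠ ⊥ := by
      rw [Ne, Submodule.eq_bot_iff] at hPne ⊢
      push Not at hPne ⊢
      obtain ⟨x, hxP, hx0⟩ := hPne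
      obtain ⟨y, rfl⟩ := hPle hxP
      exact ⟨y, hxP, fun h => hx0 (by rw [h, map_zero])⟩
    have h3 := hφ.essential _ h1 h2
    rw [Ne, Submodule.eq_bot_iff] at h3
    push Not at h3
    obtain ⟨_, ⟨hz1, ⟨n, rfl⟩⟩, hz0⟩ := h3
    have h4 : (P ⊓ N) ≠ ⊥ := by
      rw [Ne, Submodule.eq_bot_iff]
      push Not
      refine ⟨subVal 𝒜 𝒳 N hNhom n, ⟨?_, subVal_mem 𝒜 𝒳 N hNhom n⟩, ?_⟩
      · rw [← hψφ n]; exact hz1
      · intro h
        apply hz0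
        have : n = 0 := subVal_injective 𝒜 𝒳 N hNhom (h.trans (map_zero _).symm)
        rw [this, map_zero]
    have h5 := hess _ (inf_isHomogeneous 𝒳 hPhom hNhom) inf_le_right h4
    intro hbot
    apply h5
    rw [eq_bot_iff, ← hbot]
    exact inf_le_inf_right _ inf_le_left
  have heq := hmax _ hN''hom hess'' hNle
  intro y
  have hy : ψ y ∈ N := by rw [← heq]; exact ⟨y, rfl⟩
  rw [← subVal_range 𝒜 𝒳 N hNhom] at hy
  obtain ⟨n, hn⟩ := hy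
  exact ⟨n, hψinj (by rw [hψφ, hn])⟩

end Groth.Agent.Helper20.GrInj
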