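import Mathlib
import Groth.Agent.Lib.Helper20.GrHull4

open DirectSum

namespace Groth.Agent.Helper20.GrInj

universe u

variable {ι : Type} [AddCommGroup ι] [DecidableEq ι]
variable {R : Type u} [CommRing R]
variable {σ : Type u} [SetLike σ R] [AddSubgroupClass σ R] (𝒜 : ι → σ) [GradedRing 𝒜]
variable {M : Type u} [AddCommGroup M] [Module R M] (ℳ : ι → AddSubgroup M)
  [DirectSum.Decomposition ℳ] [SetLike.GradedSMul 𝒜 ℳ]

/-- every graded module has a *injective hull -/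
theorem exists_starInjHull :
    ∃ (E : GrLC.GMod.{u} 𝒜) (f : M →ₗ[R] E.carrier), GrLC.IsStarInjHull 𝒜 ℳ E.gr f := by
  obtain ⟨X, j, hX, hjgr, hjinj⟩ := exists_starInj_embedding 𝒜 ℳ
  obtain ⟨N, hN, hjN, h⟩ := exists_starInjHull_in 𝒜 X.gr ℳ hX j hjgr hjinj
  exact ⟨_, _, h⟩

/-- a *injective hull sits inside any injective module containing `M` -/
theorem exists_starInjHull_sub_injective (I : Type u) [AddCommGroup I] [Module R I]
    [Module.Injective R I] (e : M →ₗ[R] I) (he : Function.Injective e) :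
    ∃ (E : GrLC.GMod.{u} 𝒜) (f : M →ₗ[R] E.carrier), GrLC.IsStarInjHull 𝒜 ℳ E.gr f ∧
      ∃ j : E.carrier →ₗ[R] I, Function.Injective j ∧ j ∘ₗ f = e := by
  obtain ⟨E, f, hf⟩ := exists_starInjHull 𝒜 ℳ
  refine ⟨E, f, hf, ?_⟩
  have hess := isEssentialInj_of_isStarEss 𝒜 E.gr ℳ hf.toIsStarEss
  obtain ⟨j, hj⟩ := Module.Injective.out f hf.injective e
  refine ⟨j, ?_, LinearMap.ext hj⟩
  rw [← LinearMap.ker_eq_bot]
  by_contra hne
  apply hess.essential _ hne
  rw [eq_bot_iff]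
  rintro x ⟨hx1, ⟨m, rfl⟩⟩
  rw [SetLike.mem_coe, LinearMap.mem_ker, hj] at hx1
  have : m = 0 := he (hx1.trans (map_zero e).symm)
  rw [this, map_zero]
  exact Submodule.zero_mem _

end Groth.Agent.Helper20.GrInj
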