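import Mathlib
import Groth.Agent.Lib.Helper20.GrHull5

open DirectSum

namespace Groth.Agent.Helper20.GrInj

universe u

variable {ι : Type} [AddCommGroup ι] [DecidableEq ι]
variable {R : Type u} [CommRing R]
variable {σ : Type u} [SetLike σ R] [AddSubgroupClass σ R] (𝒜 : ι → σ) [GradedRing 𝒜]
variable {Y : Type u} [AddCommGroup Y] [Module R Y] (𝒴 : ι → AddSubgroup Y)

/-- the shifted family `Y(d)_j = Y_{j+d}` -/
def shiftGr (d : ι) : ι → AddSubgroup Y := fun j => 𝒴 (j + d)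

theorem shiftGr_isInternal [DirectSum.Decomposition 𝒴] (d : ι) :
    DirectSum.IsInternal (shiftGr 𝒴 d) := by
  classical
  apply isInternal_of
  · intro n
    refine ⟨(decompose 𝒴 n).support.map (Equiv.addRight (-d)).toEmbedding,
      fun i => (decompose 𝒴 n (i + d) : Y), fun i => (decompose 𝒴 n (i + d)).2, ?_⟩
    rw [Finset.sum_map]
    conv_lhs => rw [← sum_support_decompose 𝒴 n]
    apply Finset.sum_congr rfl
    intro j _
    show _ = (decompose 𝒴 n (j + -d + d) : Y)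
    rw [neg_add_cancel_right]
  · intro s c hc hsum i hi
    have hc' : ∀ j, c j ∈ 𝒴 (d + j) := fun j => by rw [add_comm]; exact hc j
    have := decompose_sum_homog_shift 𝒴 d s c hc' i
    rw [hsum, if_pos hi, decompose_zero, DirectSum.zero_apply, ZeroMemClass.coe_zero] at this
    exact this.symm

omit [DecidableEq ι] [GradedRing 𝒜] [AddSubgroupClass σ R] in
theorem shiftGr_gradedSMul [SetLike.GradedSMul 𝒜 𝒴] (d : ι) :
    SetLike.GradedSMul 𝒜 (shiftGr 𝒴 d) :=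
  ⟨fun {h j} {r} {y} hr hy => by
    have := SetLike.GradedSMul.smul_mem (A := 𝒜) (B := 𝒴) hr hy
    rw [vadd_eq_add, ← add_assoc] at this
    exact this⟩

/-- the shifted bundled graded module `Y(d)` -/
noncomputable def shiftGMod (Y : GrLC.GMod.{u} 𝒜) (d : ι) : GrLC.GMod.{u} 𝒜 :=
  letI := (shiftGr_isInternal Y.gr d).chooseDecomposition
  letI := shiftGr_gradedSMul 𝒜 Y.gr d
  GrLC.GMod.of 𝒜 Y.carrier (shiftGr Y.gr d)

/-- the identity map as a map out of the shifted module -/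
def shiftId (Y : GrLC.GMod.{u} 𝒜) (d : ι) : (shiftGMod 𝒜 Y d).carrier ≃ₗ[R] Y.carrier :=
  LinearEquiv.refl R Y.carrier

theorem shiftId_mem (Y : GrLC.GMod.{u} 𝒜) (d : ι) (j : ι) (y : (shiftGMod 𝒜 Y d).carrier) :
    y ∈ (shiftGMod 𝒜 Y d).gr j ↔ shiftId 𝒜 Y d y ∈ Y.gr (j + d) := Iff.rfl

/-- shifting preserves *injectivity -/
theorem shift_isStarInj {E : Type u} [AddCommGroup E] [Module R E] (𝓔 : ι → AddSubgroup E)
    [DirectSum.Decomposition 𝓔] [SetLike.GradedSMul 𝒜 𝓔] (hE : GrLC.IsStarInj 𝒜 𝓔) (d : ι)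
    [DirectSum.Decomposition (shiftGr 𝓔 d)] [SetLike.GradedSMul 𝒜 (shiftGr 𝓔 d)] :
    GrLC.IsStarInj 𝒜 (shiftGr 𝓔 d) := by
  intro A B f hf hinj γ hγ
  have hf' : GrLC.IsGrHom (shiftGMod 𝒜 A (-d)).gr (shiftGMod 𝒜 B (-d)).gr f :=
    fun j a ha => hf (j + -d) a ha
  have hγ' : GrLC.IsGrHom (shiftGMod 𝒜 A (-d)).gr 𝓔 γ := by
    intro j a ha
    have := hγ (j + -d) a ha
    unfold shiftGr at this
    rwa [neg_add_cancel_right] at this
  obtain ⟨h, hh1, hh2⟩ := hE (shiftGMod 𝒜 A (-d)) (shiftGMod 𝒜 B (-d)) f hf' hinj γ hγ'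
  refine ⟨h, ?_, hh2⟩
  intro i b hb
  show h b ∈ 𝓔 (i + d)
  apply hh1 (i + d) b
  show b ∈ B.gr (i + d + -d)
  rwa [add_neg_cancel_right]

/-- on a *injective module, an injective multiplication by a homogeneous element is bijective -/
theorem smul_bijective_of_starInj {E : Type u} [AddCommGroup E] [Module R E] (𝓔 : ι → AddSubgroup E)
    [DirectSum.Decomposition 𝓔] [SetLike.GradedSMul 𝒜 𝓔] (hE : GrLC.IsStarInj 𝒜 𝓔) {g : ι} {r : R}
    (hr : r ∈ 𝒜 g) (hinj : Function.Injective (fun x : E => r • x)) :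
    Function.Bijective (fun x : E => r • x) := by
  letI := (shiftGr_isInternal 𝓔 (-g)).chooseDecomposition
  letI := shiftGr_gradedSMul 𝒜 𝓔 (-g)
  have hsh := shift_isStarInj 𝒜 𝓔 hE (-g)
  have hfgr : GrLC.IsGrHom (shiftGr 𝓔 (-g)) 𝓔 (LinearMap.lsmul R E r) := by
    intro j x hx
    have := SetLike.GradedSMul.smul_mem (A := 𝒜) (B := 𝓔) hr hx
    rw [vadd_eq_add, add_comm, neg_add_cancel_right] at this
    exact this
  obtain ⟨ρ, _, hρ⟩ := starInj_extend (shiftGr 𝓔 (-g)) 𝒜 hsh (shiftGr 𝓔 (-g)) 𝓔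
    (LinearMap.lsmul R E r) hfgr hinj LinearMap.id (fun _ _ h => h)
  have hρ' : ∀ x, ρ (r • x) = x := fun x => congrArg (fun φ => φ x) hρ
  have hρinj : Function.Injective ρ := by
    rw [injective_iff_map_eq_zero]
    intro y hy
    rw [← hρ' y, map_smul, hy, smul_zero]
  refine ⟨hinj, fun y => ⟨ρ y, hρinj ?_⟩⟩
  exact hρ' (ρ y)

end Groth.Agent.Helper20.GrInj
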