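import Mathlib
import Groth.Agent.Lib.Helper20.GrShift

open DirectSum

namespace Groth.Agent.Helper20.GrInj

universe u

variable {ι : Type} [AddCommGroup ι] [DecidableEq ι]
variable {R : Type u} [CommRing R]
variable (𝒜 : ι → AddSubgroup R) [GradedRing 𝒜] (p : HomogeneousIdeal 𝒜)

theorem quotGr_eq : GrLC.quotGr 𝒜 p = quotGrM 𝒜 (p.toIdeal : Submodule R R) := by
  funext g
  ext x
  constructor
  · rintro ⟨y, hy, rfl⟩
    exact ⟨y, hy, rfl⟩
  · rintro ⟨y, hy, rfl⟩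
    exact ⟨y, hy, rfl⟩

theorem mem_quotGr {g : ι} {x : R ⧸ p.toIdeal} :
    x ∈ GrLC.quotGr 𝒜 p g ↔ ∃ r ∈ 𝒜 g, Ideal.Quotient.mk p.toIdeal r = x := Iff.rfl

theorem quotGr_isInternal : DirectSum.IsInternal (GrLC.quotGr 𝒜 p) := by
  rw [quotGr_eq]
  exact quotGrM_isInternal 𝒜 _ p.isHomogeneous

theorem quotGr_gradedSMul : SetLike.GradedSMul 𝒜 (GrLC.quotGr 𝒜 p) :=
  ⟨fun {i j} {r} {m} hr hm => by
    rw [mem_quotGr] at hm ⊢
    obtain ⟨y, hy, rfl⟩ := hm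
    refine ⟨r * y, SetLike.GradedMonoid.toGradedMul.mul_mem hr hy, ?_⟩
    rw [map_mul]
    rfl⟩

variable [hp : p.toIdeal.IsPrime]
variable {E : Type u} [AddCommGroup E] [Module R E] (𝓔 : ι → AddSubgroup E)
  [DirectSum.Decomposition 𝓔] [SetLike.GradedSMul 𝒜 𝓔]
variable (e : (R ⧸ p.toIdeal) →ₗ[R] E)

/-- annihilator of `e a` for nonzero `a` -/
theorem smul_e_eq_zero_iff (he : Function.Injective e) {a : R ⧸ p.toIdeal} (ha : a ≠ 0) (r : R) :
    r • e a = 0 ↔ r ∈ p.toIdeal := by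
  rw [← map_smul, ← map_zero e, he.eq_iff, Algebra.smul_def, Ideal.Quotient.algebraMap_eq,
    mul_eq_zero, or_iff_left ha, Ideal.Quotient.eq_zero_iff_mem]

end Groth.Agent.Helper20.GrInj
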