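import Mathlib
import Groth.Agent.Lib.Helper20.GrPrime1

open DirectSum

namespace Groth.Agent.Helper20.GrInj

universe u

variable {ι : Type} [AddCommGroup ι] [DecidableEq ι]
variable {R : Type u} [CommRing R]
variable (𝒜 : ι → AddSubgroup R) [GradedRing 𝒜] (p : HomogeneousIdeal 𝒜) [hp : p.toIdeal.IsPrime]
variable {E : Type u} [AddCommGroup E] [Module R E] (𝓔 : ι → AddSubgroup E)
  [DirectSum.Decomposition 𝓔] [SetLike.GradedSMul 𝒜 𝓔]
variable (e : (R ⧸ p.toIdeal) →ₗ[R] E)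

/-- a nonzero homogeneous submodule of `*E(R/p)` contains some `e a` with `a ≠ 0` -/
theorem exists_e_mem_of_ne_bot (he : GrLC.IsStarEss (GrLC.quotGr 𝒜 p) 𝓔 e) {P : Submodule R E}
    (hP : P.IsHomogeneous 𝓔) (hne : P ≠ ⊥) : ∃ a : R ⧸ p.toIdeal, a ≠ 0 ∧ e a ∈ P := by
  have h := he.essential P hP hne
  rw [Ne, Submodule.eq_bot_iff] at h
  push Not at h
  obtain ⟨_, ⟨hz1, ⟨a, rfl⟩⟩, hz0⟩ := h
  exact ⟨a, fun ha => hz0 (by rw [ha, map_zero]), hz1⟩

theorem starInjHull_quot_isStarIndec (he : GrLC.IsStarEss (GrLC.quotGr 𝒜 p) 𝓔 e) :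
    GrLC.IsStarIndec R 𝓔 := by
  constructor
  · refine ⟨⟨e 1, 0, fun h => ?_⟩⟩
    exact one_ne_zero (he.injective (h.trans (map_zero e).symm))
  · intro P Q hP hQ hPQ
    by_contra hcon
    push Not at hcon
    obtain ⟨a, ha, haP⟩ := exists_e_mem_of_ne_bot 𝒜 p 𝓔 e he hP hcon.1
    obtain ⟨b, hb, hbQ⟩ := exists_e_mem_of_ne_bot 𝒜 p 𝓔 e he hQ hcon.2
    obtain ⟨r, rfl⟩ := Ideal.Quotient.mk_surjective a
    obtain ⟨s, rfl⟩ := Ideal.Quotient.mk_surjective b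
    have h1 : e (Ideal.Quotient.mk p.toIdeal r * Ideal.Quotient.mk p.toIdeal s) ∈ Q := by
      have : Ideal.Quotient.mk p.toIdeal r * Ideal.Quotient.mk p.toIdeal s =
          r • Ideal.Quotient.mk p.toIdeal s := by
        rw [Algebra.smul_def, Ideal.Quotient.algebraMap_eq]
      rw [this, map_smul]
      exact Submodule.smul_mem _ _ hbQ
    have h2 : e (Ideal.Quotient.mk p.toIdeal r * Ideal.Quotient.mk p.toIdeal s) ∈ P := by
      have : Ideal.Quotient.mk p.toIdeal r * Ideal.Quotient.mk p.toIdeal s =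
          s • Ideal.Quotient.mk p.toIdeal r := by
        rw [Algebra.smul_def, Ideal.Quotient.algebraMap_eq, mul_comm]
      rw [this, map_smul]
      exact Submodule.smul_mem _ _ haP
    have h3 : e (Ideal.Quotient.mk p.toIdeal r * Ideal.Quotient.mk p.toIdeal s) ∈ P ⊓ Q := ⟨h2, h1⟩
    rw [hPQ.inf_eq_bot, Submodule.mem_bot] at h3
    have h4 := he.injective (h3.trans (map_zero e).symm)
    exact (mul_ne_zero ha hb) h4

/-- multiplication by a homogeneous element outside `p` is injective on `*E(R/p)` -/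
theorem smul_injective_of_notMem (he : GrLC.IsStarEss (GrLC.quotGr 𝒜 p) 𝓔 e) {g : ι} {r : R}
    (hr : r ∈ 𝒜 g) (hrp : r ∉ p.toIdeal) : Function.Injective (fun x : E => r • x) := by
  have hK : (LinearMap.ker (LinearMap.lsmul R E r)).IsHomogeneous 𝓔 := by
    intro i x hx
    rw [LinearMap.mem_ker, LinearMap.lsmul_apply] at hx ⊢
    rw [← decompose_smul_of_mem 𝒜 𝓔 hr x i, hx, decompose_zero, DirectSum.zero_apply,
      ZeroMemClass.coe_zero]
  have hbot : LinearMap.ker (LinearMap.lsmul R E r) = ⊥ := by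
    by_contra hne
    obtain ⟨a, ha, haK⟩ := exists_e_mem_of_ne_bot 𝒜 p 𝓔 e he hK hne
    rw [LinearMap.mem_ker, LinearMap.lsmul_apply, smul_e_eq_zero_iff 𝒜 p e he.injective ha] at haK
    exact hrp haK
  exact LinearMap.ker_eq_bot.1 hbot

theorem smul_bijective_starInjHull_quot (he : GrLC.IsStarInjHull 𝒜 (GrLC.quotGr 𝒜 p) 𝓔 e) {g : ι}
    {r : R} (hr : r ∈ 𝒜 g) (hrp : r ∉ p.toIdeal) : Function.Bijective (fun x : E => r • x) :=
  smul_bijective_of_starInj 𝒜 𝓔 he.starInj hr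
    (smul_injective_of_notMem 𝒜 p 𝓔 e he.toIsStarEss hr hrp)

theorem eq_of_starInjHull_quot_equiv (he : GrLC.IsStarEss (GrLC.quotGr 𝒜 p) 𝓔 e)
    (q : HomogeneousIdeal 𝒜) [hq : q.toIdeal.IsPrime]
    {F : Type u} [AddCommGroup F] [Module R F] (𝓕 : ι → AddSubgroup F)
    [DirectSum.Decomposition 𝓕] [SetLike.GradedSMul 𝒜 𝓕] (f : (R ⧸ q.toIdeal) →ₗ[R] F)
    (hf : GrLC.IsStarEss (GrLC.quotGr 𝒜 q) 𝓕 f) (g : ι) (φ : E ≃ₗ[R] F)
    (hφ : GrLC.IsGrHomDeg 𝓔 𝓕 φ.toLinearMap g) : p = q := by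
  have h1 : (1 : R ⧸ p.toIdeal) ∈ GrLC.quotGr 𝒜 p 0 :=
    (mem_quotGr 𝒜 p).2 ⟨1, SetLike.GradedOne.one_mem, map_one _⟩
  have hx₀ : e 1 ∈ 𝓔 0 := he.grHom 0 1 h1
  have hy₀ : φ (e 1) ∈ 𝓕 (0 + g) := hφ 0 _ hx₀
  have hne : e 1 ≠ 0 := fun h => one_ne_zero (he.injective (h.trans (map_zero e).symm))
  have hy₀ne : φ (e 1) ≠ 0 := fun h => hne (φ.injective (h.trans (map_zero φ).symm))
  have hspan : Submodule.span R {φ (e 1)} ≠ ⊥ := by
    rw [Ne, Submodule.span_singleton_eq_bot]; exact hy₀ne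
  obtain ⟨b, hb, hbmem⟩ := exists_e_mem_of_ne_bot 𝒜 q 𝓕 f hf
    (span_singleton_isHomogeneous 𝒜 𝓕 hy₀) hspan
  rw [Submodule.mem_span_singleton] at hbmem
  obtain ⟨r, hr⟩ := hbmem
  have hr' : f b = φ (e (Ideal.Quotient.mk p.toIdeal r)) := by
    rw [← hr, ← map_smul, ← map_smul]
    congr 2
    rw [Algebra.smul_def, mul_one, Ideal.Quotient.algebraMap_eq]
  have hrne : Ideal.Quotient.mk p.toIdeal r ≠ 0 := by
    intro h
    rw [h, map_zero, map_zero] at hr'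
    exact hb (hf.injective (hr'.trans (map_zero f).symm))
  apply HomogeneousIdeal.toIdeal_injective
  ext s
  have key : s • f b = φ (s • e (Ideal.Quotient.mk p.toIdeal r)) := by rw [hr', map_smul]
  rw [← smul_e_eq_zero_iff 𝒜 p e he.injective hrne s, ← smul_e_eq_zero_iff 𝒜 q f hf.injective hb s,
    key]
  constructor
  · intro h; rw [h, map_zero]
  · intro h; exact φ.injective (h.trans (map_zero φ).symm)

end Groth.Agent.Helper20.GrInj
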