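import Mathlib
import Groth.Agent.Lib.Helper20.GrPrime2

open DirectSum

namespace Groth.Agent.Helper20.GrInj

universe u

variable {ι : Type} [AddCommGroup ι] [DecidableEq ι]
variable {R : Type u} [CommRing R]
variable (𝒜 : ι → AddSubgroup R) [GradedRing 𝒜] (p : HomogeneousIdeal 𝒜) [hp : p.toIdeal.IsPrime]
variable {E : Type u} [AddCommGroup E] [Module R E] (𝓔 : ι → AddSubgroup E)
  [DirectSum.Decomposition 𝓔] [SetLike.GradedSMul 𝒜 𝓔]
variable (e : (R ⧸ p.toIdeal) →ₗ[R] E)

/-- the *injective hull of `R/p` is an (ungraded) essential extension -/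
theorem isEssentialInj_quot (he : GrLC.IsStarEss (GrLC.quotGr 𝒜 p) 𝓔 e) : InjHull.IsEssentialInj e := by
  letI := (quotGr_isInternal 𝒜 p).chooseDecomposition
  exact isEssentialInj_of_isStarEss 𝒜 𝓔 (GrLC.quotGr 𝒜 p) he

/-- every nonzero element of `*E(R/p)` has a multiple of the form `e a`, `a ≠ 0` -/
theorem exists_smul_eq_e (he : GrLC.IsStarEss (GrLC.quotGr 𝒜 p) 𝓔 e) {x : E} (hx : x ≠ 0) :
    ∃ (r : R) (a : R ⧸ p.toIdeal), a ≠ 0 ∧ r • x = e a := by
  have h := (isEssentialInj_quot 𝒜 p 𝓔 e he).essential (Submodule.span R {x})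
    (by rw [Ne, Submodule.span_singleton_eq_bot]; exact hx)
  rw [Ne, Submodule.eq_bot_iff] at h
  push Not at h
  obtain ⟨_, ⟨hz1, ⟨a, rfl⟩⟩, hz0⟩ := h
  rw [SetLike.mem_coe, Submodule.mem_span_singleton] at hz1
  obtain ⟨r, hr⟩ := hz1
  exact ⟨r, a, fun ha => hz0 (by rw [ha, map_zero]), hr⟩

/-- the only associated prime of a submodule of `*E(R/p)` is `p` -/
theorem associatedPrimes_sub (he : GrLC.IsStarEss (GrLC.quotGr 𝒜 p) 𝓔 e) [IsNoetherianRing R]
    (N : Submodule R E) : associatedPrimes R N ⊆ {p.toIdeal} := by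
  intro q hq
  rw [Set.mem_singleton_iff]
  obtain ⟨hqprime, y, hy⟩ := (isAssociatedPrime_iff).1 hq
  have hmem : ∀ s : R, s ∈ q ↔ s • (y : E) = 0 := by
    intro s
    rw [hy, Submodule.mem_colon_singleton, Submodule.mem_bot, ← Submodule.coe_smul,
      Submodule.coe_eq_zero]
  have hy0 : (y : E) ≠ 0 := by
    intro h
    apply hqprime.ne_top
    rw [Ideal.eq_top_iff_one, hmem, h, smul_zero]
  obtain ⟨r, a, ha, hra⟩ := exists_smul_eq_e 𝒜 p 𝓔 e he hy0
  have hrq : r ∉ q := by
    rw [hmem, hra]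
    exact fun h => ha (he.injective (h.trans (map_zero e).symm))
  ext s
  rw [← smul_e_eq_zero_iff 𝒜 p e he.injective ha s, ← hra, smul_smul, ← hmem]
  constructor
  · intro h; exact Ideal.mul_mem_right _ _ h
  · intro h; exact (hqprime.mem_or_mem h).resolve_right hrq

theorem gam_eq_top_starInjHull_quot (he : GrLC.IsStarEss (GrLC.quotGr 𝒜 p) 𝓔 e)
    [IsNoetherianRing R] : GrLC.gam p.toIdeal E = ⊤ := by
  rw [eq_top_iff]
  intro x _
  by_cases hx : x = 0
  · rw [hx]; exact Submodule.zero_mem _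
  set N : Submodule R E := Submodule.span R {x} with hN
  haveI : Module.Finite R N := Module.Finite.span_singleton R x
  have hxN : x ∈ N := Submodule.mem_span_singleton_self x
  have hann : Module.annihilator R N ≠ ⊤ := by
    intro h
    have : (1 : R) ∈ Module.annihilator R N := by rw [h]; trivial
    rw [Module.mem_annihilator] at this
    have h1 := this ⟨x, hxN⟩
    rw [one_smul] at h1
    exact hx (congrArg Subtype.val h1)
  have hmin : (Module.annihilator R N).minimalPrimes = {p.toIdeal} := by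
    have hsub : (Module.annihilator R N).minimalPrimes ⊆ {p.toIdeal} :=
      (Module.associatedPrimes.minimalPrimes_annihilator_subset_associatedPrimes R N).trans
        (associatedPrimes_sub 𝒜 p 𝓔 e he N)
    obtain ⟨⟨q, hq⟩⟩ := Ideal.nonempty_minimalPrimes hann
    apply Set.Subset.antisymm hsub
    rw [Set.singleton_subset_iff]
    rw [← Set.mem_singleton_iff.1 (hsub hq)]
    exact hq
  have hrad : (Module.annihilator R N).radical = p.toIdeal := by
    rw [← Ideal.sInf_minimalPrimes, hmin, sInf_singleton]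
  obtain ⟨n, hn⟩ := Ideal.exists_radical_pow_le_of_fg (Module.annihilator R N)
    (IsNoetherian.noetherian _)
  rw [hrad] at hn
  refine ⟨n, fun r hr => ?_⟩
  have := hn hr
  rw [Module.mem_annihilator] at this
  exact congrArg Subtype.val (this ⟨x, hxN⟩)

end Groth.Agent.Helper20.GrInj
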