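import Mathlib
import Groth.Agent.Lib.Helper20.GrPrime3

open DirectSum

namespace Groth.Agent.Helper20.GrInj

universe u

/-- a finitely generated free abelian group admits a compatible linear order -/
theorem exists_linearOrder (ι : Type) [AddCommGroup ι] [Module.Free ℤ ι] [Module.Finite ℤ ι] :
    ∃ (lo : LinearOrder ι), @IsOrderedCancelAddMonoid ι _ lo.toPartialOrder.toPreorder := by
  let φ : ι → Lex (Fin (Module.finrank ℤ ι) → ℤ) := fun x => toLex ((Module.finBasis ℤ ι).equivFun x)
  have hφinj : Function.Injective φ := by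
    intro a b hab
    exact (Module.finBasis ℤ ι).equivFun.injective (toLex.injective hab)
  have hφadd : ∀ x y, φ (x + y) = φ x + φ y := by
    intro x y
    show toLex ((Module.finBasis ℤ ι).equivFun (x + y)) = _
    rw [map_add]
    rfl
  refine ⟨LinearOrder.lift' φ hφinj, ?_⟩
  letI := LinearOrder.lift' φ hφinj
  exact Function.Injective.isOrderedCancelAddMonoid φ hφadd Iff.rfl

theorem isPrime_of_homogeneous_mem_or_mem' {ι : Type} [AddCommGroup ι] [d : DecidableEq ι]
    [Module.Free ℤ ι] [Module.Finite ℤ ι] {R : Type u} [CommRing R] (𝒜 : ι → AddSubgroup R)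
    [GradedRing 𝒜] {J : Ideal R} (hJ : J.IsHomogeneous 𝒜) (hne : J ≠ ⊤)
    (h : ∀ {x y : R}, SetLike.IsHomogeneousElem 𝒜 x → SetLike.IsHomogeneousElem 𝒜 y →
      x * y ∈ J → x ∈ J ∨ y ∈ J) : J.IsPrime := by
  obtain ⟨lo, hlo⟩ := exists_linearOrder ι
  have hd : d = lo.toDecidableEq := Subsingleton.elim _ _
  subst hd
  exact hJ.isPrime_of_homogeneous_mem_or_mem hne h

end Groth.Agent.Helper20.GrInj
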