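import Mathlib
import Groth.Agent.Lib.Helper20.GrOrder

open DirectSum

namespace Groth.Agent.Helper20.GrInj

universe u

variable {ι : Type} [AddCommGroup ι] [DecidableEq ι]
variable {R : Type u} [CommRing R]
variable (𝒜 : ι → AddSubgroup R) [GradedRing 𝒜] (q : HomogeneousIdeal 𝒜)

theorem quotGr_sub_eq (g₀ : ι) :
    (fun j : ι => GrLC.quotGr 𝒜 q (j - g₀)) = shiftGr (GrLC.quotGr 𝒜 q) (-g₀) := by
  funext j
  unfold shiftGr
  rw [sub_eq_add_neg]

theorem quotGr_sub_isInternal (g₀ : ι) :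
    DirectSum.IsInternal (fun j : ι => GrLC.quotGr 𝒜 q (j - g₀)) := by
  rw [quotGr_sub_eq]
  letI := (quotGr_isInternal 𝒜 q).chooseDecomposition
  exact shiftGr_isInternal _ _

theorem quotGr_sub_gradedSMul (g₀ : ι) :
    SetLike.GradedSMul 𝒜 (fun j : ι => GrLC.quotGr 𝒜 q (j - g₀)) := by
  rw [quotGr_sub_eq]
  letI := quotGr_gradedSMul 𝒜 q
  exact shiftGr_gradedSMul 𝒜 _ _

variable {I : Type u} [AddCommGroup I] [Module R I] (ℐ : ι → AddSubgroup I)
  [DirectSum.Decomposition ℐ] [SetLike.GradedSMul 𝒜 ℐ]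

/-- the map `R/q → I`, `a ↦ a • m`, for `m` with annihilator `q` -/
noncomputable def annMap (m : I) (hann : (R ∙ m).annihilator = q.toIdeal) :
    (R ⧸ q.toIdeal) →ₗ[R] I :=
  Submodule.liftQ q.toIdeal (LinearMap.toSpanSingleton R I m) (by
    intro r hr
    rw [← hann, Submodule.mem_annihilator_span_singleton] at hr
    exact hr)

theorem annMap_mk (m : I) (hann : (R ∙ m).annihilator = q.toIdeal) (r : R) :
    annMap 𝒜 q m hann (Ideal.Quotient.mk q.toIdeal r) = r • m := rfl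

theorem annMap_injective (m : I) (hann : (R ∙ m).annihilator = q.toIdeal) :
    Function.Injective (annMap 𝒜 q m hann) := by
  rw [injective_iff_map_eq_zero]
  intro a ha
  obtain ⟨r, rfl⟩ := Ideal.Quotient.mk_surjective a
  rw [annMap_mk] at ha
  rw [Ideal.Quotient.eq_zero_iff_mem, ← hann, Submodule.mem_annihilator_span_singleton]
  exact ha

omit [Decomposition ℐ] in
theorem annMap_grHom {g₀ : ι} (m : I) (hm : m ∈ ℐ g₀) (hann : (R ∙ m).annihilator = q.toIdeal) :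
    GrLC.IsGrHom (fun j : ι => GrLC.quotGr 𝒜 q (j - g₀)) ℐ (annMap 𝒜 q m hann) := by
  intro j a ha
  obtain ⟨r, hr, rfl⟩ := (mem_quotGr 𝒜 q).1 ha
  rw [annMap_mk]
  have := SetLike.GradedSMul.smul_mem (A := 𝒜) (B := ℐ) hr hm
  rw [vadd_eq_add, sub_add_cancel] at this
  exact this

/-- a *injective homogeneous submodule is a graded direct summand -/
theorem exists_isCompl_of_starInj_sub (N : Submodule R I) (hN : N.IsHomogeneous ℐ)
    (hinj : GrLC.IsStarInj 𝒜 (subGMod ℐ 𝒜 N hN).gr) :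
    ∃ Q : Submodule R I, Q.IsHomogeneous ℐ ∧ IsCompl N Q := by
  obtain ⟨ρ, hρgr, hρ⟩ := starInj_extend (subGMod ℐ 𝒜 N hN).gr 𝒜 hinj (subGMod ℐ 𝒜 N hN).gr ℐ
    (subVal 𝒜 ℐ N hN) (subVal_grHom 𝒜 ℐ N hN) (subVal_injective 𝒜 ℐ N hN) LinearMap.id
    (fun _ _ h => h)
  have hρ' : ∀ x, ρ (subVal 𝒜 ℐ N hN x) = x := fun x => congrArg (fun φ => φ x) hρ
  refine ⟨LinearMap.ker ρ, ker_isHomogeneous ℐ (subGMod ℐ 𝒜 N hN).gr hρgr, ?_⟩
  rw [isCompl_iff, disjoint_iff, codisjoint_iff]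
  constructor
  · rw [eq_bot_iff]
    rintro y ⟨hy1, hy2⟩
    rw [SetLike.mem_coe, ← subVal_range 𝒜 ℐ N hN] at hy1
    obtain ⟨x, rfl⟩ := hy1
    rw [SetLike.mem_coe, LinearMap.mem_ker, hρ'] at hy2
    rw [hy2, map_zero]
    exact Submodule.zero_mem _
  · rw [eq_top_iff]
    intro y _
    have h1 : subVal 𝒜 ℐ N hN (ρ y) ∈ N := subVal_mem 𝒜 ℐ N hN _
    have h2 : y - subVal 𝒜 ℐ N hN (ρ y) ∈ LinearMap.ker ρ := by
      rw [LinearMap.mem_ker, map_sub, hρ', sub_self]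
    have : y = subVal 𝒜 ℐ N hN (ρ y) + (y - subVal 𝒜 ℐ N hN (ρ y)) := by abel
    rw [this]
    exact Submodule.add_mem_sup h1 h2

end Groth.Agent.Helper20.GrInj
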