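import Mathlib
import Groth.Agent.Lib.Helper20.GrPrime4

open DirectSum

namespace Groth.Agent.Helper20.GrInj

universe u

variable {ι : Type} [AddCommGroup ι] [DecidableEq ι]
variable {R : Type u} [CommRing R]
variable (𝒜 : ι → AddSubgroup R) [GradedRing 𝒜]
variable {I : Type u} [AddCommGroup I] [Module R I] (ℐ : ι → AddSubgroup I)
  [DirectSum.Decomposition ℐ] [SetLike.GradedSMul 𝒜 ℐ]

theorem annihilator_span_singleton_isHomogeneous {g : ι} {m : I} (hm : m ∈ ℐ g) :
    ((R ∙ m).annihilator).IsHomogeneous 𝒜 := by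
  intro h r hr
  rw [Submodule.mem_annihilator_span_singleton] at hr ⊢
  rw [← decompose_smul_homog_right 𝒜 ℐ hm r h, hr, decompose_zero]
  rfl

include 𝒜 in
theorem exists_homog_annihilator_isPrime [Module.Free ℤ ι] [Module.Finite ℤ ι]
    [IsNoetherianRing R] [Nontrivial I] :
    ∃ (g₀ : ι) (m : I), m ∈ ℐ g₀ ∧ m ≠ 0 ∧ ((R ∙ m).annihilator).IsPrime := by
  classical
  -- the set of annihilators of nonzero homogeneous elements
  let S : Set (Ideal R) := {J | ∃ (g : ι) (m : I), m ∈ ℐ g ∧ m ≠ 0 ∧ J = (R ∙ m).annihilator}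
  have hSne : S.Nonempty := by
    obtain ⟨x, hx⟩ := exists_ne (0 : I)
    obtain ⟨g, y, _, hy, hy0⟩ := exists_homog_ne_zero_mem (P := (⊤ : Submodule R I)) ℐ
      (fun i m _ => Submodule.mem_top) (by
        intro h
        apply hx
        have : x ∈ (⊤ : Submodule R I) := Submodule.mem_top
        rw [h] at this
        exact this)
    exact ⟨_, g, y, hy, hy0, rfl⟩
  obtain ⟨J, hJS, hJmax⟩ := set_has_maximal_iff_noetherian.2 (inferInstance : IsNoetherian R R) S hSne
  obtain ⟨g₀, m, hm, hm0, rfl⟩ := hJS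
  refine ⟨g₀, m, hm, hm0, ?_⟩
  apply isPrime_of_homogeneous_mem_or_mem' 𝒜 (annihilator_span_singleton_isHomogeneous 𝒜 ℐ hm)
  · intro htop
    apply hm0
    have : (1 : R) ∈ (R ∙ m).annihilator := by rw [htop]; exact Submodule.mem_top
    rw [Submodule.mem_annihilator_span_singleton, one_smul] at this
    exact this
  · rintro a b ⟨i, ha⟩ ⟨j, hb⟩ hab
    by_cases hbm : b • m = 0
    · right
      rw [Submodule.mem_annihilator_span_singleton]
      exact hbm
    · left
      have hbm' : b • m ∈ ℐ (j + g₀) := by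
        have := SetLike.GradedSMul.smul_mem (A := 𝒜) (B := ℐ) hb hm
        rwa [vadd_eq_add] at this
      have hle : (R ∙ m).annihilator ≤ (R ∙ (b • m)).annihilator := by
        intro r hr
        rw [Submodule.mem_annihilator_span_singleton] at hr ⊢
        rw [smul_comm, hr, smul_zero]
      have hnlt := hJmax (R ∙ (b • m)).annihilator ⟨j + g₀, b • m, hbm', hbm, rfl⟩
      have heq : (R ∙ m).annihilator = (R ∙ (b • m)).annihilator := by
        by_contra hne
        exact hnlt (lt_of_le_of_ne hle hne)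
      rw [heq, Submodule.mem_annihilator_span_singleton, smul_smul]
      rw [Submodule.mem_annihilator_span_singleton] at hab
      exact hab

variable {M : Type u} [AddCommGroup M] [Module R M] (ℳ : ι → AddSubgroup M)
variable {X : Type u} [AddCommGroup X] [Module R X] (𝒳 : ι → AddSubgroup X)
  [DirectSum.Decomposition 𝒳] [SetLike.GradedSMul 𝒜 𝒳]

/-- transport a *injective hull along a graded isomorphism of the target -/
theorem starInjHull_comp_bijective {f : M →ₗ[R] X} (hf : GrLC.IsStarInjHull 𝒜 ℳ 𝒳 f)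
    (ψ : X →ₗ[R] I) (hψ : GrLC.IsGrHom 𝒳 ℐ ψ) (hbij : Function.Bijective ψ)
    (hI : GrLC.IsStarInj 𝒜 ℐ) : GrLC.IsStarInjHull 𝒜 ℳ ℐ (ψ ∘ₗ f) := by
  refine ⟨⟨?_, ?_, ?_⟩, hI⟩
  · exact hbij.1.comp hf.injective
  · intro g m hm
    exact hψ g _ (hf.grHom g m hm)
  · intro P hP hPne
    have h1 : (P.comap ψ).IsHomogeneous 𝒳 := comap_isHomogeneous 𝒳 ℐ hψ hP
    have h2 : P.comap ψ ≠ ⊥ := by
      intro hbot
      apply hPne
      rw [eq_bot_iff]
      intro y hy
      obtain ⟨x, rfl⟩ := hbij.2 y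
      have : x ∈ P.comap ψ := hy
      rw [hbot, Submodule.mem_bot] at this
      rw [this, map_zero]
      exact Submodule.zero_mem _
    have h3 := hf.essential (P.comap ψ) h1 h2
    rw [Ne, Submodule.eq_bot_iff] at h3 ⊢
    push Not at h3 ⊢
    obtain ⟨x, ⟨hx1, hx2⟩, hx0⟩ := h3
    refine ⟨ψ x, ⟨hx1, ?_⟩, ?_⟩
    · obtain ⟨a, rfl⟩ := hx2
      exact ⟨a, rfl⟩
    · intro h
      apply hx0
      apply hbij.1
      rw [h, map_zero]

end Groth.Agent.Helper20.GrInj
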