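import Mathlib
import Groth.Agent.Lib.Helper20.GrPrime5

open DirectSum

namespace Groth.Agent.Helper20.GrInj

universe u

section QuotLift

variable {ι : Type} [AddCommGroup ι] [DecidableEq ι]
variable {R : Type u} [CommRing R]
variable {σ : Type u} [SetLike σ R] [AddSubgroupClass σ R] (𝒜 : ι → σ) [GradedRing 𝒜]
variable {X : Type u} [AddCommGroup X] [Module R X] (𝒳 : ι → AddSubgroup X)
  [DirectSum.Decomposition 𝒳] [SetLike.GradedSMul 𝒜 𝒳]
variable (P : Submodule R X) (hP : P.IsHomogeneous 𝒳)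
variable {Y : Type u} [AddCommGroup Y] [Module R Y] (𝒴 : ι → AddSubgroup Y)

/-- descending a map to the bundled quotient -/
noncomputable def quotLift (f : X →ₗ[R] Y) (hf : P ≤ LinearMap.ker f) :
    (quotGMod 𝒳 𝒜 P hP).carrier →ₗ[R] Y := P.liftQ f hf

theorem quotLift_quotMk (f : X →ₗ[R] Y) (hf : P ≤ LinearMap.ker f) (x : X) :
    quotLift 𝒜 𝒳 P hP f hf (quotMk 𝒜 𝒳 P hP x) = f x := rfl

theorem quotLift_grHom (f : X →ₗ[R] Y) (hf : P ≤ LinearMap.ker f) (hgr : GrLC.IsGrHom 𝒳 𝒴 f) :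
    GrLC.IsGrHom (quotGMod 𝒳 𝒜 P hP).gr 𝒴 (quotLift 𝒜 𝒳 P hP f hf) := by
  rintro g _ ⟨x, hx, rfl⟩
  exact hgr g x hx

theorem quotLift_injective (f : X →ₗ[R] Y) (hf : LinearMap.ker f = P) :
    Function.Injective (quotLift 𝒜 𝒳 P hP f hf.ge) := by
  rw [injective_iff_map_eq_zero]
  intro q hq
  obtain ⟨x, rfl⟩ := quotMk_surjective 𝒜 𝒳 P hP q
  rw [quotLift_quotMk] at hq
  rw [quotMk_eq_zero_iff, ← hf]
  exact hq

end QuotLift

section Extend

variable {ι : Type} [AddCommGroup ι] [DecidableEq ι]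
variable {R : Type u} [CommRing R]
variable {σ : Type u} [SetLike σ R] [AddSubgroupClass σ R] (𝒜 : ι → σ) [GradedRing 𝒜]
variable {M : Type u} [AddCommGroup M] [Module R M] (ℳ : ι → AddSubgroup M)
  [DirectSum.Decomposition ℳ] [SetLike.GradedSMul 𝒜 ℳ]

/-- the *injective extension property along a not necessarily injective map -/
theorem starInj_extend_of_ker_le (hI : GrLC.IsStarInj 𝒜 ℳ)
    {A : Type u} [AddCommGroup A] [Module R A] (𝓐 : ι → AddSubgroup A)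
    [DirectSum.Decomposition 𝓐] [SetLike.GradedSMul 𝒜 𝓐]
    {B : Type u} [AddCommGroup B] [Module R B] (𝓑 : ι → AddSubgroup B)
    [DirectSum.Decomposition 𝓑] [SetLike.GradedSMul 𝒜 𝓑]
    (j : A →ₗ[R] B) (hj : GrLC.IsGrHom 𝓐 𝓑 j)
    (g : A →ₗ[R] M) (hg : GrLC.IsGrHom 𝓐 ℳ g) (hker : LinearMap.ker j ≤ LinearMap.ker g) :
    ∃ h : B →ₗ[R] M, GrLC.IsGrHom 𝓑 ℳ h ∧ h ∘ₗ j = g := by
  have hP : (LinearMap.ker j).IsHomogeneous 𝓐 := ker_isHomogeneous 𝓐 𝓑 hj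
  obtain ⟨h, hgr, hh⟩ := starInj_extend ℳ 𝒜 hI (quotGMod 𝓐 𝒜 (LinearMap.ker j) hP).gr 𝓑
    (quotLift 𝒜 𝓐 (LinearMap.ker j) hP j le_rfl)
    (quotLift_grHom 𝒜 𝓐 (LinearMap.ker j) hP 𝓑 j le_rfl hj)
    (quotLift_injective 𝒜 𝓐 (LinearMap.ker j) hP j rfl)
    (quotLift 𝒜 𝓐 (LinearMap.ker j) hP g hker)
    (quotLift_grHom 𝒜 𝓐 (LinearMap.ker j) hP ℳ g hker hg)
  refine ⟨h, hgr, ?_⟩
  ext x
  have := congrArg (fun φ => φ (quotMk 𝒜 𝓐 (LinearMap.ker j) hP x)) hh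
  simpa [quotLift_quotMk] using this

end Extend

section ChainMaps

variable {ι : Type} [AddCommGroup ι] [DecidableEq ι]
variable {R : Type u} [CommRing R]
variable {σ : Type u} [SetLike σ R] [AddSubgroupClass σ R] {𝒜 : ι → σ} [GradedRing 𝒜]
variable {M : Type u} [AddCommGroup M] [Module R M] {ℳ : ι → AddSubgroup M}
  [DirectSum.Decomposition ℳ] [SetLike.GradedSMul 𝒜 ℳ]
variable {N : Type u} [AddCommGroup N] [Module R N] {𝒩 : ι → AddSubgroup N}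
  [DirectSum.Decomposition 𝒩] [SetLike.GradedSMul 𝒜 𝒩]
variable {L : Type u} [AddCommGroup L] [Module R L] {𝓛 : ι → AddSubgroup L}
  [DirectSum.Decomposition 𝓛] [SetLike.GradedSMul 𝒜 𝓛]

theorem res_d_comp (E : GrLC.StarInjRes 𝒜 ℳ) (n : ℕ) (x : (E.X n).carrier) :
    E.d (n + 1) (E.d n x) = 0 := by
  have : E.d n x ∈ LinearMap.ker (E.d (n + 1)) := by
    rw [E.exact_succ]; exact ⟨x, rfl⟩
  exact this

theorem res_d_ε (E : GrLC.StarInjRes 𝒜 ℳ) (m : M) : E.d 0 (E.ε m) = 0 := by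
  have : E.ε m ∈ LinearMap.ker (E.d 0) := by
    rw [E.exact_zero]; exact ⟨m, rfl⟩
  exact this

/-- a chain map between (the underlying complexes of) two *injective resolutions -/
structure ChMap (E : GrLC.StarInjRes 𝒜 ℳ) (F : GrLC.StarInjRes 𝒜 𝒩) where
  f : ∀ n : ℕ, (E.X n).carrier →ₗ[R] (F.X n).carrier
  comm : ∀ (n : ℕ) (x : (E.X n).carrier), F.d n (f n x) = f (n + 1) (E.d n x)

namespace ChMap

variable {E : GrLC.StarInjRes 𝒜 ℳ} {F : GrLC.StarInjRes 𝒜 𝒩} {G : GrLC.StarInjRes 𝒜 𝓛}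

/-- all components are homogeneous -/
def IsGr (c : ChMap E F) : Prop := ∀ n, GrLC.IsGrHom (E.X n).gr (F.X n).gr (c.f n)

/-- the chain map lifts `φ` -/
def Lifts (c : ChMap E F) (φ : M →ₗ[R] N) : Prop := ∀ m, c.f 0 (E.ε m) = F.ε (φ m)

/-- identity chain map -/
def id (E : GrLC.StarInjRes 𝒜 ℳ) : ChMap E E where
  f := fun _ => LinearMap.id
  comm := fun _ _ => rfl

/-- composition -/
def comp (c' : ChMap F G) (c : ChMap E F) : ChMap E G where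
  f := fun n => (c'.f n) ∘ₗ (c.f n)
  comm := fun n x => by
    rw [LinearMap.comp_apply, c'.comm, c.comm, LinearMap.comp_apply]

theorem id_isGr (E : GrLC.StarInjRes 𝒜 ℳ) : (ChMap.id E).IsGr := fun _ _ _ h => h

theorem id_lifts (E : GrLC.StarInjRes 𝒜 ℳ) : (ChMap.id E).Lifts LinearMap.id := fun _ => rfl

theorem comp_isGr {c' : ChMap F G} {c : ChMap E F} (h' : c'.IsGr) (h : c.IsGr) :
    (c'.comp c).IsGr := fun n g x hx => h' n g _ (h n g x hx)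

theorem comp_lifts {c' : ChMap F G} {c : ChMap E F} {ψ : N →ₗ[R] L} {φ : M →ₗ[R] N}
    (h' : c'.Lifts ψ) (h : c.Lifts φ) : (c'.comp c).Lifts (ψ ∘ₗ φ) := fun m => by
  show c'.f 0 (c.f 0 (E.ε m)) = G.ε (ψ (φ m))
  rw [h m, h' (φ m)]

theorem map_gam (c : ChMap E F) (a : Ideal R) (n : ℕ) {x : (E.X n).carrier}
    (hx : x ∈ GrLC.gam a (E.X n).carrier) : c.f n x ∈ GrLC.gam a (F.X n).carrier := by
  obtain ⟨k, hk⟩ := hx
  exact ⟨k, fun r hr => by rw [← map_smul, hk r hr, map_zero]⟩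

theorem map_cocyc (c : ChMap E F) (a : HomogeneousIdeal 𝒜) (i : ℕ) {x : (E.X i).carrier}
    (hx : x ∈ E.cocyc a i) : c.f i x ∈ F.cocyc a i := by
  refine ⟨c.map_gam a.toIdeal i hx.1, ?_⟩
  have h2 : E.d i x = 0 := hx.2
  show F.d i (c.f i x) = 0
  rw [c.comm, h2, map_zero]

theorem map_cobdy (c : ChMap E F) (a : HomogeneousIdeal 𝒜) (i : ℕ) {x : (E.X i).carrier}
    (hx : x ∈ E.cobdy a i) : c.f i x ∈ F.cobdy a i := by
  cases i with
  | zero =>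
    have : x = 0 := hx
    rw [this, map_zero]
    exact Submodule.zero_mem _
  | succ n =>
    obtain ⟨y, hy, rfl⟩ := hx
    exact ⟨c.f n y, c.map_gam a.toIdeal n hy, c.comm n y⟩

/-- the induced map on cocycles -/
noncomputable def cocycMap (c : ChMap E F) (a : HomogeneousIdeal 𝒜) (i : ℕ) :
    ↥(E.cocyc a i) →ₗ[R] ↥(F.cocyc a i) :=
  (c.f i).restrict (fun _ hx => c.map_cocyc a i hx)

theorem cocycMap_coe (c : ChMap E F) (a : HomogeneousIdeal 𝒜) (i : ℕ) (z : ↥(E.cocyc a i)) :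
    ((c.cocycMap a i z : ↥(F.cocyc a i)) : (F.X i).carrier) = c.f i z := rfl

/-- the induced map on graded local cohomology -/
noncomputable def Hmap (c : ChMap E F) (a : HomogeneousIdeal 𝒜) (i : ℕ) :
    E.H a i →ₗ[R] F.H a i :=
  Submodule.mapQ _ _ (c.cocycMap a i) (by
    intro z hz
    rw [Submodule.mem_comap] at hz ⊢
    exact c.map_cobdy a i hz)

theorem Hmap_toH (c : ChMap E F) (a : HomogeneousIdeal 𝒜) (i : ℕ) (z : ↥(E.cocyc a i)) :
    c.Hmap a i (E.toH a i z) = F.toH a i (c.cocycMap a i z) := rfl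

theorem toH_surjective (E : GrLC.StarInjRes 𝒜 ℳ) (a : HomogeneousIdeal 𝒜) (i : ℕ) :
    Function.Surjective (E.toH a i) := Submodule.mkQ_surjective _

theorem toH_eq_zero_iff (E : GrLC.StarInjRes 𝒜 ℳ) (a : HomogeneousIdeal 𝒜) (i : ℕ)
    (z : ↥(E.cocyc a i)) : E.toH a i z = 0 ↔ (z : (E.X i).carrier) ∈ E.cobdy a i := by
  rw [← LinearMap.mem_ker, Submodule.ker_mkQ, Submodule.mem_comap]
  rfl

theorem Hmap_id (a : HomogeneousIdeal 𝒜) (i : ℕ) (x : E.H a i) :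
    (ChMap.id E).Hmap a i x = x := by
  obtain ⟨z, rfl⟩ := toH_surjective E a i x
  rw [Hmap_toH]
  congr 1

theorem Hmap_comp (c' : ChMap F G) (c : ChMap E F) (a : HomogeneousIdeal 𝒜) (i : ℕ) (x : E.H a i) :
    (c'.comp c).Hmap a i x = c'.Hmap a i (c.Hmap a i x) := by
  obtain ⟨z, rfl⟩ := toH_surjective E a i x
  rw [Hmap_toH, Hmap_toH, Hmap_toH]
  congr 1

theorem Hmap_isGr {c : ChMap E F} (hc : c.IsGr) (a : HomogeneousIdeal 𝒜) (i : ℕ) :
    GrLC.IsGrHom (E.Hgr a i) (F.Hgr a i) (c.Hmap a i) := by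
  rintro g _ ⟨z, hz, rfl⟩
  exact ⟨c.cocycMap a i z, hc i g _ hz, (Hmap_toH c a i z).symm⟩

/-- a chain homotopy between two chain maps -/
structure Homotopy (c c' : ChMap E F) where
  s : ∀ n : ℕ, (E.X (n + 1)).carrier →ₗ[R] (F.X n).carrier
  zero : ∀ x : (E.X 0).carrier, c.f 0 x - c'.f 0 x = s 0 (E.d 0 x)
  succ : ∀ (n : ℕ) (x : (E.X (n + 1)).carrier),
    c.f (n + 1) x - c'.f (n + 1) x = F.d n (s n x) + s (n + 1) (E.d (n + 1) x)

omit [DecidableEq ι] in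
theorem map_gam_lin (a : Ideal R) {A B : Type u} [AddCommGroup A] [Module R A] [AddCommGroup B]
    [Module R B] (f : A →ₗ[R] B) {x : A} (hx : x ∈ GrLC.gam a A) : f x ∈ GrLC.gam a B := by
  obtain ⟨k, hk⟩ := hx
  exact ⟨k, fun r hr => by rw [← map_smul, hk r hr, map_zero]⟩

theorem Hmap_eq_of_homotopy {c c' : ChMap E F} (h : Homotopy c c') (a : HomogeneousIdeal 𝒜)
    (i : ℕ) (x : E.H a i) : c.Hmap a i x = c'.Hmap a i x := by
  obtain ⟨z, rfl⟩ := toH_surjective E a i x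
  rw [Hmap_toH, Hmap_toH, ← sub_eq_zero, ← map_sub, toH_eq_zero_iff]
  have hz2 : E.d i (z : (E.X i).carrier) = 0 := z.2.2
  cases i with
  | zero =>
    show c.f 0 z - c'.f 0 z ∈ F.cobdy a 0
    rw [h.zero, hz2, map_zero]
    exact Submodule.zero_mem _
  | succ n =>
    show c.f (n + 1) z - c'.f (n + 1) z ∈ F.cobdy a (n + 1)
    rw [h.succ, hz2, map_zero, add_zero]
    exact ⟨h.s n z, map_gam_lin a.toIdeal (h.s n) z.2.1, rfl⟩

end ChMap

end ChainMaps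

end Groth.Agent.Helper20.GrInj
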