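import Mathlib
import Groth.Agent.Lib.Helper20.GrCx1

open DirectSum

namespace Groth.Agent.Helper20.GrInj

universe u

variable {ι : Type} [AddCommGroup ι] [DecidableEq ι]
variable {R : Type u} [CommRing R]
variable {σ : Type u} [SetLike σ R] [AddSubgroupClass σ R] {𝒜 : ι → σ} [GradedRing 𝒜]
variable {M : Type u} [AddCommGroup M] [Module R M] {ℳ : ι → AddSubgroup M}
  [DirectSum.Decomposition ℳ] [SetLike.GradedSMul 𝒜 ℳ]
variable {N : Type u} [AddCommGroup N] [Module R N] {𝒩 : ι → AddSubgroup N}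
  [DirectSum.Decomposition 𝒩] [SetLike.GradedSMul 𝒜 𝒩]

section Lift

variable (E : GrLC.StarInjRes 𝒜 ℳ) (F : GrLC.StarInjRes 𝒜 𝒩)

/-- invariant of the inductive construction of a lift -/
def LiftP (n : ℕ) (f : (E.X n).carrier →ₗ[R] (F.X n).carrier) : Prop :=
  GrLC.IsGrHom (E.X n).gr (F.X n).gr f ∧ ∀ x, E.d n x = 0 → F.d n (f x) = 0

theorem exists_lift_zero (φ : M →ₗ[R] N) (hφ : GrLC.IsGrHom ℳ 𝒩 φ) :
    ∃ f : (E.X 0).carrier →ₗ[R] (F.X 0).carrier, LiftP E F 0 f ∧ ∀ m, f (E.ε m) = F.ε (φ m) := by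
  obtain ⟨f, hfgr, hf⟩ := starInj_extend (F.X 0).gr 𝒜 (F.starInj 0) ℳ (E.X 0).gr E.ε E.ε_grHom
    E.ε_injective (F.ε ∘ₗ φ) (fun g m hm => F.ε_grHom g _ (hφ g m hm))
  have hf' : ∀ m, f (E.ε m) = F.ε (φ m) := fun m => congrArg (fun ψ => ψ m) hf
  refine ⟨f, ⟨hfgr, fun x hx => ?_⟩, hf'⟩
  have : x ∈ LinearMap.ker (E.d 0) := hx
  rw [E.exact_zero] at this
  obtain ⟨m, rfl⟩ := this
  rw [hf', res_d_ε]

theorem exists_lift_succ (n : ℕ) (f : (E.X n).carrier →ₗ[R] (F.X n).carrier) (hf : LiftP E F n f) :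
    ∃ f' : (E.X (n + 1)).carrier →ₗ[R] (F.X (n + 1)).carrier,
      LiftP E F (n + 1) f' ∧ ∀ x, F.d n (f x) = f' (E.d n x) := by
  obtain ⟨f', hgr, hf'⟩ := starInj_extend_of_ker_le 𝒜 (F.X (n + 1)).gr (F.starInj (n + 1))
    (E.X n).gr (E.X (n + 1)).gr (E.d n) (E.d_grHom n) ((F.d n) ∘ₗ f)
    (fun g m hm => F.d_grHom n g _ (hf.1 g m hm))
    (fun x hx => by
      rw [LinearMap.mem_ker] at hx ⊢
      exact hf.2 x hx)
  have hf'' : ∀ x, f' (E.d n x) = F.d n (f x) := fun x => congrArg (fun ψ => ψ x) hf'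
  refine ⟨f', ⟨hgr, fun x hx => ?_⟩, fun x => (hf'' x).symm⟩
  have : x ∈ LinearMap.ker (E.d (n + 1)) := hx
  rw [E.exact_succ] at this
  obtain ⟨y, rfl⟩ := this
  rw [hf'', res_d_comp]

variable (φ : M →ₗ[R] N) (hφ : GrLC.IsGrHom ℳ 𝒩 φ)

/-- the inductively constructed lift -/
noncomputable def liftSeq :
    ∀ n : ℕ, {f : (E.X n).carrier →ₗ[R] (F.X n).carrier // LiftP E F n f}
  | 0 => ⟨Classical.choose (exists_lift_zero E F φ hφ),
      (Classical.choose_spec (exists_lift_zero E F φ hφ)).1⟩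
  | n + 1 => ⟨Classical.choose (exists_lift_succ E F n (liftSeq n).1 (liftSeq n).2),
      (Classical.choose_spec (exists_lift_succ E F n (liftSeq n).1 (liftSeq n).2)).1⟩

/-- the comparison chain map lifting `φ` -/
noncomputable def liftCh : ChMap E F where
  f := fun n => (liftSeq E F φ hφ n).1
  comm := fun n x =>
    (Classical.choose_spec (exists_lift_succ E F n (liftSeq E F φ hφ n).1 (liftSeq E F φ hφ n).2)).2 x

theorem liftCh_isGr : (liftCh E F φ hφ).IsGr := fun n => (liftSeq E F φ hφ n).2.1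

theorem liftCh_lifts : (liftCh E F φ hφ).Lifts φ :=
  (Classical.choose_spec (exists_lift_zero E F φ hφ)).2

end Lift

section Htp

variable {E : GrLC.StarInjRes 𝒜 ℳ} {F : GrLC.StarInjRes 𝒜 𝒩}
variable (c c' : ChMap E F)

/-- invariant of the inductive construction of a homotopy -/
def HtpP (n : ℕ) (s : (E.X (n + 1)).carrier →ₗ[R] (F.X n).carrier) : Prop :=
  GrLC.IsGrHom (E.X (n + 1)).gr (F.X n).gr s ∧
    ∀ y : (E.X n).carrier, F.d n (s (E.d n y)) = F.d n (c.f n y - c'.f n y)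

theorem exists_htp_zero (hc : c.IsGr) (hc' : c'.IsGr) (φ : M →ₗ[R] N) (h : c.Lifts φ)
    (h' : c'.Lifts φ) :
    ∃ s : (E.X 1).carrier →ₗ[R] (F.X 0).carrier, HtpP c c' 0 s ∧
      ∀ x, c.f 0 x - c'.f 0 x = s (E.d 0 x) := by
  obtain ⟨s, hgr, hs⟩ := starInj_extend_of_ker_le 𝒜 (F.X 0).gr (F.starInj 0)
    (E.X 0).gr (E.X 1).gr (E.d 0) (E.d_grHom 0) (c.f 0 - c'.f 0)
    (fun g m hm => sub_mem (hc 0 g m hm) (hc' 0 g m hm))
    (fun x hx => by
      rw [E.exact_zero] at hx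
      obtain ⟨m, rfl⟩ := hx
      rw [LinearMap.mem_ker, LinearMap.sub_apply, h m, h' m, sub_self])
  have hs' : ∀ x, s (E.d 0 x) = c.f 0 x - c'.f 0 x := fun x => congrArg (fun ψ => ψ x) hs
  exact ⟨s, ⟨hgr, fun y => by rw [hs']⟩, fun x => (hs' x).symm⟩

theorem exists_htp_succ (hc : c.IsGr) (hc' : c'.IsGr) (n : ℕ)
    (s : (E.X (n + 1)).carrier →ₗ[R] (F.X n).carrier) (hs : HtpP c c' n s) :
    ∃ s' : (E.X (n + 2)).carrier →ₗ[R] (F.X (n + 1)).carrier, HtpP c c' (n + 1) s' ∧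
      ∀ x, c.f (n + 1) x - c'.f (n + 1) x = F.d n (s x) + s' (E.d (n + 1) x) := by
  obtain ⟨s', hgr, hs'⟩ := starInj_extend_of_ker_le 𝒜 (F.X (n + 1)).gr (F.starInj (n + 1))
    (E.X (n + 1)).gr (E.X (n + 2)).gr (E.d (n + 1)) (E.d_grHom (n + 1))
    (c.f (n + 1) - c'.f (n + 1) - (F.d n) ∘ₗ s)
    (fun g m hm => sub_mem (sub_mem (hc (n + 1) g m hm) (hc' (n + 1) g m hm))
      (F.d_grHom n g _ (hs.1 g m hm)))
    (fun x hx => by
      rw [E.exact_succ] at hx
      obtain ⟨y, rfl⟩ := hx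
      rw [LinearMap.mem_ker, LinearMap.sub_apply, LinearMap.sub_apply, LinearMap.comp_apply,
        hs.2 y, ← c.comm, ← c'.comm, map_sub, sub_self])
  have hs'' : ∀ x, s' (E.d (n + 1) x) = c.f (n + 1) x - c'.f (n + 1) x - F.d n (s x) :=
    fun x => congrArg (fun ψ => ψ x) hs'
  refine ⟨s', ⟨hgr, fun y => ?_⟩, fun x => ?_⟩
  · rw [hs'', map_sub (F.d (n + 1)) _ (F.d n (s y)), res_d_comp, sub_zero]
  · rw [hs'']; abel

variable (hc : c.IsGr) (hc' : c'.IsGr) (φ : M →ₗ[R] N) (h : c.Lifts φ) (h' : c'.Lifts φ)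

/-- the inductively constructed homotopy -/
noncomputable def htpSeq :
    ∀ n : ℕ, {s : (E.X (n + 1)).carrier →ₗ[R] (F.X n).carrier // HtpP c c' n s}
  | 0 => ⟨Classical.choose (exists_htp_zero c c' hc hc' φ h h'),
      (Classical.choose_spec (exists_htp_zero c c' hc hc' φ h h')).1⟩
  | n + 1 => ⟨Classical.choose (exists_htp_succ c c' hc hc' n (htpSeq n).1 (htpSeq n).2),
      (Classical.choose_spec (exists_htp_succ c c' hc hc' n (htpSeq n).1 (htpSeq n).2)).1⟩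

/-- two homogeneous lifts of the same map are homotopic -/
noncomputable def liftHomotopy : ChMap.Homotopy c c' where
  s := fun n => (htpSeq c c' hc hc' φ h h' n).1
  zero := (Classical.choose_spec (exists_htp_zero c c' hc hc' φ h h')).2
  succ := fun n =>
    (Classical.choose_spec (exists_htp_succ c c' hc hc' n (htpSeq c c' hc hc' φ h h' n).1
      (htpSeq c c' hc hc' φ h h' n).2)).2

include hc hc' h h' in
/-- two homogeneous lifts of the same map induce the same map on cohomology -/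
theorem Hmap_eq_of_lifts (a : HomogeneousIdeal 𝒜) (i : ℕ) (x : E.H a i) :
    c.Hmap a i x = c'.Hmap a i x :=
  ChMap.Hmap_eq_of_homotopy (liftHomotopy c c' hc hc' φ h h') a i x

end Htp

section Equiv

variable {L : Type u} [AddCommGroup L] [Module R L] {𝓛 : ι → AddSubgroup L}
  [DirectSum.Decomposition 𝓛] [SetLike.GradedSMul 𝒜 𝓛]

/-- a homogeneous isomorphism induces an isomorphism on graded local cohomology -/
theorem Hmap_bijective_of_equiv (E : GrLC.StarInjRes 𝒜 ℳ) (F : GrLC.StarInjRes 𝒜 𝒩)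
    (e : M ≃ₗ[R] N) (he : GrLC.IsGrHom ℳ 𝒩 e.toLinearMap)
    (c : ChMap E F) (hc : c.IsGr) (hl : c.Lifts e.toLinearMap) (a : HomogeneousIdeal 𝒜) (i : ℕ) :
    Function.Bijective (c.Hmap a i) := by
  have he' : GrLC.IsGrHom 𝒩 ℳ e.symm.toLinearMap := symm_isGrHom 𝒩 ℳ e he
  let c' := liftCh F E e.symm.toLinearMap he'
  have hc' : c'.IsGr := liftCh_isGr F E _ he'
  have hl' : c'.Lifts e.symm.toLinearMap := liftCh_lifts F E _ he'
  have h1 : ∀ x, c'.Hmap a i (c.Hmap a i x) = x := by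
    intro x
    rw [← ChMap.Hmap_comp, ← ChMap.Hmap_id a i x]
    have hlid : (c'.comp c).Lifts (LinearMap.id : M →ₗ[R] M) := by
      have := ChMap.comp_lifts hl' hl
      have hid : e.symm.toLinearMap ∘ₗ e.toLinearMap = LinearMap.id := by
        ext m; simp
      rwa [hid] at this
    rw [ChMap.Hmap_id]
    rw [Hmap_eq_of_lifts (c'.comp c) (ChMap.id E) (ChMap.comp_isGr hc' hc) (ChMap.id_isGr E)
      LinearMap.id hlid (ChMap.id_lifts E) a i x, ChMap.Hmap_id]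
  have h2 : ∀ y, c.Hmap a i (c'.Hmap a i y) = y := by
    intro y
    rw [← ChMap.Hmap_comp]
    have hlid : (c.comp c').Lifts (LinearMap.id : N →ₗ[R] N) := by
      have := ChMap.comp_lifts hl hl'
      have hid : e.toLinearMap ∘ₗ e.symm.toLinearMap = LinearMap.id := by
        ext m; simp
      rwa [hid] at this
    rw [Hmap_eq_of_lifts (c.comp c') (ChMap.id F) (ChMap.comp_isGr hc hc') (ChMap.id_isGr F)
      LinearMap.id hlid (ChMap.id_lifts F) a i y, ChMap.Hmap_id]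
  exact ⟨Function.LeftInverse.injective h1, Function.RightInverse.surjective h2⟩

end Equiv

end Groth.Agent.Helper20.GrInj
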