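import Mathlib
import Groth.Agent.Lib.Helper20.GrCx2

open DirectSum

namespace Groth.Agent.Helper20.GrInj

universe u

variable {ι : Type} [AddCommGroup ι] [DecidableEq ι]
variable {R : Type u} [CommRing R]
variable {σ : Type u} [SetLike σ R] [AddSubgroupClass σ R] {𝒜 : ι → σ} [GradedRing 𝒜]
variable {M : Type u} [AddCommGroup M] [Module R M] {ℳ : ι → AddSubgroup M}
  [DirectSum.Decomposition ℳ] [SetLike.GradedSMul 𝒜 ℳ]

noncomputable instance shiftGr_decomposition (g : ι) : DirectSum.Decomposition (shiftGr ℳ g) :=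
  (shiftGr_isInternal ℳ g).chooseDecomposition

instance shiftGr_gradedSMul_inst (g : ι) : SetLike.GradedSMul 𝒜 (shiftGr ℳ g) :=
  shiftGr_gradedSMul 𝒜 ℳ g

/-- the shifted resolution: a *injective resolution of `M(g)` -/
noncomputable def resShift (E : GrLC.StarInjRes 𝒜 ℳ) (g : ι) : GrLC.StarInjRes 𝒜 (shiftGr ℳ g) where
  X := fun n => shiftGMod 𝒜 (E.X n) g
  d := fun n => E.d n
  ε := E.ε
  d_grHom := fun n j x hx => E.d_grHom n (j + g) x hx
  ε_grHom := fun j m hm => E.ε_grHom (j + g) m hm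
  ε_injective := E.ε_injective
  exact_zero := E.exact_zero
  exact_succ := E.exact_succ
  starInj := fun n => by
    letI : DirectSum.Decomposition (shiftGr (E.X n).gr g) := (shiftGMod 𝒜 (E.X n) g).dec
    letI : SetLike.GradedSMul 𝒜 (shiftGr (E.X n).gr g) := (shiftGMod 𝒜 (E.X n) g).gsmul
    exact shift_isStarInj 𝒜 (E.X n).gr (E.starInj n) g

theorem resShift_H (E : GrLC.StarInjRes 𝒜 ℳ) (g : ι) (a : HomogeneousIdeal 𝒜) (i : ℕ) :
    (resShift E g).H a i = E.H a i := rfl

theorem mem_resShift_Hcomp (E : GrLC.StarInjRes 𝒜 ℳ) (g : ι) (a : HomogeneousIdeal 𝒜) (i : ℕ)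
    (j : ι) (x : E.H a i) :
    (x : (resShift E g).H a i) ∈ (resShift E g).Hcomp a i j ↔ x ∈ E.Hcomp a i (j + g) := Iff.rfl

/-- multiplication by a homogeneous element as a homogeneous map out of the shift -/
theorem lsmul_isGrHom_shift {g : ι} {r : R} (hr : r ∈ 𝒜 g) :
    GrLC.IsGrHom (shiftGr ℳ (-g)) ℳ (LinearMap.lsmul R M r) := by
  intro j x hx
  have := SetLike.GradedSMul.smul_mem (A := 𝒜) (B := ℳ) hr hx
  rw [vadd_eq_add, add_comm, neg_add_cancel_right] at this
  exact this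

/-- multiplication by a homogeneous element as a chain map out of the shifted resolution -/
noncomputable def smulCh (E : GrLC.StarInjRes 𝒜 ℳ) {g : ι} (r : R) :
    ChMap (resShift E (-g)) E where
  f := fun n => LinearMap.lsmul R (E.X n).carrier r
  comm := fun n x => (map_smul (E.d n) r x)

theorem smulCh_isGr (E : GrLC.StarInjRes 𝒜 ℳ) {g : ι} {r : R} (hr : r ∈ 𝒜 g) :
    (smulCh E (g := g) r).IsGr := by
  intro n
  have := lsmul_isGrHom_shift (ℳ := (E.X n).gr) hr
  exact this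

theorem smulCh_lifts (E : GrLC.StarInjRes 𝒜 ℳ) {g : ι} (r : R) :
    (smulCh E (g := g) r).Lifts (LinearMap.lsmul R M r) := by
  intro m
  exact (map_smul E.ε r m).symm

theorem smulCh_Hmap (E : GrLC.StarInjRes 𝒜 ℳ) {g : ι} (r : R) (a : HomogeneousIdeal 𝒜) (i : ℕ)
    (x : E.H a i) : (smulCh E (g := g) r).Hmap a i x = r • x := by
  obtain ⟨z, rfl⟩ := ChMap.toH_surjective E a i x
  rw [← map_smul]
  rfl

end Groth.Agent.Helper20.GrInj
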