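import Mathlib
import Groth.Agent.Lib.Helper20.GrCx3

open DirectSum

namespace Groth.Agent.Helper20.GrInj

universe u

variable {ι : Type} [AddCommGroup ι] [DecidableEq ι]
variable {R : Type u} [CommRing R]
variable {σ : Type u} [SetLike σ R] [AddSubgroupClass σ R] (𝒜 : ι → σ) [GradedRing 𝒜]

section Prod

variable {X : Type u} [AddCommGroup X] [Module R X] (𝒳 : ι → AddSubgroup X)
variable {Y : Type u} [AddCommGroup Y] [Module R Y] (𝒴 : ι → AddSubgroup Y)

/-- the pieces of a product of two graded modules -/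
def prodGr : ι → AddSubgroup (X × Y) := fun g => (𝒳 g).prod (𝒴 g)

omit [AddCommGroup ι] [DecidableEq ι] [Module R X] [Module R Y] in
theorem mem_prodGr {g : ι} {p : X × Y} : p ∈ prodGr 𝒳 𝒴 g ↔ p.1 ∈ 𝒳 g ∧ p.2 ∈ 𝒴 g :=
  AddSubgroup.mem_prod

omit [AddCommGroup ι] [Module R X] [Module R Y] in
theorem prodGr_isInternal [DirectSum.Decomposition 𝒳] [DirectSum.Decomposition 𝒴] :
    DirectSum.IsInternal (prodGr 𝒳 𝒴) := by
  classical
  apply isInternal_of
  · rintro ⟨x, y⟩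
    refine ⟨(decompose 𝒳 x).support ∪ (decompose 𝒴 y).support,
      fun i => ((decompose 𝒳 x i : X), (decompose 𝒴 y i : Y)),
      fun i => ⟨(decompose 𝒳 x i).2, (decompose 𝒴 y i).2⟩, ?_⟩
    apply Prod.ext
    · rw [Prod.fst_sum]
      show x = ∑ i ∈ _, (decompose 𝒳 x i : X)
      conv_lhs => rw [← sum_support_decompose 𝒳 x]
      apply Finset.sum_subset Finset.subset_union_left
      intro i _ hi
      rw [DFinsupp.notMem_support_iff] at hi
      rw [hi]; rfl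
    · rw [Prod.snd_sum]
      show y = ∑ i ∈ _, (decompose 𝒴 y i : Y)
      conv_lhs => rw [← sum_support_decompose 𝒴 y]
      apply Finset.sum_subset Finset.subset_union_right
      intro i _ hi
      rw [DFinsupp.notMem_support_iff] at hi
      rw [hi]; rfl
  · intro s c hc hsum i hi
    have h1 : ∑ j ∈ s, (c j).1 = 0 := by
      have := congrArg Prod.fst hsum
      rwa [Prod.fst_sum] at this
    have h2 : ∑ j ∈ s, (c j).2 = 0 := by
      have := congrArg Prod.snd hsum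
      rwa [Prod.snd_sum] at this
    have e1 := decompose_sum_homog 𝒳 s (fun j => (c j).1) (fun j => (hc j).1) i
    have e2 := decompose_sum_homog 𝒴 s (fun j => (c j).2) (fun j => (hc j).2) i
    rw [h1, if_pos hi, decompose_zero, DirectSum.zero_apply, ZeroMemClass.coe_zero] at e1
    rw [h2, if_pos hi, decompose_zero, DirectSum.zero_apply, ZeroMemClass.coe_zero] at e2
    exact Prod.ext e1.symm e2.symm

omit [AddCommGroup ι] [DecidableEq ι] [GradedRing 𝒜] [AddSubgroupClass σ R] in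
theorem prodGr_gradedSMul [AddCommGroup ι] [SetLike.GradedSMul 𝒜 𝒳] [SetLike.GradedSMul 𝒜 𝒴] :
    SetLike.GradedSMul 𝒜 (prodGr 𝒳 𝒴) :=
  ⟨fun {_ _} {_} {_} hr hp =>
    ⟨SetLike.GradedSMul.smul_mem (A := 𝒜) (B := 𝒳) hr hp.1,
      SetLike.GradedSMul.smul_mem (A := 𝒜) (B := 𝒴) hr hp.2⟩⟩

noncomputable instance prodGr_decomposition [DirectSum.Decomposition 𝒳] [DirectSum.Decomposition 𝒴] :
    DirectSum.Decomposition (prodGr 𝒳 𝒴) := (prodGr_isInternal 𝒳 𝒴).chooseDecomposition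

instance prodGr_gradedSMul_inst [SetLike.GradedSMul 𝒜 𝒳] [SetLike.GradedSMul 𝒜 𝒴] :
    SetLike.GradedSMul 𝒜 (prodGr 𝒳 𝒴) := prodGr_gradedSMul 𝒜 𝒳 𝒴

variable [DirectSum.Decomposition 𝒳] [DirectSum.Decomposition 𝒴]
  [SetLike.GradedSMul 𝒜 𝒳] [SetLike.GradedSMul 𝒜 𝒴]

/-- a product of two *injective graded modules is *injective -/
theorem prod_isStarInj (hX : GrLC.IsStarInj 𝒜 𝒳) (hY : GrLC.IsStarInj 𝒜 𝒴) :
    GrLC.IsStarInj 𝒜 (prodGr 𝒳 𝒴) := by
  intro A B f hf hinj γ hγ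
  obtain ⟨h1, hh1, he1⟩ := hX A B f hf hinj ((LinearMap.fst R X Y) ∘ₗ γ)
    (fun g a ha => (hγ g a ha).1)
  obtain ⟨h2, hh2, he2⟩ := hY A B f hf hinj ((LinearMap.snd R X Y) ∘ₗ γ)
    (fun g a ha => (hγ g a ha).2)
  refine ⟨h1.prod h2, fun g b hb => ⟨hh1 g b hb, hh2 g b hb⟩, ?_⟩
  ext a
  · exact congrArg (fun φ => φ a) he1
  · exact congrArg (fun φ => φ a) he2

end Prod

/-- the product of two bundled graded modules -/
noncomputable def prodGMod (X Y : GrLC.GMod.{u} 𝒜) : GrLC.GMod.{u} 𝒜 :=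
  GrLC.GMod.of 𝒜 (X.carrier × Y.carrier) (prodGr X.gr Y.gr)

theorem prodGMod_isStarInj (X Y : GrLC.GMod.{u} 𝒜) (hX : GrLC.IsStarInj 𝒜 X.gr)
    (hY : GrLC.IsStarInj 𝒜 Y.gr) : GrLC.IsStarInj 𝒜 (prodGMod 𝒜 X Y).gr :=
  prod_isStarInj 𝒜 X.gr Y.gr hX hY

section Zero

/-- the zero family on the one-point module -/
def zeroGr (ι : Type) : ι → AddSubgroup PUnit.{u + 1} := fun _ => ⊥

noncomputable instance zeroGr_decomposition : DirectSum.Decomposition (zeroGr.{u} ι) :=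
  (isInternal_of (zeroGr.{u} ι)
    (fun _ => ⟨∅, fun _ => 0, fun _ => zero_mem _, Subsingleton.elim _ _⟩)
    (fun _ _ _ _ _ _ => Subsingleton.elim _ _)).chooseDecomposition

instance zeroGr_gradedSMul : SetLike.GradedSMul 𝒜 (zeroGr.{u} ι) :=
  ⟨fun {_ _} {_} {_} _ _ => Subsingleton.elim _ _⟩

/-- the zero graded module -/
noncomputable def zeroGMod : GrLC.GMod.{u} 𝒜 := GrLC.GMod.of 𝒜 PUnit.{u + 1} (zeroGr.{u} ι)

theorem zeroGMod_isStarInj : GrLC.IsStarInj 𝒜 (zeroGMod 𝒜).gr := by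
  intro A B f _ _ γ _
  refine ⟨0, fun g b _ => ?_, LinearMap.ext fun a => Subsingleton.elim (α := PUnit.{u + 1}) _ _⟩
  rw [LinearMap.zero_apply]
  exact zero_mem _

end Zero

end Groth.Agent.Helper20.GrInj
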