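import Mathlib
import Groth.Agent.Lib.Helper20.GrCx4

open DirectSum

namespace Groth.Agent.Helper20.GrInj

universe u

variable {ι : Type} [AddCommGroup ι] [DecidableEq ι]
variable {R : Type u} [CommRing R]
variable {σ : Type u} [SetLike σ R] [AddSubgroupClass σ R] {𝒜 : ι → σ} [GradedRing 𝒜]
variable {M' : Type u} [AddCommGroup M'] [Module R M'] {ℳ' : ι → AddSubgroup M'}
  [DirectSum.Decomposition ℳ'] [SetLike.GradedSMul 𝒜 ℳ']
variable {M : Type u} [AddCommGroup M] [Module R M] {ℳ : ι → AddSubgroup M}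
  [DirectSum.Decomposition ℳ] [SetLike.GradedSMul 𝒜 ℳ]
variable {M'' : Type u} [AddCommGroup M''] [Module R M''] {ℳ'' : ι → AddSubgroup M''}
  [DirectSum.Decomposition ℳ''] [SetLike.GradedSMul 𝒜 ℳ'']

section Cone

variable (E : GrLC.StarInjRes 𝒜 ℳ) (E'' : GrLC.StarInjRes 𝒜 ℳ'') (b : ChMap E E'')

/-- the zeroth differential of the cone -/
noncomputable def coneDzero : (E.X 0).carrier →ₗ[R] (E.X 1).carrier × (E''.X 0).carrier :=
  (E.d 0).prod (b.f 0)

/-- the higher differentials of the cone -/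
noncomputable def coneDsucc (n : ℕ) :
    (E.X (n + 1)).carrier × (E''.X n).carrier →ₗ[R]
      (E.X (n + 2)).carrier × (E''.X (n + 1)).carrier :=
  ((E.d (n + 1)) ∘ₗ (LinearMap.fst R _ _)).prod
    ((b.f (n + 1)) ∘ₗ (LinearMap.fst R _ _) - (E''.d n) ∘ₗ (LinearMap.snd R _ _))

theorem coneDzero_apply (x : (E.X 0).carrier) : coneDzero E E'' b x = (E.d 0 x, b.f 0 x) := rfl

theorem coneDsucc_apply (n : ℕ) (p : (E.X (n + 1)).carrier × (E''.X n).carrier) :
    coneDsucc E E'' b n p = (E.d (n + 1) p.1, b.f (n + 1) p.1 - E''.d n p.2) := rfl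

variable (α : M' →ₗ[R] M) (β : M →ₗ[R] M'')

theorem coneDzero_ker (hex : LinearMap.range α = LinearMap.ker β) (hb : b.Lifts β) :
    LinearMap.ker (coneDzero E E'' b) = LinearMap.range (E.ε ∘ₗ α) := by
  ext x
  constructor
  · intro hx
    rw [LinearMap.mem_ker, coneDzero_apply, Prod.mk_eq_zero] at hx
    have h1 : x ∈ LinearMap.ker (E.d 0) := hx.1
    rw [E.exact_zero] at h1
    obtain ⟨m, rfl⟩ := h1
    have h2 := hx.2
    rw [hb m] at h2
    have h3 : β m = 0 := E''.ε_injective (by rw [h2, map_zero])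
    have h4 : m ∈ LinearMap.range α := by rw [hex]; exact h3
    obtain ⟨m', rfl⟩ := h4
    exact ⟨m', rfl⟩
  · rintro ⟨m', rfl⟩
    rw [LinearMap.mem_ker, coneDzero_apply, Prod.mk_eq_zero, LinearMap.comp_apply]
    refine ⟨res_d_ε E _, ?_⟩
    rw [hb]
    have : α m' ∈ LinearMap.ker β := by rw [← hex]; exact ⟨m', rfl⟩
    rw [LinearMap.mem_ker] at this
    rw [this, map_zero]

theorem coneDsucc_ker_zero (hβ : Function.Surjective β) (hb : b.Lifts β) :
    LinearMap.ker (coneDsucc E E'' b 0) = LinearMap.range (coneDzero E E'' b) := by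
  ext p
  constructor
  · intro hp
    obtain ⟨x, y⟩ := p
    rw [LinearMap.mem_ker, coneDsucc_apply, Prod.mk_eq_zero] at hp
    have h1 : x ∈ LinearMap.ker (E.d 1) := hp.1
    rw [E.exact_succ] at h1
    obtain ⟨x₀, rfl⟩ := h1
    have h2 : E''.d 0 (b.f 0 x₀ - y) = 0 := by
      rw [map_sub, b.comm 0 x₀]
      exact hp.2
    have h3 : b.f 0 x₀ - y ∈ LinearMap.ker (E''.d 0) := h2
    rw [E''.exact_zero] at h3
    obtain ⟨m'', hm''⟩ := h3
    obtain ⟨m, rfl⟩ := hβ m''
    refine ⟨x₀ - E.ε m, ?_⟩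
    rw [coneDzero_apply, map_sub, res_d_ε, sub_zero, map_sub, hb m, hm'']
    congr 1
    abel
  · rintro ⟨x₀, rfl⟩
    rw [LinearMap.mem_ker, coneDzero_apply, coneDsucc_apply, Prod.mk_eq_zero]
    refine ⟨res_d_comp E 0 x₀, ?_⟩
    show b.f 1 (E.d 0 x₀) - E''.d 0 (b.f 0 x₀) = 0
    rw [b.comm 0 x₀, sub_self]

theorem coneDsucc_ker_succ (n : ℕ) :
    LinearMap.ker (coneDsucc E E'' b (n + 1)) = LinearMap.range (coneDsucc E E'' b n) := by
  ext p
  constructor
  · intro hp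
    obtain ⟨x, y⟩ := p
    rw [LinearMap.mem_ker, coneDsucc_apply, Prod.mk_eq_zero] at hp
    have h1 : x ∈ LinearMap.ker (E.d (n + 2)) := hp.1
    rw [E.exact_succ] at h1
    obtain ⟨x₀, rfl⟩ := h1
    have h2 : E''.d (n + 1) (b.f (n + 1) x₀ - y) = 0 := by
      rw [map_sub, b.comm (n + 1) x₀]
      exact hp.2
    have h3 : b.f (n + 1) x₀ - y ∈ LinearMap.ker (E''.d (n + 1)) := h2
    rw [E''.exact_succ] at h3
    obtain ⟨y₀, hy₀⟩ := h3
    refine ⟨(x₀, y₀), ?_⟩
    rw [coneDsucc_apply, hy₀]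
    congr 1
    abel
  · rintro ⟨⟨x₀, y₀⟩, rfl⟩
    rw [LinearMap.mem_ker, coneDsucc_apply, coneDsucc_apply, Prod.mk_eq_zero]
    refine ⟨res_d_comp E (n + 1) x₀, ?_⟩
    show b.f (n + 2) (E.d (n + 1) x₀) - E''.d (n + 1) (b.f (n + 1) x₀ - E''.d n y₀) = 0
    rw [map_sub, res_d_comp, sub_zero, b.comm (n + 1) x₀, sub_self]

/-- the terms of the cone -/
noncomputable def coneX : ℕ → GrLC.GMod.{u} 𝒜
  | 0 => E.X 0
  | (n + 1) => prodGMod 𝒜 (E.X (n + 1)) (E''.X n)

/-- the differentials of the cone -/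
noncomputable def coneD : ∀ n : ℕ, (coneX E E'' n).carrier →ₗ[R] (coneX E E'' (n + 1)).carrier
  | 0 => coneDzero E E'' b
  | (n + 1) => coneDsucc E E'' b n

/-- the cone of a lift of a surjection is a *injective resolution of the kernel -/
noncomputable def coneRes (hαgr : GrLC.IsGrHom ℳ' ℳ α) (hα : Function.Injective α)
    (hex : LinearMap.range α = LinearMap.ker β) (hβ : Function.Surjective β)
    (hbgr : b.IsGr) (hb : b.Lifts β) : GrLC.StarInjRes 𝒜 ℳ' where
  X := coneX E E''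
  d := coneD E E'' b
  ε := E.ε ∘ₗ α
  d_grHom := by
    intro n
    cases n with
    | zero =>
      intro g x hx
      exact (mem_prodGr (E.X 1).gr (E''.X 0).gr).2 ⟨E.d_grHom 0 g x hx, hbgr 0 g x hx⟩
    | succ n =>
      intro g p hp
      have hp' := (mem_prodGr (E.X (n + 1)).gr (E''.X n).gr).1 hp
      exact (mem_prodGr (E.X (n + 2)).gr (E''.X (n + 1)).gr).2 ⟨E.d_grHom (n + 1) g _ hp'.1,
        sub_mem (hbgr (n + 1) g _ hp'.1) (E''.d_grHom n g _ hp'.2)⟩
  ε_grHom := fun g m hm => E.ε_grHom g _ (hαgr g m hm)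
  ε_injective := E.ε_injective.comp hα
  exact_zero := coneDzero_ker E E'' b α β hex hb
  exact_succ := by
    intro n
    cases n with
    | zero => exact coneDsucc_ker_zero E E'' b β hβ hb
    | succ n => exact coneDsucc_ker_succ E E'' b n
  starInj := by
    intro n
    cases n with
    | zero => exact E.starInj 0
    | succ n => exact prodGMod_isStarInj 𝒜 _ _ (E.starInj (n + 1)) (E''.starInj n)

end Cone

end Groth.Agent.Helper20.GrInj
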