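import Mathlib
import Groth.Agent.Lib.Helper20.GrCx5

open DirectSum

namespace Groth.Agent.Helper20.GrInj

universe u

section GamProd

variable {R : Type u} [CommRing R]

theorem mem_gam_prod (a : Ideal R) {X Y : Type u} [AddCommGroup X] [Module R X] [AddCommGroup Y]
    [Module R Y] {p : X × Y} : p ∈ GrLC.gam a (X × Y) ↔ p.1 ∈ GrLC.gam a X ∧ p.2 ∈ GrLC.gam a Y := by
  constructor
  · rintro ⟨k, hk⟩
    exact ⟨⟨k, fun r hr => congrArg Prod.fst (hk r hr)⟩, ⟨k, fun r hr => congrArg Prod.snd (hk r hr)⟩⟩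
  · rintro ⟨⟨k, hk⟩, ⟨l, hl⟩⟩
    refine ⟨k + l, fun r hr => ?_⟩
    have hrk : r ∈ a ^ k := Ideal.pow_le_pow_right (Nat.le_add_right k l) hr
    have hrl : r ∈ a ^ l := Ideal.pow_le_pow_right (Nat.le_add_left l k) hr
    exact Prod.ext (hk r hrk) (hl r hrl)

end GamProd

variable {ι : Type} [AddCommGroup ι] [DecidableEq ι]
variable {R : Type u} [CommRing R]
variable {σ : Type u} [SetLike σ R] [AddSubgroupClass σ R] {𝒜 : ι → σ} [GradedRing 𝒜]
variable {M' : Type u} [AddCommGroup M'] [Module R M'] {ℳ' : ι → AddSubgroup M'}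
  [DirectSum.Decomposition ℳ'] [SetLike.GradedSMul 𝒜 ℳ']
variable {M : Type u} [AddCommGroup M] [Module R M] {ℳ : ι → AddSubgroup M}
  [DirectSum.Decomposition ℳ] [SetLike.GradedSMul 𝒜 ℳ]
variable {M'' : Type u} [AddCommGroup M''] [Module R M''] {ℳ'' : ι → AddSubgroup M''}
  [DirectSum.Decomposition ℳ''] [SetLike.GradedSMul 𝒜 ℳ'']

section ConeLES

variable (E : GrLC.StarInjRes 𝒜 ℳ) (E'' : GrLC.StarInjRes 𝒜 ℳ'') (b : ChMap E E'')
variable (α : M' →ₗ[R] M) (β : M →ₗ[R] M'')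
variable (hαgr : GrLC.IsGrHom ℳ' ℳ α) (hα : Function.Injective α)
    (hex : LinearMap.range α = LinearMap.ker β) (hβ : Function.Surjective β)
    (hbgr : b.IsGr) (hb : b.Lifts β)
variable (a : HomogeneousIdeal 𝒜)

theorem cone_cocyc_zero (x : (E.X 0).carrier) :
    x ∈ (coneRes E E'' b α β hαgr hα hex hβ hbgr hb).cocyc a 0 ↔
      x ∈ GrLC.gam a.toIdeal (E.X 0).carrier ∧ E.d 0 x = 0 ∧ b.f 0 x = 0 := by
  constructor
  · rintro ⟨h1, h2⟩
    have h2' : coneDzero E E'' b x = 0 := h2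
    rw [coneDzero_apply, Prod.mk_eq_zero] at h2'
    exact ⟨h1, h2'⟩
  · rintro ⟨h1, h2, h3⟩
    refine ⟨h1, ?_⟩
    show coneDzero E E'' b x = 0
    rw [coneDzero_apply, h2, h3]
    rfl

theorem cone_cocyc_succ (n : ℕ) (p : (E.X (n + 1)).carrier × (E''.X n).carrier) :
    p ∈ (coneRes E E'' b α β hαgr hα hex hβ hbgr hb).cocyc a (n + 1) ↔
      p.1 ∈ GrLC.gam a.toIdeal (E.X (n + 1)).carrier ∧ p.2 ∈ GrLC.gam a.toIdeal (E''.X n).carrier ∧
        E.d (n + 1) p.1 = 0 ∧ b.f (n + 1) p.1 = E''.d n p.2 := by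
  constructor
  · rintro ⟨h1, h2⟩
    have h1' := (mem_gam_prod a.toIdeal).1 h1
    have h2' : coneDsucc E E'' b n p = 0 := h2
    rw [coneDsucc_apply, Prod.mk_eq_zero, sub_eq_zero] at h2'
    exact ⟨h1'.1, h1'.2, h2'.1, h2'.2⟩
  · rintro ⟨h1, h2, h3, h4⟩
    refine ⟨(mem_gam_prod a.toIdeal).2 ⟨h1, h2⟩, ?_⟩
    show coneDsucc E E'' b n p = 0
    rw [coneDsucc_apply, h3, h4, sub_self]
    rfl

theorem cone_cobdy_one (p : (E.X 1).carrier × (E''.X 0).carrier) :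
    p ∈ (coneRes E E'' b α β hαgr hα hex hβ hbgr hb).cobdy a 1 ↔
      ∃ x₀ ∈ GrLC.gam a.toIdeal (E.X 0).carrier, (E.d 0 x₀, b.f 0 x₀) = p := by
  constructor
  · rintro ⟨x₀, hx₀, rfl⟩
    exact ⟨x₀, hx₀, rfl⟩
  · rintro ⟨x₀, hx₀, rfl⟩
    exact ⟨x₀, hx₀, rfl⟩

theorem cone_cobdy_succ (n : ℕ) (p : (E.X (n + 2)).carrier × (E''.X (n + 1)).carrier) :
    p ∈ (coneRes E E'' b α β hαgr hα hex hβ hbgr hb).cobdy a (n + 2) ↔
      ∃ x₀ ∈ GrLC.gam a.toIdeal (E.X (n + 1)).carrier, ∃ y₀ ∈ GrLC.gam a.toIdeal (E''.X n).carrier,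
        (E.d (n + 1) x₀, b.f (n + 1) x₀ - E''.d n y₀) = p := by
  constructor
  · rintro ⟨q, hq, rfl⟩
    have hq' := (mem_gam_prod a.toIdeal).1 hq
    exact ⟨q.1, hq'.1, q.2, hq'.2, rfl⟩
  · rintro ⟨x₀, hx₀, y₀, hy₀, rfl⟩
    exact ⟨(x₀, y₀), (mem_gam_prod a.toIdeal).2 ⟨hx₀, hy₀⟩, rfl⟩

/-- the projection from the cone to `E` -/
noncomputable def conePi : ChMap (coneRes E E'' b α β hαgr hα hex hβ hbgr hb) E where
  f := fun n => match n with
    | 0 => LinearMap.id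
    | (n + 1) => LinearMap.fst R (E.X (n + 1)).carrier (E''.X n).carrier
  comm := fun n x => by
    cases n with
    | zero => rfl
    | succ n => rfl

theorem conePi_isGr : (conePi E E'' b α β hαgr hα hex hβ hbgr hb).IsGr := by
  intro n
  cases n with
  | zero => exact fun _ _ h => h
  | succ n => exact fun g p hp => ((mem_prodGr (E.X (n + 1)).gr (E''.X n).gr).1 hp).1

theorem conePi_lifts : (conePi E E'' b α β hαgr hα hex hβ hbgr hb).Lifts α := fun _ => rfl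


/-- the map on cocycles underlying the connecting map -/
noncomputable def coneDeltaCocyc (i : ℕ) :
    ↥(E''.cocyc a i) →ₗ[R] ↥((coneRes E E'' b α β hαgr hα hex hβ hbgr hb).cocyc a (i + 1)) :=
  LinearMap.codRestrict ((coneRes E E'' b α β hαgr hα hex hβ hbgr hb).cocyc a (i + 1))
    ((LinearMap.inr R (E.X (i + 1)).carrier (E''.X i).carrier) ∘ₗ (E''.cocyc a i).subtype)
    (fun y => (cone_cocyc_succ E E'' b α β hαgr hα hex hβ hbgr hb a i (0, (y : (E''.X i).carrier))).2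
      ⟨Submodule.zero_mem _, y.2.1, map_zero _, (map_zero _).trans (LinearMap.mem_ker.1 y.2.2).symm⟩)

theorem coneDeltaCocyc_coe (i : ℕ) (y : ↥(E''.cocyc a i)) :
    ((coneDeltaCocyc E E'' b α β hαgr hα hex hβ hbgr hb a i y).1 :
      (E.X (i + 1)).carrier × (E''.X i).carrier) = (0, (y : (E''.X i).carrier)) := rfl

/-- the connecting map of the cone -/
noncomputable def coneDelta (i : ℕ) :
    E''.H a i →ₗ[R] (coneRes E E'' b α β hαgr hα hex hβ hbgr hb).H a (i + 1) :=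
  Submodule.mapQ _ _ (coneDeltaCocyc E E'' b α β hαgr hα hex hβ hbgr hb a i) (by
    intro y hy
    rw [Submodule.mem_comap] at hy ⊢
    have hy' : (y : (E''.X i).carrier) ∈ E''.cobdy a i := hy
    show ((0 : (E.X (i + 1)).carrier), (y : (E''.X i).carrier)) ∈
      (coneRes E E'' b α β hαgr hα hex hβ hbgr hb).cobdy a (i + 1)
    cases i with
    | zero =>
      have h0 : (y : (E''.X 0).carrier) = 0 := hy'
      rw [cone_cobdy_one]
      refine ⟨0, Submodule.zero_mem _, ?_⟩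
      rw [map_zero, map_zero, h0]
    | succ n =>
      obtain ⟨y₀, hy₀, hy₀'⟩ := hy'
      rw [cone_cobdy_succ]
      refine ⟨0, Submodule.zero_mem _, -y₀, Submodule.neg_mem _ hy₀, ?_⟩
      rw [map_zero, map_zero, map_neg, zero_sub, neg_neg, hy₀'])

theorem coneDelta_toH (i : ℕ) (y : ↥(E''.cocyc a i)) :
    coneDelta E E'' b α β hαgr hα hex hβ hbgr hb a i (E''.toH a i y) =
      (coneRes E E'' b α β hαgr hα hex hβ hbgr hb).toH a (i + 1)
        (coneDeltaCocyc E E'' b α β hαgr hα hex hβ hbgr hb a i y) := rfl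

theorem coneDelta_isGr (i : ℕ) :
    GrLC.IsGrHom (E''.Hgr a i) ((coneRes E E'' b α β hαgr hα hex hβ hbgr hb).Hgr a (i + 1))
      (coneDelta E E'' b α β hαgr hα hex hβ hbgr hb a i) := by
  rintro g _ ⟨z, hz, rfl⟩
  refine ⟨coneDeltaCocyc E E'' b α β hαgr hα hex hβ hbgr hb a i z, ?_, rfl⟩
  exact (mem_prodGr (E.X (i + 1)).gr (E''.X i).gr).2 ⟨zero_mem _, hz⟩

end ConeLES

end Groth.Agent.Helper20.GrInj
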