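import Mathlib
import Groth.Agent.Lib.Helper20.GrCx6

open DirectSum

namespace Groth.Agent.Helper20.GrInj

universe u

variable {ι : Type} [AddCommGroup ι] [DecidableEq ι]
variable {R : Type u} [CommRing R]
variable {σ : Type u} [SetLike σ R] [AddSubgroupClass σ R] {𝒜 : ι → σ} [GradedRing 𝒜]
variable {M' : Type u} [AddCommGroup M'] [Module R M'] {ℳ' : ι → AddSubgroup M'}
  [DirectSum.Decomposition ℳ'] [SetLike.GradedSMul 𝒜 ℳ']
variable {M : Type u} [AddCommGroup M] [Module R M] {ℳ : ι → AddSubgroup M}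
  [DirectSum.Decomposition ℳ] [SetLike.GradedSMul 𝒜 ℳ]
variable {M'' : Type u} [AddCommGroup M''] [Module R M''] {ℳ'' : ι → AddSubgroup M''}
  [DirectSum.Decomposition ℳ''] [SetLike.GradedSMul 𝒜 ℳ'']

section ConeExact

variable (E : GrLC.StarInjRes 𝒜 ℳ) (E'' : GrLC.StarInjRes 𝒜 ℳ'') (b : ChMap E E'')
variable (α : M' →ₗ[R] M) (β : M →ₗ[R] M'')
variable (hαgr : GrLC.IsGrHom ℳ' ℳ α) (hα : Function.Injective α)
    (hex : LinearMap.range α = LinearMap.ker β) (hβ : Function.Surjective β)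
    (hbgr : b.IsGr) (hb : b.Lifts β)
variable (a : HomogeneousIdeal 𝒜)

/-- `H⁰` of the cone injects into `H⁰` of `E` -/
theorem conePi_Hmap_zero_injective :
    Function.Injective ((conePi E E'' b α β hαgr hα hex hβ hbgr hb).Hmap a 0) := by
  rw [injective_iff_map_eq_zero]
  intro x hx
  obtain ⟨z, rfl⟩ := ChMap.toH_surjective _ a 0 x
  rw [ChMap.Hmap_toH, ChMap.toH_eq_zero_iff] at hx
  rw [ChMap.toH_eq_zero_iff]
  have h1 : (z.1 : (E.X 0).carrier) = 0 := hx
  show (z.1 : (E.X 0).carrier) ∈ (⊥ : Submodule R (E.X 0).carrier)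
  rw [h1]
  exact Submodule.zero_mem _

/-- exactness at `H(E)` -/
theorem cone_exact_mid (i : ℕ) :
    LinearMap.range ((conePi E E'' b α β hαgr hα hex hβ hbgr hb).Hmap a i) =
      LinearMap.ker (b.Hmap a i) := by
  apply le_antisymm
  · rintro _ ⟨x, rfl⟩
    obtain ⟨z, rfl⟩ := ChMap.toH_surjective _ a i x
    rw [LinearMap.mem_ker, ChMap.Hmap_toH, ChMap.Hmap_toH, ChMap.toH_eq_zero_iff]
    cases i with
    | zero =>
      have hz := (cone_cocyc_zero E E'' b α β hαgr hα hex hβ hbgr hb a (z.1 : (E.X 0).carrier)).1 z.2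
      show b.f 0 (z.1 : (E.X 0).carrier) ∈ (⊥ : Submodule R (E''.X 0).carrier)
      rw [hz.2.2]
      exact Submodule.zero_mem _
    | succ n =>
      have hz := (cone_cocyc_succ E E'' b α β hαgr hα hex hβ hbgr hb a n
        (z.1 : (E.X (n + 1)).carrier × (E''.X n).carrier)).1 z.2
      show b.f (n + 1) (z.1 : (E.X (n + 1)).carrier × (E''.X n).carrier).1 ∈ E''.cobdy a (n + 1)
      rw [hz.2.2.2]
      exact ⟨_, hz.2.1, rfl⟩
  · intro x hx
    obtain ⟨z, rfl⟩ := ChMap.toH_surjective _ a i x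
    rw [LinearMap.mem_ker, ChMap.Hmap_toH, ChMap.toH_eq_zero_iff] at hx
    cases i with
    | zero =>
      have h0 : b.f 0 (z : (E.X 0).carrier) = 0 := hx
      have hz : (z : (E.X 0).carrier) ∈
          (coneRes E E'' b α β hαgr hα hex hβ hbgr hb).cocyc a 0 :=
        (cone_cocyc_zero E E'' b α β hαgr hα hex hβ hbgr hb a _).2
          ⟨z.2.1, LinearMap.mem_ker.1 z.2.2, h0⟩
      refine ⟨(coneRes E E'' b α β hαgr hα hex hβ hbgr hb).toH a 0 ⟨_, hz⟩, ?_⟩
      rw [ChMap.Hmap_toH]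
      congr 1
    | succ n =>
      obtain ⟨y, hy, hy'⟩ := hx
      have hy'' : E''.d n y = b.f (n + 1) (z : (E.X (n + 1)).carrier) := hy'
      have hz : (((z : (E.X (n + 1)).carrier), y) : (E.X (n + 1)).carrier × (E''.X n).carrier) ∈
          (coneRes E E'' b α β hαgr hα hex hβ hbgr hb).cocyc a (n + 1) :=
        (cone_cocyc_succ E E'' b α β hαgr hα hex hβ hbgr hb a n _).2
          ⟨z.2.1, hy, LinearMap.mem_ker.1 z.2.2, hy''.symm⟩
      refine ⟨(coneRes E E'' b α β hαgr hα hex hβ hbgr hb).toH a (n + 1) ⟨_, hz⟩, ?_⟩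
      rw [ChMap.Hmap_toH]
      congr 1

/-- exactness at `H(E'')` -/
theorem cone_exact_delta (i : ℕ) :
    LinearMap.range (b.Hmap a i) =
      LinearMap.ker (coneDelta E E'' b α β hαgr hα hex hβ hbgr hb a i) := by
  apply le_antisymm
  · rintro _ ⟨x, rfl⟩
    obtain ⟨z, rfl⟩ := ChMap.toH_surjective _ a i x
    rw [LinearMap.mem_ker, ChMap.Hmap_toH, coneDelta_toH, ChMap.toH_eq_zero_iff]
    show ((0 : (E.X (i + 1)).carrier), b.f i (z : (E.X i).carrier)) ∈
      (coneRes E E'' b α β hαgr hα hex hβ hbgr hb).cobdy a (i + 1)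
    have hz2 : E.d i (z : (E.X i).carrier) = 0 := LinearMap.mem_ker.1 z.2.2
    cases i with
    | zero =>
      rw [cone_cobdy_one]
      exact ⟨z, z.2.1, by rw [hz2]⟩
    | succ n =>
      rw [cone_cobdy_succ]
      refine ⟨z, z.2.1, 0, Submodule.zero_mem _, ?_⟩
      rw [hz2, map_zero, sub_zero]
  · intro x hx
    obtain ⟨y, rfl⟩ := ChMap.toH_surjective _ a i x
    rw [LinearMap.mem_ker, coneDelta_toH, ChMap.toH_eq_zero_iff] at hx
    have hx' : ((0 : (E.X (i + 1)).carrier), (y : (E''.X i).carrier)) ∈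
      (coneRes E E'' b α β hαgr hα hex hβ hbgr hb).cobdy a (i + 1) := hx
    cases i with
    | zero =>
      rw [cone_cobdy_one] at hx'
      obtain ⟨x₁, hx₁, hx₁'⟩ := hx'
      rw [Prod.mk.injEq] at hx₁'
      have hc : x₁ ∈ E.cocyc a 0 := ⟨hx₁, LinearMap.mem_ker.2 hx₁'.1⟩
      refine ⟨E.toH a 0 ⟨x₁, hc⟩, ?_⟩
      rw [ChMap.Hmap_toH]
      congr 1
      exact Subtype.ext hx₁'.2
    | succ n =>
      rw [cone_cobdy_succ] at hx'
      obtain ⟨x₁, hx₁, y₁, hy₁, h⟩ := hx'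
      rw [Prod.mk.injEq] at h
      have hc : x₁ ∈ E.cocyc a (n + 1) := ⟨hx₁, LinearMap.mem_ker.2 h.1⟩
      refine ⟨E.toH a (n + 1) ⟨x₁, hc⟩, ?_⟩
      rw [ChMap.Hmap_toH, ← sub_eq_zero, ← map_sub, ChMap.toH_eq_zero_iff]
      refine ⟨y₁, hy₁, ?_⟩
      show E''.d n y₁ = b.f (n + 1) x₁ - (y : (E''.X (n + 1)).carrier)
      rw [← h.2]
      abel

/-- exactness at `H(C)` -/
theorem cone_exact_pi (i : ℕ) :
    LinearMap.range (coneDelta E E'' b α β hαgr hα hex hβ hbgr hb a i) =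
      LinearMap.ker ((conePi E E'' b α β hαgr hα hex hβ hbgr hb).Hmap a (i + 1)) := by
  apply le_antisymm
  · rintro _ ⟨x, rfl⟩
    obtain ⟨y, rfl⟩ := ChMap.toH_surjective _ a i x
    rw [LinearMap.mem_ker, coneDelta_toH, ChMap.Hmap_toH, ChMap.toH_eq_zero_iff]
    show (0 : (E.X (i + 1)).carrier) ∈ E.cobdy a (i + 1)
    exact Submodule.zero_mem _
  · intro x hx
    obtain ⟨⟨w, hw⟩, rfl⟩ := ChMap.toH_surjective _ a (i + 1) x
    rw [LinearMap.mem_ker, ChMap.Hmap_toH, ChMap.toH_eq_zero_iff] at hx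
    let w' : (E.X (i + 1)).carrier × (E''.X i).carrier := w
    have hz := (cone_cocyc_succ E E'' b α β hαgr hα hex hβ hbgr hb a i w').1 hw
    obtain ⟨x₀, hx₀, hx₀'⟩ : ∃ x₀ ∈ GrLC.gam a.toIdeal (E.X i).carrier, E.d i x₀ = w'.1 := hx
    have hy' : w'.2 - b.f i x₀ ∈ E''.cocyc a i := by
      refine ⟨Submodule.sub_mem _ hz.2.1 (ChMap.map_gam b a.toIdeal i hx₀), ?_⟩
      show E''.d i (w'.2 - b.f i x₀) = 0
      rw [map_sub, b.comm i x₀, hx₀', hz.2.2.2, sub_self]
    refine ⟨E''.toH a i ⟨_, hy'⟩, ?_⟩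
    rw [coneDelta_toH, ← sub_eq_zero, ← map_sub, ChMap.toH_eq_zero_iff]
    have key : (((0 : (E.X (i + 1)).carrier), w'.2 - b.f i x₀) - w' :
        (E.X (i + 1)).carrier × (E''.X i).carrier) ∈
        (coneRes E E'' b α β hαgr hα hex hβ hbgr hb).cobdy a (i + 1) := by
      cases i with
      | zero =>
        rw [cone_cobdy_one]
        refine ⟨-x₀, Submodule.neg_mem _ hx₀, ?_⟩
        rw [map_neg, map_neg, hx₀']
        ext
        · simp
        · simp
      | succ n =>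
        rw [cone_cobdy_succ]
        refine ⟨-x₀, Submodule.neg_mem _ hx₀, 0, Submodule.zero_mem _, ?_⟩
        rw [map_neg, map_neg, hx₀', map_zero, sub_zero]
        ext
        · simp
        · simp
    exact key

end ConeExact

end Groth.Agent.Helper20.GrInj
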