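import Mathlib
import Groth.Agent.Lib.Helper20.GrCx7

open DirectSum

namespace Groth.Agent.Helper20.GrInj

universe u

variable {ι : Type} [AddCommGroup ι] [DecidableEq ι]
variable {R : Type u} [CommRing R]
variable {σ : Type u} [SetLike σ R] [AddSubgroupClass σ R] {𝒜 : ι → σ} [GradedRing 𝒜]
variable {M' : Type u} [AddCommGroup M'] [Module R M'] {ℳ' : ι → AddSubgroup M'}
  [DirectSum.Decomposition ℳ'] [SetLike.GradedSMul 𝒜 ℳ']
variable {M : Type u} [AddCommGroup M] [Module R M] {ℳ : ι → AddSubgroup M}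
  [DirectSum.Decomposition ℳ] [SetLike.GradedSMul 𝒜 ℳ]
variable {M'' : Type u} [AddCommGroup M''] [Module R M''] {ℳ'' : ι → AddSubgroup M''}
  [DirectSum.Decomposition ℳ''] [SetLike.GradedSMul 𝒜 ℳ'']

/-- two homogeneous lifts of the identity between two resolutions of the same module are mutually
inverse on cohomology -/
theorem Hmap_inverse_of_lifts_id {E₁ E₂ : GrLC.StarInjRes 𝒜 ℳ} (c : ChMap E₁ E₂) (c' : ChMap E₂ E₁)
    (hc : c.IsGr) (hc' : c'.IsGr) (hl : c.Lifts LinearMap.id) (hl' : c'.Lifts LinearMap.id)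
    (a : HomogeneousIdeal 𝒜) (i : ℕ) (x : E₁.H a i) : c'.Hmap a i (c.Hmap a i x) = x := by
  rw [← ChMap.Hmap_comp]
  have hlid : (c'.comp c).Lifts (LinearMap.id : M →ₗ[R] M) := by
    have := ChMap.comp_lifts hl' hl
    rwa [LinearMap.comp_id] at this
  rw [Hmap_eq_of_lifts (c'.comp c) (ChMap.id E₁) (ChMap.comp_isGr hc' hc) (ChMap.id_isGr E₁)
    LinearMap.id hlid (ChMap.id_lifts E₁) a i x, ChMap.Hmap_id]

/-- **The long exact sequence of graded local cohomology**, for arbitrary *injective resolutions of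
the three terms of a short exact sequence and arbitrary homogeneous lifts of the two maps. -/
theorem exists_les (E' : GrLC.StarInjRes 𝒜 ℳ') (E : GrLC.StarInjRes 𝒜 ℳ)
    (E'' : GrLC.StarInjRes 𝒜 ℳ'') (α : M' →ₗ[R] M) (β : M →ₗ[R] M'')
    (hαgr : GrLC.IsGrHom ℳ' ℳ α) (hα : Function.Injective α)
    (hex : LinearMap.range α = LinearMap.ker β) (hβ : Function.Surjective β)
    (A : ChMap E' E) (hAgr : A.IsGr) (hA : A.Lifts α)
    (B : ChMap E E'') (hBgr : B.IsGr) (hB : B.Lifts β) (a : HomogeneousIdeal 𝒜) :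
    Function.Injective (A.Hmap a 0) ∧
    (∀ i, LinearMap.range (A.Hmap a i) = LinearMap.ker (B.Hmap a i)) ∧
    ∃ δ : ∀ i : ℕ, E''.H a i →ₗ[R] E'.H a (i + 1),
      (∀ i, GrLC.IsGrHom (E''.Hgr a i) (E'.Hgr a (i + 1)) (δ i)) ∧
      (∀ i, LinearMap.range (B.Hmap a i) = LinearMap.ker (δ i)) ∧
      (∀ i, LinearMap.range (δ i) = LinearMap.ker (A.Hmap a (i + 1))) := by
  -- the cone and the comparison maps
  let C := coneRes E E'' B α β hαgr hα hex hβ hBgr hB
  let π := conePi E E'' B α β hαgr hα hex hβ hBgr hB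
  have hπgr : π.IsGr := conePi_isGr E E'' B α β hαgr hα hex hβ hBgr hB
  have hπ : π.Lifts α := conePi_lifts E E'' B α β hαgr hα hex hβ hBgr hB
  have hidgr : GrLC.IsGrHom ℳ' ℳ' (LinearMap.id : M' →ₗ[R] M') := fun _ _ h => h
  let κ : ChMap E' C := liftCh E' C LinearMap.id hidgr
  let κ' : ChMap C E' := liftCh C E' LinearMap.id hidgr
  have hκgr : κ.IsGr := liftCh_isGr E' C _ hidgr
  have hκ'gr : κ'.IsGr := liftCh_isGr C E' _ hidgr
  have hκ : κ.Lifts LinearMap.id := liftCh_lifts E' C _ hidgr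
  have hκ' : κ'.Lifts LinearMap.id := liftCh_lifts C E' _ hidgr
  have h1 : ∀ i x, κ'.Hmap a i (κ.Hmap a i x) = x :=
    fun i x => Hmap_inverse_of_lifts_id κ κ' hκgr hκ'gr hκ hκ' a i x
  have h2 : ∀ i y, κ.Hmap a i (κ'.Hmap a i y) = y :=
    fun i y => Hmap_inverse_of_lifts_id κ' κ hκ'gr hκgr hκ' hκ a i y
  -- `A` factors through the cone on cohomology
  have hfac : ∀ i x, A.Hmap a i x = π.Hmap a i (κ.Hmap a i x) := by
    intro i x
    rw [← ChMap.Hmap_comp]
    have hl : (π.comp κ).Lifts α := by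
      have := ChMap.comp_lifts hπ hκ
      rwa [LinearMap.comp_id] at this
    exact Hmap_eq_of_lifts A (π.comp κ) hAgr (ChMap.comp_isGr hπgr hκgr) α hA hl a i x
  refine ⟨?_, ?_, fun i => (κ'.Hmap a (i + 1)) ∘ₗ (coneDelta E E'' B α β hαgr hα hex hβ hBgr hB a i),
    ?_, ?_, ?_⟩
  · intro x y hxy
    rw [hfac, hfac] at hxy
    have := conePi_Hmap_zero_injective E E'' B α β hαgr hα hex hβ hBgr hB a hxy
    rw [← h1 0 x, ← h1 0 y, this]
  · intro i
    rw [← cone_exact_mid E E'' B α β hαgr hα hex hβ hBgr hB a i]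
    apply le_antisymm
    · rintro _ ⟨x, rfl⟩
      exact ⟨κ.Hmap a i x, (hfac i x).symm⟩
    · rintro _ ⟨y, rfl⟩
      refine ⟨κ'.Hmap a i y, ?_⟩
      rw [hfac, h2]
  · intro i g x hx
    exact ChMap.Hmap_isGr hκ'gr a (i + 1) g _
      (coneDelta_isGr E E'' B α β hαgr hα hex hβ hBgr hB a i g x hx)
  · intro i
    rw [cone_exact_delta E E'' B α β hαgr hα hex hβ hBgr hB a i]
    ext y
    rw [LinearMap.mem_ker, LinearMap.mem_ker, LinearMap.comp_apply]
    constructor
    · intro h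
      rw [h, map_zero]
    · intro h
      rw [← h2 (i + 1) (coneDelta E E'' B α β hαgr hα hex hβ hBgr hB a i y), h, map_zero]
  · intro i
    ext z
    rw [LinearMap.mem_ker, hfac]
    constructor
    · rintro ⟨y, rfl⟩
      rw [LinearMap.comp_apply, h2]
      have : coneDelta E E'' B α β hαgr hα hex hβ hBgr hB a i y ∈
          LinearMap.range (coneDelta E E'' B α β hαgr hα hex hβ hBgr hB a i) := ⟨y, rfl⟩
      rw [cone_exact_pi E E'' B α β hαgr hα hex hβ hBgr hB a i] at this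
      exact this
    · intro h
      have : κ.Hmap a (i + 1) z ∈ LinearMap.ker (π.Hmap a (i + 1)) := h
      rw [← cone_exact_pi E E'' B α β hαgr hα hex hβ hBgr hB a i] at this
      obtain ⟨y, hy⟩ := this
      refine ⟨y, ?_⟩
      rw [LinearMap.comp_apply, hy, h1]

end Groth.Agent.Helper20.GrInj
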