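import Mathlib
import Groth.Agent.Lib.Helper20.GrCx8

open DirectSum

namespace Groth.Agent.Helper20.GrInj

universe u

variable {ι : Type} [AddCommGroup ι] [DecidableEq ι]
variable {R : Type u} [CommRing R]

section Homog

variable {X : Type u} [AddCommGroup X] [Module R X] (𝒳 : ι → AddSubgroup X)
  [DirectSum.Decomposition 𝒳]
variable {Y : Type u} [AddCommGroup Y] [Module R Y] (𝒴 : ι → AddSubgroup Y)
  [DirectSum.Decomposition 𝒴]

/-- a homogeneous element in the image of a homogeneous map has a homogeneous preimage -/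
theorem exists_homog_preimage {f : X →ₗ[R] Y} (hf : GrLC.IsGrHom 𝒳 𝒴 f) {g : ι} {y : Y}
    (hy : y ∈ 𝒴 g) (hr : y ∈ LinearMap.range f) : ∃ z ∈ 𝒳 g, f z = y := by
  obtain ⟨z₀, rfl⟩ := hr
  refine ⟨(decompose 𝒳 z₀ g : X), (decompose 𝒳 z₀ g).2, ?_⟩
  rw [← decompose_map 𝒳 𝒴 hf, decompose_of_mem_same 𝒴 hy]

end Homog

variable {σ : Type u} [SetLike σ R] [AddSubgroupClass σ R] {𝒜 : ι → σ} [GradedRing 𝒜]
variable {M : Type u} [AddCommGroup M] [Module R M] {ℳ : ι → AddSubgroup M}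
  [DirectSum.Decomposition ℳ] [SetLike.GradedSMul 𝒜 ℳ]
variable {N : Type u} [AddCommGroup N] [Module R N] {𝒩 : ι → AddSubgroup N}
  [DirectSum.Decomposition 𝒩] [SetLike.GradedSMul 𝒜 𝒩]

/-- a homogeneous class in the image of a homogeneous map of graded local cohomologies has a
homogeneous preimage -/
theorem exists_homog_preimage_H {E : GrLC.StarInjRes 𝒜 ℳ} {F : GrLC.StarInjRes 𝒜 𝒩}
    (a : HomogeneousIdeal 𝒜) (i j : ℕ) {f : E.H a i →ₗ[R] F.H a j}
    (hf : GrLC.IsGrHom (E.Hgr a i) (F.Hgr a j) f) {g : ι} {y : F.H a j}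
    (hy : y ∈ F.Hcomp a j g) (hr : y ∈ LinearMap.range f) : ∃ z ∈ E.Hcomp a i g, f z = y := by
  letI := (Hgr_isInternal E a i).chooseDecomposition
  letI := (Hgr_isInternal F a j).chooseDecomposition
  exact exists_homog_preimage (E.Hgr a i) (F.Hgr a j) hf (g := g) hy hr

/-- a homogeneous class killed by a homogeneous map lands in the zero piece criterion: if the target
piece vanishes, the class is in the kernel -/
theorem mem_ker_of_Hcomp_eq_bot {E : GrLC.StarInjRes 𝒜 ℳ} {F : GrLC.StarInjRes 𝒜 𝒩}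
    (a : HomogeneousIdeal 𝒜) (i j : ℕ) {f : E.H a i →ₗ[R] F.H a j}
    (hf : GrLC.IsGrHom (E.Hgr a i) (F.Hgr a j) f) {g : ι} {y : E.H a i}
    (hy : y ∈ E.Hcomp a i g) (hbot : F.Hcomp a j g = ⊥) : y ∈ LinearMap.ker f := by
  have h1 : f y ∈ F.Hcomp a j g := hf g y hy
  rw [hbot, Submodule.mem_bot] at h1
  exact h1

end Groth.Agent.Helper20.GrInj
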