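import Mathlib
import Groth.Agent.Lib.Helper20.GrCx9

open DirectSum

namespace Groth.Agent.Helper20.GrInj

universe u

variable {ι : Type} [AddCommGroup ι] [DecidableEq ι]
variable {R : Type u} [CommRing R]
variable {σ : Type u} [SetLike σ R] [AddSubgroupClass σ R] {𝒜 : ι → σ} [GradedRing 𝒜]
variable {M : Type u} [AddCommGroup M] [Module R M] {ℳ : ι → AddSubgroup M}
  [DirectSum.Decomposition ℳ] [SetLike.GradedSMul 𝒜 ℳ]

/-- graded local cohomology classes are killed by a power of the ideal -/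
theorem H_torsion (E : GrLC.StarInjRes 𝒜 ℳ) (a : HomogeneousIdeal 𝒜) (i : ℕ) (x : E.H a i) :
    ∃ n : ℕ, ∀ r ∈ a.toIdeal ^ n, r • x = 0 := by
  obtain ⟨z, rfl⟩ := ChMap.toH_surjective E a i x
  obtain ⟨n, hn⟩ := z.2.1
  refine ⟨n, fun r hr => ?_⟩
  rw [← map_smul]
  have : r • z = 0 := Subtype.ext (hn r hr)
  rw [this, map_zero]

/-- if a homogeneous element of the ideal acts bijectively on `M`, all graded local cohomology of `M`
vanishes -/
theorem H_subsingleton_of_smul_bijective (E : GrLC.StarInjRes 𝒜 ℳ) (a : HomogeneousIdeal 𝒜)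
    {d : ι} {f : R} (hf : f ∈ 𝒜 d) (hfa : f ∈ a.toIdeal)
    (hbij : Function.Bijective (fun x : M => f • x)) (q : ℕ) : Subsingleton (E.H a q) := by
  let e : M ≃ₗ[R] M := LinearEquiv.ofBijective (LinearMap.lsmul R M f) hbij
  have he : GrLC.IsGrHom (shiftGr ℳ (-d)) ℳ e.toLinearMap := lsmul_isGrHom_shift hf
  have hl : (smulCh E (g := d) f).Lifts e.toLinearMap := smulCh_lifts E f
  have hb := Hmap_bijective_of_equiv (resShift E (-d)) E e he (smulCh E (g := d) f)
    (smulCh_isGr E hf) hl a q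
  have hinj : ∀ x : E.H a q, f • x = 0 → x = 0 := by
    intro x hx
    have h0 : (smulCh E (g := d) f).Hmap a q x = 0 := (smulCh_Hmap E (g := d) f a q x).trans hx
    have h1 : (smulCh E (g := d) f).Hmap a q x =
        (smulCh E (g := d) f).Hmap a q (0 : (resShift E (-d)).H a q) := h0.trans (map_zero _).symm
    exact hb.1 h1
  have hpow : ∀ (n : ℕ) (x : E.H a q), f ^ n • x = 0 → x = 0 := by
    intro n
    induction n with
    | zero => intro x hx; rwa [pow_zero, one_smul] at hx
    | succ k ih =>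
      intro x hx
      rw [pow_succ, mul_smul] at hx
      exact hinj x (ih _ hx)
  refine ⟨fun x y => ?_⟩
  have hz : ∀ x : E.H a q, x = 0 := by
    intro x
    obtain ⟨n, hn⟩ := H_torsion E a q x
    exact hpow n x (hn _ (Ideal.pow_mem_pow hfa n))
  rw [hz x, hz y]

end Groth.Agent.Helper20.GrInj
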