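import Mathlib
import Groth.Agent.Lib.Helper20.GrCx10

open DirectSum

namespace Groth.Agent.Helper20.GrInj

universe u

variable {ι : Type} [AddCommGroup ι] [DecidableEq ι]
variable {R : Type u} [CommRing R]
variable {σ : Type u} [SetLike σ R] [AddSubgroupClass σ R] {𝒜 : ι → σ} [GradedRing 𝒜]
variable {I : Type u} [AddCommGroup I] [Module R I] {ℐ : ι → AddSubgroup I}
  [DirectSum.Decomposition ℐ] [SetLike.GradedSMul 𝒜 ℐ]

/-- the terms of the trivial resolution -/
noncomputable def trivX (ℐ : ι → AddSubgroup I) [DirectSum.Decomposition ℐ]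
    [SetLike.GradedSMul 𝒜 ℐ] : ℕ → GrLC.GMod.{u} 𝒜
  | 0 => GrLC.GMod.of 𝒜 I ℐ
  | (_ + 1) => zeroGMod 𝒜

/-- the trivial resolution `I → I → 0 → 0 → ⋯` of a *injective module -/
noncomputable def trivRes (hI : GrLC.IsStarInj 𝒜 ℐ) : GrLC.StarInjRes 𝒜 ℐ where
  X := trivX (𝒜 := 𝒜) ℐ
  d := fun _ => 0
  ε := LinearMap.id
  d_grHom := fun _ _ _ _ => zero_mem _
  ε_grHom := fun _ _ h => h
  ε_injective := fun _ _ h => h
  exact_zero := by
    rw [LinearMap.ker_zero, eq_comm, LinearMap.range_eq_top]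
    exact fun x => ⟨x, rfl⟩
  exact_succ := fun n => by
    rw [LinearMap.ker_zero, eq_comm, eq_top_iff]
    intro x _
    exact ⟨0, Subsingleton.elim (α := PUnit.{u + 1}) _ _⟩
  starInj := fun n => by
    cases n with
    | zero => exact hI
    | succ n => exact zeroGMod_isStarInj 𝒜

theorem trivRes_H_subsingleton (hI : GrLC.IsStarInj 𝒜 ℐ) (a : HomogeneousIdeal 𝒜) (i : ℕ) :
    Subsingleton ((trivRes hI).H a (i + 1)) := by
  refine ⟨fun x y => ?_⟩
  obtain ⟨z, rfl⟩ := ChMap.toH_surjective (trivRes hI) a (i + 1) x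
  obtain ⟨w, rfl⟩ := ChMap.toH_surjective (trivRes hI) a (i + 1) y
  congr 1
  exact Subtype.ext (Subsingleton.elim (α := PUnit.{u + 1}) _ _)

/-- higher graded local cohomology of a *injective module vanishes -/
theorem H_subsingleton_of_starInj (hI : GrLC.IsStarInj 𝒜 ℐ) (E : GrLC.StarInjRes 𝒜 ℐ)
    (a : HomogeneousIdeal 𝒜) (i : ℕ) : Subsingleton (E.H a (i + 1)) := by
  have hidgr : GrLC.IsGrHom ℐ ℐ (LinearEquiv.refl R I).toLinearMap := fun _ _ h => h
  let c := liftCh E (trivRes hI) (LinearEquiv.refl R I).toLinearMap hidgr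
  have hb := Hmap_bijective_of_equiv E (trivRes hI) (LinearEquiv.refl R I) hidgr c
    (liftCh_isGr _ _ _ hidgr) (liftCh_lifts _ _ _ hidgr) a (i + 1)
  haveI := trivRes_H_subsingleton hI a i
  exact hb.1.subsingleton

end Groth.Agent.Helper20.GrInj
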