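import Mathlib
import Groth.Agent.Lib.Helper20.GrCx11

open DirectSum

namespace Groth.Agent.Helper20.GrInj

universe u

section Tors

variable {R : Type u} [CommRing R]

/-- a finitely generated submodule of the torsion is killed by one power -/
theorem exists_pow_smul_eq_zero_of_fg (a : Ideal R) {N : Type u} [AddCommGroup N] [Module R N]
    {K : Submodule R N} (hK : K.FG) (hle : K ≤ GrLC.gam a N) :
    ∃ n : ℕ, ∀ r ∈ a ^ n, ∀ k ∈ K, r • k = 0 := by
  classical
  obtain ⟨s, rfl⟩ := hK
  have hs : ∀ y ∈ s, ∃ n : ℕ, ∀ r ∈ a ^ n, r • y = 0 := fun y hy => hle (Submodule.subset_span hy)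
  choose! nf hnf using hs
  refine ⟨s.sup nf, fun r hr k hk => ?_⟩
  induction hk using Submodule.span_induction with
  | mem y hy =>
    exact hnf y hy r (Ideal.pow_le_pow_right (Finset.le_sup hy) hr)
  | zero => exact smul_zero r
  | add y z _ _ hy hz => rw [smul_add, hy, hz, add_zero]
  | smul c y _ hy => rw [smul_comm, hy, smul_zero]

end Tors

variable {ι : Type} [AddCommGroup ι] [DecidableEq ι]
variable {R : Type u} [CommRing R]
variable {σ : Type u} [SetLike σ R] [AddSubgroupClass σ R] (𝒜 : ι → σ) [GradedRing 𝒜]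
variable {M : Type u} [AddCommGroup M] [Module R M] (ℳ : ι → AddSubgroup M)
variable {N : Type u} [AddCommGroup N] [Module R N] (𝒩 : ι → AddSubgroup N)
  [DirectSum.Decomposition 𝒩] [SetLike.GradedSMul 𝒜 𝒩]

/-- the submodule `J x` for a homogeneous ideal `J` and a homogeneous element `x` is homogeneous -/
theorem map_toSpanSingleton_isHomogeneous {J : Ideal R} (hJ : J.IsHomogeneous 𝒜) {g : ι} {x : N}
    (hx : x ∈ 𝒩 g) : (Submodule.map (LinearMap.toSpanSingleton R N x) J).IsHomogeneous 𝒩 := by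
  rintro i _ ⟨r, hr, rfl⟩
  rw [LinearMap.toSpanSingleton_apply]
  have : i = (i - g) + g := (sub_add_cancel i g).symm
  rw [this, decompose_smul_homog_right 𝒜 𝒩 hx]
  exact ⟨_, hJ (i - g) hr, rfl⟩

/-- over a Noetherian ring, a *essential extension of a torsion module is torsion -/
theorem gam_eq_top_of_starEss [IsNoetherianRing R] (a : HomogeneousIdeal 𝒜) {f : M →ₗ[R] N}
    (hf : GrLC.IsStarEss ℳ 𝒩 f) (hM : GrLC.gam a.toIdeal M = ⊤) : GrLC.gam a.toIdeal N = ⊤ := by
  classical
  -- it suffices to treat homogeneous elements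
  have key : ∀ (g : ι) (x : N), x ∈ 𝒩 g → x ∈ GrLC.gam a.toIdeal N := by
    intro g x hx
    let φ : R →ₗ[R] N := LinearMap.toSpanSingleton R N x
    let J : Ideal R := (LinearMap.range f).comap φ
    have hJfg : (J : Submodule R R).FG := IsNoetherian.noetherian J
    have hKle : Submodule.map φ J ≤ GrLC.gam a.toIdeal N := by
      rintro _ ⟨j, hj, rfl⟩
      obtain ⟨m, hm⟩ : φ j ∈ LinearMap.range f := hj
      rw [← hm]
      exact ChMap.map_gam_lin a.toIdeal f (by rw [hM]; exact Submodule.mem_top)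
    obtain ⟨n₀, hn₀⟩ := exists_pow_smul_eq_zero_of_fg a.toIdeal (Submodule.FG.map φ hJfg) hKle
    obtain ⟨k, hk⟩ := Ideal.exists_pow_inf_eq_pow_smul a.toIdeal (J : Submodule R R)
    -- every element of `a ^ (n₀ + k) ⊓ J` kills `x`
    have hkill : ∀ r ∈ a.toIdeal ^ (n₀ + k), r ∈ J → r • x = 0 := by
      intro r hr hrJ
      have h1 : r ∈ (a.toIdeal ^ (n₀ + k) • ⊤ ⊓ (J : Submodule R R) : Submodule R R) := by
        refine ⟨?_, hrJ⟩
        rw [Ideal.smul_top_eq_map, Algebra.algebraMap_self, Ideal.map_id]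
        exact hr
      rw [hk (n₀ + k) (Nat.le_add_left k n₀), Nat.add_sub_cancel] at h1
      refine Submodule.smul_induction_on (p := fun r => r • x = 0) h1 ?_ ?_
      · intro s hs j hj
        show (s • j) • x = 0
        rw [smul_eq_mul, mul_smul]
        exact hn₀ s hs _ ⟨j, hj.2, rfl⟩
      · intro y z hy hz
        show (y + z) • x = 0
        rw [add_smul, hy, hz, add_zero]
    -- the homogeneous submodule `a ^ (n₀ + k) x` meets the image trivially, hence vanishes
    let P : Submodule R N := Submodule.map φ (a.toIdeal ^ (n₀ + k))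
    have hPhom : P.IsHomogeneous 𝒩 :=
      map_toSpanSingleton_isHomogeneous 𝒜 𝒩 (pow_isHomogeneous 𝒜 a (n₀ + k)) hx
    have hPbot : P = ⊥ := by
      by_contra hne
      apply hf.essential P hPhom hne
      rw [eq_bot_iff]
      rintro _ ⟨⟨r, hr, rfl⟩, hrange⟩
      have : φ r = 0 := hkill r hr hrange
      rw [this]
      exact Submodule.zero_mem _
    refine ⟨n₀ + k, fun r hr => ?_⟩
    have : φ r ∈ P := ⟨r, hr, rfl⟩
    rw [hPbot, Submodule.mem_bot] at this
    exact this
  rw [eq_top_iff]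
  intro y _
  rw [← sum_support_decompose 𝒩 y]
  exact Submodule.sum_mem _ (fun i _ => key i _ (decompose 𝒩 y i).2)

end Groth.Agent.Helper20.GrInj
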