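import Mathlib
import Groth.Agent.Lib.Helper20.GrCx12

open DirectSum

namespace Groth.Agent.Helper20.GrInj

universe u

variable {ι : Type} [AddCommGroup ι] [DecidableEq ι]
variable {R : Type u} [CommRing R]
variable {σ : Type u} [SetLike σ R] [AddSubgroupClass σ R] {𝒜 : ι → σ} [GradedRing 𝒜]

/-- `H⁰` of the lift of a surjection out of a torsion *injective module (with its trivial
resolution) is surjective -/
theorem Hmap_zero_surjective_of_trivRes {I : Type u} [AddCommGroup I] [Module R I]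
    {ℐ : ι → AddSubgroup I} [DirectSum.Decomposition ℐ] [SetLike.GradedSMul 𝒜 ℐ]
    {Q : Type u} [AddCommGroup Q] [Module R Q] {𝒬 : ι → AddSubgroup Q}
    [DirectSum.Decomposition 𝒬] [SetLike.GradedSMul 𝒜 𝒬]
    (hI : GrLC.IsStarInj 𝒜 ℐ) (a : HomogeneousIdeal 𝒜) (htors : GrLC.gam a.toIdeal I = ⊤)
    (F : GrLC.StarInjRes 𝒜 𝒬) (β : I →ₗ[R] Q) (hβ : Function.Surjective β)
    (B : ChMap (trivRes hI) F) (hB : B.Lifts β) : Function.Surjective (B.Hmap a 0) := by
  intro w
  obtain ⟨z, rfl⟩ := ChMap.toH_surjective F a 0 w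
  have hz : (z : (F.X 0).carrier) ∈ LinearMap.ker (F.d 0) := z.2.2
  rw [F.exact_zero] at hz
  obtain ⟨q, hq⟩ := hz
  obtain ⟨x, rfl⟩ := hβ q
  have hx : x ∈ (trivRes hI).cocyc a 0 := by
    refine ⟨?_, ?_⟩
    · show x ∈ GrLC.gam a.toIdeal I
      rw [htors]; exact Submodule.mem_top
    · show (0 : I →ₗ[R] PUnit.{u + 1}) x = 0
      rfl
  refine ⟨(trivRes hI).toH a 0 ⟨x, hx⟩, ?_⟩
  rw [ChMap.Hmap_toH]
  congr 1
  apply Subtype.ext
  show B.f 0 x = (z : (F.X 0).carrier)
  rw [← hq]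
  exact hB x

/-- over a Noetherian ring, the higher graded local cohomology of a torsion module vanishes -/
theorem H_subsingleton_of_gam_eq_top [IsNoetherianRing R] (a : HomogeneousIdeal 𝒜) (i : ℕ) :
    ∀ {M : Type u} [AddCommGroup M] [Module R M] (ℳ : ι → AddSubgroup M)
      [DirectSum.Decomposition ℳ] [SetLike.GradedSMul 𝒜 ℳ],
      GrLC.gam a.toIdeal M = ⊤ → ∀ E : GrLC.StarInjRes 𝒜 ℳ, Subsingleton (E.H a (i + 1)) := by
  induction i with
  | zero =>
    intro M _ _ ℳ _ _ hM E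
    obtain ⟨X, f, hhull⟩ := exists_starInjHull 𝒜 ℳ
    have hXtors : GrLC.gam a.toIdeal X.carrier = ⊤ :=
      gam_eq_top_of_starEss 𝒜 ℳ X.gr a hhull.toIsStarEss hM
    have hrange : (LinearMap.range f).IsHomogeneous X.gr := range_isHomogeneous ℳ X.gr hhull.grHom
    let Q := quotGMod X.gr 𝒜 (LinearMap.range f) hrange
    let β := quotMk 𝒜 X.gr (LinearMap.range f) hrange
    have hβgr := quotMk_grHom 𝒜 X.gr (LinearMap.range f) hrange
    have hβ := quotMk_surjective 𝒜 X.gr (LinearMap.range f) hrange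
    have hex : LinearMap.range f = LinearMap.ker β :=
      (quotMk_ker 𝒜 X.gr (LinearMap.range f) hrange).symm
    let T := trivRes hhull.starInj
    let F := starInjRes 𝒜 Q.gr
    let A := liftCh E T f hhull.grHom
    let B := liftCh T F β hβgr
    obtain ⟨_, _, δ, _, hδ1, hδ2⟩ := exists_les E T F f β hhull.grHom hhull.injective hex hβ
      A (liftCh_isGr _ _ _ _) (liftCh_lifts _ _ _ _) B (liftCh_isGr _ _ _ _) (liftCh_lifts _ _ _ _) a
    haveI := trivRes_H_subsingleton hhull.starInj a 0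
    have hsurj : Function.Surjective (B.Hmap a 0) :=
      Hmap_zero_surjective_of_trivRes hhull.starInj a hXtors F β hβ B (liftCh_lifts _ _ _ _)
    refine ⟨fun x y => ?_⟩
    have hz : ∀ x : E.H a 1, x = 0 := by
      intro x
      have hx : x ∈ LinearMap.ker (A.Hmap a 1) := Subsingleton.elim _ _
      rw [← hδ2 0] at hx
      obtain ⟨w, rfl⟩ := hx
      have hw : w ∈ LinearMap.range (B.Hmap a 0) := hsurj w
      rw [hδ1 0] at hw
      exact hw
    rw [hz x, hz y]
  | succ i ih =>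
    intro M _ _ ℳ _ _ hM E
    obtain ⟨X, f, hhull⟩ := exists_starInjHull 𝒜 ℳ
    have hXtors : GrLC.gam a.toIdeal X.carrier = ⊤ :=
      gam_eq_top_of_starEss 𝒜 ℳ X.gr a hhull.toIsStarEss hM
    have hrange : (LinearMap.range f).IsHomogeneous X.gr := range_isHomogeneous ℳ X.gr hhull.grHom
    let Q := quotGMod X.gr 𝒜 (LinearMap.range f) hrange
    let β := quotMk 𝒜 X.gr (LinearMap.range f) hrange
    have hβgr := quotMk_grHom 𝒜 X.gr (LinearMap.range f) hrange
    have hβ := quotMk_surjective 𝒜 X.gr (LinearMap.range f) hrange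
    have hex : LinearMap.range f = LinearMap.ker β :=
      (quotMk_ker 𝒜 X.gr (LinearMap.range f) hrange).symm
    have hQtors : GrLC.gam a.toIdeal Q.carrier = ⊤ := by
      rw [eq_top_iff]
      intro q _
      obtain ⟨x, rfl⟩ := hβ q
      exact ChMap.map_gam_lin a.toIdeal β (by rw [hXtors]; exact Submodule.mem_top)
    let T := trivRes hhull.starInj
    let F := starInjRes 𝒜 Q.gr
    let A := liftCh E T f hhull.grHom
    let B := liftCh T F β hβgr
    obtain ⟨_, _, δ, _, _, hδ2⟩ := exists_les E T F f β hhull.grHom hhull.injective hex hβ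
      A (liftCh_isGr _ _ _ _) (liftCh_lifts _ _ _ _) B (liftCh_isGr _ _ _ _) (liftCh_lifts _ _ _ _) a
    haveI := trivRes_H_subsingleton hhull.starInj a (i + 1)
    haveI : Subsingleton (F.H a (i + 1)) := ih Q.gr hQtors F
    refine ⟨fun x y => ?_⟩
    have hz : ∀ x : E.H a (i + 2), x = 0 := by
      intro x
      have hx : x ∈ LinearMap.ker (A.Hmap a (i + 2)) := Subsingleton.elim _ _
      rw [← hδ2 (i + 1)] at hx
      obtain ⟨w, rfl⟩ := hx
      rw [Subsingleton.elim w 0, map_zero]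
    rw [hz x, hz y]

end Groth.Agent.Helper20.GrInj
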