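import Mathlib
import Groth.Agent.Lib.Helper20.GrCx13

open DirectSum

namespace Groth.Agent.Helper20.GrInj

universe u

variable {ι : Type} [AddCommGroup ι] [DecidableEq ι]
variable {R : Type u} [CommRing R]
variable {σ : Type u} [SetLike σ R] [AddSubgroupClass σ R] {𝒜 : ι → σ} [GradedRing 𝒜]
variable {M : Type u} [AddCommGroup M] [Module R M] {ℳ : ι → AddSubgroup M}
  [DirectSum.Decomposition ℳ] [SetLike.GradedSMul 𝒜 ℳ]
variable {N : Type u} [AddCommGroup N] [Module R N] {𝒩 : ι → AddSubgroup N}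
  [DirectSum.Decomposition 𝒩] [SetLike.GradedSMul 𝒜 𝒩]

/-- the kernel of multiplication by a homogeneous element is a homogeneous submodule -/
theorem ker_lsmul_isHomogeneous {g : ι} {x : R} (hx : x ∈ 𝒜 g) :
    (LinearMap.ker (LinearMap.lsmul R M x)).IsHomogeneous ℳ := by
  intro i m hm
  rw [LinearMap.mem_ker, LinearMap.lsmul_apply] at hm ⊢
  rw [← decompose_smul_of_mem 𝒜 ℳ hx m i, hm, decompose_zero, DirectSum.zero_apply,
    ZeroMemClass.coe_zero]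

/-- vanishing of a piece of `H^j` passes to the quotient by a torsion submodule, `j ≥ 1` -/
theorem Hcomp_quot_torsion_eq_bot [IsNoetherianRing R] (a : HomogeneousIdeal 𝒜)
    (K : Submodule R M) (hK : K.IsHomogeneous ℳ) (hKt : K ≤ GrLC.gam a.toIdeal M)
    (E : GrLC.StarInjRes 𝒜 ℳ) (Ē : GrLC.StarInjRes 𝒜 (quotGMod ℳ 𝒜 K hK).gr) (j : ℕ) (n : ι)
    (h : E.Hcomp a (j + 1) n = ⊥) : Ē.Hcomp a (j + 1) n = ⊥ := by
  -- the short exact sequence 0 → K → M → M/K → 0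
  let EK := starInjRes 𝒜 (subGMod ℳ 𝒜 K hK).gr
  have hKtors : GrLC.gam a.toIdeal (subGMod ℳ 𝒜 K hK).carrier = ⊤ := by
    rw [eq_top_iff]
    intro y _
    obtain ⟨k, hk⟩ := hKt (subVal_mem 𝒜 ℳ K hK y)
    refine ⟨k, fun r hr => ?_⟩
    apply subVal_injective 𝒜 ℳ K hK
    rw [map_smul, hk r hr, map_zero]
  have hex : LinearMap.range (subVal 𝒜 ℳ K hK) = LinearMap.ker (quotMk 𝒜 ℳ K hK) := by
    rw [subVal_range, quotMk_ker]
  let A := liftCh EK E (subVal 𝒜 ℳ K hK) (subVal_grHom 𝒜 ℳ K hK)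
  let B := liftCh E Ē (quotMk 𝒜 ℳ K hK) (quotMk_grHom 𝒜 ℳ K hK)
  obtain ⟨_, _, δ, hδgr, hδ1, _⟩ := exists_les EK E Ē (subVal 𝒜 ℳ K hK) (quotMk 𝒜 ℳ K hK)
    (subVal_grHom 𝒜 ℳ K hK) (subVal_injective 𝒜 ℳ K hK) hex (quotMk_surjective 𝒜 ℳ K hK)
    A (liftCh_isGr _ _ _ _) (liftCh_lifts _ _ _ _) B (liftCh_isGr _ _ _ _) (liftCh_lifts _ _ _ _) a
  haveI : Subsingleton (EK.H a (j + 1 + 1)) :=
    H_subsingleton_of_gam_eq_top a (j + 1) (subGMod ℳ 𝒜 K hK).gr hKtors EK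
  rw [eq_bot_iff]
  intro w hw
  have hwker : w ∈ LinearMap.ker (δ (j + 1)) := Subsingleton.elim _ _
  rw [← hδ1 (j + 1)] at hwker
  obtain ⟨u, hu, rfl⟩ := exists_homog_preimage_H (E := E) (F := Ē) a (j + 1) (j + 1)
    (ChMap.Hmap_isGr (liftCh_isGr E Ē _ (quotMk_grHom 𝒜 ℳ K hK)) a (j + 1)) hw hwker
  rw [h, Submodule.mem_bot] at hu
  rw [hu, map_zero]
  exact Submodule.zero_mem _

/-- **Regularity passes to the quotient by a quasi-regular homogeneous element**: if the kernel of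
multiplication by the homogeneous element `x` of degree `g` on `M` is `a`-torsion and `N = M/xM`, then
`H^{i+1}(N)_n` vanishes as soon as `H^{i+1}(M)_n` and `H^{i+2}(M)_{n-g}` do. -/
theorem Hcomp_quotient_regular_eq_bot [IsNoetherianRing R] (a : HomogeneousIdeal 𝒜) {g : ι} {x : R}
    (hx : x ∈ 𝒜 g) (hKt : LinearMap.ker (LinearMap.lsmul R M x) ≤ GrLC.gam a.toIdeal M)
    (π : M →ₗ[R] N) (hπ : Function.Surjective π) (hπg : GrLC.IsGrHom ℳ 𝒩 π)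
    (hker : LinearMap.ker π = LinearMap.range (LinearMap.lsmul R M x))
    (E : GrLC.StarInjRes 𝒜 ℳ) (E' : GrLC.StarInjRes 𝒜 𝒩) (i : ℕ) (n : ι)
    (h1 : E.Hcomp a (i + 1) n = ⊥) (h2 : E.Hcomp a (i + 2) (n - g) = ⊥) :
    E'.Hcomp a (i + 1) n = ⊥ := by
  have hK : (LinearMap.ker (LinearMap.lsmul R M x)).IsHomogeneous ℳ := ker_lsmul_isHomogeneous hx
  let Q := quotGMod ℳ 𝒜 (LinearMap.ker (LinearMap.lsmul R M x)) hK
  let xb : Q.carrier →ₗ[R] M :=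
    quotLift 𝒜 ℳ (LinearMap.ker (LinearMap.lsmul R M x)) hK (LinearMap.lsmul R M x) le_rfl
  have hxbinj : Function.Injective xb :=
    quotLift_injective 𝒜 ℳ (LinearMap.ker (LinearMap.lsmul R M x)) hK (LinearMap.lsmul R M x) rfl
  have hxbgr : GrLC.IsGrHom (shiftGr Q.gr (-g)) ℳ xb := by
    rintro j _ ⟨y, hy, rfl⟩
    exact lsmul_isGrHom_shift (ℳ := ℳ) hx j y hy
  have hex : LinearMap.range xb = LinearMap.ker π := by
    rw [hker]
    exact Submodule.range_liftQ _ _ _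
  let Ē := starInjRes 𝒜 Q.gr
  have h2' : Ē.Hcomp a (i + 2) (n - g) = ⊥ :=
    Hcomp_quot_torsion_eq_bot a _ hK hKt E Ē (i + 1) (n - g) h2
  let A := liftCh (resShift Ē (-g)) E xb hxbgr
  let B := liftCh E E' π hπg
  obtain ⟨_, _, δ, hδgr, hδ1, _⟩ := exists_les (resShift Ē (-g)) E E' xb π hxbgr hxbinj hex hπ
    A (liftCh_isGr _ _ _ _) (liftCh_lifts _ _ _ _) B (liftCh_isGr _ _ _ _) (liftCh_lifts _ _ _ _) a
  rw [eq_bot_iff]
  intro v hv
  have hδv : δ (i + 1) v ∈ (resShift Ē (-g)).Hcomp a (i + 2) n := hδgr (i + 1) n v hv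
  have hδv' : δ (i + 1) v ∈ Ē.Hcomp a (i + 2) (n + -g) :=
    (mem_resShift_Hcomp Ē (-g) a (i + 2) n _).1 hδv
  rw [← sub_eq_add_neg, h2'] at hδv'
  have hvker : v ∈ LinearMap.ker (δ (i + 1)) := (Submodule.mem_bot _).1 hδv'
  rw [← hδ1 (i + 1)] at hvker
  obtain ⟨u, hu, rfl⟩ := exists_homog_preimage_H (E := E) (F := E') a (i + 1) (i + 1)
    (ChMap.Hmap_isGr (liftCh_isGr E E' π hπg) a (i + 1)) hv hvker
  rw [h1, Submodule.mem_bot] at hu
  rw [hu, map_zero]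
  exact Submodule.zero_mem _

end Groth.Agent.Helper20.GrInj
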