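import Mathlib
import Groth.Agent.Lib.Helper20.GrCx16

open DirectSum

namespace Groth.Agent.Helper20.GrInj

universe u

variable {ι : Type} [AddCommGroup ι] [DecidableEq ι]
variable {R : Type u} [CommRing R]
variable {σ : Type u} [SetLike σ R] [AddSubgroupClass σ R] {𝒜 : ι → σ} [GradedRing 𝒜]
variable {M : Type u} [AddCommGroup M] [Module R M]
variable {τ : Type u} [SetLike τ M] [AddSubgroupClass τ M] (ℳ : ι → τ)

/-- the family of additive subgroups underlying a family of sub-objects -/
def addGr : ι → AddSubgroup M := fun n => AddSubgroup.ofClass (ℳ n)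

omit [AddCommGroup ι] [DecidableEq ι] [Module R M] in
theorem mem_addGr {n : ι} {x : M} : x ∈ addGr ℳ n ↔ x ∈ ℳ n := Iff.rfl

omit [AddCommGroup ι] [Module R M] in
theorem decompose_sum_homog_gen [DirectSum.Decomposition ℳ] (s : Finset ι) (c : ι → M)
    (hc : ∀ i, c i ∈ ℳ i) (j : ι) :
    (decompose ℳ (∑ i ∈ s, c i) j : M) = if j ∈ s then c j else 0 := by
  rw [decompose_sum, DFinsupp.finsetSum_apply, AddSubmonoidClass.coe_finsetSum]
  have : ∀ i ∈ s, ((decompose ℳ (c i)) j : M) = if i = j then c j else 0 := by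
    intro i _
    by_cases hij : i = j
    · subst hij
      rw [if_pos rfl, decompose_of_mem_same ℳ (hc i)]
    · rw [if_neg hij, decompose_of_mem_ne ℳ (hc i) hij]
  rw [Finset.sum_congr rfl this, Finset.sum_ite_eq' s j]

omit [AddCommGroup ι] [Module R M] in
theorem addGr_isInternal [DirectSum.Decomposition ℳ] : DirectSum.IsInternal (addGr ℳ) := by
  classical
  apply isInternal_of
  · intro x
    exact ⟨(decompose ℳ x).support, fun i => (decompose ℳ x i : M), fun i => (decompose ℳ x i).2,
      (sum_support_decompose ℳ x).symm⟩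
  · intro s c hc hsum i hi
    have := decompose_sum_homog_gen ℳ s c hc i
    rw [hsum, if_pos hi, decompose_zero, DirectSum.zero_apply, ZeroMemClass.coe_zero] at this
    exact this.symm

noncomputable instance addGr_decomposition [DirectSum.Decomposition ℳ] :
    DirectSum.Decomposition (addGr ℳ) := (addGr_isInternal ℳ).chooseDecomposition

instance addGr_gradedSMul [SetLike.GradedSMul 𝒜 ℳ] : SetLike.GradedSMul 𝒜 (addGr ℳ) :=
  ⟨fun {_ _} {_} {_} hr hm => SetLike.GradedSMul.smul_mem (A := 𝒜) (B := ℳ) hr hm⟩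

variable {ℳ} [DirectSum.Decomposition ℳ] [SetLike.GradedSMul 𝒜 ℳ]

/-- a *injective resolution of `M` graded by sub-objects, viewed over the underlying family of
additive subgroups -/
def resToAdd (E : GrLC.StarInjRes 𝒜 ℳ) : GrLC.StarInjRes 𝒜 (addGr ℳ) where
  X := E.X
  d := E.d
  ε := E.ε
  d_grHom := E.d_grHom
  ε_grHom := E.ε_grHom
  ε_injective := E.ε_injective
  exact_zero := E.exact_zero
  exact_succ := E.exact_succ
  starInj := E.starInj

theorem resToAdd_Hcomp (E : GrLC.StarInjRes 𝒜 ℳ) (a : HomogeneousIdeal 𝒜) (i : ℕ) (n : ι) :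
    (resToAdd E).Hcomp a i n = E.Hcomp a i n := rfl

end Groth.Agent.Helper20.GrInj
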