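import Mathlib
import Groth.Agent.Lib.Helper20.GrCx14

open DirectSum

namespace Groth.Agent.Helper20.GrInj

universe u

variable {ι : Type} [AddCommGroup ι] [DecidableEq ι]
variable {R : Type u} [CommRing R]
variable {σ : Type u} [SetLike σ R] [AddSubgroupClass σ R] (𝒜 : ι → σ) [GradedRing 𝒜]
variable {M : Type u} [AddCommGroup M] [Module R M] (ℳ : ι → AddSubgroup M)
  [DirectSum.Decomposition ℳ] [SetLike.GradedSMul 𝒜 ℳ]

open scoped Classical in
/-- the components of a product `r • m` -/
theorem decompose_smul_eq_sum (r : R) (m : M) (j : ι) :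
    (decompose ℳ (r • m) j : M) =
      ∑ u ∈ (decompose 𝒜 r).support, (decompose 𝒜 r u : R) • (decompose ℳ m (j - u) : M) := by
  classical
  conv_lhs => rw [← sum_support_decompose 𝒜 r, Finset.sum_smul]
  rw [decompose_sum, DFinsupp.finsetSum_apply, AddSubmonoidClass.coe_finsetSum]
  apply Finset.sum_congr rfl
  intro u _
  have := decompose_smul_of_mem 𝒜 ℳ (decompose 𝒜 r u).2 m (j - u)
  rwa [add_sub_cancel] at this

include 𝒜 in
/-- a submodule spanned by homogeneous elements is homogeneous -/
theorem span_isHomogeneous_of_homog (S : Set M) (hS : ∀ s ∈ S, ∃ g, s ∈ ℳ g) :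
    (Submodule.span R S).IsHomogeneous ℳ := by
  classical
  intro i m hm
  induction hm using Submodule.span_induction generalizing i with
  | mem s hs =>
    obtain ⟨g, hg⟩ := hS s hs
    by_cases hgi : g = i
    · subst hgi
      rw [decompose_of_mem_same ℳ hg]
      exact Submodule.subset_span hs
    · rw [decompose_of_mem_ne ℳ hg hgi]
      exact Submodule.zero_mem _
  | zero =>
    rw [decompose_zero, DirectSum.zero_apply, ZeroMemClass.coe_zero]
    exact Submodule.zero_mem _
  | add x y _ _ hx hy =>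
    rw [decompose_add, DirectSum.add_apply, AddSubgroup.coe_add]
    exact Submodule.add_mem _ (hx i) (hy i)
  | smul c x _ hx =>
    rw [decompose_smul_eq_sum 𝒜 ℳ]
    exact Submodule.sum_mem _ (fun u _ => Submodule.smul_mem _ _ (hx (i - u)))

/-- the product of a homogeneous ideal and a homogeneous submodule is homogeneous -/
theorem smul_isHomogeneous {J : Ideal R} (hJ : J.IsHomogeneous 𝒜) {K : Submodule R M}
    (hK : K.IsHomogeneous ℳ) : (J • K).IsHomogeneous ℳ := by
  classical
  have : J • K = Submodule.span R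
      {s : M | ∃ (u v : ι) (r : R) (k : M), r ∈ J ∧ r ∈ 𝒜 u ∧ k ∈ K ∧ k ∈ ℳ v ∧ s = r • k} := by
    apply le_antisymm
    · rw [Submodule.smul_le]
      intro r hr k hk
      rw [← sum_support_decompose 𝒜 r, Finset.sum_smul]
      refine Submodule.sum_mem _ (fun u _ => ?_)
      rw [← sum_support_decompose ℳ k, Finset.smul_sum]
      refine Submodule.sum_mem _ (fun v _ => ?_)
      exact Submodule.subset_span ⟨u, v, _, _, hJ u hr, (decompose 𝒜 r u).2, hK v hk,
        (decompose ℳ k v).2, rfl⟩
    · rw [Submodule.span_le]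
      rintro _ ⟨u, v, r, k, hr, _, hk, _, rfl⟩
      exact Submodule.smul_mem_smul hr hk
  rw [this]
  apply span_isHomogeneous_of_homog 𝒜 ℳ
  rintro _ ⟨u, v, r, k, _, hru, _, hkv, rfl⟩
  refine ⟨u + v, ?_⟩
  have := SetLike.GradedSMul.smul_mem (A := 𝒜) (B := ℳ) hru hkv
  rwa [vadd_eq_add] at this

section IntGraded

variable {R : Type u} [CommRing R]
variable {σ : Type u} [SetLike σ R] [AddSubgroupClass σ R] (𝒜 : ℤ → σ) [GradedRing 𝒜]
variable {M : Type u} [AddCommGroup M] [Module R M] (ℳ : ℤ → AddSubgroup M)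
  [DirectSum.Decomposition ℳ] [SetLike.GradedSMul 𝒜 ℳ]

/-- **graded Nakayama**: a homogeneous submodule with degrees bounded below which equals its product
with an ideal concentrated in positive degrees is zero -/
theorem eq_bot_of_le_smul_of_bddBelow (J : Ideal R)
    (hJ : ∀ r ∈ J, ∀ u : ℤ, u ≤ 0 → (decompose 𝒜 r u : R) = 0)
    (P : Submodule R M) (hP : P.IsHomogeneous ℳ) (hle : P ≤ J • P) (n₀ : ℤ)
    (hbd : ∀ j < n₀, ∀ p ∈ P, p ∈ ℳ j → p = 0) : P = ⊥ := by
  classical
  have key : ∀ t : ℕ, ∀ j < n₀ + t, ∀ p ∈ P, p ∈ ℳ j → p = 0 := by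
    intro t
    induction t with
    | zero => simpa using hbd
    | succ t ih =>
      intro j hj p hp hpj
      have hcomp : ∀ q ∈ J • P, (decompose ℳ q j : M) = 0 := by
        intro q hq
        refine Submodule.smul_induction_on (p := fun q => (decompose ℳ q j : M) = 0) hq ?_ ?_
        · intro r hr p' hp'
          show (decompose ℳ (r • p') j : M) = 0
          rw [decompose_smul_eq_sum 𝒜 ℳ]
          apply Finset.sum_eq_zero
          intro u _
          by_cases hu : u ≤ 0
          · rw [hJ r hr u hu, zero_smul]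
          · have hlt : j - u < n₀ + t := by push_cast at hj; omega
            rw [ih (j - u) hlt _ (hP (j - u) hp') (decompose ℳ p' (j - u)).2, smul_zero]
        · intro x y hx hy
          show (decompose ℳ (x + y) j : M) = 0
          rw [decompose_add, DirectSum.add_apply, AddSubgroup.coe_add, hx, hy, add_zero]
      rw [← decompose_of_mem_same ℳ hpj]
      exact hcomp p (hle hp)
  by_contra hne
  obtain ⟨g, x, hxP, hxg, hx0⟩ := exists_homog_ne_zero_mem ℳ hP hne
  apply hx0
  refine key (g - n₀ + 1).toNat g ?_ x hxP hxg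
  have := Int.self_le_toNat (g - n₀ + 1)
  omega

/-- a homogeneous Artinian submodule with degrees bounded below is torsion for any homogeneous ideal
concentrated in positive degrees -/
theorem le_gam_of_isArtinian (a : HomogeneousIdeal 𝒜)
    (ha : ∀ r ∈ a.toIdeal, ∀ u : ℤ, u ≤ 0 → (decompose 𝒜 r u : R) = 0)
    (K : Submodule R M) (hK : K.IsHomogeneous ℳ) [IsArtinian R K] (n₀ : ℤ)
    (hbd : ∀ j < n₀, ∀ p ∈ K, p ∈ ℳ j → p = 0) : K ≤ GrLC.gam a.toIdeal M := by
  -- the descending chain `a ^ n • K` stabilises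
  let f : ℕ →o (Submodule R K)ᵒᵈ :=
    ⟨fun n => OrderDual.toDual (Submodule.comap K.subtype (a.toIdeal ^ n • K)), by
      intro n m hnm
      show Submodule.comap K.subtype (a.toIdeal ^ m • K) ≤ Submodule.comap K.subtype (a.toIdeal ^ n • K)
      exact Submodule.comap_mono (Submodule.smul_mono_left (Ideal.pow_le_pow_right hnm))⟩
  obtain ⟨n, hn⟩ := IsArtinian.monotone_stabilizes f
  have hle : ∀ m, a.toIdeal ^ m • K ≤ K := fun m => Submodule.smul_le_right
  have heq : a.toIdeal ^ n • K = a.toIdeal ^ (n + 1) • K := by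
    have h1 : Submodule.comap K.subtype (a.toIdeal ^ n • K) =
        Submodule.comap K.subtype (a.toIdeal ^ (n + 1) • K) := hn (n + 1) (Nat.le_succ n)
    have h2 := congrArg (Submodule.map K.subtype) h1
    rwa [Submodule.map_comap_subtype, Submodule.map_comap_subtype, inf_eq_right.2 (hle n),
      inf_eq_right.2 (hle (n + 1))] at h2
  have hP : (a.toIdeal ^ n • K).IsHomogeneous ℳ :=
    smul_isHomogeneous 𝒜 ℳ (pow_isHomogeneous 𝒜 a n) hK
  have hbot : a.toIdeal ^ n • K = ⊥ := by
    apply eq_bot_of_le_smul_of_bddBelow 𝒜 ℳ a.toIdeal ha _ hP _ n₀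
      (fun j hj p hp hpj => hbd j hj p (hle n hp) hpj)
    conv_lhs => rw [heq, pow_succ', mul_smul]
  intro k hk
  refine ⟨n, fun r hr => ?_⟩
  have : r • k ∈ a.toIdeal ^ n • K := Submodule.smul_mem_smul hr hk
  rw [hbot, Submodule.mem_bot] at this
  exact this

/-- in a positively graded ring, the ideal spanned by the elements of positive degree is
concentrated in positive degrees -/
theorem decompose_eq_zero_of_mem_span_pos (hpos : ∀ n : ℤ, n < 0 → ∀ x ∈ 𝒜 n, x = 0)
    (r : R) (hr : r ∈ Ideal.span {r : R | ∃ n : ℤ, 0 < n ∧ r ∈ 𝒜 n}) (u : ℤ) (hu : u ≤ 0) :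
    (decompose 𝒜 r u : R) = 0 := by
  classical
  induction hr using Submodule.span_induction generalizing u with
  | mem s hs =>
    obtain ⟨n, hn, hsn⟩ := hs
    rw [decompose_of_mem_ne 𝒜 hsn (by omega)]
  | zero => rw [decompose_zero, DirectSum.zero_apply, ZeroMemClass.coe_zero]
  | add x y _ _ hx hy =>
    rw [decompose_add, DirectSum.add_apply, AddMemClass.coe_add, hx u hu, hy u hu, add_zero]
  | smul c x _ hx =>
    rw [smul_eq_mul]
    -- all components of `c` have non-negative degree, those of `x` positive degree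
    have hc : ∀ v : ℤ, v < 0 → (decompose 𝒜 c v : R) = 0 :=
      fun v hv => hpos v hv _ (decompose 𝒜 c v).2
    rw [← sum_support_decompose 𝒜 c, Finset.sum_mul, decompose_sum, DFinsupp.finsetSum_apply,
      AddSubmonoidClass.coe_finsetSum]
    apply Finset.sum_eq_zero
    intro v _
    by_cases hv : v < 0
    · rw [hc v hv, zero_mul, decompose_zero, DirectSum.zero_apply, ZeroMemClass.coe_zero]
    · have := DirectSum.coe_decompose_mul_add_of_left_mem 𝒜 (i := v) (j := u - v)
        (b := x) (decompose 𝒜 c v).2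
      rw [add_sub_cancel] at this
      rw [this]
      rw [hx (u - v) (by omega), mul_zero]

/-- a finitely generated graded module over a positively graded ring has degrees bounded below -/
theorem exists_bddBelow_of_finite (hpos : ∀ n : ℤ, n < 0 → ∀ x ∈ 𝒜 n, x = 0) [Module.Finite R M] :
    ∃ n₀ : ℤ, ∀ j < n₀, ∀ p ∈ ℳ j, p = 0 := by
  classical
  obtain ⟨s, hs⟩ := (Module.finite_def.1 ‹Module.Finite R M› : (⊤ : Submodule R M).FG)
  let S : Finset ℤ := s.biUnion (fun g => (decompose ℳ g).support)
  obtain ⟨n₀, hn₀⟩ : ∃ n₀ : ℤ, ∀ i ∈ S, n₀ ≤ i := by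
    by_cases hS : S.Nonempty
    · exact ⟨S.min' hS, fun i hi => Finset.min'_le S i hi⟩
    · rw [Finset.not_nonempty_iff_eq_empty] at hS
      exact ⟨0, fun i hi => by rw [hS] at hi; simp at hi⟩
  have key : ∀ m : M, ∀ j < n₀, (decompose ℳ m j : M) = 0 := by
    intro m
    have hm : m ∈ Submodule.span R (s : Set M) := by rw [hs]; exact Submodule.mem_top
    induction hm using Submodule.span_induction with
    | mem g hg =>
      intro j hj
      by_contra hne
      have : j ∈ S := by
        rw [Finset.mem_biUnion]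
        refine ⟨g, hg, ?_⟩
        rw [DFinsupp.mem_support_iff]
        intro h0
        apply hne
        rw [h0]; rfl
      have := hn₀ j this
      omega
    | zero =>
      intro j _
      rw [decompose_zero, DirectSum.zero_apply, ZeroMemClass.coe_zero]
    | add x y _ _ hx hy =>
      intro j hj
      rw [decompose_add, DirectSum.add_apply, AddSubgroup.coe_add, hx j hj, hy j hj, add_zero]
    | smul c x _ hx =>
      intro j hj
      rw [decompose_smul_eq_sum 𝒜 ℳ]
      apply Finset.sum_eq_zero
      intro u _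
      by_cases hu : u < 0
      · rw [hpos u hu _ (decompose 𝒜 c u).2, zero_smul]
      · rw [hx (j - u) (by omega), smul_zero]
  refine ⟨n₀, fun j hj p hp => ?_⟩
  rw [← decompose_of_mem_same ℳ hp]
  exact key p j hj

end IntGraded

end Groth.Agent.Helper20.GrInj
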