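import Mathlib
import Groth.Agent.Lib.Helper20.GrCx15

open DirectSum

namespace Groth.Agent.Helper20.GrInj

universe u

section Abstract

variable {R₀ : Type*} [CommRing R₀] {A B C : Type*} [AddCommGroup A] [AddCommGroup B] [AddCommGroup C]
  [Module R₀ A] [Module R₀ B] [Module R₀ C]

/-- a piece squeezed between two finitely generated pieces is finitely generated -/
theorem piece_fg_of_exact [IsNoetherianRing R₀] (f : A →ₗ[R₀] B) (g : B →ₗ[R₀] C)
    (An : Submodule R₀ A) (Bn : Submodule R₀ B) (Cn : Submodule R₀ C)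
    (hg : ∀ y ∈ Bn, g y ∈ Cn) (hex : ∀ y ∈ Bn, g y = 0 → ∃ x ∈ An, f x = y)
    (hA : An.FG) (hC : Cn.FG) : Bn.FG := by
  haveI : IsNoetherian R₀ Cn := isNoetherian_of_fg_of_noetherian Cn hC
  haveI : IsNoetherian R₀ (An.map f) := isNoetherian_of_fg_of_noetherian _ (hA.map f)
  apply Submodule.fg_of_fg_map_of_fg_inf_ker g
  · apply isNoetherian_submodule.1 ‹IsNoetherian R₀ Cn›
    rintro _ ⟨y, hy, rfl⟩
    exact hg y hy
  · apply isNoetherian_submodule.1 ‹IsNoetherian R₀ (An.map f)›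
    rintro y ⟨hy, hy0⟩
    obtain ⟨x, hx, rfl⟩ := hex y hy hy0
    exact ⟨x, hx, rfl⟩

/-- a piece squeezed between two vanishing pieces vanishes -/
theorem piece_eq_bot_of_exact (f : A →ₗ[R₀] B) (g : B →ₗ[R₀] C)
    (An : Submodule R₀ A) (Bn : Submodule R₀ B) (Cn : Submodule R₀ C)
    (hg : ∀ y ∈ Bn, g y ∈ Cn) (hex : ∀ y ∈ Bn, g y = 0 → ∃ x ∈ An, f x = y)
    (hA : An = ⊥) (hC : Cn = ⊥) : Bn = ⊥ := by
  rw [eq_bot_iff]
  intro y hy
  have h1 := hg y hy
  rw [hC, Submodule.mem_bot] at h1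
  obtain ⟨x, hx, rfl⟩ := hex y hy h1
  rw [hA, Submodule.mem_bot] at hx
  rw [hx, map_zero]
  exact Submodule.zero_mem _

end Abstract

variable {ι : Type} [AddCommGroup ι] [DecidableEq ι]
variable {R : Type u} [CommRing R]
variable {σ : Type u} [SetLike σ R] [AddSubgroupClass σ R] {𝒜 : ι → σ} [GradedRing 𝒜]
variable {M : Type u} [AddCommGroup M] [Module R M] {ℳ : ι → AddSubgroup M}
  [DirectSum.Decomposition ℳ] [SetLike.GradedSMul 𝒜 ℳ]

/-- the degree-`n` component of an element of the `R`-span of an `R₀`-submodule of `M_n` lies in it -/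
theorem decompose_mem_of_mem_span (n : ι) (N : Submodule (GrLC.deg0 𝒜) M)
    (hN : ∀ x ∈ N, x ∈ ℳ n) (x : M) (hx : x ∈ Submodule.span R (N : Set M)) :
    (decompose ℳ x n : M) ∈ N := by
  have key : ∀ c : R, (decompose ℳ (c • x) n : M) ∈ N := by
    induction hx using Submodule.span_induction with
    | mem y hy =>
      intro c
      have := decompose_smul_homog_right 𝒜 ℳ (hN y hy) c 0
      rw [zero_add] at this
      rw [this]
      exact N.smul_mem ⟨(decompose 𝒜 c 0 : R), (decompose 𝒜 c 0).2⟩ hy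
    | zero =>
      intro c
      rw [smul_zero, decompose_zero, DirectSum.zero_apply, ZeroMemClass.coe_zero]
      exact N.zero_mem
    | add y z _ _ hy hz =>
      intro c
      rw [smul_add, decompose_add, DirectSum.add_apply, AddMemClass.coe_add]
      exact N.add_mem (hy c) (hz c)
    | smul c' y _ hy =>
      intro c
      rw [smul_smul]
      exact hy (c * c')
  have := key 1
  rwa [one_smul] at this

/-- **pieces of a Noetherian graded module are Noetherian over the degree-zero subring** -/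
theorem comp_isNoetherian [IsNoetherian R M] (n : ι) :
    IsNoetherian (GrLC.deg0 𝒜) (GrLC.comp 𝒜 ℳ n) := by
  rw [isNoetherian_submodule]
  intro N hN
  -- the `R`-span of `N` is finitely generated by a finite subset of `N`
  have hfg : (Submodule.span R (N : Set M)).FG := IsNoetherian.noetherian _
  obtain ⟨s, hsN, hs⟩ := Submodule.fg_span_iff_fg_span_finset_subset (N : Set M) |>.1 hfg
  refine ⟨s, le_antisymm (Submodule.span_le.2 hsN) ?_⟩
  intro x hx
  -- `x` is in the `R`-span of `s`; take degree-`n` components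
  have hxs : x ∈ Submodule.span R (s : Set M) := by
    rw [← hs]; exact Submodule.subset_span hx
  have hsn : ∀ y ∈ Submodule.span (GrLC.deg0 𝒜) (s : Set M), y ∈ ℳ n := by
    intro y hy
    exact hN (Submodule.span_le.2 hsN hy)
  have hspan : Submodule.span R (s : Set M) ≤
      Submodule.span R ((Submodule.span (GrLC.deg0 𝒜) (s : Set M) : Submodule _ M) : Set M) :=
    Submodule.span_mono Submodule.subset_span
  have := decompose_mem_of_mem_span (𝒜 := 𝒜) (ℳ := ℳ) n (Submodule.span (GrLC.deg0 𝒜) (s : Set M)) hsn x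
    (hspan hxs)
  rwa [decompose_of_mem_same ℳ (hN hx)] at this


/-- the degree-zero subring of a Noetherian graded ring is Noetherian -/
theorem deg0_isNoetherianRing [IsNoetherianRing R] : IsNoetherianRing (GrLC.deg0 𝒜) := by
  classical
  letI : DirectSum.Decomposition (fun i => AddSubgroup.ofClass (𝒜 i)) :=
    addGr_decomposition 𝒜
  letI : SetLike.GradedSMul 𝒜 (fun i => AddSubgroup.ofClass (𝒜 i)) :=
    addGr_gradedSMul (𝒜 := 𝒜) 𝒜
  have h := comp_isNoetherian (𝒜 := 𝒜) (ℳ := fun i => AddSubgroup.ofClass (𝒜 i)) (0 : ι)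
  -- `R₀` as a module over itself embeds into the degree-zero piece
  obtain ⟨e, he⟩ : ∃ e : (GrLC.deg0 𝒜) →ₗ[GrLC.deg0 𝒜]
      (GrLC.comp 𝒜 (fun i => AddSubgroup.ofClass (𝒜 i)) (0 : ι)), Function.Injective e := by
    refine ⟨⟨⟨fun r => ⟨(r : R), r.2⟩, fun _ _ => rfl⟩, fun _ _ => rfl⟩, ?_⟩
    intro x y hxy
    exact Subtype.ext (congrArg (fun z : (GrLC.comp 𝒜 (fun i => AddSubgroup.ofClass (𝒜 i)) (0 : ι)) => (z : R)) hxy)
  exact isNoetherian_of_injective e he


/-- the canonical map `Γ_a(M) → H⁰_a(M)` -/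
noncomputable def gamToH (E : GrLC.StarInjRes 𝒜 ℳ) (a : HomogeneousIdeal 𝒜) :
    ↥(GrLC.gam a.toIdeal M) →ₗ[R] E.H a 0 :=
  (E.toH a 0) ∘ₗ (LinearMap.codRestrict (E.cocyc a 0) (E.ε ∘ₗ (GrLC.gam a.toIdeal M).subtype) (by
    intro y
    exact ⟨ChMap.map_gam_lin a.toIdeal E.ε y.2, LinearMap.mem_ker.2 (res_d_ε E y.1)⟩))

/-- every class of degree `n` in `H⁰` comes from a torsion element of degree `n` -/
theorem exists_gamToH_eq (E : GrLC.StarInjRes 𝒜 ℳ) (a : HomogeneousIdeal 𝒜) (n : ι) (x : E.H a 0)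
    (hx : x ∈ E.Hcomp a 0 n) :
    ∃ y : ↥(GrLC.gam a.toIdeal M), (y : M) ∈ ℳ n ∧ gamToH E a y = x := by
  obtain ⟨z, hz, rfl⟩ := hx
  have hzk : (z : (E.X 0).carrier) ∈ LinearMap.ker (E.d 0) := z.2.2
  rw [E.exact_zero] at hzk
  obtain ⟨m, hm⟩ := hzk
  have hmn : m ∈ ℳ n := by
    have h1 := decompose_map ℳ (E.X 0).gr E.ε_grHom m n
    rw [hm, decompose_of_mem_same _ hz, ← hm] at h1
    have h2 := E.ε_injective h1
    rw [h2]
    exact (decompose ℳ m n).2
  have hmg : m ∈ GrLC.gam a.toIdeal M := by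
    obtain ⟨k, hk⟩ := z.2.1
    refine ⟨k, fun r hr => ?_⟩
    apply E.ε_injective
    rw [map_smul, hm, hk r hr, map_zero]
  refine ⟨⟨m, hmg⟩, hmn, ?_⟩
  show E.toH a 0 _ = E.toH a 0 z
  congr 1
  exact Subtype.ext hm

theorem gamToH_mem (E : GrLC.StarInjRes 𝒜 ℳ) (a : HomogeneousIdeal 𝒜) (n : ι)
    (y : ↥(GrLC.gam a.toIdeal M)) (hy : (y : M) ∈ ℳ n) : gamToH E a y ∈ E.Hcomp a 0 n :=
  ⟨_, E.ε_grHom n _ hy, rfl⟩

/-- a piece of `H⁰` vanishes when `M` has no torsion in that degree -/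
theorem Hcomp_zero_eq_bot (E : GrLC.StarInjRes 𝒜 ℳ) (a : HomogeneousIdeal 𝒜) (n : ι)
    (h : ∀ m ∈ ℳ n, m ∈ GrLC.gam a.toIdeal M → m = 0) : E.Hcomp a 0 n = ⊥ := by
  rw [eq_bot_iff]
  intro x hx
  obtain ⟨y, hy, rfl⟩ := exists_gamToH_eq E a n x hx
  have : y = 0 := Subtype.ext (h y.1 hy y.2)
  rw [this, map_zero]
  exact Submodule.zero_mem _

/-- the pieces of `H⁰` of a Noetherian graded module are finitely generated over `R₀` -/
theorem Hcomp_zero_fg [IsNoetherian R M] (E : GrLC.StarInjRes 𝒜 ℳ) (a : HomogeneousIdeal 𝒜)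
    (n : ι) : (E.Hcomp a 0 n).FG := by
  haveI := comp_isNoetherian (𝒜 := 𝒜) (ℳ := ℳ) n
  -- the torsion elements of degree `n`
  let W : Submodule (GrLC.deg0 𝒜) ↥(GrLC.gam a.toIdeal M) :=
    (GrLC.comp 𝒜 ℳ n).comap ((GrLC.gam a.toIdeal M).subtype.restrictScalars (GrLC.deg0 𝒜))
  have hW : W.FG := by
    apply Submodule.fg_of_fg_map_injective
      ((GrLC.gam a.toIdeal M).subtype.restrictScalars (GrLC.deg0 𝒜)) Subtype.val_injective
    apply isNoetherian_submodule.1 ‹IsNoetherian (GrLC.deg0 𝒜) (GrLC.comp 𝒜 ℳ n)›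
    rintro _ ⟨y, hy, rfl⟩
    exact hy
  have heq : E.Hcomp a 0 n = W.map ((gamToH E a).restrictScalars (GrLC.deg0 𝒜)) := by
    apply le_antisymm
    · intro x hx
      obtain ⟨y, hy, rfl⟩ := exists_gamToH_eq E a n x hx
      exact ⟨y, hy, rfl⟩
    · rintro _ ⟨y, hy, rfl⟩
      exact gamToH_mem E a n y hy
  rw [heq]
  exact hW.map _


section ThreeTerm

variable {M' : Type u} [AddCommGroup M'] [Module R M'] {ℳ' : ι → AddSubgroup M'}
  [DirectSum.Decomposition ℳ'] [SetLike.GradedSMul 𝒜 ℳ']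
variable {M'' : Type u} [AddCommGroup M''] [Module R M''] {ℳ'' : ι → AddSubgroup M''}
  [DirectSum.Decomposition ℳ''] [SetLike.GradedSMul 𝒜 ℳ'']
variable {E' : GrLC.StarInjRes 𝒜 ℳ'} {E : GrLC.StarInjRes 𝒜 ℳ} {E'' : GrLC.StarInjRes 𝒜 ℳ''}

/-- exactness on pieces: finite generation -/
theorem Hcomp_fg_of_exact [IsNoetherianRing (GrLC.deg0 𝒜)] (a : HomogeneousIdeal 𝒜) (i j k : ℕ)
    (f : E'.H a i →ₗ[R] E.H a j) (g : E.H a j →ₗ[R] E''.H a k)
    (hf : GrLC.IsGrHom (E'.Hgr a i) (E.Hgr a j) f) (hg : GrLC.IsGrHom (E.Hgr a j) (E''.Hgr a k) g)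
    (hex : LinearMap.range f = LinearMap.ker g) (n : ι)
    (h1 : (E'.Hcomp a i n).FG) (h2 : (E''.Hcomp a k n).FG) : (E.Hcomp a j n).FG := by
  refine piece_fg_of_exact (f.restrictScalars (GrLC.deg0 𝒜)) (g.restrictScalars (GrLC.deg0 𝒜))
    (E'.Hcomp a i n) (E.Hcomp a j n) (E''.Hcomp a k n) (fun y hy => hg n y hy) ?_ h1 h2
  intro y hy hy0
  have hr : y ∈ LinearMap.range f := by
    rw [hex]
    exact hy0
  exact exists_homog_preimage_H (E := E') (F := E) a i j hf hy hr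

/-- exactness on pieces: vanishing -/
theorem Hcomp_eq_bot_of_exact (a : HomogeneousIdeal 𝒜) (i j k : ℕ)
    (f : E'.H a i →ₗ[R] E.H a j) (g : E.H a j →ₗ[R] E''.H a k)
    (hf : GrLC.IsGrHom (E'.Hgr a i) (E.Hgr a j) f) (hg : GrLC.IsGrHom (E.Hgr a j) (E''.Hgr a k) g)
    (hex : LinearMap.range f = LinearMap.ker g) (n : ι)
    (h1 : E'.Hcomp a i n = ⊥) (h2 : E''.Hcomp a k n = ⊥) : E.Hcomp a j n = ⊥ := by
  refine piece_eq_bot_of_exact (f.restrictScalars (GrLC.deg0 𝒜)) (g.restrictScalars (GrLC.deg0 𝒜))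
    (E'.Hcomp a i n) (E.Hcomp a j n) (E''.Hcomp a k n) (fun y hy => hg n y hy) ?_ h1 h2
  intro y hy hy0
  have hr : y ∈ LinearMap.range f := by
    rw [hex]
    exact hy0
  exact exists_homog_preimage_H (E := E') (F := E) a i j hf hy hr

/-- injective graded maps reflect finite generation of pieces -/
theorem Hcomp_fg_of_injective [IsNoetherianRing (GrLC.deg0 𝒜)] (a : HomogeneousIdeal 𝒜) (j k : ℕ)
    (g : E.H a j →ₗ[R] E''.H a k) (hg : GrLC.IsGrHom (E.Hgr a j) (E''.Hgr a k) g)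
    (hinj : Function.Injective g) (n : ι) (h2 : (E''.Hcomp a k n).FG) : (E.Hcomp a j n).FG := by
  refine piece_fg_of_exact (0 : E.H a j →ₗ[GrLC.deg0 𝒜] E.H a j) (g.restrictScalars (GrLC.deg0 𝒜))
    ⊥ (E.Hcomp a j n) (E''.Hcomp a k n) (fun y hy => hg n y hy) ?_ Submodule.fg_bot h2
  intro y _ hy0
  refine ⟨0, Submodule.zero_mem _, ?_⟩
  rw [map_zero]
  exact (hinj (hy0.trans (map_zero g).symm)).symm

/-- injective graded maps reflect vanishing of pieces -/
theorem Hcomp_eq_bot_of_injective (a : HomogeneousIdeal 𝒜) (j k : ℕ)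
    (g : E.H a j →ₗ[R] E''.H a k) (hg : GrLC.IsGrHom (E.Hgr a j) (E''.Hgr a k) g)
    (hinj : Function.Injective g) (n : ι) (h2 : E''.Hcomp a k n = ⊥) : E.Hcomp a j n = ⊥ := by
  rw [eq_bot_iff]
  intro y hy
  have h1 := hg n y hy
  change g y ∈ E''.Hcomp a k n at h1
  rw [h2, Submodule.mem_bot] at h1
  rw [Submodule.mem_bot]
  exact hinj (h1.trans (map_zero g).symm)

/-- surjective graded maps preserve finite generation of pieces -/
theorem Hcomp_fg_of_surjective (a : HomogeneousIdeal 𝒜) (i j : ℕ)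
    (f : E'.H a i →ₗ[R] E.H a j) (hf : GrLC.IsGrHom (E'.Hgr a i) (E.Hgr a j) f)
    (hsurj : Function.Surjective f) (n : ι) (h1 : (E'.Hcomp a i n).FG) : (E.Hcomp a j n).FG := by
  have heq : E.Hcomp a j n = (E'.Hcomp a i n).map (f.restrictScalars (GrLC.deg0 𝒜)) := by
    apply le_antisymm
    · intro y hy
      obtain ⟨x, hx, rfl⟩ := exists_homog_preimage_H (E := E') (F := E) a i j hf hy
        (LinearMap.range_eq_top.2 hsurj ▸ Submodule.mem_top)
      exact ⟨x, hx, rfl⟩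
    · rintro _ ⟨x, hx, rfl⟩
      exact hf n x hx
  rw [heq]
  exact h1.map _

/-- surjective graded maps preserve vanishing of pieces -/
theorem Hcomp_eq_bot_of_surjective (a : HomogeneousIdeal 𝒜) (i j : ℕ)
    (f : E'.H a i →ₗ[R] E.H a j) (hf : GrLC.IsGrHom (E'.Hgr a i) (E.Hgr a j) f)
    (hsurj : Function.Surjective f) (n : ι) (h1 : E'.Hcomp a i n = ⊥) : E.Hcomp a j n = ⊥ := by
  rw [eq_bot_iff]
  intro y hy
  obtain ⟨x, hx, rfl⟩ := exists_homog_preimage_H (E := E') (F := E) a i j hf hy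
    (LinearMap.range_eq_top.2 hsurj ▸ Submodule.mem_top)
  rw [h1, Submodule.mem_bot] at hx
  rw [hx, map_zero]
  exact Submodule.zero_mem _

end ThreeTerm

/-- vanishing of a piece does not depend on the resolution -/
theorem Hcomp_eq_bot_of_res (E E' : GrLC.StarInjRes 𝒜 ℳ) (a : HomogeneousIdeal 𝒜) (i : ℕ) (n : ι)
    (h : E.Hcomp a i n = ⊥) : E'.Hcomp a i n = ⊥ := by
  have hidgr : GrLC.IsGrHom ℳ ℳ (LinearEquiv.refl R M).toLinearMap := fun _ _ h => h
  let c := liftCh E' E (LinearEquiv.refl R M).toLinearMap hidgr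
  have hb := Hmap_bijective_of_equiv E' E (LinearEquiv.refl R M) hidgr c
    (liftCh_isGr _ _ _ hidgr) (liftCh_lifts _ _ _ hidgr) a i
  exact Hcomp_eq_bot_of_injective a i i (c.Hmap a i) (ChMap.Hmap_isGr (liftCh_isGr _ _ _ hidgr) a i)
    hb.1 n h

/-- finite generation of a piece does not depend on the resolution -/
theorem Hcomp_fg_of_res (E E' : GrLC.StarInjRes 𝒜 ℳ) (a : HomogeneousIdeal 𝒜) (i : ℕ) (n : ι)
    (h : (E.Hcomp a i n).FG) : (E'.Hcomp a i n).FG := by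
  have hidgr : GrLC.IsGrHom ℳ ℳ (LinearEquiv.refl R M).toLinearMap := fun _ _ h => h
  let c := liftCh E E' (LinearEquiv.refl R M).toLinearMap hidgr
  have hb := Hmap_bijective_of_equiv E E' (LinearEquiv.refl R M) hidgr c
    (liftCh_isGr _ _ _ hidgr) (liftCh_lifts _ _ _ hidgr) a i
  exact Hcomp_fg_of_surjective a i i (c.Hmap a i) (ChMap.Hmap_isGr (liftCh_isGr _ _ _ hidgr) a i)
    hb.2 n h

end Groth.Agent.Helper20.GrInj
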