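import Mathlib
import Groth.Agent.Lib.Helper20.GrIrr1

open DirectSum

namespace Groth.Agent.Helper20.GrInj

universe u

variable {R : Type u} [CommRing R]
variable {σ : Type u} [SetLike σ R] [AddSubgroupClass σ R] (𝒜 : ℤ → σ) [GradedRing 𝒜]
variable {M : Type u} [AddCommGroup M] [Module R M] (ℳ : ℤ → AddSubgroup M)
  [DirectSum.Decomposition ℳ] [SetLike.GradedSMul 𝒜 ℳ]

/-- homogeneous elements of high degree of a finitely generated homogeneous submodule `T` over a
positively graded ring lie in `R₊ T` -/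
theorem exists_piece_le_smul (hpos : ∀ n : ℤ, n < 0 → ∀ x ∈ 𝒜 n, x = 0)
    (J : Ideal R) (hJ : ∀ n : ℤ, 0 < n → ∀ x ∈ 𝒜 n, x ∈ J)
    (T : Submodule R M) (hT : T.IsHomogeneous ℳ) (hfg : T.FG) :
    ∃ n₁ : ℤ, ∀ n > n₁, ∀ x ∈ T, (decompose ℳ x n : M) ∈ J • T := by
  classical
  obtain ⟨s, hs⟩ := hfg
  let S : Finset ℤ := s.biUnion (fun g => (decompose ℳ g).support)
  obtain ⟨n₁, hn₁⟩ : ∃ n₁ : ℤ, ∀ i ∈ S, i ≤ n₁ := by
    by_cases hS : S.Nonempty
    · exact ⟨S.max' hS, fun i hi => Finset.le_max' S i hi⟩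
    · rw [Finset.not_nonempty_iff_eq_empty] at hS
      exact ⟨0, fun i hi => by rw [hS] at hi; simp at hi⟩
  refine ⟨n₁, fun n hn x hx => ?_⟩
  rw [← hs] at hx
  induction hx using Submodule.span_induction generalizing n with
  | mem g hg =>
    have : (decompose ℳ g n : M) = 0 := by
      by_contra hne
      have : n ∈ S := by
        rw [Finset.mem_biUnion]
        refine ⟨g, hg, ?_⟩
        rw [DFinsupp.mem_support_iff]
        intro h0
        apply hne
        rw [h0]; rfl
      have := hn₁ n this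
      omega
    rw [this]
    exact Submodule.zero_mem _
  | zero =>
    rw [decompose_zero, DirectSum.zero_apply, ZeroMemClass.coe_zero]
    exact Submodule.zero_mem _
  | add x y _ _ hx hy =>
    rw [decompose_add, DirectSum.add_apply, AddSubgroup.coe_add]
    exact Submodule.add_mem _ (hx n hn) (hy n hn)
  | smul c x hxs hx =>
    rw [decompose_smul_eq_sum 𝒜 ℳ]
    apply Submodule.sum_mem
    intro u _
    rcases lt_trichotomy u 0 with hu | hu | hu
    · rw [hpos u hu _ (decompose 𝒜 c u).2, zero_smul]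
      exact Submodule.zero_mem _
    · subst hu
      rw [sub_zero]
      exact Submodule.smul_mem _ _ (hx n hn)
    · apply Submodule.smul_mem_smul (hJ u hu _ (decompose 𝒜 c u).2)
      rw [hs] at hxs
      exact hT _ hxs

/-- a homogeneous submodule of a Noetherian graded module over a positively graded ring which is
killed by a power of `R₊` vanishes in high degrees -/
theorem exists_piece_eq_zero_of_pow_smul_eq_bot [IsNoetherian R M]
    (hpos : ∀ n : ℤ, n < 0 → ∀ x ∈ 𝒜 n, x = 0)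
    (J : Ideal R) (hJhom : J.IsHomogeneous 𝒜) (hJ : ∀ n : ℤ, 0 < n → ∀ x ∈ 𝒜 n, x ∈ J) :
    ∀ (t : ℕ) (T : Submodule R M), T.IsHomogeneous ℳ → J ^ t • T = ⊥ →
      ∃ r : ℤ, ∀ n ≥ r, ∀ m ∈ ℳ n, m ∈ T → m = 0 := by
  intro t
  induction t with
  | zero =>
    intro T _ h
    rw [pow_zero, Ideal.one_eq_top, Submodule.top_smul] at h
    refine ⟨0, fun n _ m _ hm => ?_⟩
    rw [h, Submodule.mem_bot] at hm
    exact hm
  | succ t ih =>
    intro T hT h
    rw [pow_succ, Submodule.mul_smul] at h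
    obtain ⟨r₁, hr₁⟩ := ih (J • T) (smul_isHomogeneous 𝒜 ℳ hJhom hT) h
    obtain ⟨n₁, hn₁⟩ := exists_piece_le_smul 𝒜 ℳ hpos J hJ T hT (IsNoetherian.noetherian T)
    refine ⟨max r₁ (n₁ + 1), fun n hn m hm hmT => ?_⟩
    have h1 := hn₁ n (by have := le_max_right r₁ (n₁ + 1); omega) m hmT
    rw [decompose_of_mem_same ℳ hm] at h1
    exact hr₁ n (le_trans (le_max_left _ _) hn) m hm h1

/-- the `R₊`-torsion of a Noetherian graded module over a positively graded ring vanishes in high
degrees -/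
theorem exists_gam_piece_eq_zero [IsNoetherian R M]
    (hpos : ∀ n : ℤ, n < 0 → ∀ x ∈ 𝒜 n, x = 0)
    (a : HomogeneousIdeal 𝒜) (ha : ∀ n : ℤ, 0 < n → ∀ x ∈ 𝒜 n, x ∈ a.toIdeal) :
    ∃ r : ℤ, ∀ n ≥ r, ∀ m ∈ ℳ n, m ∈ GrLC.gam a.toIdeal M → m = 0 := by
  obtain ⟨t, ht⟩ := exists_pow_smul_eq_zero_of_fg a.toIdeal
    (IsNoetherian.noetherian (GrLC.gam a.toIdeal M)) le_rfl
  apply exists_piece_eq_zero_of_pow_smul_eq_bot 𝒜 ℳ hpos a.toIdeal a.isHomogeneous ha t
    (GrLC.gam a.toIdeal M) (gam_isHomogeneous 𝒜 ℳ a)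
  rw [eq_bot_iff, Submodule.smul_le]
  intro r hr k hk
  rw [Submodule.mem_bot]
  exact ht r hr k hk


/-- a homogeneous ideal not contained in an ideal `q` has a homogeneous element outside `q` -/
theorem exists_homog_mem_notMem {p q : Ideal R} (hp : p.IsHomogeneous 𝒜) (hpq : ¬ p ≤ q) :
    ∃ (d : ℤ) (z : R), z ∈ 𝒜 d ∧ z ∈ p ∧ z ∉ q := by
  classical
  obtain ⟨j, hjp, hjq⟩ := Set.not_subset.1 hpq
  by_contra hcon
  push Not at hcon
  apply hjq
  rw [← sum_support_decompose 𝒜 j]
  exact Ideal.sum_mem _ (fun i _ => hcon i _ (decompose 𝒜 j i).2 (hp i hjp))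

/-- a homogeneous element outside all of finitely many prime ideals but inside `q`… auxiliary:
a homogeneous element of nonnegative degree lying in all the homogeneous ideals of `S` not contained
in the prime `q`, but not in `q` -/
theorem exists_homog_mem_all_notMem (hpos : ∀ n : ℤ, n < 0 → ∀ x ∈ 𝒜 n, x = 0)
    (q : Ideal R) [q.IsPrime] (S : Finset (Ideal R))
    (hS : ∀ p ∈ S, p.IsHomogeneous 𝒜 ∧ ¬ p ≤ q) :
    ∃ (d : ℤ) (z : R), 0 ≤ d ∧ z ∈ 𝒜 d ∧ z ∉ q ∧ ∀ p ∈ S, z ∈ p := by
  classical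
  induction S using Finset.induction_on with
  | empty =>
    exact ⟨0, 1, le_rfl, SetLike.GradedOne.one_mem, fun h => (‹q.IsPrime›.ne_top)
      ((Ideal.eq_top_iff_one q).2 h), fun p hp => by simp at hp⟩
  | insert p S hpS ih =>
    obtain ⟨d, z, hd, hz, hzq, hzS⟩ := ih (fun p' hp' => hS p' (Finset.mem_insert_of_mem hp'))
    obtain ⟨hphom, hpq⟩ := hS p (Finset.mem_insert_self p S)
    obtain ⟨e, w, hw, hwp, hwq⟩ := exists_homog_mem_notMem 𝒜 hphom hpq
    have he : 0 ≤ e := by
      by_contra hneg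
      push Not at hneg
      apply hwq
      rw [hpos e hneg w hw]
      exact Ideal.zero_mem _
    refine ⟨d + e, z * w, by omega, SetLike.GradedMul.mul_mem hz hw, ?_, ?_⟩
    · intro h
      rcases ‹q.IsPrime›.mem_or_mem h with h | h
      · exact hzq h
      · exact hwq h
    · intro p' hp'
      rw [Finset.mem_insert] at hp'
      rcases hp' with rfl | hp'
      · exact Ideal.mul_mem_left _ _ hwp
      · exact Ideal.mul_mem_right _ _ (hzS p' hp')

/-- **Homogeneous prime avoidance** for an ideal generated in positive degrees of a positively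
graded ring: if `a` is contained in none of finitely many homogeneous primes, some homogeneous
element of `a` of positive degree avoids all of them. -/
theorem exists_homog_pos_notMem (hpos : ∀ n : ℤ, n < 0 → ∀ x ∈ 𝒜 n, x = 0)
    (a : Ideal R) (ha : ∀ n : ℤ, 0 < n → ∀ x ∈ 𝒜 n, x ∈ a)
    (hagen : ∀ q : Ideal R, (∀ n : ℤ, 0 < n → ∀ x ∈ 𝒜 n, x ∈ q) → a ≤ q)
    (S : Finset (Ideal R)) (hS : ∀ p ∈ S, p.IsPrime ∧ p.IsHomogeneous 𝒜 ∧ ¬ a ≤ p) :
    ∃ (g : ℤ) (x : R), 0 < g ∧ x ∈ 𝒜 g ∧ x ∈ a ∧ ∀ p ∈ S, x ∉ p := by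
  classical
  induction S using Finset.induction_on with
  | empty =>
    exact ⟨1, 0, one_pos, zero_mem _, Ideal.zero_mem _, fun p hp => by simp at hp⟩
  | insert q S hqS ih =>
    obtain ⟨g, y, hg, hy, hya, hyS⟩ := ih (fun p' hp' => hS p' (Finset.mem_insert_of_mem hp'))
    obtain ⟨hqprime, -, hqa⟩ := hS q (Finset.mem_insert_self q S)
    haveI := hqprime
    by_cases hyq : y ∉ q
    · refine ⟨g, y, hg, hy, hya, fun p hp => ?_⟩
      rw [Finset.mem_insert] at hp
      rcases hp with rfl | hp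
      · exact hyq
      · exact hyS p hp
    push Not at hyq
    -- a homogeneous element of `a` of positive degree outside `q`
    obtain ⟨n, u, hn, hu, huq⟩ : ∃ (n : ℤ) (u : R), 0 < n ∧ u ∈ 𝒜 n ∧ u ∉ q := by
      by_contra hcon
      push Not at hcon
      exact hqa (hagen q (fun n hn x hx => hcon n x hn hx))
    -- a homogeneous element in all the `p ∈ S` not inside `q`, outside `q`
    obtain ⟨d, z, hd, hz, hzq, hzS⟩ := exists_homog_mem_all_notMem 𝒜 hpos q
      (S.filter (fun p => ¬ p ≤ q)) (fun p hp => by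
        rw [Finset.mem_filter] at hp
        exact ⟨(hS p (Finset.mem_insert_of_mem hp.1)).2.1, hp.2⟩)
    -- `w = u z` has positive degree `e`
    set w := u * z with hwdef
    set e := n + d with hedef
    have he : 0 < e := by omega
    have hw : w ∈ 𝒜 e := SetLike.GradedMul.mul_mem hu hz
    have hwq : w ∉ q := by
      intro h
      rcases hqprime.mem_or_mem h with h | h
      · exact huq h
      · exact hzq h
    have hwa : w ∈ a := Ideal.mul_mem_right _ _ (ha n hn u hu)
    -- the element `y ^ e + w ^ g`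
    have hdeg1 : y ^ e.toNat ∈ 𝒜 (e * g) := by
      have := SetLike.pow_mem_graded e.toNat hy
      rwa [nsmul_eq_mul, Int.toNat_of_nonneg he.le] at this
    have hdeg2 : w ^ g.toNat ∈ 𝒜 (e * g) := by
      have := SetLike.pow_mem_graded g.toNat hw
      rwa [nsmul_eq_mul, Int.toNat_of_nonneg hg.le, mul_comm] at this
    have he1 : e.toNat ≠ 0 := by omega
    have hg1 : g.toNat ≠ 0 := by omega
    refine ⟨e * g, y ^ e.toNat + w ^ g.toNat, mul_pos he hg, add_mem hdeg1 hdeg2,
      Ideal.add_mem _ (Ideal.pow_mem_of_mem _ hya _ (Nat.pos_of_ne_zero he1))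
        (Ideal.pow_mem_of_mem _ hwa _ (Nat.pos_of_ne_zero hg1)), ?_⟩
    have hxq : y ^ e.toNat + w ^ g.toNat ∉ q := by
      intro h
      have h1 : y ^ e.toNat ∈ q := Ideal.pow_mem_of_mem _ hyq _ (Nat.pos_of_ne_zero he1)
      have h2 : w ^ g.toNat ∈ q := (Ideal.add_mem_iff_right _ h1).1 h
      exact hwq (hqprime.mem_of_pow_mem _ h2)
    intro p hp
    rw [Finset.mem_insert] at hp
    rcases hp with rfl | hp
    · exact hxq
    · by_cases hpq : p ≤ q
      · exact fun h => hxq (hpq h)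
      · have hpprime := (hS p (Finset.mem_insert_of_mem hp)).1
        have hzp : z ∈ p := hzS p (Finset.mem_filter.2 ⟨hp, hpq⟩)
        have hwp : w ∈ p := Ideal.mul_mem_left _ _ hzp
        intro h
        have h2 : w ^ g.toNat ∈ p := Ideal.pow_mem_of_mem _ hwp _ (Nat.pos_of_ne_zero hg1)
        have h1 : y ^ e.toNat ∈ p := (Ideal.add_mem_iff_left _ h2).1 h
        exact hyS p hp (hpprime.mem_of_pow_mem _ h1)


theorem annihilator_span_singleton_isHomogeneous_int {g : ℤ} {m : M} (hm : m ∈ ℳ g) :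
    ((R ∙ m).annihilator).IsHomogeneous 𝒜 := by
  intro h r hr
  rw [Submodule.mem_annihilator_span_singleton] at hr ⊢
  rw [← decompose_smul_homog_right 𝒜 ℳ hm r h, hr, decompose_zero]
  rfl

include 𝒜 in
/-- the annihilator of a nonzero homogeneous element is contained in a prime annihilator of a
nonzero homogeneous element -/
theorem exists_homog_annihilator_isPrime_ge [IsNoetherianRing R] {g : ℤ} {m : M} (hm : m ∈ ℳ g)
    (hm0 : m ≠ 0) :
    ∃ (g' : ℤ) (m' : M), m' ∈ ℳ g' ∧ m' ≠ 0 ∧ (R ∙ m).annihilator ≤ (R ∙ m').annihilator ∧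
      ((R ∙ m').annihilator).IsPrime := by
  classical
  let S : Set (Ideal R) := {J | ∃ (g' : ℤ) (m' : M), m' ∈ ℳ g' ∧ m' ≠ 0 ∧
    (R ∙ m).annihilator ≤ J ∧ J = (R ∙ m').annihilator}
  have hSne : S.Nonempty := ⟨_, g, m, hm, hm0, le_rfl, rfl⟩
  obtain ⟨J, hJS, hJmax⟩ := set_has_maximal_iff_noetherian.2 (inferInstance : IsNoetherian R R) S hSne
  obtain ⟨g₀, m', hm', hm'0, hle, rfl⟩ := hJS
  refine ⟨g₀, m', hm', hm'0, hle, ?_⟩
  apply Ideal.IsHomogeneous.isPrime_of_homogeneous_mem_or_mem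
    (annihilator_span_singleton_isHomogeneous_int 𝒜 ℳ hm')
  · intro htop
    apply hm'0
    have : (1 : R) ∈ (R ∙ m').annihilator := by rw [htop]; exact Submodule.mem_top
    rw [Submodule.mem_annihilator_span_singleton, one_smul] at this
    exact this
  · rintro a b ⟨i, ha⟩ ⟨j, hb⟩ hab
    by_cases hbm : b • m' = 0
    · right
      rw [Submodule.mem_annihilator_span_singleton]
      exact hbm
    · left
      have hbm' : b • m' ∈ ℳ (j + g₀) := by
        have := SetLike.GradedSMul.smul_mem (A := 𝒜) (B := ℳ) hb hm'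
        rwa [vadd_eq_add] at this
      have hle' : (R ∙ m').annihilator ≤ (R ∙ (b • m')).annihilator := by
        intro r hr
        rw [Submodule.mem_annihilator_span_singleton] at hr ⊢
        rw [smul_comm, hr, smul_zero]
      have hnlt := hJmax (R ∙ (b • m')).annihilator ⟨j + g₀, b • m', hbm', hbm, hle.trans hle', rfl⟩
      have heq : (R ∙ m').annihilator = (R ∙ (b • m')).annihilator := by
        by_contra hne
        exact hnlt (lt_of_le_of_ne hle' hne)
      rw [heq, Submodule.mem_annihilator_span_singleton, smul_smul]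
      rw [Submodule.mem_annihilator_span_singleton] at hab
      exact hab

include ℳ in
/-- **Existence of a homogeneous regular element of positive degree**: over a Noetherian positively
graded ring, a finitely generated graded module without `R₊`-torsion admits a homogeneous
non-zero-divisor of positive degree in `R₊`. -/
theorem exists_homog_regular [IsNoetherianRing R] [Module.Finite R M]
    (hpos : ∀ n : ℤ, n < 0 → ∀ x ∈ 𝒜 n, x = 0)
    (a : HomogeneousIdeal 𝒜) (ha : ∀ n : ℤ, 0 < n → ∀ x ∈ 𝒜 n, x ∈ a.toIdeal)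
    (hagen : ∀ q : Ideal R, (∀ n : ℤ, 0 < n → ∀ x ∈ 𝒜 n, x ∈ q) → a.toIdeal ≤ q)
    (hΓ : ∀ m ∈ GrLC.gam a.toIdeal M, m = 0) :
    ∃ (g : ℤ) (x : R), 0 < g ∧ x ∈ 𝒜 g ∧ x ∈ a.toIdeal ∧ ∀ m : M, x • m = 0 → m = 0 := by
  classical
  let P : Finset (Ideal R) :=
    (associatedPrimes.finite (A := R) (M := M)).toFinset.filter (fun p => p.IsHomogeneous 𝒜)
  have hP : ∀ p ∈ P, p.IsPrime ∧ p.IsHomogeneous 𝒜 ∧ ¬ a.toIdeal ≤ p := by
    intro p hp
    rw [Finset.mem_filter, Set.Finite.mem_toFinset] at hp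
    obtain ⟨hass, hhom⟩ := hp
    have hass' : IsAssociatedPrime p M := hass
    rw [isAssociatedPrime_iff] at hass'
    obtain ⟨hprime, x, hx⟩ := hass'
    refine ⟨hprime, hhom, fun hle => ?_⟩
    have hxg : x ∈ GrLC.gam a.toIdeal M := by
      refine ⟨1, fun r hr => ?_⟩
      rw [pow_one] at hr
      have := hle hr
      rw [hx, Submodule.mem_colon_singleton, Submodule.mem_bot] at this
      exact this
    have hx0 := hΓ x hxg
    apply hprime.ne_top
    rw [Ideal.eq_top_iff_one, hx, Submodule.mem_colon_singleton, hx0, smul_zero]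
    exact Submodule.zero_mem _
  obtain ⟨g, x, hg, hx, hxa, hxP⟩ := exists_homog_pos_notMem 𝒜 hpos a.toIdeal ha hagen P hP
  refine ⟨g, x, hg, hx, hxa, ?_⟩
  intro m hm
  by_contra hm0
  have hK : (LinearMap.ker (LinearMap.lsmul R M x)).IsHomogeneous ℳ := ker_lsmul_isHomogeneous hx
  have hKne : LinearMap.ker (LinearMap.lsmul R M x) ≠ ⊥ := by
    intro h
    have : m ∈ LinearMap.ker (LinearMap.lsmul R M x) := hm
    rw [h, Submodule.mem_bot] at this
    exact hm0 this
  obtain ⟨g₁, m₁, hm₁K, hm₁, hm₁0⟩ := exists_homog_ne_zero_mem ℳ hK hKne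
  obtain ⟨g', m', hm', hm'0, hle, hprime⟩ := exists_homog_annihilator_isPrime_ge 𝒜 ℳ hm₁ hm₁0
  have hxann : x ∈ (R ∙ m').annihilator := by
    apply hle
    rw [Submodule.mem_annihilator_span_singleton]
    exact hm₁K
  have hmem : (R ∙ m').annihilator ∈ P := by
    rw [Finset.mem_filter, Set.Finite.mem_toFinset]
    refine ⟨?_, annihilator_span_singleton_isHomogeneous_int 𝒜 ℳ hm'⟩
    show IsAssociatedPrime _ M
    rw [isAssociatedPrime_iff]
    refine ⟨hprime, m', ?_⟩
    ext r
    rw [Submodule.mem_annihilator_span_singleton, Submodule.mem_colon_singleton, Submodule.mem_bot]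
  exact hxP _ hmem hxann

end Groth.Agent.Helper20.GrInj
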