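import Mathlib
import Groth.Agent.Lib.Helper20.GrIrr2

open DirectSum

namespace Groth.Agent.Helper20.GrInj

universe u

section General

variable {ι : Type} [AddCommGroup ι] [DecidableEq ι]
variable {R : Type u} [CommRing R]
variable {σ : Type u} [SetLike σ R] [AddSubgroupClass σ R] {𝒜 : ι → σ} [GradedRing 𝒜]
variable {M : Type u} [AddCommGroup M] [Module R M] {ℳ : ι → AddSubgroup M}
  [DirectSum.Decomposition ℳ] [SetLike.GradedSMul 𝒜 ℳ]
variable {N : Type u} [AddCommGroup N] [Module R N] {𝒩 : ι → AddSubgroup N}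
  [DirectSum.Decomposition 𝒩] [SetLike.GradedSMul 𝒜 𝒩]

/-- a piece of the cohomology of the shifted resolution -/
theorem mem_resShift_Hcomp_neg (E : GrLC.StarInjRes 𝒜 ℳ) (g : ι) (a : HomogeneousIdeal 𝒜) (i : ℕ)
    (m : ι) (w : E.H a i) :
    (w : (resShift E (-g)).H a i) ∈ (resShift E (-g)).Hcomp a i (m + g) ↔ w ∈ E.Hcomp a i m := by
  rw [mem_resShift_Hcomp, add_neg_cancel_right]

/-- multiplication by a homogeneous element of degree `g` raises the degree of a class by `g` -/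
theorem smul_mem_Hcomp (E : GrLC.StarInjRes 𝒜 ℳ) (a : HomogeneousIdeal 𝒜) (i : ℕ) {g : ι} {x : R}
    (hx : x ∈ 𝒜 g) {m : ι} {w : E.H a i} (hw : w ∈ E.Hcomp a i m) : x • w ∈ E.Hcomp a i (m + g) := by
  have h1 : (w : (resShift E (-g)).H a i) ∈ (resShift E (-g)).Hcomp a i (m + g) :=
    (mem_resShift_Hcomp_neg E g a i m w).2 hw
  have h2 := ChMap.Hmap_isGr (smulCh_isGr E hx) a i (m + g) w h1
  have h3 : (smulCh E (g := g) x).Hmap a i w = x • w := smulCh_Hmap E (g := g) x a i w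
  rw [← h3]
  exact h2

/-- the map on `H^{j+1}` induced by a surjection with torsion kernel is injective -/
theorem Hmap_injective_of_torsion_ker [IsNoetherianRing R] (a : HomogeneousIdeal 𝒜)
    (β : M →ₗ[R] N) (hβ : Function.Surjective β) (hβg : GrLC.IsGrHom ℳ 𝒩 β)
    (hK : LinearMap.ker β ≤ GrLC.gam a.toIdeal M)
    (E : GrLC.StarInjRes 𝒜 ℳ) (Ē : GrLC.StarInjRes 𝒜 𝒩) (B : ChMap E Ē) (hBgr : B.IsGr)
    (hB : B.Lifts β) (j : ℕ) : Function.Injective (B.Hmap a (j + 1)) := by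
  have hKhom : (LinearMap.ker β).IsHomogeneous ℳ := ker_isHomogeneous ℳ 𝒩 hβg
  let EK := starInjRes 𝒜 (subGMod ℳ 𝒜 (LinearMap.ker β) hKhom).gr
  have hKtors : GrLC.gam a.toIdeal (subGMod ℳ 𝒜 (LinearMap.ker β) hKhom).carrier = ⊤ := by
    rw [eq_top_iff]
    intro y _
    obtain ⟨k, hk⟩ := hK (subVal_mem 𝒜 ℳ (LinearMap.ker β) hKhom y)
    refine ⟨k, fun r hr => ?_⟩
    apply subVal_injective 𝒜 ℳ (LinearMap.ker β) hKhom
    rw [map_smul, hk r hr, map_zero]
  have hex : LinearMap.range (subVal 𝒜 ℳ (LinearMap.ker β) hKhom) = LinearMap.ker β :=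
    subVal_range 𝒜 ℳ (LinearMap.ker β) hKhom
  let A := liftCh EK E (subVal 𝒜 ℳ (LinearMap.ker β) hKhom) (subVal_grHom 𝒜 ℳ (LinearMap.ker β) hKhom)
  obtain ⟨_, hmid, _⟩ := exists_les EK E Ē (subVal 𝒜 ℳ (LinearMap.ker β) hKhom) β
    (subVal_grHom 𝒜 ℳ (LinearMap.ker β) hKhom) (subVal_injective 𝒜 ℳ (LinearMap.ker β) hKhom) hex hβ
    A (liftCh_isGr _ _ _ _) (liftCh_lifts _ _ _ _) B hBgr hB a
  haveI : Subsingleton (EK.H a (j + 1)) :=
    H_subsingleton_of_gam_eq_top a j (subGMod ℳ 𝒜 (LinearMap.ker β) hKhom).gr hKtors EK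
  rw [← LinearMap.ker_eq_bot, ← hmid (j + 1), eq_bot_iff]
  rintro _ ⟨y, rfl⟩
  rw [Subsingleton.elim y 0, map_zero]
  exact Submodule.zero_mem _

end General

section IntGraded

variable {R : Type u} [CommRing R]
variable {σ : Type u} [SetLike σ R] [AddSubgroupClass σ R] {𝒜 : ℤ → σ} [GradedRing 𝒜]
variable {M : Type u} [AddCommGroup M] [Module R M] {ℳ : ℤ → AddSubgroup M}
  [DirectSum.Decomposition ℳ] [SetLike.GradedSMul 𝒜 ℳ]
variable {N : Type u} [AddCommGroup N] [Module R N] {𝒩 : ℤ → AddSubgroup N}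
  [DirectSum.Decomposition 𝒩] [SetLike.GradedSMul 𝒜 𝒩]

/-- the part of the long exact sequence of `0 → M(-g) → M → M/xM → 0` used below -/
theorem exists_delta_of_regular (a : HomogeneousIdeal 𝒜) {g : ℤ} {x : R} (hx : x ∈ 𝒜 g)
    (hreg : ∀ m : M, x • m = 0 → m = 0)
    (π : M →ₗ[R] N) (hπ : Function.Surjective π) (hπg : GrLC.IsGrHom ℳ 𝒩 π)
    (hker : LinearMap.ker π = LinearMap.range (LinearMap.lsmul R M x))
    (E : GrLC.StarInjRes 𝒜 ℳ) (E' : GrLC.StarInjRes 𝒜 𝒩) (i : ℕ) :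
    ∃ δ : E'.H a i →ₗ[R] (resShift E (-g)).H a (i + 1),
      GrLC.IsGrHom (E'.Hgr a i) ((resShift E (-g)).Hgr a (i + 1)) δ ∧
      LinearMap.range δ = LinearMap.ker ((smulCh E (g := g) x).Hmap a (i + 1)) := by
  have hinj : Function.Injective (LinearMap.lsmul R M x) := by
    intro m m' h
    have : x • (m - m') = 0 := by
      rw [smul_sub]
      exact sub_eq_zero.2 h
    exact sub_eq_zero.1 (hreg _ this)
  let B := liftCh E E' π hπg
  obtain ⟨_, _, δ, hδgr, _, hδ2⟩ := exists_les (resShift E (-g)) E E' (LinearMap.lsmul R M x) π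
    (lsmul_isGrHom_shift hx) hinj hker.symm hπ
    (smulCh E (g := g) x) (smulCh_isGr E hx) (smulCh_lifts E x)
    B (liftCh_isGr _ _ _ _) (liftCh_lifts _ _ _ _) a
  exact ⟨δ i, hδgr i, hδ2 i⟩

/-- **Regular step, vanishing**: if `H^i(M/xM)` vanishes in degrees `≥ s`, then `H^{i+1}(M)` vanishes
in degrees `≥ s - g`, for `x ∈ a` homogeneous regular of positive degree `g`. -/
theorem Hcomp_succ_eq_bot_of_regular (a : HomogeneousIdeal 𝒜) {g : ℤ} (hg : 0 < g) {x : R}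
    (hx : x ∈ 𝒜 g) (hxa : x ∈ a.toIdeal) (hreg : ∀ m : M, x • m = 0 → m = 0)
    (π : M →ₗ[R] N) (hπ : Function.Surjective π) (hπg : GrLC.IsGrHom ℳ 𝒩 π)
    (hker : LinearMap.ker π = LinearMap.range (LinearMap.lsmul R M x))
    (E : GrLC.StarInjRes 𝒜 ℳ) (E' : GrLC.StarInjRes 𝒜 𝒩) (i : ℕ) (s : ℤ)
    (h : ∀ n ≥ s, E'.Hcomp a i n = ⊥) : ∀ m ≥ s - g, E.Hcomp a (i + 1) m = ⊥ := by
  obtain ⟨δ, hδgr, hδ⟩ := exists_delta_of_regular a hx hreg π hπ hπg hker E E' i
  -- multiplication by `x` is injective on the pieces of degree `m` with `m + g ≥ s`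
  have hstar : ∀ m : ℤ, s ≤ m + g → ∀ w ∈ E.Hcomp a (i + 1) m, x • w = 0 → w = 0 := by
    intro m hm w hw hxw
    have key : ∀ w' : (resShift E (-g)).H a (i + 1),
        w' ∈ (resShift E (-g)).Hcomp a (i + 1) (m + g) →
        (smulCh E (g := g) x).Hmap a (i + 1) w' = 0 → w' = 0 := by
      intro w' h1 h2'
      have h2 : w' ∈ LinearMap.ker ((smulCh E (g := g) x).Hmap a (i + 1)) := LinearMap.mem_ker.2 h2'
      rw [← hδ] at h2
      obtain ⟨v, hv, rfl⟩ := exists_homog_preimage_H (E := E') (F := resShift E (-g)) a i (i + 1)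
        hδgr h1 h2
      rw [h (m + g) hm, Submodule.mem_bot] at hv
      rw [hv, map_zero]
    exact key w ((mem_resShift_Hcomp_neg E g a (i + 1) m w).2 hw)
      ((smulCh_Hmap E (g := g) x a (i + 1) w).trans hxw)
  have hpow : ∀ (k : ℕ) (m : ℤ), s - g ≤ m → ∀ w ∈ E.Hcomp a (i + 1) m, x ^ k • w = 0 → w = 0 := by
    intro k
    induction k with
    | zero =>
      intro m _ w _ hw0
      rwa [pow_zero, one_smul] at hw0
    | succ k ih =>
      intro m hm w hw hw0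
      rw [pow_succ, mul_smul] at hw0
      have h1 := ih (m + g) (by omega) (x • w) (smul_mem_Hcomp E a (i + 1) hx hw) hw0
      exact hstar m (by omega) w hw h1
  intro m hm
  rw [eq_bot_iff]
  intro w hw
  obtain ⟨k, hk⟩ := H_torsion E a (i + 1) w
  exact (Submodule.mem_bot _).2 (hpow k m hm w hw (hk _ (Ideal.pow_mem_pow hxa k)))

/-- **Regular step, finiteness** -/
theorem Hcomp_succ_fg_of_regular [IsNoetherianRing (GrLC.deg0 𝒜)]
    (a : HomogeneousIdeal 𝒜) {g : ℤ} (hg : 0 < g) {x : R}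
    (hx : x ∈ 𝒜 g) (hxa : x ∈ a.toIdeal) (hreg : ∀ m : M, x • m = 0 → m = 0)
    (π : M →ₗ[R] N) (hπ : Function.Surjective π) (hπg : GrLC.IsGrHom ℳ 𝒩 π)
    (hker : LinearMap.ker π = LinearMap.range (LinearMap.lsmul R M x))
    (E : GrLC.StarInjRes 𝒜 ℳ) (E' : GrLC.StarInjRes 𝒜 𝒩) (i : ℕ) (s : ℤ)
    (h : ∀ n ≥ s, E'.Hcomp a i n = ⊥) (hfin : ∀ n, (E'.Hcomp a i n).FG) :
    ∀ m, (E.Hcomp a (i + 1) m).FG := by
  obtain ⟨δ, hδgr, hδ⟩ := exists_delta_of_regular a hx hreg π hπ hπg hker E E' i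
  have hvan := Hcomp_succ_eq_bot_of_regular a hg hx hxa hreg π hπ hπg hker E E' i s h
  -- descending step
  have hstep : ∀ m : ℤ, (E.Hcomp a (i + 1) (m + g)).FG → (E.Hcomp a (i + 1) m).FG := by
    intro m hm
    have h1 := Hcomp_fg_of_exact (E' := E') (E := resShift E (-g)) (E'' := E) a i (i + 1) (i + 1) δ
      ((smulCh E (g := g) x).Hmap a (i + 1)) hδgr (ChMap.Hmap_isGr (smulCh_isGr E hx) a (i + 1)) hδ
      (m + g) (hfin (m + g)) hm
    have heq : ((resShift E (-g)).Hcomp a (i + 1) (m + g) : Submodule (GrLC.deg0 𝒜) (E.H a (i + 1))) =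
        E.Hcomp a (i + 1) m :=
      Submodule.ext (fun w => mem_resShift_Hcomp_neg E g a (i + 1) m w)
    rw [← heq]
    exact h1
  have hall : ∀ (k : ℕ) (m : ℤ), s - g - k ≤ m → (E.Hcomp a (i + 1) m).FG := by
    intro k
    induction k with
    | zero =>
      intro m hm
      rw [hvan m (by simpa using hm)]
      exact Submodule.fg_bot
    | succ k ih =>
      intro m hm
      apply hstep
      apply ih
      push_cast at hm
      omega
  intro m
  exact hall (s - g - m).toNat m (by have := Int.self_le_toNat (s - g - m); omega)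

end IntGraded

end Groth.Agent.Helper20.GrInj
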