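import Mathlib
import Groth.Agent.Lib.Helper20.GrIrr3

open DirectSum

namespace Groth.Agent.Helper20.GrInj

universe u

section General

variable {R : Type u} [CommRing R]
variable {M : Type u} [AddCommGroup M] [Module R M]
variable {N : Type u} [AddCommGroup N] [Module R N]

/-- the quotient of a Noetherian module by its `a`-torsion has no `a`-torsion -/
theorem gam_eq_zero_of_ker_eq_gam [IsNoetherianRing R] [IsNoetherian R M] (a : Ideal R)
    (β : M →ₗ[R] N) (hβ : Function.Surjective β) (hker : LinearMap.ker β = GrLC.gam a M) :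
    ∀ q ∈ GrLC.gam a N, q = 0 := by
  intro q hq
  obtain ⟨m, rfl⟩ := hβ q
  obtain ⟨k, hk⟩ := hq
  -- `a^k m` is a finitely generated submodule of the torsion
  have hle : a ^ k • (R ∙ m) ≤ GrLC.gam a M := by
    rw [Submodule.smul_le]
    intro r hr y hy
    obtain ⟨c, rfl⟩ := Submodule.mem_span_singleton.1 hy
    rw [← hker, LinearMap.mem_ker, smul_comm, map_smul, map_smul, hk r hr, smul_zero]
  obtain ⟨l, hl⟩ := exists_pow_smul_eq_zero_of_fg a (IsNoetherian.noetherian (a ^ k • (R ∙ m))) hle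
  have hm : m ∈ GrLC.gam a M := by
    refine ⟨l + k, fun r hr => ?_⟩
    rw [pow_add] at hr
    refine Submodule.mul_induction_on hr ?_ ?_
    · intro r₁ hr₁ r₂ hr₂
      rw [mul_smul]
      exact hl r₁ hr₁ _ (Submodule.smul_mem_smul hr₂ (Submodule.mem_span_singleton_self m))
    · intro x y hx hy
      rw [add_smul, hx, hy, add_zero]
  rw [← hker] at hm
  exact hm

end General

section IntGraded

variable {R : Type u} [CommRing R]
variable {σ : Type u} [SetLike σ R] [AddSubgroupClass σ R] (𝒜 : ℤ → σ) [GradedRing 𝒜]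

/-- `a` is the irrelevant ideal of the positively graded ring `R` -/
structure IsIrr (a : HomogeneousIdeal 𝒜) : Prop where
  pos : ∀ n : ℤ, n < 0 → ∀ x ∈ 𝒜 n, x = 0
  mem : ∀ n : ℤ, 0 < n → ∀ x ∈ 𝒜 n, x ∈ a.toIdeal
  gen : ∀ q : Ideal R, (∀ n : ℤ, 0 < n → ∀ x ∈ 𝒜 n, x ∈ q) → a.toIdeal ≤ q

variable {𝒜}

/-- all graded local cohomology of the zero module vanishes -/
theorem Hcomp_eq_bot_of_forall_eq_zero [IsNoetherianRing R] {M : Type u} [AddCommGroup M]
    [Module R M] {ℳ : ℤ → AddSubgroup M} [DirectSum.Decomposition ℳ] [SetLike.GradedSMul 𝒜 ℳ]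
    (hM : ∀ m : M, m = 0) (E : GrLC.StarInjRes 𝒜 ℳ) (a : HomogeneousIdeal 𝒜) (i : ℕ) (n : ℤ) :
    E.Hcomp a i n = ⊥ := by
  cases i with
  | zero => exact Hcomp_zero_eq_bot E a n (fun m _ _ => hM m)
  | succ i =>
    have htop : GrLC.gam a.toIdeal M = ⊤ := by
      rw [eq_top_iff]
      intro m _
      rw [hM m]
      exact Submodule.zero_mem _
    haveI := H_subsingleton_of_gam_eq_top a i ℳ htop E
    rw [eq_bot_iff]
    intro w _
    rw [Submodule.mem_bot]
    exact Subsingleton.elim _ _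

/-- **Finiteness and vanishing in high degrees** of the pieces of `H^i_{R₊}(M)`, for each `i`. -/
theorem irr_fg_and_vanish [IsNoetherianRing R] (a : HomogeneousIdeal 𝒜) (hirr : IsIrr 𝒜 a) (i : ℕ) :
    ∀ (M : Type u) [AddCommGroup M] [Module R M] [Module.Finite R M] (ℳ : ℤ → AddSubgroup M)
      [DirectSum.Decomposition ℳ] [SetLike.GradedSMul 𝒜 ℳ] (E : GrLC.StarInjRes 𝒜 ℳ),
      (∀ n, (E.Hcomp a i n).FG) ∧ ∃ s : ℤ, ∀ n ≥ s, E.Hcomp a i n = ⊥ := by
  haveI : IsNoetherianRing (GrLC.deg0 𝒜) := deg0_isNoetherianRing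
  induction i with
  | zero =>
    intro M _ _ _ ℳ _ _ E
    haveI : IsNoetherian R M := isNoetherian_of_isNoetherianRing_of_finite R M
    refine ⟨fun n => Hcomp_zero_fg E a n, ?_⟩
    obtain ⟨r, hr⟩ := exists_gam_piece_eq_zero 𝒜 ℳ hirr.pos a hirr.mem
    exact ⟨r, fun n hn => Hcomp_zero_eq_bot E a n (hr n hn)⟩
  | succ i ih =>
    intro M _ _ _ ℳ _ _ E
    haveI : IsNoetherian R M := isNoetherian_of_isNoetherianRing_of_finite R M
    -- kill the torsion
    have hT : (GrLC.gam a.toIdeal M).IsHomogeneous ℳ := gam_isHomogeneous 𝒜 ℳ a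
    let Q := quotGMod ℳ 𝒜 (GrLC.gam a.toIdeal M) hT
    let β := quotMk 𝒜 ℳ (GrLC.gam a.toIdeal M) hT
    have hβ : Function.Surjective β := quotMk_surjective 𝒜 ℳ _ hT
    have hβg : GrLC.IsGrHom ℳ Q.gr β := quotMk_grHom 𝒜 ℳ _ hT
    have hβker : LinearMap.ker β = GrLC.gam a.toIdeal M := quotMk_ker 𝒜 ℳ _ hT
    haveI : Module.Finite R Q.carrier := Module.Finite.of_surjective β hβ
    have hQ : ∀ q ∈ GrLC.gam a.toIdeal Q.carrier, q = 0 :=
      gam_eq_zero_of_ker_eq_gam a.toIdeal β hβ hβker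
    let Ē := starInjRes 𝒜 Q.gr
    let B := liftCh E Ē β hβg
    have hinj : Function.Injective (B.Hmap a (i + 1)) :=
      Hmap_injective_of_torsion_ker a β hβ hβg hβker.le E Ē B (liftCh_isGr _ _ _ _)
        (liftCh_lifts _ _ _ _) i
    have hBgr := ChMap.Hmap_isGr (liftCh_isGr E Ē β hβg) a (i + 1)
    suffices h : (∀ n, (Ē.Hcomp a (i + 1) n).FG) ∧ ∃ s : ℤ, ∀ n ≥ s, Ē.Hcomp a (i + 1) n = ⊥ by
      obtain ⟨h1, s, h2⟩ := h
      exact ⟨fun n => Hcomp_fg_of_injective a (i + 1) (i + 1) _ hBgr hinj n (h1 n),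
        s, fun n hn => Hcomp_eq_bot_of_injective a (i + 1) (i + 1) _ hBgr hinj n (h2 n hn)⟩
    -- a homogeneous regular element on `Q`
    obtain ⟨g, x, hg, hx, hxa, hreg⟩ := exists_homog_regular 𝒜 Q.gr hirr.pos a hirr.mem hirr.gen hQ
    have hrange : (LinearMap.range (LinearMap.lsmul R Q.carrier x)).IsHomogeneous Q.gr :=
      range_isHomogeneous (shiftGr Q.gr (-g)) Q.gr (lsmul_isGrHom_shift hx)
    let N := quotGMod Q.gr 𝒜 (LinearMap.range (LinearMap.lsmul R Q.carrier x)) hrange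
    let π := quotMk 𝒜 Q.gr (LinearMap.range (LinearMap.lsmul R Q.carrier x)) hrange
    have hπ : Function.Surjective π := quotMk_surjective 𝒜 Q.gr _ hrange
    have hπg : GrLC.IsGrHom Q.gr N.gr π := quotMk_grHom 𝒜 Q.gr _ hrange
    have hπker : LinearMap.ker π = LinearMap.range (LinearMap.lsmul R Q.carrier x) :=
      quotMk_ker 𝒜 Q.gr _ hrange
    haveI : Module.Finite R N.carrier := Module.Finite.of_surjective π hπ
    obtain ⟨hfin, s, hs⟩ := ih N.carrier N.gr (starInjRes 𝒜 N.gr)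
    exact ⟨Hcomp_succ_fg_of_regular a hg hx hxa hreg π hπ hπg hπker Ē (starInjRes 𝒜 N.gr) i s hs hfin,
      s - g, Hcomp_succ_eq_bot_of_regular a hg hx hxa hreg π hπ hπg hπker Ē (starInjRes 𝒜 N.gr) i s hs⟩


/-- **Uniform vanishing in high degrees** of `H^i_{R₊}(M)`, all `i` at once. -/
theorem irr_vanish_uniform [IsNoetherianRing R] (a : HomogeneousIdeal 𝒜) (hirr : IsIrr 𝒜 a)
    (M : Type u) [AddCommGroup M] [Module R M] [Module.Finite R M] (ℳ : ℤ → AddSubgroup M)
    [DirectSum.Decomposition ℳ] [SetLike.GradedSMul 𝒜 ℳ] (E : GrLC.StarInjRes 𝒜 ℳ) :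
    ∃ r : ℤ, ∀ (i : ℕ) (n : ℤ), r ≤ n → E.Hcomp a i n = ⊥ := by
  haveI : IsNoetherian R M := isNoetherian_of_isNoetherianRing_of_finite R M
  -- Noetherian induction on the kernel of a graded surjection out of `M`
  have key : ∀ K : Submodule R M, ∀ (N : Type u) [AddCommGroup N] [Module R N]
      (𝒩 : ℤ → AddSubgroup N) [DirectSum.Decomposition 𝒩] [SetLike.GradedSMul 𝒜 𝒩]
      (β : M →ₗ[R] N), Function.Surjective β → LinearMap.ker β = K →
      ∀ Ē : GrLC.StarInjRes 𝒜 𝒩, ∃ r : ℤ, ∀ (i : ℕ) (n : ℤ), r ≤ n → Ē.Hcomp a i n = ⊥ := by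
    intro K
    induction K using WellFoundedGT.induction with
    | ind K ih =>
      intro N _ _ 𝒩 _ _ β hβ hβK Ē
      haveI : Module.Finite R N := Module.Finite.of_surjective β hβ
      haveI : IsNoetherian R N := isNoetherian_of_isNoetherianRing_of_finite R N
      by_cases hN : ∀ q : N, q = 0
      · exact ⟨0, fun i n _ => Hcomp_eq_bot_of_forall_eq_zero hN Ē a i n⟩
      by_cases hT : ∀ q ∈ GrLC.gam a.toIdeal N, q = 0
      · -- no torsion: a regular element
        obtain ⟨g, x, hg, hx, hxa, hreg⟩ :=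
          exists_homog_regular 𝒜 𝒩 hirr.pos a hirr.mem hirr.gen hT
        have hrange : (LinearMap.range (LinearMap.lsmul R N x)).IsHomogeneous 𝒩 :=
          range_isHomogeneous (shiftGr 𝒩 (-g)) 𝒩 (lsmul_isGrHom_shift hx)
        let N' := quotGMod 𝒩 𝒜 (LinearMap.range (LinearMap.lsmul R N x)) hrange
        let π := quotMk 𝒜 𝒩 (LinearMap.range (LinearMap.lsmul R N x)) hrange
        have hπ : Function.Surjective π := quotMk_surjective 𝒜 𝒩 _ hrange
        have hπg : GrLC.IsGrHom 𝒩 N'.gr π := quotMk_grHom 𝒜 𝒩 _ hrange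
        have hπker : LinearMap.ker π = LinearMap.range (LinearMap.lsmul R N x) :=
          quotMk_ker 𝒜 𝒩 _ hrange
        have hlt : K < LinearMap.ker (π ∘ₗ β) := by
          rw [← hβK]
          refine lt_of_le_of_ne (LinearMap.ker_le_ker_comp β π) ?_
          intro heq
          push Not at hN
          obtain ⟨q, hq⟩ := hN
          obtain ⟨m, rfl⟩ := hβ q
          have h1 : x • m ∈ LinearMap.ker (π ∘ₗ β) := by
            rw [LinearMap.mem_ker, LinearMap.comp_apply, ← LinearMap.mem_ker, hπker, map_smul]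
            exact ⟨β m, rfl⟩
          rw [← heq, LinearMap.mem_ker, map_smul] at h1
          exact hq (hreg _ h1)
        obtain ⟨r, hr⟩ := ih _ hlt N'.carrier N'.gr (π ∘ₗ β) (hπ.comp hβ) rfl (starInjRes 𝒜 N'.gr)
        refine ⟨r, fun i n hn => ?_⟩
        cases i with
        | zero => exact Hcomp_zero_eq_bot Ē a n (fun m _ hm => hT m hm)
        | succ i =>
          exact Hcomp_succ_eq_bot_of_regular a hg hx hxa hreg π hπ hπg hπker Ē (starInjRes 𝒜 N'.gr)
            i r (fun n hn => hr i n hn) n (by omega)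
      · -- kill the torsion
        have hThom : (GrLC.gam a.toIdeal N).IsHomogeneous 𝒩 := gam_isHomogeneous 𝒜 𝒩 a
        let Q := quotGMod 𝒩 𝒜 (GrLC.gam a.toIdeal N) hThom
        let γ := quotMk 𝒜 𝒩 (GrLC.gam a.toIdeal N) hThom
        have hγ : Function.Surjective γ := quotMk_surjective 𝒜 𝒩 _ hThom
        have hγg : GrLC.IsGrHom 𝒩 Q.gr γ := quotMk_grHom 𝒜 𝒩 _ hThom
        have hγker : LinearMap.ker γ = GrLC.gam a.toIdeal N := quotMk_ker 𝒜 𝒩 _ hThom
        have hlt : K < LinearMap.ker (γ ∘ₗ β) := by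
          rw [← hβK]
          refine lt_of_le_of_ne (LinearMap.ker_le_ker_comp β γ) ?_
          intro heq
          push Not at hT
          obtain ⟨q, hqT, hq⟩ := hT
          obtain ⟨m, rfl⟩ := hβ q
          have h1 : m ∈ LinearMap.ker (γ ∘ₗ β) := by
            rw [LinearMap.mem_ker, LinearMap.comp_apply, ← LinearMap.mem_ker, hγker]
            exact hqT
          rw [← heq, LinearMap.mem_ker] at h1
          exact hq h1
        obtain ⟨r₁, hr₁⟩ := ih _ hlt Q.carrier Q.gr (γ ∘ₗ β) (hγ.comp hβ) rfl (starInjRes 𝒜 Q.gr)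
        obtain ⟨r₀, hr₀⟩ := exists_gam_piece_eq_zero 𝒜 𝒩 hirr.pos a hirr.mem
        refine ⟨max r₀ r₁, fun i n hn => ?_⟩
        cases i with
        | zero => exact Hcomp_zero_eq_bot Ē a n (hr₀ n (le_trans (le_max_left _ _) hn))
        | succ i =>
          let B := liftCh Ē (starInjRes 𝒜 Q.gr) γ hγg
          have hinj : Function.Injective (B.Hmap a (i + 1)) :=
            Hmap_injective_of_torsion_ker a γ hγ hγg hγker.le Ē (starInjRes 𝒜 Q.gr) B
              (liftCh_isGr _ _ _ _) (liftCh_lifts _ _ _ _) i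
          exact Hcomp_eq_bot_of_injective a (i + 1) (i + 1) _
            (ChMap.Hmap_isGr (liftCh_isGr Ē (starInjRes 𝒜 Q.gr) γ hγg) a (i + 1)) hinj n
            (hr₁ (i + 1) n (le_trans (le_max_right _ _) hn))
  exact key ⊥ M ℳ LinearMap.id Function.surjective_id LinearMap.ker_id E

end IntGraded

end Groth.Agent.Helper20.GrInj
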