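import Mathlib
import Groth.Agent.Lib.Helper20.GrIrr4

open DirectSum

namespace Groth.Agent.Helper20.GrInj

universe u

variable {R : Type u} [CommRing R]

/-- the hypotheses of the rows on the irrelevant ideal give `IsIrr` -/
theorem isIrr_of_span (𝒜 : ℤ → AddSubgroup R) [GradedRing 𝒜] (hpos : ∀ n : ℤ, n < 0 → 𝒜 n = ⊥)
    (a : HomogeneousIdeal 𝒜)
    (ha : a.toIdeal = Ideal.span (⋃ n ∈ Set.Ioi (0 : ℤ), (𝒜 n : Set R))) : IsIrr 𝒜 a := by
  refine ⟨fun n hn x hx => ?_, fun n hn x hx => ?_, fun q hq => ?_⟩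
  · rw [hpos n hn, AddSubgroup.mem_bot] at hx
    exact hx
  · rw [ha]
    apply Ideal.subset_span
    exact Set.mem_biUnion (Set.mem_Ioi.2 hn) hx
  · rw [ha, Ideal.span_le]
    intro x hx
    obtain ⟨n, hn, hxn⟩ := Set.mem_iUnion₂.1 hx
    exact hq n hn x hxn

end Groth.Agent.Helper20.GrInj
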