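import Mathlib
import Groth.Agent.Lib.Helper20.GrIrr5

open DirectSum

namespace Groth.Agent.Helper20.GrInj

universe u

variable {ι : Type} [AddCommGroup ι] [DecidableEq ι]
variable {R : Type u} [CommRing R]
variable {σ : Type u} [SetLike σ R] [AddSubgroupClass σ R] (𝒜 : ι → σ) [GradedRing 𝒜]

/-- a homological complex `X 0 ← X 1 ← X 2 ← ⋯` of graded modules -/
structure GCx where
  X : ℕ → GrLC.GMod.{u} 𝒜
  d : ∀ p : ℕ, (X (p + 1)).carrier →ₗ[R] (X p).carrier
  d_gr : ∀ p : ℕ, GrLC.IsGrHom (X (p + 1)).gr (X p).gr (d p)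
  d_comp : ∀ (p : ℕ) (z : (X (p + 2)).carrier), d p (d (p + 1) z) = 0

variable {𝒜}

namespace GCx

/-- the homology of the complex is killed by `b ^ N` -/
structure TorsH (C : GCx 𝒜) (b : Ideal R) (N : ℕ) : Prop where
  zero : ∀ (z : (C.X 0).carrier), ∀ r ∈ b ^ N, r • z ∈ LinearMap.range (C.d 0)
  succ : ∀ (p : ℕ) (z : (C.X (p + 1)).carrier), C.d p z = 0 → ∀ r ∈ b ^ N,
    r • z ∈ LinearMap.range (C.d (p + 1))

/-- the complex vanishes from degree `m` on -/
def BddBy (C : GCx 𝒜) (m : ℕ) : Prop := ∀ p : ℕ, m ≤ p → ∀ z : (C.X p).carrier, z = 0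

theorem TorsH.mono {C : GCx 𝒜} {b : Ideal R} {N N' : ℕ} (h : C.TorsH b N) (hN : N ≤ N') :
    C.TorsH b N' :=
  ⟨fun z r hr => h.zero z r (Ideal.pow_le_pow_right hN hr),
   fun p z hz r hr => h.succ p z hz r (Ideal.pow_le_pow_right hN hr)⟩

/-- the terms of the mapping cone of multiplication by `x` (of degree `g`) on `C` -/
noncomputable def coneX (C : GCx 𝒜) (g : ι) : ℕ → GrLC.GMod.{u} 𝒜
  | 0 => C.X 0
  | (p + 1) => prodGMod 𝒜 (C.X (p + 1)) (shiftGMod 𝒜 (C.X p) (-g))

/-- the differentials of the mapping cone -/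
noncomputable def coneD (C : GCx 𝒜) (g : ι) (x : R) :
    ∀ p : ℕ, (coneX C g (p + 1)).carrier →ₗ[R] (coneX C g p).carrier
  | 0 => (C.d 0).coprod (LinearMap.lsmul R (C.X 0).carrier x)
  | (p + 1) => LinearMap.prod
      ((C.d (p + 1)).coprod (LinearMap.lsmul R (C.X (p + 1)).carrier x))
      ((-(C.d p)) ∘ₗ (LinearMap.snd R (C.X (p + 2)).carrier (C.X (p + 1)).carrier))

theorem coneD_zero_apply (C : GCx 𝒜) (g : ι) (x : R) (u : (C.X 1).carrier) (v : (C.X 0).carrier) :
    coneD C g x 0 ((u, v) : (C.X 1).carrier × (C.X 0).carrier) = C.d 0 u + x • v := rfl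

theorem coneD_succ_apply (C : GCx 𝒜) (g : ι) (x : R) (p : ℕ) (u : (C.X (p + 2)).carrier)
    (v : (C.X (p + 1)).carrier) :
    coneD C g x (p + 1) ((u, v) : (C.X (p + 2)).carrier × (C.X (p + 1)).carrier) =
      ((C.d (p + 1) u + x • v, -(C.d p v)) : (C.X (p + 1)).carrier × (C.X p).carrier) := rfl

/-- the mapping cone of multiplication by the homogeneous element `x` of degree `g` -/
noncomputable def cone (C : GCx 𝒜) {g : ι} {x : R} (hx : x ∈ 𝒜 g) : GCx 𝒜 where
  X := coneX C g
  d := coneD C g x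
  d_gr := by
    intro p
    cases p with
    | zero =>
      rintro j ⟨u, v⟩ ⟨hu, hv⟩
      show C.d 0 u + x • (show (C.X 0).carrier from v) ∈ (C.X 0).gr j
      refine add_mem (C.d_gr 0 j u hu) ?_
      have := lsmul_isGrHom_shift (ℳ := (C.X 0).gr) hx
      exact this j v hv
    | succ p =>
      rintro j ⟨u, v⟩ ⟨hu, hv⟩
      have hv' : v ∈ (C.X (p + 1)).gr (j + -g) := hv
      show ((C.d (p + 1) u + x • (show (C.X (p + 1)).carrier from v), -(C.d p v)) : (C.X (p + 1)).carrier × (C.X p).carrier) ∈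
        prodGr (C.X (p + 1)).gr (shiftGr (C.X p).gr (-g)) j
      refine ⟨add_mem (C.d_gr (p + 1) j u hu) ?_, ?_⟩
      · have := lsmul_isGrHom_shift (ℳ := (C.X (p + 1)).gr) hx
        exact this j v hv
      · show -(C.d p v) ∈ (C.X p).gr (j + -g)
        exact neg_mem (C.d_gr p (j + -g) v hv')
  d_comp := by
    intro p
    cases p with
    | zero =>
      rintro ⟨u, v⟩
      show C.d 0 (C.d 1 u + x • (show (C.X 1).carrier from v)) + x • (-(C.d 0 v)) = 0
      rw [map_add, C.d_comp, zero_add, map_smul, smul_neg, add_neg_cancel]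
    | succ p =>
      rintro ⟨u, v⟩
      show ((C.d (p + 1) (C.d (p + 2) u + x • (show (C.X (p + 2)).carrier from v)) + x • (-(C.d (p + 1) v)), -(C.d p (-(C.d (p + 1) v)))) :
        (C.X (p + 1)).carrier × (C.X p).carrier) = 0
      rw [map_add, C.d_comp, zero_add, map_smul, smul_neg, add_neg_cancel, map_neg, C.d_comp,
        neg_zero, neg_zero]
      rfl


omit [AddCommGroup ι] [DecidableEq ι] in
theorem sup_span_pow_le (b : Ideal R) (x : R) (K : ℕ) :
    (b ⊔ Ideal.span {x}) ^ K ≤ b ^ K ⊔ Ideal.span {x} := by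
  induction K with
  | zero => rw [pow_zero, pow_zero]; exact le_sup_left
  | succ K ih =>
    rw [pow_succ, pow_succ]
    refine (Ideal.mul_mono_left ih).trans ?_
    rw [Ideal.sup_mul, Ideal.mul_sup, Ideal.mul_sup]
    refine sup_le (sup_le le_sup_left ?_) (sup_le ?_ ?_)
    · exact le_sup_of_le_right Ideal.mul_le_right
    · exact le_sup_of_le_right Ideal.mul_le_left
    · exact le_sup_of_le_right Ideal.mul_le_left

theorem cone_bddBy (C : GCx 𝒜) {g : ι} {x : R} (hx : x ∈ 𝒜 g) {m : ℕ} (h : C.BddBy m) :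
    (C.cone hx).BddBy (m + 1) := by
  intro p hp z
  obtain ⟨p, rfl⟩ : ∃ q, p = q + 1 := ⟨p - 1, by omega⟩
  obtain ⟨u, v⟩ := z
  have hu := h (p + 1) (by omega) u
  have hv := h p (by omega) v
  exact Prod.ext hu hv

/-- multiplication by `x` is null-homotopic on the cone -/
theorem cone_smul_mem_range_zero (C : GCx 𝒜) {g : ι} {x : R} (hx : x ∈ 𝒜 g)
    (z : ((C.cone hx).X 0).carrier) : x • z ∈ LinearMap.range ((C.cone hx).d 0) := by
  refine ⟨((0 : (C.X 1).carrier), (show (C.X 0).carrier from z)), ?_⟩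
  show C.d 0 0 + x • (show (C.X 0).carrier from z) = x • z
  rw [map_zero, zero_add]
  rfl

theorem cone_smul_mem_range_succ (C : GCx 𝒜) {g : ι} {x : R} (hx : x ∈ 𝒜 g) (p : ℕ)
    (z : ((C.cone hx).X (p + 1)).carrier) (hz : (C.cone hx).d p z = 0) :
    x • z ∈ LinearMap.range ((C.cone hx).d (p + 1)) := by
  obtain ⟨u, v⟩ := z
  refine ⟨((0 : (C.X (p + 2)).carrier), (show (C.X (p + 1)).carrier from u)), ?_⟩
  show ((C.d (p + 1) 0 + x • u, -(C.d p u)) : (C.X (p + 1)).carrier × (C.X p).carrier) =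
    (x • u, x • (show (C.X p).carrier from v))
  rw [map_zero, zero_add]
  cases p with
  | zero =>
    have hz' : C.d 0 u + x • (show (C.X 0).carrier from v) = 0 := hz
    rw [eq_neg_of_add_eq_zero_left hz', neg_neg]
  | succ p =>
    have hz' : ((C.d (p + 1) u + x • (show (C.X (p + 1)).carrier from v), -(C.d p v)) :
        (C.X (p + 1)).carrier × (C.X p).carrier) = 0 := hz
    have h1 : C.d (p + 1) u + x • (show (C.X (p + 1)).carrier from v) = 0 := congrArg Prod.fst hz'
    rw [eq_neg_of_add_eq_zero_left h1, neg_neg]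


omit [AddCommGroup ι] [DecidableEq ι] in
theorem smul_mem_of_sup_span_pow {Y : Type u} [AddCommGroup Y] [Module R Y] (P : Submodule R Y)
    (b : Ideal R) (x : R) (N : ℕ) (z : Y)
    (h1 : ∀ s ∈ b ^ N, ∀ t ∈ b ^ N, (s * t) • z ∈ P) (h2 : x • z ∈ P) :
    ∀ r ∈ (b ⊔ Ideal.span {x}) ^ (2 * N), r • z ∈ P := by
  intro r hr
  obtain ⟨r₁, hr₁, r₂, hr₂, rfl⟩ := Submodule.mem_sup.1 (sup_span_pow_le b x (2 * N) hr)
  rw [add_smul]
  refine P.add_mem ?_ ?_
  · rw [two_mul, pow_add] at hr₁
    refine Submodule.mul_induction_on hr₁ (fun s hs t ht => h1 s hs t ht) ?_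
    intro y y' hy hy'
    rw [add_smul]
    exact P.add_mem hy hy'
  · obtain ⟨c, rfl⟩ := Ideal.mem_span_singleton'.1 hr₂
    rw [mul_smul]
    exact P.smul_mem c h2

/-- the cone of multiplication by `x` on a complex with `b`-torsion homology has
`(b + (x))`-torsion homology -/
theorem cone_torsH (C : GCx 𝒜) {g : ι} {x : R} (hx : x ∈ 𝒜 g) {b : Ideal R} {N : ℕ}
    (h : C.TorsH b N) : (C.cone hx).TorsH (b ⊔ Ideal.span {x}) (2 * N) := by
  refine ⟨fun z => ?_, fun p z hz => ?_⟩
  · apply smul_mem_of_sup_span_pow _ b x N z ?_ (cone_smul_mem_range_zero C hx z)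
    intro s _ t ht
    obtain ⟨w, hw⟩ := h.zero (show (C.X 0).carrier from z) t ht
    rw [mul_smul]
    refine Submodule.smul_mem _ s ⟨((w, 0) : (C.X 1).carrier × (C.X 0).carrier), ?_⟩
    show C.d 0 w + x • (0 : (C.X 0).carrier) = t • z
    rw [smul_zero, add_zero]
    exact hw
  · apply smul_mem_of_sup_span_pow _ b x N z ?_ (cone_smul_mem_range_succ C hx p z hz)
    intro s hs t ht
    obtain ⟨u, v⟩ := z
    cases p with
    | zero =>
      have hz' : C.d 0 u + x • (show (C.X 0).carrier from v) = 0 := hz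
      obtain ⟨w, hw⟩ := h.zero (show (C.X 0).carrier from v) t ht
      have hcyc : C.d 0 (t • u + x • w) = 0 := by
        rw [map_add, map_smul, map_smul, hw, smul_comm x t, ← smul_add, hz', smul_zero]
      obtain ⟨w', hw'⟩ := h.succ 0 (t • u + x • w) hcyc s hs
      have e1 : (C.cone hx).d 1 (((0 : (C.X 2).carrier), (show (C.X 1).carrier from -w)) :
          (C.X 2).carrier × (C.X 1).carrier) =
          ((-(x • w), t • (show (C.X 0).carrier from v)) : (C.X 1).carrier × (C.X 0).carrier) := by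
        show ((C.d 1 0 + x • (-w), -(C.d 0 (-w))) : (C.X 1).carrier × (C.X 0).carrier) = _
        rw [map_zero, zero_add, smul_neg, map_neg, neg_neg, hw]
      have e2 : (C.cone hx).d 1 (((w', (0 : (C.X 1).carrier))) :
          (C.X 2).carrier × (C.X 1).carrier) =
          ((s • (t • u + x • w), 0) : (C.X 1).carrier × (C.X 0).carrier) := by
        show ((C.d 1 w' + x • (0 : (C.X 1).carrier), -(C.d 0 0)) :
          (C.X 1).carrier × (C.X 0).carrier) = _
        rw [smul_zero, add_zero, map_zero, neg_zero, hw']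
      have e3 : ((s * t) • ((u, v) : (C.X 1).carrier × (C.X 0).carrier)) =
          s • ((-(x • w), t • (show (C.X 0).carrier from v)) : (C.X 1).carrier × (C.X 0).carrier) +
          ((s • (t • u + x • w), 0) : (C.X 1).carrier × (C.X 0).carrier) := by
        apply Prod.ext
        · show (s * t) • u = s • (-(x • w)) + s • (t • u + x • w)
          rw [mul_smul, ← smul_add]
          congr 1
          abel
        · show (s * t) • (show (C.X 0).carrier from v) = s • (t • (show (C.X 0).carrier from v)) + 0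
          rw [mul_smul, add_zero]
      show (s * t) • ((u, v) : (C.X 1).carrier × (C.X 0).carrier) ∈ _
      rw [e3, ← e1, ← e2]
      exact Submodule.add_mem _ (Submodule.smul_mem _ s ⟨_, rfl⟩) ⟨_, rfl⟩
    | succ p =>
      have hz' : ((C.d (p + 1) u + x • (show (C.X (p + 1)).carrier from v), -(C.d p v)) :
          (C.X (p + 1)).carrier × (C.X p).carrier) = 0 := hz
      have hz1 : C.d (p + 1) u + x • (show (C.X (p + 1)).carrier from v) = 0 := congrArg Prod.fst hz'
      have hz2 : C.d p v = 0 := neg_eq_zero.1 (congrArg Prod.snd hz')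
      obtain ⟨w, hw⟩ := h.succ p (show (C.X (p + 1)).carrier from v) hz2 t ht
      have hcyc : C.d (p + 1) (t • u + x • w) = 0 := by
        rw [map_add, map_smul, map_smul, hw, smul_comm x t, ← smul_add, hz1, smul_zero]
      obtain ⟨w', hw'⟩ := h.succ (p + 1) (t • u + x • w) hcyc s hs
      have e1 : (C.cone hx).d (p + 2) (((0 : (C.X (p + 3)).carrier),
          (show (C.X (p + 2)).carrier from -w)) : (C.X (p + 3)).carrier × (C.X (p + 2)).carrier) =
          ((-(x • w), t • (show (C.X (p + 1)).carrier from v)) :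
            (C.X (p + 2)).carrier × (C.X (p + 1)).carrier) := by
        show ((C.d (p + 2) 0 + x • (-w), -(C.d (p + 1) (-w))) :
          (C.X (p + 2)).carrier × (C.X (p + 1)).carrier) = _
        rw [map_zero, zero_add, smul_neg, map_neg, neg_neg, hw]
      have e2 : (C.cone hx).d (p + 2) (((w', (0 : (C.X (p + 2)).carrier))) :
          (C.X (p + 3)).carrier × (C.X (p + 2)).carrier) =
          ((s • (t • u + x • w), 0) : (C.X (p + 2)).carrier × (C.X (p + 1)).carrier) := by
        show ((C.d (p + 2) w' + x • (0 : (C.X (p + 2)).carrier), -(C.d (p + 1) 0)) :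
          (C.X (p + 2)).carrier × (C.X (p + 1)).carrier) = _
        rw [smul_zero, add_zero, map_zero, neg_zero, hw']
      have e3 : ((s * t) • ((u, v) : (C.X (p + 2)).carrier × (C.X (p + 1)).carrier)) =
          s • ((-(x • w), t • (show (C.X (p + 1)).carrier from v)) :
            (C.X (p + 2)).carrier × (C.X (p + 1)).carrier) +
          ((s • (t • u + x • w), 0) : (C.X (p + 2)).carrier × (C.X (p + 1)).carrier) := by
        apply Prod.ext
        · show (s * t) • u = s • (-(x • w)) + s • (t • u + x • w)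
          rw [mul_smul, ← smul_add]
          congr 1
          abel
        · show (s * t) • (show (C.X (p + 1)).carrier from v) =
            s • (t • (show (C.X (p + 1)).carrier from v)) + 0
          rw [mul_smul, add_zero]
      show (s * t) • ((u, v) : (C.X (p + 2)).carrier × (C.X (p + 1)).carrier) ∈ _
      rw [e3, ← e1, ← e2]
      exact Submodule.add_mem _ (Submodule.smul_mem _ s ⟨_, rfl⟩) ⟨_, rfl⟩

end GCx

end Groth.Agent.Helper20.GrInj
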