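import Mathlib
import Groth.Agent.Lib.Helper20.GrKos1

open DirectSum

namespace Groth.Agent.Helper20.GrInj

universe u

variable {ι : Type} [AddCommGroup ι] [DecidableEq ι]
variable {R : Type u} [CommRing R]
variable {σ : Type u} [SetLike σ R] [AddSubgroupClass σ R] {𝒜 : ι → σ} [GradedRing 𝒜]

/-- `H^j_a(X)_n = 0`, computed from any *injective resolution -/
def HVan (X : GrLC.GMod.{u} 𝒜) (a : HomogeneousIdeal 𝒜) (j : ℕ) (n : ι) : Prop :=
  ∀ E : GrLC.StarInjRes 𝒜 X.gr, E.Hcomp a j n = ⊥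

theorem HVan_of_res {X : GrLC.GMod.{u} 𝒜} {a : HomogeneousIdeal 𝒜} {j : ℕ} {n : ι}
    (E : GrLC.StarInjRes 𝒜 X.gr) (h : E.Hcomp a j n = ⊥) : HVan X a j n :=
  fun E' => Hcomp_eq_bot_of_res E E' a j n h

section Exact

variable {X' X X'' : GrLC.GMod.{u} 𝒜} (α : X'.carrier →ₗ[R] X.carrier)
  (β : X.carrier →ₗ[R] X''.carrier) (hαgr : GrLC.IsGrHom X'.gr X.gr α)
  (hβgr : GrLC.IsGrHom X.gr X''.gr β) (hα : Function.Injective α)
  (hex : LinearMap.range α = LinearMap.ker β) (hβ : Function.Surjective β)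
  (a : HomogeneousIdeal 𝒜)

include hαgr hβgr hα hex hβ

theorem HVan_mid (j : ℕ) (n : ι) (h1 : HVan X' a j n) (h2 : HVan X'' a j n) : HVan X a j n := by
  intro E
  let E' := starInjRes 𝒜 X'.gr
  let E'' := starInjRes 𝒜 X''.gr
  let A := liftCh E' E α hαgr
  let B := liftCh E E'' β hβgr
  obtain ⟨_, hmid, _⟩ := exists_les E' E E'' α β hαgr hα hex hβ
    A (liftCh_isGr _ _ _ _) (liftCh_lifts _ _ _ _) B (liftCh_isGr _ _ _ _) (liftCh_lifts _ _ _ _) a
  exact Hcomp_eq_bot_of_exact a j j j (A.Hmap a j) (B.Hmap a j)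
    (ChMap.Hmap_isGr (liftCh_isGr _ _ _ _) a j) (ChMap.Hmap_isGr (liftCh_isGr _ _ _ _) a j)
    (hmid j) n (h1 E') (h2 E'')

theorem HVan_right (j : ℕ) (n : ι) (h1 : HVan X a j n) (h2 : HVan X' a (j + 1) n) :
    HVan X'' a j n := by
  intro E''
  let E' := starInjRes 𝒜 X'.gr
  let E := starInjRes 𝒜 X.gr
  let A := liftCh E' E α hαgr
  let B := liftCh E E'' β hβgr
  obtain ⟨_, _, δ, hδgr, hδ1, _⟩ := exists_les E' E E'' α β hαgr hα hex hβ
    A (liftCh_isGr _ _ _ _) (liftCh_lifts _ _ _ _) B (liftCh_isGr _ _ _ _) (liftCh_lifts _ _ _ _) a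
  exact Hcomp_eq_bot_of_exact a j j (j + 1) (B.Hmap a j) (δ j)
    (ChMap.Hmap_isGr (liftCh_isGr _ _ _ _) a j) (hδgr j) (hδ1 j) n (h1 E) (h2 E')

end Exact

theorem HVan_of_forall_eq_zero [IsNoetherianRing R] {X : GrLC.GMod.{u} 𝒜}
    (hX : ∀ z : X.carrier, z = 0) (a : HomogeneousIdeal 𝒜) (j : ℕ) (n : ι) : HVan X a j n := by
  intro E
  cases j with
  | zero => exact Hcomp_zero_eq_bot E a n (fun m _ _ => hX m)
  | succ i =>
    have htop : GrLC.gam a.toIdeal X.carrier = ⊤ := by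
      rw [eq_top_iff]
      intro m _
      rw [hX m]
      exact Submodule.zero_mem _
    haveI := H_subsingleton_of_gam_eq_top a i X.gr htop E
    rw [eq_bot_iff]
    intro w _
    rw [Submodule.mem_bot]
    exact Subsingleton.elim _ _

theorem HVan_of_torsion [IsNoetherianRing R] {X : GrLC.GMod.{u} 𝒜} (a : HomogeneousIdeal 𝒜)
    (hX : GrLC.gam a.toIdeal X.carrier = ⊤) (j : ℕ) (n : ι) : HVan X a (j + 1) n := by
  intro E
  haveI := H_subsingleton_of_gam_eq_top a j X.gr hX E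
  rw [eq_bot_iff]
  intro w _
  rw [Submodule.mem_bot]
  exact Subsingleton.elim _ _

theorem HVan_shift {X : GrLC.GMod.{u} 𝒜} (a : HomogeneousIdeal 𝒜) (j : ℕ) (n d : ι)
    (h : HVan X a j (n + d)) : HVan (shiftGMod 𝒜 X d) a j n := by
  let E := starInjRes 𝒜 X.gr
  have h1 : (resShift E d).Hcomp a j n = ⊥ := by
    rw [eq_bot_iff]
    intro w hw
    have hw' : w ∈ E.Hcomp a j (n + d) := (mem_resShift_Hcomp E d a j n w).1 hw
    rw [h E] at hw'
    exact hw'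
  intro E'
  exact Hcomp_eq_bot_of_res (resShift E d) E' a j n h1

theorem HVan_prod {X Y : GrLC.GMod.{u} 𝒜} (a : HomogeneousIdeal 𝒜) (j : ℕ) (n : ι)
    (h1 : HVan X a j n) (h2 : HVan Y a j n) : HVan (prodGMod 𝒜 X Y) a j n := by
  refine HVan_mid (X' := X) (X := prodGMod 𝒜 X Y) (X'' := Y)
    (LinearMap.inl R X.carrier Y.carrier) (LinearMap.snd R X.carrier Y.carrier)
    ?_ ?_ LinearMap.inl_injective ?_ LinearMap.snd_surjective a j n h1 h2
  · intro g x hx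
    exact ⟨hx, zero_mem _⟩
  · intro g p hp
    exact hp.2
  · exact LinearMap.range_inl R X.carrier Y.carrier

end Groth.Agent.Helper20.GrInj
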