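import Mathlib
import Groth.Agent.Lib.Helper20.GrKos2

open DirectSum

namespace Groth.Agent.Helper20.GrInj

universe u

variable {ι : Type} [AddCommGroup ι] [DecidableEq ι]
variable {R : Type u} [CommRing R]
variable {σ : Type u} [SetLike σ R] [AddSubgroupClass σ R] {𝒜 : ι → σ} [GradedRing 𝒜]

namespace GCx

variable (C : GCx 𝒜)

theorem ker_hom (p : ℕ) : (LinearMap.ker (C.d p)).IsHomogeneous (C.X (p + 1)).gr :=
  ker_isHomogeneous (C.X (p + 1)).gr (C.X p).gr (C.d_gr p)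

theorem range_hom (p : ℕ) : (LinearMap.range (C.d p)).IsHomogeneous (C.X p).gr :=
  range_isHomogeneous (C.X (p + 1)).gr (C.X p).gr (C.d_gr p)

/-- the cycles in degree `p + 1`, as a graded module -/
noncomputable abbrev KM (p : ℕ) : GrLC.GMod.{u} 𝒜 :=
  subGMod (C.X (p + 1)).gr 𝒜 (LinearMap.ker (C.d p)) (C.ker_hom p)

/-- the boundaries in degree `p`, as a graded module -/
noncomputable abbrev IM (p : ℕ) : GrLC.GMod.{u} 𝒜 :=
  subGMod (C.X p).gr 𝒜 (LinearMap.range (C.d p)) (C.range_hom p)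

/-- from `H^j(X_{p+1})_n = 0` and `H^{j+1}(Z_{p+1})_n = 0` to `H^j(B_p)_n = 0` -/
theorem HVan_IM (a : HomogeneousIdeal 𝒜) (p j : ℕ) (n : ι)
    (h1 : HVan (C.X (p + 1)) a j n) (h2 : HVan (C.KM p) a (j + 1) n) : HVan (C.IM p) a j n := by
  let α := subVal 𝒜 (C.X (p + 1)).gr (LinearMap.ker (C.d p)) (C.ker_hom p)
  let β := subLift 𝒜 (C.X p).gr (LinearMap.range (C.d p)) (C.range_hom p) (C.d p)
    (fun z => ⟨z, rfl⟩)
  have hβval : ∀ z, subVal 𝒜 (C.X p).gr (LinearMap.range (C.d p)) (C.range_hom p) (β z) = C.d p z :=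
    fun z => rfl
  have hβinj : ∀ z, β z = 0 ↔ C.d p z = 0 := by
    intro z
    constructor
    · intro hz
      have := congrArg (subVal 𝒜 (C.X p).gr (LinearMap.range (C.d p)) (C.range_hom p)) hz
      rwa [hβval, map_zero] at this
    · intro hz
      apply subVal_injective 𝒜 (C.X p).gr (LinearMap.range (C.d p)) (C.range_hom p)
      rw [hβval, map_zero, hz]
  have hαrange : LinearMap.range α = LinearMap.ker (C.d p) := subVal_range 𝒜 _ _ (C.ker_hom p)
  refine HVan_right (X' := C.KM p) (X := C.X (p + 1)) (X'' := C.IM p) α β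
    (subVal_grHom 𝒜 _ _ (C.ker_hom p))
    (subLift_grHom 𝒜 (C.X p).gr _ (C.range_hom p) (C.X (p + 1)).gr (C.d p) _ (C.d_gr p))
    (subVal_injective 𝒜 _ _ (C.ker_hom p)) ?_ ?_ a j n h1 h2
  · rw [hαrange]
    ext z
    rw [LinearMap.mem_ker, LinearMap.mem_ker, hβinj]
  · intro y
    obtain ⟨z, hz⟩ := subVal_mem 𝒜 (C.X p).gr (LinearMap.range (C.d p)) (C.range_hom p) y
    refine ⟨z, ?_⟩
    apply subVal_injective 𝒜 (C.X p).gr (LinearMap.range (C.d p)) (C.range_hom p)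
    rw [hβval, hz]

/-- from `H^j(B_{p+1})_n = 0` to `H^j(Z_{p+1})_n = 0`, `j ≥ 1`, when the homology is torsion -/
theorem HVan_KM [IsNoetherianRing R] (a : HomogeneousIdeal 𝒜) {N : ℕ} (hC : C.TorsH a.toIdeal N)
    (p j : ℕ) (n : ι) (h1 : HVan (C.IM (p + 1)) a (j + 1) n) : HVan (C.KM p) a (j + 1) n := by
  -- the inclusion of the boundaries into the cycles
  let ι₁ := subVal 𝒜 (C.X (p + 1)).gr (LinearMap.range (C.d (p + 1))) (C.range_hom (p + 1))
  have hι₁ : ∀ y, ι₁ y ∈ LinearMap.ker (C.d p) := by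
    intro y
    obtain ⟨z, hz⟩ := subVal_mem 𝒜 (C.X (p + 1)).gr _ (C.range_hom (p + 1)) y
    rw [LinearMap.mem_ker, ← hz]
    exact C.d_comp p z
  let α := subLift 𝒜 (C.X (p + 1)).gr (LinearMap.ker (C.d p)) (C.ker_hom p) ι₁ hι₁
  have hαgr : GrLC.IsGrHom (C.IM (p + 1)).gr (C.KM p).gr α :=
    subLift_grHom 𝒜 (C.X (p + 1)).gr _ (C.ker_hom p) (C.IM (p + 1)).gr ι₁ hι₁
      (subVal_grHom 𝒜 _ _ (C.range_hom (p + 1)))
  have hαinj : Function.Injective α := by
    intro y y' h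
    apply subVal_injective 𝒜 (C.X (p + 1)).gr _ (C.range_hom (p + 1))
    have := congrArg (subVal 𝒜 (C.X (p + 1)).gr (LinearMap.ker (C.d p)) (C.ker_hom p)) h
    rwa [subVal_subLift, subVal_subLift] at this
  have hrange : (LinearMap.range α).IsHomogeneous (C.KM p).gr :=
    range_isHomogeneous (C.IM (p + 1)).gr (C.KM p).gr hαgr
  let Q := quotGMod (C.KM p).gr 𝒜 (LinearMap.range α) hrange
  let β := quotMk 𝒜 (C.KM p).gr (LinearMap.range α) hrange
  have hQ : GrLC.gam a.toIdeal Q.carrier = ⊤ := by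
    rw [eq_top_iff]
    intro q _
    obtain ⟨z, rfl⟩ := quotMk_surjective 𝒜 (C.KM p).gr (LinearMap.range α) hrange q
    refine ⟨N, fun r hr => ?_⟩
    rw [← map_smul, quotMk_eq_zero_iff]
    have hz : C.d p (subVal 𝒜 (C.X (p + 1)).gr (LinearMap.ker (C.d p)) (C.ker_hom p) z) = 0 :=
      subVal_mem 𝒜 (C.X (p + 1)).gr (LinearMap.ker (C.d p)) (C.ker_hom p) z
    obtain ⟨w, hw⟩ := hC.succ p _ hz r hr
    refine ⟨subLift 𝒜 (C.X (p + 1)).gr (LinearMap.range (C.d (p + 1))) (C.range_hom (p + 1))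
      (C.d (p + 1)) (fun z => ⟨z, rfl⟩) w, ?_⟩
    apply subVal_injective 𝒜 (C.X (p + 1)).gr (LinearMap.ker (C.d p)) (C.ker_hom p)
    rw [subVal_subLift, map_smul, ← hw]
    rfl
  exact HVan_mid (X' := C.IM (p + 1)) (X := C.KM p) (X'' := Q) α β hαgr
    (quotMk_grHom 𝒜 _ _ hrange) hαinj (quotMk_ker 𝒜 _ _ hrange).symm
    (quotMk_surjective 𝒜 _ _ hrange) a (j + 1) n h1 (HVan_of_torsion a hQ j n)

/-- the chain of implications along the complex: `H^{j+1}(Z_{p+1})_n = 0` as soon as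
`H^{j+1+t}(X_{p+t+2})_n = 0` for all `t` -/
theorem HVan_KM_of_forall [IsNoetherianRing R] (a : HomogeneousIdeal 𝒜) {N : ℕ}
    (hC : C.TorsH a.toIdeal N) {m : ℕ} (hm : C.BddBy m) (n : ι) :
    ∀ (k p j : ℕ), m ≤ p + k → (∀ t : ℕ, HVan (C.X (p + t + 2)) a (j + 1 + t) n) →
      HVan (C.KM p) a (j + 1) n := by
  intro k
  induction k with
  | zero =>
    intro p j hp _
    apply HVan_of_forall_eq_zero
    intro z
    apply subVal_injective 𝒜 (C.X (p + 1)).gr (LinearMap.ker (C.d p)) (C.ker_hom p)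
    rw [map_zero]
    exact hm (p + 1) (by omega) _
  | succ k ih =>
    intro p j hp h
    apply C.HVan_KM a hC p j n
    apply C.HVan_IM a (p + 1) (j + 1) n
    · have := h 0
      rwa [add_zero, add_zero] at this
    · apply ih (p + 1) (j + 1) (by omega)
      intro t
      have := h (t + 1)
      have e1 : p + (t + 1) + 2 = p + 1 + t + 2 := by omega
      have e2 : j + 1 + (t + 1) = j + 1 + 1 + t := by omega
      rwa [e1, e2] at this

/-- `H^{j+1}(B_0)_n = 0` as soon as `H^{j+1+t}(X_{t+1})_n = 0` for all `t` -/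
theorem HVan_IM_zero_of_forall [IsNoetherianRing R] (a : HomogeneousIdeal 𝒜) {N : ℕ}
    (hC : C.TorsH a.toIdeal N) {m : ℕ} (hm : C.BddBy m) (n : ι) (j : ℕ)
    (h : ∀ t : ℕ, HVan (C.X (t + 1)) a (j + 1 + t) n) : HVan (C.IM 0) a (j + 1) n := by
  apply C.HVan_IM a 0 (j + 1) n
  · have := h 0
    rwa [add_zero] at this
  · apply C.HVan_KM_of_forall a hC hm n m 0 (j + 1) (by omega)
    intro t
    have := h (t + 1)
    have e1 : t + 1 + 1 = 0 + t + 2 := by omega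
    have e2 : j + 1 + (t + 1) = j + 1 + 1 + t := by omega
    rwa [e1, e2] at this

/-- **Vanishing along a complex with torsion homology**: `H^{j+1}(X_0)_n = 0` as soon as
`H^{j+1+t}(X_{t+1})_n = 0` for all `t`. -/
theorem HVan_zero_of_forall [IsNoetherianRing R] (a : HomogeneousIdeal 𝒜) {N : ℕ}
    (hC : C.TorsH a.toIdeal N) {m : ℕ} (hm : C.BddBy m) (n : ι) (j : ℕ)
    (h : ∀ t : ℕ, HVan (C.X (t + 1)) a (j + 1 + t) n) : HVan (C.X 0) a (j + 1) n := by
  have h1 := C.HVan_IM_zero_of_forall a hC hm n j h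
  let α := subVal 𝒜 (C.X 0).gr (LinearMap.range (C.d 0)) (C.range_hom 0)
  let Q := quotGMod (C.X 0).gr 𝒜 (LinearMap.range (C.d 0)) (C.range_hom 0)
  let β := quotMk 𝒜 (C.X 0).gr (LinearMap.range (C.d 0)) (C.range_hom 0)
  have hQ : GrLC.gam a.toIdeal Q.carrier = ⊤ := by
    rw [eq_top_iff]
    intro q _
    obtain ⟨z, rfl⟩ := quotMk_surjective 𝒜 (C.X 0).gr _ (C.range_hom 0) q
    refine ⟨N, fun r hr => ?_⟩
    rw [← map_smul, quotMk_eq_zero_iff]
    exact hC.zero z r hr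
  exact HVan_mid (X' := C.IM 0) (X := C.X 0) (X'' := Q) α β
    (subVal_grHom 𝒜 _ _ (C.range_hom 0)) (quotMk_grHom 𝒜 _ _ (C.range_hom 0))
    (subVal_injective 𝒜 _ _ (C.range_hom 0))
    ((subVal_range 𝒜 _ _ (C.range_hom 0)).trans (quotMk_ker 𝒜 _ _ (C.range_hom 0)).symm)
    (quotMk_surjective 𝒜 _ _ (C.range_hom 0)) a (j + 1) n h1 (HVan_of_torsion a hQ j n)

end GCx

end Groth.Agent.Helper20.GrInj
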