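import Mathlib
import Groth.Agent.Lib.Helper20.GrKos3

open DirectSum

namespace Groth.Agent.Helper20.GrInj

universe u

variable {ι : Type} [AddCommGroup ι] [DecidableEq ι]
variable {R : Type u} [CommRing R]
variable {σ : Type u} [SetLike σ R] [AddSubgroupClass σ R] {𝒜 : ι → σ} [GradedRing 𝒜]
variable (M : Type u) [AddCommGroup M] [Module R M] (ℳ : ι → AddSubgroup M)
  [DirectSum.Decomposition ℳ] [SetLike.GradedSMul 𝒜 ℳ]

namespace GCx

/-- terms of the complex concentrated in degree zero -/
noncomputable def singleX : ℕ → GrLC.GMod.{u} 𝒜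
  | 0 => GrLC.GMod.of 𝒜 M ℳ
  | (_ + 1) => zeroGMod 𝒜

/-- the complex with `M` in degree zero and zero elsewhere -/
noncomputable def single : GCx 𝒜 where
  X := singleX M ℳ
  d := fun _ => 0
  d_gr := fun _ _ _ _ => zero_mem _
  d_comp := fun _ _ => rfl

theorem single_torsH : (single (𝒜 := 𝒜) M ℳ).TorsH ⊥ 1 := by
  refine ⟨fun z r hr => ?_, fun p z _ r _ => ?_⟩
  · rw [pow_one, Ideal.mem_bot] at hr
    rw [hr, zero_smul]
    exact Submodule.zero_mem _
  · have : r • z = 0 := Subsingleton.elim (α := PUnit.{u + 1}) _ _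
    rw [this]
    exact Submodule.zero_mem _

theorem single_bddBy : (single (𝒜 := 𝒜) M ℳ).BddBy 1 := by
  intro p hp z
  obtain ⟨q, rfl⟩ : ∃ q, p = q + 1 := ⟨p - 1, by omega⟩
  exact Subsingleton.elim (α := PUnit.{u + 1}) _ _

end GCx

/-- **Existence of the Koszul complex** of a list of homogeneous elements of degree `g` on `M`, with
the properties used: it starts with `M`, is bounded, has homology killed by a power of the ideal
generated by the list, and its `p`-th term is a finite sum of copies of `M(-pg)` (seen through the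
vanishing of pieces of graded local cohomology). -/
theorem exists_koszul [IsNoetherianRing R] (g : ι) (a : HomogeneousIdeal 𝒜) (l : List R)
    (hl : ∀ x ∈ l, x ∈ 𝒜 g) :
    ∃ C : GCx 𝒜, C.X 0 = GrLC.GMod.of 𝒜 M ℳ ∧ (∃ m, C.BddBy m) ∧
      (∃ N, C.TorsH (Ideal.span {x | x ∈ l}) N) ∧
      (∀ (p j : ℕ) (n : ι), HVan (GrLC.GMod.of 𝒜 M ℳ) a j (n - p • g) → HVan (C.X p) a j n) ∧
      (∀ z, C.d 0 z ∈ Ideal.span {x | x ∈ l} • (⊤ : Submodule R (C.X 0).carrier)) := by
  induction l with
  | nil =>
    refine ⟨GCx.single M ℳ, rfl, ⟨1, GCx.single_bddBy M ℳ⟩, ⟨1, ?_⟩, ?_, ?_⟩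
    · have : {x : R | x ∈ ([] : List R)} = ∅ := by
        ext x; simp
      rw [this, Ideal.span_empty]
      exact GCx.single_torsH M ℳ
    · intro p j n h
      cases p with
      | zero =>
        rw [zero_nsmul, sub_zero] at h
        exact h
      | succ p =>
        exact HVan_of_forall_eq_zero (X := zeroGMod 𝒜)
          (fun z => Subsingleton.elim (α := PUnit.{u + 1}) _ _) a j n
    · intro z
      exact Submodule.zero_mem _
  | cons y l ih =>
    obtain ⟨C, hC0, ⟨m, hm⟩, ⟨N, hN⟩, hinv, hrange⟩ :=
      ih (fun x hx => hl x (List.mem_cons_of_mem y hx))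
    have hy : y ∈ 𝒜 g := hl y List.mem_cons_self
    have hset : {x : R | x ∈ y :: l} = {x | x ∈ l} ∪ {y} := by
      ext x
      simp only [List.mem_cons, Set.mem_ofPred_eq, Set.mem_union, Set.mem_singleton_iff]
      tauto
    refine ⟨C.cone hy, hC0, ⟨m + 1, C.cone_bddBy hy hm⟩, ⟨2 * N, ?_⟩, ?_, ?_⟩
    · rw [hset, Ideal.span_union]
      exact C.cone_torsH hy hN
    · intro p j n h
      cases p with
      | zero => exact hinv 0 j n h
      | succ p =>
        apply HVan_prod
        · exact hinv (p + 1) j n h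
        · apply HVan_shift
          apply hinv p j (n + -g)
          have : n + -g - p • g = n - (p + 1) • g := by
            rw [succ_nsmul]
            abel
          rw [this]
          exact h
    · rintro ⟨u, v⟩
      rw [hset, Ideal.span_union]
      have h1 : C.d 0 u ∈ (Ideal.span {x | x ∈ l} ⊔ Ideal.span {y}) •
          (⊤ : Submodule R (C.X 0).carrier) := by
        have := hrange u
        exact Submodule.smul_mono_left le_sup_left this
      have h2 : y • (show (C.X 0).carrier from v) ∈ (Ideal.span {x | x ∈ l} ⊔ Ideal.span {y}) •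
          (⊤ : Submodule R (C.X 0).carrier) := by
        have hy' : y ∈ Ideal.span {x | x ∈ l} ⊔ Ideal.span {y} :=
          Ideal.mem_sup_right (Ideal.subset_span rfl)
        exact Submodule.smul_mem_smul hy' Submodule.mem_top
      exact Submodule.add_mem _ h1 h2

end Groth.Agent.Helper20.GrInj
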