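import Mathlib
import Groth.Agent.Lib.Helper20.GrKos4

open DirectSum

namespace Groth.Agent.Helper20.GrInj

universe u

variable {R : Type u} [CommRing R]
variable {σ : Type u} [SetLike σ R] [AddSubgroupClass σ R] {𝒜 : ℤ → σ} [GradedRing 𝒜]

omit [AddSubgroupClass σ R] [GradedRing 𝒜] in
/-- a finite list of elements of degree one generating the ideal `(R₁)` -/
theorem exists_list_span_eq [IsNoetherianRing R] (a : Ideal R)
    (hhom : a = Ideal.span ((𝒜 1 : σ) : Set R)) :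
    ∃ l : List R, (∀ x ∈ l, x ∈ 𝒜 1) ∧ Ideal.span {x | x ∈ l} = a := by
  classical
  have hfg : (Ideal.span ((𝒜 1 : σ) : Set R)).FG := IsNoetherian.noetherian _
  obtain ⟨s, hs1, hs⟩ := (Submodule.fg_span_iff_fg_span_finset_subset ((𝒜 1 : σ) : Set R)).1 hfg
  refine ⟨s.toList, fun x hx => hs1 (Finset.mem_toList.1 hx), ?_⟩
  have : {x : R | x ∈ s.toList} = (s : Set R) := by
    ext x
    simp
  rw [this, hhom]
  exact hs.symm

variable {M : Type u} [AddCommGroup M] [Module R M] {ℳ : ℤ → AddSubgroup M}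
  [DirectSum.Decomposition ℳ] [SetLike.GradedSMul 𝒜 ℳ]

/-- **One step of regularity propagation** over a standard graded ring: for `j ≥ 0`,
`H^{j+1}(M)_n = 0` as soon as `H^{j+1+t}(M)_{n-1-t} = 0` for all `t ≥ 0`. -/
theorem HVan_step [IsNoetherianRing R] (a : HomogeneousIdeal 𝒜)
    (hhom : a.toIdeal = Ideal.span ((𝒜 1 : σ) : Set R)) (j : ℕ) (n : ℤ)
    (h : ∀ t : ℕ, HVan (GrLC.GMod.of 𝒜 M ℳ) a (j + 1 + t) (n - (t + 1))) :
    HVan (GrLC.GMod.of 𝒜 M ℳ) a (j + 1) n := by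
  obtain ⟨l, hl, hspan⟩ := exists_list_span_eq (𝒜 := 𝒜) a.toIdeal hhom
  obtain ⟨C, hC0, ⟨m, hm⟩, ⟨N, hN⟩, hinv, _⟩ := exists_koszul M ℳ (1 : ℤ) a l hl
  rw [hspan] at hN
  have := C.HVan_zero_of_forall a hN hm n j (fun t => hinv (t + 1) (j + 1 + t) n (by
    have e : n - (t + 1) • (1 : ℤ) = n - ((t : ℤ) + 1) := by
      rw [nsmul_eq_mul, mul_one]
      push_cast
      rfl
    rw [e]
    exact h t))
  rw [hC0] at this
  exact this

/-- **Propagation of regularity** -/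
theorem HVan_propagate [IsNoetherianRing R] (a : HomogeneousIdeal 𝒜)
    (hhom : a.toIdeal = Ideal.span ((𝒜 1 : σ) : Set R)) (r : ℤ) (l₀ : ℕ) (hl₀ : 1 ≤ l₀)
    (h : ∀ i : ℕ, l₀ ≤ i → HVan (GrLC.GMod.of 𝒜 M ℳ) a i (r + 1 - i)) :
    ∀ (k : ℕ) (i : ℕ), l₀ ≤ i → HVan (GrLC.GMod.of 𝒜 M ℳ) a i (r + 1 + k - i) := by
  intro k
  induction k with
  | zero =>
    intro i hi
    have := h i hi
    simpa using this
  | succ k ih =>
    intro i hi
    obtain ⟨j, rfl⟩ : ∃ j, i = j + 1 := ⟨i - 1, by omega⟩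
    apply HVan_step a hhom j
    intro t
    have := ih (j + 1 + t) (by omega)
    have e : r + 1 + ((k + 1 : ℕ) : ℤ) - ((j + 1 : ℕ) : ℤ) - ((t : ℤ) + 1) =
        r + 1 + (k : ℤ) - ((j + 1 + t : ℕ) : ℤ) := by
      push_cast
      ring
    rw [e]
    exact this

end Groth.Agent.Helper20.GrInj
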