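import Mathlib
import Groth.Agent.Lib.Helper20.GrKos5

open DirectSum

namespace Groth.Agent.Helper20.GrInj

universe u

section General

variable {ι : Type} [AddCommGroup ι] [DecidableEq ι]
variable {R : Type u} [CommRing R]
variable {σ : Type u} [SetLike σ R] [AddSubgroupClass σ R] {𝒜 : ι → σ} [GradedRing 𝒜]
variable {M : Type u} [AddCommGroup M] [Module R M] {ℳ : ι → AddSubgroup M}
  [DirectSum.Decomposition ℳ] [SetLike.GradedSMul 𝒜 ℳ]
variable {N : Type u} [AddCommGroup N] [Module R N] {𝒩 : ι → AddSubgroup N}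
  [DirectSum.Decomposition 𝒩] [SetLike.GradedSMul 𝒜 𝒩]

/-- vanishing of a piece of `H^j` passes to the quotient by a torsion submodule when the next
cohomology of the submodule vanishes; version for `j = 0` included: from `H^j(M)_n = 0` to
`H^j(M/K)_n = 0` for `K` torsion and `j ≥ 1`, see `Hcomp_quot_torsion_eq_bot`. -/
theorem Hcomp_quotient_quasiRegular_eq_bot [IsNoetherianRing R] (a : HomogeneousIdeal 𝒜) {g : ι}
    {x : R} (hx : x ∈ 𝒜 g) (hKt : LinearMap.ker (LinearMap.lsmul R M x) ≤ GrLC.gam a.toIdeal M)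
    (π : M →ₗ[R] N) (hπ : Function.Surjective π) (hπg : GrLC.IsGrHom ℳ 𝒩 π)
    (hker : LinearMap.ker π = LinearMap.range (LinearMap.lsmul R M x))
    (E : GrLC.StarInjRes 𝒜 ℳ) (E' : GrLC.StarInjRes 𝒜 𝒩) (i : ℕ) (n : ι)
    (h1 : E.Hcomp a i n = ⊥) (h2 : E.Hcomp a (i + 1) (n - g) = ⊥) :
    E'.Hcomp a i n = ⊥ := by
  have hK : (LinearMap.ker (LinearMap.lsmul R M x)).IsHomogeneous ℳ := ker_lsmul_isHomogeneous hx
  let Q := quotGMod ℳ 𝒜 (LinearMap.ker (LinearMap.lsmul R M x)) hK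
  let xb : Q.carrier →ₗ[R] M :=
    quotLift 𝒜 ℳ (LinearMap.ker (LinearMap.lsmul R M x)) hK (LinearMap.lsmul R M x) le_rfl
  have hxbinj : Function.Injective xb :=
    quotLift_injective 𝒜 ℳ (LinearMap.ker (LinearMap.lsmul R M x)) hK (LinearMap.lsmul R M x) rfl
  have hxbgr : GrLC.IsGrHom (shiftGr Q.gr (-g)) ℳ xb := by
    rintro j _ ⟨y, hy, rfl⟩
    exact lsmul_isGrHom_shift (ℳ := ℳ) hx j y hy
  have hex : LinearMap.range xb = LinearMap.ker π := by
    rw [hker]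
    exact Submodule.range_liftQ _ _ _
  let Ē := starInjRes 𝒜 Q.gr
  have h2' : Ē.Hcomp a (i + 1) (n - g) = ⊥ :=
    Hcomp_quot_torsion_eq_bot a _ hK hKt E Ē i (n - g) h2
  let A := liftCh (resShift Ē (-g)) E xb hxbgr
  let B := liftCh E E' π hπg
  obtain ⟨_, _, δ, hδgr, hδ1, _⟩ := exists_les (resShift Ē (-g)) E E' xb π hxbgr hxbinj hex hπ
    A (liftCh_isGr _ _ _ _) (liftCh_lifts _ _ _ _) B (liftCh_isGr _ _ _ _) (liftCh_lifts _ _ _ _) a
  rw [eq_bot_iff]
  intro v hv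
  have hδv : δ i v ∈ (resShift Ē (-g)).Hcomp a (i + 1) n := hδgr i n v hv
  have hδv' : δ i v ∈ Ē.Hcomp a (i + 1) (n + -g) :=
    (mem_resShift_Hcomp Ē (-g) a (i + 1) n _).1 hδv
  rw [← sub_eq_add_neg, h2'] at hδv'
  have hvker : v ∈ LinearMap.ker (δ i) := (Submodule.mem_bot _).1 hδv'
  rw [← hδ1 i] at hvker
  obtain ⟨u, hu, rfl⟩ := exists_homog_preimage_H (E := E) (F := E') a i i
    (ChMap.Hmap_isGr (liftCh_isGr E E' π hπg) a i) hv hvker
  rw [h1, Submodule.mem_bot] at hu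
  rw [hu, map_zero]
  exact Submodule.zero_mem _

end General

section IntGraded

variable {R : Type u} [CommRing R]
variable {σ : Type u} [SetLike σ R] [AddSubgroupClass σ R] {𝒜 : ℤ → σ} [GradedRing 𝒜]
variable {M : Type u} [AddCommGroup M] [Module R M] {ℳ : ℤ → AddSubgroup M}
  [DirectSum.Decomposition ℳ] [SetLike.GradedSMul 𝒜 ℳ]
variable {N : Type u} [AddCommGroup N] [Module R N] {𝒩 : ℤ → AddSubgroup N}
  [DirectSum.Decomposition 𝒩] [SetLike.GradedSMul 𝒜 𝒩]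

/-- **Quasi-regular step, vanishing**: if `H^i(M/xM)` vanishes in degrees `≥ s`, then `H^{i+1}(M)`
vanishes in degrees `≥ s - g`, for `x ∈ a` homogeneous of positive degree `g` whose annihilator in
`M` is `a`-torsion. -/
theorem Hcomp_succ_eq_bot_of_quasiRegular [IsNoetherianRing R] (a : HomogeneousIdeal 𝒜) {g : ℤ}
    (hg : 0 < g) {x : R} (hx : x ∈ 𝒜 g) (hxa : x ∈ a.toIdeal)
    (hKt : LinearMap.ker (LinearMap.lsmul R M x) ≤ GrLC.gam a.toIdeal M)
    (π : M →ₗ[R] N) (hπ : Function.Surjective π) (hπg : GrLC.IsGrHom ℳ 𝒩 π)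
    (hker : LinearMap.ker π = LinearMap.range (LinearMap.lsmul R M x))
    (E : GrLC.StarInjRes 𝒜 ℳ) (E' : GrLC.StarInjRes 𝒜 𝒩) (i : ℕ) (s : ℤ)
    (h : ∀ n ≥ s, E'.Hcomp a i n = ⊥) : ∀ m ≥ s - g, E.Hcomp a (i + 1) m = ⊥ := by
  have hK : (LinearMap.ker (LinearMap.lsmul R M x)).IsHomogeneous ℳ := ker_lsmul_isHomogeneous hx
  let Q := quotGMod ℳ 𝒜 (LinearMap.ker (LinearMap.lsmul R M x)) hK
  let β := quotMk 𝒜 ℳ (LinearMap.ker (LinearMap.lsmul R M x)) hK
  have hβ : Function.Surjective β := quotMk_surjective 𝒜 ℳ _ hK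
  have hβker : LinearMap.ker β = LinearMap.ker (LinearMap.lsmul R M x) := quotMk_ker 𝒜 ℳ _ hK
  let xb : Q.carrier →ₗ[R] M :=
    quotLift 𝒜 ℳ (LinearMap.ker (LinearMap.lsmul R M x)) hK (LinearMap.lsmul R M x) le_rfl
  have hxbβ : ∀ m, xb (β m) = x • m := fun m => rfl
  have hxbinj : Function.Injective xb :=
    quotLift_injective 𝒜 ℳ (LinearMap.ker (LinearMap.lsmul R M x)) hK (LinearMap.lsmul R M x) rfl
  have hxbgr : GrLC.IsGrHom (shiftGr Q.gr (-g)) ℳ xb := by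
    rintro j _ ⟨y, hy, rfl⟩
    exact lsmul_isGrHom_shift (ℳ := ℳ) hx j y hy
  have hex : LinearMap.range xb = LinearMap.ker π := by
    rw [hker]
    exact Submodule.range_liftQ _ _ _
  have hβgr : GrLC.IsGrHom (shiftGr ℳ (-g)) (shiftGr Q.gr (-g)) β :=
    fun j m hm => quotMk_grHom 𝒜 ℳ _ hK (j + -g) m hm
  let Ē := starInjRes 𝒜 Q.gr
  let A := liftCh (resShift Ē (-g)) E xb hxbgr
  let B := liftCh E E' π hπg
  let B₂ := liftCh (resShift E (-g)) (resShift Ē (-g)) β hβgr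
  obtain ⟨_, _, δ, hδgr, _, hδ2⟩ := exists_les (resShift Ē (-g)) E E' xb π hxbgr hxbinj hex hπ
    A (liftCh_isGr _ _ _ _) (liftCh_lifts _ _ _ _) B (liftCh_isGr _ _ _ _) (liftCh_lifts _ _ _ _) a
  have hB₂inj : Function.Injective (B₂.Hmap a (i + 1)) :=
    Hmap_injective_of_torsion_ker (ℳ := shiftGr ℳ (-g)) (𝒩 := shiftGr Q.gr (-g)) a β hβ hβgr
      (hβker.le.trans hKt) (resShift E (-g)) (resShift Ē (-g)) B₂ (liftCh_isGr _ _ _ _)
      (liftCh_lifts _ _ _ _) i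
  -- multiplication by `x` factors through `M/K`
  have hfac : ∀ w : (resShift E (-g)).H a (i + 1),
      (smulCh E (g := g) x).Hmap a (i + 1) w = A.Hmap a (i + 1) (B₂.Hmap a (i + 1) w) := by
    intro w
    rw [← ChMap.Hmap_comp]
    have hl : (A.comp B₂).Lifts (LinearMap.lsmul R M x) := by
      have := ChMap.comp_lifts (liftCh_lifts (resShift Ē (-g)) E xb hxbgr)
        (liftCh_lifts (resShift E (-g)) (resShift Ē (-g)) β hβgr)
      intro m
      exact this m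
    exact Hmap_eq_of_lifts (smulCh E (g := g) x) (A.comp B₂) (smulCh_isGr E hx)
      (ChMap.comp_isGr (liftCh_isGr _ _ _ _) (liftCh_isGr _ _ _ _)) (LinearMap.lsmul R M x)
      (smulCh_lifts E x) hl a (i + 1) w
  -- multiplication by `x` is injective on the pieces of degree `m` with `m + g ≥ s`
  have hstar : ∀ m : ℤ, s ≤ m + g → ∀ w ∈ E.Hcomp a (i + 1) m, x • w = 0 → w = 0 := by
    intro m hm w hw hxw
    have key : ∀ w' : (resShift E (-g)).H a (i + 1),
        w' ∈ (resShift E (-g)).Hcomp a (i + 1) (m + g) →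
        (smulCh E (g := g) x).Hmap a (i + 1) w' = 0 → w' = 0 := by
      intro w' h1 h2'
      rw [hfac] at h2'
      have h2 : B₂.Hmap a (i + 1) w' ∈ LinearMap.ker (A.Hmap a (i + 1)) := LinearMap.mem_ker.2 h2'
      rw [← hδ2 i] at h2
      have h3 : B₂.Hmap a (i + 1) w' ∈ (resShift Ē (-g)).Hcomp a (i + 1) (m + g) :=
        ChMap.Hmap_isGr (liftCh_isGr _ _ _ _) a (i + 1) (m + g) w' h1
      obtain ⟨v, hv, hv2⟩ := exists_homog_preimage_H (E := E') (F := resShift Ē (-g)) a i (i + 1)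
        (hδgr i) h3 h2
      rw [h (m + g) hm, Submodule.mem_bot] at hv
      rw [hv, map_zero] at hv2
      apply hB₂inj
      rw [← hv2, map_zero]
    exact key w ((mem_resShift_Hcomp_neg E g a (i + 1) m w).2 hw)
      ((smulCh_Hmap E (g := g) x a (i + 1) w).trans hxw)
  have hpow : ∀ (k : ℕ) (m : ℤ), s - g ≤ m → ∀ w ∈ E.Hcomp a (i + 1) m, x ^ k • w = 0 → w = 0 := by
    intro k
    induction k with
    | zero =>
      intro m _ w _ hw0
      rwa [pow_zero, one_smul] at hw0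
    | succ k ih =>
      intro m hm w hw hw0
      rw [pow_succ, mul_smul] at hw0
      have h1 := ih (m + g) (by omega) (x • w) (smul_mem_Hcomp E a (i + 1) hx hw) hw0
      exact hstar m (by omega) w hw h1
  intro m hm
  rw [eq_bot_iff]
  intro w hw
  obtain ⟨k, hk⟩ := H_torsion E a (i + 1) w
  exact (Submodule.mem_bot _).2 (hpow k m hm w hw (hk _ (Ideal.pow_mem_pow hxa k)))

end IntGraded

end Groth.Agent.Helper20.GrInj
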