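import Mathlib
import Groth.Agent.Lib.Helper20.GrKos6

open DirectSum

namespace Groth.Agent.Helper20.GrInj

universe u

section EndDeg

variable {M : Type u} [AddCommGroup M]

theorem endDeg_le_coe_iff (ℳ : ℤ → AddSubgroup M) (d : ℤ) :
    GrLC.endDeg ℳ ≤ ((d : WithTop ℤ) : WithBot (WithTop ℤ)) ↔ ∀ n : ℤ, d < n → ℳ n = ⊥ := by
  unfold GrLC.endDeg
  rw [iSup_le_iff]
  constructor
  · intro h n hn
    by_contra hne
    have := (iSup_le_iff.1 (h n)) hne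
    rw [WithBot.coe_le_coe, WithTop.coe_le_coe] at this
    omega
  · intro h n
    rw [iSup_le_iff]
    intro hne
    rw [WithBot.coe_le_coe, WithTop.coe_le_coe]
    by_contra hlt
    exact hne (h n (by omega))

end EndDeg

variable {R : Type u} [CommRing R]
variable {σ : Type u} [SetLike σ R] [AddSubgroupClass σ R] {𝒜 : ℤ → σ} [GradedRing 𝒜]
variable {M : Type u} [AddCommGroup M] [Module R M] {ℳ : ℤ → AddSubgroup M}
  [DirectSum.Decomposition ℳ] [SetLike.GradedSMul 𝒜 ℳ]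
variable {N : Type u} [AddCommGroup N] [Module R N] {𝒩 : ℤ → AddSubgroup N}
  [DirectSum.Decomposition 𝒩] [SetLike.GradedSMul 𝒜 𝒩]

theorem Hgr_eq_bot_iff (E : GrLC.StarInjRes 𝒜 ℳ) (a : HomogeneousIdeal 𝒜) (i : ℕ) (n : ℤ) :
    E.Hgr a i n = ⊥ ↔ E.Hcomp a i n = ⊥ := by
  constructor
  · intro h
    rw [eq_bot_iff]
    intro w hw
    have : w ∈ E.Hgr a i n := hw
    rw [h] at this
    exact this
  · intro h
    rw [eq_bot_iff]
    intro w hw
    have : w ∈ E.Hcomp a i n := hw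
    rw [h] at this
    exact this

/-- `end H^i ≤ d` in terms of pieces -/
theorem endDeg_Hgr_le_iff (E : GrLC.StarInjRes 𝒜 ℳ) (a : HomogeneousIdeal 𝒜) (i : ℕ) (d : ℤ) :
    GrLC.endDeg (E.Hgr a i) ≤ ((d : WithTop ℤ) : WithBot (WithTop ℤ)) ↔
      ∀ n : ℤ, d < n → E.Hcomp a i n = ⊥ := by
  rw [endDeg_le_coe_iff]
  exact forall_congr' (fun n => imp_congr_right (fun _ => Hgr_eq_bot_iff E a i n))

/-- weak regularity propagates to all higher degrees -/
theorem wreg_propagate [IsNoetherianRing R] (a : HomogeneousIdeal 𝒜)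
    (hhom : a.toIdeal = Ideal.span ((𝒜 1 : σ) : Set R)) (E : GrLC.StarInjRes 𝒜 ℳ) (d : ℤ)
    (h : ∀ i : ℕ, 0 < i → E.Hcomp a i (d - (i : ℤ) + 1) = ⊥) :
    ∀ i : ℕ, 0 < i → ∀ n : ℤ, d - (i : ℤ) + 1 ≤ n → E.Hcomp a i n = ⊥ := by
  have hprop := HVan_propagate (M := M) (ℳ := ℳ) a hhom d 1 le_rfl
    (fun i hi => HVan_of_res (X := GrLC.GMod.of 𝒜 M ℳ) E (by
      have := h i hi
      have e : d + 1 - (i : ℤ) = d - (i : ℤ) + 1 := by ring
      rw [e]
      exact this))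
  intro i hi n hn
  obtain ⟨k, hk⟩ : ∃ k : ℕ, n = d + 1 + k - i := ⟨(n - (d - (i : ℤ) + 1)).toNat, by omega⟩
  rw [hk]
  exact hprop k i hi E

/-- **Regularity and quasi-regular linear forms**: `M` is weakly `d`-regular iff `M/xM` is and
`H⁰(M)` vanishes above degree `d`. -/
theorem wreg_iff_quotient [IsNoetherianRing R] (a : HomogeneousIdeal 𝒜)
    (hhom : a.toIdeal = Ideal.span ((𝒜 1 : σ) : Set R)) {x : R} (hx : x ∈ 𝒜 1)
    (hKt : LinearMap.ker (LinearMap.lsmul R M x) ≤ GrLC.gam a.toIdeal M)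
    (π : M →ₗ[R] N) (hπ : Function.Surjective π) (hπg : GrLC.IsGrHom ℳ 𝒩 π)
    (hker : LinearMap.ker π = LinearMap.range (LinearMap.lsmul R M x))
    (E : GrLC.StarInjRes 𝒜 ℳ) (E' : GrLC.StarInjRes 𝒜 𝒩) (d : ℤ) :
    ((∀ n : ℤ, d < n → E.Hcomp a 0 n = ⊥) ∧
        ∀ i : ℕ, 0 < i → E.Hcomp a i (d - (i : ℤ) + 1) = ⊥) ↔
      (((∀ n : ℤ, d < n → E'.Hcomp a 0 n = ⊥) ∧
          ∀ i : ℕ, 0 < i → E'.Hcomp a i (d - (i : ℤ) + 1) = ⊥) ∧
        ∀ n : ℤ, d < n → E.Hcomp a 0 n = ⊥) := by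
  have hxa : x ∈ a.toIdeal := by
    rw [hhom]
    exact Ideal.subset_span hx
  constructor
  · rintro ⟨h0, h1⟩
    have hall := wreg_propagate a hhom E d h1
    refine ⟨⟨fun n hn => ?_, fun i hi => ?_⟩, h0⟩
    · apply Hcomp_quotient_quasiRegular_eq_bot a hx hKt π hπ hπg hker E E' 0 n (h0 n hn)
      exact hall 1 one_pos (n - 1) (by push_cast; omega)
    · apply Hcomp_quotient_quasiRegular_eq_bot a hx hKt π hπ hπg hker E E' i _ (h1 i hi)
      have := h1 (i + 1) (Nat.succ_pos i)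
      have e : d - ((i + 1 : ℕ) : ℤ) + 1 = d - (i : ℤ) + 1 - 1 := by push_cast; ring
      rw [e] at this
      exact this
  · rintro ⟨⟨h0', h1'⟩, h0⟩
    refine ⟨h0, fun i hi => ?_⟩
    obtain ⟨j, rfl⟩ : ∃ j, i = j + 1 := ⟨i - 1, by omega⟩
    have hall' := wreg_propagate a hhom E' d h1'
    have hN : ∀ n : ℤ, d - (j : ℤ) + 1 ≤ n → E'.Hcomp a j n = ⊥ := by
      intro n hn
      cases j with
      | zero => exact h0' n (by push_cast at hn; omega)
      | succ j => exact hall' (j + 1) (Nat.succ_pos j) n hn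
    apply Hcomp_succ_eq_bot_of_quasiRegular a one_pos hx hxa hKt π hπ hπg hker E E' j
      (d - (j : ℤ) + 1) hN
    push_cast
    omega

end Groth.Agent.Helper20.GrInj
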