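import Mathlib
import Groth.Agent.Lib.Helper20.GrKos7

open DirectSum

namespace Groth.Agent.Helper20.GrInj

universe u

section General

variable {ι : Type} [AddCommGroup ι] [DecidableEq ι]
variable {R : Type u} [CommRing R]
variable {σ : Type u} [SetLike σ R] [AddSubgroupClass σ R] {𝒜 : ι → σ} [GradedRing 𝒜]
variable {M : Type u} [AddCommGroup M] [Module R M] {ℳ : ι → AddSubgroup M}
  [DirectSum.Decomposition ℳ] [SetLike.GradedSMul 𝒜 ℳ]

theorem gamToH_injective (E : GrLC.StarInjRes 𝒜 ℳ) (a : HomogeneousIdeal 𝒜) :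
    Function.Injective (gamToH E a) := by
  rw [← LinearMap.ker_eq_bot, eq_bot_iff]
  intro y hy
  rw [LinearMap.mem_ker] at hy
  have h1 : E.toH a 0 ⟨E.ε y.1, ChMap.map_gam_lin a.toIdeal E.ε y.2,
      LinearMap.mem_ker.2 (res_d_ε E y.1)⟩ = 0 := hy
  rw [ChMap.toH_eq_zero_iff] at h1
  have h2 : E.ε y.1 = 0 := (Submodule.mem_bot R).1 h1
  rw [Submodule.mem_bot]
  exact Subtype.ext (E.ε_injective (h2.trans (map_zero _).symm))

/-- a torsion graded module whose `H⁰` vanishes in degree `n` vanishes in degree `n` -/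
theorem eq_zero_of_HVan_zero_of_torsion {X : GrLC.GMod.{u} 𝒜} (a : HomogeneousIdeal 𝒜)
    (hX : GrLC.gam a.toIdeal X.carrier = ⊤) (n : ι) (h : HVan X a 0 n) :
    ∀ z ∈ X.gr n, z = 0 := by
  intro z hz
  let E := starInjRes 𝒜 X.gr
  have hzg : z ∈ GrLC.gam a.toIdeal X.carrier := by rw [hX]; exact Submodule.mem_top
  have h1 := gamToH_mem E a n ⟨z, hzg⟩ hz
  rw [h E, Submodule.mem_bot] at h1
  have h2 := gamToH_injective E a (h1.trans (map_zero _).symm)
  exact congrArg Subtype.val h2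

/-- elements of degree `n` of `X` lie in `J X` -/
def GenIn (X : GrLC.GMod.{u} 𝒜) (J : Ideal R) (n : ι) : Prop :=
  ∀ z ∈ X.gr n, z ∈ J • (⊤ : Submodule R X.carrier)

namespace GCx

/-- **Generation along a complex with torsion homology**: if `H⁰(X_0)_n = 0` and
`H^{1+t}(X_{t+1})_n = 0` for all `t`, then `(X_0)_n` lies in the image of `X_1`. -/
theorem genIn_zero_of_forall [IsNoetherianRing R] (C : GCx 𝒜) (a : HomogeneousIdeal 𝒜) {N : ℕ}
    (hC : C.TorsH a.toIdeal N) {m : ℕ} (hm : C.BddBy m) (J : Ideal R)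
    (hrange : ∀ z, C.d 0 z ∈ J • (⊤ : Submodule R (C.X 0).carrier)) (n : ι)
    (h0 : HVan (C.X 0) a 0 n) (h : ∀ t : ℕ, HVan (C.X (t + 1)) a (0 + 1 + t) n) :
    GenIn (C.X 0) J n := by
  have h1 := C.HVan_IM_zero_of_forall a hC hm n 0 h
  let α := subVal 𝒜 (C.X 0).gr (LinearMap.range (C.d 0)) (C.range_hom 0)
  let Q := quotGMod (C.X 0).gr 𝒜 (LinearMap.range (C.d 0)) (C.range_hom 0)
  let β := quotMk 𝒜 (C.X 0).gr (LinearMap.range (C.d 0)) (C.range_hom 0)
  have hQ : GrLC.gam a.toIdeal Q.carrier = ⊤ := by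
    rw [eq_top_iff]
    intro q _
    obtain ⟨z, rfl⟩ := quotMk_surjective 𝒜 (C.X 0).gr _ (C.range_hom 0) q
    refine ⟨N, fun r hr => ?_⟩
    rw [← map_smul, quotMk_eq_zero_iff]
    exact hC.zero z r hr
  have h2 : HVan Q a 0 n := HVan_right (X' := C.IM 0) (X := C.X 0) (X'' := Q) α β
    (subVal_grHom 𝒜 _ _ (C.range_hom 0)) (quotMk_grHom 𝒜 _ _ (C.range_hom 0))
    (subVal_injective 𝒜 _ _ (C.range_hom 0))
    ((subVal_range 𝒜 _ _ (C.range_hom 0)).trans (quotMk_ker 𝒜 _ _ (C.range_hom 0)).symm)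
    (quotMk_surjective 𝒜 _ _ (C.range_hom 0)) a 0 n h0 h1
  intro z hz
  have h3 := eq_zero_of_HVan_zero_of_torsion a hQ n h2 (β z)
    (quotMk_grHom 𝒜 _ _ (C.range_hom 0) n z hz)
  have h4 : z ∈ LinearMap.range (C.d 0) := (quotMk_eq_zero_iff 𝒜 _ _ (C.range_hom 0)).1 h3
  obtain ⟨w, rfl⟩ := h4
  exact hrange w

end GCx

end General

section IntGraded

variable {R : Type u} [CommRing R]
variable {σ : Type u} [SetLike σ R] [AddSubgroupClass σ R] {𝒜 : ℤ → σ} [GradedRing 𝒜]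
variable {M : Type u} [AddCommGroup M] [Module R M] {ℳ : ℤ → AddSubgroup M}
  [DirectSum.Decomposition ℳ] [SetLike.GradedSMul 𝒜 ℳ]

/-- over a standard graded ring: `M_n ⊆ R₊ M` as soon as `H^t(M)_{n-t} = 0` for all `t` -/
theorem genIn_of_HVan [IsNoetherianRing R] (a : HomogeneousIdeal 𝒜)
    (hhom : a.toIdeal = Ideal.span ((𝒜 1 : σ) : Set R)) (n : ℤ)
    (h : ∀ t : ℕ, HVan (GrLC.GMod.of 𝒜 M ℳ) a t (n - t)) :
    GenIn (GrLC.GMod.of 𝒜 M ℳ) a.toIdeal n := by
  obtain ⟨l, hl, hspan⟩ := exists_list_span_eq (𝒜 := 𝒜) a.toIdeal hhom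
  obtain ⟨C, hC0, ⟨m, hm⟩, ⟨N, hN⟩, hinv, hrange⟩ := exists_koszul M ℳ (1 : ℤ) a l hl
  rw [hspan] at hN hrange
  have h0 : HVan (C.X 0) a 0 n := by
    rw [hC0]
    have := h 0
    simpa using this
  have := C.genIn_zero_of_forall a hN hm a.toIdeal hrange n h0
    (fun t => hinv (t + 1) (0 + 1 + t) n (by
      have e : n - (t + 1) • (1 : ℤ) = n - ((0 + 1 + t : ℕ) : ℤ) := by
        rw [nsmul_eq_mul, mul_one]
        push_cast
        ring
      rw [e]
      exact h (0 + 1 + t)))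
  rw [hC0] at this
  exact this

/-- **graded Nakayama, generation form**: if `M_n ⊆ a M` for all degrees `n` outside `p`, where `a` is
concentrated in positive degrees and `M` is finitely generated over the positively graded ring, then
`M` is generated by its pieces of degrees in `p`. -/
theorem span_eq_top_of_genIn [Module.Finite R M]
    (hpos : ∀ n : ℤ, n < 0 → ∀ x ∈ 𝒜 n, x = 0) (a : HomogeneousIdeal 𝒜)
    (hapos : ∀ r ∈ a.toIdeal, ∀ u : ℤ, u ≤ 0 → (decompose 𝒜 r u : R) = 0)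
    (p : ℤ → Prop) (h : ∀ n : ℤ, ¬ p n → GenIn (GrLC.GMod.of 𝒜 M ℳ) a.toIdeal n) :
    Submodule.span R (⋃ (n : ℤ) (_ : p n), (ℳ n : Set M)) = ⊤ := by
  classical
  set G : Submodule R M := Submodule.span R (⋃ (n : ℤ) (_ : p n), (ℳ n : Set M)) with hG
  have hGhom : G.IsHomogeneous ℳ := by
    apply span_isHomogeneous_of_homog 𝒜 ℳ
    intro s hs
    obtain ⟨n, _, hsn⟩ := Set.mem_iUnion₂.1 hs
    exact ⟨n, hsn⟩
  let Q := quotGMod ℳ 𝒜 G hGhom
  let β := quotMk 𝒜 ℳ G hGhom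
  obtain ⟨n₀, hn₀⟩ := exists_bddBelow_of_finite 𝒜 ℳ hpos
  have htop : (⊤ : Submodule R Q.carrier) ≤ a.toIdeal • (⊤ : Submodule R Q.carrier) := by
    intro q _
    obtain ⟨m, rfl⟩ := quotMk_surjective 𝒜 ℳ G hGhom q
    rw [← sum_support_decompose ℳ m, map_sum]
    apply Submodule.sum_mem
    intro n _
    by_cases hn : p n
    · have : (decompose ℳ m n : M) ∈ G :=
        Submodule.subset_span (Set.mem_iUnion₂.2 ⟨n, hn, (decompose ℳ m n).2⟩)
      rw [(quotMk_eq_zero_iff 𝒜 ℳ G hGhom).2 this]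
      exact Submodule.zero_mem _
    · have h1 : (decompose ℳ m n : M) ∈ a.toIdeal • (⊤ : Submodule R M) :=
        h n hn _ (decompose ℳ m n).2
      have h2 : β (decompose ℳ m n : M) ∈ (a.toIdeal • (⊤ : Submodule R M)).map β :=
        Submodule.mem_map_of_mem h1
      rw [Submodule.map_smul''] at h2
      exact Submodule.smul_mono le_rfl le_top h2
  have hbot := eq_bot_of_le_smul_of_bddBelow 𝒜 Q.gr a.toIdeal hapos ⊤
    (fun i m _ => Submodule.mem_top) htop n₀ (by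
      rintro j hj q _ ⟨y, hy, rfl⟩
      have : y = 0 := hn₀ j hj y hy
      rw [this, map_zero]
      rfl)
  rw [eq_top_iff]
  intro m _
  have : β m ∈ (⊤ : Submodule R Q.carrier) := Submodule.mem_top
  rw [hbot, Submodule.mem_bot] at this
  exact (quotMk_eq_zero_iff 𝒜 ℳ G hGhom).1 this

end IntGraded

end Groth.Agent.Helper20.GrInj
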