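import Mathlib
import Groth.Agent.Lib.Helper20.GrKos8

open DirectSum

namespace Groth.Agent.Helper20.GrInj

universe u

variable {ι : Type} [AddCommGroup ι] [DecidableEq ι]
variable {R : Type u} [CommRing R]
variable {σ : Type u} [SetLike σ R] [AddSubgroupClass σ R] (𝒜 : ι → σ) [GradedRing 𝒜]
variable {K : Type u} [AddCommGroup K] [Module R K] (𝒦 : ι → AddSubgroup K)
  [DirectSum.Decomposition 𝒦] [SetLike.GradedSMul 𝒜 𝒦]
variable {I : Type u} [AddCommGroup I] [Module R I] (ℐ : ι → AddSubgroup I)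
  [DirectSum.Decomposition ℐ] [SetLike.GradedSMul 𝒜 ℐ]

/-- projection onto the piece of degree `j`, as an additive endomorphism -/
noncomputable def projAdd (j : ι) : I →+ I where
  toFun x := (decompose ℐ x j : I)
  map_zero' := by rw [decompose_zero, DirectSum.zero_apply, ZeroMemClass.coe_zero]
  map_add' x y := by rw [decompose_add, DirectSum.add_apply, AddSubgroup.coe_add]

/-- the degree-`d` component of a linear map between graded modules, as an additive map -/
noncomputable def homCompAdd (φ : K →ₗ[R] I) (d : ι) : K →+ I :=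
  (DirectSum.toAddMonoid (fun j : ι => (projAdd ℐ (j + d)).comp
    (φ.toAddMonoidHom.comp (𝒦 j).subtype))).comp (decomposeAddEquiv 𝒦).toAddMonoidHom

theorem homCompAdd_of_mem (φ : K →ₗ[R] I) (d : ι) {j : ι} {k : K} (hk : k ∈ 𝒦 j) :
    homCompAdd 𝒦 ℐ φ d k = (decompose ℐ (φ k) (j + d) : I) := by
  unfold homCompAdd
  rw [AddMonoidHom.comp_apply]
  have : (decomposeAddEquiv 𝒦).toAddMonoidHom k = DirectSum.of (fun i => 𝒦 i) j ⟨k, hk⟩ :=
    decompose_of_mem 𝒦 hk
  rw [this, DirectSum.toAddMonoid_of]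
  rfl

include 𝒜 in
theorem homCompAdd_smul (φ : K →ₗ[R] I) (d : ι) (r : R) (k : K) :
    homCompAdd 𝒦 ℐ φ d (r • k) = r • homCompAdd 𝒦 ℐ φ d k := by
  induction k using DirectSum.Decomposition.inductionOn 𝒦 with
  | zero => rw [smul_zero, map_zero, smul_zero]
  | @homogeneous j k =>
    induction r using DirectSum.Decomposition.inductionOn 𝒜 with
    | zero => rw [zero_smul, map_zero, zero_smul]
    | @homogeneous e r =>
      have hrk : (r : R) • (k : K) ∈ 𝒦 (e + j) := by
        have := SetLike.GradedSMul.smul_mem (A := 𝒜) (B := 𝒦) r.2 k.2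
        rwa [vadd_eq_add] at this
      rw [homCompAdd_of_mem 𝒦 ℐ φ d hrk, homCompAdd_of_mem 𝒦 ℐ φ d k.2, map_smul, add_assoc,
        decompose_smul_of_mem 𝒜 ℐ r.2]
    | add r r' hr hr' => rw [add_smul, map_add, hr, hr', add_smul]
  | add k k' hk hk' => rw [smul_add, map_add, hk, hk', map_add, smul_add]

/-- the degree-`d` component of a linear map between graded modules -/
noncomputable def homComp (φ : K →ₗ[R] I) (d : ι) : K →ₗ[R] I where
  toFun := homCompAdd 𝒦 ℐ φ d
  map_add' := map_add _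
  map_smul' := homCompAdd_smul 𝒜 𝒦 ℐ φ d

theorem homComp_of_mem (φ : K →ₗ[R] I) (d : ι) {j : ι} {k : K} (hk : k ∈ 𝒦 j) :
    homComp 𝒜 𝒦 ℐ φ d k = (decompose ℐ (φ k) (j + d) : I) :=
  homCompAdd_of_mem 𝒦 ℐ φ d hk

theorem homComp_grHom (φ : K →ₗ[R] I) (d : ι) :
    GrLC.IsGrHom 𝒦 (shiftGr ℐ d) (homComp 𝒜 𝒦 ℐ φ d) := by
  intro j k hk
  rw [homComp_of_mem 𝒜 𝒦 ℐ φ d hk]
  exact (decompose ℐ (φ k) (j + d)).2

/-- a linear map out of a finitely generated graded module is a finite sum of its homogeneous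
components -/
theorem exists_eq_sum_homComp [Module.Finite R K] (φ : K →ₗ[R] I) :
    ∃ D : Finset ι, φ = ∑ d ∈ D, homComp 𝒜 𝒦 ℐ φ d := by
  classical
  obtain ⟨s, hs⟩ := (Module.finite_def.1 ‹Module.Finite R K› : (⊤ : Submodule R K).FG)
  -- homogeneous generators
  let T : Set K := {k | ∃ g ∈ s, ∃ j, k = (decompose 𝒦 g j : K)}
  have hT : Submodule.span R T = ⊤ := by
    rw [eq_top_iff, ← hs, Submodule.span_le]
    intro g hg
    rw [← sum_support_decompose 𝒦 g]
    exact Submodule.sum_mem _ (fun j _ => Submodule.subset_span ⟨g, hg, j, rfl⟩)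
  let D : Finset ι := s.biUnion (fun g => (decompose 𝒦 g).support.biUnion
    (fun j => (decompose ℐ (φ (decompose 𝒦 g j : K))).support.image (fun e => e - j)))
  refine ⟨D, ?_⟩
  apply LinearMap.ext_on hT
  rintro k ⟨g, hg, j, rfl⟩
  rw [LinearMap.sum_apply]
  have hk : (decompose 𝒦 g j : K) ∈ 𝒦 j := (decompose 𝒦 g j).2
  by_cases hj : j ∈ (decompose 𝒦 g).support
  · rw [Finset.sum_congr rfl (fun d _ => homComp_of_mem 𝒜 𝒦 ℐ φ d hk)]
    -- reindex
    have hsub : (decompose ℐ (φ (decompose 𝒦 g j : K))).support ⊆ D.image (fun d => j + d) := by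
      intro e he
      rw [Finset.mem_image]
      refine ⟨e - j, ?_, by abel⟩
      rw [Finset.mem_biUnion]
      refine ⟨g, hg, ?_⟩
      rw [Finset.mem_biUnion]
      exact ⟨j, hj, Finset.mem_image_of_mem _ he⟩
    conv_lhs => rw [← sum_support_decompose ℐ (φ (decompose 𝒦 g j : K))]
    rw [Finset.sum_subset hsub (fun e _ he => by
      rw [DFinsupp.notMem_support_iff] at he
      rw [he]; rfl)]
    rw [Finset.sum_image (fun d _ d' _ h => add_left_cancel h)]
  · rw [DFinsupp.notMem_support_iff] at hj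
    have h0 : (decompose 𝒦 g j : K) = 0 := by rw [hj]; rfl
    rw [h0, map_zero]
    symm
    apply Finset.sum_eq_zero
    intro d _
    rw [map_zero]

end Groth.Agent.Helper20.GrInj
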