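import Mathlib
import Groth.Agent.Lib.Helper20.GrShift
import Groth.Agent.Lib.Helper20.GrCx15

/-!
# The *injective envelope of `R/m` over a positively graded ring (helper20)

`R = ⊕_{n ≥ 0} R_n`, `m = R_+`, `e : R/m → E'` a *injective envelope.  Then `E'` lives in
nonpositive degrees, `E'_0 = e(R/m)`, every nonzero homogeneous element can be multiplied into
`E'_0 ∖ 0` (Matlis duality: `E'` is the graded dual of `R`).
-/

open DirectSum

namespace Groth.Agent.Helper20.GrInj

universe u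

section Hull

variable {R : Type u} [CommRing R] {𝒜 : ℤ → AddSubgroup R} [GradedRing 𝒜]
variable (hpos : ∀ n : ℤ, n < 0 → 𝒜 n = ⊥) (m : HomogeneousIdeal 𝒜)
  (hmsp : m.toIdeal = Ideal.span (⋃ n ∈ Set.Ioi (0 : ℤ), (𝒜 n : Set R)))
variable {E' : Type u} [AddCommGroup E'] [Module R E'] {𝓔 : ℤ → AddSubgroup E'}
  [DirectSum.Decomposition 𝓔] [SetLike.GradedSMul 𝒜 𝓔]
  (e : (R ⧸ m.toIdeal) →ₗ[R] E') (he : GrLC.IsStarInjHull 𝒜 (GrLC.quotGr 𝒜 m) 𝓔 e)

include hpos hmsp in
/-- modulo the irrelevant ideal every element is its degree-zero component -/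
theorem sub_decompose_zero_mem (r : R) : r - (decompose 𝒜 r 0 : R) ∈ m.toIdeal := by
  induction r using DirectSum.Decomposition.inductionOn 𝒜 with
  | zero =>
    rw [decompose_zero, DirectSum.zero_apply, ZeroMemClass.coe_zero, sub_zero]
    exact Ideal.zero_mem _
  | homogeneous r =>
    rename_i i
    by_cases hi : i = 0
    · subst hi
      rw [decompose_of_mem_same 𝒜 r.2, sub_self]
      exact Ideal.zero_mem _
    · rw [decompose_of_mem_ne 𝒜 r.2 hi, sub_zero, hmsp]
      rcases lt_or_gt_of_ne hi with h | h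
      · have : (r : R) ∈ (⊥ : AddSubgroup R) := by
          rw [← hpos i h]
          exact r.2
        rw [AddSubgroup.mem_bot] at this
        rw [this]
        exact Ideal.zero_mem _
      · apply Ideal.subset_span
        simp only [Set.mem_iUnion, Set.mem_Ioi, SetLike.mem_coe, exists_prop]
        exact ⟨i, h, r.2⟩
  | add a b ha hb =>
    rw [decompose_add, DirectSum.add_apply, AddMemClass.coe_add]
    have : a + b - ((decompose 𝒜 a 0 : R) + (decompose 𝒜 b 0 : R)) =
        (a - (decompose 𝒜 a 0 : R)) + (b - (decompose 𝒜 b 0 : R)) := by ring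
    rw [this]
    exact Ideal.add_mem _ ha hb

include hpos hmsp in
theorem mk_eq_mk_decompose_zero (r : R) :
    (Ideal.Quotient.mk m.toIdeal r) = Ideal.Quotient.mk m.toIdeal (decompose 𝒜 r 0 : R) := by
  rw [Ideal.Quotient.eq]
  exact sub_decompose_zero_mem hpos m hmsp r

include hpos hmsp he in
/-- the image of `R/m` lies in degree zero -/
theorem hull_e_mem_zero (z : R ⧸ m.toIdeal) : e z ∈ 𝓔 0 := by
  obtain ⟨r, rfl⟩ := Ideal.Quotient.mk_surjective z
  rw [mk_eq_mk_decompose_zero hpos m hmsp r]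
  apply he.grHom 0
  exact ⟨(decompose 𝒜 r 0 : R), (decompose 𝒜 r 0).2, rfl⟩

include hpos hmsp he in
/-- a nonzero homogeneous element of `E'` of degree `j` can be multiplied by an element of degree
`-j` into `e(R/m) ∖ 0` -/
theorem hull_exists_smul_ne_zero {j : ℤ} {x : E'} (hx : x ∈ 𝓔 j) (hx0 : x ≠ 0) :
    ∃ r ∈ 𝒜 (-j), r • x ≠ 0 ∧ r • x ∈ LinearMap.range e := by
  have hP : (Submodule.span R {x}).IsHomogeneous 𝓔 := span_singleton_isHomogeneous 𝒜 𝓔 hx
  have hne : Submodule.span R {x} ≠ ⊥ := by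
    intro h
    apply hx0
    have : x ∈ Submodule.span R {x} := Submodule.mem_span_singleton_self x
    rw [h] at this
    exact (Submodule.mem_bot R).1 this
  have hess := he.essential _ hP hne
  rw [Ne, Submodule.eq_bot_iff] at hess
  push Not at hess
  obtain ⟨y, ⟨hyP, hyr⟩, hy0⟩ := hess
  obtain ⟨r, rfl⟩ := Submodule.mem_span_singleton.1 hyP
  obtain ⟨z, hz⟩ := hyr
  have hy0' : r • x ∈ 𝓔 0 := by
    rw [← hz]
    exact hull_e_mem_zero hpos m hmsp e he z
  have h1 := decompose_smul_homog_right 𝒜 𝓔 hx r (-j)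
  rw [neg_add_cancel, decompose_of_mem_same 𝓔 hy0'] at h1
  refine ⟨(decompose 𝒜 r (-j) : R), (decompose 𝒜 r (-j)).2, ?_, ?_⟩
  · rw [← h1]
    exact hy0
  · rw [← h1]
    exact ⟨z, hz⟩

include hpos hmsp he in
/-- `E'` vanishes in positive degrees -/
theorem hull_eq_zero_of_pos {j : ℤ} (hj : 0 < j) {x : E'} (hx : x ∈ 𝓔 j) : x = 0 := by
  by_contra hx0
  obtain ⟨r, hr, hrx, _⟩ := hull_exists_smul_ne_zero hpos m hmsp e he hx hx0
  have : r ∈ (⊥ : AddSubgroup R) := by
    rw [← hpos (-j) (by omega)]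
    exact hr
  rw [AddSubgroup.mem_bot] at this
  rw [this, zero_smul] at hrx
  exact hrx rfl

end Hull

end Groth.Agent.Helper20.GrInj
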