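import Mathlib
import Groth.Agent.Lib.Helper20.GrMat1

/-!
# The *injective envelope of `R/m` when `R_0` is a field (helper20)
-/

open DirectSum

namespace Groth.Agent.Helper20.GrInj

universe u

section Hull

variable {R : Type u} [CommRing R] {𝒜 : ℤ → AddSubgroup R} [GradedRing 𝒜]
variable (hpos : ∀ n : ℤ, n < 0 → 𝒜 n = ⊥) (h0 : IsField (GrLC.deg0 𝒜)) (m : HomogeneousIdeal 𝒜)
  (hmsp : m.toIdeal = Ideal.span (⋃ n ∈ Set.Ioi (0 : ℤ), (𝒜 n : Set R)))
variable {E' : Type u} [AddCommGroup E'] [Module R E'] {𝓔 : ℤ → AddSubgroup E'}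
  [DirectSum.Decomposition 𝓔] [SetLike.GradedSMul 𝒜 𝓔]
  (e : (R ⧸ m.toIdeal) →ₗ[R] E') (he : GrLC.IsStarInjHull 𝒜 (GrLC.quotGr 𝒜 m) 𝓔 e)

include h0 in
/-- nonzero elements of degree zero are units with inverse of degree zero -/
theorem exists_mul_eq_one_of_mem_zero {r : R} (hr : r ∈ 𝒜 0) (hr0 : r ≠ 0) :
    ∃ s ∈ 𝒜 0, s * r = 1 := by
  have hne : (⟨r, hr⟩ : GrLC.deg0 𝒜) ≠ 0 := fun h => hr0 (congrArg Subtype.val h)
  obtain ⟨s, hs⟩ := h0.mul_inv_cancel hne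
  refine ⟨s.1, s.2, ?_⟩
  have := congrArg Subtype.val hs
  rw [mul_comm]
  exact this

include hpos hmsp in
/-- elements of `m` of degree zero vanish -/
theorem eq_zero_of_mem_irrelevant_of_mem_zero {r : R} (hr : r ∈ 𝒜 0) (hrm : r ∈ m.toIdeal) :
    r = 0 := by
  have hpos' : ∀ n : ℤ, n < 0 → ∀ x ∈ 𝒜 n, x = 0 := by
    intro n hn x hx
    rw [hpos n hn] at hx
    exact (AddSubgroup.mem_bot).1 hx
  have hrm' : r ∈ Ideal.span {r : R | ∃ n : ℤ, 0 < n ∧ r ∈ 𝒜 n} := by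
    rw [hmsp] at hrm
    convert hrm using 2
    ext x
    simp only [Set.mem_ofPred_eq, Set.mem_iUnion, Set.mem_Ioi, SetLike.mem_coe, exists_prop]
  have := decompose_eq_zero_of_mem_span_pos 𝒜 hpos' r hrm' 0 le_rfl
  rwa [decompose_of_mem_same 𝒜 hr] at this

/-- the generator `e(1)` of `E'_0` -/
noncomputable def hullGen : E' := e (Ideal.Quotient.mk m.toIdeal 1)

include hpos hmsp he in
theorem hullGen_mem : hullGen m e ∈ 𝓔 0 := hull_e_mem_zero hpos m hmsp e he _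

include hpos hmsp he in
/-- `c • e(1) = 0` with `c` of degree zero forces `c = 0` -/
theorem eq_zero_of_smul_hullGen {c : R} (hc : c ∈ 𝒜 0) (h : c • hullGen m e = 0) : c = 0 := by
  unfold hullGen at h
  rw [← map_smul] at h
  have h1 := he.injective (h.trans (map_zero e).symm)
  have h2 : (Ideal.Quotient.mk m.toIdeal) c = 0 := by
    have : c • (Ideal.Quotient.mk m.toIdeal) 1 = (Ideal.Quotient.mk m.toIdeal) c := by
      rw [← Ideal.Quotient.mk_eq_mk, ← Submodule.Quotient.mk_smul, smul_eq_mul, mul_one]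
      rfl
    rw [← this]
    exact h1
  rw [Ideal.Quotient.eq_zero_iff_mem] at h2
  exact eq_zero_of_mem_irrelevant_of_mem_zero hpos m hmsp hc h2

include hpos hmsp in
/-- every element of the image of `e` is a degree-zero multiple of `e(1)` -/
theorem exists_smul_hullGen_eq (z : R ⧸ m.toIdeal) : ∃ c ∈ 𝒜 0, c • hullGen m e = e z := by
  obtain ⟨r, rfl⟩ := Ideal.Quotient.mk_surjective z
  refine ⟨(decompose 𝒜 r 0 : R), (decompose 𝒜 r 0).2, ?_⟩
  unfold hullGen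
  rw [mk_eq_mk_decompose_zero hpos m hmsp r, ← map_smul]
  congr 1
  rw [← Ideal.Quotient.mk_eq_mk, ← Submodule.Quotient.mk_smul, smul_eq_mul, mul_one]
  rfl

include hpos h0 hmsp he in
/-- `E'_0` is spanned by `e(1)` over `R_0` -/
theorem exists_smul_hullGen_eq_of_mem_zero {x : E'} (hx : x ∈ 𝓔 0) :
    ∃ c ∈ 𝒜 0, c • hullGen m e = x := by
  by_cases hx0 : x = 0
  · exact ⟨0, zero_mem _, by rw [zero_smul, hx0]⟩
  obtain ⟨r, hr, hrx, ⟨z, hz⟩⟩ := hull_exists_smul_ne_zero hpos m hmsp e he hx hx0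
  rw [neg_zero] at hr
  have hr0 : r ≠ 0 := by
    rintro rfl
    rw [zero_smul] at hrx
    exact hrx rfl
  obtain ⟨s, hs, hsr⟩ := exists_mul_eq_one_of_mem_zero h0 hr hr0
  obtain ⟨c, hc, hcz⟩ := exists_smul_hullGen_eq hpos m hmsp e z
  refine ⟨s * c, ?_, ?_⟩
  · have := SetLike.mul_mem_graded hs hc
    rwa [add_zero] at this
  · rw [mul_smul, hcz, hz, ← mul_smul, hsr, one_smul]

end Hull

end Groth.Agent.Helper20.GrInj
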