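import Mathlib
import Groth.Agent.Lib.Helper20.GrMat2
import Groth.Agent.Lib.Helper20.GrExt1

/-!
# Graded Matlis duality over a positively graded ring with `R_0` a field: separation (helper20)
-/

open DirectSum

namespace Groth.Agent.Helper20.GrInj

universe u

section Hull

variable {R : Type u} [CommRing R] {𝒜 : ℤ → AddSubgroup R} [GradedRing 𝒜]
variable (hpos : ∀ n : ℤ, n < 0 → 𝒜 n = ⊥) (h0 : IsField (GrLC.deg0 𝒜)) (m : HomogeneousIdeal 𝒜)
  (hmsp : m.toIdeal = Ideal.span (⋃ n ∈ Set.Ioi (0 : ℤ), (𝒜 n : Set R)))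
variable {E' : Type u} [AddCommGroup E'] [Module R E'] {𝓔 : ℤ → AddSubgroup E'}
  [DirectSum.Decomposition 𝓔] [SetLike.GradedSMul 𝒜 𝓔]
  (e : (R ⧸ m.toIdeal) →ₗ[R] E') (he : GrLC.IsStarInjHull 𝒜 (GrLC.quotGr 𝒜 m) 𝓔 e)
variable {M : Type u} [AddCommGroup M] [Module R M] {ℳ : ℤ → AddSubgroup M}
  [DirectSum.Decomposition ℳ] [SetLike.GradedSMul 𝒜 ℳ]

theorem smul_hullGen (r : R) : r • hullGen m e = e (Ideal.Quotient.mk m.toIdeal r) := by
  unfold hullGen
  rw [← map_smul]
  congr 1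
  rw [← Ideal.Quotient.mk_eq_mk, ← Submodule.Quotient.mk_smul, smul_eq_mul, mul_one]
  rfl

include hpos h0 hmsp in
/-- the annihilator of a nonzero homogeneous element lies in the irrelevant ideal -/
theorem mem_irrelevant_of_smul_eq_zero {j : ℤ} {x : M} (hx : x ∈ ℳ j) (hx0 : x ≠ 0) {r : R}
    (hr : r • x = 0) : r ∈ m.toIdeal := by
  have h1 := decompose_smul_homog_right 𝒜 ℳ hx r 0
  rw [hr, decompose_zero, DirectSum.zero_apply, ZeroMemClass.coe_zero] at h1
  have h2 : (decompose 𝒜 r 0 : R) = 0 := by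
    by_contra hne
    obtain ⟨s, _, hs⟩ := exists_mul_eq_one_of_mem_zero h0 (decompose 𝒜 r 0).2 hne
    apply hx0
    rw [← one_smul R x, ← hs, mul_smul, ← h1, smul_zero]
  have h3 := sub_decompose_zero_mem hpos m hmsp r
  rwa [h2, sub_zero] at h3

include hpos h0 hmsp he in
/-- **separation**: a nonzero homogeneous element of degree `j` is detected by a homogeneous map of
degree `-j` to the *injective envelope of the residue field -/
theorem exists_homDeg_apply_eq_hullGen {j : ℤ} {x : M} (hx : x ∈ ℳ j) (hx0 : x ≠ 0) :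
    ∃ f : M →ₗ[R] E', GrLC.IsGrHomDeg ℳ 𝓔 f (-j) ∧ f x = hullGen m e := by
  letI : DirectSum.Decomposition (shiftGr 𝒜 (-j)) :=
    (shiftGr_isInternal 𝒜 (-j)).chooseDecomposition
  letI : SetLike.GradedSMul 𝒜 (shiftGr 𝒜 (-j)) := shiftGr_gradedSMul 𝒜 𝒜 (-j)
  letI : DirectSum.Decomposition (shiftGr 𝓔 (-j)) :=
    (shiftGr_isInternal 𝓔 (-j)).chooseDecomposition
  letI : SetLike.GradedSMul 𝒜 (shiftGr 𝓔 (-j)) := shiftGr_gradedSMul 𝒜 𝓔 (-j)
  have hsh : GrLC.IsStarInj 𝒜 (shiftGr 𝓔 (-j)) := shift_isStarInj 𝒜 𝓔 he.starInj (-j)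
  have hjx : GrLC.IsGrHom (shiftGr 𝒜 (-j)) ℳ (LinearMap.toSpanSingleton R M x) := by
    intro i r hr
    have := SetLike.GradedSMul.smul_mem (A := 𝒜) (B := ℳ) hr hx
    rw [vadd_eq_add, neg_add_cancel_right] at this
    exact this
  have hgx : GrLC.IsGrHom (shiftGr 𝒜 (-j)) (shiftGr 𝓔 (-j))
      (LinearMap.toSpanSingleton R E' (hullGen m e)) := by
    intro i r hr
    have := SetLike.GradedSMul.smul_mem (A := 𝒜) (B := 𝓔) hr (hullGen_mem hpos m hmsp e he)
    rw [vadd_eq_add, add_zero] at this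
    exact this
  have hker : LinearMap.ker (LinearMap.toSpanSingleton R M x) ≤
      LinearMap.ker (LinearMap.toSpanSingleton R E' (hullGen m e)) := by
    intro r hr
    rw [LinearMap.mem_ker, LinearMap.toSpanSingleton_apply] at hr ⊢
    have hrm := mem_irrelevant_of_smul_eq_zero hpos h0 m hmsp hx hx0 hr
    rw [smul_hullGen, (Ideal.Quotient.eq_zero_iff_mem).2 hrm, map_zero]
  obtain ⟨h, hh, hcomp⟩ := starInj_extend_of_ker_le 𝒜 (shiftGr 𝓔 (-j)) hsh (shiftGr 𝒜 (-j)) ℳ
    (LinearMap.toSpanSingleton R M x) hjx (LinearMap.toSpanSingleton R E' (hullGen m e)) hgx hker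
  refine ⟨h, hh, ?_⟩
  have := congrArg (fun φ => φ (1 : R)) hcomp
  simpa using this

include hpos hmsp he in
/-- a homogeneous map of degree `-j` to the *injective envelope of the residue field is determined
by its restriction to the piece of degree `j` -/
theorem eq_zero_of_isGrHomDeg_of_forall {j : ℤ} {f : M →ₗ[R] E'}
    (hf : GrLC.IsGrHomDeg ℳ 𝓔 f (-j)) (h : ∀ x ∈ ℳ j, f x = 0) : f = 0 := by
  apply LinearMap.ext
  intro x
  rw [LinearMap.zero_apply]
  induction x using DirectSum.Decomposition.inductionOn ℳ with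
  | zero => exact map_zero f
  | @homogeneous i x =>
    by_contra hne
    have hfx : f (x : M) ∈ 𝓔 (i + -j) := hf i x x.2
    obtain ⟨r, hr, hrx, _⟩ := hull_exists_smul_ne_zero hpos m hmsp e he hfx hne
    apply hrx
    rw [← map_smul]
    apply h
    have := SetLike.GradedSMul.smul_mem (A := 𝒜) (B := ℳ) hr x.2
    rw [vadd_eq_add] at this
    have hij : -(i + -j) + i = j := by ring
    rwa [hij] at this
  | add a b ha hb => rw [map_add, ha, hb, add_zero]

end Hull

end Groth.Agent.Helper20.GrInj
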