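import Mathlib
import Groth.Agent.Lib.Helper20.GrMat3
import Groth.Agent.Lib.Helper20.GrIrr1

/-!
# Graded Matlis duality: the coordinate on `E'_0` and the perfect pairing (helper20)
-/

open DirectSum

namespace Groth.Agent.Helper20.GrInj

universe u

section Hull

variable {R : Type u} [CommRing R] {𝒜 : ℤ → AddSubgroup R} [GradedRing 𝒜]
variable (hpos : ∀ n : ℤ, n < 0 → 𝒜 n = ⊥) (h0 : IsField (GrLC.deg0 𝒜)) (m : HomogeneousIdeal 𝒜)
  (hmsp : m.toIdeal = Ideal.span (⋃ n ∈ Set.Ioi (0 : ℤ), (𝒜 n : Set R)))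
variable {E' : Type u} [AddCommGroup E'] [Module R E'] {𝓔 : ℤ → AddSubgroup E'}
  [DirectSum.Decomposition 𝓔] [SetLike.GradedSMul 𝒜 𝓔]
  (e : (R ⧸ m.toIdeal) →ₗ[R] E') (he : GrLC.IsStarInjHull 𝒜 (GrLC.quotGr 𝒜 m) 𝓔 e)
variable {M : Type u} [AddCommGroup M] [Module R M] {ℳ : ℤ → AddSubgroup M}
  [DirectSum.Decomposition ℳ] [SetLike.GradedSMul 𝒜 ℳ]

/-- the coordinate of the degree-zero component of `y ∈ E'` with respect to the generator `e(1)` of
`E'_0`, as an element of `R_0 ⊆ R` -/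
noncomputable def hullCoord (y : E') : R :=
  Classical.choose (exists_smul_hullGen_eq_of_mem_zero hpos h0 m hmsp e he (decompose 𝓔 y 0).2)

theorem hullCoord_mem (y : E') : hullCoord hpos h0 m hmsp e he y ∈ 𝒜 0 :=
  (Classical.choose_spec
    (exists_smul_hullGen_eq_of_mem_zero hpos h0 m hmsp e he (decompose 𝓔 y 0).2)).1

theorem hullCoord_smul_hullGen (y : E') :
    hullCoord hpos h0 m hmsp e he y • hullGen m e = (decompose 𝓔 y 0 : E') :=
  (Classical.choose_spec
    (exists_smul_hullGen_eq_of_mem_zero hpos h0 m hmsp e he (decompose 𝓔 y 0).2)).2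

theorem hullCoord_unique (y : E') {c : R} (hc : c ∈ 𝒜 0)
    (h : c • hullGen m e = (decompose 𝓔 y 0 : E')) : hullCoord hpos h0 m hmsp e he y = c := by
  have h1 : (hullCoord hpos h0 m hmsp e he y - c) • hullGen m e = 0 := by
    rw [sub_smul, hullCoord_smul_hullGen, h, sub_self]
  have h2 := eq_zero_of_smul_hullGen hpos m hmsp e he
    (sub_mem (hullCoord_mem hpos h0 m hmsp e he y) hc) h1
  exact sub_eq_zero.1 h2

theorem hullCoord_of_mem_zero {y : E'} (hy : y ∈ 𝓔 0) :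
    hullCoord hpos h0 m hmsp e he y • hullGen m e = y := by
  rw [hullCoord_smul_hullGen, decompose_of_mem_same 𝓔 hy]

theorem hullCoord_add (y z : E') :
    hullCoord hpos h0 m hmsp e he (y + z) =
      hullCoord hpos h0 m hmsp e he y + hullCoord hpos h0 m hmsp e he z := by
  apply hullCoord_unique
  · exact add_mem (hullCoord_mem hpos h0 m hmsp e he y) (hullCoord_mem hpos h0 m hmsp e he z)
  · rw [add_smul, hullCoord_smul_hullGen, hullCoord_smul_hullGen, decompose_add,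
      DirectSum.add_apply, AddMemClass.coe_add]

theorem hullCoord_zero : hullCoord hpos h0 m hmsp e he (0 : E') = 0 := by
  apply hullCoord_unique
  · exact zero_mem _
  · rw [zero_smul, decompose_zero, DirectSum.zero_apply, ZeroMemClass.coe_zero]

theorem hullCoord_smul {s : R} (hs : s ∈ 𝒜 0) (y : E') :
    hullCoord hpos h0 m hmsp e he (s • y) = s * hullCoord hpos h0 m hmsp e he y := by
  apply hullCoord_unique
  · have := SetLike.mul_mem_graded hs (hullCoord_mem hpos h0 m hmsp e he y)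
    rwa [add_zero] at this
  · rw [mul_smul, hullCoord_smul_hullGen]
    have := decompose_smul_of_mem 𝒜 𝓔 hs y 0
    rw [add_zero] at this
    exact this.symm

theorem hullCoord_hullGen : hullCoord hpos h0 m hmsp e he (hullGen m e) = 1 := by
  apply hullCoord_unique
  · exact SetLike.GradedOne.one_mem
  · rw [one_smul, decompose_of_mem_same 𝓔 (hullGen_mem hpos m hmsp e he)]

theorem eq_zero_of_hullCoord_eq_zero {y : E'} (hy : y ∈ 𝓔 0)
    (h : hullCoord hpos h0 m hmsp e he y = 0) : y = 0 := by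
  rw [← hullCoord_of_mem_zero hpos h0 m hmsp e he hy, h, zero_smul]

theorem hullCoord_of_mem_ne {i : ℤ} (hi : i ≠ 0) {y : E'} (hy : y ∈ 𝓔 i) :
    hullCoord hpos h0 m hmsp e he y = 0 := by
  apply hullCoord_unique
  · exact zero_mem _
  · rw [zero_smul, decompose_of_mem_ne 𝓔 hy hi]

include h0 in
theorem one_ne_zero_of_isField : (1 : R) ≠ 0 := by
  intro h
  obtain ⟨a, b, hab⟩ := h0.exists_pair_ne
  apply hab
  apply Subtype.ext
  rw [← mul_one (a : R), ← mul_one (b : R), h, mul_zero, mul_zero]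

/-- the Matlis pairing `M_j × *Hom(M, E')_{-j} → R_0` -/
noncomputable def matPair (j : ℤ) :
    ↥(GrLC.comp 𝒜 ℳ j) →ₗ[GrLC.deg0 𝒜] ↥(GrLC.homDeg 𝒜 ℳ 𝓔 (-j)) →ₗ[GrLC.deg0 𝒜] GrLC.deg0 𝒜 :=
  LinearMap.mk₂ (GrLC.deg0 𝒜)
    (fun x f => ⟨hullCoord hpos h0 m hmsp e he ((f : M →ₗ[R] E') (x : M)),
      hullCoord_mem hpos h0 m hmsp e he _⟩)
    (by
      intro x y f
      apply Subtype.ext
      show hullCoord hpos h0 m hmsp e he ((f : M →ₗ[R] E') ((x : M) + (y : M))) = _
      rw [map_add, hullCoord_add]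
      rfl)
    (by
      intro s x f
      apply Subtype.ext
      show hullCoord hpos h0 m hmsp e he ((f : M →ₗ[R] E') ((s : R) • (x : M))) = _
      rw [map_smul, hullCoord_smul hpos h0 m hmsp e he s.2]
      rfl)
    (by
      intro x f g
      apply Subtype.ext
      show hullCoord hpos h0 m hmsp e he
        ((f : M →ₗ[R] E') (x : M) + (g : M →ₗ[R] E') (x : M)) = _
      rw [hullCoord_add]
      rfl)
    (by
      intro s x f
      apply Subtype.ext
      show hullCoord hpos h0 m hmsp e he ((s : R) • (f : M →ₗ[R] E') (x : M)) = _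
      rw [hullCoord_smul hpos h0 m hmsp e he s.2]
      rfl)

theorem matPair_apply (j : ℤ) (x : ↥(GrLC.comp 𝒜 ℳ j)) (f : ↥(GrLC.homDeg 𝒜 ℳ 𝓔 (-j))) :
    ((matPair hpos h0 m hmsp e he j x f : GrLC.deg0 𝒜) : R) =
      hullCoord hpos h0 m hmsp e he ((f : M →ₗ[R] E') (x : M)) := rfl

theorem matPair_injective (j : ℤ) :
    Function.Injective (matPair (ℳ := ℳ) hpos h0 m hmsp e he j) := by
  rw [injective_iff_map_eq_zero]
  intro x hx
  by_contra hne
  have hx0 : (x : M) ≠ 0 := fun h => hne (Subtype.ext h)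
  obtain ⟨f, hf, hfx⟩ := exists_homDeg_apply_eq_hullGen hpos h0 m hmsp e he
    (show (x : M) ∈ ℳ j from x.2) hx0
  have h1 := matPair_apply hpos h0 m hmsp e he j x ⟨f, hf⟩
  rw [hx] at h1
  change (0 : R) = hullCoord hpos h0 m hmsp e he (f (x : M)) at h1
  rw [hfx, hullCoord_hullGen] at h1
  exact one_ne_zero_of_isField h0 h1.symm

theorem matPair_flip_injective (j : ℤ) :
    Function.Injective (matPair (ℳ := ℳ) hpos h0 m hmsp e he j).flip := by
  rw [injective_iff_map_eq_zero]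
  intro f hf
  apply Subtype.ext
  rw [ZeroMemClass.coe_zero]
  apply eq_zero_of_isGrHomDeg_of_forall hpos m hmsp e he f.2
  intro x hx
  have h1 := matPair_apply hpos h0 m hmsp e he j ⟨x, hx⟩ f
  have h2 : (matPair (ℳ := ℳ) hpos h0 m hmsp e he j) ⟨x, hx⟩ f =
      (matPair (ℳ := ℳ) hpos h0 m hmsp e he j).flip f ⟨x, hx⟩ := rfl
  rw [h2, hf] at h1
  change (0 : R) = _ at h1
  have hmem : (f : M →ₗ[R] E') x ∈ 𝓔 0 := by
    have := f.2 j x hx
    rwa [add_neg_cancel] at this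
  exact eq_zero_of_hullCoord_eq_zero hpos h0 m hmsp e he hmem h1.symm

/-- **graded Matlis duality, representability**: when `M_j` is finite over `R_0`, every
`R_0`-linear functional on `*Hom(M, E')_{-j}` is evaluation at a unique element of `M_j` -/
theorem exists_matPair_eq [IsNoetherian R M] (j : ℤ)
    (ℓ : ↥(GrLC.homDeg 𝒜 ℳ 𝓔 (-j)) →ₗ[GrLC.deg0 𝒜] GrLC.deg0 𝒜) :
    ∃ x : ↥(GrLC.comp 𝒜 ℳ j), matPair hpos h0 m hmsp e he j x = ℓ := by
  letI : Field ↥(GrLC.deg0 𝒜) := h0.toField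
  haveI : IsNoetherian (GrLC.deg0 𝒜) (GrLC.comp 𝒜 ℳ j) := comp_isNoetherian (𝒜 := 𝒜) (ℳ := ℳ) j
  haveI : FiniteDimensional ↥(GrLC.deg0 𝒜) ↥(GrLC.comp 𝒜 ℳ j) := Module.IsNoetherian.finite _ _
  haveI := LinearMap.IsPerfPair.of_injective (matPair_injective (ℳ := ℳ) hpos h0 m hmsp e he j)
    (matPair_flip_injective (ℳ := ℳ) hpos h0 m hmsp e he j)
  exact ⟨(matPair (ℳ := ℳ) hpos h0 m hmsp e he j).toPerfPair.symm ℓ,
    (matPair (ℳ := ℳ) hpos h0 m hmsp e he j).apply_symm_toPerfPair_self ℓ⟩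

end Hull

end Groth.Agent.Helper20.GrInj
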