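import Mathlib
import Groth.Agent.Lib.Helper20.GrExt1

open DirectSum

namespace Groth.Agent.Helper20.GrInj

universe u

variable {ι : Type} [AddCommGroup ι] [DecidableEq ι]
variable {R : Type u} [CommRing R]
variable {σ : Type u} [SetLike σ R] [AddSubgroupClass σ R] (𝒜 : ι → σ) [GradedRing 𝒜]
variable {K : Type u} [AddCommGroup K] [Module R K] (𝒦 : ι → AddSubgroup K)
  [DirectSum.Decomposition 𝒦] [SetLike.GradedSMul 𝒜 𝒦]
variable {F : Type u} [AddCommGroup F] [Module R F] (ℱ : ι → AddSubgroup F)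
  [DirectSum.Decomposition ℱ] [SetLike.GradedSMul 𝒜 ℱ]
variable {I : Type u} [AddCommGroup I] [Module R I] (ℐ : ι → AddSubgroup I)
  [DirectSum.Decomposition ℐ] [SetLike.GradedSMul 𝒜 ℐ]

/-- **Linear maps out of finitely generated graded submodules extend to *injective modules**: if
`K → F` is an injective homogeneous map with `K` finitely generated and `I` is *injective, every
`R`-linear map `K → I` (homogeneous or not) extends to `F`. -/
theorem exists_extension_of_starInj [Module.Finite R K] (hI : GrLC.IsStarInj 𝒜 ℐ)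
    (incl : K →ₗ[R] F) (hincl : GrLC.IsGrHom 𝒦 ℱ incl) (hinj : Function.Injective incl)
    (φ : K →ₗ[R] I) : ∃ ψ : F →ₗ[R] I, ψ ∘ₗ incl = φ := by
  classical
  obtain ⟨D, hD⟩ := exists_eq_sum_homComp 𝒜 𝒦 ℐ φ
  have hext : ∀ d : ι, ∃ h : F →ₗ[R] I, h ∘ₗ incl = homComp 𝒜 𝒦 ℐ φ d := by
    intro d
    have hsh : GrLC.IsStarInj 𝒜 (shiftGr ℐ d) := shift_isStarInj 𝒜 ℐ hI d
    obtain ⟨h, _, hh⟩ := hsh (GrLC.GMod.of 𝒜 K 𝒦) (GrLC.GMod.of 𝒜 F ℱ) incl hincl hinj
      (homComp 𝒜 𝒦 ℐ φ d) (homComp_grHom 𝒜 𝒦 ℐ φ d)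
    exact ⟨h, hh⟩
  choose h hh using hext
  refine ⟨∑ d ∈ D, h d, ?_⟩
  ext k
  rw [LinearMap.comp_apply, LinearMap.sum_apply]
  conv_rhs => rw [hD, LinearMap.sum_apply]
  apply Finset.sum_congr rfl
  intro d _
  rw [← hh d, LinearMap.comp_apply]


variable {M : Type u} [AddCommGroup M] [Module R M] (ℳ : ι → AddSubgroup M)
  [DirectSum.Decomposition ℳ] [SetLike.GradedSMul 𝒜 ℳ]

/-- the graded module `R(-d)` -/
noncomputable def freeShift (d : ι) : GrLC.GMod.{u} 𝒜 :=
  shiftGMod 𝒜 (GrLC.GMod.of 𝒜 R (addGr 𝒜)) (-d)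

/-- a list of homogeneous elements is hit by a homogeneous map out of a finite direct sum of shifts
of `R` -/
theorem exists_free_cover_of_list (l : List M) (hl : ∀ m ∈ l, ∃ d, m ∈ ℳ d) :
    ∃ (F : GrLC.GMod.{u} 𝒜) (π : F.carrier →ₗ[R] M), Module.Projective R F.carrier ∧
      Module.Finite R F.carrier ∧ GrLC.IsGrHom F.gr ℳ π ∧
      LinearMap.range π = Submodule.span R {m | m ∈ l} := by
  induction l with
  | nil =>
    refine ⟨zeroGMod 𝒜, 0, ?_, ?_, fun _ _ _ => zero_mem _, ?_⟩
    · show Module.Projective R PUnit.{u + 1}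
      infer_instance
    · show Module.Finite R PUnit.{u + 1}
      infer_instance
    · have : {m : M | m ∈ ([] : List M)} = ∅ := by ext x; simp
      rw [this, Submodule.span_empty, LinearMap.range_zero]
  | cons m l ih =>
    obtain ⟨F, π, hproj, hfin, hgr, hrange⟩ := ih (fun x hx => hl x (List.mem_cons_of_mem m hx))
    obtain ⟨d, hd⟩ := hl m List.mem_cons_self
    refine ⟨prodGMod 𝒜 (freeShift 𝒜 d) F, (LinearMap.toSpanSingleton R M m).coprod π, ?_, ?_, ?_, ?_⟩
    · show Module.Projective R (R × F.carrier)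
      infer_instance
    · show Module.Finite R (R × F.carrier)
      infer_instance
    · rintro j ⟨r, f⟩ ⟨hr, hf⟩
      have hr' : (show R from r) ∈ 𝒜 (j + -d) := hr
      show (show R from r) • m + π f ∈ ℳ j
      refine add_mem ?_ (hgr j f hf)
      have := SetLike.GradedSMul.smul_mem (A := 𝒜) (B := ℳ) hr' hd
      rwa [vadd_eq_add, neg_add_cancel_right] at this
    · have hset : {x : M | x ∈ m :: l} = {m} ∪ {x | x ∈ l} := by
        ext x
        simp only [List.mem_cons, Set.mem_ofPred_eq, Set.mem_union, Set.mem_singleton_iff]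
      rw [hset, Submodule.span_union, ← hrange]
      show LinearMap.range ((LinearMap.toSpanSingleton R M m).coprod π) = _
      rw [LinearMap.range_coprod, LinearMap.range_toSpanSingleton]

/-- **graded free cover**: a finitely generated graded module is a homogeneous quotient of a finitely
generated graded module which is projective as an `R`-module -/
theorem exists_free_cover [Module.Finite R M] :
    ∃ (F : GrLC.GMod.{u} 𝒜) (π : F.carrier →ₗ[R] M), Module.Projective R F.carrier ∧
      Module.Finite R F.carrier ∧ GrLC.IsGrHom F.gr ℳ π ∧ Function.Surjective π := by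
  classical
  obtain ⟨s, hs⟩ := (Module.finite_def.1 ‹Module.Finite R M› : (⊤ : Submodule R M).FG)
  let T : Finset M := s.biUnion (fun g => (decompose ℳ g).support.image
    (fun j => (decompose ℳ g j : M)))
  obtain ⟨F, π, hproj, hfin, hgr, hrange⟩ := exists_free_cover_of_list 𝒜 ℳ T.toList (by
    intro m hm
    rw [Finset.mem_toList, Finset.mem_biUnion] at hm
    obtain ⟨g, _, hm⟩ := hm
    rw [Finset.mem_image] at hm
    obtain ⟨j, _, rfl⟩ := hm
    exact ⟨j, (decompose ℳ g j).2⟩)
  refine ⟨F, π, hproj, hfin, hgr, ?_⟩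
  rw [← LinearMap.range_eq_top, hrange, eq_top_iff, ← hs, Submodule.span_le]
  intro g hg
  rw [← sum_support_decompose ℳ g]
  apply Submodule.sum_mem
  intro j hj
  apply Submodule.subset_span
  show _ ∈ T.toList
  rw [Finset.mem_toList, Finset.mem_biUnion]
  exact ⟨g, hg, Finset.mem_image_of_mem _ hj⟩

end Groth.Agent.Helper20.GrInj
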