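import Mathlib
import Groth.Agent.Lib.Helper20.GrExt2

open DirectSum CategoryTheory

namespace Groth.Agent.Helper20.GrInj

universe u

variable {ι : Type} [AddCommGroup ι] [DecidableEq ι]
variable {R : Type u} [CommRing R]
variable {σ : Type u} [SetLike σ R] [AddSubgroupClass σ R] (𝒜 : ι → σ) [GradedRing 𝒜]
variable {I : Type u} [AddCommGroup I] [Module R I] (ℐ : ι → AddSubgroup I)
  [DirectSum.Decomposition ℐ] [SetLike.GradedSMul 𝒜 ℐ]

/-- **Ext vanishing into *injective modules**: over a Noetherian graded ring,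
`Ext^{i+1}_R(M, I) = 0` for `M` finitely generated graded and `I` *injective. -/
theorem ext_subsingleton_of_starInj [IsNoetherianRing R] (hI : GrLC.IsStarInj 𝒜 ℐ) (i : ℕ) :
    ∀ (M : Type u) [AddCommGroup M] [Module R M] [Module.Finite R M] (ℳ : ι → AddSubgroup M)
      [DirectSum.Decomposition ℳ] [SetLike.GradedSMul 𝒜 ℳ],
      Subsingleton (Abelian.Ext.{u} (ModuleCat.of R M) (ModuleCat.of R I) (i + 1)) := by
  induction i with
  | zero =>
    intro M _ _ _ ℳ _ _
    obtain ⟨F, π, hproj, hfin, hgr, hsurj⟩ := exists_free_cover 𝒜 ℳ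
    haveI := hproj
    haveI := hfin
    haveI : IsNoetherian R F.carrier := isNoetherian_of_isNoetherianRing_of_finite R F.carrier
    have hKhom : (LinearMap.ker π).IsHomogeneous F.gr := ker_isHomogeneous F.gr ℳ hgr
    let KM := subGMod F.gr 𝒜 (LinearMap.ker π) hKhom
    haveI : Module.Finite R KM.carrier :=
      Module.Finite.iff_fg.2 (IsNoetherian.noetherian (LinearMap.ker π))
    have hcomp : π ∘ₗ (LinearMap.ker π).subtype = 0 := by
      ext k
      exact k.2
    let S := ModuleCat.shortComplexOfCompEqZero (LinearMap.ker π).subtype π hcomp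
    have hS : S.ShortExact := ModuleCat.shortComplex_shortExact S
      (LinearMap.exact_subtype_ker_map π) (LinearMap.ker π).injective_subtype hsurj
    refine ⟨fun x y => ?_⟩
    have hz : ∀ x : Abelian.Ext.{u} (ModuleCat.of R M) (ModuleCat.of R I) (0 + 1), x = 0 := by
      intro x
      haveI : Projective S.X₂ := (IsProjective.iff_projective (R := R) F.carrier).1 hproj
      obtain ⟨x₁, hx₁⟩ := Abelian.Ext.contravariant_sequence_exact₃ hS (ModuleCat.of R I) x
        (Abelian.Ext.eq_zero_of_projective _) (n₀ := 0) (by omega)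
      obtain ⟨φ, rfl⟩ := (Abelian.Ext.mk₀_bijective S.X₁ (ModuleCat.of R I)).2 x₁
      -- extend `φ` to `F`
      obtain ⟨ψ, hψ⟩ := exists_extension_of_starInj 𝒜 KM.gr F.gr ℐ hI
        (subVal 𝒜 F.gr (LinearMap.ker π) hKhom) (subVal_grHom 𝒜 F.gr _ hKhom)
        (subVal_injective 𝒜 F.gr _ hKhom) φ.hom
      have hφ : φ = S.f ≫ ModuleCat.ofHom ψ := by
        apply ModuleCat.hom_ext
        rw [← hψ]
        rfl
      rw [← hx₁, hφ, ← Abelian.Ext.mk₀_comp_mk₀]
      exact hS.extClass_comp_assoc _
    rw [hz x, hz y]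
  | succ i ih =>
    intro M _ _ _ ℳ _ _
    obtain ⟨F, π, hproj, hfin, hgr, hsurj⟩ := exists_free_cover 𝒜 ℳ
    haveI := hproj
    haveI := hfin
    haveI : IsNoetherian R F.carrier := isNoetherian_of_isNoetherianRing_of_finite R F.carrier
    have hKhom : (LinearMap.ker π).IsHomogeneous F.gr := ker_isHomogeneous F.gr ℳ hgr
    let KM := subGMod F.gr 𝒜 (LinearMap.ker π) hKhom
    haveI : Module.Finite R KM.carrier :=
      Module.Finite.iff_fg.2 (IsNoetherian.noetherian (LinearMap.ker π))
    have hcomp : π ∘ₗ (LinearMap.ker π).subtype = 0 := by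
      ext k
      exact k.2
    let S := ModuleCat.shortComplexOfCompEqZero (LinearMap.ker π).subtype π hcomp
    have hS : S.ShortExact := ModuleCat.shortComplex_shortExact S
      (LinearMap.exact_subtype_ker_map π) (LinearMap.ker π).injective_subtype hsurj
    haveI : Subsingleton (Abelian.Ext.{u} S.X₁ (ModuleCat.of R I) (i + 1)) := ih KM.carrier KM.gr
    refine ⟨fun x y => ?_⟩
    have hz : ∀ x : Abelian.Ext.{u} (ModuleCat.of R M) (ModuleCat.of R I) (i + 1 + 1), x = 0 := by
      intro x
      haveI : Projective S.X₂ := (IsProjective.iff_projective (R := R) F.carrier).1 hproj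
      obtain ⟨x₁, hx₁⟩ := Abelian.Ext.contravariant_sequence_exact₃ hS (ModuleCat.of R I) x
        (Abelian.Ext.eq_zero_of_projective _) (n₀ := i + 1) (by omega)
      rw [← hx₁, Subsingleton.elim x₁ 0, Abelian.Ext.comp_zero]
    rw [hz x, hz y]

end Groth.Agent.Helper20.GrInj
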