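import Mathlib
import Groth.Agent.Lib.Helper20.GrExt3
import Groth.Agent.Lib.Helper8.LCTors

open DirectSum CategoryTheory

namespace Groth.Agent.Helper20.GrInj

open Groth.Agent.Helper8

universe u

variable {ι : Type} [AddCommGroup ι] [DecidableEq ι]
variable {R : Type u} [CommRing R]
variable {𝒜 : ι → AddSubgroup R} [GradedRing 𝒜]

/-- *injective graded modules are acyclic for local cohomology with graded support -/
theorem LC_H_subsingleton_of_starInj [IsNoetherianRing R] (a : HomogeneousIdeal 𝒜)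
    {I : Type u} [AddCommGroup I] [Module R I] (ℐ : ι → AddSubgroup I)
    [DirectSum.Decomposition ℐ] [SetLike.GradedSMul 𝒜 ℐ] (hI : GrLC.IsStarInj 𝒜 ℐ) (j : ℕ) :
    Subsingleton (LC.H a.toIdeal (j + 1) I) := by
  refine ⟨fun x y => ?_⟩
  have hz : ∀ z : LC.H a.toIdeal (j + 1) I, z = 0 := by
    intro z
    obtain ⟨n, ξ, rfl⟩ := LC.exists_rep a.toIdeal (j + 1) (ModuleCat.of R I) z
    have hhom : ((a.toIdeal ^ n : Ideal R) : Submodule R R).IsHomogeneous 𝒜 :=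
      pow_isHomogeneous 𝒜 a n
    let Q := quotGMod 𝒜 𝒜 (a.toIdeal ^ n : Submodule R R) hhom
    haveI : Module.Finite R Q.carrier :=
      Module.Finite.of_surjective (quotMk 𝒜 𝒜 (a.toIdeal ^ n : Submodule R R) hhom)
        (quotMk_surjective 𝒜 𝒜 _ hhom)
    haveI := ext_subsingleton_of_starInj 𝒜 ℐ hI j Q.carrier Q.gr
    have : ξ = 0 := Subsingleton.elim (α := CategoryTheory.Abelian.Ext.{u}
      (ModuleCat.of R Q.carrier) (ModuleCat.of R I) (j + 1)) ξ 0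
    rw [this, map_zero]
  rw [hz x, hz y]

section Acyclic

variable {M : Type u} [AddCommGroup M] [Module R M] {ℳ : ι → AddSubgroup M}
  [DirectSum.Decomposition ℳ] [SetLike.GradedSMul 𝒜 ℳ] (E : GrLC.StarInjRes 𝒜 ℳ)

/-- the cocycles `Z^n = ker d^n` of the resolution -/
abbrev ZZ (n : ℕ) : Submodule R (E.X n).carrier := LinearMap.ker (E.d n)

/-- the differential `X^n → Z^{n+1}` -/
noncomputable def dZ (n : ℕ) : (E.X n).carrier →ₗ[R] ↥(ZZ E (n + 1)) :=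
  (E.d n).codRestrict (ZZ E (n + 1)) (fun x => LinearMap.mem_ker.2 (res_d_comp E n x))

theorem isSES_dZ (n : ℕ) : LC.IsSES (ZZ E n).subtype (dZ E n) where
  inj := Subtype.val_injective
  exact := by
    intro x
    constructor
    · intro hx
      have : E.d n x = 0 := congrArg Subtype.val hx
      exact ⟨⟨x, LinearMap.mem_ker.2 this⟩, rfl⟩
    · rintro ⟨z, rfl⟩
      exact Subtype.ext z.2
  surj := by
    intro z
    have hz : (z : (E.X (n + 1)).carrier) ∈ LinearMap.ker (E.d (n + 1)) := z.2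
    rw [E.exact_succ n] at hz
    obtain ⟨x, hx⟩ := hz
    exact ⟨x, Subtype.ext hx⟩

/-- `M ≃ Z^0` -/
noncomputable def equivZZero : M ≃ₗ[R] ↥(ZZ E 0) :=
  (LinearEquiv.ofInjective E.ε E.ε_injective).trans (LinearEquiv.ofEq _ _ E.exact_zero.symm)

variable [IsNoetherianRing R] (a : HomogeneousIdeal 𝒜)

theorem X_acyclic (n j : ℕ) : Subsingleton (LC.H a.toIdeal (j + 1) (E.X n).carrier) :=
  LC_H_subsingleton_of_starInj a (E.X n).gr (E.starInj n) j

/-- dimension shifting along the resolution -/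
theorem nonempty_shift_equiv :
    ∀ (k n m : ℕ), n + k = m →
      Nonempty (LC.H a.toIdeal (k + 1) ↥(ZZ E n) ≃ₗ[R] LC.H a.toIdeal 1 ↥(ZZ E m)) := by
  intro k
  induction k with
  | zero =>
    intro n m h
    rw [add_zero] at h
    subst h
    exact ⟨LinearEquiv.refl R _⟩
  | succ k ih =>
    intro n m h
    obtain ⟨e⟩ := ih (n + 1) m (by omega)
    haveI := X_acyclic E a n k
    haveI := X_acyclic E a n (k + 1)
    exact ⟨((isSES_dZ E n).δEquiv a.toIdeal (k + 1)).symm.trans e⟩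

/-- cocycles of `Γ_a(E)` as the torsion of the cocycles -/
noncomputable def cocycEquiv (n : ℕ) :
    ↥(E.cocyc a n) ≃ₗ[R] ↥(LC.gam a.toIdeal ↥(ZZ E n)) where
  toFun z := ⟨⟨z.1, z.2.2⟩, by
    obtain ⟨k, hk⟩ := z.2.1
    exact ⟨k, fun r hr => Subtype.ext (hk r hr)⟩⟩
  map_add' _ _ := rfl
  map_smul' _ _ := rfl
  invFun w := ⟨w.1.1, by
    obtain ⟨k, hk⟩ := w.2
    exact ⟨k, fun r hr => congrArg Subtype.val (hk r hr)⟩, w.1.2⟩
  left_inv _ := rfl
  right_inv _ := rfl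

omit [IsNoetherianRing R] in
theorem cocycEquiv_coe (n : ℕ) (z : ↥(E.cocyc a n)) :
    ((cocycEquiv E a n z : ↥(ZZ E n)) : (E.X n).carrier) = z.1 := rfl

/-- `H^1(Z^n) ≃ Γ(Z^{n+1}) / im Γ(X^n)` -/
theorem nonempty_H_one_equiv (n : ℕ) :
    Nonempty (LC.H a.toIdeal 1 ↥(ZZ E n) ≃ₗ[R]
      (↥(LC.gam a.toIdeal ↥(ZZ E (n + 1))) ⧸ LinearMap.range (LC.gamMap a.toIdeal (dZ E n)))) := by
  haveI := X_acyclic E a n 0
  have hS := isSES_dZ E n
  have hsurj : Function.Surjective (LC.Hδ a.toIdeal 0 hS) := hS.δ_surjective a.toIdeal 0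
  have hker : LinearMap.ker (LC.Hδ a.toIdeal 0 hS) =
      LinearMap.range (LC.Hmap a.toIdeal 0 (dZ E n)) :=
    (LinearMap.exact_iff.1 (hS.exact_Hmap_δ a.toIdeal 0))
  let e₁ := (LC.Hδ a.toIdeal 0 hS).quotKerEquivOfSurjective hsurj
  have hmap : (LinearMap.ker (LC.Hδ a.toIdeal 0 hS)).map
      (LC.H0Equiv a.toIdeal ↥(ZZ E (n + 1))).toLinearMap =
      LinearMap.range (LC.gamMap a.toIdeal (dZ E n)) := by
    rw [hker]
    ext w
    constructor
    · rintro ⟨_, ⟨x, rfl⟩, rfl⟩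
      refine ⟨LC.H0Equiv a.toIdeal (E.X n).carrier x, ?_⟩
      exact (LC.H0Equiv_Hmap a.toIdeal (dZ E n) x).symm
    · rintro ⟨y, rfl⟩
      refine ⟨LC.Hmap a.toIdeal 0 (dZ E n) ((LC.H0Equiv a.toIdeal (E.X n).carrier).symm y),
        ⟨_, rfl⟩, ?_⟩
      show LC.H0Equiv a.toIdeal ↥(ZZ E (n + 1)) _ = _
      rw [LC.H0Equiv_Hmap, LinearEquiv.apply_symm_apply]
  let e₂ := Submodule.Quotient.equiv _ _ (LC.H0Equiv a.toIdeal ↥(ZZ E (n + 1))) hmap
  exact ⟨e₁.symm.trans e₂⟩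

/-- `H^{n+1}` of `Γ_a(E)` is `Γ(Z^{n+1}) / im Γ(X^n)` -/
theorem nonempty_H_succ_equiv (n : ℕ) :
    Nonempty (E.H a (n + 1) ≃ₗ[R]
      (↥(LC.gam a.toIdeal ↥(ZZ E (n + 1))) ⧸ LinearMap.range (LC.gamMap a.toIdeal (dZ E n)))) := by
  refine ⟨Submodule.Quotient.equiv _ _ (cocycEquiv E a (n + 1)) ?_⟩
  ext w
  constructor
  · rintro ⟨z, hz, rfl⟩
    rw [SetLike.mem_coe, Submodule.mem_comap] at hz
    obtain ⟨y, hy, hyz⟩ := hz
    have hy' : y ∈ LC.gam a.toIdeal (E.X n).carrier := hy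
    refine ⟨⟨y, hy'⟩, ?_⟩
    apply Subtype.ext
    apply Subtype.ext
    exact hyz
  · rintro ⟨y, rfl⟩
    have hmem : E.d n y.1 ∈ E.cocyc a (n + 1) :=
      ⟨ChMap.map_gam_lin a.toIdeal (E.d n) y.2, LinearMap.mem_ker.2 (res_d_comp E n y.1)⟩
    refine ⟨⟨E.d n y.1, hmem⟩, ?_, ?_⟩
    · rw [SetLike.mem_coe, Submodule.mem_comap]
      exact ⟨y.1, y.2, rfl⟩
    · apply Subtype.ext
      apply Subtype.ext
      rfl

/-- **An acyclic (*injective) resolution computes local cohomology.** -/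
theorem nonempty_H_equiv_LC (i : ℕ) : Nonempty (E.H a i ≃ₗ[R] LC.H a.toIdeal i M) := by
  cases i with
  | zero =>
    -- `H⁰`
    have hbot : (E.cobdy a 0).comap (E.cocyc a 0).subtype = ⊥ := by
      rw [eq_bot_iff]
      intro z hz
      rw [Submodule.mem_comap] at hz
      have : (z : (E.X 0).carrier) = 0 := (Submodule.mem_bot R).1 hz
      exact (Submodule.mem_bot R).2 (Subtype.ext this)
    let e₁ : E.H a 0 ≃ₗ[R] ↥(E.cocyc a 0) := Submodule.quotEquivOfEqBot _ hbot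
    let e₂ := cocycEquiv E a 0
    let e₃ := (LC.H0Equiv a.toIdeal ↥(ZZ E 0)).symm
    let e₄ := LC.Hcongr a.toIdeal 0 (equivZZero E).symm
    exact ⟨e₁.trans (e₂.trans (e₃.trans e₄))⟩
  | succ n =>
    obtain ⟨e₁⟩ := nonempty_H_succ_equiv E a n
    obtain ⟨e₂⟩ := nonempty_H_one_equiv E a n
    obtain ⟨e₃⟩ := nonempty_shift_equiv E a n 0 n (by omega)
    let e₄ := LC.Hcongr a.toIdeal (n + 1) (equivZZero E)
    exact ⟨e₁.trans (e₂.symm.trans (e₃.symm.trans e₄.symm))⟩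

end Acyclic

end Groth.Agent.Helper20.GrInj
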