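import Mathlib
import Groth.Agent.Lib.Helper20.GrExt4

/-!
# Acyclic resolutions compute local cohomology (helper20)

`ARes S N` is a resolution `0 → N → X⁰ → X¹ → …` of an `S`-module, with no condition on the
terms; if the terms are acyclic for `Γ_J`, the cohomology of `Γ_J(X^•)` is `H^i_J(N)`.
-/

open CategoryTheory

namespace Groth.Agent.Helper20.GrInj

open Groth.Agent.Helper8

universe u

/-- a resolution of a module (no condition on the terms) -/
structure ARes (S : Type u) [CommRing S] (N : Type u) [AddCommGroup N] [Module S N] where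
  /-- terms -/
  X : ℕ → Type u
  [acg : ∀ n, AddCommGroup (X n)]
  [mod : ∀ n, Module S (X n)]
  /-- differentials -/
  d : ∀ n, X n →ₗ[S] X (n + 1)
  /-- augmentation -/
  ε : N →ₗ[S] X 0
  ε_injective : Function.Injective ε
  exact_zero : LinearMap.ker (d 0) = LinearMap.range ε
  exact_succ : ∀ n, LinearMap.ker (d (n + 1)) = LinearMap.range (d n)

attribute [instance] ARes.acg ARes.mod

namespace ARes

variable {S : Type u} [CommRing S] {N : Type u} [AddCommGroup N] [Module S N] (A : ARes S N)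
  (J : Ideal S)

theorem d_comp (n : ℕ) (x : A.X n) : A.d (n + 1) (A.d n x) = 0 := by
  have : A.d n x ∈ LinearMap.ker (A.d (n + 1)) := by
    rw [A.exact_succ]
    exact ⟨x, rfl⟩
  exact this

/-- cocycles of `Γ_J(X^•)` -/
def cocyc (i : ℕ) : Submodule S (A.X i) := LC.gam J (A.X i) ⊓ LinearMap.ker (A.d i)

/-- coboundaries of `Γ_J(X^•)` -/
def cobdy : (i : ℕ) → Submodule S (A.X i)
  | 0 => ⊥
  | n + 1 => (LC.gam J (A.X n)).map (A.d n)

/-- cohomology of `Γ_J(X^•)` -/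
abbrev H (i : ℕ) : Type u := ↥(A.cocyc J i) ⧸ (A.cobdy J i).comap (A.cocyc J i).subtype

/-- the cocycles `Z^n = ker d^n` of the resolution -/
abbrev ZZ (n : ℕ) : Submodule S (A.X n) := LinearMap.ker (A.d n)

/-- the differential `X^n → Z^{n+1}` -/
noncomputable def dZ (n : ℕ) : A.X n →ₗ[S] ↥(A.ZZ (n + 1)) :=
  (A.d n).codRestrict (A.ZZ (n + 1)) (fun x => LinearMap.mem_ker.2 (A.d_comp n x))

theorem isSES_dZ (n : ℕ) : LC.IsSES (A.ZZ n).subtype (A.dZ n) where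
  inj := Subtype.val_injective
  exact := by
    intro x
    constructor
    · intro hx
      have : A.d n x = 0 := congrArg Subtype.val hx
      exact ⟨⟨x, LinearMap.mem_ker.2 this⟩, rfl⟩
    · rintro ⟨z, rfl⟩
      exact Subtype.ext z.2
  surj := by
    intro z
    have hz : (z : A.X (n + 1)) ∈ LinearMap.ker (A.d (n + 1)) := z.2
    rw [A.exact_succ n] at hz
    obtain ⟨x, hx⟩ := hz
    exact ⟨x, Subtype.ext hx⟩

/-- `N ≃ Z^0` -/
noncomputable def equivZZero : N ≃ₗ[S] ↥(A.ZZ 0) :=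
  (LinearEquiv.ofInjective A.ε A.ε_injective).trans (LinearEquiv.ofEq _ _ A.exact_zero.symm)

variable (hacyc : ∀ n j : ℕ, Subsingleton (LC.H J (j + 1) (A.X n)))

include hacyc in
/-- dimension shifting along the resolution -/
theorem nonempty_shift_equiv :
    ∀ (k n m : ℕ), n + k = m →
      Nonempty (LC.H J (k + 1) ↥(A.ZZ n) ≃ₗ[S] LC.H J 1 ↥(A.ZZ m)) := by
  intro k
  induction k with
  | zero =>
    intro n m h
    rw [add_zero] at h
    subst h
    exact ⟨LinearEquiv.refl S _⟩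
  | succ k ih =>
    intro n m h
    obtain ⟨e⟩ := ih (n + 1) m (by omega)
    haveI := hacyc n k
    haveI := hacyc n (k + 1)
    exact ⟨((A.isSES_dZ n).δEquiv J (k + 1)).symm.trans e⟩

/-- cocycles of `Γ_J(X^•)` as the torsion of the cocycles -/
noncomputable def cocycEquiv (n : ℕ) :
    ↥(A.cocyc J n) ≃ₗ[S] ↥(LC.gam J ↥(A.ZZ n)) where
  toFun z := ⟨⟨z.1, z.2.2⟩, by
    obtain ⟨k, hk⟩ := z.2.1
    exact ⟨k, fun r hr => Subtype.ext (hk r hr)⟩⟩
  map_add' _ _ := rfl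
  map_smul' _ _ := rfl
  invFun w := ⟨w.1.1, by
    obtain ⟨k, hk⟩ := w.2
    exact ⟨k, fun r hr => congrArg Subtype.val (hk r hr)⟩, w.1.2⟩
  left_inv _ := rfl
  right_inv _ := rfl

include hacyc in
/-- `H^1(Z^n) ≃ Γ(Z^{n+1}) / im Γ(X^n)` -/
theorem nonempty_H_one_equiv (n : ℕ) :
    Nonempty (LC.H J 1 ↥(A.ZZ n) ≃ₗ[S]
      (↥(LC.gam J ↥(A.ZZ (n + 1))) ⧸ LinearMap.range (LC.gamMap J (A.dZ n)))) := by
  haveI := hacyc n 0
  have hS := A.isSES_dZ n
  have hsurj : Function.Surjective (LC.Hδ J 0 hS) := hS.δ_surjective J 0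
  have hker : LinearMap.ker (LC.Hδ J 0 hS) =
      LinearMap.range (LC.Hmap J 0 (A.dZ n)) :=
    (LinearMap.exact_iff.1 (hS.exact_Hmap_δ J 0))
  let e₁ := (LC.Hδ J 0 hS).quotKerEquivOfSurjective hsurj
  have hmap : (LinearMap.ker (LC.Hδ J 0 hS)).map
      (LC.H0Equiv J ↥(A.ZZ (n + 1))).toLinearMap =
      LinearMap.range (LC.gamMap J (A.dZ n)) := by
    rw [hker]
    ext w
    constructor
    · rintro ⟨_, ⟨x, rfl⟩, rfl⟩
      refine ⟨LC.H0Equiv J (A.X n) x, ?_⟩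
      exact (LC.H0Equiv_Hmap J (A.dZ n) x).symm
    · rintro ⟨y, rfl⟩
      refine ⟨LC.Hmap J 0 (A.dZ n) ((LC.H0Equiv J (A.X n)).symm y),
        ⟨_, rfl⟩, ?_⟩
      show LC.H0Equiv J ↥(A.ZZ (n + 1)) _ = _
      rw [LC.H0Equiv_Hmap, LinearEquiv.apply_symm_apply]
  let e₂ := Submodule.Quotient.equiv _ _ (LC.H0Equiv J ↥(A.ZZ (n + 1))) hmap
  exact ⟨e₁.symm.trans e₂⟩

/-- `H^{n+1}` of `Γ_J(X^•)` is `Γ(Z^{n+1}) / im Γ(X^n)` -/
theorem nonempty_H_succ_equiv (n : ℕ) :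
    Nonempty (A.H J (n + 1) ≃ₗ[S]
      (↥(LC.gam J ↥(A.ZZ (n + 1))) ⧸ LinearMap.range (LC.gamMap J (A.dZ n)))) := by
  refine ⟨Submodule.Quotient.equiv _ _ (A.cocycEquiv J (n + 1)) ?_⟩
  ext w
  constructor
  · rintro ⟨z, hz, rfl⟩
    rw [SetLike.mem_coe, Submodule.mem_comap] at hz
    obtain ⟨y, hy, hyz⟩ := hz
    refine ⟨⟨y, hy⟩, ?_⟩
    apply Subtype.ext
    apply Subtype.ext
    exact hyz
  · rintro ⟨y, rfl⟩
    have hmem : A.d n y.1 ∈ A.cocyc J (n + 1) :=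
      ⟨(LC.gamMap J (A.d n) y).2, LinearMap.mem_ker.2 (A.d_comp n y.1)⟩
    refine ⟨⟨A.d n y.1, hmem⟩, ?_, ?_⟩
    · rw [SetLike.mem_coe, Submodule.mem_comap]
      exact ⟨y.1, y.2, rfl⟩
    · apply Subtype.ext
      apply Subtype.ext
      rfl

include hacyc in
/-- **An acyclic resolution computes local cohomology.** -/
theorem nonempty_H_equiv_LC (i : ℕ) : Nonempty (A.H J i ≃ₗ[S] LC.H J i N) := by
  cases i with
  | zero =>
    have hbot : (A.cobdy J 0).comap (A.cocyc J 0).subtype = ⊥ := by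
      rw [eq_bot_iff]
      intro z hz
      rw [Submodule.mem_comap] at hz
      have : (z : A.X 0) = 0 := (Submodule.mem_bot S).1 hz
      exact (Submodule.mem_bot S).2 (Subtype.ext this)
    let e₁ : A.H J 0 ≃ₗ[S] ↥(A.cocyc J 0) := Submodule.quotEquivOfEqBot _ hbot
    let e₂ := A.cocycEquiv J 0
    let e₃ := (LC.H0Equiv J ↥(A.ZZ 0)).symm
    let e₄ := LC.Hcongr J 0 A.equivZZero.symm
    exact ⟨e₁.trans (e₂.trans (e₃.trans e₄))⟩
  | succ n =>
    obtain ⟨e₁⟩ := A.nonempty_H_succ_equiv J n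
    obtain ⟨e₂⟩ := A.nonempty_H_one_equiv J hacyc n
    obtain ⟨e₃⟩ := A.nonempty_shift_equiv J hacyc n 0 n (by omega)
    let e₄ := LC.Hcongr J (n + 1) A.equivZZero
    exact ⟨e₁.trans (e₂.symm.trans (e₃.symm.trans e₄.symm))⟩

end ARes

end Groth.Agent.Helper20.GrInj
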