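import Mathlib
import Groth.Agent.Lib.Helper20.GrAcyc1
import Groth.Agent.Lib.Helper8.LCIndep

/-!
# The degree-`h` strand of a *injective resolution (helper20)
-/

open DirectSum

namespace Groth.Agent.Helper20.GrInj

open Groth.Agent.Helper8

universe u

variable {ι : Type} [AddCommGroup ι] [DecidableEq ι]
variable {R : Type u} [CommRing R]
variable {𝒜 : ι → AddSubgroup R} [GradedRing 𝒜]

section Proj

variable {X : Type u} [AddCommGroup X] [Module R X] (𝒳 : ι → AddSubgroup X)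
  [DirectSum.Decomposition 𝒳] [SetLike.GradedSMul 𝒜 𝒳]

/-- inclusion of a piece, over `R₀` -/
def compIncl (h : ι) : ↥(GrLC.comp 𝒜 𝒳 h) →ₗ[GrLC.deg0 𝒜] X := (GrLC.comp 𝒜 𝒳 h).subtype

/-- projection onto a piece, over `R₀` -/
noncomputable def compProj (h : ι) : X →ₗ[GrLC.deg0 𝒜] ↥(GrLC.comp 𝒜 𝒳 h) where
  toFun x := ⟨(decompose 𝒳 x h : X), (decompose 𝒳 x h).2⟩
  map_add' x y := by
    apply Subtype.ext
    show (decompose 𝒳 (x + y) h : X) = (decompose 𝒳 x h : X) + (decompose 𝒳 y h : X)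
    rw [decompose_add, DirectSum.add_apply, AddMemClass.coe_add]
  map_smul' r x := by
    apply Subtype.ext
    show (decompose 𝒳 ((r : R) • x) h : X) = (r : R) • (decompose 𝒳 x h : X)
    have := decompose_smul_of_mem 𝒜 𝒳 (h := 0) (r := (r : R)) r.2 x h
    rwa [zero_add] at this

theorem compProj_coe (h : ι) (x : X) : ((compProj (𝒜 := 𝒜) 𝒳 h x : ↥(GrLC.comp 𝒜 𝒳 h)) : X) =
    (decompose 𝒳 x h : X) := rfl

theorem compProj_comp_compIncl (h : ι) :
    (compProj (𝒜 := 𝒜) 𝒳 h) ∘ₗ (compIncl (𝒜 := 𝒜) 𝒳 h) = LinearMap.id := by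
  ext x
  show (decompose 𝒳 (x : X) h : X) = x
  exact decompose_of_mem_same 𝒳 x.2

/-- local cohomology over `R₀` of a piece is a retract of that of the whole module -/
theorem H_comp_subsingleton (J : Ideal (GrLC.deg0 𝒜)) (i : ℕ) (h : ι)
    [Subsingleton (LC.H J i X)] : Subsingleton (LC.H J i ↥(GrLC.comp 𝒜 𝒳 h)) := by
  refine ⟨fun x y => ?_⟩
  have hz : ∀ z : LC.H J i ↥(GrLC.comp 𝒜 𝒳 h), z = 0 := by
    intro z
    have h1 : LC.Hmap J i ((compProj (𝒜 := 𝒜) 𝒳 h) ∘ₗ (compIncl (𝒜 := 𝒜) 𝒳 h)) z = z := by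
      rw [compProj_comp_compIncl, LC.Hmap_id]
      rfl
    rw [LC.Hmap_comp_apply] at h1
    rw [← h1, Subsingleton.elim (LC.Hmap J i (compIncl (𝒜 := 𝒜) 𝒳 h) z) 0, map_zero]
  rw [hz x, hz y]

end Proj

section Base

/-- the ideal of `R₀` cut out by a homogeneous ideal generated in degree `0` extends back to it -/
theorem map_comap_deg0 (a : HomogeneousIdeal 𝒜)
    (ha : a.toIdeal = Ideal.span ((a : Set R) ∩ (𝒜 0 : AddSubgroup R))) :
    (a.toIdeal.comap (GrLC.deg0 𝒜).subtype).map (algebraMap (GrLC.deg0 𝒜) R) = a.toIdeal := by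
  apply le_antisymm
  · rw [Ideal.map_le_iff_le_comap]
    intro x hx
    exact hx
  · conv_lhs => rw [ha]
    rw [Ideal.span_le]
    rintro x ⟨hxa, hx0⟩
    have : x = algebraMap (GrLC.deg0 𝒜) R ⟨x, hx0⟩ := rfl
    rw [this]
    apply Ideal.mem_map_of_mem
    exact hxa

variable [IsNoetherianRing R]

/-- *injective modules are acyclic for `Γ_{a₀}` over `R₀` when `a = a₀ R` -/
theorem LC_H_deg0_subsingleton_of_starInj (a : HomogeneousIdeal 𝒜)
    (ha : a.toIdeal = Ideal.span ((a : Set R) ∩ (𝒜 0 : AddSubgroup R)))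
    {I : Type u} [AddCommGroup I] [Module R I] (ℐ : ι → AddSubgroup I)
    [DirectSum.Decomposition ℐ] [SetLike.GradedSMul 𝒜 ℐ] (hI : GrLC.IsStarInj 𝒜 ℐ) (j : ℕ) :
    Subsingleton (LC.H (a.toIdeal.comap (GrLC.deg0 𝒜).subtype) (j + 1) I) := by
  haveI : IsNoetherianRing (GrLC.deg0 𝒜) := deg0_isNoetherianRing (𝒜 := 𝒜)
  obtain ⟨e⟩ := LC.exists_equiv_base (R := GrLC.deg0 𝒜) (R' := R)
    (a.toIdeal.comap (GrLC.deg0 𝒜).subtype) (j + 1) ⟨I⟩
  haveI : Subsingleton (LC.HA (a.toIdeal.comap (GrLC.deg0 𝒜).subtype) (j + 1)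
      (⟨I⟩ : LC.BMod (GrLC.deg0 𝒜) R)) := by
    show Subsingleton (LC.H ((a.toIdeal.comap (GrLC.deg0 𝒜).subtype).map
      (algebraMap (GrLC.deg0 𝒜) R)) (j + 1) I)
    rw [map_comap_deg0 a ha]
    exact LC_H_subsingleton_of_starInj a ℐ hI j
  exact e.symm.toEquiv.subsingleton

end Base

end Groth.Agent.Helper20.GrInj
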