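import Mathlib
import Groth.Agent.Lib.Helper20.GrAcyc2

/-!
# The degree-`h` strand of a *injective resolution computes `H^i_{a₀}(M_h)` (helper20)
-/

open DirectSum

namespace Groth.Agent.Helper20.GrInj

open Groth.Agent.Helper8

universe u

variable {ι : Type} [AddCommGroup ι] [DecidableEq ι]
variable {R : Type u} [CommRing R]
variable {𝒜 : ι → AddSubgroup R} [GradedRing 𝒜]

section CompMap

variable {X : Type u} [AddCommGroup X] [Module R X] (𝒳 : ι → AddSubgroup X)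
  [SetLike.GradedSMul 𝒜 𝒳]
variable {Y : Type u} [AddCommGroup Y] [Module R Y] (𝒴 : ι → AddSubgroup Y)
  [SetLike.GradedSMul 𝒜 𝒴]

/-- restriction of a homogeneous map to the pieces of degree `h` -/
def compMap (f : X →ₗ[R] Y) (hf : GrLC.IsGrHom 𝒳 𝒴 f) (h : ι) :
    ↥(GrLC.comp 𝒜 𝒳 h) →ₗ[GrLC.deg0 𝒜] ↥(GrLC.comp 𝒜 𝒴 h) :=
  (f.restrictScalars (GrLC.deg0 𝒜)).restrict (fun x hx => hf h x hx)

theorem compMap_coe (f : X →ₗ[R] Y) (hf : GrLC.IsGrHom 𝒳 𝒴 f) (h : ι)
    (x : ↥(GrLC.comp 𝒜 𝒳 h)) : ((compMap (𝒜 := 𝒜) 𝒳 𝒴 f hf h x : ↥(GrLC.comp 𝒜 𝒴 h)) : Y) = f x :=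
  rfl

end CompMap

variable {M : Type u} [AddCommGroup M] [Module R M] {ℳ : ι → AddSubgroup M}
  [DirectSum.Decomposition ℳ] [SetLike.GradedSMul 𝒜 ℳ]

/-- the degree-`h` strand of a *injective resolution, a resolution of `M_h` over `R₀` -/
noncomputable def strand (E : GrLC.StarInjRes 𝒜 ℳ) (h : ι) :
    ARes (GrLC.deg0 𝒜) ↥(GrLC.comp 𝒜 ℳ h) where
  X n := ↥(GrLC.comp 𝒜 (E.X n).gr h)
  d n := compMap (E.X n).gr (E.X (n + 1)).gr (E.d n) (E.d_grHom n) h
  ε := compMap ℳ (E.X 0).gr E.ε E.ε_grHom h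
  ε_injective := fun x y hxy => Subtype.ext (E.ε_injective (congrArg Subtype.val hxy))
  exact_zero := by
    ext x
    constructor
    · intro hx
      have h0 : E.d 0 x.1 = 0 := congrArg Subtype.val (LinearMap.mem_ker.1 hx)
      have h1 : x.1 ∈ LinearMap.ker (E.d 0) := h0
      rw [E.exact_zero] at h1
      obtain ⟨m, hm⟩ := h1
      refine ⟨⟨decompose ℳ m h, (decompose ℳ m h).2⟩, Subtype.ext ?_⟩
      show E.ε (decompose ℳ m h) = x.1
      rw [← decompose_map ℳ (E.X 0).gr E.ε_grHom, hm]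
      exact decompose_of_mem_same _ x.2
    · rintro ⟨m, rfl⟩
      apply LinearMap.mem_ker.2
      apply Subtype.ext
      show E.d 0 (E.ε m.1) = 0
      exact res_d_ε E m.1
  exact_succ := by
    intro n
    ext x
    constructor
    · intro hx
      have h0 : E.d (n + 1) x.1 = 0 := congrArg Subtype.val (LinearMap.mem_ker.1 hx)
      have h1 : x.1 ∈ LinearMap.ker (E.d (n + 1)) := h0
      rw [E.exact_succ] at h1
      obtain ⟨y, hy⟩ := h1
      refine ⟨⟨decompose (E.X n).gr y h, (decompose (E.X n).gr y h).2⟩, Subtype.ext ?_⟩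
      show E.d n (decompose (E.X n).gr y h) = x.1
      rw [← decompose_map (E.X n).gr (E.X (n + 1)).gr (E.d_grHom n), hy]
      exact decompose_of_mem_same _ x.2
    · rintro ⟨y, rfl⟩
      apply LinearMap.mem_ker.2
      apply Subtype.ext
      show E.d (n + 1) (E.d n y.1) = 0
      exact res_d_comp E n y.1

theorem strand_d_eq_zero_iff (E : GrLC.StarInjRes 𝒜 ℳ) (h : ι) (n : ℕ)
    (x : ↥(GrLC.comp 𝒜 (E.X n).gr h)) :
    (strand E h).d n x = 0 ↔ E.d n x.1 = 0 := by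
  constructor
  · intro hx
    exact congrArg (fun y : ↥(GrLC.comp 𝒜 (E.X (n + 1)).gr h) => y.1) hx
  · intro hx
    exact Subtype.ext hx

section Tors

variable (a : HomogeneousIdeal 𝒜)
  (ha : a.toIdeal = Ideal.span ((a : Set R) ∩ (𝒜 0 : AddSubgroup R)))

include ha in
/-- `a₀`-torsion over `R₀` is `a`-torsion over `R` -/
theorem mem_gam_deg0_iff {X : Type u} [AddCommGroup X] [Module R X] (x : X) :
    x ∈ LC.gam (a.toIdeal.comap (GrLC.deg0 𝒜).subtype) X ↔ x ∈ GrLC.gam a.toIdeal X := by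
  have h := LC.mem_gam_map_iff (R := GrLC.deg0 𝒜) (R' := R)
    (a.toIdeal.comap (GrLC.deg0 𝒜).subtype) ⟨X⟩ x
  rw [map_comap_deg0 a ha] at h
  exact h.symm

include ha in
theorem mem_gam_comp_iff {X : Type u} [AddCommGroup X] [Module R X] (𝒳 : ι → AddSubgroup X)
    [SetLike.GradedSMul 𝒜 𝒳] (h : ι) (x : ↥(GrLC.comp 𝒜 𝒳 h)) :
    x ∈ LC.gam (a.toIdeal.comap (GrLC.deg0 𝒜).subtype) ↥(GrLC.comp 𝒜 𝒳 h) ↔
      (x : X) ∈ GrLC.gam a.toIdeal X := by
  rw [← mem_gam_deg0_iff a ha]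
  constructor
  · rintro ⟨k, hk⟩
    exact ⟨k, fun r hr => congrArg Subtype.val (hk r hr)⟩
  · rintro ⟨k, hk⟩
    exact ⟨k, fun r hr => Subtype.ext (hk r hr)⟩

variable (E : GrLC.StarInjRes 𝒜 ℳ) (h : ι)

include ha in
theorem strand_cocyc_mem (i : ℕ)
    (z : ↥((strand E h).cocyc (a.toIdeal.comap (GrLC.deg0 𝒜).subtype) i)) :
    ((z : (strand E h).X i) : ↥(GrLC.comp 𝒜 (E.X i).gr h)).1 ∈ E.cocyc a i := by
  refine ⟨(mem_gam_comp_iff a ha (E.X i).gr h _).1 z.2.1, ?_⟩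
  have hz := LinearMap.mem_ker.1 z.2.2
  exact LinearMap.mem_ker.2 ((strand_d_eq_zero_iff E h i _).1 hz)

/-- the class map from the cocycles of the strand to the piece of graded local cohomology -/
noncomputable def strandToHcomp (i : ℕ) :
    ↥((strand E h).cocyc (a.toIdeal.comap (GrLC.deg0 𝒜).subtype) i) →ₗ[GrLC.deg0 𝒜]
      ↥(E.Hcomp a i h) where
  toFun z := ⟨E.toH a i ⟨_, strand_cocyc_mem a ha E h i z⟩,
    ⟨⟨_, strand_cocyc_mem a ha E h i z⟩, (z : (strand E h).X i).2, rfl⟩⟩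
  map_add' z w := by
    apply Subtype.ext
    show E.toH a i _ = E.toH a i _ + E.toH a i _
    rw [← map_add]
    rfl
  map_smul' r z := by
    apply Subtype.ext
    show E.toH a i _ = (r : R) • E.toH a i _
    rw [← map_smul]
    rfl

theorem strandToHcomp_surjective (i : ℕ) : Function.Surjective (strandToHcomp a ha E h i) := by
  rintro ⟨x, z, hz, rfl⟩
  have hz1 : (⟨z.1, hz⟩ : ↥(GrLC.comp 𝒜 (E.X i).gr h)) ∈
      (strand E h).cocyc (a.toIdeal.comap (GrLC.deg0 𝒜).subtype) i := by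
    refine ⟨(mem_gam_comp_iff a ha (E.X i).gr h _).2 z.2.1, ?_⟩
    apply LinearMap.mem_ker.2
    exact (strand_d_eq_zero_iff E h i _).2 (LinearMap.mem_ker.1 z.2.2)
  exact ⟨⟨⟨z.1, hz⟩, hz1⟩, rfl⟩

theorem strandToHcomp_ker (i : ℕ) : LinearMap.ker (strandToHcomp a ha E h i) =
    ((strand E h).cobdy (a.toIdeal.comap (GrLC.deg0 𝒜).subtype) i).comap
      ((strand E h).cocyc (a.toIdeal.comap (GrLC.deg0 𝒜).subtype) i).subtype := by
  ext z
  rw [LinearMap.mem_ker, Submodule.mem_comap]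
  have h1 : strandToHcomp a ha E h i z = 0 ↔
      ((z : (strand E h).X i) : ↥(GrLC.comp 𝒜 (E.X i).gr h)).1 ∈ E.cobdy a i := by
    constructor
    · intro hz
      have : E.toH a i ⟨_, strand_cocyc_mem a ha E h i z⟩ = 0 := congrArg Subtype.val hz
      rw [Submodule.mkQ_apply, Submodule.Quotient.mk_eq_zero, Submodule.mem_comap] at this
      exact this
    · intro hz
      apply Subtype.ext
      show E.toH a i ⟨_, strand_cocyc_mem a ha E h i z⟩ = 0
      rw [Submodule.mkQ_apply, Submodule.Quotient.mk_eq_zero, Submodule.mem_comap]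
      exact hz
  rw [h1]
  cases i with
  | zero =>
    show _ ∈ (⊥ : Submodule R _) ↔ _ ∈ (⊥ : Submodule _ _)
    rw [Submodule.mem_bot, Submodule.mem_bot]
    constructor
    · intro hz
      exact Subtype.ext hz
    · intro hz
      exact congrArg Subtype.val hz
  | succ n =>
    show _ ∈ (GrLC.gam a.toIdeal (E.X n).carrier).map (E.d n) ↔
      _ ∈ (LC.gam (a.toIdeal.comap (GrLC.deg0 𝒜).subtype) ((strand E h).X n)).map
        ((strand E h).d n)
    constructor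
    · rintro ⟨y, hy, hyz⟩
      have hyh : (decompose (E.X n).gr y h : (E.X n).carrier) ∈ GrLC.gam a.toIdeal (E.X n).carrier :=
        gam_isHomogeneous 𝒜 (E.X n).gr a h hy
      refine ⟨⟨decompose (E.X n).gr y h, (decompose (E.X n).gr y h).2⟩,
        (mem_gam_comp_iff a ha (E.X n).gr h _).2 hyh, Subtype.ext ?_⟩
      show E.d n (decompose (E.X n).gr y h) = _
      rw [← decompose_map (E.X n).gr (E.X (n + 1)).gr (E.d_grHom n), hyz]
      exact decompose_of_mem_same _ (z : (strand E h).X (n + 1)).2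
    · rintro ⟨y, hy, hyz⟩
      exact ⟨y.1, (mem_gam_comp_iff a ha (E.X n).gr h _).1 hy, congrArg Subtype.val hyz⟩

/-- the piece `H^i_a(M)_h` is the cohomology of `Γ_{a₀}` of the strand -/
noncomputable def strandEquiv (i : ℕ) :
    (strand E h).H (a.toIdeal.comap (GrLC.deg0 𝒜).subtype) i ≃ₗ[GrLC.deg0 𝒜] ↥(E.Hcomp a i h) :=
  (Submodule.quotEquivOfEq _ _ (strandToHcomp_ker a ha E h i).symm).trans
    ((strandToHcomp a ha E h i).quotKerEquivOfSurjective (strandToHcomp_surjective a ha E h i))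

include ha in
/-- **`H^i_a(M)_h ≅ H^i_{a₀}(M_h)`** when `a` is generated in degree `0` -/
theorem nonempty_Hcomp_equiv_LC [IsNoetherianRing R] (i : ℕ) :
    Nonempty (↥(E.Hcomp a i h) ≃ₗ[GrLC.deg0 𝒜]
      LC.H (a.toIdeal.comap (GrLC.deg0 𝒜).subtype) i ↥(GrLC.comp 𝒜 ℳ h)) := by
  have hacyc : ∀ n j : ℕ, Subsingleton (LC.H (a.toIdeal.comap (GrLC.deg0 𝒜).subtype) (j + 1)
      ((strand E h).X n)) := by
    intro n j
    haveI := LC_H_deg0_subsingleton_of_starInj a ha (E.X n).gr (E.starInj n) j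
    exact H_comp_subsingleton (𝒜 := 𝒜) (E.X n).gr _ (j + 1) h
  obtain ⟨e⟩ := (strand E h).nonempty_H_equiv_LC (a.toIdeal.comap (GrLC.deg0 𝒜).subtype) hacyc i
  exact ⟨(strandEquiv a ha E h i).symm.trans e⟩

end Tors

end Groth.Agent.Helper20.GrInj
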