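import Mathlib
import Groth.Agent.Lib.Helper20.GrExt4
import Groth.Agent.Lib.Helper8.LCArt
import Groth.Agent.Lib.Helper8.LCFlat2

/-!
# Artinianness of local cohomology with support in a maximal ideal (non-local base), and
Artinian graded modules (helper20)
-/

open DirectSum TensorProduct

namespace Groth.Agent.Helper20.GrInj

open Groth.Agent.Helper8

universe u

section LocArt

variable {R : Type u} [CommRing R] (m : Ideal R) [hm : m.IsMaximal]

/-- on an `m`-power-torsion element, elements outside the maximal ideal `m` can be cancelled -/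
theorem mem_of_smul_mem_of_torsion {A : Type u} [AddCommGroup A] [Module R A] (B : Submodule R A)
    {u : R} (hu : u ∉ m) {a : A} {k : ℕ} (hk : ∀ c ∈ m ^ k, c • a = 0) (h : u • a ∈ B) : a ∈ B := by
  obtain ⟨y, i, hi, hyi⟩ := Ideal.IsMaximal.exists_inv_pow m hu k
  have : a = y • (u • a) := by
    calc a = (1 : R) • a := (one_smul _ _).symm
      _ = (y * u + i) • a := by rw [hyi]
      _ = y • u • a + i • a := by rw [add_smul, mul_smul]
      _ = y • u • a := by rw [hk i hi, add_zero]
  rw [this]
  exact B.smul_mem _ h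

/-- an `m`-power-torsion module is Artinian as soon as its localization at `m` is Artinian -/
theorem isArtinian_of_isLocalizedModule (R' : Type u) [CommRing R'] [Algebra R R']
    [IsLocalization.AtPrime R' m]
    {A : Type u} [AddCommGroup A] [Module R A] {A' : Type u} [AddCommGroup A'] [Module R A']
    [Module R' A'] [IsScalarTower R R' A'] (f : A →ₗ[R] A') [IsLocalizedModule m.primeCompl f]
    (htors : ∀ x : A, ∃ k : ℕ, ∀ c ∈ m ^ k, c • x = 0) [IsArtinian R' A'] : IsArtinian R A := by
  let φ : Submodule R A → Submodule R' A' := fun B => Submodule.span R' (f '' (B : Set A))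
  have hmono : Monotone φ := fun B B' h => Submodule.span_mono (Set.image_mono h)
  have key : ∀ B : Submodule R A, ∀ y ∈ φ B, ∃ s : R, s ∉ m ∧ ∃ b ∈ B, s • y = f b := by
    intro B y hy
    induction hy using Submodule.span_induction with
    | mem y hy =>
      obtain ⟨b, hb, rfl⟩ := hy
      exact ⟨1, (Ideal.ne_top_iff_one m).1 hm.ne_top, b, hb, one_smul _ _⟩
    | zero => exact ⟨1, (Ideal.ne_top_iff_one m).1 hm.ne_top, 0, B.zero_mem, by simp⟩
    | add y z _ _ hy hz =>
      obtain ⟨s, hs, b, hb, hsb⟩ := hy
      obtain ⟨s', hs', b', hb', hsb'⟩ := hz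
      refine ⟨s * s', fun h => (hm.isPrime.mem_or_mem h).elim hs hs', s' • b + s • b',
        B.add_mem (B.smul_mem _ hb) (B.smul_mem _ hb'), ?_⟩
      rw [smul_add, map_add, map_smul, map_smul, ← hsb, ← hsb', smul_smul, smul_smul, mul_comm s' s]
    | smul r' y _ hy =>
      obtain ⟨s, hs, b, hb, hsb⟩ := hy
      obtain ⟨⟨r, t⟩, hrt⟩ := IsLocalization.surj m.primeCompl r'
      have ht : (t : R) ∉ m := t.2
      refine ⟨s * t, fun h => (hm.isPrime.mem_or_mem h).elim hs ht, r • b, B.smul_mem _ hb, ?_⟩
      have h1 : (t : R) • (r' • y) = r • y := by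
        rw [← algebraMap_smul R' (t : R) (r' • y), smul_smul, mul_comm, hrt, algebraMap_smul]
      rw [mul_smul, h1, smul_comm, hsb, map_smul]
  have hmem : ∀ B : Submodule R A, ∀ a : A, f a ∈ φ B → a ∈ B := by
    intro B a ha
    obtain ⟨s, hs, b, hb, hsb⟩ := key B (f a) ha
    rw [← map_smul] at hsb
    obtain ⟨t, ht⟩ := (IsLocalizedModule.eq_iff_exists m.primeCompl f).1 hsb
    obtain ⟨k, hk⟩ := htors a
    have htm : (t : R) ∉ m := t.2
    refine mem_of_smul_mem_of_torsion m B (u := (t : R) * s)
      (fun h => (hm.isPrime.mem_or_mem h).elim htm hs) hk ?_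
    rw [mul_smul]
    have : (t : R) • s • a = (t : R) • b := ht
    rw [this]
    exact B.smul_mem _ hb
  have hstrict : StrictMono φ := by
    intro B B' hlt
    refine lt_of_le_of_ne (hmono hlt.le) ?_
    intro heq
    apply hlt.not_ge
    intro a ha
    apply hmem B a
    show f a ∈ φ B
    rw [heq]
    exact Submodule.subset_span ⟨a, ha, rfl⟩
  exact hstrict.wellFoundedLT

/-- **`H^i_m(M)` is an Artinian `R`-module** for a maximal ideal `m` of a Noetherian ring and a
finitely generated module `M` -/
theorem isArtinian_LC_H_of_isMaximal [IsNoetherianRing R] (i : ℕ) (M : Type u) [AddCommGroup M]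
    [Module R M] [Module.Finite R M] : IsArtinian R (LC.H m i M) := by
  let R' := Localization.AtPrime m
  haveI : IsNoetherianRing R' := IsLocalization.isNoetherianRing m.primeCompl R' inferInstance
  haveI : Module.Flat R R' := IsLocalization.flat R' m.primeCompl
  obtain ⟨e⟩ := LC.exists_equiv_baseChange (R' := R') m i ⟨M⟩
  have hmap : m.map (algebraMap R R') = IsLocalRing.maximalIdeal R' :=
    Localization.AtPrime.map_eq_maximalIdeal
  have hA : IsArtinian R' (LC.H (m.map (algebraMap R R')) i (R' ⊗[R] M)) := by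
    rw [hmap]
    exact LC.isArtinian_H_maximalIdeal i (R' ⊗[R] M)
  haveI : IsArtinian R' (R' ⊗[R] LC.H m i M) := isArtinian_of_injective e.toLinearMap e.injective
  haveI : IsLocalizedModule m.primeCompl (TensorProduct.mk R R' (LC.H m i M) 1) :=
    (isLocalizedModule_iff_isBaseChange m.primeCompl R' _).2 (TensorProduct.isBaseChange R _ R')
  exact isArtinian_of_isLocalizedModule m R' (TensorProduct.mk R R' (LC.H m i M) 1)
    (fun x => LC.H_exists_pow_smul_eq_zero m i M x)

end LocArt

end Groth.Agent.Helper20.GrInj
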