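import Mathlib
import Groth.Agent.Lib.Helper20.GrArt1

/-!
# Artinian graded modules over positively graded rings; *local rings (helper20)
-/

open DirectSum

namespace Groth.Agent.Helper20.GrInj

open Groth.Agent.Helper8

universe u

section CompArt

variable {ι : Type} [AddCommGroup ι] [DecidableEq ι]
variable {R : Type u} [CommRing R]
variable {σ : Type u} [SetLike σ R] [AddSubgroupClass σ R] {𝒜 : ι → σ} [GradedRing 𝒜]
variable {M : Type u} [AddCommGroup M] [Module R M] {ℳ : ι → AddSubgroup M}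
  [DirectSum.Decomposition ℳ] [SetLike.GradedSMul 𝒜 ℳ]

/-- **pieces of an Artinian graded module are Artinian over the degree-zero subring** -/
theorem comp_isArtinian [IsArtinian R M] (n : ι) :
    IsArtinian (GrLC.deg0 𝒜) (GrLC.comp 𝒜 ℳ n) := by
  let ψ : Submodule (GrLC.deg0 𝒜) (GrLC.comp 𝒜 ℳ n) → Submodule R M := fun N =>
    Submodule.span R ((N.map (GrLC.comp 𝒜 ℳ n).subtype : Submodule (GrLC.deg0 𝒜) M) : Set M)
  have hmono : Monotone ψ := fun N N' h => Submodule.span_mono (Submodule.map_mono h)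
  have hmem : ∀ (N : Submodule (GrLC.deg0 𝒜) (GrLC.comp 𝒜 ℳ n)) (x : GrLC.comp 𝒜 ℳ n),
      (x : M) ∈ ψ N → x ∈ N := by
    intro N x hx
    have hN : ∀ y ∈ (N.map (GrLC.comp 𝒜 ℳ n).subtype : Submodule (GrLC.deg0 𝒜) M), y ∈ ℳ n := by
      rintro _ ⟨y, _, rfl⟩
      exact y.2
    have := decompose_mem_of_mem_span (𝒜 := 𝒜) (ℳ := ℳ) n _ hN (x : M) hx
    have hxn : (x : M) ∈ ℳ n := x.2
    rw [decompose_of_mem_same ℳ hxn] at this
    obtain ⟨y, hy, hyx⟩ := this
    have : y = x := Subtype.ext hyx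
    rw [← this]
    exact hy
  have hstrict : StrictMono ψ := by
    intro N N' hlt
    refine lt_of_le_of_ne (hmono hlt.le) ?_
    intro heq
    apply hlt.not_ge
    intro x hx
    apply hmem N x
    show (x : M) ∈ ψ N
    rw [heq]
    exact Submodule.subset_span ⟨x, hx, rfl⟩
  exact hstrict.wellFoundedLT

end CompArt

section Tail

variable {R : Type u} [CommRing R]
variable {σ : Type u} [SetLike σ R] [AddSubgroupClass σ R] (𝒜 : ℤ → σ) [GradedRing 𝒜]
variable {M : Type u} [AddCommGroup M] [Module R M] (ℳ : ℤ → AddSubgroup M)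
  [DirectSum.Decomposition ℳ] [SetLike.GradedSMul 𝒜 ℳ]

/-- the elements concentrated in degrees `≥ n`; a submodule when the ring is positively graded -/
def tailSub (hpos : ∀ n : ℤ, n < 0 → ∀ x ∈ 𝒜 n, x = 0) (n : ℤ) : Submodule R M where
  carrier := {y | ∀ k < n, (decompose ℳ y k : M) = 0}
  zero_mem' := by
    intro k _
    rw [decompose_zero, DirectSum.zero_apply, ZeroMemClass.coe_zero]
  add_mem' := by
    intro x y hx hy k hk
    rw [decompose_add, DirectSum.add_apply, AddMemClass.coe_add, hx k hk, hy k hk, add_zero]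
  smul_mem' := by
    classical
    intro r y hy k hk
    rw [decompose_smul_eq_sum 𝒜 ℳ]
    apply Finset.sum_eq_zero
    intro u _
    by_cases hu : u < 0
    · rw [hpos u hu _ (decompose 𝒜 r u).2, zero_smul]
    · rw [hy (k - u) (by omega), smul_zero]

/-- an Artinian graded module over a positively graded ring is concentrated in degrees bounded
above -/
theorem exists_piece_eq_bot_of_isArtinian (hpos : ∀ n : ℤ, n < 0 → ∀ x ∈ 𝒜 n, x = 0)
    [IsArtinian R M] : ∃ N : ℤ, ∀ n : ℤ, N ≤ n → ∀ x ∈ ℳ n, x = 0 := by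
  let c : ℕ →o (Submodule R M)ᵒᵈ :=
    { toFun := fun k => OrderDual.toDual (tailSub 𝒜 ℳ hpos (k : ℤ))
      monotone' := by
        intro a b hab
        show tailSub 𝒜 ℳ hpos (b : ℤ) ≤ tailSub 𝒜 ℳ hpos (a : ℤ)
        intro y hy k hk
        exact hy k (lt_of_lt_of_le hk (by exact_mod_cast hab)) }
  obtain ⟨N₀, hN₀⟩ := IsArtinian.monotone_stabilizes c
  refine ⟨(N₀ : ℤ), fun n hn x hx => ?_⟩
  obtain ⟨k, rfl⟩ : ∃ k : ℕ, n = (k : ℤ) := ⟨n.toNat, by omega⟩
  have hk : N₀ ≤ k + 1 := by omega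
  have h1 : tailSub 𝒜 ℳ hpos (N₀ : ℤ) = tailSub 𝒜 ℳ hpos ((k + 1 : ℕ) : ℤ) :=
    congrArg OrderDual.ofDual (hN₀ (k + 1) hk)
  have h2 : x ∈ tailSub 𝒜 ℳ hpos (N₀ : ℤ) := by
    intro j hj
    rw [decompose_of_mem_ne ℳ hx (by omega)]
  rw [h1] at h2
  have h3 := h2 (k : ℤ) (by push_cast; omega)
  rwa [decompose_of_mem_same ℳ hx] at h3

end Tail

section HArt

variable {R : Type u} [CommRing R]
variable {𝒜 : ℤ → AddSubgroup R} [GradedRing 𝒜]
variable {M : Type u} [AddCommGroup M] [Module R M] {ℳ : ℤ → AddSubgroup M}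
  [DirectSum.Decomposition ℳ] [SetLike.GradedSMul 𝒜 ℳ]

/-- graded local cohomology is a graded module -/
theorem Hgr_gradedSMul (E : GrLC.StarInjRes 𝒜 ℳ) (a : HomogeneousIdeal 𝒜) (i : ℕ) :
    SetLike.GradedSMul 𝒜 (E.Hgr a i) where
  smul_mem := by
    intro g n x w hx hw
    have := smul_mem_Hcomp E a i hx (m := n) (w := w) hw
    rw [add_comm] at this
    exact this

theorem exists_Hcomp_eq_bot_of_isArtinian (hpos : ∀ n : ℤ, n < 0 → 𝒜 n = ⊥)
    (E : GrLC.StarInjRes 𝒜 ℳ) (a : HomogeneousIdeal 𝒜) (i : ℕ) [IsArtinian R (E.H a i)] :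
    ∃ N : ℤ, ∀ n : ℤ, N ≤ n → E.Hcomp a i n = ⊥ := by
  letI := (Hgr_isInternal E a i).chooseDecomposition
  letI := Hgr_gradedSMul E a i
  have hpos' : ∀ n : ℤ, n < 0 → ∀ x ∈ 𝒜 n, x = 0 := by
    intro n hn x hx
    rw [hpos n hn] at hx
    exact hx
  obtain ⟨N, hN⟩ := exists_piece_eq_bot_of_isArtinian 𝒜 (E.Hgr a i) hpos'
  refine ⟨N, fun n hn => ?_⟩
  rw [eq_bot_iff]
  intro w hw
  exact hN n hn w hw

theorem Hcomp_isArtinian (E : GrLC.StarInjRes 𝒜 ℳ) (a : HomogeneousIdeal 𝒜) (i : ℕ)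
    [IsArtinian R (E.H a i)] (n : ℤ) : IsArtinian (GrLC.deg0 𝒜) (E.Hcomp a i n) := by
  letI := (Hgr_isInternal E a i).chooseDecomposition
  letI := Hgr_gradedSMul E a i
  have h := comp_isArtinian (𝒜 := 𝒜) (ℳ := E.Hgr a i) n
  have heq : GrLC.comp 𝒜 (E.Hgr a i) n = E.Hcomp a i n := Submodule.ext (fun _ => Iff.rfl)
  rw [heq] at h
  exact h

end HArt

end Groth.Agent.Helper20.GrInj
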