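import Mathlib
import Groth.Agent.Lib.Helper20.GrArt2

/-!
# *local positively graded rings: the *maximal ideal is maximal; Artinianness of `H^i_m(M)_n`
(helper20)
-/

open DirectSum

namespace Groth.Agent.Helper20.GrInj

open Groth.Agent.Helper8

universe u

section StarLocal

variable {R : Type u} [CommRing R] {𝒜 : ℤ → AddSubgroup R} [GradedRing 𝒜]

/-- a *maximal ideal of a positively graded ring contains all elements of positive degree -/
theorem pos_mem_of_isCoatom (hpos : ∀ n : ℤ, n < 0 → 𝒜 n = ⊥) (m : HomogeneousIdeal 𝒜)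
    (hm : IsCoatom m) {k : ℤ} (hk : 0 < k) {r : R} (hr : r ∈ 𝒜 k) : r ∈ m.toIdeal := by
  have hhom : (Ideal.span {r}).IsHomogeneous 𝒜 :=
    Ideal.homogeneous_span 𝒜 _ (by rintro x rfl; exact ⟨k, hr⟩)
  let b : HomogeneousIdeal 𝒜 := m ⊔ ⟨Ideal.span {r}, hhom⟩
  by_contra hrm
  have hb : b.toIdeal = m.toIdeal ⊔ Ideal.span {r} := HomogeneousIdeal.toIdeal_sup _ _
  have hlt : m < b := by
    refine lt_of_le_of_ne le_sup_left ?_
    intro heq
    apply hrm
    have : r ∈ b.toIdeal := by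
      rw [hb]
      exact Ideal.mem_sup_right (Ideal.subset_span rfl)
    rw [← heq] at this
    exact this
  have htop := hm.2 b hlt
  have h1 : (1 : R) ∈ m.toIdeal ⊔ Ideal.span {r} := by
    rw [← hb, htop, HomogeneousIdeal.toIdeal_top]
    trivial
  obtain ⟨a, ha, c, hc, hac⟩ := Submodule.mem_sup.1 h1
  obtain ⟨c', rfl⟩ := Ideal.mem_span_singleton'.1 hc
  have h0 : (decompose 𝒜 (1 : R) 0 : R) = 1 := decompose_of_mem_same 𝒜 SetLike.GradedOne.one_mem
  have h2 : (decompose 𝒜 (c' * r) 0 : R) = 0 := by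
    have h := DirectSum.coe_decompose_mul_add_of_right_mem 𝒜 (i := -k) (j := k) (a := c') hr
    rw [neg_add_cancel] at h
    rw [h]
    have hpos' : ∀ n : ℤ, n < 0 → ∀ y ∈ 𝒜 n, y = 0 := by
      intro n hn y hy
      rw [hpos n hn] at hy
      exact hy
    have h' : (decompose 𝒜 c' (-k) : R) = 0 := hpos' (-k) (by omega) _ (decompose 𝒜 c' (-k)).2
    rw [h', zero_mul]
  have h3 : (decompose 𝒜 a 0 : R) = 1 := by
    have := congrArg (fun z => (decompose 𝒜 z 0 : R)) hac
    simp only [decompose_add, DirectSum.add_apply, AddMemClass.coe_add] at this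
    rw [h2, add_zero, h0] at this
    exact this
  have h4 : (decompose 𝒜 a 0 : R) ∈ m.toIdeal := m.isHomogeneous 0 ha
  rw [h3] at h4
  exact hm.1 (HomogeneousIdeal.toIdeal_injective
    (by rw [HomogeneousIdeal.toIdeal_top]; exact (Ideal.eq_top_iff_one _).2 h4))

/-- in a positively graded ring, a *maximal ideal is a maximal ideal -/
theorem isMaximal_of_isCoatom (hpos : ∀ n : ℤ, n < 0 → 𝒜 n = ⊥) (m : HomogeneousIdeal 𝒜)
    (hm : IsCoatom m) : m.toIdeal.IsMaximal := by
  rw [Ideal.isMaximal_iff]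
  refine ⟨fun h1 => hm.1 (HomogeneousIdeal.toIdeal_injective
    (by rw [HomogeneousIdeal.toIdeal_top]; exact (Ideal.eq_top_iff_one _).2 h1)), ?_⟩
  intro J x hmJ hxm hxJ
  -- `x - x₀ ∈ m`
  have hsub : x - (decompose 𝒜 x 0 : R) ∈ m.toIdeal := by
    rw [m.isHomogeneous.mem_iff]
    intro k
    rw [decompose_sub, DirectSum.sub_apply, AddSubgroupClass.coe_sub]
    rcases lt_trichotomy k 0 with hk | rfl | hk
    · have hpos' : ∀ n : ℤ, n < 0 → ∀ y ∈ 𝒜 n, y = 0 := by
        intro n hn y hy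
        rw [hpos n hn] at hy
        exact hy
      have h1 : (decompose 𝒜 x k : R) = 0 := hpos' k hk _ (decompose 𝒜 x k).2
      have h2 : (decompose 𝒜 ((decompose 𝒜 x 0 : R)) k : R) = 0 :=
        decompose_of_mem_ne 𝒜 (decompose 𝒜 x 0).2 (by omega)
      rw [h1, h2, sub_zero]
      exact m.toIdeal.zero_mem
    · rw [decompose_of_mem_same 𝒜 (decompose 𝒜 x 0).2, sub_self]
      exact m.toIdeal.zero_mem
    · have h2 : (decompose 𝒜 ((decompose 𝒜 x 0 : R)) k : R) = 0 :=
        decompose_of_mem_ne 𝒜 (decompose 𝒜 x 0).2 (by omega)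
      rw [h2, sub_zero]
      exact pos_mem_of_isCoatom hpos m hm hk (decompose 𝒜 x k).2
  have hx0m : (decompose 𝒜 x 0 : R) ∉ m.toIdeal := by
    intro h0
    apply hxm
    have := m.toIdeal.add_mem hsub h0
    rwa [sub_add_cancel] at this
  have hx0J : (decompose 𝒜 x 0 : R) ∈ J := by
    have := J.sub_mem hxJ (hmJ hsub)
    rwa [sub_sub_cancel] at this
  -- the homogeneous ideal `m + (x₀)` is everything
  have hhom : (Ideal.span {(decompose 𝒜 x 0 : R)}).IsHomogeneous 𝒜 :=
    Ideal.homogeneous_span 𝒜 _ (by rintro y rfl; exact ⟨0, (decompose 𝒜 x 0).2⟩)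
  let b : HomogeneousIdeal 𝒜 := m ⊔ ⟨Ideal.span {(decompose 𝒜 x 0 : R)}, hhom⟩
  have hb : b.toIdeal = m.toIdeal ⊔ Ideal.span {(decompose 𝒜 x 0 : R)} :=
    HomogeneousIdeal.toIdeal_sup _ _
  have hlt : m < b := by
    refine lt_of_le_of_ne le_sup_left ?_
    intro heq
    apply hx0m
    have : (decompose 𝒜 x 0 : R) ∈ b.toIdeal := by
      rw [hb]
      exact Ideal.mem_sup_right (Ideal.subset_span rfl)
    rw [← heq] at this
    exact this
  have htop := hm.2 b hlt
  have h1 : (1 : R) ∈ m.toIdeal ⊔ Ideal.span {(decompose 𝒜 x 0 : R)} := by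
    rw [← hb, htop, HomogeneousIdeal.toIdeal_top]
    trivial
  have hle : m.toIdeal ⊔ Ideal.span {(decompose 𝒜 x 0 : R)} ≤ J :=
    sup_le hmJ ((Ideal.span_singleton_le_iff_mem J).2 hx0J)
  exact hle h1

theorem isMaximal_of_isStarLocal (hpos : ∀ n : ℤ, n < 0 → 𝒜 n = ⊥) (m : HomogeneousIdeal 𝒜)
    (hm : GrLC.IsStarLocal 𝒜 m) : m.toIdeal.IsMaximal :=
  isMaximal_of_isCoatom hpos m hm.1

variable {M : Type u} [AddCommGroup M] [Module R M] {ℳ : ℤ → AddSubgroup M}
  [DirectSum.Decomposition ℳ] [SetLike.GradedSMul 𝒜 ℳ]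

/-- graded local cohomology with support in a maximal ideal of a finitely generated graded
module is Artinian -/
theorem H_isArtinian_of_isMaximal [IsNoetherianRing R] [Module.Finite R M]
    (E : GrLC.StarInjRes 𝒜 ℳ) (m : HomogeneousIdeal 𝒜) [m.toIdeal.IsMaximal] (i : ℕ) :
    IsArtinian R (E.H m i) := by
  haveI : IsArtinian R (LC.H m.toIdeal i M) := isArtinian_LC_H_of_isMaximal m.toIdeal i M
  obtain ⟨e⟩ := nonempty_H_equiv_LC E m i
  exact isArtinian_of_injective e.toLinearMap e.injective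

end StarLocal

end Groth.Agent.Helper20.GrInj
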