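import Mathlib
import Groth.Agent.Lib.Helper20.GrAcyc3
import Groth.Agent.Lib.Helper20.GrArt3

/-!
# Lengths of graded pieces: exactness and rank–nullity (helper20)
-/

open DirectSum

namespace Groth.Agent.Helper20.GrInj

open Groth.Agent.Helper8

universe u

variable {ι : Type} [AddCommGroup ι] [DecidableEq ι]
variable {R : Type u} [CommRing R]
variable {𝒜 : ι → AddSubgroup R} [GradedRing 𝒜]

section PieceLen

variable {X : Type u} [AddCommGroup X] [Module R X] (𝒳 : ι → AddSubgroup X)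
  [SetLike.GradedSMul 𝒜 𝒳]
variable {Y : Type u} [AddCommGroup Y] [Module R Y] (𝒴 : ι → AddSubgroup Y)
  [SetLike.GradedSMul 𝒜 𝒴]
variable {Z : Type u} [AddCommGroup Z] [Module R Z] (𝒵 : ι → AddSubgroup Z)
  [SetLike.GradedSMul 𝒜 𝒵]

/-- the length over `R₀` of the degree-`n` piece -/
noncomputable def plen (n : ι) : ℕ∞ := Module.length (GrLC.deg0 𝒜) (GrLC.comp 𝒜 𝒳 n)

/-- length of the kernel of the degree-`n` part of a homogeneous map -/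
noncomputable def klen (f : X →ₗ[R] Y) (hf : GrLC.IsGrHom 𝒳 𝒴 f) (n : ι) : ℕ∞ :=
  Module.length (GrLC.deg0 𝒜) (LinearMap.ker (compMap (𝒜 := 𝒜) 𝒳 𝒴 f hf n))

/-- length of the image of the degree-`n` part of a homogeneous map -/
noncomputable def rlen (f : X →ₗ[R] Y) (hf : GrLC.IsGrHom 𝒳 𝒴 f) (n : ι) : ℕ∞ :=
  Module.length (GrLC.deg0 𝒜) (LinearMap.range (compMap (𝒜 := 𝒜) 𝒳 𝒴 f hf n))

theorem plen_eq_klen_add_rlen (f : X →ₗ[R] Y) (hf : GrLC.IsGrHom 𝒳 𝒴 f) (n : ι) :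
    plen (𝒜 := 𝒜) 𝒳 n = klen (𝒜 := 𝒜) 𝒳 𝒴 f hf n + rlen (𝒜 := 𝒜) 𝒳 𝒴 f hf n := by
  unfold plen klen rlen
  set φ := compMap (𝒜 := 𝒜) 𝒳 𝒴 f hf n
  exact Module.length_eq_add_of_exact (LinearMap.ker φ).subtype φ.rangeRestrict
    (Submodule.subtype_injective _) φ.surjective_rangeRestrict
    (by
      intro x
      constructor
      · intro hx
        refine ⟨⟨x, ?_⟩, rfl⟩
        rw [LinearMap.mem_ker]
        have := congrArg Subtype.val hx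
        simpa using this
      · rintro ⟨y, rfl⟩
        apply Subtype.ext
        simpa using y.2)

theorem klen_le_plen (f : X →ₗ[R] Y) (hf : GrLC.IsGrHom 𝒳 𝒴 f) (n : ι) :
    klen (𝒜 := 𝒜) 𝒳 𝒴 f hf n ≤ plen (𝒜 := 𝒜) 𝒳 n := by
  rw [plen_eq_klen_add_rlen 𝒳 𝒴 f hf n]; exact le_self_add

theorem rlen_le_plen (f : X →ₗ[R] Y) (hf : GrLC.IsGrHom 𝒳 𝒴 f) (n : ι) :
    rlen (𝒜 := 𝒜) 𝒳 𝒴 f hf n ≤ plen (𝒜 := 𝒜) 𝒳 n := by
  rw [plen_eq_klen_add_rlen 𝒳 𝒴 f hf n]; exact le_add_self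

theorem klen_eq_zero_of_injective (f : X →ₗ[R] Y) (hf : GrLC.IsGrHom 𝒳 𝒴 f)
    (hinj : Function.Injective f) (n : ι) : klen (𝒜 := 𝒜) 𝒳 𝒴 f hf n = 0 := by
  unfold klen
  rw [Module.length_eq_zero_iff]
  constructor
  rintro ⟨x, hx⟩ ⟨y, hy⟩
  apply Subtype.ext
  apply Subtype.ext
  apply hinj
  have h1 := congrArg Subtype.val (LinearMap.mem_ker.1 hx)
  have h2 := congrArg Subtype.val (LinearMap.mem_ker.1 hy)
  rw [compMap_coe] at h1 h2
  rw [h1, h2]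

theorem klen_eq_zero_of_subsingleton (f : X →ₗ[R] Y) (hf : GrLC.IsGrHom 𝒳 𝒴 f)
    [Subsingleton X] (n : ι) : klen (𝒜 := 𝒜) 𝒳 𝒴 f hf n = 0 := by
  unfold klen
  rw [Module.length_eq_zero_iff]
  constructor
  rintro ⟨x, hx⟩ ⟨y, hy⟩
  apply Subtype.ext
  apply Subtype.ext
  exact Subsingleton.elim _ _

/-- exactness passes to the pieces: the image of `f_n` and the kernel of `g_n` have the same length
-/
theorem rlen_eq_klen_of_exact [DirectSum.Decomposition 𝒳] [DirectSum.Decomposition 𝒴]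
    (f : X →ₗ[R] Y)
    (hf : GrLC.IsGrHom 𝒳 𝒴 f) (g : Y →ₗ[R] Z) (hg : GrLC.IsGrHom 𝒴 𝒵 g)
    (hex : LinearMap.range f = LinearMap.ker g) (n : ι) :
    rlen (𝒜 := 𝒜) 𝒳 𝒴 f hf n = klen (𝒜 := 𝒜) 𝒴 𝒵 g hg n := by
  unfold rlen klen
  have : LinearMap.range (compMap (𝒜 := 𝒜) 𝒳 𝒴 f hf n) =
      LinearMap.ker (compMap (𝒜 := 𝒜) 𝒴 𝒵 g hg n) := by
    ext y
    constructor
    · rintro ⟨x, rfl⟩
      rw [LinearMap.mem_ker]
      apply Subtype.ext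
      rw [compMap_coe, compMap_coe]
      have : f x ∈ LinearMap.ker g := by rw [← hex]; exact ⟨x, rfl⟩
      simpa using this
    · intro hy
      have h1 := congrArg Subtype.val (LinearMap.mem_ker.1 hy)
      rw [compMap_coe] at h1
      have h2 : (y : Y) ∈ LinearMap.range f := by
        rw [hex]; simpa using h1
      obtain ⟨z, hz, hfz⟩ := exists_homog_preimage 𝒳 𝒴 hf (g := n) y.2 h2
      exact ⟨⟨z, hz⟩, Subtype.ext hfz⟩
  rw [this]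

/-- the pieces of a short exact sequence of graded modules: additivity of lengths -/
theorem plen_eq_add_of_exact [DirectSum.Decomposition 𝒳] [DirectSum.Decomposition 𝒴]
    [DirectSum.Decomposition 𝒵]
    (f : X →ₗ[R] Y) (hf : GrLC.IsGrHom 𝒳 𝒴 f)
    (g : Y →ₗ[R] Z) (hg : GrLC.IsGrHom 𝒴 𝒵 g) (hinj : Function.Injective f)
    (hex : LinearMap.range f = LinearMap.ker g) (hsurj : Function.Surjective g) (n : ι) :
    plen (𝒜 := 𝒜) 𝒴 n = plen (𝒜 := 𝒜) 𝒳 n + plen (𝒜 := 𝒜) 𝒵 n := by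
  rw [plen_eq_klen_add_rlen 𝒴 𝒵 g hg n, ← rlen_eq_klen_of_exact 𝒳 𝒴 𝒵 f hf g hg hex n,
    plen_eq_klen_add_rlen 𝒳 𝒴 f hf n, klen_eq_zero_of_injective 𝒳 𝒴 f hf hinj n, zero_add]
  congr 1
  unfold rlen plen
  have hs : LinearMap.range (compMap (𝒜 := 𝒜) 𝒴 𝒵 g hg n) = ⊤ := by
    rw [LinearMap.range_eq_top]
    intro z
    obtain ⟨y, hy, hgy⟩ := exists_homog_preimage 𝒴 𝒵 hg (g := n) z.2
      (by rw [LinearMap.range_eq_top.2 hsurj]; trivial)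
    exact ⟨⟨y, hy⟩, Subtype.ext hgy⟩
  rw [hs]
  exact (LinearEquiv.ofTop ⊤ rfl).length_eq

end PieceLen

end Groth.Agent.Helper20.GrInj
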