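import Mathlib
import Groth.Agent.Lib.Helper20.GrSG1

/-!
# Alternating sums of lengths of pieces of graded local cohomology along the long exact sequence
(helper20)
-/

open DirectSum

namespace Groth.Agent.Helper20.GrInj

open Groth.Agent.Helper8

universe u

variable {R : Type u} [CommRing R]
variable {𝒜 : ℤ → AddSubgroup R} [GradedRing 𝒜]

section HLen

variable {M : Type u} [AddCommGroup M] [Module R M] {ℳ : ℤ → AddSubgroup M}
  [DirectSum.Decomposition ℳ] [SetLike.GradedSMul 𝒜 ℳ]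

/-- `ℓ_{R₀}(H^i_a(M)_n)` -/
noncomputable def hlen (E : GrLC.StarInjRes 𝒜 ℳ) (a : HomogeneousIdeal 𝒜) (i : ℕ) (n : ℤ) : ℕ∞ :=
  Module.length (GrLC.deg0 𝒜) (E.Hcomp a i n)

/-- the graded structure of `H^i_a(M)` as (non-global) instances -/
noncomputable def HgrDec (E : GrLC.StarInjRes 𝒜 ℳ) (a : HomogeneousIdeal 𝒜) (i : ℕ) :
    DirectSum.Decomposition (E.Hgr a i) := (Hgr_isInternal E a i).chooseDecomposition

attribute [local instance] HgrDec Hgr_gradedSMul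

theorem comp_Hgr (E : GrLC.StarInjRes 𝒜 ℳ) (a : HomogeneousIdeal 𝒜) (i : ℕ) (n : ℤ) :
    GrLC.comp 𝒜 (E.Hgr a i) n = E.Hcomp a i n := Submodule.ext (fun _ => Iff.rfl)

theorem hlen_eq_plen (E : GrLC.StarInjRes 𝒜 ℳ) (a : HomogeneousIdeal 𝒜) (i : ℕ) (n : ℤ) :
    hlen E a i n = plen (𝒜 := 𝒜) (E.Hgr a i) n := by
  unfold hlen plen
  rw [comp_Hgr]

end HLen

theorem alt_telescope (K : ℕ → ℚ) (d : ℕ) :
    ∑ i ∈ Finset.range (d + 1), (-1 : ℚ) ^ i * (K i + K (i + 1)) = K 0 + (-1) ^ d * K (d + 1) := by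
  induction d with
  | zero => simp
  | succ d ih =>
    rw [Finset.sum_range_succ, ih]
    ring

section LES

attribute [local instance] HgrDec Hgr_gradedSMul

variable {M' : Type u} [AddCommGroup M'] [Module R M'] {ℳ' : ℤ → AddSubgroup M'}
  [DirectSum.Decomposition ℳ'] [SetLike.GradedSMul 𝒜 ℳ']
variable {M : Type u} [AddCommGroup M] [Module R M] {ℳ : ℤ → AddSubgroup M}
  [DirectSum.Decomposition ℳ] [SetLike.GradedSMul 𝒜 ℳ]
variable {M'' : Type u} [AddCommGroup M''] [Module R M''] {ℳ'' : ℤ → AddSubgroup M''}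
  [DirectSum.Decomposition ℳ''] [SetLike.GradedSMul 𝒜 ℳ'']

/-- **alternating sum of lengths along a long exact sequence of graded local cohomology** -/
theorem alt_sum_les (E' : GrLC.StarInjRes 𝒜 ℳ') (E : GrLC.StarInjRes 𝒜 ℳ)
    (E'' : GrLC.StarInjRes 𝒜 ℳ'') (a : HomogeneousIdeal 𝒜)
    (fA : ∀ i : ℕ, E'.H a i →ₗ[R] E.H a i)
    (hA : ∀ i, GrLC.IsGrHom (E'.Hgr a i) (E.Hgr a i) (fA i))
    (fB : ∀ i : ℕ, E.H a i →ₗ[R] E''.H a i)
    (hB : ∀ i, GrLC.IsGrHom (E.Hgr a i) (E''.Hgr a i) (fB i))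
    (δ : ∀ i : ℕ, E''.H a i →ₗ[R] E'.H a (i + 1))
    (hδ : ∀ i, GrLC.IsGrHom (E''.Hgr a i) (E'.Hgr a (i + 1)) (δ i))
    (hinj : Function.Injective (fA 0))
    (ex1 : ∀ i, LinearMap.range (fA i) = LinearMap.ker (fB i))
    (ex2 : ∀ i, LinearMap.range (fB i) = LinearMap.ker (δ i))
    (ex3 : ∀ i, LinearMap.range (δ i) = LinearMap.ker (fA (i + 1)))
    (d : ℕ) (hvan : Subsingleton (E'.H a (d + 1))) (n : ℤ)
    (hfin' : ∀ i, hlen E' a i n ≠ ⊤) (hfin : ∀ i, hlen E a i n ≠ ⊤)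
    (hfin'' : ∀ i, hlen E'' a i n ≠ ⊤) :
    ∑ i ∈ Finset.range (d + 1), (-1 : ℚ) ^ i * ((hlen E a i n).toNat : ℚ) =
      ∑ i ∈ Finset.range (d + 1), (-1 : ℚ) ^ i * ((hlen E' a i n).toNat : ℚ) +
      ∑ i ∈ Finset.range (d + 1), (-1 : ℚ) ^ i * ((hlen E'' a i n).toNat : ℚ) := by
  set k : ℕ → ℕ∞ := fun i => klen (𝒜 := 𝒜) (E'.Hgr a i) (E.Hgr a i) (fA i) (hA i) n with hk
  set r : ℕ → ℕ∞ := fun i => rlen (𝒜 := 𝒜) (E'.Hgr a i) (E.Hgr a i) (fA i) (hA i) n with hr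
  set s : ℕ → ℕ∞ := fun i => rlen (𝒜 := 𝒜) (E.Hgr a i) (E''.Hgr a i) (fB i) (hB i) n with hs
  have e1 : ∀ i, hlen E' a i n = k i + r i := fun i => by
    rw [hlen_eq_plen]; exact plen_eq_klen_add_rlen _ _ (fA i) (hA i) n
  have e2 : ∀ i, hlen E a i n = r i + s i := fun i => by
    rw [hlen_eq_plen, plen_eq_klen_add_rlen _ _ (fB i) (hB i) n,
      ← rlen_eq_klen_of_exact _ _ _ (fA i) (hA i) (fB i) (hB i) (ex1 i) n]
  have e3 : ∀ i, hlen E'' a i n = s i + k (i + 1) := fun i => by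
    rw [hlen_eq_plen, plen_eq_klen_add_rlen _ _ (δ i) (hδ i) n,
      ← rlen_eq_klen_of_exact _ _ _ (fB i) (hB i) (δ i) (hδ i) (ex2 i) n,
      rlen_eq_klen_of_exact _ _ _ (δ i) (hδ i) (fA (i + 1)) (hA (i + 1)) (ex3 i) n]
  have hk0 : k 0 = 0 := klen_eq_zero_of_injective _ _ (fA 0) (hA 0) hinj n
  have hkd : k (d + 1) = 0 := by
    haveI := hvan
    exact klen_eq_zero_of_subsingleton _ _ (fA (d + 1)) (hA (d + 1)) n
  have hkf : ∀ i, k i ≠ ⊤ := fun i => ne_top_of_le_ne_top (hfin' i) (by rw [e1 i]; exact le_self_add)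
  have hrf : ∀ i, r i ≠ ⊤ := fun i => ne_top_of_le_ne_top (hfin' i) (by rw [e1 i]; exact le_add_self)
  have hsf : ∀ i, s i ≠ ⊤ := fun i => ne_top_of_le_ne_top (hfin i) (by rw [e2 i]; exact le_add_self)
  have t1 : ∀ i, ((hlen E' a i n).toNat : ℚ) = (k i).toNat + (r i).toNat := fun i => by
    rw [e1 i, ENat.toNat_add (hkf i) (hrf i)]; push_cast; rfl
  have t2 : ∀ i, ((hlen E a i n).toNat : ℚ) = (r i).toNat + (s i).toNat := fun i => by
    rw [e2 i, ENat.toNat_add (hrf i) (hsf i)]; push_cast; rfl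
  have t3 : ∀ i, ((hlen E'' a i n).toNat : ℚ) = (s i).toNat + (k (i + 1)).toNat := fun i => by
    rw [e3 i, ENat.toNat_add (hsf i) (hkf (i + 1))]; push_cast; rfl
  have tele := alt_telescope (fun i => ((k i).toNat : ℚ)) d
  simp only [hk0, hkd, ENat.toNat_zero, Nat.cast_zero, mul_zero, add_zero] at tele
  rw [← Finset.sum_add_distrib]
  have : ∀ i ∈ Finset.range (d + 1), (-1 : ℚ) ^ i * ((hlen E' a i n).toNat : ℚ) +
      (-1 : ℚ) ^ i * ((hlen E'' a i n).toNat : ℚ) =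
      (-1 : ℚ) ^ i * ((hlen E a i n).toNat : ℚ) +
      (-1 : ℚ) ^ i * (((k i).toNat : ℚ) + ((k (i + 1)).toNat : ℚ)) := by
    intro i _
    rw [t1, t2, t3]; ring
  rw [Finset.sum_congr rfl this, Finset.sum_add_distrib, tele, add_zero]

end LES

end Groth.Agent.Helper20.GrInj
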