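import Mathlib
import Groth.Agent.Lib.Helper20.GrMat4
import Groth.Agent.Lib.Helper20.GrSG2

/-!
# Graded Matlis duality: the duality pairing of a *canonical module (helper20)
-/

open DirectSum

namespace Groth.Agent.Helper20.GrInj

universe u

/-- a graded duality pairing between graded modules `C` and `H` over a graded ring whose
degree-zero part is a field: `C_j` is the `R_0`-dual of `H_{-j}` -/
structure GrPairing {R : Type u} [CommRing R] (𝒜 : ℤ → AddSubgroup R) [GradedRing 𝒜]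
    {C : Type u} [AddCommGroup C] [Module R C] (𝒞 : ℤ → AddSubgroup C)
    {H : Type u} [AddCommGroup H] [Module R H] (ℋ : ℤ → AddSubgroup H) where
  /-- the pairing -/
  β : C → H → R
  mem : ∀ c h, β c h ∈ 𝒜 0
  add_left : ∀ c c' h, β (c + c') h = β c h + β c' h
  add_right : ∀ c h h', β c (h + h') = β c h + β c h'
  smul_left : ∀ (r : R) c h, β (r • c) h = β c (r • h)
  smul_right : ∀ s ∈ 𝒜 0, ∀ c h, β c (s • h) = s * β c h
  nondeg : ∀ (j : ℤ) c, c ∈ 𝒞 j → (∀ h ∈ ℋ (-j), β c h = 0) → c = 0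
  repr : ∀ (j : ℤ) (ℓ : H → R), (∀ h ∈ ℋ (-j), ℓ h ∈ 𝒜 0) →
    (∀ h ∈ ℋ (-j), ∀ h' ∈ ℋ (-j), ℓ (h + h') = ℓ h + ℓ h') →
    (∀ s ∈ 𝒜 0, ∀ h ∈ ℋ (-j), ℓ (s • h) = s * ℓ h) →
    ∃ c ∈ 𝒞 j, ∀ h ∈ ℋ (-j), β c h = ℓ h

section InvGr

variable {R : Type u} [CommRing R] {𝒜 : ℤ → AddSubgroup R} [GradedRing 𝒜]
variable {E' : Type u} [AddCommGroup E'] [Module R E'] {𝓔 : ℤ → AddSubgroup E'}
  [DirectSum.Decomposition 𝓔] [SetLike.GradedSMul 𝒜 𝓔]
variable {C : Type u} [AddCommGroup C] [Module R C] {𝒞 : ℤ → AddSubgroup C}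
  [DirectSum.Decomposition 𝒞] [SetLike.GradedSMul 𝒜 𝒞]
variable {H : Type u} [AddCommGroup H] [Module R H] (ℋ : ℤ → AddSubgroup H)
  [DirectSum.Decomposition ℋ]

theorem homComp_isGrHomDeg (f : C →ₗ[R] E') (d : ℤ) :
    GrLC.IsGrHomDeg 𝒞 𝓔 (homComp 𝒜 𝒞 𝓔 f d) d := homComp_grHom 𝒜 𝒞 𝓔 f d

/-- a homogeneous bijection from `Hom_R(C, E')` (with `C` finitely generated) onto a graded module
has a homogeneous inverse -/
theorem symm_isGrHomDeg [Module.Finite R C] (φC : (C →ₗ[R] E') ≃ₗ[R] H)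
    (hφC : GrLC.IsGrHom (fun d => (GrLC.homDeg 𝒜 𝒞 𝓔 d).toAddSubgroup) ℋ φC.toLinearMap)
    {j : ℤ} {h : H} (hh : h ∈ ℋ j) : GrLC.IsGrHomDeg 𝒞 𝓔 (φC.symm h) j := by
  classical
  obtain ⟨D, hD⟩ := exists_eq_sum_homComp 𝒜 𝒞 𝓔 (φC.symm h)
  set f := φC.symm h with hf
  have hmem : ∀ d, φC (homComp 𝒜 𝒞 𝓔 f d) ∈ ℋ d :=
    fun d => hφC d _ (homComp_isGrHomDeg f d)
  have hsum : h = ∑ d ∈ D, φC (homComp 𝒜 𝒞 𝓔 f d) := by
    rw [← map_sum, ← hD, hf, LinearEquiv.apply_symm_apply]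
  have hzero : ∀ d ∈ D, d ≠ j → homComp 𝒜 𝒞 𝓔 f d = 0 := by
    intro d₀ hd₀ hne
    have h1 : (decompose ℋ h d₀ : H) = 0 := decompose_of_mem_ne ℋ hh (Ne.symm hne)
    rw [hsum, decompose_sum, DFinsupp.finsetSum_apply, AddSubmonoidClass.coe_finsetSum,
      Finset.sum_eq_single d₀] at h1
    · rw [decompose_of_mem_same ℋ (hmem d₀)] at h1
      exact φC.map_eq_zero_iff.1 h1
    · intro d _ hdd
      rw [decompose_of_mem_ne ℋ (hmem d) hdd]
    · intro hd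
      exact absurd hd₀ hd
  by_cases hj : j ∈ D
  · have : f = homComp 𝒜 𝒞 𝓔 f j := by
      conv_lhs => rw [hD]
      rw [Finset.sum_eq_single j]
      · intro d hd hne
        exact hzero d hd hne
      · intro hjn
        exact absurd hj hjn
    rw [this]
    exact homComp_isGrHomDeg f j
  · have : f = 0 := by
      rw [hD]
      apply Finset.sum_eq_zero
      intro d hd
      apply hzero d hd
      rintro rfl
      exact hj hd
    rw [this]
    intro g x _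
    rw [LinearMap.zero_apply]
    exact zero_mem _

end InvGr

section Can

variable {R : Type u} [CommRing R] [IsNoetherianRing R] {𝒜 : ℤ → AddSubgroup R} [GradedRing 𝒜]
variable (hpos : ∀ n : ℤ, n < 0 → 𝒜 n = ⊥) (h0 : IsField (GrLC.deg0 𝒜)) (m : HomogeneousIdeal 𝒜)
  (hmsp : m.toIdeal = Ideal.span (⋃ n ∈ Set.Ioi (0 : ℤ), (𝒜 n : Set R)))
variable {E' : Type u} [AddCommGroup E'] [Module R E'] {𝓔 : ℤ → AddSubgroup E'}
  [DirectSum.Decomposition 𝓔] [SetLike.GradedSMul 𝒜 𝓔]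
  (e : (R ⧸ m.toIdeal) →ₗ[R] E') (he : GrLC.IsStarInjHull 𝒜 (GrLC.quotGr 𝒜 m) 𝓔 e)
variable {C : Type u} [AddCommGroup C] [Module R C] {𝒞 : ℤ → AddSubgroup C}
  [DirectSum.Decomposition 𝒞] [SetLike.GradedSMul 𝒜 𝒞]

include hpos h0 hmsp he in
/-- **the duality pairing of a *canonical module**: `C_j` is the dual of `H^n_m(R)_{-j}` -/
theorem exists_grPairing_of_isStarCanonical (n : ℕ) (I : GrLC.StarInjRes 𝒜 𝒜)
    (hC : GrLC.IsStarCanonical 𝒜 𝒞 𝓔 m n I) :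
    Nonempty (GrPairing 𝒜 𝒞 (I.Hgr m n)) := by
  obtain ⟨hfin, φC, hφC⟩ := hC
  haveI : IsNoetherian R C := isNoetherian_of_isNoetherianRing_of_finite R C
  letI := HgrDec I m n
  have hsymm : ∀ {j : ℤ} {h : I.H m n}, h ∈ I.Hgr m n j → GrLC.IsGrHomDeg 𝒞 𝓔 (φC.symm h) j :=
    fun hh => symm_isGrHomDeg (I.Hgr m n) φC hφC hh
  refine ⟨{
    β := fun c h => hullCoord hpos h0 m hmsp e he (φC.symm h c)
    mem := fun c h => hullCoord_mem hpos h0 m hmsp e he _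
    add_left := fun c c' h => by rw [map_add, hullCoord_add]
    add_right := fun c h h' => by rw [map_add, LinearMap.add_apply, hullCoord_add]
    smul_left := fun r c h => by rw [map_smul, map_smul, LinearMap.smul_apply]
    smul_right := fun s hs c h => by
      rw [map_smul, LinearMap.smul_apply, hullCoord_smul hpos h0 m hmsp e he hs]
    nondeg := ?_
    repr := ?_ }⟩
  · intro j c hc hall
    by_contra hc0
    obtain ⟨f, hf, hfc⟩ := exists_homDeg_apply_eq_hullGen hpos h0 m hmsp e he hc hc0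
    have h1 := hall (φC f) (hφC (-j) f hf)
    rw [LinearEquiv.symm_apply_apply, hfc, hullCoord_hullGen] at h1
    exact one_ne_zero_of_isField h0 h1
  · intro j ℓ hmem hadd hsmul
    let ℓ' : ↥(GrLC.homDeg 𝒜 𝒞 𝓔 (-j)) →ₗ[GrLC.deg0 𝒜] GrLC.deg0 𝒜 :=
      { toFun := fun f => ⟨ℓ (φC f.1), hmem _ (hφC (-j) f.1 f.2)⟩
        map_add' := by
          intro f g
          apply Subtype.ext
          show ℓ (φC ((f : C →ₗ[R] E') + (g : C →ₗ[R] E'))) = ℓ (φC f.1) + ℓ (φC g.1)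
          rw [map_add]
          exact hadd _ (hφC (-j) f.1 f.2) _ (hφC (-j) g.1 g.2)
        map_smul' := by
          intro s f
          apply Subtype.ext
          show ℓ (φC ((s : R) • (f : C →ₗ[R] E'))) = (s : R) * ℓ (φC f.1)
          rw [map_smul]
          exact hsmul s.1 s.2 _ (hφC (-j) f.1 f.2) }
    obtain ⟨x, hx⟩ := exists_matPair_eq hpos h0 m hmsp e he j ℓ'
    refine ⟨x.1, x.2, fun h hh => ?_⟩
    have h1 := matPair_apply hpos h0 m hmsp e he j x ⟨φC.symm h, hsymm hh⟩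
    rw [hx] at h1
    rw [← h1]
    show ℓ (φC (φC.symm h)) = ℓ h
    rw [LinearEquiv.apply_symm_apply]

end Can

end Groth.Agent.Helper20.GrInj
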