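import Mathlib
import Groth.Agent.Lib.Helper20.GrInj4

/-!
# Veronese projection of a ℤ-graded module (helper20)

For a ℤ-graded abelian group `X = ⊕ X_i` and `q : ℕ`, `verProj 𝒳 q` is the projection onto
`⊕_j X_{jq}`.  An abstract presentation of the Veronese module `X^(q)` is a graded module `Y` over
a graded ring `R'` with an injective `φ`-semilinear `g : Y → X` carrying `Y_j` onto `X_{jq}`.
-/

open DirectSum

namespace Groth.Agent.Helper20.GrInj

universe u

section Proj

variable {X : Type u} [AddCommGroup X] (𝒳 : ℤ → AddSubgroup X) [DirectSum.Decomposition 𝒳]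
  (q : ℕ)

/-- the projection onto the components of degree divisible by `q` -/
noncomputable def verProj : X →+ X :=
  (DirectSum.toAddMonoid (fun i : ℤ =>
    if (q : ℤ) ∣ i then (𝒳 i).subtype else (0 : ↥(𝒳 i) →+ X))).comp
    (DirectSum.decomposeAddEquiv 𝒳).toAddMonoidHom

theorem verProj_of_mem {i : ℤ} {x : X} (hx : x ∈ 𝒳 i) :
    verProj 𝒳 q x = if (q : ℤ) ∣ i then x else 0 := by
  unfold verProj
  rw [AddMonoidHom.comp_apply]
  show (DirectSum.toAddMonoid _) (DirectSum.decompose 𝒳 x) = _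
  rw [DirectSum.decompose_of_mem 𝒳 hx, DirectSum.toAddMonoid_of]
  split_ifs <;> rfl

theorem verProj_of_mem_dvd {i : ℤ} {x : X} (hx : x ∈ 𝒳 i) (hi : (q : ℤ) ∣ i) :
    verProj 𝒳 q x = x := by
  rw [verProj_of_mem 𝒳 q hx, if_pos hi]

theorem verProj_of_mem_mul {j : ℤ} {x : X} (hx : x ∈ 𝒳 (j * q)) :
    verProj 𝒳 q x = x :=
  verProj_of_mem_dvd 𝒳 q hx (Dvd.intro_left j rfl)

theorem verProj_of_mem_not_dvd {i : ℤ} {x : X} (hx : x ∈ 𝒳 i) (hi : ¬ (q : ℤ) ∣ i) :
    verProj 𝒳 q x = 0 := by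
  rw [verProj_of_mem 𝒳 q hx, if_neg hi]

/-- `verProj x` is a sum of homogeneous elements of degrees divisible by `q` -/
theorem verProj_eq_sum [∀ (i : ℤ) (x : 𝒳 i), Decidable (x ≠ 0)] (x : X) :
    verProj 𝒳 q x = ∑ i ∈ (decompose 𝒳 x).support,
      if (q : ℤ) ∣ i then (decompose 𝒳 x i : X) else 0 := by
  conv_lhs => rw [← sum_support_decompose 𝒳 x]
  rw [map_sum]
  apply Finset.sum_congr rfl
  intro i _
  rw [verProj_of_mem 𝒳 q (decompose 𝒳 x i).2]

theorem verProj_idem (x : X) : verProj 𝒳 q (verProj 𝒳 q x) = verProj 𝒳 q x := by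
  induction x using DirectSum.Decomposition.inductionOn 𝒳 with
  | zero => rw [map_zero, map_zero]
  | homogeneous m =>
    rename_i i
    by_cases hi : (q : ℤ) ∣ i
    · rw [verProj_of_mem_dvd 𝒳 q m.2 hi, verProj_of_mem_dvd 𝒳 q m.2 hi]
    · rw [verProj_of_mem_not_dvd 𝒳 q m.2 hi, map_zero]
  | add m m' hm hm' => rw [map_add, map_add, hm, hm']

/-- induction principle for elements fixed by the Veronese projection -/
theorem verProj_induction {P : X → Prop} (h0 : P 0)
    (hmem : ∀ (j : ℤ) (x : X), x ∈ 𝒳 (j * q) → P x)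
    (hadd : ∀ x y, P x → P y → P (x + y)) (x : X) (hx : verProj 𝒳 q x = x) : P x := by
  classical
  rw [← hx, verProj_eq_sum]
  apply Finset.sum_induction _ P hadd h0
  intro i _
  split_ifs with hi
  · obtain ⟨j, rfl⟩ := hi
    apply hmem j
    rw [mul_comm]
    exact (decompose 𝒳 x _).2
  · exact h0

end Proj

section Comm

variable {R : Type u} [CommRing R] (𝒜 : ℤ → AddSubgroup R) [GradedRing 𝒜]
variable {X : Type u} [AddCommGroup X] [Module R X] (𝒳 : ℤ → AddSubgroup X)
  [DirectSum.Decomposition 𝒳] [SetLike.GradedSMul 𝒜 𝒳]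
variable {Z : Type u} [AddCommGroup Z] [Module R Z] (𝒵 : ℤ → AddSubgroup Z)
  [DirectSum.Decomposition 𝒵]
variable (q : ℕ)

omit [SetLike.GradedSMul 𝒜 𝒳] in
/-- the Veronese projection commutes with homogeneous maps -/
theorem verProj_comm (f : X →ₗ[R] Z) (hf : GrLC.IsGrHom 𝒳 𝒵 f) (x : X) :
    f (verProj 𝒳 q x) = verProj 𝒵 q (f x) := by
  induction x using DirectSum.Decomposition.inductionOn 𝒳 with
  | zero => rw [map_zero, map_zero, map_zero]
  | homogeneous m =>
    rename_i i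
    rw [verProj_of_mem 𝒳 q m.2, verProj_of_mem 𝒵 q (hf i _ m.2)]
    split_ifs
    · rfl
    · rw [map_zero]
  | add m m' hm hm' => rw [map_add, map_add, map_add, map_add, hm, hm']

/-- the Veronese projection is linear over elements of degree divisible by `q` -/
theorem verProj_smul_of_mem {j : ℤ} {r : R} (hr : r ∈ 𝒜 (j * q)) (x : X) :
    verProj 𝒳 q (r • x) = r • verProj 𝒳 q x := by
  induction x using DirectSum.Decomposition.inductionOn 𝒳 with
  | zero => rw [smul_zero, map_zero, smul_zero]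
  | homogeneous m =>
    rename_i i
    have hrm : r • (m : X) ∈ 𝒳 (j * q + i) := SetLike.GradedSMul.smul_mem hr m.2
    rw [verProj_of_mem 𝒳 q hrm, verProj_of_mem 𝒳 q m.2]
    have hiff : (q : ℤ) ∣ j * q + i ↔ (q : ℤ) ∣ i :=
      (Int.dvd_add_right (Dvd.intro_left j rfl))
    by_cases hi : (q : ℤ) ∣ i
    · rw [if_pos hi, if_pos (hiff.2 hi)]
    · rw [if_neg hi, if_neg (fun h => hi (hiff.1 h)), smul_zero]
  | add m m' hm hm' => rw [smul_add, map_add, map_add, smul_add, hm, hm']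

end Comm

end Groth.Agent.Helper20.GrInj
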