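import Mathlib
import Groth.Agent.Lib.Helper20.GrVer1

/-!
# Abstract presentations of Veronese modules: the retraction (helper20)
-/

open DirectSum

namespace Groth.Agent.Helper20.GrInj

universe u

section Pres

variable {R : Type u} [CommRing R] (𝒜 : ℤ → AddSubgroup R) [GradedRing 𝒜]
variable {R' : Type u} [CommRing R'] (𝒜' : ℤ → AddSubgroup R') [GradedRing 𝒜']
variable (φ : R' →+* R) (q : ℕ)
  (hφ1 : ∀ (j : ℤ) (r' : R'), r' ∈ 𝒜' j → φ r' ∈ 𝒜 (j * q))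
variable {X : Type u} [AddCommGroup X] [Module R X] (𝒳 : ℤ → AddSubgroup X)
  [DirectSum.Decomposition 𝒳] [SetLike.GradedSMul 𝒜 𝒳]
variable {Y : Type u} [AddCommGroup Y] [Module R' Y] (𝒴 : ℤ → AddSubgroup Y)
  [DirectSum.Decomposition 𝒴]
variable (g : Y →ₛₗ[φ] X) (hg : Function.Injective g)
  (hg1 : ∀ (j : ℤ) (y : Y), y ∈ 𝒴 j → g y ∈ 𝒳 (j * q))
  (hg2 : ∀ (j : ℤ) (x : X), x ∈ 𝒳 (j * q) → ∃ y ∈ 𝒴 j, g y = x)

include hφ1 in
/-- the Veronese projection is semilinear over the Veronese subring -/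
theorem verProj_map_smul (r' : R') (x : X) :
    verProj 𝒳 q (φ r' • x) = φ r' • verProj 𝒳 q x := by
  induction r' using DirectSum.Decomposition.inductionOn 𝒜' with
  | zero => rw [map_zero, zero_smul, map_zero, zero_smul]
  | homogeneous m =>
    rename_i i
    exact verProj_smul_of_mem 𝒜 𝒳 q (hφ1 i _ m.2) x
  | add m m' hm hm' => rw [map_add, add_smul, map_add, hm, hm', add_smul]

include hg1 in
omit [SetLike.GradedSMul 𝒜 𝒳] in
theorem verProj_g (y : Y) : verProj 𝒳 q (g y) = g y := by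
  induction y using DirectSum.Decomposition.inductionOn 𝒴 with
  | zero => rw [map_zero, map_zero]
  | homogeneous m =>
    rename_i i
    exact verProj_of_mem_mul 𝒳 q (hg1 i _ m.2)
  | add m m' hm hm' => rw [map_add, map_add, hm, hm']

include hg2 in
omit [DirectSum.Decomposition 𝒴] in
theorem exists_of_verProj_eq (x : X) (hx : verProj 𝒳 q x = x) : ∃ y, g y = x := by
  refine verProj_induction 𝒳 q (P := fun x => ∃ y, g y = x) ⟨0, map_zero g⟩ ?_ ?_ x hx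
  · intro j x hx
    obtain ⟨y, _, hy⟩ := hg2 j x hx
    exact ⟨y, hy⟩
  · rintro x y ⟨a, rfl⟩ ⟨b, rfl⟩
    exact ⟨a + b, map_add g a b⟩

include hg2 in
omit [DirectSum.Decomposition 𝒴] in
theorem exists_retr (x : X) : ∃ y, g y = verProj 𝒳 q x :=
  exists_of_verProj_eq φ q 𝒳 𝒴 g hg2 _ (verProj_idem 𝒳 q x)

/-- the retraction `X → Y` of a Veronese presentation -/
noncomputable def retr : X →+ Y :=
  AddMonoidHom.mk' (fun x => Classical.choose (exists_retr φ q 𝒳 𝒴 g hg2 x)) (by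
    intro a b
    apply hg
    have h1 := Classical.choose_spec (exists_retr φ q 𝒳 𝒴 g hg2 (a + b))
    have h2 := Classical.choose_spec (exists_retr φ q 𝒳 𝒴 g hg2 a)
    have h3 := Classical.choose_spec (exists_retr φ q 𝒳 𝒴 g hg2 b)
    rw [map_add g, h1, h2, h3, map_add])

omit [DirectSum.Decomposition 𝒴] in
theorem g_retr (x : X) : g (retr φ q 𝒳 𝒴 g hg hg2 x) = verProj 𝒳 q x :=
  Classical.choose_spec (exists_retr φ q 𝒳 𝒴 g hg2 x)

include hg1 in
theorem retr_g (y : Y) : retr φ q 𝒳 𝒴 g hg hg2 (g y) = y := by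
  apply hg
  rw [g_retr, verProj_g φ q 𝒳 𝒴 g hg1]

include hφ1 in
omit [DirectSum.Decomposition 𝒴] in
theorem retr_smul (r' : R') (x : X) :
    retr φ q 𝒳 𝒴 g hg hg2 (φ r' • x) = r' • retr φ q 𝒳 𝒴 g hg hg2 x := by
  apply hg
  rw [g_retr, g.map_smulₛₗ, g_retr, verProj_map_smul 𝒜 𝒜' φ q hφ1]

include hg1 in
theorem retr_mem {j : ℤ} {x : X} (hx : x ∈ 𝒳 (j * q)) : retr φ q 𝒳 𝒴 g hg hg2 x ∈ 𝒴 j := by
  obtain ⟨y, hy, rfl⟩ := hg2 j x hx
  rw [retr_g φ q 𝒳 𝒴 g hg hg1]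
  exact hy

omit [DirectSum.Decomposition 𝒴] in
theorem g_retr_of_mem {j : ℤ} {x : X} (hx : x ∈ 𝒳 (j * q)) :
    g (retr φ q 𝒳 𝒴 g hg hg2 x) = x := by
  rw [g_retr, verProj_of_mem_mul 𝒳 q hx]

end Pres

end Groth.Agent.Helper20.GrInj
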