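import Mathlib
import Groth.Agent.Lib.Helper20.GrVer2

/-!
# The Veronese module of a graded module, concretely (helper20)
-/

open DirectSum

namespace Groth.Agent.Helper20.GrInj

universe u

section Dec

variable {X : Type u} [AddCommGroup X] (𝒳 : ℤ → AddSubgroup X) [DirectSum.Decomposition 𝒳]
  (q : ℕ)

theorem decompose_verProj (x : X) (i : ℤ) :
    (decompose 𝒳 (verProj 𝒳 q x) i : X) = if (q : ℤ) ∣ i then (decompose 𝒳 x i : X) else 0 := by
  induction x using DirectSum.Decomposition.inductionOn 𝒳 with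
  | zero =>
    rw [map_zero, decompose_zero, DirectSum.zero_apply, ZeroMemClass.coe_zero, ite_self]
  | homogeneous m =>
    rename_i k
    rw [verProj_of_mem 𝒳 q m.2]
    by_cases hk : (q : ℤ) ∣ k
    · rw [if_pos hk]
      by_cases hi : (q : ℤ) ∣ i
      · rw [if_pos hi]
      · rw [if_neg hi]
        apply decompose_of_mem_ne 𝒳 m.2
        rintro rfl
        exact hi hk
    · rw [if_neg hk, decompose_zero, DirectSum.zero_apply, ZeroMemClass.coe_zero]
      by_cases hi : (q : ℤ) ∣ i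
      · rw [if_pos hi]
        symm
        apply decompose_of_mem_ne 𝒳 m.2
        rintro rfl
        exact hk hi
      · rw [if_neg hi]
  | add m m' hm hm' =>
    rw [map_add, decompose_add, DirectSum.add_apply, AddMemClass.coe_add, hm, hm', decompose_add,
      DirectSum.add_apply, AddMemClass.coe_add]
    split_ifs
    · rfl
    · rw [add_zero]

theorem decompose_eq_zero_of_verProj_eq {x : X} (hx : verProj 𝒳 q x = x) {i : ℤ}
    (hi : ¬ (q : ℤ) ∣ i) : (decompose 𝒳 x i : X) = 0 := by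
  have := decompose_verProj 𝒳 q x i
  rwa [hx, if_neg hi] at this

end Dec

section Concrete

variable {R : Type u} [CommRing R] {R' : Type u} [CommRing R']

/-- the data presenting `(R', 𝒜')` as the `q`-th Veronese subring of `(R, 𝒜)` -/
structure VerRing (𝒜 : ℤ → AddSubgroup R) (𝒜' : ℤ → AddSubgroup R') where
  /-- the inclusion -/
  φ : R' →+* R
  /-- the order -/
  q : ℕ
  hq : 0 < q
  inj : Function.Injective φ
  h1 : ∀ (j : ℤ) (r' : R'), r' ∈ 𝒜' j → φ r' ∈ 𝒜 (j * q)
  h2 : ∀ (j : ℤ) (r : R), r ∈ 𝒜 (j * q) → ∃ r' ∈ 𝒜' j, φ r' = r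

variable {𝒜 : ℤ → AddSubgroup R} [GradedRing 𝒜] {𝒜' : ℤ → AddSubgroup R'} [GradedRing 𝒜']
  (V : VerRing 𝒜 𝒜')
variable {X : Type u} [AddCommGroup X] [Module R X] (𝒳 : ℤ → AddSubgroup X)
  [DirectSum.Decomposition 𝒳] [SetLike.GradedSMul 𝒜 𝒳]

/-- the elements fixed by the Veronese projection -/
def verAdd (q : ℕ) : AddSubgroup X where
  carrier := {x | verProj 𝒳 q x = x}
  zero_mem' := map_zero _
  add_mem' := by
    intro a b ha hb
    show verProj 𝒳 q (a + b) = a + b
    rw [map_add, ha, hb]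
  neg_mem' := by
    intro a ha
    show verProj 𝒳 q (-a) = -a
    rw [map_neg, ha]

omit [Module R X] in
theorem mem_verAdd {q : ℕ} {x : X} : x ∈ verAdd 𝒳 q ↔ verProj 𝒳 q x = x := Iff.rfl

/-- the Veronese module `X^(q)` as a type -/
@[nolint unusedArguments]
def VerT (_V : VerRing 𝒜 𝒜') : Type u := ↥(verAdd 𝒳 _V.q)

instance : AddCommGroup (VerT 𝒳 V) := inferInstanceAs (AddCommGroup ↥(verAdd 𝒳 V.q))

/-- the underlying element -/
def VerT.val {V : VerRing 𝒜 𝒜'} {𝒳 : ℤ → AddSubgroup X} [DirectSum.Decomposition 𝒳]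
    (y : VerT 𝒳 V) : X := Subtype.val y

omit [GradedRing 𝒜] [GradedRing 𝒜'] [Module R X] in
theorem VerT.val_injective : Function.Injective (VerT.val (V := V) (𝒳 := 𝒳)) :=
  Subtype.val_injective

omit [GradedRing 𝒜] [GradedRing 𝒜'] [Module R X] in
theorem VerT.val_prop (y : VerT 𝒳 V) : verProj 𝒳 V.q y.val = y.val :=
  Subtype.prop y

omit [GradedRing 𝒜] [GradedRing 𝒜'] [Module R X] in
@[simp] theorem VerT.val_zero : (0 : VerT 𝒳 V).val = 0 := rfl

omit [GradedRing 𝒜] [GradedRing 𝒜'] [Module R X] in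
@[simp] theorem VerT.val_add (a b : VerT 𝒳 V) : (a + b).val = a.val + b.val := rfl

omit [GradedRing 𝒜] [GradedRing 𝒜'] [Module R X] in
@[simp] theorem VerT.val_neg (a : VerT 𝒳 V) : (-a).val = -a.val := rfl

/-- make an element of the Veronese module -/
def VerT.mk' (x : X) (hx : verProj 𝒳 V.q x = x) : VerT 𝒳 V := ⟨x, hx⟩

omit [GradedRing 𝒜] [GradedRing 𝒜'] [Module R X] in
@[simp] theorem VerT.val_mk' (x : X) (hx : verProj 𝒳 V.q x = x) : (VerT.mk' V 𝒳 x hx).val = x := rfl

noncomputable instance verModule : Module R' (VerT 𝒳 V) where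
  smul r' y := VerT.mk' V 𝒳 (V.φ r' • y.val) (by
    rw [verProj_map_smul 𝒜 𝒜' V.φ V.q V.h1, y.val_prop])
  one_smul y := VerT.val_injective V 𝒳 (by
    show V.φ 1 • y.val = y.val
    rw [map_one, one_smul])
  mul_smul a b y := VerT.val_injective V 𝒳 (by
    show V.φ (a * b) • y.val = V.φ a • V.φ b • y.val
    rw [map_mul, mul_smul])
  smul_zero a := VerT.val_injective V 𝒳 (by
    show V.φ a • (0 : X) = 0
    rw [smul_zero])
  smul_add a y z := VerT.val_injective V 𝒳 (by
    show V.φ a • (y.val + z.val) = V.φ a • y.val + V.φ a • z.val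
    rw [smul_add])
  add_smul a b y := VerT.val_injective V 𝒳 (by
    show V.φ (a + b) • y.val = V.φ a • y.val + V.φ b • y.val
    rw [map_add, add_smul])
  zero_smul y := VerT.val_injective V 𝒳 (by
    show V.φ 0 • y.val = 0
    rw [map_zero, zero_smul])

theorem VerT.val_smul (r' : R') (y : VerT 𝒳 V) : (r' • y).val = V.φ r' • y.val := rfl

/-- the inclusion of the Veronese module -/
def verIncl : VerT 𝒳 V →ₛₗ[V.φ] X where
  toFun := VerT.val
  map_add' := fun _ _ => rfl
  map_smul' := fun _ _ => rfl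

theorem verIncl_apply (y : VerT 𝒳 V) : verIncl V 𝒳 y = y.val := rfl

theorem verIncl_injective : Function.Injective (verIncl V 𝒳) := VerT.val_injective V 𝒳

/-- the pieces of the Veronese module -/
def verGr (j : ℤ) : AddSubgroup (VerT 𝒳 V) where
  carrier := {y | y.val ∈ 𝒳 (j * V.q)}
  zero_mem' := (𝒳 _).zero_mem
  add_mem' := fun ha hb => (𝒳 _).add_mem ha hb
  neg_mem' := fun ha => (𝒳 _).neg_mem ha

omit [GradedRing 𝒜] [GradedRing 𝒜'] [Module R X] in
theorem mem_verGr {j : ℤ} {y : VerT 𝒳 V} : y ∈ verGr V 𝒳 j ↔ y.val ∈ 𝒳 (j * V.q) := Iff.rfl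

omit [GradedRing 𝒜] [GradedRing 𝒜'] [Module R X] in
theorem VerT.val_sum {α : Type*} (s : Finset α) (c : α → VerT 𝒳 V) :
    (∑ j ∈ s, c j).val = ∑ j ∈ s, (c j).val :=
  map_sum (verAdd 𝒳 V.q).subtype c s

omit [GradedRing 𝒜] [GradedRing 𝒜'] [Module R X] in
theorem verGr_isInternal : DirectSum.IsInternal (verGr V 𝒳) := by
  classical
  have hqz : (V.q : ℤ) ≠ 0 := by
    have := V.hq
    exact_mod_cast this.ne'
  have hinj : Function.Injective (fun j : ℤ => j * (V.q : ℤ)) := fun a b h =>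
    mul_right_cancel₀ hqz h
  apply isInternal_of
  · intro y
    refine ⟨(decompose 𝒳 y.val).support.preimage (fun j : ℤ => j * (V.q : ℤ)) hinj.injOn,
      fun j => VerT.mk' V 𝒳 (decompose 𝒳 y.val (j * V.q) : X)
        (verProj_of_mem_mul 𝒳 V.q (decompose 𝒳 y.val (j * V.q)).2),
      fun j => (decompose 𝒳 y.val (j * V.q)).2, ?_⟩
    apply VerT.val_injective V 𝒳
    rw [VerT.val_sum]
    simp only [VerT.val_mk']
    rw [Finset.sum_preimage (fun j : ℤ => j * (V.q : ℤ)) (decompose 𝒳 y.val).support hinj.injOn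
      (fun i => (decompose 𝒳 y.val i : X))]
    · exact (sum_support_decompose 𝒳 y.val).symm
    · intro i _ hi
      apply decompose_eq_zero_of_verProj_eq 𝒳 V.q y.val_prop
      rintro ⟨j, rfl⟩
      exact hi ⟨j, mul_comm _ _⟩
  · intro s c hc hsum j₀ hj₀
    apply VerT.val_injective V 𝒳
    have h1 := congrArg VerT.val hsum
    rw [VerT.val_sum] at h1
    have h2 := congrArg (fun x => (decompose 𝒳 x (j₀ * V.q) : X)) h1
    simp only at h2
    rw [decompose_sum, DFinsupp.finsetSum_apply, AddSubmonoidClass.coe_finsetSum] at h2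
    rw [Finset.sum_eq_single j₀] at h2
    · rw [decompose_of_mem_same 𝒳 (hc j₀)] at h2
      rw [h2]
      show (decompose 𝒳 (0 : X) (j₀ * V.q) : X) = 0
      rw [decompose_zero, DirectSum.zero_apply, ZeroMemClass.coe_zero]
    · intro j _ hj
      exact decompose_of_mem_ne 𝒳 (hc j) (fun h => hj (hinj h))
    · intro h
      exact absurd hj₀ h

/-- the decomposition of the Veronese module -/
@[instance_reducible]
noncomputable def verDecomposition : DirectSum.Decomposition (verGr V 𝒳) :=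
  (verGr_isInternal V 𝒳).chooseDecomposition

theorem verGr_gradedSMul : SetLike.GradedSMul 𝒜' (verGr V 𝒳) where
  smul_mem := by
    intro i j r' y hr' hy
    rw [vadd_eq_add]
    show V.φ r' • y.val ∈ 𝒳 ((i + j) * V.q)
    have := SetLike.GradedSMul.smul_mem (A := 𝒜) (B := 𝒳) (V.h1 i r' hr') hy
    rwa [vadd_eq_add, ← add_mul] at this

/-- the Veronese module as a bundled graded module over the Veronese subring -/
noncomputable def verG (X : GrLC.GMod.{u} 𝒜) : GrLC.GMod.{u} 𝒜' :=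
  letI := verDecomposition V X.gr
  letI := verGr_gradedSMul V X.gr
  { carrier := VerT X.gr V
    gr := verGr V X.gr }

theorem verIncl_mem {j : ℤ} {y : VerT 𝒳 V} (hy : y ∈ verGr V 𝒳 j) :
    verIncl V 𝒳 y ∈ 𝒳 (j * V.q) := hy

theorem exists_verIncl_eq {j : ℤ} {x : X} (hx : x ∈ 𝒳 (j * V.q)) :
    ∃ y ∈ verGr V 𝒳 j, verIncl V 𝒳 y = x :=
  ⟨VerT.mk' V 𝒳 x (verProj_of_mem_mul 𝒳 V.q hx), hx, rfl⟩

end Concrete

end Groth.Agent.Helper20.GrInj
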