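import Mathlib
import Groth.Agent.Lib.Helper20.GrMat5
import Groth.Agent.Lib.Helper20.GrVer5

/-!
# Transport of a duality pairing along a Veronese presentation (helper20)
-/

open DirectSum

namespace Groth.Agent.Helper20.GrInj

universe u

namespace GrPairing

variable {R : Type u} [CommRing R] {𝒜 : ℤ → AddSubgroup R} [GradedRing 𝒜]
  {C : Type u} [AddCommGroup C] [Module R C] {𝒞 : ℤ → AddSubgroup C}
  {H : Type u} [AddCommGroup H] [Module R H] {ℋ : ℤ → AddSubgroup H} (P : GrPairing 𝒜 𝒞 ℋ)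

theorem zero_left (h : H) : P.β 0 h = 0 := by
  have := P.add_left 0 0 h
  rw [add_zero] at this
  exact left_eq_add.1 this

theorem sub_left (c c' : C) (h : H) : P.β (c - c') h = P.β c h - P.β c' h := by
  have := P.add_left (c - c') c' h
  rw [sub_add_cancel] at this
  rw [this, add_sub_cancel_right]

theorem eq_of_forall {j : ℤ} {c c' : C} (hc : c ∈ 𝒞 j) (hc' : c' ∈ 𝒞 j)
    (h : ∀ h ∈ ℋ (-j), P.β c h = P.β c' h) : c = c' := by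
  rw [← sub_eq_zero]
  apply P.nondeg j _ (sub_mem hc hc')
  intro w hw
  rw [P.sub_left, h w hw, sub_self]

end GrPairing

section Transport

variable {R : Type u} [CommRing R] {R' : Type u} [CommRing R']
variable {𝒜 : ℤ → AddSubgroup R} [GradedRing 𝒜] {𝒜' : ℤ → AddSubgroup R'} [GradedRing 𝒜']
  (V : VerRing 𝒜 𝒜')
variable {C : Type u} [AddCommGroup C] [Module R C] {𝒞 : ℤ → AddSubgroup C}
  [DirectSum.Decomposition 𝒞] [SetLike.GradedSMul 𝒜 𝒞]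
variable {C' : Type u} [AddCommGroup C'] [Module R' C'] {𝒞' : ℤ → AddSubgroup C'}
  [DirectSum.Decomposition 𝒞'] [SetLike.GradedSMul 𝒜' 𝒞']
variable {H : Type u} [AddCommGroup H] [Module R H] {ℋ : ℤ → AddSubgroup H}
variable {H' : Type u} [AddCommGroup H'] [Module R' H'] {ℋ' : ℤ → AddSubgroup H'}
variable (P : GrPairing 𝒜 𝒞 ℋ) (P' : GrPairing 𝒜' 𝒞' ℋ')
variable (hsm : ∀ (i d : ℤ) (r' : R') (w : H'), r' ∈ 𝒜' i → w ∈ ℋ' d → r' • w ∈ ℋ' (i + d))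
variable (Λ : H' →ₛₗ[V.φ] H) (hΛ1 : ∀ (j : ℤ) (w : H'), w ∈ ℋ' j → Λ w ∈ ℋ (j * V.q))
  (hΛ2 : ∀ (j : ℤ) (u : H), u ∈ ℋ (j * V.q) → ∃ w ∈ ℋ' j, Λ w = u)
  (hΛ3 : ∀ (j : ℤ) (w : H'), w ∈ ℋ' j → Λ w = 0 → w = 0)

/-- the inverse of `Λ` on the piece of degree `j * q` -/
noncomputable def linv (j : ℤ) (u : H) : H' := by
  classical
  exact if h : ∃ w ∈ ℋ' j, Λ w = u then Classical.choose h else 0

include hΛ2 in
theorem linv_mem (j : ℤ) {u : H} (hu : u ∈ ℋ (j * V.q)) : linv (ℋ' := ℋ') V Λ j u ∈ ℋ' j := by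
  unfold linv
  rw [dif_pos (hΛ2 j u hu)]
  exact (Classical.choose_spec (hΛ2 j u hu)).1

include hΛ2 in
theorem apply_linv (j : ℤ) {u : H} (hu : u ∈ ℋ (j * V.q)) :
    Λ (linv (ℋ' := ℋ') V Λ j u) = u := by
  unfold linv
  rw [dif_pos (hΛ2 j u hu)]
  exact (Classical.choose_spec (hΛ2 j u hu)).2

include hΛ1 hΛ2 hΛ3 in
theorem linv_unique (j : ℤ) {u : H} {w : H'} (hw : w ∈ ℋ' j) (hwu : Λ w = u) :
    linv (ℋ' := ℋ') V Λ j u = w := by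
  have hu : u ∈ ℋ (j * V.q) := hwu ▸ hΛ1 j w hw
  rw [← sub_eq_zero]
  apply hΛ3 j _ (sub_mem (linv_mem V Λ hΛ2 j hu) hw)
  rw [map_sub, apply_linv V Λ hΛ2 j hu, hwu, sub_self]

/-- inverse of `φ` -/
noncomputable def phii : R → R' := Function.invFun V.φ

theorem phii_phi (y : R') : phii V (V.φ y) = y := Function.leftInverse_invFun V.inj y

theorem phi_phii {x : R} (hx : x ∈ 𝒜 0) : V.φ (phii V x) = x := by
  have hx' : x ∈ 𝒜 (0 * V.q) := by rwa [zero_mul]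
  obtain ⟨y, _, rfl⟩ := V.h2 0 x hx'
  rw [phii_phi]

theorem phii_mem {x : R} (hx : x ∈ 𝒜 0) : phii V x ∈ 𝒜' 0 := by
  have hx' : x ∈ 𝒜 (0 * V.q) := by rwa [zero_mul]
  obtain ⟨y, hy, rfl⟩ := V.h2 0 x hx'
  rw [phii_phi]
  exact hy

theorem phi_mem_zero {y : R'} (hy : y ∈ 𝒜' 0) : V.φ y ∈ 𝒜 0 := by
  have := V.h1 0 y hy
  rwa [zero_mul] at this

include hsm hΛ1 hΛ2 hΛ3 in
/-- existence of the transported element -/
theorem exists_transport (j : ℤ) (c' : C') :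
    ∃ c ∈ 𝒞 (j * V.q), ∀ w ∈ ℋ' (-j), P.β c (Λ w) = V.φ (P'.β c' w) := by
  have hdeg : -(j * (V.q : ℤ)) = (-j) * V.q := (neg_mul _ _).symm
  obtain ⟨c, hc, hcβ⟩ := P.repr (j * V.q)
    (fun h => V.φ (P'.β c' (linv (ℋ' := ℋ') V Λ (-j) h)))
    (fun h _ => phi_mem_zero V (P'.mem _ _))
    (by
      intro h hh h' hh'
      rw [hdeg] at hh hh'
      have : linv (ℋ' := ℋ') V Λ (-j) (h + h') =
          linv (ℋ' := ℋ') V Λ (-j) h + linv (ℋ' := ℋ') V Λ (-j) h' := by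
        apply linv_unique V Λ hΛ1 hΛ2 hΛ3
        · exact add_mem (linv_mem V Λ hΛ2 _ hh) (linv_mem V Λ hΛ2 _ hh')
        · rw [map_add, apply_linv V Λ hΛ2 _ hh, apply_linv V Λ hΛ2 _ hh']
      show V.φ (P'.β c' (linv (ℋ' := ℋ') V Λ (-j) (h + h'))) = _
      rw [this, P'.add_right, map_add])
    (by
      intro s hs h hh
      rw [hdeg] at hh
      have hs' : s ∈ 𝒜 (0 * V.q) := by rwa [zero_mul]
      obtain ⟨s', hs'0, rfl⟩ := V.h2 0 s hs'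
      have : linv (ℋ' := ℋ') V Λ (-j) (V.φ s' • h) = s' • linv (ℋ' := ℋ') V Λ (-j) h := by
        apply linv_unique V Λ hΛ1 hΛ2 hΛ3
        · have := hsm 0 (-j) s' _ hs'0 (linv_mem V Λ hΛ2 _ hh)
          rwa [zero_add] at this
        · rw [Λ.map_smulₛₗ, apply_linv V Λ hΛ2 _ hh]
      show V.φ (P'.β c' (linv (ℋ' := ℋ') V Λ (-j) (V.φ s' • h))) = _
      rw [this, P'.smul_right s' hs'0, map_mul])
  refine ⟨c, hc, fun w hw => ?_⟩
  have hΛw : Λ w ∈ ℋ (-(j * (V.q : ℤ))) := by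
    rw [hdeg]
    exact hΛ1 (-j) w hw
  rw [hcβ (Λ w) hΛw]
  show V.φ (P'.β c' (linv (ℋ' := ℋ') V Λ (-j) (Λ w))) = _
  rw [linv_unique V Λ hΛ1 hΛ2 hΛ3 (-j) hw rfl]

include hΛ2 in
/-- uniqueness of the transported element -/
theorem transport_unique (j : ℤ) {c₁ c₂ : C} (h1 : c₁ ∈ 𝒞 (j * V.q)) (h2 : c₂ ∈ 𝒞 (j * V.q))
    (h : ∀ w ∈ ℋ' (-j), P.β c₁ (Λ w) = P.β c₂ (Λ w)) : c₁ = c₂ := by
  apply P.eq_of_forall h1 h2
  intro u hu
  have hdeg : -(j * (V.q : ℤ)) = (-j) * V.q := (neg_mul _ _).symm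
  rw [hdeg] at hu
  obtain ⟨w, hw, rfl⟩ := hΛ2 (-j) u hu
  exact h w hw

/-- the transported element -/
noncomputable def gfun (j : ℤ) (c' : C') : C :=
  Classical.choose (exists_transport V P P' hsm Λ hΛ1 hΛ2 hΛ3 j c')

theorem gfun_mem (j : ℤ) (c' : C') : gfun V P P' hsm Λ hΛ1 hΛ2 hΛ3 j c' ∈ 𝒞 (j * V.q) :=
  (Classical.choose_spec (exists_transport V P P' hsm Λ hΛ1 hΛ2 hΛ3 j c')).1

theorem gfun_spec (j : ℤ) (c' : C') {w : H'} (hw : w ∈ ℋ' (-j)) :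
    P.β (gfun V P P' hsm Λ hΛ1 hΛ2 hΛ3 j c') (Λ w) = V.φ (P'.β c' w) :=
  (Classical.choose_spec (exists_transport V P P' hsm Λ hΛ1 hΛ2 hΛ3 j c')).2 w hw

theorem gfun_eq (j : ℤ) (c' : C') {c : C} (hc : c ∈ 𝒞 (j * V.q))
    (h : ∀ w ∈ ℋ' (-j), P.β c (Λ w) = V.φ (P'.β c' w)) :
    gfun V P P' hsm Λ hΛ1 hΛ2 hΛ3 j c' = c := by
  apply transport_unique V P Λ hΛ2 j (gfun_mem V P P' hsm Λ hΛ1 hΛ2 hΛ3 j c') hc
  intro w hw
  rw [gfun_spec V P P' hsm Λ hΛ1 hΛ2 hΛ3 j c' hw, h w hw]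

theorem gfun_add (j : ℤ) (a b : C') :
    gfun V P P' hsm Λ hΛ1 hΛ2 hΛ3 j (a + b) =
      gfun V P P' hsm Λ hΛ1 hΛ2 hΛ3 j a + gfun V P P' hsm Λ hΛ1 hΛ2 hΛ3 j b := by
  apply gfun_eq
  · exact add_mem (gfun_mem V P P' hsm Λ hΛ1 hΛ2 hΛ3 j a) (gfun_mem V P P' hsm Λ hΛ1 hΛ2 hΛ3 j b)
  · intro w hw
    rw [P.add_left, gfun_spec V P P' hsm Λ hΛ1 hΛ2 hΛ3 j a hw,
      gfun_spec V P P' hsm Λ hΛ1 hΛ2 hΛ3 j b hw, P'.add_left, map_add]

theorem gfun_zero (j : ℤ) : gfun V P P' hsm Λ hΛ1 hΛ2 hΛ3 j 0 = 0 := by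
  have := gfun_add V P P' hsm Λ hΛ1 hΛ2 hΛ3 j 0 0
  rw [add_zero] at this
  exact left_eq_add.1 this

theorem gfun_smul {i : ℤ} {r' : R'} (hr' : r' ∈ 𝒜' i) (j : ℤ) (c' : C') :
    gfun V P P' hsm Λ hΛ1 hΛ2 hΛ3 (i + j) (r' • c') =
      V.φ r' • gfun V P P' hsm Λ hΛ1 hΛ2 hΛ3 j c' := by
  apply gfun_eq
  · have := SetLike.GradedSMul.smul_mem (A := 𝒜) (B := 𝒞) (V.h1 i r' hr')
      (gfun_mem V P P' hsm Λ hΛ1 hΛ2 hΛ3 j c')
    rw [vadd_eq_add, ← add_mul] at this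
    exact this
  · intro w hw
    have hrw : r' • w ∈ ℋ' (-j) := by
      have := hsm i (-(i + j)) r' w hr' hw
      have hij : i + -(i + j) = -j := by ring
      rwa [hij] at this
    rw [P.smul_left, ← Λ.map_smulₛₗ, gfun_spec V P P' hsm Λ hΛ1 hΛ2 hΛ3 j c' hrw, P'.smul_left]

/-- the transport on the piece of degree `j`, as an additive map -/
noncomputable def gAdd (j : ℤ) : C' →+ C where
  toFun := gfun V P P' hsm Λ hΛ1 hΛ2 hΛ3 j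
  map_zero' := gfun_zero V P P' hsm Λ hΛ1 hΛ2 hΛ3 j
  map_add' := gfun_add V P P' hsm Λ hΛ1 hΛ2 hΛ3 j

/-- the total transport -/
noncomputable def gTot : C' →+ C :=
  (DirectSum.toAddMonoid (fun j : ℤ => (gAdd V P P' hsm Λ hΛ1 hΛ2 hΛ3 j).comp
    (𝒞' j).subtype)).comp (decomposeAddEquiv 𝒞').toAddMonoidHom

theorem gTot_of_mem {j : ℤ} {c' : C'} (hc' : c' ∈ 𝒞' j) :
    gTot V P P' hsm Λ hΛ1 hΛ2 hΛ3 c' = gfun V P P' hsm Λ hΛ1 hΛ2 hΛ3 j c' := by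
  unfold gTot
  rw [AddMonoidHom.comp_apply]
  have : (decomposeAddEquiv 𝒞').toAddMonoidHom c' = DirectSum.of (fun i => 𝒞' i) j ⟨c', hc'⟩ :=
    decompose_of_mem 𝒞' hc'
  rw [this, DirectSum.toAddMonoid_of]
  rfl

theorem gTot_smul (r' : R') (c' : C') :
    gTot V P P' hsm Λ hΛ1 hΛ2 hΛ3 (r' • c') = V.φ r' • gTot V P P' hsm Λ hΛ1 hΛ2 hΛ3 c' := by
  induction c' using DirectSum.Decomposition.inductionOn 𝒞' with
  | zero => rw [smul_zero, map_zero, smul_zero]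
  | @homogeneous j c' =>
    induction r' using DirectSum.Decomposition.inductionOn 𝒜' with
    | zero => rw [zero_smul, map_zero, map_zero, zero_smul]
    | @homogeneous i r' =>
      have hrc : (r' : R') • (c' : C') ∈ 𝒞' (i + j) := by
        have := SetLike.GradedSMul.smul_mem (A := 𝒜') (B := 𝒞') r'.2 c'.2
        rwa [vadd_eq_add] at this
      rw [gTot_of_mem V P P' hsm Λ hΛ1 hΛ2 hΛ3 hrc, gTot_of_mem V P P' hsm Λ hΛ1 hΛ2 hΛ3 c'.2,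
        gfun_smul V P P' hsm Λ hΛ1 hΛ2 hΛ3 r'.2]
    | add r s hr hs => rw [add_smul, map_add, hr, hs, map_add, add_smul]
  | add a b ha hb => rw [smul_add, map_add, ha, hb, map_add, smul_add]

/-- the transported semilinear map -/
noncomputable def gLin : C' →ₛₗ[V.φ] C where
  toFun := gTot V P P' hsm Λ hΛ1 hΛ2 hΛ3
  map_add' := map_add _
  map_smul' := gTot_smul V P P' hsm Λ hΛ1 hΛ2 hΛ3

theorem gLin_of_mem {j : ℤ} {c' : C'} (hc' : c' ∈ 𝒞' j) :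
    gLin V P P' hsm Λ hΛ1 hΛ2 hΛ3 c' = gfun V P P' hsm Λ hΛ1 hΛ2 hΛ3 j c' :=
  gTot_of_mem V P P' hsm Λ hΛ1 hΛ2 hΛ3 hc'

theorem gLin_mem {j : ℤ} {c' : C'} (hc' : c' ∈ 𝒞' j) :
    gLin V P P' hsm Λ hΛ1 hΛ2 hΛ3 c' ∈ 𝒞 (j * V.q) := by
  rw [gLin_of_mem V P P' hsm Λ hΛ1 hΛ2 hΛ3 hc']
  exact gfun_mem V P P' hsm Λ hΛ1 hΛ2 hΛ3 j c'

theorem gLin_injective : Function.Injective (gLin V P P' hsm Λ hΛ1 hΛ2 hΛ3) := by
  classical
  rw [injective_iff_map_eq_zero]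
  intro c' hc'
  -- each homogeneous component is killed
  have hcomp : ∀ j₀ : ℤ, gLin V P P' hsm Λ hΛ1 hΛ2 hΛ3 (decompose 𝒞' c' j₀ : C') = 0 := by
    intro j₀
    have h1 : (decompose 𝒞 (gLin V P P' hsm Λ hΛ1 hΛ2 hΛ3 c') (j₀ * V.q) : C) = 0 := by
      rw [hc', decompose_zero, DirectSum.zero_apply, ZeroMemClass.coe_zero]
    conv at h1 =>
      lhs
      rw [← sum_support_decompose 𝒞' c', map_sum, decompose_sum, DFinsupp.finsetSum_apply,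
        AddSubmonoidClass.coe_finsetSum]
    by_cases hj₀ : j₀ ∈ (decompose 𝒞' c').support
    · rw [Finset.sum_eq_single j₀] at h1
      · rwa [decompose_of_mem_same 𝒞
          (gLin_mem V P P' hsm Λ hΛ1 hΛ2 hΛ3 (decompose 𝒞' c' j₀).2)] at h1
      · intro j _ hne
        apply decompose_of_mem_ne 𝒞 (gLin_mem V P P' hsm Λ hΛ1 hΛ2 hΛ3 (decompose 𝒞' c' j).2)
        intro heq
        apply hne
        have hq : (V.q : ℤ) ≠ 0 := by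
          have := V.hq
          omega
        exact mul_right_cancel₀ hq heq
      · intro hn
        exact absurd hj₀ hn
    · rw [DFinsupp.notMem_support_iff] at hj₀
      rw [hj₀, ZeroMemClass.coe_zero, map_zero]
  have hzero : ∀ j₀ : ℤ, (decompose 𝒞' c' j₀ : C') = 0 := by
    intro j₀
    apply P'.nondeg j₀ _ (decompose 𝒞' c' j₀).2
    intro w hw
    have h2 := gfun_spec V P P' hsm Λ hΛ1 hΛ2 hΛ3 j₀ (decompose 𝒞' c' j₀ : C') hw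
    rw [← gLin_of_mem V P P' hsm Λ hΛ1 hΛ2 hΛ3 (decompose 𝒞' c' j₀).2, hcomp j₀,
      P.zero_left] at h2
    apply V.inj
    rw [map_zero]
    exact h2.symm
  rw [← sum_support_decompose 𝒞' c']
  exact Finset.sum_eq_zero (fun j _ => hzero j)

include hΛ1 in
theorem exists_gLin_eq {j : ℤ} {c : C} (hc : c ∈ 𝒞 (j * V.q)) :
    ∃ c' ∈ 𝒞' j, gLin V P P' hsm Λ hΛ1 hΛ2 hΛ3 c' = c := by
  have hdeg : -(j * (V.q : ℤ)) = (-j) * V.q := (neg_mul _ _).symm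
  obtain ⟨c', hc', hβ⟩ := P'.repr j (fun w => phii V (P.β c (Λ w)))
    (fun w _ => phii_mem V (P.mem _ _))
    (by
      intro w _ w' _
      apply V.inj
      show V.φ (phii V (P.β c (Λ (w + w')))) = _
      rw [phi_phii V (P.mem _ _), RingHom.map_add, phi_phii V (P.mem _ _),
        phi_phii V (P.mem _ _), map_add Λ, P.add_right])
    (by
      intro s hs w _
      apply V.inj
      show V.φ (phii V (P.β c (Λ (s • w)))) = _
      rw [phi_phii V (P.mem _ _), RingHom.map_mul, phi_phii V (P.mem _ _), Λ.map_smulₛₗ,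
        P.smul_right _ (phi_mem_zero V hs)])
  refine ⟨c', hc', ?_⟩
  rw [gLin_of_mem V P P' hsm Λ hΛ1 hΛ2 hΛ3 hc']
  apply gfun_eq V P P' hsm Λ hΛ1 hΛ2 hΛ3 j c' hc
  intro w hw
  rw [hβ w hw]
  show _ = V.φ (phii V (P.β c (Λ w)))
  rw [phi_phii V (P.mem _ _)]

include hsm hΛ1 hΛ2 hΛ3 in
/-- **transport of duality along a Veronese presentation** -/
theorem exists_veronese_of_grPairing (P : GrPairing 𝒜 𝒞 ℋ) (P' : GrPairing 𝒜' 𝒞' ℋ') :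
    ∃ g : C' →ₛₗ[V.φ] C, Function.Injective g ∧
      ∀ j : ℤ, (𝒞' j).map (g : C' →+ C) = 𝒞 (j * V.q) := by
  refine ⟨gLin V P P' hsm Λ hΛ1 hΛ2 hΛ3, gLin_injective V P P' hsm Λ hΛ1 hΛ2 hΛ3, fun j => ?_⟩
  ext c
  constructor
  · rintro ⟨c', hc', rfl⟩
    exact gLin_mem V P P' hsm Λ hΛ1 hΛ2 hΛ3 hc'
  · intro hc
    obtain ⟨c', hc', h⟩ := exists_gLin_eq V P P' hsm Λ hΛ1 hΛ2 hΛ3 hc
    exact ⟨c', hc', h⟩

end Transport

end Groth.Agent.Helper20.GrInj
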