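import Mathlib
import Groth.Agent.Lib.Helper20.GrSG2
import Groth.Agent.Lib.Helper20.GrCoind4
import Groth.Agent.Lib.Helper20.GrCx8
import Groth.Agent.Lib.Helper20.GrIrr1
import Groth.Agent.Lib.Helper8.LCTop

/-!
# The Euler characteristic `χ_M(n) = ℓ(M_n) - ∑ (-1)^i ℓ(H^i_m(M)_n)`: finiteness, additivity
(helper20)
-/

open DirectSum

namespace Groth.Agent.Helper20.GrInj

open Groth.Agent.Helper8

universe u

variable {R : Type u} [CommRing R]
variable {𝒜 : ℤ → AddSubgroup R} [GradedRing 𝒜]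

section Fin

variable {M : Type u} [AddCommGroup M] [Module R M] {ℳ : ℤ → AddSubgroup M}
  [DirectSum.Decomposition ℳ] [SetLike.GradedSMul 𝒜 ℳ]

theorem plen_ne_top [IsNoetherianRing R] [IsArtinianRing (GrLC.deg0 𝒜)] [Module.Finite R M]
    (n : ℤ) : plen (𝒜 := 𝒜) ℳ n ≠ ⊤ := by
  unfold plen
  haveI : IsNoetherian R M := isNoetherian_of_isNoetherianRing_of_finite R M
  haveI : IsNoetherian (GrLC.deg0 𝒜) (GrLC.comp 𝒜 ℳ n) := comp_isNoetherian (𝒜 := 𝒜) (ℳ := ℳ) n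
  haveI : IsArtinian (GrLC.deg0 𝒜) (GrLC.comp 𝒜 ℳ n) :=
    IsSemiprimaryRing.isNoetherian_iff_isArtinian.1 inferInstance
  exact Module.length_ne_top

theorem hlen_ne_top [IsNoetherianRing R] [IsArtinianRing (GrLC.deg0 𝒜)] [Module.Finite R M]
    (E : GrLC.StarInjRes 𝒜 ℳ) (m : HomogeneousIdeal 𝒜) [m.toIdeal.IsMaximal] (i : ℕ) (n : ℤ) :
    hlen E m i n ≠ ⊤ := by
  unfold hlen
  haveI : IsArtinian R (E.H m i) := H_isArtinian_of_isMaximal E m i
  haveI : IsArtinian (GrLC.deg0 𝒜) (E.Hcomp m i n) := Hcomp_isArtinian E m i n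
  haveI : IsNoetherian (GrLC.deg0 𝒜) (E.Hcomp m i n) :=
    IsSemiprimaryRing.isNoetherian_iff_isArtinian.2 inferInstance
  exact Module.length_ne_top

theorem H_subsingleton_of_dim_lt [IsNoetherianRing R] (E : GrLC.StarInjRes 𝒜 ℳ)
    (m : HomogeneousIdeal 𝒜) (d : ℕ) (hd : ringKrullDim R = d) (i : ℕ) (hi : d < i) :
    Subsingleton (E.H m i) := by
  obtain ⟨e⟩ := nonempty_H_equiv_LC E m i
  haveI := LC.H_subsingleton_of_ringKrullDim_lt m.toIdeal d hd M i hi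
  exact e.toEquiv.subsingleton

/-- the Euler characteristic -/
noncomputable def chi (d : ℕ) (E : GrLC.StarInjRes 𝒜 ℳ) (m : HomogeneousIdeal 𝒜) (n : ℤ) : ℚ :=
  ((plen (𝒜 := 𝒜) ℳ n).toNat : ℚ) -
    ∑ i ∈ Finset.range (d + 1), (-1 : ℚ) ^ i * ((hlen E m i n).toNat : ℚ)

end Fin

section Add

variable {M' : Type u} [AddCommGroup M'] [Module R M'] {ℳ' : ℤ → AddSubgroup M'}
  [DirectSum.Decomposition ℳ'] [SetLike.GradedSMul 𝒜 ℳ']
variable {M : Type u} [AddCommGroup M] [Module R M] {ℳ : ℤ → AddSubgroup M}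
  [DirectSum.Decomposition ℳ] [SetLike.GradedSMul 𝒜 ℳ]
variable {M'' : Type u} [AddCommGroup M''] [Module R M''] {ℳ'' : ℤ → AddSubgroup M''}
  [DirectSum.Decomposition ℳ''] [SetLike.GradedSMul 𝒜 ℳ'']

/-- **additivity of the Euler characteristic** on short exact sequences of finitely generated
graded modules. -/
theorem chi_add [IsNoetherianRing R] [IsArtinianRing (GrLC.deg0 𝒜)]
    [Module.Finite R M'] [Module.Finite R M] [Module.Finite R M'']
    (m : HomogeneousIdeal 𝒜) [m.toIdeal.IsMaximal] (d : ℕ) (hd : ringKrullDim R = d)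
    (α : M' →ₗ[R] M) (β : M →ₗ[R] M'')
    (hαgr : GrLC.IsGrHom ℳ' ℳ α) (hβgr : GrLC.IsGrHom ℳ ℳ'' β) (hα : Function.Injective α)
    (hex : LinearMap.range α = LinearMap.ker β) (hβ : Function.Surjective β)
    (E' : GrLC.StarInjRes 𝒜 ℳ') (E : GrLC.StarInjRes 𝒜 ℳ) (E'' : GrLC.StarInjRes 𝒜 ℳ'') (n : ℤ) :
    chi d E m n = chi d E' m n + chi d E'' m n := by
  let A := liftCh E' E α hαgr
  let B := liftCh E E'' β hβgr
  have hAgr : A.IsGr := liftCh_isGr E' E α hαgr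
  have hBgr : B.IsGr := liftCh_isGr E E'' β hβgr
  obtain ⟨hinj, ex1, δ, hδ, ex2, ex3⟩ := exists_les E' E E'' α β hαgr hα hex hβ A hAgr
    (liftCh_lifts E' E α hαgr) B hBgr (liftCh_lifts E E'' β hβgr) m
  have key := alt_sum_les E' E E'' m (fun i => A.Hmap m i) (fun i => ChMap.Hmap_isGr hAgr m i)
    (fun i => B.Hmap m i) (fun i => ChMap.Hmap_isGr hBgr m i) δ hδ hinj ex1 ex2 ex3 d
    (H_subsingleton_of_dim_lt E' m d hd (d + 1) (Nat.lt_succ_self d)) n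
    (fun i => hlen_ne_top E' m i n) (fun i => hlen_ne_top E m i n) (fun i => hlen_ne_top E'' m i n)
  have hp := plen_eq_add_of_exact (𝒜 := 𝒜) ℳ' ℳ ℳ'' α hαgr β hβgr hα hex hβ n
  unfold chi
  rw [key, hp, ENat.toNat_add (plen_ne_top n) (plen_ne_top n)]
  push_cast
  ring

/-- the property: `χ_M` is a polynomial function (for every resolution) -/
def SG (d : ℕ) (m : HomogeneousIdeal 𝒜) (ℳ : ℤ → AddSubgroup M) [DirectSum.Decomposition ℳ]
    [SetLike.GradedSMul 𝒜 ℳ] : Prop :=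
  ∃ Q : Polynomial ℚ, ∀ (E : GrLC.StarInjRes 𝒜 ℳ) (n : ℤ), chi d E m n = Q.eval (n : ℚ)

theorem SG_of_exact [IsNoetherianRing R] [IsArtinianRing (GrLC.deg0 𝒜)]
    [Module.Finite R M'] [Module.Finite R M] [Module.Finite R M'']
    (m : HomogeneousIdeal 𝒜) [m.toIdeal.IsMaximal] (d : ℕ) (hd : ringKrullDim R = d)
    (α : M' →ₗ[R] M) (β : M →ₗ[R] M'')
    (hαgr : GrLC.IsGrHom ℳ' ℳ α) (hβgr : GrLC.IsGrHom ℳ ℳ'' β) (hα : Function.Injective α)
    (hex : LinearMap.range α = LinearMap.ker β) (hβ : Function.Surjective β)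
    (h' : SG d m ℳ') (h'' : SG d m ℳ'') : SG d m ℳ := by
  obtain ⟨Q', hQ'⟩ := h'
  obtain ⟨Q'', hQ''⟩ := h''
  refine ⟨Q' + Q'', fun E n => ?_⟩
  rw [chi_add m d hd α β hαgr hβgr hα hex hβ (starInjRes 𝒜 ℳ') E (starInjRes 𝒜 ℳ'') n,
    hQ', hQ'', Polynomial.eval_add]

end Add

end Groth.Agent.Helper20.GrInj
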