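import Mathlib
import Groth.Agent.Lib.Helper20.GrSG3
import Groth.Agent.Lib.Helper20.GrCx13

/-!
# `χ_M = 0` for torsion modules: `H^0_a(M) ≅ M` as graded modules when `Γ_a(M) = M` (helper20)
-/

open DirectSum

namespace Groth.Agent.Helper20.GrInj

open Groth.Agent.Helper8

universe u

variable {R : Type u} [CommRing R]
variable {𝒜 : ℤ → AddSubgroup R} [GradedRing 𝒜]

section Bij

variable {X : Type u} [AddCommGroup X] [Module R X] (𝒳 : ℤ → AddSubgroup X)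
  [DirectSum.Decomposition 𝒳] [SetLike.GradedSMul 𝒜 𝒳]
variable {Y : Type u} [AddCommGroup Y] [Module R Y] (𝒴 : ℤ → AddSubgroup Y)
  [DirectSum.Decomposition 𝒴] [SetLike.GradedSMul 𝒜 𝒴]

theorem plen_eq_of_bijective (f : X →ₗ[R] Y) (hf : GrLC.IsGrHom 𝒳 𝒴 f)
    (hb : Function.Bijective f) (n : ℤ) : plen (𝒜 := 𝒜) 𝒳 n = plen (𝒜 := 𝒜) 𝒴 n := by
  unfold plen
  have hbij : Function.Bijective (compMap (𝒜 := 𝒜) 𝒳 𝒴 f hf n) := by
    constructor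
    · intro x y hxy
      apply Subtype.ext
      apply hb.1
      have := congrArg Subtype.val hxy
      rwa [compMap_coe, compMap_coe] at this
    · intro y
      obtain ⟨z, hz, hfz⟩ := exists_homog_preimage 𝒳 𝒴 hf (g := n) y.2
        (by rw [LinearMap.range_eq_top.2 hb.2]; trivial)
      exact ⟨⟨z, hz⟩, Subtype.ext hfz⟩
  exact (LinearEquiv.ofBijective _ hbij).length_eq

end Bij

section H0

attribute [local instance] HgrDec Hgr_gradedSMul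

variable {M : Type u} [AddCommGroup M] [Module R M] {ℳ : ℤ → AddSubgroup M}
  [DirectSum.Decomposition ℳ] [SetLike.GradedSMul 𝒜 ℳ]

theorem ε_mem_cocyc_zero (E : GrLC.StarInjRes 𝒜 ℳ) (a : HomogeneousIdeal 𝒜)
    (hΓ : GrLC.gam a.toIdeal M = ⊤) (x : M) : E.ε x ∈ E.cocyc a 0 := by
  refine ⟨?_, ?_⟩
  · have hx : x ∈ GrLC.gam a.toIdeal M := by rw [hΓ]; trivial
    obtain ⟨k, hk⟩ := hx
    exact ⟨k, fun r hr => by rw [← map_smul, hk r hr, map_zero]⟩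
  · exact LinearMap.mem_ker.2 (res_d_ε E x)

/-- the comparison `M → H^0_a(M)` for an `a`-torsion module -/
noncomputable def toH0 (E : GrLC.StarInjRes 𝒜 ℳ) (a : HomogeneousIdeal 𝒜)
    (hΓ : GrLC.gam a.toIdeal M = ⊤) : M →ₗ[R] E.H a 0 :=
  (E.toH a 0).comp (LinearMap.codRestrict (E.cocyc a 0) E.ε (ε_mem_cocyc_zero E a hΓ))

theorem toH0_isGrHom (E : GrLC.StarInjRes 𝒜 ℳ) (a : HomogeneousIdeal 𝒜)
    (hΓ : GrLC.gam a.toIdeal M = ⊤) : GrLC.IsGrHom ℳ (E.Hgr a 0) (toH0 E a hΓ) := by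
  intro g x hx
  exact ⟨⟨E.ε x, ε_mem_cocyc_zero E a hΓ x⟩, E.ε_grHom g x hx, rfl⟩

theorem toH0_bijective (E : GrLC.StarInjRes 𝒜 ℳ) (a : HomogeneousIdeal 𝒜)
    (hΓ : GrLC.gam a.toIdeal M = ⊤) : Function.Bijective (toH0 E a hΓ) := by
  constructor
  · rw [← LinearMap.ker_eq_bot, LinearMap.ker_eq_bot']
    intro x hx
    have h1 : E.toH a 0 ⟨E.ε x, ε_mem_cocyc_zero E a hΓ x⟩ = 0 := hx
    rw [ChMap.toH_eq_zero_iff] at h1
    have h2 : E.ε x = 0 := by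
      have : (E.ε x) ∈ (⊥ : Submodule R (E.X 0).carrier) := h1
      simpa using this
    exact E.ε_injective (by rw [h2, map_zero])
  · intro y
    obtain ⟨z, rfl⟩ := ChMap.toH_surjective E a 0 y
    have hz : (z : (E.X 0).carrier) ∈ LinearMap.ker (E.d 0) := z.2.2
    rw [E.exact_zero] at hz
    obtain ⟨x, hx⟩ := hz
    refine ⟨x, ?_⟩
    show E.toH a 0 ⟨E.ε x, _⟩ = E.toH a 0 z
    congr 1
    exact Subtype.ext hx

theorem hlen_zero_of_gam_eq_top (E : GrLC.StarInjRes 𝒜 ℳ) (a : HomogeneousIdeal 𝒜)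
    (hΓ : GrLC.gam a.toIdeal M = ⊤) (n : ℤ) : hlen E a 0 n = plen (𝒜 := 𝒜) ℳ n := by
  rw [hlen_eq_plen]
  exact (plen_eq_of_bijective ℳ (E.Hgr a 0) (toH0 E a hΓ) (toH0_isGrHom E a hΓ)
    (toH0_bijective E a hΓ) n).symm

theorem hlen_succ_of_gam_eq_top [IsNoetherianRing R] (E : GrLC.StarInjRes 𝒜 ℳ)
    (a : HomogeneousIdeal 𝒜) (hΓ : GrLC.gam a.toIdeal M = ⊤) (i : ℕ) (n : ℤ) :
    hlen E a (i + 1) n = 0 := by
  unfold hlen
  haveI := H_subsingleton_of_gam_eq_top (𝒜 := 𝒜) a i ℳ hΓ E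
  rw [Module.length_eq_zero_iff]
  constructor
  rintro ⟨x, _⟩ ⟨y, _⟩
  exact Subtype.ext (Subsingleton.elim _ _)

/-- `χ_M = 0` for torsion modules -/
theorem chi_eq_zero_of_gam_eq_top [IsNoetherianRing R] (d : ℕ) (E : GrLC.StarInjRes 𝒜 ℳ)
    (a : HomogeneousIdeal 𝒜) (hΓ : GrLC.gam a.toIdeal M = ⊤) (n : ℤ) : chi d E a n = 0 := by
  unfold chi
  rw [Finset.sum_range_succ', hlen_zero_of_gam_eq_top E a hΓ n]
  have : ∀ i ∈ Finset.range d, (-1 : ℚ) ^ (i + 1) * ((hlen E a (i + 1) n).toNat : ℚ) = 0 := by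
    intro i _
    rw [hlen_succ_of_gam_eq_top E a hΓ i n]; simp
  rw [Finset.sum_eq_zero this]
  simp

theorem SG_of_gam_eq_top [IsNoetherianRing R] (d : ℕ) (a : HomogeneousIdeal 𝒜)
    (hΓ : GrLC.gam a.toIdeal M = ⊤) : SG d a ℳ :=
  ⟨0, fun E n => by rw [chi_eq_zero_of_gam_eq_top d E a hΓ n]; simp⟩

end H0

end Groth.Agent.Helper20.GrInj
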