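import Mathlib
import Groth.Agent.Lib.Helper20.GrSG5
import Groth.Agent.Lib.Helper20.GrCx9

/-!
# The socle of graded local cohomology along a regular element (helper20)
-/

open DirectSum

namespace Groth.Agent.Helper20.GrInj

universe u

variable {R : Type u} [CommRing R]
variable {𝒜 : ℤ → AddSubgroup R} [GradedRing 𝒜]

/-- the socle of the graded module `W` (with respect to the ideal `m`) is one-dimensional over
`R_0` and concentrated in degree `s` -/
def IsSocAt (𝒜 : ℤ → AddSubgroup R) (m : Ideal R) {W : Type u} [AddCommGroup W] [Module R W]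
    (𝒲 : ℤ → AddSubgroup W) (s : ℤ) : Prop :=
  (∀ (j : ℤ) (w : W), w ∈ 𝒲 j → w ≠ 0 → (∀ r ∈ m, r • w = 0) → j = s) ∧
    ∃ w₀ ∈ 𝒲 s, w₀ ≠ 0 ∧ (∀ r ∈ m, r • w₀ = 0) ∧
      ∀ w ∈ 𝒲 s, (∀ r ∈ m, r • w = 0) → ∃ c ∈ 𝒜 0, w = c • w₀

section Transfer

variable {V : Type u} [AddCommGroup V] [Module R V] {𝒱 : ℤ → AddSubgroup V}
variable {W : Type u} [AddCommGroup W] [Module R W] {𝒲 : ℤ → AddSubgroup W}

/-- transfer of the socle along an injective homogeneous map of degree `-g` whose image contains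
the socle of the target -/
theorem IsSocAt.of_injective (m : Ideal R) {s g : ℤ} (h : IsSocAt 𝒜 m 𝒱 s) (δ : V →ₗ[R] W)
    (hδgr : ∀ (j : ℤ) (v : V), v ∈ 𝒱 j → δ v ∈ 𝒲 (j + -g))
    (hδinj : Function.Injective δ)
    (hδsurj : ∀ (j : ℤ) (w : W), w ∈ 𝒲 j → (∀ r ∈ m, r • w = 0) → ∃ v ∈ 𝒱 (j + g), δ v = w) :
    IsSocAt 𝒜 m 𝒲 (s - g) := by
  obtain ⟨h1, w₀, hw₀, hw₀0, hw₀m, hgen⟩ := h
  have hsoc : ∀ (v : V), (∀ r ∈ m, r • δ v = 0) → ∀ r ∈ m, r • v = 0 := by
    intro v hv r hr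
    apply hδinj
    rw [map_smul, hv r hr, map_zero]
  refine ⟨?_, δ w₀, ?_, ?_, ?_, ?_⟩
  · intro j w hw hw0 hwm
    obtain ⟨v, hv, rfl⟩ := hδsurj j w hw hwm
    have hv0 : v ≠ 0 := by
      rintro rfl
      exact hw0 (map_zero δ)
    have := h1 (j + g) v hv hv0 (hsoc v hwm)
    omega
  · have := hδgr s w₀ hw₀
    rwa [← sub_eq_add_neg] at this
  · intro h0
    exact hw₀0 (hδinj (h0.trans (map_zero δ).symm))
  · intro r hr
    rw [← map_smul, hw₀m r hr, map_zero]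
  · intro w hw hwm
    obtain ⟨v, hv, rfl⟩ := hδsurj (s - g) w hw hwm
    rw [sub_add_cancel] at hv
    obtain ⟨c, hc, hvc⟩ := hgen v hv (hsoc v hwm)
    exact ⟨c, hc, by rw [hvc, map_smul]⟩

end Transfer

section LC

variable {M : Type u} [AddCommGroup M] [Module R M] {ℳ : ℤ → AddSubgroup M}
  [DirectSum.Decomposition ℳ] [SetLike.GradedSMul 𝒜 ℳ]
variable {N : Type u} [AddCommGroup N] [Module R N] {𝒩 : ℤ → AddSubgroup N}
  [DirectSum.Decomposition 𝒩] [SetLike.GradedSMul 𝒜 𝒩]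

/-- classes in `H^i_a(M)` are `a`-torsion -/
theorem exists_pow_smul_H_eq_zero (E : GrLC.StarInjRes 𝒜 ℳ) (a : HomogeneousIdeal 𝒜) (i : ℕ)
    (w : E.H a i) : ∃ n : ℕ, ∀ r ∈ a.toIdeal ^ n, r • w = 0 := by
  obtain ⟨z, rfl⟩ := ChMap.toH_surjective E a i w
  obtain ⟨n, hn⟩ := z.2.1
  refine ⟨n, fun r hr => ?_⟩
  rw [← map_smul]
  have : r • z = 0 := Subtype.ext (hn r hr)
  rw [this, map_zero]

/-- an element of `a` acting injectively on `H^i_a(M)` forces `H^i_a(M) = 0` -/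
theorem H_eq_zero_of_smul_injective (E : GrLC.StarInjRes 𝒜 ℳ) (a : HomogeneousIdeal 𝒜) (i : ℕ)
    {x : R} (hx : x ∈ a.toIdeal) (hinj : ∀ w : E.H a i, x • w = 0 → w = 0) (w : E.H a i) :
    w = 0 := by
  obtain ⟨n, hn⟩ := exists_pow_smul_H_eq_zero E a i w
  have hpow : ∀ k : ℕ, x ^ k • w = 0 → w = 0 := by
    intro k
    induction k with
    | zero =>
      intro h
      rwa [pow_zero, one_smul] at h
    | succ k ih =>
      intro h
      rw [pow_succ, mul_comm, mul_smul] at h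
      exact ih (hinj _ h)
  exact hpow n (hn _ (Ideal.pow_mem_pow hx n))

/-- `H^0_a(M) = 0` when `a` contains an `M`-regular element -/
theorem H_zero_eq_zero_of_regular (E : GrLC.StarInjRes 𝒜 ℳ) (a : HomogeneousIdeal 𝒜)
    {x : R} (hx : x ∈ a.toIdeal) (hreg : ∀ z : M, x • z = 0 → z = 0) (w : E.H a 0) : w = 0 := by
  obtain ⟨z, rfl⟩ := ChMap.toH_surjective E a 0 w
  have hz : (z : (E.X 0).carrier) ∈ LinearMap.ker (E.d 0) := z.2.2
  rw [E.exact_zero] at hz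
  obtain ⟨y, hy⟩ := hz
  obtain ⟨n, hn⟩ := z.2.1
  have h1 : x ^ n • y = 0 := by
    apply E.ε_injective
    rw [map_smul, hy, map_zero]
    exact hn _ (Ideal.pow_mem_pow hx n)
  have hpow : ∀ k : ℕ, x ^ k • y = 0 → y = 0 := by
    intro k
    induction k with
    | zero =>
      intro h
      rwa [pow_zero, one_smul] at h
    | succ k ih =>
      intro h
      rw [pow_succ, mul_comm, mul_smul] at h
      exact ih (hreg _ h)
  have hy0 : y = 0 := hpow n h1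
  have hz0 : z = 0 := by
    apply Subtype.ext
    rw [← hy, hy0, map_zero]
    rfl
  rw [hz0, map_zero]

/-- the connecting homomorphism of `0 → M(-g) → M → M/xM → 0` -/
theorem exists_delta_of_regular_full (a : HomogeneousIdeal 𝒜) {g : ℤ} {x : R} (hx : x ∈ 𝒜 g)
    (hreg : ∀ z : M, x • z = 0 → z = 0)
    (π : M →ₗ[R] N) (hπ : Function.Surjective π) (hπg : GrLC.IsGrHom ℳ 𝒩 π)
    (hker : LinearMap.ker π = LinearMap.range (LinearMap.lsmul R M x))
    (E : GrLC.StarInjRes 𝒜 ℳ) (F : GrLC.StarInjRes 𝒜 𝒩) (i : ℕ) :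
    ∃ δ : F.H a i →ₗ[R] E.H a (i + 1),
      (∀ (j : ℤ) (v : F.H a i), v ∈ F.Hgr a i j → δ v ∈ E.Hgr a (i + 1) (j + -g)) ∧
      (∀ v : F.H a i, δ v = 0 → ∃ u : E.H a i, (liftCh E F π hπg).Hmap a i u = v) ∧
      (∀ w : E.H a (i + 1), x • w = 0 → ∃ v : F.H a i, δ v = w) ∧
      (∀ v : F.H a i, x • δ v = 0) := by
  have hinj : Function.Injective (LinearMap.lsmul R M x) := by
    intro z z' h
    have : x • (z - z') = 0 := by
      rw [smul_sub]
      exact sub_eq_zero.2 h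
    exact sub_eq_zero.1 (hreg _ this)
  obtain ⟨_, _, δ, hδgr, hδ1, hδ2⟩ := exists_les (resShift E (-g)) E F (LinearMap.lsmul R M x) π
    (lsmul_isGrHom_shift hx) hinj hker.symm hπ
    (smulCh E (g := g) x) (smulCh_isGr E hx) (smulCh_lifts E x)
    (liftCh E F π hπg) (liftCh_isGr _ _ _ _) (liftCh_lifts _ _ _ _) a
  refine ⟨δ i, fun j v hv => hδgr i j v hv, ?_, ?_, ?_⟩
  · intro v hv
    have : v ∈ LinearMap.ker (δ i) := hv
    rw [← hδ1 i] at this
    exact this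
  · intro w hw
    have hk : (smulCh E (g := g) x).Hmap a (i + 1) w = 0 :=
      (smulCh_Hmap E x a (i + 1) w).trans hw
    have hmem : (w : (resShift E (-g)).H a (i + 1)) ∈
        LinearMap.ker ((smulCh E (g := g) x).Hmap a (i + 1)) := hk
    rw [← hδ2 i] at hmem
    exact hmem
  · intro v
    have hmem : δ i v ∈ LinearMap.ker ((smulCh E (g := g) x).Hmap a (i + 1)) := by
      rw [← hδ2 i]
      exact ⟨v, rfl⟩
    have hk : (smulCh E (g := g) x).Hmap a (i + 1) (δ i v) = 0 := hmem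
    exact (smulCh_Hmap E x a (i + 1) (δ i v)).symm.trans hk

/-- **the socle step**: if `x ∈ m` is homogeneous of degree `g` and `M`-regular, `H^i_m(M) = 0`,
and the socle of `H^i_m(M/xM)` is one-dimensional in degree `s`, then the socle of
`H^{i+1}_m(M)` is one-dimensional in degree `s - g` -/
theorem isSocAt_of_regular (a : HomogeneousIdeal 𝒜) {g : ℤ} {x : R} (hx : x ∈ 𝒜 g)
    (hxa : x ∈ a.toIdeal) (hreg : ∀ z : M, x • z = 0 → z = 0)
    (π : M →ₗ[R] N) (hπ : Function.Surjective π) (hπg : GrLC.IsGrHom ℳ 𝒩 π)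
    (hker : LinearMap.ker π = LinearMap.range (LinearMap.lsmul R M x))
    (E : GrLC.StarInjRes 𝒜 ℳ) (F : GrLC.StarInjRes 𝒜 𝒩) (i : ℕ)
    (hvan : ∀ u : E.H a i, u = 0) {s : ℤ} (hs : IsSocAt 𝒜 a.toIdeal (F.Hgr a i) s) :
    IsSocAt 𝒜 a.toIdeal (E.Hgr a (i + 1)) (s - g) := by
  obtain ⟨δ, hδgr, hδker, hδsurj, hδx⟩ := exists_delta_of_regular_full a hx hreg π hπ hπg hker E F i
  have hδinj : Function.Injective δ := by
    rw [injective_iff_map_eq_zero]
    intro v hv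
    obtain ⟨u, rfl⟩ := hδker v hv
    rw [hvan u, map_zero]
  apply hs.of_injective a.toIdeal δ hδgr hδinj
  intro j w hw hwm
  obtain ⟨v, hv⟩ := hδsurj w (hwm x hxa)
  -- a homogeneous preimage
  have hgr' : GrLC.IsGrHom (F.Hgr a i) ((resShift E (-g)).Hgr a (i + 1)) δ :=
    fun j v hv => hδgr j v hv
  have hw' : (w : (resShift E (-g)).H a (i + 1)) ∈ (resShift E (-g)).Hcomp a (i + 1) (j + g) := by
    rw [mem_resShift_Hcomp]
    have : j + g + -g = j := by ring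
    rw [this]
    exact hw
  obtain ⟨z, hz, hzw⟩ := exists_homog_preimage_H (E := F) (F := resShift E (-g)) a i (i + 1)
    hgr' hw' ⟨v, hv⟩
  exact ⟨z, hz, hzw⟩

end LC

end Groth.Agent.Helper20.GrInj
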