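import Mathlib
import Groth.Agent.Lib.Helper20.GrSoc1
import Groth.Agent.Lib.Helper20.GrHull2
import Groth.Agent.Lib.Helper20.GrCoind4

/-!
# The socle of the top local cohomology along a regular sequence (helper20)
-/

open DirectSum Pointwise

namespace Groth.Agent.Helper20.GrInj

universe u

variable {R : Type u} [CommRing R]
variable {𝒜 : ℤ → AddSubgroup R} [GradedRing 𝒜]

section Base

attribute [local instance] HgrDec Hgr_gradedSMul

variable {N : Type u} [AddCommGroup N] [Module R N] {𝒩 : ℤ → AddSubgroup N}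
  [DirectSum.Decomposition 𝒩] [SetLike.GradedSMul 𝒜 𝒩]

/-- for an `a`-torsion module, the socle of `H^0_a(N)` is that of `N` -/
theorem isSocAt_H_zero (a : HomogeneousIdeal 𝒜) (hΓ : GrLC.gam a.toIdeal N = ⊤)
    (F : GrLC.StarInjRes 𝒜 𝒩) {s : ℤ} (hs : IsSocAt 𝒜 a.toIdeal 𝒩 s) :
    IsSocAt 𝒜 a.toIdeal (F.Hgr a 0) s := by
  have h := hs.of_injective (g := 0) (𝒲 := F.Hgr a 0) a.toIdeal (toH0 F a hΓ)
    (fun j v hv => by
      have := toH0_isGrHom F a hΓ j v hv
      rwa [neg_zero, add_zero])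
    (toH0_bijective F a hΓ).1
    (fun j w hw _ => by
      obtain ⟨z, hz, hzw⟩ := exists_homog_preimage 𝒩 (F.Hgr a 0) (toH0_isGrHom F a hΓ) (g := j) hw
        (by rw [LinearMap.range_eq_top.2 (toH0_bijective F a hΓ).2]; trivial)
      refine ⟨z, ?_, hzw⟩
      rwa [add_zero])
  rwa [sub_zero] at h

end Base

section Equiv

variable {M : Type u} [AddCommGroup M] [Module R M] {ℳ : ℤ → AddSubgroup M}
  [DirectSum.Decomposition ℳ]
variable {N : Type u} [AddCommGroup N] [Module R N] {𝒩 : ℤ → AddSubgroup N}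
  [DirectSum.Decomposition 𝒩]

/-- transport of the socle along a homogeneous bijection -/
theorem IsSocAt.of_bijective (m : Ideal R) {s : ℤ} (hs : IsSocAt 𝒜 m 𝒩 s) (π : M →ₗ[R] N)
    (hπg : GrLC.IsGrHom ℳ 𝒩 π) (hπ : Function.Bijective π) : IsSocAt 𝒜 m ℳ s := by
  obtain ⟨h1, w₀, hw₀, hw₀0, hw₀m, hgen⟩ := hs
  have hpre : ∀ (j : ℤ) (y : N), y ∈ 𝒩 j → ∃ z ∈ ℳ j, π z = y := by
    intro j y hy
    exact exists_homog_preimage ℳ 𝒩 hπg (g := j) hy
      (by rw [LinearMap.range_eq_top.2 hπ.2]; trivial)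
  obtain ⟨z₀, hz₀, hz₀w⟩ := hpre s w₀ hw₀
  refine ⟨?_, z₀, hz₀, ?_, ?_, ?_⟩
  · intro j w hw hw0 hwm
    apply h1 j (π w) (hπg j w hw)
    · intro h
      exact hw0 (hπ.1 (h.trans (map_zero π).symm))
    · intro r hr
      rw [← map_smul, hwm r hr, map_zero]
  · rintro rfl
    rw [map_zero] at hz₀w
    exact hw₀0 hz₀w.symm
  · intro r hr
    apply hπ.1
    rw [map_smul, hz₀w, hw₀m r hr, map_zero]
  · intro w hw hwm
    obtain ⟨c, hc, hcw⟩ := hgen (π w) (hπg s w hw) (fun r hr => by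
      rw [← map_smul, hwm r hr, map_zero])
    refine ⟨c, hc, hπ.1 ?_⟩
    rw [hcw, map_smul, hz₀w]

theorem gam_eq_top_of_injective (a : Ideal R) (π : M →ₗ[R] N) (hπ : Function.Injective π)
    (hΓ : GrLC.gam a N = ⊤) : GrLC.gam a M = ⊤ := by
  rw [eq_top_iff]
  intro z _
  have hz : π z ∈ GrLC.gam a N := by rw [hΓ]; trivial
  obtain ⟨n, hn⟩ := hz
  refine ⟨n, fun r hr => hπ ?_⟩
  rw [map_smul, hn r hr, map_zero]

end Equiv

section Seq

/-- **the socle of the top local cohomology along a regular sequence**: if `f_1, …, f_t ∈ a` is a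
homogeneous `X`-regular sequence and `Y = X/(f)X` is `a`-torsion with one-dimensional socle in
degree `s`, then `H^i_a(X) = 0` for `i < t` and the socle of `H^t_a(X)` is one-dimensional in degree
`s - Σ deg f_i` -/
theorem soc_main (a : HomogeneousIdeal 𝒜) :
    ∀ (t : ℕ) (X : GrLC.GMod.{u} 𝒜) (f : Fin t → R) (deg : Fin t → ℤ)
      (_ : ∀ i, f i ∈ 𝒜 (deg i)) (_ : ∀ i, f i ∈ a.toIdeal)
      (_ : RingTheory.Sequence.IsWeaklyRegular X.carrier (List.ofFn f))
      (Y : GrLC.GMod.{u} 𝒜) (π : X.carrier →ₗ[R] Y.carrier) (_ : GrLC.IsGrHom X.gr Y.gr π)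
      (_ : Function.Surjective π)
      (_ : LinearMap.ker π = Ideal.span (Set.range f) • (⊤ : Submodule R X.carrier))
      (_ : GrLC.gam a.toIdeal Y.carrier = ⊤) (s : ℤ) (_ : IsSocAt 𝒜 a.toIdeal Y.gr s)
      (E : GrLC.StarInjRes 𝒜 X.gr),
      (∀ i < t, ∀ w : E.H a i, w = 0) ∧
      IsSocAt 𝒜 a.toIdeal (E.Hgr a t) (s - ∑ i, deg i) := by
  intro t
  induction t with
  | zero =>
    intro X f deg hdeg hfa hreg Y π hπg hπs hπk hΓ s hsoc E
    have hker : LinearMap.ker π = ⊥ := by
      rw [hπk]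
      have : Set.range f = ∅ := Set.range_eq_empty f
      rw [this, Ideal.span_empty, Submodule.bot_smul]
    have hbij : Function.Bijective π := ⟨LinearMap.ker_eq_bot.1 hker, hπs⟩
    refine ⟨fun i hi => absurd hi (Nat.not_lt_zero i), ?_⟩
    rw [Finset.univ_eq_empty, Finset.sum_empty, sub_zero]
    exact isSocAt_H_zero a (gam_eq_top_of_injective a.toIdeal π hbij.1 hΓ) E
      (hsoc.of_bijective a.toIdeal π hπg hbij)
  | succ t ih =>
    intro X f deg hdeg hfa hreg Y π hπg hπs hπk hΓ s hsoc E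
    rw [List.ofFn_succ, RingTheory.Sequence.isWeaklyRegular_cons_iff] at hreg
    obtain ⟨hreg0, hreg1⟩ := hreg
    -- the first quotient
    let P : Submodule R X.carrier := f 0 • (⊤ : Submodule R X.carrier)
    have hP : P.IsHomogeneous X.gr := by
      intro i y hy
      obtain ⟨z, _, rfl⟩ := (Submodule.mem_smul_pointwise_iff_exists _ _ _).1 hy
      have h := decompose_smul_of_mem 𝒜 X.gr (hdeg 0) z (i - deg 0)
      rw [add_sub_cancel] at h
      rw [h]
      exact Submodule.smul_mem_pointwise_smul _ _ _ Submodule.mem_top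
    let X₁ : GrLC.GMod.{u} 𝒜 := quotGMod X.gr 𝒜 P hP
    let q : X.carrier →ₗ[R] X₁.carrier := quotMk 𝒜 X.gr P hP
    have hqg : GrLC.IsGrHom X.gr X₁.gr q := quotMk_grHom 𝒜 X.gr P hP
    have hqs : Function.Surjective q := quotMk_surjective 𝒜 X.gr P hP
    have hqk : LinearMap.ker q = LinearMap.range (LinearMap.lsmul R X.carrier (f 0)) := by
      rw [quotMk_ker]
      ext y
      rw [Submodule.mem_smul_pointwise_iff_exists, LinearMap.mem_range]
      constructor
      · rintro ⟨z, _, rfl⟩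
        exact ⟨z, rfl⟩
      · rintro ⟨z, rfl⟩
        exact ⟨z, Submodule.mem_top, rfl⟩
    have hreg0' : ∀ z : X.carrier, f 0 • z = 0 → z = 0 := by
      intro z hz
      apply hreg0
      simpa using hz
    let E₁ := starInjRes 𝒜 X₁.gr
    -- the induced map
    have hPle : P ≤ LinearMap.ker π := by
      rw [hπk]
      intro y hy
      obtain ⟨z, _, rfl⟩ := (Submodule.mem_smul_pointwise_iff_exists _ _ _).1 hy
      exact Submodule.smul_mem_smul (Ideal.subset_span ⟨0, rfl⟩) Submodule.mem_top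
    let π₁ : X₁.carrier →ₗ[R] Y.carrier := P.liftQ π hPle
    have hπ₁g : GrLC.IsGrHom X₁.gr Y.gr π₁ := by
      intro j y hy
      obtain ⟨z, hz, rfl⟩ := hy
      exact hπg j z hz
    have hπ₁s : Function.Surjective π₁ := by
      intro y
      obtain ⟨z, rfl⟩ := hπs y
      exact ⟨q z, rfl⟩
    have hπ₁k : LinearMap.ker π₁ =
        Ideal.span (Set.range (fun i : Fin t => f i.succ)) • (⊤ : Submodule R X₁.carrier) := by
      have h1 : LinearMap.ker π₁ = (LinearMap.ker π).map q := by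
        have hcomp : π = π₁ ∘ₗ q := rfl
        rw [hcomp, LinearMap.ker_comp, Submodule.map_comap_eq_of_surjective hqs]
      have hrange : Set.range f = insert (f 0) (Set.range (fun i : Fin t => f i.succ)) := by
        ext r
        constructor
        · rintro ⟨i, rfl⟩
          refine Fin.cases ?_ (fun j => ?_) i
          · exact Set.mem_insert _ _
          · exact Set.mem_insert_of_mem _ ⟨j, rfl⟩
        · rintro (rfl | ⟨j, rfl⟩)
          · exact ⟨0, rfl⟩
          · exact ⟨j.succ, rfl⟩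
      have h0 : Ideal.span {f 0} • (⊤ : Submodule R X₁.carrier) = ⊥ := by
        rw [Submodule.ideal_span_singleton_smul, eq_bot_iff]
        intro y hy
        obtain ⟨w, _, rfl⟩ := (Submodule.mem_smul_pointwise_iff_exists _ _ _).1 hy
        obtain ⟨z, rfl⟩ := hqs w
        rw [Submodule.mem_bot, ← map_smul]
        exact (quotMk_eq_zero_iff 𝒜 X.gr P hP).2
          (Submodule.smul_mem_pointwise_smul _ _ _ Submodule.mem_top)
      rw [h1, hπk, Submodule.map_smul'', Submodule.map_top, LinearMap.range_eq_top.2 hqs, hrange,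
        Ideal.span_insert, Submodule.sup_smul, h0, bot_sup_eq]
    obtain ⟨hv₁, hsoc₁⟩ := ih X₁ (fun i => f i.succ) (fun i => deg i.succ) (fun i => hdeg i.succ)
      (fun i => hfa i.succ) hreg1 Y π₁ hπ₁g hπ₁s hπ₁k hΓ s hsoc E₁
    -- vanishing
    have hvan : ∀ i < t + 1, ∀ w : E.H a i, w = 0 := by
      intro i hi w
      cases i with
      | zero => exact H_zero_eq_zero_of_regular E a (hfa 0) hreg0' w
      | succ i' =>
        obtain ⟨δ, _, _, hδsurj, _⟩ := exists_delta_of_regular_full a (hdeg 0) hreg0' q hqs hqg hqk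
          E E₁ i'
        apply H_eq_zero_of_smul_injective E a (i' + 1) (hfa 0) _ w
        intro w' hw'
        obtain ⟨v, rfl⟩ := hδsurj w' hw'
        rw [hv₁ i' (by omega) v, map_zero]
    refine ⟨hvan, ?_⟩
    have h := isSocAt_of_regular a (hdeg 0) (hfa 0) hreg0' q hqs hqg hqk E E₁ t
      (hvan t (by omega)) hsoc₁
    have hsum : s - ∑ i : Fin (t + 1), deg i = s - ∑ i : Fin t, deg i.succ - deg 0 := by
      rw [Fin.sum_univ_succ]
      ring
    rw [hsum]
    exact h

end Seq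

end Groth.Agent.Helper20.GrInj
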