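import Mathlib
import Groth.Agent.Lib.Helper20.GrSoc2
import Groth.Agent.Lib.Helper20.GrExt4
import Groth.Agent.Lib.Helper8.LCVanish

/-!
# Consequences of a one-dimensional socle; surjectivity of nonzerodivisors on the top local
cohomology (helper20)
-/

open DirectSum Pointwise

namespace Groth.Agent.Helper20.GrInj

open Groth.Agent.Helper8

universe u

variable {R : Type u} [CommRing R]
variable {𝒜 : ℤ → AddSubgroup R} [GradedRing 𝒜]

section Reach

variable {W : Type u} [AddCommGroup W] [Module R W] {𝒲 : ℤ → AddSubgroup W}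
variable (a : HomogeneousIdeal 𝒜)
  (hsm : ∀ (i j : ℤ) (r : R) (w : W), r ∈ 𝒜 i → w ∈ 𝒲 j → r • w ∈ 𝒲 (i + j))

/-- if every homogeneous element of a homogeneous ideal kills `w`, the whole ideal does -/
theorem smul_eq_zero_of_homog (w : W)
    (h : ∀ (l : ℤ) (r : R), r ∈ 𝒜 l → r ∈ a.toIdeal → r • w = 0) : ∀ r ∈ a.toIdeal, r • w = 0 := by
  classical
  intro r hr
  have h1 : r • w = ∑ l ∈ (decompose 𝒜 r).support, ((decompose 𝒜 r l : R)) • w := by
    conv_lhs => rw [← sum_support_decompose 𝒜 r]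
    exact Finset.sum_smul
  rw [h1]
  apply Finset.sum_eq_zero
  intro l _
  exact h l _ (decompose 𝒜 r l).2 (a.isHomogeneous l hr)

include hsm in
/-- every nonzero homogeneous torsion element has a nonzero homogeneous multiple in the socle -/
theorem exists_smul_mem_socle :
    ∀ (n : ℕ) (j : ℤ) (w : W), w ∈ 𝒲 j → w ≠ 0 → (∀ r ∈ a.toIdeal ^ n, r • w = 0) →
      ∃ (i : ℤ) (r : R), r ∈ 𝒜 i ∧ r • w ≠ 0 ∧ ∀ r' ∈ a.toIdeal, r' • r • w = 0 := by
  intro n
  induction n with
  | zero =>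
    intro j w _ hw0 hn
    exfalso
    apply hw0
    have h1 : (1 : R) ∈ a.toIdeal ^ 0 := by
      rw [pow_zero, Ideal.one_eq_top]
      exact Submodule.mem_top
    have := hn 1 h1
    rwa [one_smul] at this
  | succ n ih =>
    intro j w hw hw0 hn
    by_cases hsoc : ∀ r' ∈ a.toIdeal, r' • w = 0
    · refine ⟨0, 1, SetLike.GradedOne.one_mem, ?_, ?_⟩
      · rwa [one_smul]
      · intro r' hr'
        rw [one_smul]
        exact hsoc r' hr'
    · have hex : ∃ (l : ℤ) (r : R), r ∈ 𝒜 l ∧ r ∈ a.toIdeal ∧ r • w ≠ 0 := by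
        by_contra hcon
        push Not at hcon
        exact hsoc (smul_eq_zero_of_homog a w hcon)
      obtain ⟨l, r₁, hr₁, hr₁a, hr₁w⟩ := hex
      have hn' : ∀ r ∈ a.toIdeal ^ n, r • r₁ • w = 0 := by
        intro r hr
        rw [← mul_smul]
        apply hn
        rw [pow_succ]
        exact Ideal.mul_mem_mul hr hr₁a
      obtain ⟨i, r, hr, hrw, hrsoc⟩ := ih (l + j) (r₁ • w) (hsm l j r₁ w hr₁ hw) hr₁w hn'
      refine ⟨i + l, r * r₁, SetLike.mul_mem_graded hr hr₁, ?_, ?_⟩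
      · rwa [mul_smul]
      · intro r' hr'
        rw [mul_smul]
        exact hrsoc r' hr'

variable (hpos : ∀ n : ℤ, n < 0 → 𝒜 n = ⊥)
  (htor : ∀ w : W, ∃ n : ℕ, ∀ r ∈ a.toIdeal ^ n, r • w = 0)

include hsm hpos htor in
/-- with a socle concentrated in degree `s`, a nonzero element of degree `s - i` has a nonzero
multiple by an element of degree `i`; in particular `i ≥ 0` -/
theorem exists_smul_ne_zero_of_isSocAt {s : ℤ} (hs : IsSocAt 𝒜 a.toIdeal 𝒲 s) {j : ℤ} {w : W}
    (hw : w ∈ 𝒲 j) (hw0 : w ≠ 0) : j ≤ s ∧ ∃ r ∈ 𝒜 (s - j), r • w ≠ 0 := by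
  obtain ⟨n, hn⟩ := htor w
  obtain ⟨i, r, hr, hrw, hrsoc⟩ := exists_smul_mem_socle a hsm n j w hw hw0 hn
  have hij := hs.1 (i + j) (r • w) (hsm i j r w hr hw) hrw hrsoc
  have hi : 0 ≤ i := by
    by_contra hneg
    push Not at hneg
    rw [hpos i hneg, AddSubgroup.mem_bot] at hr
    rw [hr, zero_smul] at hrw
    exact hrw rfl
  refine ⟨by omega, r, ?_, hrw⟩
  have : s - j = i := by omega
  rwa [this]

include hsm hpos htor in
theorem eq_bot_of_isSocAt_of_lt {s : ℤ} (hs : IsSocAt 𝒜 a.toIdeal 𝒲 s) {j : ℤ} (hj : s < j) :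
    𝒲 j = ⊥ := by
  rw [eq_bot_iff]
  intro w hw
  rw [AddSubgroup.mem_bot]
  by_contra hw0
  have := (exists_smul_ne_zero_of_isSocAt a hsm hpos htor hs hw hw0).1
  omega

end Reach

section Surj

attribute [local instance] HgrDec Hgr_gradedSMul

variable [IsNoetherianRing R]

/-- **a homogeneous nonzerodivisor acts surjectively on the top local cohomology** -/
theorem smul_surjective_H_top (a : HomogeneousIdeal 𝒜) (n : ℕ) (hn : ringKrullDim R = n)
    (E : GrLC.StarInjRes 𝒜 𝒜) {g : ℤ} {x : R} (hx : x ∈ 𝒜 g) (hreg : x ∈ nonZeroDivisors R)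
    (w : E.H a n) : ∃ v : E.H a n, x • v = w := by
  -- the quotient `R/xR`
  let P : Submodule R R := x • (⊤ : Submodule R R)
  have hP : P.IsHomogeneous 𝒜 := by
    intro i y hy
    obtain ⟨z, _, rfl⟩ := (Submodule.mem_smul_pointwise_iff_exists _ _ _).1 hy
    have h := decompose_smul_of_mem 𝒜 𝒜 hx z (i - g)
    rw [add_sub_cancel] at h
    rw [h]
    exact Submodule.smul_mem_pointwise_smul _ _ _ Submodule.mem_top
  let X₁ : GrLC.GMod.{u} 𝒜 := quotGMod 𝒜 𝒜 P hP
  let q : R →ₗ[R] X₁.carrier := quotMk 𝒜 𝒜 P hP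
  have hqg : GrLC.IsGrHom 𝒜 X₁.gr q := quotMk_grHom 𝒜 𝒜 P hP
  have hqs : Function.Surjective q := quotMk_surjective 𝒜 𝒜 P hP
  have hqk : LinearMap.ker q = LinearMap.range (LinearMap.lsmul R R x) := by
    rw [quotMk_ker]
    ext y
    rw [Submodule.mem_smul_pointwise_iff_exists, LinearMap.mem_range]
    constructor
    · rintro ⟨z, _, rfl⟩
      exact ⟨z, rfl⟩
    · rintro ⟨z, rfl⟩
      exact ⟨z, Submodule.mem_top, rfl⟩
  have hinj : Function.Injective (LinearMap.lsmul R R x) := by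
    intro z z' h
    have h1 : x * z = x * z' := h
    have h2 : x * (z - z') = 0 := by rw [mul_sub, h1, sub_self]
    exact sub_eq_zero.1 ((mem_nonZeroDivisors_iff.1 hreg).1 _ h2)
  let F := starInjRes 𝒜 X₁.gr
  -- vanishing of `H^n(R/xR)`
  have hPspan : P = Ideal.span {x} := by
    ext y
    rw [Submodule.mem_smul_pointwise_iff_exists, Ideal.mem_span_singleton']
    constructor
    · rintro ⟨z, _, rfl⟩
      exact ⟨z, by rw [smul_eq_mul, mul_comm]⟩
    · rintro ⟨z, rfl⟩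
      exact ⟨z, Submodule.mem_top, by rw [smul_eq_mul, mul_comm]⟩
  have hdim : Module.supportDim R X₁.carrier < (n : WithBot ℕ∞) := by
    have h1 : Module.supportDim R (R ⧸ P) = ringKrullDim (R ⧸ Ideal.span {x}) := by
      rw [hPspan]
      exact Module.supportDim_quotient_eq_ringKrullDim _
    have h2 := ringKrullDim_quotient_succ_le_of_nonZeroDivisor hreg
    rw [hn] at h2
    show Module.supportDim R (R ⧸ P) < _
    rw [h1]
    have h3 : ringKrullDim (R ⧸ Ideal.span {x}) + 1 ≤ ((n : ℕ∞) : WithBot ℕ∞) := h2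
    induction hh : ringKrullDim (R ⧸ Ideal.span {x}) with
    | bot => exact WithBot.bot_lt_coe _
    | coe d =>
      rw [hh] at h3
      have h4 : d + 1 ≤ (n : ℕ∞) := by exact_mod_cast h3
      have h5 : d < (n : ℕ∞) := by
        rcases eq_or_ne d ⊤ with rfl | hd
        · simp at h4
        · exact lt_of_lt_of_le (ENat.lt_add_one_iff hd |>.2 le_rfl) h4
      exact_mod_cast h5
  haveI : Subsingleton (LC.H a.toIdeal n X₁.carrier) :=
    LC.H_subsingleton_of_supportDim_lt a.toIdeal X₁.carrier n hdim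
  obtain ⟨e⟩ := nonempty_H_equiv_LC F a n
  haveI : Subsingleton (F.H a n) := e.toEquiv.subsingleton
  obtain ⟨_, hex, _⟩ := exists_les (resShift E (-g)) E F (LinearMap.lsmul R R x) q
    (lsmul_isGrHom_shift hx) hinj hqk.symm hqs
    (smulCh E (g := g) x) (smulCh_isGr E hx) (smulCh_lifts E x)
    (liftCh E F q hqg) (liftCh_isGr _ _ _ _) (liftCh_lifts _ _ _ _) a
  have hw : w ∈ LinearMap.ker ((liftCh E F q hqg).Hmap a n) := by
    rw [LinearMap.mem_ker]
    exact Subsingleton.elim _ _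
  rw [← hex n] at hw
  obtain ⟨v, hv⟩ := hw
  refine ⟨v, ?_⟩
  rw [← hv]
  exact (smulCh_Hmap E x a n v).symm

/-- homogeneous version: a nonzero class of degree `s` is `x` times a class of degree `s - g` -/
theorem exists_smul_eq_of_mem_Hgr (a : HomogeneousIdeal 𝒜) (n : ℕ) (hn : ringKrullDim R = n)
    (E : GrLC.StarInjRes 𝒜 𝒜) {g : ℤ} {x : R} (hx : x ∈ 𝒜 g) (hreg : x ∈ nonZeroDivisors R)
    {s : ℤ} {w : E.H a n} (hw : w ∈ E.Hgr a n s) : ∃ v ∈ E.Hgr a n (s - g), x • v = w := by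
  obtain ⟨v, hv⟩ := smul_surjective_H_top a n hn E hx hreg w
  refine ⟨(decompose (E.Hgr a n) v (s - g) : E.H a n), (decompose (E.Hgr a n) v (s - g)).2, ?_⟩
  have h := decompose_smul_of_mem 𝒜 (E.Hgr a n) hx v (s - g)
  rw [add_sub_cancel, hv, decompose_of_mem_same (E.Hgr a n) hw] at h
  exact h.symm

end Surj

end Groth.Agent.Helper20.GrInj
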