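import Mathlib
import Groth.Agent.Lib.Helper20.GrSoc3
import Groth.Agent.Lib.Helper20.GrMat6

/-!
# A graded module dual to a module with one-dimensional socle is a shift of the ring (helper20)
-/

open DirectSum Pointwise

namespace Groth.Agent.Helper20.GrInj

universe u

namespace GrPairing

variable {R : Type u} [CommRing R] {𝒜 : ℤ → AddSubgroup R} [GradedRing 𝒜]
  {C : Type u} [AddCommGroup C] [Module R C] {𝒞 : ℤ → AddSubgroup C}
  {H : Type u} [AddCommGroup H] [Module R H] {ℋ : ℤ → AddSubgroup H} (P : GrPairing 𝒜 𝒞 ℋ)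

theorem zero_right (c : C) : P.β c 0 = 0 := by
  have := P.add_right c 0 0
  rw [add_zero] at this
  exact left_eq_add.1 this

end GrPairing

section Assembly

variable {R : Type u} [CommRing R] [IsNoetherianRing R]
variable {𝒜 : ℤ → AddSubgroup R} [GradedRing 𝒜]
variable (hpos : ∀ n : ℤ, n < 0 → 𝒜 n = ⊥) (h0 : IsField (GrLC.deg0 𝒜)) (a : HomogeneousIdeal 𝒜)
  (hasp : a.toIdeal = Ideal.span (⋃ n ∈ Set.Ioi (0 : ℤ), (𝒜 n : Set R)))
variable {C : Type u} [AddCommGroup C] [Module R C] {𝒞 : ℤ → AddSubgroup C}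
  [DirectSum.Decomposition 𝒞] [SetLike.GradedSMul 𝒜 𝒞]
variable {H : Type u} [AddCommGroup H] [Module R H] {ℋ : ℤ → AddSubgroup H}
  [SetLike.GradedSMul 𝒜 ℋ]
variable (P : GrPairing 𝒜 𝒞 ℋ)
  (htor : ∀ w : H, ∃ n : ℕ, ∀ r ∈ a.toIdeal ^ n, r • w = 0)
  (d : ℤ) (hsoc : IsSocAt 𝒜 a.toIdeal ℋ (-d))
  (hB : ∀ (i : ℤ) (r : R), r ∈ 𝒜 i → r ≠ 0 → ∃ h ∈ ℋ (-d - i), r • h ≠ 0)

include hpos h0 hasp P htor hsoc hB in
/-- **a graded module dual to a module with one-dimensional socle in degree `-d`, on which nonzero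
homogeneous elements do not act as zero, is isomorphic to `R(-d)`** -/
theorem exists_bijective_of_isSocAt :
    ∃ f : R →ₗ[R] C, Function.Bijective f ∧ GrLC.IsGrHomDeg 𝒜 𝒞 f d := by
  classical
  have hsm : ∀ (i j : ℤ) (r : R) (w : H), r ∈ 𝒜 i → w ∈ ℋ j → r • w ∈ ℋ (i + j) := by
    intro i j r w hr hw
    have := SetLike.GradedSMul.smul_mem (A := 𝒜) (B := ℋ) hr hw
    rwa [vadd_eq_add] at this
  have hsoc' := hsoc
  obtain ⟨hs1, w₀, hw₀, hw₀0, hw₀m, hgen⟩ := hsoc
  -- every element of degree `-d` lies in the socle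
  have hall : ∀ h ∈ ℋ (-d), ∀ r ∈ a.toIdeal, r • h = 0 := by
    intro h hh
    apply smul_eq_zero_of_homog a h
    intro l r hr hra
    rcases lt_trichotomy l 0 with hl | hl | hl
    · rw [hpos l hl, AddSubgroup.mem_bot] at hr
      rw [hr, zero_smul]
    · subst hl
      rw [eq_zero_of_mem_irrelevant_of_mem_zero hpos a hasp hr hra, zero_smul]
    · have h1 := hsm l (-d) r h hr hh
      rw [eq_bot_of_isSocAt_of_lt a hsm hpos htor hsoc' (show -d < l + -d by omega),
        AddSubgroup.mem_bot] at h1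
      exact h1
  have hgen' : ∀ h ∈ ℋ (-d), ∃ c ∈ 𝒜 0, h = c • w₀ := fun h hh => hgen h hh (hall h hh)
  have huniq : ∀ c ∈ 𝒜 0, c • w₀ = 0 → c = 0 := by
    intro c hc hcw
    by_contra hc0
    obtain ⟨s, _, hs⟩ := exists_mul_eq_one_of_mem_zero h0 hc hc0
    apply hw₀0
    rw [← one_smul R w₀, ← hs, mul_smul, hcw, smul_zero]
  -- the coordinate on `H_{-d}`
  let ℓ : H → R := fun h => if hh : ∃ c ∈ 𝒜 0, h = c • w₀ then Classical.choose hh else 0
  have hℓ : ∀ c ∈ 𝒜 0, ℓ (c • w₀) = c := by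
    intro c hc
    have hh : ∃ c' ∈ 𝒜 0, c • w₀ = c' • w₀ := ⟨c, hc, rfl⟩
    show (if hh : ∃ c' ∈ 𝒜 0, c • w₀ = c' • w₀ then Classical.choose hh else 0) = c
    rw [dif_pos hh]
    obtain ⟨h1, h2⟩ := Classical.choose_spec hh
    have h3 : (c - Classical.choose hh) • w₀ = 0 := by rw [sub_smul, ← h2, sub_self]
    have := huniq _ (sub_mem hc h1) h3
    exact (sub_eq_zero.1 this).symm
  have hℓmem : ∀ h ∈ ℋ (-d), ℓ h ∈ 𝒜 0 := by
    intro h hh
    obtain ⟨c, hc, rfl⟩ := hgen' h hh
    rw [hℓ c hc]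
    exact hc
  have hℓadd : ∀ h ∈ ℋ (-d), ∀ h' ∈ ℋ (-d), ℓ (h + h') = ℓ h + ℓ h' := by
    intro h hh h' hh'
    obtain ⟨c, hc, rfl⟩ := hgen' h hh
    obtain ⟨c', hc', rfl⟩ := hgen' h' hh'
    rw [← add_smul, hℓ _ (add_mem hc hc'), hℓ c hc, hℓ c' hc']
  have hℓsmul : ∀ s ∈ 𝒜 0, ∀ h ∈ ℋ (-d), ℓ (s • h) = s * ℓ h := by
    intro s hs h hh
    obtain ⟨c, hc, rfl⟩ := hgen' h hh
    have hsc : s * c ∈ 𝒜 0 := by
      have := SetLike.mul_mem_graded hs hc
      rwa [add_zero] at this
    rw [← mul_smul, hℓ _ hsc, hℓ c hc]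
  have hℓne : ∀ h ∈ ℋ (-d), h ≠ 0 → ℓ h ≠ 0 := by
    intro h hh hne hz
    obtain ⟨c, hc, rfl⟩ := hgen' h hh
    rw [hℓ c hc] at hz
    rw [hz, zero_smul] at hne
    exact hne rfl
  -- the generator of `C`
  obtain ⟨c₀, hc₀, hc₀β⟩ := P.repr d ℓ hℓmem hℓadd hℓsmul
  let f : R →ₗ[R] C := LinearMap.toSpanSingleton R C c₀
  have hf : ∀ r, f r = r • c₀ := fun r => LinearMap.toSpanSingleton_apply R C c₀ r
  have hfdeg : GrLC.IsGrHomDeg 𝒜 𝒞 f d := by
    intro g r hr
    rw [hf]
    have := SetLike.GradedSMul.smul_mem (A := 𝒜) (B := 𝒞) hr hc₀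
    rwa [vadd_eq_add] at this
  have hkey : ∀ (i : ℤ) (r : R), r ∈ 𝒜 i → ∀ h ∈ ℋ (-d - i), P.β (r • c₀) h = ℓ (r • h) := by
    intro i r hr h hh
    rw [P.smul_left]
    apply hc₀β
    have := hsm i (-d - i) r h hr hh
    rwa [add_sub_cancel] at this
  -- injectivity on pieces
  have hinj1 : ∀ (i : ℤ) (r : R), r ∈ 𝒜 i → r • c₀ = 0 → r = 0 := by
    intro i r hr hrc
    by_contra hr0
    obtain ⟨h, hh, hrh⟩ := hB i r hr hr0
    have h1 := hkey i r hr h hh
    rw [hrc, P.zero_left] at h1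
    have hmem : r • h ∈ ℋ (-d) := by
      have := hsm i (-d - i) r h hr hh
      rwa [add_sub_cancel] at this
    exact hℓne _ hmem hrh h1.symm
  refine ⟨f, ⟨?_, ?_⟩, hfdeg⟩
  · rw [injective_iff_map_eq_zero]
    intro r hr
    rw [hf] at hr
    rw [← sum_support_decompose 𝒜 r]
    apply Finset.sum_eq_zero
    intro i _
    apply hinj1 i _ (decompose 𝒜 r i).2
    rw [← decompose_smul_homog_right 𝒜 𝒞 hc₀ r i, hr, decompose_zero, DirectSum.zero_apply,
      ZeroMemClass.coe_zero]
  · -- surjectivity on pieces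
    have hsurj1 : ∀ (j : ℤ) (c : C), c ∈ 𝒞 j → ∃ r : R, f r = c := by
      intro j c hc
      by_cases hjd : j < d
      · refine ⟨0, ?_⟩
        rw [map_zero]
        symm
        apply P.nondeg j c hc
        intro h hh
        rw [eq_bot_of_isSocAt_of_lt a hsm hpos htor hsoc' (show -d < -j by omega),
          AddSubgroup.mem_bot] at hh
        rw [hh, P.zero_right]
      · push Not at hjd
        have hji : (j - d) + -j = -d := by ring
        have hdi : -d - (j - d) = -j := by ring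
        letI : Field ↥(GrLC.deg0 𝒜) := h0.toField
        -- the pairing `R_{j-d} × H_{-j} → R_0`
        have hmemV : ∀ (r : ↥(GrLC.comp 𝒜 𝒜 (j - d))) (h : ↥(GrLC.comp 𝒜 ℋ (-j))),
            (r : R) • (h : H) ∈ ℋ (-d) := by
          intro r h
          have := hsm (j - d) (-j) r.1 h.1 r.2 h.2
          rwa [hji] at this
        let b : ↥(GrLC.comp 𝒜 𝒜 (j - d)) →ₗ[GrLC.deg0 𝒜] ↥(GrLC.comp 𝒜 ℋ (-j)) →ₗ[GrLC.deg0 𝒜]
            GrLC.deg0 𝒜 :=
          LinearMap.mk₂ (GrLC.deg0 𝒜)
            (fun r h => ⟨ℓ ((r : R) • (h : H)), hℓmem _ (hmemV r h)⟩)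
            (by
              intro r r' h
              apply Subtype.ext
              show ℓ (((r : R) + (r' : R)) • (h : H)) = ℓ ((r : R) • (h : H)) + ℓ ((r' : R) • (h : H))
              rw [add_smul]
              exact hℓadd _ (hmemV r h) _ (hmemV r' h))
            (by
              intro s r h
              apply Subtype.ext
              show ℓ (((s : R) * (r : R)) • (h : H)) = (s : R) * ℓ ((r : R) • (h : H))
              rw [mul_smul]
              exact hℓsmul s.1 s.2 _ (hmemV r h))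
            (by
              intro r h h'
              apply Subtype.ext
              show ℓ ((r : R) • ((h : H) + (h' : H))) = ℓ ((r : R) • (h : H)) + ℓ ((r : R) • (h' : H))
              rw [smul_add]
              exact hℓadd _ (hmemV r h) _ (hmemV r h'))
            (by
              intro s r h
              apply Subtype.ext
              show ℓ ((r : R) • ((s : R) • (h : H))) = (s : R) * ℓ ((r : R) • (h : H))
              rw [smul_comm]
              exact hℓsmul s.1 s.2 _ (hmemV r h))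
        have hb : ∀ r h, ((b r h : GrLC.deg0 𝒜) : R) = ℓ ((r : R) • (h : H)) := fun _ _ => rfl
        have hbinj : Function.Injective b := by
          rw [injective_iff_map_eq_zero]
          intro r hr
          by_contra hr0
          have hr0' : (r : R) ≠ 0 := fun h => hr0 (Subtype.ext h)
          obtain ⟨h, hh, hrh⟩ := hB (j - d) r.1 r.2 hr0'
          rw [hdi] at hh
          have h1 := hb r ⟨h, hh⟩
          rw [hr] at h1
          exact hℓne _ (hmemV r ⟨h, hh⟩) hrh h1.symm
        have hbflip : Function.Injective b.flip := by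
          rw [injective_iff_map_eq_zero]
          intro h hh
          by_contra hne
          have hne' : (h : H) ≠ 0 := fun h' => hne (Subtype.ext h')
          obtain ⟨_, r, hr, hrh⟩ := exists_smul_ne_zero_of_isSocAt a hsm hpos htor hsoc'
            (show (h : H) ∈ ℋ (-j) from h.2) hne'
          have hr' : r ∈ 𝒜 (j - d) := by
            have : -d - -j = j - d := by ring
            rwa [this] at hr
          have h1 := hb ⟨r, hr'⟩ h
          have h2 : b ⟨r, hr'⟩ h = b.flip h ⟨r, hr'⟩ := rfl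
          rw [h2, hh] at h1
          exact hℓne _ (hmemV ⟨r, hr'⟩ h) hrh h1.symm
        haveI : IsNoetherian R R := inferInstance
        haveI : IsNoetherian (GrLC.deg0 𝒜) (GrLC.comp 𝒜 𝒜 (j - d)) :=
          comp_isNoetherian (𝒜 := 𝒜) (ℳ := 𝒜) (j - d)
        haveI : FiniteDimensional ↥(GrLC.deg0 𝒜) ↥(GrLC.comp 𝒜 𝒜 (j - d)) :=
          Module.IsNoetherian.finite _ _
        haveI := LinearMap.IsPerfPair.of_injective hbinj hbflip
        let φc : ↥(GrLC.comp 𝒜 ℋ (-j)) →ₗ[GrLC.deg0 𝒜] GrLC.deg0 𝒜 :=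
          { toFun := fun h => ⟨P.β c (h : H), P.mem _ _⟩
            map_add' := by
              intro h h'
              apply Subtype.ext
              show P.β c ((h : H) + (h' : H)) = P.β c (h : H) + P.β c (h' : H)
              exact P.add_right _ _ _
            map_smul' := by
              intro s h
              apply Subtype.ext
              show P.β c ((s : R) • (h : H)) = (s : R) * P.β c (h : H)
              exact P.smul_right s.1 s.2 _ _ }
        let r := b.toPerfPair.symm φc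
        have hr : b r = φc := b.apply_symm_toPerfPair_self φc
        refine ⟨r.1, ?_⟩
        rw [hf]
        have hrc : (r : R) • c₀ ∈ 𝒞 j := by
          have := SetLike.GradedSMul.smul_mem (A := 𝒜) (B := 𝒞) r.2 hc₀
          rw [vadd_eq_add, sub_add_cancel] at this
          exact this
        apply P.eq_of_forall hrc hc
        intro h hh
        have hh' : h ∈ ℋ (-d - (j - d)) := by rwa [hdi]
        rw [hkey (j - d) r.1 r.2 h hh']
        have h1 := hb r ⟨h, hh⟩
        rw [hr] at h1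
        exact h1.symm
    intro c
    rw [← sum_support_decompose 𝒞 c]
    have hmem : ∀ j ∈ (decompose 𝒞 c).support, (decompose 𝒞 c j : C) ∈ LinearMap.range f := by
      intro j _
      obtain ⟨r, hr⟩ := hsurj1 j _ (decompose 𝒞 c j).2
      exact ⟨r, hr⟩
    exact Submodule.sum_mem _ hmem

end Assembly

end Groth.Agent.Helper20.GrInj
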