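import Mathlib
import Groth.Prelude
import Groth.Agent.Lib.Helper20.GorBr2
import Groth.Agent.Lib.Helper20.GrSoc4
import Groth.Agent.Lib.Helper20.GrMat5

/-!
# Graded socles versus ungraded socles (helper20)
-/

open DirectSum

namespace Groth.Agent.Helper20.GorBr

open Groth.Agent.Helper20.GrInj

universe u

variable {R : Type u} [CommRing R] {𝒜 : ℤ → AddSubgroup R} [GradedRing 𝒜]

section Socle

variable {W : Type u} [AddCommGroup W] [Module R W] {𝒲 : ℤ → AddSubgroup W}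
  [DirectSum.Decomposition 𝒲] [SetLike.GradedSMul 𝒜 𝒲] (a : HomogeneousIdeal 𝒜)

/-- the components of a socle element lie in the socle -/
theorem smul_decompose_eq_zero {w : W} (hw : ∀ r ∈ a.toIdeal, r • w = 0) (j : ℤ) :
    ∀ r ∈ a.toIdeal, r • (decompose 𝒲 w j : W) = 0 := by
  apply smul_eq_zero_of_homog a
  intro l r hr hra
  have h := decompose_smul_of_mem 𝒜 𝒲 hr w j
  rw [hw r hra, decompose_zero, DirectSum.zero_apply, ZeroMemClass.coe_zero] at h
  exact h.symm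

/-- a one-dimensional graded socle gives a cyclic socle -/
theorem socSimple_of_isSocAt {s : ℤ} (hs : IsSocAt 𝒜 a.toIdeal 𝒲 s) : SocSimple a.toIdeal W := by
  classical
  obtain ⟨h1, w₀, hw₀, hw₀0, hw₀m, hgen⟩ := hs
  refine ⟨w₀, hw₀0, hw₀m, fun w hw => ?_⟩
  have hcomp : ∀ j, j ≠ s → (decompose 𝒲 w j : W) = 0 := by
    intro j hj
    by_contra hne
    exact hj (h1 j _ (decompose 𝒲 w j).2 hne (smul_decompose_eq_zero a hw j))
  have hws : w = (decompose 𝒲 w s : W) := by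
    conv_lhs => rw [← sum_support_decompose 𝒲 w]
    by_cases hmem : s ∈ (decompose 𝒲 w).support
    · rw [Finset.sum_eq_single_of_mem s hmem]
      intro j _ hj
      exact hcomp j hj
    · rw [DFinsupp.notMem_support_iff] at hmem
      rw [hmem, ZeroMemClass.coe_zero]
      apply Finset.sum_eq_zero
      intro j hj
      by_cases hjs : j = s
      · subst hjs
        rw [hmem, ZeroMemClass.coe_zero]
      · exact hcomp j hjs
  obtain ⟨c, -, hc⟩ := hgen _ (decompose 𝒲 w s).2 (smul_decompose_eq_zero a hw s)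
  exact ⟨c, hws.trans hc⟩

variable (hpos : ∀ n : ℤ, n < 0 → 𝒜 n = ⊥) (h0 : IsField (GrLC.deg0 𝒜))
  (hasp : a.toIdeal = Ideal.span (⋃ n ∈ Set.Ioi (0 : ℤ), (𝒜 n : Set R)))

include hpos hasp in
theorem smul_eq_decompose_zero_smul {w : W} (hw : ∀ r ∈ a.toIdeal, r • w = 0) (c : R) :
    c • w = (decompose 𝒜 c 0 : R) • w := by
  have h := hw _ (sub_decompose_zero_mem hpos a hasp c)
  rw [sub_smul, sub_eq_zero] at h
  exact h

include hpos h0 hasp in
/-- a cyclic socle of a graded module is one-dimensional and concentrated in one degree -/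
theorem exists_isSocAt_of_socSimple (h : SocSimple a.toIdeal W) :
    ∃ s : ℤ, IsSocAt 𝒜 a.toIdeal 𝒲 s := by
  classical
  obtain ⟨w₀, hw₀0, hw₀m, hgen⟩ := h
  have hsm : ∀ (i j : ℤ) (r : R) (w : W), r ∈ 𝒜 i → w ∈ 𝒲 j → r • w ∈ 𝒲 (i + j) := by
    intro i j r w hr hw
    have := SetLike.GradedSMul.smul_mem (A := 𝒜) (B := 𝒲) hr hw
    rwa [vadd_eq_add] at this
  -- a nonzero component of `w₀`
  have hex : ∃ s, (decompose 𝒲 w₀ s : W) ≠ 0 := by
    by_contra hall
    push Not at hall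
    apply hw₀0
    rw [← sum_support_decompose 𝒲 w₀]
    exact Finset.sum_eq_zero (fun j _ => hall j)
  obtain ⟨s, hs⟩ := hex
  refine ⟨s, ?_⟩
  set v : W := (decompose 𝒲 w₀ s : W) with hv
  have hvmem : v ∈ 𝒲 s := (decompose 𝒲 w₀ s).2
  have hvm : ∀ r ∈ a.toIdeal, r • v = 0 := smul_decompose_eq_zero a hw₀m s
  -- `w₀` is a degree zero multiple of `v`
  obtain ⟨c, hc⟩ := hgen v hvm
  rw [smul_eq_decompose_zero_smul a hpos hasp hw₀m c] at hc
  have hc0 : (decompose 𝒜 c 0 : R) ≠ 0 := by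
    intro h
    rw [h, zero_smul] at hc
    exact hs hc
  obtain ⟨u, hu, huc⟩ := exists_mul_eq_one_of_mem_zero h0 (decompose 𝒜 c 0).2 hc0
  have hw₀v : w₀ = u • v := by
    rw [hc, smul_smul, huc, one_smul]
  have hw₀mem : w₀ ∈ 𝒲 s := by
    rw [hw₀v]
    have := hsm 0 s u v hu hvmem
    rwa [zero_add] at this
  refine ⟨?_, w₀, hw₀mem, hw₀0, hw₀m, ?_⟩
  · intro j w hw hw0 hwm
    obtain ⟨c', hc'⟩ := hgen w hwm
    rw [smul_eq_decompose_zero_smul a hpos hasp hw₀m c'] at hc'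
    have hmem : w ∈ 𝒲 s := by
      rw [hc']
      have := hsm 0 s _ w₀ (decompose 𝒜 c' 0).2 hw₀mem
      rwa [zero_add] at this
    exact DirectSum.degree_eq_of_mem_mem 𝒲 hw hmem hw0
  · intro w _ hwm
    obtain ⟨c', hc'⟩ := hgen w hwm
    rw [smul_eq_decompose_zero_smul a hpos hasp hw₀m c'] at hc'
    exact ⟨_, (decompose 𝒜 c' 0).2, hc'⟩

end Socle

section Hull

variable [IsNoetherianRing R]
variable (hpos : ∀ n : ℤ, n < 0 → 𝒜 n = ⊥) (h0 : IsField (GrLC.deg0 𝒜)) (m : HomogeneousIdeal 𝒜)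
  (hmsp : m.toIdeal = Ideal.span (⋃ n ∈ Set.Ioi (0 : ℤ), (𝒜 n : Set R)))
variable {E' : Type u} [AddCommGroup E'] [Module R E'] {𝓔 : ℤ → AddSubgroup E'}
  [DirectSum.Decomposition 𝓔] [SetLike.GradedSMul 𝒜 𝓔]
  (e : (R ⧸ m.toIdeal) →ₗ[R] E') (he : GrLC.IsStarInjHull 𝒜 (GrLC.quotGr 𝒜 m) 𝓔 e)

include hpos h0 hmsp he in
/-- the socle of the *injective hull of `R/m` is `R/m`, in degree zero -/
theorem isSocAt_hull : IsSocAt 𝒜 m.toIdeal 𝓔 0 := by
  refine ⟨?_, hullGen m e, hullGen_mem hpos m hmsp e he, ?_, ?_, ?_⟩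
  · intro j x hx hx0 hxm
    obtain ⟨r, hr, hrx, -⟩ := hull_exists_smul_ne_zero hpos m hmsp e he hx hx0
    rcases lt_trichotomy j 0 with hj | hj | hj
    · exfalso
      apply hrx
      apply hxm
      rw [hmsp]
      apply Ideal.subset_span
      simp only [Set.mem_iUnion, Set.mem_Ioi, SetLike.mem_coe, exists_prop]
      exact ⟨-j, by omega, hr⟩
    · exact hj
    · exact absurd (hull_eq_zero_of_pos hpos m hmsp e he hj hx) hx0
  · intro h
    have h1 : (1 : R) • hullGen m e = 0 := by rw [one_smul, h]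
    have := eq_zero_of_smul_hullGen hpos m hmsp e he SetLike.GradedOne.one_mem h1
    exact one_ne_zero_of_isField h0 this
  · intro r hr
    rw [smul_hullGen, Ideal.Quotient.eq_zero_iff_mem.2 hr, map_zero]
  · intro w hw _
    obtain ⟨c, hc, hcw⟩ := exists_smul_hullGen_eq_of_mem_zero hpos h0 m hmsp e he hw
    exact ⟨c, hc, hcw.symm⟩

end Hull

end Groth.Agent.Helper20.GorBr
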