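import Mathlib
import Groth.Prelude
import Groth.Agent.Lib.Helper20.GorBr3
import Groth.Agent.Lib.Helper20.Lau5
import Groth.Agent.Lib.Helper20.GrArt3

/-!
# Gorenstein graded rings over a field: `K_R ≅ R(a)` (helper20)
-/

open DirectSum IsLocalRing

namespace Groth.Agent.Helper20.GorBr

open Groth.Agent.Helper20.GrInj Groth.Agent.Helper8 Groth.Agent.Helper8.Gor

universe u

variable {R : Type u} [CommRing R] [IsNoetherianRing R] {𝒜 : ℤ → AddSubgroup R} [GradedRing 𝒜]
variable (hpos : ∀ n : ℤ, n < 0 → 𝒜 n = ⊥) (h0 : IsField (GrLC.deg0 𝒜)) (m : HomogeneousIdeal 𝒜)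
  (hm : GrLC.IsStarLocal 𝒜 m)
  (hmsp : m.toIdeal = Ideal.span (⋃ n ∈ Set.Ioi (0 : ℤ), (𝒜 n : Set R)))
  (n : ℕ) (hn : ringKrullDim R = n) (I : GrLC.StarInjRes 𝒜 𝒜)

include hpos hm hn in
theorem ringKrullDim_localization_eq [m.toIdeal.IsPrime] :
    ringKrullDim (Localization.AtPrime m.toIdeal) = n := by
  have hmax : m.toIdeal.IsMaximal := isMaximal_of_isStarLocal hpos m hm
  rw [IsLocalization.AtPrime.ringKrullDim_eq_height m.toIdeal,
    ← ringKrullDim_eq_height_of_isStarLocal m hm hmax, hn]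

include hpos hm in
/-- the graded socle criterion: if `H^i_m(R) = 0` for `i ≠ n` and the socle of `H^n_m(R)` is
one-dimensional then `R` is Gorenstein -/
theorem isGorensteinRing_of_isSocAt (hvan : ∀ i : ℕ, i ≠ n → Subsingleton (I.H m i)) {s : ℤ}
    (hsoc : IsSocAt 𝒜 m.toIdeal (I.Hgr m n) s) : LocCoh.IsGorensteinRing R := by
  haveI hmax : m.toIdeal.IsMaximal := isMaximal_of_isStarLocal hpos m hm
  haveI : m.toIdeal.IsPrime := hmax.isPrime
  haveI : IsNoetherianRing (Localization.AtPrime m.toIdeal) :=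
    IsLocalization.isNoetherianRing m.toIdeal.primeCompl _ inferInstance
  letI := HgrDec I m n
  letI := Hgr_gradedSMul I m n
  refine Groth.Agent.Helper20.Lau.isGorensteinRing_of_isStarLocal 𝒜 m hm ?_
  rw [gorenstein_iff_socle]
  refine ⟨n, fun i hi => ?_, ?_⟩
  · rw [lc_subsingleton_iff]
    obtain ⟨eH⟩ := nonempty_H_equiv_LC I m i
    haveI := hvan i hi
    exact eH.symm.toEquiv.subsingleton
  · rw [lc_socle_iff]
    obtain ⟨eH⟩ := nonempty_H_equiv_LC I m n
    exact (socSimple_of_isSocAt m hsoc).of_linearEquiv eH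

include hpos h0 hm hmsp hn in
/-- for a Gorenstein graded ring over a field, the socle of `H^n_m(R)` is one-dimensional, and
`H^n_m(R)` is faithful -/
theorem exists_isSocAt_of_isGorensteinRing [hG : LocCoh.IsGorensteinRing R] :
    (∀ i : ℕ, i ≠ n → Subsingleton (I.H m i)) ∧
    ∃ s : ℤ, IsSocAt 𝒜 m.toIdeal (I.Hgr m n) s ∧
      ∀ (i : ℤ) (r : R), r ∈ 𝒜 i → r ≠ 0 → ∃ h ∈ I.Hgr m n (s - i), r • h ≠ 0 := by
  classical
  haveI hmax : m.toIdeal.IsMaximal := isMaximal_of_isStarLocal hpos m hm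
  haveI : m.toIdeal.IsPrime := hmax.isPrime
  haveI hGA : LocCoh.IsGorensteinLocalRing (Localization.AtPrime m.toIdeal) :=
    hG.isGorensteinLocalRing_localization m.toIdeal
  letI := HgrDec I m n
  letI := Hgr_gradedSMul I m n
  have hdimA := ringKrullDim_localization_eq hpos m hm n hn
  obtain ⟨hvanA, hsocA, hfaithA⟩ := gorenstein_facts (Localization.AtPrime m.toIdeal) n hdimA
  obtain ⟨eH⟩ := nonempty_H_equiv_LC I m n
  refine ⟨fun i hi => ?_, ?_⟩
  · obtain ⟨eH'⟩ := nonempty_H_equiv_LC I m i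
    haveI := (lc_subsingleton_iff m.toIdeal i).1 (hvanA i hi)
    exact eH'.toEquiv.subsingleton
  have hSS : SocSimple m.toIdeal (I.H m n) :=
    ((lc_socle_iff m.toIdeal n).1 hsocA).of_linearEquiv eH.symm
  obtain ⟨s, hs⟩ := exists_isSocAt_of_socSimple (𝒲 := I.Hgr m n) m hpos h0 hmsp hSS
  refine ⟨s, hs, ?_⟩
  intro i r hr hr0
  have hsm : ∀ (i j : ℤ) (r : R) (w : I.H m n), r ∈ 𝒜 i → w ∈ I.Hgr m n j →
      r • w ∈ I.Hgr m n (i + j) := by
    intro i j r w hr hw
    have := SetLike.GradedSMul.smul_mem (A := 𝒜) (B := I.Hgr m n) hr hw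
    rwa [vadd_eq_add] at this
  -- `r` survives in the localization
  have hrA : algebraMap R (Localization.AtPrime m.toIdeal) r ≠ 0 := by
    intro h
    obtain ⟨t, ht⟩ := (IsLocalization.map_eq_zero_iff m.toIdeal.primeCompl _ r).1 h
    have h1 := DirectSum.coe_decompose_mul_add_of_right_mem 𝒜 (i := 0) (j := i) (a := (t : R)) hr
    rw [ht, decompose_zero, DirectSum.zero_apply, ZeroMemClass.coe_zero] at h1
    have h2 : (decompose 𝒜 (t : R) 0 : R) ≠ 0 := by
      intro h3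
      apply t.2
      have := sub_decompose_zero_mem hpos m hmsp (t : R)
      rwa [h3, sub_zero] at this
    obtain ⟨u, -, hu⟩ := exists_mul_eq_one_of_mem_zero h0 (decompose 𝒜 (t : R) 0).2 h2
    apply hr0
    rw [← one_mul r, ← hu, mul_assoc, ← h1, mul_zero]
  obtain ⟨w, hw⟩ := lc_faithful m.toIdeal n hfaithA r hrA
  have hw' : r • eH.symm w ≠ 0 := by
    intro h
    apply hw
    rw [← map_smul] at h
    exact (LinearEquiv.map_eq_zero_iff _).1 h
  -- a homogeneous component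
  have hex : ∃ j, r • (decompose (I.Hgr m n) (eH.symm w) j : I.H m n) ≠ 0 := by
    by_contra hall
    push Not at hall
    apply hw'
    rw [← sum_support_decompose (I.Hgr m n) (eH.symm w), Finset.smul_sum]
    exact Finset.sum_eq_zero (fun j _ => hall j)
  obtain ⟨j, hj⟩ := hex
  set v : I.H m n := (decompose (I.Hgr m n) (eH.symm w) j : I.H m n) with hv
  have hvmem : v ∈ I.Hgr m n j := (decompose (I.Hgr m n) (eH.symm w) j).2
  have htor := exists_pow_smul_H_eq_zero I m n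
  obtain ⟨-, r', hr', hr'v⟩ := exists_smul_ne_zero_of_isSocAt m hsm hpos htor hs
    (hsm i j r v hr hvmem) hj
  refine ⟨r' • v, ?_, ?_⟩
  · have := hsm _ _ r' v hr' hvmem
    have hdeg : s - (i + j) + j = s - i := by ring
    rwa [hdeg] at this
  · rw [smul_comm]
    exact hr'v

include hpos hm hn in
/-- Cohen–Macaulay variant of the socle criterion -/
theorem isGorensteinRing_of_socSimple_of_CM [hCM : LocCoh.IsCohenMacaulayRing R]
    (hSS : SocSimple m.toIdeal (I.H m n)) : LocCoh.IsGorensteinRing R := by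
  haveI hmax : m.toIdeal.IsMaximal := isMaximal_of_isStarLocal hpos m hm
  haveI : m.toIdeal.IsPrime := hmax.isPrime
  haveI : LocCoh.IsCohenMacaulayLocalRing (Localization.AtPrime m.toIdeal) :=
    hCM.isCohenMacaulayLocalRing_localization m.toIdeal
  have hdimA := ringKrullDim_localization_eq hpos m hm n hn
  obtain ⟨eH⟩ := nonempty_H_equiv_LC I m n
  exact Groth.Agent.Helper20.Lau.isGorensteinRing_of_isStarLocal 𝒜 m hm
    (isGorenstein_of_socle hdimA ((lc_socle_iff m.toIdeal n).2 (hSS.of_linearEquiv eH)))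

section Canonical

variable {E' : Type u} [AddCommGroup E'] [Module R E'] {𝓔 : ℤ → AddSubgroup E'}
  [DirectSum.Decomposition 𝓔] [SetLike.GradedSMul 𝒜 𝓔]
  (e : (R ⧸ m.toIdeal) →ₗ[R] E') (he : GrLC.IsStarInjHull 𝒜 (GrLC.quotGr 𝒜 m) 𝓔 e)
variable {C : Type u} [AddCommGroup C] [Module R C] {𝒞 : ℤ → AddSubgroup C}
  [DirectSum.Decomposition 𝒞] [SetLike.GradedSMul 𝒜 𝒞]

include hpos h0 hm hmsp hn he in
/-- **a Cohen–Macaulay graded ring over a field is Gorenstein iff `K_R ≅ R(a)`** -/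
theorem isGorensteinRing_iff_exists_shift [hCM : LocCoh.IsCohenMacaulayRing R]
    (hC : GrLC.IsStarCanonical 𝒜 𝒞 𝓔 m n I) :
    LocCoh.IsGorensteinRing R ↔
      ∃ (a : ℤ) (f : R →ₗ[R] C), Function.Bijective f ∧ GrLC.IsGrHomDeg 𝒜 𝒞 f a := by
  constructor
  · intro hG
    haveI := hG
    letI := HgrDec I m n
    letI := Hgr_gradedSMul I m n
    obtain ⟨-, s, hs, hB⟩ := exists_isSocAt_of_isGorensteinRing hpos h0 m hm hmsp n hn I
    obtain ⟨P⟩ := exists_grPairing_of_isStarCanonical hpos h0 m hmsp e he n I hC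
    have htor := exists_pow_smul_H_eq_zero I m n
    have hs' : IsSocAt 𝒜 m.toIdeal (I.Hgr m n) (-(-s)) := by rw [neg_neg]; exact hs
    have hB' : ∀ (i : ℤ) (r : R), r ∈ 𝒜 i → r ≠ 0 → ∃ h ∈ I.Hgr m n (-(-s) - i), r • h ≠ 0 := by
      intro i r hr hr0
      rw [neg_neg]
      exact hB i r hr hr0
    obtain ⟨f, hf, hfd⟩ := exists_bijective_of_isSocAt hpos h0 m hmsp P htor (-s) hs' hB'
    exact ⟨-s, f, hf, hfd⟩
  · rintro ⟨a, f, hfbij, -⟩
    obtain ⟨-, φ, -⟩ := hC
    let eC : R ≃ₗ[R] C := LinearEquiv.ofBijective f hfbij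
    let e1 : (C →ₗ[R] E') ≃ₗ[R] (R →ₗ[R] E') :=
      LinearEquiv.arrowCongr eC.symm (LinearEquiv.refl R E')
    let e2 : (R →ₗ[R] E') ≃ₗ[R] E' := LinearMap.ringLmapEquivSelf R R E'
    have h1 : SocSimple m.toIdeal E' :=
      socSimple_of_isSocAt m (isSocAt_hull hpos h0 m hmsp e he)
    exact isGorensteinRing_of_socSimple_of_CM hpos m hm n hn I
      (h1.of_linearEquiv (e2.symm ≪≫ₗ e1.symm ≪≫ₗ φ))

end Canonical

end Groth.Agent.Helper20.GorBr
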