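import Mathlib
import Groth.Prelude
import Groth.Agent.Lib.Helper8.Gor8
import Groth.Agent.Lib.Helper8.ExtLoc1
import Groth.Agent.Lib.Helper20.GorBr2

/-!
# The type of a Cohen–Macaulay local ring via the socle of top local cohomology (helper20)
-/

set_option autoImplicit false

open TensorProduct IsLocalRing CategoryTheory Abelian

namespace Groth.Agent.Helper20.GorType

open Groth.Agent.Helper8 Groth.Agent.Helper8.LC Groth.Agent.Helper8.Gor
  Groth.Agent.Helper8.Canon Groth.Agent.Helper20.GorBr

universe u

section Length

/-- the length of a module killed by `J` does not change under restriction of scalars along a ring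
homomorphism which is surjective modulo `J` -/
theorem length_eq_of_smul_eq {K A X : Type*} [CommRing K] [CommRing A] [AddCommGroup X]
    [Module K X] [Module A X] (σ : K →+* A) (hsmul : ∀ (c : K) (x : X), c • x = σ c • x)
    (J : Ideal A) (hσ : ∀ a : A, ∃ c : K, a - σ c ∈ J) (hJ : ∀ j ∈ J, ∀ x : X, j • x = 0) :
    Module.length K X = Module.length A X := by
  let toK : Submodule A X → Submodule K X := fun N =>
    { carrier := N
      add_mem' := N.add_mem
      zero_mem' := N.zero_mem
      smul_mem' := fun c x hx => by
        rw [hsmul]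
        exact N.smul_mem _ hx }
  let toA : Submodule K X → Submodule A X := fun P =>
    { carrier := P
      add_mem' := P.add_mem
      zero_mem' := P.zero_mem
      smul_mem' := fun a x hx => by
        obtain ⟨c, hc⟩ := hσ a
        have h1 : a • x = c • x := by
          rw [hsmul, ← sub_eq_zero, ← sub_smul]
          exact hJ _ hc x
        rw [h1]
        exact P.smul_mem c hx }
  let e : Submodule K X ≃o Submodule A X :=
    { toFun := toA
      invFun := toK
      left_inv := fun _ => rfl
      right_inv := fun _ => rfl
      map_rel_iff' := Iff.rfl }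
  rw [Module.length, Module.length, WithBot.unbot_inj, Order.krullDim_eq_of_orderIso e]

end Length

section CM

variable (A : Type u) [CommRing A] [IsLocalRing A] [IsNoetherianRing A]

/-- local cohomology concentrated in one degree: Cohen–Macaulay of that dimension -/
theorem isCM_of_vanishing (d : ℕ)
    (hvan : ∀ i : ℕ, i ≠ d → Subsingleton (H (maximalIdeal A) i A)) :
    LocCoh.IsCohenMacaulayLocalRing A ∧ ringKrullDim A = d := by
  have hn := ringKrullDim_eq_of_vanishing A d hvan
  obtain ⟨t, ht⟩ := exists_nat_depth_eq (R := A) A
  have h2 : Nontrivial (H (maximalIdeal A) t A) := nontrivial_H_depth A t ht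
  have htd : t = d := by
    by_contra h
    have := hvan t h
    exact not_subsingleton _ this
  subst htd
  refine ⟨{ supportDim_eq_depth := ?_ }, hn⟩
  rw [Module.supportDim_self_eq_ringKrullDim, hn, ht]
  rfl

end CM

section TypeCM

variable {R : Type u} [CommRing R] [hCM : LocCoh.IsCohenMacaulayLocalRing R] {n : ℕ}

/-- **the type of a Cohen–Macaulay local ring is the length of the socle of its top local
cohomology** -/
theorem length_ext_eq_length_socle (hn : ringKrullDim R = n) :
    Module.length R (Ext (ModuleCat.of R (ResidueField R)) (ModuleCat.of R R) n) =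
      Module.length R
        (Submodule.torsionBySet R (H (maximalIdeal R) n R) (maximalIdeal R : Set R)) := by
  have hlo : ∀ i < n, Subsingleton (Ext (ModuleCat.of R (ResidueField R)) (ModuleCat.of R R) i) :=
    fun i hi => ext_residueField_subsingleton_of_lt hn i hi
  obtain ⟨E, _, _, f, hf⟩ := Groth.Agent.Helper1.exists_injectiveHull (R := R) (ResidueField R)
  obtain ⟨rs, hlen, hreg, hmem⟩ := Groth.Agent.Lead.Depth.exists_of_le_idealDepth
    (maximalIdeal R) R (maximalIdeal_smul_top_ne_top (R := R) (M := R)) n (depth_eq_of_CM hn).ge
  obtain ⟨hfl, hnt, ⟨e⟩, -⟩ := quotient_facts hn hf rs hlen hreg hmem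
  have hkillk : ∀ r ∈ rs, ∀ y : ResidueField R, r • y = 0 := fun r hr y =>
    Matlis.residue_smul_eq_zero r (hmem r hr) y
  obtain ⟨ek⟩ := rees rs R (ResidueField R) hreg hkillk (by rw [hlen]; exact hlo)
  rw [hlen] at ek
  rw [ek.length_eq]
  refine ((homQuotEquivTorsion (maximalIdeal R) _).length_eq).trans ?_
  exact ((torsionTorsionEquiv (H (maximalIdeal R) n R) {y | y ∈ rs} (maximalIdeal R : Set R)
    (fun y hy => hmem y hy) ≪≫ₗ Uniq.torsionBySetCongr e _).length_eq).symm

end TypeCM

end Groth.Agent.Helper20.GorType
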