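import Mathlib
import Groth.Prelude
import Groth.Agent.Lib.Helper20.GorType1

/-!
# The Bass number `μ_n(m, R)` at a maximal ideal via the socle of `H^n_m(R)` (helper20)
-/

set_option autoImplicit false

open TensorProduct IsLocalRing CategoryTheory Abelian

namespace Groth.Agent.Helper20.GorType

open Groth.Agent.Helper8 Groth.Agent.Helper8.LC Groth.Agent.Helper8.Gor
  Groth.Agent.Helper8.Canon Groth.Agent.Helper20.GorBr

universe u

section Bass

variable {R : Type u} [CommRing R] [IsNoetherianRing R] (m : Ideal R) [hm : m.IsMaximal]

theorem exists_sub_algebraMap_mem (a : Localization.AtPrime m) :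
    ∃ c : R, a - algebraMap R (Localization.AtPrime m) c ∈
      maximalIdeal (Localization.AtPrime m) := by
  obtain ⟨r, s, rfl⟩ := IsLocalization.exists_mk'_eq m.primeCompl a
  obtain ⟨y, i, hi, hyi⟩ := Ideal.IsMaximal.exists_inv_pow m s.2 1
  rw [pow_one] at hi
  refine ⟨y * r, ?_⟩
  have hu : IsUnit (algebraMap R (Localization.AtPrime m) s) :=
    IsLocalization.map_units (Localization.AtPrime m) s
  rw [← Ideal.unit_mul_mem_iff_mem _ hu, mul_sub, mul_comm, IsLocalization.mk'_spec,
    ← map_mul, ← map_sub]
  rw [IsLocalization.AtPrime.to_map_mem_maximal_iff (Localization.AtPrime m) m]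
  have : r - (s : R) * (y * r) = r * i := by
    have h1 : i = 1 - y * s := by rw [← hyi]; ring
    rw [h1]; ring
  rw [this]
  exact m.mul_mem_left r hi

/-- the socle of `H` and the socle of `R_m ⊗ H` -/
noncomputable def socleIotaEquiv {H : Type u} [AddCommGroup H] [Module R H]
    (htors : ∀ x : H, ∃ k : ℕ, ∀ c ∈ m ^ k, c • x = 0) :
    Submodule.torsionBySet R H (m : Set R) ≃ₗ[R]
      Submodule.torsionBySet (Localization.AtPrime m) (Localization.AtPrime m ⊗[R] H)
        (maximalIdeal (Localization.AtPrime m) : Set (Localization.AtPrime m)) :=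
  LinearEquiv.ofBijective
    { toFun := fun w => ⟨iota m w.1, (iota_mem_torsion_iff m htors w.1).2 (fun r hr =>
        (Submodule.mem_torsionBySet_iff _ _).mp w.2 ⟨r, hr⟩)⟩
      map_add' := fun w w' => by
        apply Subtype.ext
        show iota m (w.1 + w'.1) = iota m w.1 + iota m w'.1
        rw [map_add]
      map_smul' := fun r w => by
        apply Subtype.ext
        show iota m (r • w.1) = r • iota m w.1
        rw [map_smul] }
    ⟨fun w w' h => by
      apply Subtype.ext
      exact iota_injective m htors (congrArg Subtype.val h),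
     fun x => by
      obtain ⟨w, hw⟩ := iota_surjective m htors x.1
      refine ⟨⟨w, ?_⟩, Subtype.ext hw⟩
      rw [Submodule.mem_torsionBySet_iff]
      rintro ⟨r, hr⟩
      exact (iota_mem_torsion_iff m htors w).1 (hw ▸ x.2) r hr⟩

/-- **the Bass number `μ_n(m, R)` of a ring whose local cohomology at the maximal ideal `m` is
concentrated in degree `n` is the length of the socle of `H^n_m(R)`** -/
theorem bassNum_eq_length_socle (n : ℕ) (hvan : ∀ i : ℕ, i ≠ n → Subsingleton (H m i R)) :
    GrLC.bassNum m R n = Module.length R (Submodule.torsionBySet R (H m n R) (m : Set R)) := by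
  haveI : IsNoetherianRing (Localization.AtPrime m) :=
    IsLocalization.isNoetherianRing m.primeCompl _ inferInstance
  have hvanA : ∀ i : ℕ, i ≠ n → Subsingleton
      (H (maximalIdeal (Localization.AtPrime m)) i (Localization.AtPrime m)) :=
    fun i hi => (lc_subsingleton_iff m i).2 (hvan i hi)
  obtain ⟨hCM, hdim⟩ := isCM_of_vanishing (Localization.AtPrime m) n hvanA
  haveI := hCM
  unfold GrLC.bassNum GrLC.bassNumLocal
  let eL0 : LocalizedModule m.primeCompl R ≃ₗ[R] Localization.AtPrime m :=
    IsLocalizedModule.linearEquiv m.primeCompl (LocalizedModule.mkLinearMap m.primeCompl R)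
      (Algebra.linearMap R (Localization.AtPrime m))
  let eL : LocalizedModule m.primeCompl R ≃ₗ[Localization.AtPrime m] Localization.AtPrime m :=
    LinearEquiv.extendScalarsOfIsLocalization m.primeCompl (Localization.AtPrime m) eL0
  rw [(Groth.Agent.Helper8.ExtLoc.extCongrRight _ eL n).length_eq,
    length_ext_eq_length_socle hdim]
  obtain ⟨e⟩ := nonempty_loc_H_equiv m n
  have h2 : Module.length (Localization.AtPrime m)
      (Submodule.torsionBySet (Localization.AtPrime m) (Localization.AtPrime m ⊗[R] H m n R)
        (maximalIdeal (Localization.AtPrime m) : Set (Localization.AtPrime m))) =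
      Module.length (Localization.AtPrime m)
      (Submodule.torsionBySet (Localization.AtPrime m)
        (H (maximalIdeal (Localization.AtPrime m)) n (Localization.AtPrime m))
        (maximalIdeal (Localization.AtPrime m) : Set (Localization.AtPrime m))) :=
    LinearEquiv.length_eq (Groth.Agent.Helper8.Uniq.torsionBySetCongr e
      (maximalIdeal (Localization.AtPrime m) : Set (Localization.AtPrime m)))
  have htors : ∀ x : H m n R, ∃ k : ℕ, ∀ c ∈ m ^ k, c • x = 0 :=
    fun x => H_exists_pow_smul_eq_zero m n R x
  have h3 : Module.length R (Submodule.torsionBySet R (H m n R) (m : Set R)) =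
      Module.length R
      (Submodule.torsionBySet (Localization.AtPrime m) (Localization.AtPrime m ⊗[R] H m n R)
        (maximalIdeal (Localization.AtPrime m) : Set (Localization.AtPrime m))) :=
    LinearEquiv.length_eq (socleIotaEquiv m htors)
  refine h2.symm.trans ?_
  rw [h3]
  refine (length_eq_of_smul_eq (algebraMap R (Localization.AtPrime m)) ?_
    (maximalIdeal (Localization.AtPrime m)) (exists_sub_algebraMap_mem m) ?_).symm
  · intro c x
    exact (algebraMap_smul (Localization.AtPrime m) c x).symm
  · intro j hj x
    apply Subtype.ext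
    exact (Submodule.mem_torsionBySet_iff _ _).mp x.2 ⟨j, hj⟩

end Bass

end Groth.Agent.Helper20.GorType
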