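import Mathlib
import Groth.Agent.Lib.Helper20.GrVer2

/-!
# Veronese subrings: Noetherianity, radicals and torsion (helper20)
-/

open DirectSum

namespace Groth.Agent.Helper20.GrInj

universe u

section Noeth

variable {R : Type u} [CommRing R] (𝒜 : ℤ → AddSubgroup R) [GradedRing 𝒜]
variable {R' : Type u} [CommRing R'] (𝒜' : ℤ → AddSubgroup R') [GradedRing 𝒜']
variable (φ : R' →+* R) (q : ℕ) (hφ : Function.Injective φ)
  (hφ1 : ∀ (j : ℤ) (r' : R'), r' ∈ 𝒜' j → φ r' ∈ 𝒜 (j * q))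
  (hφ2 : ∀ (j : ℤ) (r : R), r ∈ 𝒜 (j * q) → ∃ r' ∈ 𝒜' j, φ r' = r)

include hφ hφ1 hφ2 in
/-- ideals of the Veronese subring are contracted from the big ring -/
theorem comap_map_eq_of_veronese (I : Ideal R') : (I.map φ).comap φ = I := by
  apply le_antisymm _ Ideal.le_comap_map
  intro x hx
  rw [Ideal.mem_comap] at hx
  let g : R' →ₛₗ[φ] R := φ.toSemilinearMap
  have hg : Function.Injective g := hφ
  let ρ : R →+ R' := retr φ q 𝒜 𝒜' g hg hφ2
  have hρ1 : ∀ (r' : R') (r : R), ρ (φ r' * r) = r' * ρ r := fun r' r =>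
    retr_smul 𝒜 𝒜' φ q hφ1 𝒜 𝒜' g hg hφ2 r' r
  have hρ2 : ∀ r' : R', ρ (φ r') = r' := fun r' => retr_g φ q 𝒜 𝒜' g hg hφ1 hφ2 r'
  have key : ∀ r ∈ I.map φ, ∀ s : R, ρ (s * r) ∈ I := by
    intro r hr
    unfold Ideal.map at hr
    induction hr using Submodule.span_induction with
    | mem r hr =>
      obtain ⟨a, ha, rfl⟩ := hr
      intro s
      rw [mul_comm, hρ1]
      exact I.mul_mem_right _ ha
    | zero =>
      intro s
      rw [mul_zero, map_zero]
      exact I.zero_mem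
    | add r₁ r₂ _ _ h₁ h₂ =>
      intro s
      rw [mul_add, map_add]
      exact I.add_mem (h₁ s) (h₂ s)
    | smul t r _ h =>
      intro s
      rw [smul_eq_mul, ← mul_assoc]
      exact h (s * t)
  have := key _ hx 1
  rwa [one_mul, hρ2] at this

include hφ hφ1 hφ2 in
/-- the Veronese subring of a Noetherian graded ring is Noetherian -/
theorem isNoetherianRing_of_veronese [IsNoetherianRing R] : IsNoetherianRing R' := by
  have hR : WellFoundedGT (Ideal R) := isNoetherian_iff'.1 (inferInstanceAs (IsNoetherian R R))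
  have hmono : StrictMono (fun I : Ideal R' => I.map φ) := by
    apply Monotone.strictMono_of_injective
    · intro I J h
      exact Ideal.map_mono h
    · intro I J h
      have h' : (I.map φ).comap φ = (J.map φ).comap φ := congrArg (Ideal.comap φ) h
      rwa [comap_map_eq_of_veronese 𝒜 𝒜' φ q hφ hφ1 hφ2,
        comap_map_eq_of_veronese 𝒜 𝒜' φ q hφ hφ1 hφ2] at h'
  exact isNoetherian_iff'.2 hmono.wellFoundedGT

end Noeth

section Rad

variable {R : Type u} [CommRing R] (𝒜 : ℤ → AddSubgroup R) [GradedRing 𝒜]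
variable {R' : Type u} [CommRing R'] (𝒜' : ℤ → AddSubgroup R') [GradedRing 𝒜']
variable (φ : R' →+* R) (q : ℕ) (hq : 0 < q)
  (hφ1 : ∀ (j : ℤ) (r' : R'), r' ∈ 𝒜' j → φ r' ∈ 𝒜 (j * q))
  (hφ2 : ∀ (j : ℤ) (r : R), r ∈ 𝒜 (j * q) → ∃ r' ∈ 𝒜' j, φ r' = r)

include hq hφ1 in
omit [GradedRing 𝒜] [GradedRing 𝒜'] in
theorem map_irrelevant_le :
    (Ideal.span (⋃ j ∈ Set.Ioi (0 : ℤ), (𝒜' j : Set R'))).map φ ≤
      Ideal.span (⋃ n ∈ Set.Ioi (0 : ℤ), (𝒜 n : Set R)) := by
  rw [Ideal.map_span, Ideal.span_le]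
  rintro _ ⟨x, hx, rfl⟩
  simp only [Set.mem_iUnion, Set.mem_Ioi, SetLike.mem_coe, exists_prop] at hx
  obtain ⟨j, hj, hxj⟩ := hx
  apply Ideal.subset_span
  simp only [Set.mem_iUnion, Set.mem_Ioi, SetLike.mem_coe, exists_prop]
  refine ⟨j * q, ?_, hφ1 j x hxj⟩
  have : (0 : ℤ) < q := by exact_mod_cast hq
  positivity

include hφ2 in
omit [GradedRing 𝒜'] in
theorem irrelevant_le_radical_map :
    Ideal.span (⋃ n ∈ Set.Ioi (0 : ℤ), (𝒜 n : Set R)) ≤
      ((Ideal.span (⋃ j ∈ Set.Ioi (0 : ℤ), (𝒜' j : Set R'))).map φ).radical := by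
  rw [Ideal.span_le]
  intro x hx
  simp only [Set.mem_iUnion, Set.mem_Ioi, SetLike.mem_coe, exists_prop] at hx
  obtain ⟨n, hn, hxn⟩ := hx
  have hpow : x ^ q ∈ 𝒜 (n * q) := by
    have := SetLike.pow_mem_graded q hxn
    rwa [nsmul_eq_mul, mul_comm] at this
  obtain ⟨r', hr', hr'x⟩ := hφ2 n _ hpow
  refine ⟨q, ?_⟩
  rw [← hr'x]
  apply Ideal.mem_map_of_mem
  apply Ideal.subset_span
  simp only [Set.mem_iUnion, Set.mem_Ioi, SetLike.mem_coe, exists_prop]
  exact ⟨n, hn, hr'⟩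

end Rad

section Gam

variable {R : Type u} [CommRing R] [IsNoetherianRing R]
variable {R' : Type u} [CommRing R']
variable (φ : R' →+* R)
variable {X : Type u} [AddCommGroup X] [Module R X]
variable {Y : Type u} [AddCommGroup Y] [Module R' Y]
variable (g : Y →ₛₗ[φ] X) (hg : Function.Injective g)
variable (I' : Ideal R') (I : Ideal R) (hle : I'.map φ ≤ I) (hrad : I ≤ (I'.map φ).radical)

include hg hle hrad in
/-- torsion of a module over the subring versus torsion over the big ring -/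
theorem mem_gam_iff_of_radical (y : Y) : y ∈ GrLC.gam I' Y ↔ g y ∈ GrLC.gam I X := by
  constructor
  · rintro ⟨k, hk⟩
    have h1 : ∀ r ∈ (I'.map φ) ^ k, r • g y = 0 := by
      intro r hr
      rw [← Ideal.map_pow] at hr
      unfold Ideal.map at hr
      induction hr using Submodule.span_induction with
      | mem r hr =>
        obtain ⟨a, ha, rfl⟩ := hr
        rw [← g.map_smulₛₗ, hk a ha, map_zero]
      | zero => rw [zero_smul]
      | add r₁ r₂ _ _ h₁ h₂ => rw [add_smul, h₁, h₂, add_zero]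
      | smul t r _ h => rw [smul_eq_mul, mul_smul, h, smul_zero]
    obtain ⟨N, hN⟩ := Ideal.exists_pow_le_of_le_radical_of_fg hrad (IsNoetherian.noetherian I)
    refine ⟨N * k, fun r hr => h1 r ?_⟩
    rw [pow_mul] at hr
    exact Ideal.pow_right_mono hN k hr
  · rintro ⟨k, hk⟩
    refine ⟨k, fun r' hr' => ?_⟩
    apply hg
    rw [g.map_smulₛₗ, map_zero]
    apply hk
    apply Ideal.pow_right_mono hle k
    rw [← Ideal.map_pow]
    exact Ideal.mem_map_of_mem φ hr'

end Gam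

end Groth.Agent.Helper20.GrInj
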