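import Mathlib
import Groth.Agent.Lib.Helper20.GrVer3
import Groth.Agent.Lib.Helper8.LCIndep
import Groth.Agent.Lib.Helper8.LCRad

/-!
# Veronese modules of acyclic modules are acyclic (helper20)
-/

open DirectSum

namespace Groth.Agent.Helper20.GrInj

open Groth.Agent.Helper8

universe u

section Retract

variable {S : Type u} [CommRing S] (J : Ideal S)
variable {N Y : Type u} [AddCommGroup N] [Module S N] [AddCommGroup Y] [Module S Y]

/-- local cohomology of a retract -/
theorem H_subsingleton_of_retract (i : ℕ) (g : Y →ₗ[S] N) (ρ : N →ₗ[S] Y)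
    (h : ∀ y, ρ (g y) = y) (hN : Subsingleton (LC.H J i N)) : Subsingleton (LC.H J i Y) := by
  refine ⟨fun x y => ?_⟩
  have hid : ρ ∘ₗ g = LinearMap.id := LinearMap.ext h
  have hz : ∀ z : LC.H J i Y, z = 0 := by
    intro z
    have h1 : LC.Hmap J i (ρ ∘ₗ g) z = z := by rw [hid, LC.Hmap_id]; rfl
    rw [LC.Hmap_comp_apply] at h1
    rw [← h1, Subsingleton.elim (LC.Hmap J i g z) 0, map_zero]
  rw [hz x, hz y]

end Retract

section Ver

variable {R : Type u} [CommRing R] [IsNoetherianRing R]
variable {R' : Type u} [CommRing R'] [IsNoetherianRing R']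
variable (φ : R' →+* R)
variable {X : Type u} [AddCommGroup X] [Module R X]
variable {Y : Type u} [AddCommGroup Y] [Module R' Y]

/-- local cohomology over the subring of a retract of the restriction of scalars vanishes when the
local cohomology over the big ring does -/
theorem H_subsingleton_of_veronese (g : Y →ₛₗ[φ] X) (ρ : X →+ Y)
    (hρ1 : ∀ (r' : R') (x : X), ρ (φ r' • x) = r' • ρ x) (hρ2 : ∀ y, ρ (g y) = y)
    (I' : Ideal R') (I : Ideal R) (hrad : (I'.map φ).radical = I.radical) (i : ℕ)
    (hX : Subsingleton (LC.H I i X)) : Subsingleton (LC.H I' i Y) := by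
  letI : Algebra R' R := φ.toAlgebra
  letI : Module R' X := Module.compHom X φ
  haveI : IsScalarTower R' R X := ⟨fun r' r x => by
    show (φ r' * r) • x = φ r' • (r • x)
    rw [mul_smul]⟩
  let BX : LC.BMod R' R := { carrier := X }
  obtain ⟨e⟩ := LC.exists_equiv_base I' i BX
  have h1 : Subsingleton (LC.H (I'.map φ) i X) := LC.H_subsingleton_of_radical_eq hrad i X hX
  have h1' : Subsingleton (LC.HA I' i BX) := h1
  have h2 : Subsingleton (LC.H I' i X) := e.symm.toEquiv.subsingleton
  let g' : Y →ₗ[R'] X :=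
    { toFun := g
      map_add' := g.map_add
      map_smul' := fun r y => g.map_smulₛₗ r y }
  let ρ' : X →ₗ[R'] Y :=
    { toFun := ρ
      map_add' := ρ.map_add
      map_smul' := fun r x => hρ1 r x }
  exact H_subsingleton_of_retract I' i g' ρ' hρ2 h2

end Ver

end Groth.Agent.Helper20.GrInj
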