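import Mathlib
import Groth.Agent.Lib.Helper20.GrAcyc1
import Groth.Agent.Lib.Helper8.LCFin

/-!
# Comparison of acyclic resolutions (helper20)

A chain map between two `Γ_J`-acyclic resolutions of the same module lifting the identity
induces isomorphisms on the cohomology of `Γ_J`; proved with the mapping cone.
-/

open CategoryTheory

namespace Groth.Agent.Helper20.GrInj

open Groth.Agent.Helper8

universe u

section Prod

variable {S : Type u} [CommRing S] (J : Ideal S)
variable {X Y : Type u} [AddCommGroup X] [Module S X] [AddCommGroup Y] [Module S Y]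

theorem mem_LCgam_prod (p : X × Y) : p ∈ LC.gam J (X × Y) ↔ p.1 ∈ LC.gam J X ∧ p.2 ∈ LC.gam J Y := by
  constructor
  · rintro ⟨k, hk⟩
    exact ⟨⟨k, fun r hr => congrArg Prod.fst (hk r hr)⟩, ⟨k, fun r hr => congrArg Prod.snd (hk r hr)⟩⟩
  · rintro ⟨⟨k, hk⟩, ⟨l, hl⟩⟩
    refine ⟨k + l, fun r hr => ?_⟩
    have hrk : r ∈ J ^ k := Ideal.pow_le_pow_right (Nat.le_add_right k l) hr
    have hrl : r ∈ J ^ l := Ideal.pow_le_pow_right (Nat.le_add_left l k) hr
    exact Prod.ext (hk r hrk) (hl r hrl)

theorem H_prod_subsingleton (i : ℕ) [Subsingleton (LC.H J i X)] [Subsingleton (LC.H J i Y)] :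
    Subsingleton (LC.H J i (X × Y)) := by
  have hses : LC.IsSES (LinearMap.inl S X Y) (LinearMap.snd S X Y) :=
    { inj := LinearMap.inl_injective
      exact := by
        intro p
        constructor
        · intro hp
          exact ⟨p.1, Prod.ext rfl hp.symm⟩
        · rintro ⟨x, rfl⟩
          rfl
      surj := LinearMap.snd_surjective }
  exact hses.subsingleton_mid J i

end Prod

namespace ARes

variable {S : Type u} [CommRing S] {N : Type u} [AddCommGroup N] [Module S N]

/-- a chain map of resolutions lifting the identity -/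
structure Hom (A B : ARes S N) where
  /-- components -/
  f : ∀ n, A.X n →ₗ[S] B.X n
  comm : ∀ n x, B.d n (f n x) = f (n + 1) (A.d n x)
  lifts : ∀ m, f 0 (A.ε m) = B.ε m

variable {A B : ARes S N} (c : Hom A B) (J : Ideal S)

theorem Hom.map_cocyc (i : ℕ) (x : A.X i) (hx : x ∈ A.cocyc J i) : c.f i x ∈ B.cocyc J i := by
  refine ⟨(LC.gamMap J (c.f i) ⟨x, hx.1⟩).2, ?_⟩
  have : A.d i x = 0 := hx.2
  show B.d i (c.f i x) = 0
  rw [c.comm, this, map_zero]

/-- the map on cocycles -/
def Hom.cocycMap (i : ℕ) : ↥(A.cocyc J i) →ₗ[S] ↥(B.cocyc J i) :=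
  (c.f i).restrict (c.map_cocyc J i)

theorem Hom.map_cobdy (i : ℕ) :
    (A.cobdy J i).comap (A.cocyc J i).subtype ≤
      ((B.cobdy J i).comap (B.cocyc J i).subtype).comap (c.cocycMap J i) := by
  intro z hz
  rw [Submodule.mem_comap, Submodule.mem_comap]
  rw [Submodule.mem_comap] at hz
  show c.f i z.1 ∈ B.cobdy J i
  cases i with
  | zero =>
    have : (z : A.X 0) = 0 := (Submodule.mem_bot S).1 hz
    rw [this, map_zero]
    exact Submodule.zero_mem _
  | succ n =>
    obtain ⟨y, hy, hyz⟩ := hz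
    refine ⟨c.f n y, (LC.gamMap J (c.f n) ⟨y, hy⟩).2, ?_⟩
    rw [c.comm, hyz]
    rfl

/-- the induced map on the cohomology of `Γ_J` -/
def Hom.Hmap (i : ℕ) : A.H J i →ₗ[S] B.H J i :=
  Submodule.mapQ _ _ (c.cocycMap J i) (c.map_cobdy J i)

theorem Hom.Hmap_mk (i : ℕ) (z : ↥(A.cocyc J i)) :
    c.Hmap J i (Submodule.Quotient.mk z) = Submodule.Quotient.mk (c.cocycMap J i z) := rfl

/-! ### the mapping cone -/

/-- terms of the cone -/
noncomputable def coneObj : ℕ → ModuleCat.{u} S
  | 0 => ModuleCat.of S (A.X 0)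
  | n + 1 => ModuleCat.of S (A.X (n + 1) × B.X n)

/-- differentials of the cone -/
noncomputable def coneD : ∀ n : ℕ, coneObj (A := A) (B := B) n →ₗ[S] coneObj (A := A) (B := B) (n + 1)
  | 0 => (A.d 0).prod (c.f 0)
  | n + 1 => ((A.d (n + 1)) ∘ₗ (LinearMap.fst S _ _)).prod
      ((c.f (n + 1)) ∘ₗ (LinearMap.fst S _ _) - (B.d n) ∘ₗ (LinearMap.snd S _ _))

theorem coneD_zero (x : A.X 0) : coneD c 0 x = ((A.d 0 x, c.f 0 x) : A.X 1 × B.X 0) := rfl

theorem coneD_succ (n : ℕ) (p : A.X (n + 1) × B.X n) :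
    coneD c (n + 1) p = ((A.d (n + 1) p.1, c.f (n + 1) p.1 - B.d n p.2) : A.X (n + 2) × B.X (n + 1)) :=
  rfl

/-- the cone as a resolution of the zero module -/
noncomputable def coneRes : ARes S PUnit.{u + 1} where
  X n := coneObj (A := A) (B := B) n
  d := coneD c
  ε := 0
  ε_injective := fun _ _ _ => Subsingleton.elim _ _
  exact_zero := by
    rw [LinearMap.range_zero, eq_bot_iff]
    intro x hx
    have hx' : coneD c 0 x = 0 := hx
    rw [coneD_zero] at hx'
    have h1 : A.d 0 x = 0 := congrArg Prod.fst hx'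
    have h2 : c.f 0 x = 0 := congrArg Prod.snd hx'
    have h3 : x ∈ LinearMap.ker (A.d 0) := h1
    rw [A.exact_zero] at h3
    obtain ⟨m, rfl⟩ := h3
    rw [c.lifts] at h2
    have : m = 0 := B.ε_injective (by rw [h2, map_zero])
    rw [this, map_zero]
    exact Submodule.zero_mem _
  exact_succ := by
    intro n
    cases n with
    | zero =>
      ext p
      constructor
      · intro hp
        have hp' : coneD c 1 p = 0 := hp
        rw [coneD_succ] at hp'
        have h1 : A.d 1 p.1 = 0 := congrArg Prod.fst hp'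
        have h2 : c.f 1 p.1 - B.d 0 p.2 = 0 := congrArg Prod.snd hp'
        have h3 : p.1 ∈ LinearMap.ker (A.d 1) := h1
        rw [A.exact_succ] at h3
        obtain ⟨x₀, hx₀⟩ := h3
        have h4 : B.d 0 (p.2 - c.f 0 x₀) = 0 := by
          rw [map_sub, c.comm, hx₀]
          rw [sub_eq_zero] at h2
          rw [h2, sub_self]
        have h5 : p.2 - c.f 0 x₀ ∈ LinearMap.ker (B.d 0) := h4
        rw [B.exact_zero] at h5
        obtain ⟨m, hm⟩ := h5
        refine ⟨x₀ + A.ε m, ?_⟩
        show coneD c 0 (x₀ + A.ε m) = p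
        rw [coneD_zero]
        have h6 : A.d 0 (A.ε m) = 0 := by
          have : A.ε m ∈ LinearMap.ker (A.d 0) := by rw [A.exact_zero]; exact ⟨m, rfl⟩
          exact this
        refine Prod.ext ?_ ?_
        · show A.d 0 (x₀ + A.ε m) = p.1
          rw [map_add, h6, add_zero, hx₀]
        · show c.f 0 (x₀ + A.ε m) = p.2
          rw [map_add, c.lifts, hm]
          abel
      · rintro ⟨x, rfl⟩
        show coneD c 1 (coneD c 0 x) = 0
        rw [coneD_zero, coneD_succ]
        refine Prod.ext ?_ ?_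
        · exact A.d_comp 0 x
        · show c.f 1 (A.d 0 x) - B.d 0 (c.f 0 x) = 0
          rw [c.comm, sub_self]
    | succ n =>
      ext p
      constructor
      · intro hp
        have hp' : coneD c (n + 2) p = 0 := hp
        rw [coneD_succ] at hp'
        have h1 : A.d (n + 2) p.1 = 0 := congrArg Prod.fst hp'
        have h2 : c.f (n + 2) p.1 - B.d (n + 1) p.2 = 0 := congrArg Prod.snd hp'
        have h3 : p.1 ∈ LinearMap.ker (A.d (n + 2)) := h1
        rw [A.exact_succ] at h3
        obtain ⟨x₀, hx₀⟩ := h3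
        have h4 : B.d (n + 1) (p.2 - c.f (n + 1) x₀) = 0 := by
          rw [map_sub, c.comm, hx₀]
          rw [sub_eq_zero] at h2
          rw [h2, sub_self]
        have h5 : p.2 - c.f (n + 1) x₀ ∈ LinearMap.ker (B.d (n + 1)) := h4
        rw [B.exact_succ] at h5
        obtain ⟨y₀, hy₀⟩ := h5
        refine ⟨((x₀, -y₀) : A.X (n + 1) × B.X n), ?_⟩
        show coneD c (n + 1) ((x₀, -y₀) : A.X (n + 1) × B.X n) = p
        rw [coneD_succ]
        refine Prod.ext ?_ ?_
        · exact hx₀
        · show c.f (n + 1) x₀ - B.d n (-y₀) = p.2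
          rw [map_neg, hy₀]
          abel
      · rintro ⟨q, rfl⟩
        show coneD c (n + 2) (coneD c (n + 1) q) = 0
        rw [coneD_succ, coneD_succ]
        refine Prod.ext ?_ ?_
        · exact A.d_comp (n + 1) _
        · show c.f (n + 2) (A.d (n + 1) q.1) - B.d (n + 1) (c.f (n + 1) q.1 - B.d n q.2) = 0
          rw [map_sub, B.d_comp, sub_zero, c.comm, sub_self]

variable (hA : ∀ n j : ℕ, Subsingleton (LC.H J (j + 1) (A.X n)))
  (hB : ∀ n j : ℕ, Subsingleton (LC.H J (j + 1) (B.X n)))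

include hA hB in
theorem coneRes_acyclic (n j : ℕ) : Subsingleton (LC.H J (j + 1) ((coneRes c).X n)) := by
  cases n with
  | zero => exact hA 0 j
  | succ n =>
    haveI := hA (n + 1) j
    haveI := hB n j
    exact H_prod_subsingleton (X := A.X (n + 1)) (Y := B.X n) J (j + 1)

include hA hB in
/-- `Γ_J` of the cone is exact -/
theorem cone_cocyc_le_cobdy (i : ℕ) : (coneRes c).cocyc J i ≤ (coneRes c).cobdy J i := by
  obtain ⟨e⟩ := (coneRes c).nonempty_H_equiv_LC J (coneRes_acyclic c J hA hB) i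
  haveI : Subsingleton (LC.H J i PUnit.{u + 1}) := LC.H_subsingleton_of_subsingleton J i _
  haveI : Subsingleton ((coneRes c).H J i) := e.toEquiv.subsingleton
  intro z hz
  have h0 : (Submodule.Quotient.mk ⟨z, hz⟩ : (coneRes c).H J i) = 0 := Subsingleton.elim _ _
  rw [Submodule.Quotient.mk_eq_zero, Submodule.mem_comap] at h0
  exact h0

end ARes

end Groth.Agent.Helper20.GrInj
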