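import Mathlib
import Groth.Agent.Lib.Helper20.GrCmp1

/-!
# Comparison of acyclic resolutions: bijectivity (helper20)
-/

namespace Groth.Agent.Helper20.GrInj

open Groth.Agent.Helper8

universe u

namespace ARes

variable {S : Type u} [CommRing S] {N : Type u} [AddCommGroup N] [Module S N]
variable {A B : ARes S N} (c : Hom A B) (J : Ideal S)
variable (hA : ∀ n j : ℕ, Subsingleton (LC.H J (j + 1) (A.X n)))
  (hB : ∀ n j : ℕ, Subsingleton (LC.H J (j + 1) (B.X n)))

include hA hB in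
theorem Hom.Hmap_injective (i : ℕ) : Function.Injective (c.Hmap J i) := by
  rw [← LinearMap.ker_eq_bot, eq_bot_iff]
  intro w hw
  obtain ⟨z, rfl⟩ := Submodule.Quotient.mk_surjective _ w
  rw [LinearMap.mem_ker, Hom.Hmap_mk, Submodule.Quotient.mk_eq_zero, Submodule.mem_comap] at hw
  have hw' : c.f i z.1 ∈ B.cobdy J i := hw
  rw [Submodule.mem_bot, Submodule.Quotient.mk_eq_zero, Submodule.mem_comap]
  show z.1 ∈ A.cobdy J i
  cases i with
  | zero =>
    have h0 : c.f 0 z.1 = 0 := (Submodule.mem_bot S).1 hw'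
    have hz : (z.1 : (coneRes c).X 0) ∈ (coneRes c).cocyc J 0 := by
      refine ⟨z.2.1, ?_⟩
      show coneD c 0 z.1 = 0
      rw [coneD_zero]
      exact Prod.ext z.2.2 h0
    have := cone_cocyc_le_cobdy c J hA hB 0 hz
    exact this
  | succ n =>
    obtain ⟨y, hy, hyz⟩ := hw'
    have hz : (((z.1, y) : A.X (n + 1) × B.X n) : (coneRes c).X (n + 1)) ∈
        (coneRes c).cocyc J (n + 1) := by
      refine ⟨(mem_LCgam_prod J _).2 ⟨z.2.1, hy⟩, ?_⟩
      show coneD c (n + 1) ((z.1, y) : A.X (n + 1) × B.X n) = 0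
      rw [coneD_succ]
      refine Prod.ext z.2.2 ?_
      show c.f (n + 1) z.1 - B.d n y = 0
      rw [hyz, sub_self]
    have h1 := cone_cocyc_le_cobdy c J hA hB (n + 1) hz
    cases n with
    | zero =>
      obtain ⟨w, hw, hwz⟩ := h1
      have hwz' : coneD c 0 w = ((z.1, y) : A.X 1 × B.X 0) := hwz
      rw [coneD_zero] at hwz'
      exact ⟨w, hw, congrArg Prod.fst hwz'⟩
    | succ m =>
      obtain ⟨q, hq, hqz⟩ := h1
      have hqz' : coneD c (m + 1) q = ((z.1, y) : A.X (m + 2) × B.X (m + 1)) := hqz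
      rw [coneD_succ] at hqz'
      exact ⟨q.1, ((mem_LCgam_prod J (X := A.X (m + 1)) (Y := B.X m) q).1 hq).1,
        congrArg Prod.fst hqz'⟩

include hA hB in
theorem Hom.Hmap_surjective (i : ℕ) : Function.Surjective (c.Hmap J i) := by
  intro w
  obtain ⟨y, rfl⟩ := Submodule.Quotient.mk_surjective _ w
  have hz : ((((0 : A.X (i + 1)), y.1) : A.X (i + 1) × B.X i) : (coneRes c).X (i + 1)) ∈
      (coneRes c).cocyc J (i + 1) := by
    refine ⟨(mem_LCgam_prod J _).2 ⟨Submodule.zero_mem _, y.2.1⟩, ?_⟩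
    show coneD c (i + 1) (((0 : A.X (i + 1)), y.1) : A.X (i + 1) × B.X i) = 0
    rw [coneD_succ]
    refine Prod.ext (map_zero _) ?_
    show c.f (i + 1) 0 - B.d i y.1 = 0
    have : B.d i y.1 = 0 := y.2.2
    rw [map_zero, this, sub_zero]
  have h1 := cone_cocyc_le_cobdy c J hA hB (i + 1) hz
  cases i with
  | zero =>
    obtain ⟨x, hx, hxz⟩ := h1
    have hxz' : coneD c 0 x = (((0 : A.X 1), y.1) : A.X 1 × B.X 0) := hxz
    rw [coneD_zero] at hxz'
    have hx1 : A.d 0 x = 0 := congrArg Prod.fst hxz'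
    have hx2 : c.f 0 x = y.1 := congrArg Prod.snd hxz'
    refine ⟨Submodule.Quotient.mk ⟨x, hx, hx1⟩, ?_⟩
    rw [Hom.Hmap_mk]
    congr 1
    exact Subtype.ext hx2
  | succ n =>
    obtain ⟨q, hq, hqz⟩ := h1
    have hqz' : coneD c (n + 1) q = (((0 : A.X (n + 2)), y.1) : A.X (n + 2) × B.X (n + 1)) := hqz
    rw [coneD_succ] at hqz'
    have hq1 : A.d (n + 1) q.1 = 0 := congrArg Prod.fst hqz'
    have hq2 : c.f (n + 1) q.1 - B.d n q.2 = y.1 := congrArg Prod.snd hqz'
    have hqg := (mem_LCgam_prod J (X := A.X (n + 1)) (Y := B.X n) q).1 hq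
    refine ⟨Submodule.Quotient.mk ⟨q.1, hqg.1, hq1⟩, ?_⟩
    rw [Hom.Hmap_mk]
    rw [Submodule.Quotient.eq, Submodule.mem_comap]
    show c.f (n + 1) q.1 - y.1 ∈ B.cobdy J (n + 1)
    refine ⟨q.2, hqg.2, ?_⟩
    rw [← hq2]
    abel

include hA hB in
/-- **comparison**: a chain map between acyclic resolutions lifting the identity is a
quasi-isomorphism after `Γ_J` -/
theorem Hom.Hmap_bijective (i : ℕ) : Function.Bijective (c.Hmap J i) :=
  ⟨c.Hmap_injective J hA hB i, c.Hmap_surjective J hA hB i⟩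

end ARes

end Groth.Agent.Helper20.GrInj
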