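import Mathlib
import Groth.Agent.Lib.Helper20.GrCmp2

/-!
# Coarsening of gradings along a group homomorphism (helper20)
-/

open DirectSum

namespace Groth.Agent.Helper20.GrInj

universe u

variable {ι κ : Type} [AddCommGroup ι] [DecidableEq ι] [AddCommGroup κ] [DecidableEq κ]
  (φ : ι →+ κ)

section Coarsen

variable {X : Type u} [AddCommGroup X] (𝒳 : ι → AddSubgroup X)

/-- the coarsened grading: the piece of degree `h` is the sum of the pieces of degrees `g` with
`φ g = h` -/
def coarsen : κ → AddSubgroup X := fun h => ⨆ g ∈ φ ⁻¹' {h}, 𝒳 g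

omit [DecidableEq ι] [DecidableEq κ] in
theorem le_coarsen (g : ι) : 𝒳 g ≤ coarsen φ 𝒳 (φ g) :=
  le_biSup (f := fun g => 𝒳 g) (show g ∈ φ ⁻¹' {φ g} from rfl)

omit [DecidableEq ι] [DecidableEq κ] in
theorem le_coarsen_of_eq {g : ι} {h : κ} (hg : φ g = h) : 𝒳 g ≤ coarsen φ 𝒳 h := by
  subst hg
  exact le_coarsen φ 𝒳 g

omit [DecidableEq ι] [DecidableEq κ] in
theorem coarsen_le_iff {h : κ} {K : AddSubgroup X} :
    coarsen φ 𝒳 h ≤ K ↔ ∀ g, φ g = h → 𝒳 g ≤ K := by
  unfold coarsen
  rw [iSup₂_le_iff]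
  rfl

variable [DirectSum.Decomposition 𝒳]

omit [DecidableEq κ] in
/-- elements of a coarse piece have components only in the fibre -/
theorem decompose_eq_zero_of_mem_coarsen {h : κ} {x : X} (hx : x ∈ coarsen φ 𝒳 h) (g : ι)
    (hg : φ g ≠ h) : (decompose 𝒳 x g : X) = 0 := by
  let K : AddSubgroup X :=
    { carrier := {y | (decompose 𝒳 y g : X) = 0}
      zero_mem' := by
        show (decompose 𝒳 (0 : X) g : X) = 0
        rw [decompose_zero, DirectSum.zero_apply, ZeroMemClass.coe_zero]
      add_mem' := by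
        intro y z hy hz
        show (decompose 𝒳 (y + z) g : X) = 0
        rw [decompose_add, DirectSum.add_apply, AddMemClass.coe_add, hy, hz, add_zero]
      neg_mem' := by
        intro y hy
        show (decompose 𝒳 (-y) g : X) = 0
        rw [decompose_neg]
        show ((-(decompose 𝒳 y g) : 𝒳 g) : X) = 0
        rw [NegMemClass.coe_neg, hy, neg_zero] }
  have hle : coarsen φ 𝒳 h ≤ K := by
    rw [coarsen_le_iff]
    intro g' hg' y hy
    show (decompose 𝒳 y g : X) = 0
    rw [decompose_of_mem_ne 𝒳 hy (by rintro rfl; exact hg hg')]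
  exact hle hx

theorem coarsen_isInternal : DirectSum.IsInternal (coarsen φ 𝒳) := by
  classical
  apply isInternal_of
  · intro x
    refine ⟨(decompose 𝒳 x).support.image φ,
      fun h => ∑ g ∈ (decompose 𝒳 x).support with φ g = h, (decompose 𝒳 x g : X), ?_, ?_⟩
    · intro h
      apply sum_mem
      intro g hg
      rw [Finset.mem_filter] at hg
      exact le_coarsen_of_eq φ 𝒳 hg.2 (decompose 𝒳 x g).2
    · rw [Finset.sum_fiberwise_of_maps_to (fun g hg => Finset.mem_image_of_mem φ hg)]
      exact (sum_support_decompose 𝒳 x).symm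
  · intro s c hc hsum h₀ hh₀
    -- all components of `c h₀` vanish
    have key : ∀ g, (decompose 𝒳 (c h₀) g : X) = 0 := by
      intro g
      by_cases hg : φ g = h₀
      · have h1 := congrArg (fun y => (decompose 𝒳 y g : X)) hsum
        simp only at h1
        rw [decompose_sum, DFinsupp.finsetSum_apply, AddSubmonoidClass.coe_finsetSum, decompose_zero,
          DirectSum.zero_apply, ZeroMemClass.coe_zero] at h1
        rw [Finset.sum_eq_single h₀] at h1
        · exact h1
        · intro h _ hne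
          exact decompose_eq_zero_of_mem_coarsen φ 𝒳 (hc h) g (by rw [hg]; exact fun e => hne e.symm)
        · intro hn
          exact absurd hh₀ hn
      · exact decompose_eq_zero_of_mem_coarsen φ 𝒳 (hc h₀) g hg
    rw [← sum_support_decompose 𝒳 (c h₀)]
    exact Finset.sum_eq_zero (fun g _ => key g)

/-- the decomposition of the coarsened grading -/
@[instance_reducible]
noncomputable def coarsenDecomposition : DirectSum.Decomposition (coarsen φ 𝒳) :=
  (coarsen_isInternal φ 𝒳).chooseDecomposition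

end Coarsen

section Smul

variable {R : Type u} [CommRing R] (𝒜 : ι → AddSubgroup R) (𝒜' : κ → AddSubgroup R)
  (h𝒜 : ∀ h : κ, 𝒜' h = ⨆ g ∈ φ ⁻¹' {h}, 𝒜 g)
variable {X : Type u} [AddCommGroup X] [Module R X] (𝒳 : ι → AddSubgroup X)
  [SetLike.GradedSMul 𝒜 𝒳]

include h𝒜 in
omit [DecidableEq ι] [DecidableEq κ] in
theorem coarsen_gradedSMul : SetLike.GradedSMul 𝒜' (coarsen φ 𝒳) where
  smul_mem := by
    intro h₁ h₂ r x hr hx
    rw [vadd_eq_add]
    have hr' : r ∈ coarsen φ 𝒜 h₁ := by
      have := hr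
      rw [h𝒜 h₁] at this
      exact this
    -- first in `r`
    let K : AddSubgroup R :=
      ((coarsen φ 𝒳 (h₁ + h₂)).comap ((smulAddHom R X).flip x))
    have hK : coarsen φ 𝒜 h₁ ≤ K := by
      rw [coarsen_le_iff]
      intro g hg r' hr'
      show r' • x ∈ coarsen φ 𝒳 (h₁ + h₂)
      -- now in `x`
      let L : AddSubgroup X := ((coarsen φ 𝒳 (h₁ + h₂)).comap (smulAddHom R X r'))
      have hL : coarsen φ 𝒳 h₂ ≤ L := by
        rw [coarsen_le_iff]
        intro g' hg' y hy
        show r' • y ∈ coarsen φ 𝒳 (h₁ + h₂)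
        have h1 := SetLike.GradedSMul.smul_mem (A := 𝒜) (B := 𝒳) hr' hy
        rw [vadd_eq_add] at h1
        exact le_coarsen_of_eq φ 𝒳 (by rw [map_add, hg, hg']) h1
      exact hL hx
    exact hK hr'

end Smul

end Groth.Agent.Helper20.GrInj
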