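import Mathlib
import Groth.Agent.Lib.Helper20.GrCoarse1

/-!
# Graded local cohomology and coarsening of the grading (helper20)
-/

open DirectSum

namespace Groth.Agent.Helper20.GrInj

open Groth.Agent.Helper8

universe u

variable {ι κ : Type} [AddCommGroup ι] [DecidableEq ι] [AddCommGroup κ] [DecidableEq κ]
  (φ : ι →+ κ)
variable {R : Type u} [CommRing R]

section GrHom

variable {X : Type u} [AddCommGroup X] [Module R X] (𝒳 : ι → AddSubgroup X)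
variable {Y : Type u} [AddCommGroup Y] [Module R Y] (𝒴 : ι → AddSubgroup Y)

omit [DecidableEq ι] [DecidableEq κ] in
theorem isGrHom_coarsen {f : X →ₗ[R] Y} (hf : GrLC.IsGrHom 𝒳 𝒴 f) :
    GrLC.IsGrHom (coarsen φ 𝒳) (coarsen φ 𝒴) f := by
  intro h x hx
  have hle : coarsen φ 𝒳 h ≤ (coarsen φ 𝒴 h).comap f.toAddMonoidHom := by
    rw [coarsen_le_iff]
    intro g hg y hy
    exact le_coarsen_of_eq φ 𝒴 hg (hf g y hy)
  exact hle hx

end GrHom

section ToARes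

variable {ι' : Type} [AddCommGroup ι'] [DecidableEq ι']
variable {𝒜 : ι' → AddSubgroup R} [GradedRing 𝒜]
variable {M : Type u} [AddCommGroup M] [Module R M] {ℳ : ι' → AddSubgroup M}
  [DirectSum.Decomposition ℳ] [SetLike.GradedSMul 𝒜 ℳ]

/-- forget the grading of a *injective resolution -/
def toARes (E : GrLC.StarInjRes 𝒜 ℳ) : ARes R M where
  X n := (E.X n).carrier
  d := E.d
  ε := E.ε
  ε_injective := E.ε_injective
  exact_zero := E.exact_zero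
  exact_succ := E.exact_succ

/-- the two descriptions of the cohomology of `Γ_a` agree -/
def HEquiv (E : GrLC.StarInjRes 𝒜 ℳ) (a : HomogeneousIdeal 𝒜) (i : ℕ) :
    E.H a i ≃ₗ[R] (toARes E).H a.toIdeal i :=
  Submodule.Quotient.equiv _ _
    (LinearEquiv.ofEq (E.cocyc a i) ((toARes E).cocyc a.toIdeal i) rfl) (by
      cases i with
      | zero =>
        ext z
        constructor
        · rintro ⟨y, hy, rfl⟩
          exact hy
        · intro hz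
          exact ⟨⟨z.1, z.2⟩, hz, rfl⟩
      | succ n =>
        ext z
        constructor
        · rintro ⟨y, hy, rfl⟩
          exact hy
        · intro hz
          exact ⟨⟨z.1, z.2⟩, hz, rfl⟩)

theorem HEquiv_toH (E : GrLC.StarInjRes 𝒜 ℳ) (a : HomogeneousIdeal 𝒜) (i : ℕ)
    (z : ↥(E.cocyc a i)) :
    HEquiv E a i (E.toH a i z) = Submodule.Quotient.mk ⟨z.1, z.2⟩ := rfl

end ToARes

section Lift

variable (𝒜 : ι → AddSubgroup R) [GradedRing 𝒜] (𝒜' : κ → AddSubgroup R) [GradedRing 𝒜']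
  (h𝒜 : ∀ h : κ, 𝒜' h = ⨆ g ∈ φ ⁻¹' {h}, 𝒜 g)
variable {M : Type u} [AddCommGroup M] [Module R M] {ℳ : ι → AddSubgroup M}
  [DirectSum.Decomposition ℳ] [SetLike.GradedSMul 𝒜 ℳ] {ℳ' : κ → AddSubgroup M}
  [DirectSum.Decomposition ℳ'] [SetLike.GradedSMul 𝒜' ℳ']
  (hℳ : ∀ h : κ, ℳ' h = ⨆ g ∈ φ ⁻¹' {h}, ℳ g)
variable (E : GrLC.StarInjRes 𝒜 ℳ) (E' : GrLC.StarInjRes 𝒜' ℳ')

/-- invariant of the inductive construction of the comparison map -/
def CLiftP (n : ℕ) (f : (E.X n).carrier →ₗ[R] (E'.X n).carrier) : Prop :=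
  GrLC.IsGrHom (coarsen φ (E.X n).gr) (E'.X n).gr f ∧ ∀ x, E.d n x = 0 → E'.d n (f x) = 0

include h𝒜 hℳ in
theorem exists_clift_zero :
    ∃ f : (E.X 0).carrier →ₗ[R] (E'.X 0).carrier, CLiftP φ 𝒜 𝒜' E E' 0 f ∧
      ∀ m, f (E.ε m) = E'.ε m := by
  letI := coarsenDecomposition φ (E.X 0).gr
  letI := coarsen_gradedSMul φ 𝒜 𝒜' h𝒜 (E.X 0).gr
  have hε : GrLC.IsGrHom ℳ' (coarsen φ (E.X 0).gr) E.ε := by
    intro h m hm
    rw [hℳ h] at hm
    exact isGrHom_coarsen φ ℳ (E.X 0).gr E.ε_grHom h m hm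
  obtain ⟨f, hfgr, hf⟩ := starInj_extend (E'.X 0).gr 𝒜' (E'.starInj 0) ℳ'
    (coarsen φ (E.X 0).gr) E.ε hε E.ε_injective E'.ε E'.ε_grHom
  have hf' : ∀ m, f (E.ε m) = E'.ε m := fun m => congrArg (fun ψ => ψ m) hf
  refine ⟨f, ⟨hfgr, fun x hx => ?_⟩, hf'⟩
  have : x ∈ LinearMap.ker (E.d 0) := hx
  rw [E.exact_zero] at this
  obtain ⟨m, rfl⟩ := this
  rw [hf', res_d_ε]

include h𝒜 in
theorem exists_clift_succ (n : ℕ) (f : (E.X n).carrier →ₗ[R] (E'.X n).carrier)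
    (hf : CLiftP φ 𝒜 𝒜' E E' n f) :
    ∃ f' : (E.X (n + 1)).carrier →ₗ[R] (E'.X (n + 1)).carrier,
      CLiftP φ 𝒜 𝒜' E E' (n + 1) f' ∧ ∀ x, E'.d n (f x) = f' (E.d n x) := by
  letI := coarsenDecomposition φ (E.X n).gr
  letI := coarsen_gradedSMul φ 𝒜 𝒜' h𝒜 (E.X n).gr
  letI := coarsenDecomposition φ (E.X (n + 1)).gr
  letI := coarsen_gradedSMul φ 𝒜 𝒜' h𝒜 (E.X (n + 1)).gr
  obtain ⟨f', hgr, hf'⟩ := starInj_extend_of_ker_le 𝒜' (E'.X (n + 1)).gr (E'.starInj (n + 1))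
    (coarsen φ (E.X n).gr) (coarsen φ (E.X (n + 1)).gr) (E.d n)
    (isGrHom_coarsen φ _ _ (E.d_grHom n)) ((E'.d n) ∘ₗ f)
    (fun g m hm => E'.d_grHom n g _ (hf.1 g m hm))
    (fun x hx => by
      rw [LinearMap.mem_ker] at hx ⊢
      exact hf.2 x hx)
  have hf'' : ∀ x, f' (E.d n x) = E'.d n (f x) := fun x => congrArg (fun ψ => ψ x) hf'
  refine ⟨f', ⟨hgr, fun x hx => ?_⟩, fun x => (hf'' x).symm⟩
  have : x ∈ LinearMap.ker (E.d (n + 1)) := hx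
  rw [E.exact_succ] at this
  obtain ⟨y, rfl⟩ := this
  rw [hf'', res_d_comp]

/-- the inductively constructed comparison map -/
noncomputable def cliftSeq :
    ∀ n : ℕ, {f : (E.X n).carrier →ₗ[R] (E'.X n).carrier // CLiftP φ 𝒜 𝒜' E E' n f}
  | 0 => ⟨Classical.choose (exists_clift_zero φ 𝒜 𝒜' h𝒜 hℳ E E'),
      (Classical.choose_spec (exists_clift_zero φ 𝒜 𝒜' h𝒜 hℳ E E')).1⟩
  | n + 1 => ⟨Classical.choose (exists_clift_succ φ 𝒜 𝒜' h𝒜 E E' n (cliftSeq n).1 (cliftSeq n).2),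
      (Classical.choose_spec
        (exists_clift_succ φ 𝒜 𝒜' h𝒜 E E' n (cliftSeq n).1 (cliftSeq n).2)).1⟩

/-- the comparison chain map from a *injective resolution for the fine grading to one for the
coarse grading -/
noncomputable def cliftHom : ARes.Hom (toARes E) (toARes E') where
  f := fun n => (cliftSeq φ 𝒜 𝒜' h𝒜 hℳ E E' n).1
  comm := fun n x =>
    (Classical.choose_spec (exists_clift_succ φ 𝒜 𝒜' h𝒜 E E' n (cliftSeq φ 𝒜 𝒜' h𝒜 hℳ E E' n).1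
      (cliftSeq φ 𝒜 𝒜' h𝒜 hℳ E E' n).2)).2 x
  lifts := (Classical.choose_spec (exists_clift_zero φ 𝒜 𝒜' h𝒜 hℳ E E')).2

theorem cliftHom_isGr (n : ℕ) :
    GrLC.IsGrHom (coarsen φ (E.X n).gr) (E'.X n).gr ((cliftHom φ 𝒜 𝒜' h𝒜 hℳ E E').f n) :=
  (cliftSeq φ 𝒜 𝒜' h𝒜 hℳ E E' n).2.1

end Lift

end Groth.Agent.Helper20.GrInj
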