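import Mathlib
import Groth.Agent.Lib.Helper20.GrCoarse2

/-!
# Graded local cohomology commutes with coarsening of the grading (helper20)
-/

open DirectSum

namespace Groth.Agent.Helper20.GrInj

open Groth.Agent.Helper8

universe u

variable {ι κ : Type} [AddCommGroup ι] [DecidableEq ι] [AddCommGroup κ] [DecidableEq κ]
  (φ : ι →+ κ)
variable {R : Type u} [CommRing R]

section

variable {ι' : Type} [AddCommGroup ι'] [DecidableEq ι']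
variable {𝒜 : ι' → AddSubgroup R} [GradedRing 𝒜]
variable {M : Type u} [AddCommGroup M] [Module R M] {ℳ : ι' → AddSubgroup M}
  [DirectSum.Decomposition ℳ] [SetLike.GradedSMul 𝒜 ℳ]

theorem HEquiv_symm_mk (E : GrLC.StarInjRes 𝒜 ℳ) (a : HomogeneousIdeal 𝒜) (i : ℕ)
    (z : ↥((toARes E).cocyc a.toIdeal i)) :
    (HEquiv E a i).symm (Submodule.Quotient.mk z) = E.toH a i ⟨z.1, z.2⟩ := by
  rw [LinearEquiv.symm_apply_eq]
  rfl

end

variable (𝒜 : ι → AddSubgroup R) [GradedRing 𝒜] (𝒜' : κ → AddSubgroup R) [GradedRing 𝒜']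
  (h𝒜 : ∀ h : κ, 𝒜' h = ⨆ g ∈ φ ⁻¹' {h}, 𝒜 g)
variable {M : Type u} [AddCommGroup M] [Module R M] {ℳ : ι → AddSubgroup M}
  [DirectSum.Decomposition ℳ] [SetLike.GradedSMul 𝒜 ℳ] {ℳ' : κ → AddSubgroup M}
  [DirectSum.Decomposition ℳ'] [SetLike.GradedSMul 𝒜' ℳ']
  (hℳ : ∀ h : κ, ℳ' h = ⨆ g ∈ φ ⁻¹' {h}, ℳ g)
variable (E : GrLC.StarInjRes 𝒜 ℳ) (E' : GrLC.StarInjRes 𝒜' ℳ')

include h𝒜 hℳ in
/-- **graded local cohomology commutes with coarsening of the grading** -/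
theorem exists_coarsen_equiv [IsNoetherianRing R] (a : HomogeneousIdeal 𝒜)
    (a' : HomogeneousIdeal 𝒜') (ha : a'.toIdeal = a.toIdeal) (i : ℕ) :
    ∃ ψ : E.H a i ≃ₗ[R] E'.H a' i,
      GrLC.IsGrHom (fun h : κ => ⨆ g ∈ φ ⁻¹' {h}, E.Hgr a i g) (E'.Hgr a' i) ψ.toLinearMap := by
  have hhom : a.toIdeal.IsHomogeneous 𝒜' := ha ▸ a'.isHomogeneous
  obtain rfl : a' = ⟨a.toIdeal, hhom⟩ := HomogeneousIdeal.toIdeal_injective ha
  let c := cliftHom φ 𝒜 𝒜' h𝒜 hℳ E E'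
  have hA : ∀ n j : ℕ, Subsingleton (LC.H a.toIdeal (j + 1) ((toARes E).X n)) :=
    fun n j => X_acyclic E a n j
  have hB : ∀ n j : ℕ, Subsingleton (LC.H a.toIdeal (j + 1) ((toARes E').X n)) :=
    fun n j => X_acyclic E' (⟨a.toIdeal, hhom⟩ : HomogeneousIdeal 𝒜') n j
  let ψ₀ := LinearEquiv.ofBijective (c.Hmap a.toIdeal i) (c.Hmap_bijective a.toIdeal hA hB i)
  refine ⟨(HEquiv E a i).trans
    (ψ₀.trans (HEquiv E' (⟨a.toIdeal, hhom⟩ : HomogeneousIdeal 𝒜') i).symm), ?_⟩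
  intro h w hw
  have hle : (⨆ g ∈ φ ⁻¹' {h}, E.Hgr a i g) ≤
      (E'.Hgr (⟨a.toIdeal, hhom⟩ : HomogeneousIdeal 𝒜') i h).comap
        ((HEquiv E a i).trans
          (ψ₀.trans (HEquiv E' (⟨a.toIdeal, hhom⟩ : HomogeneousIdeal 𝒜') i).symm)).toLinearMap.toAddMonoidHom := by
    apply iSup₂_le
    intro g hg w hw
    obtain ⟨z, hz, rfl⟩ := hw
    have hzc : c.f i z.1 ∈ (toARes E').cocyc a.toIdeal i :=
      c.map_cocyc a.toIdeal i z.1 z.2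
    have hdeg : c.f i z.1 ∈ (E'.X i).gr h := by
      have h1 : z.1 ∈ coarsen φ (E.X i).gr h := le_coarsen_of_eq φ (E.X i).gr hg hz
      exact cliftHom_isGr φ 𝒜 𝒜' h𝒜 hℳ E E' i h z.1 h1
    refine ⟨⟨c.f i z.1, hzc⟩, hdeg, ?_⟩
    show _ = (HEquiv E' (⟨a.toIdeal, hhom⟩ : HomogeneousIdeal 𝒜') i).symm
      (ψ₀ (HEquiv E a i (E.toH a i z)))
    rw [HEquiv_toH]
    show _ = (HEquiv E' (⟨a.toIdeal, hhom⟩ : HomogeneousIdeal 𝒜') i).symm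
      (c.Hmap a.toIdeal i (Submodule.Quotient.mk ⟨z.1, z.2⟩))
    rw [ARes.Hom.Hmap_mk, HEquiv_symm_mk]
    rfl
  exact hle hw

end Groth.Agent.Helper20.GrInj
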