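import Mathlib
import Groth.Agent.Lib.Helper20.GrCoarse3

/-!
# Graded local cohomology from graded acyclic resolutions (helper20)

`GRes 𝒜 ℳ` is a resolution of a graded module by graded modules (no condition on the terms).
If the terms are `Γ_a`-acyclic, the graded pieces of the cohomology of `Γ_a` of the resolution are
those of the graded local cohomology computed from any *injective resolution.
-/

open DirectSum

namespace Groth.Agent.Helper20.GrInj

open Groth.Agent.Helper8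

universe u

variable {ι : Type} [AddCommGroup ι] [DecidableEq ι]
variable {R : Type u} [CommRing R]

/-- a resolution of a graded module by graded modules -/
structure GRes (𝒜 : ι → AddSubgroup R) [GradedRing 𝒜] {M : Type u} [AddCommGroup M] [Module R M]
    (ℳ : ι → AddSubgroup M) [DirectSum.Decomposition ℳ] [SetLike.GradedSMul 𝒜 ℳ] :
    Type (u + 1) where
  /-- the terms -/
  X : ℕ → GrLC.GMod.{u} 𝒜
  /-- the differentials -/
  d : ∀ n : ℕ, (X n).carrier →ₗ[R] (X (n + 1)).carrier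
  /-- the augmentation -/
  ε : M →ₗ[R] (X 0).carrier
  d_grHom : ∀ n : ℕ, GrLC.IsGrHom (X n).gr (X (n + 1)).gr (d n)
  ε_grHom : GrLC.IsGrHom ℳ (X 0).gr ε
  ε_injective : Function.Injective ε
  exact_zero : LinearMap.ker (d 0) = LinearMap.range ε
  exact_succ : ∀ n : ℕ, LinearMap.ker (d (n + 1)) = LinearMap.range (d n)

variable {𝒜 : ι → AddSubgroup R} [GradedRing 𝒜]
variable {M : Type u} [AddCommGroup M] [Module R M] {ℳ : ι → AddSubgroup M}
  [DirectSum.Decomposition ℳ] [SetLike.GradedSMul 𝒜 ℳ]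

namespace GRes

/-- forget the gradings -/
@[reducible] def toARes (G : GRes 𝒜 ℳ) : ARes R M where
  X n := (G.X n).carrier
  d := G.d
  ε := G.ε
  ε_injective := G.ε_injective
  exact_zero := G.exact_zero
  exact_succ := G.exact_succ

variable (G : GRes 𝒜 ℳ) (E : GrLC.StarInjRes 𝒜 ℳ)

theorem d_comp (n : ℕ) (x : (G.X n).carrier) : G.d (n + 1) (G.d n x) = 0 :=
  G.toARes.d_comp n x

theorem d_ε (m : M) : G.d 0 (G.ε m) = 0 := by
  have : G.ε m ∈ LinearMap.ker (G.d 0) := by
    rw [G.exact_zero]; exact ⟨m, rfl⟩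
  exact this

/-- invariant of the inductive construction of the comparison map -/
def LiftP (n : ℕ) (f : (G.X n).carrier →ₗ[R] (E.X n).carrier) : Prop :=
  GrLC.IsGrHom (G.X n).gr (E.X n).gr f ∧ ∀ x, G.d n x = 0 → E.d n (f x) = 0

theorem exists_lift_zero :
    ∃ f : (G.X 0).carrier →ₗ[R] (E.X 0).carrier, LiftP G E 0 f ∧
      ∀ m, f (G.ε m) = E.ε m := by
  obtain ⟨f, hfgr, hf⟩ := starInj_extend (E.X 0).gr 𝒜 (E.starInj 0) ℳ
    (G.X 0).gr G.ε G.ε_grHom G.ε_injective E.ε E.ε_grHom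
  have hf' : ∀ m, f (G.ε m) = E.ε m := fun m => congrArg (fun ψ => ψ m) hf
  refine ⟨f, ⟨hfgr, fun x hx => ?_⟩, hf'⟩
  have : x ∈ LinearMap.ker (G.d 0) := hx
  rw [G.exact_zero] at this
  obtain ⟨m, rfl⟩ := this
  rw [hf', res_d_ε]

theorem exists_lift_succ (n : ℕ) (f : (G.X n).carrier →ₗ[R] (E.X n).carrier)
    (hf : LiftP G E n f) :
    ∃ f' : (G.X (n + 1)).carrier →ₗ[R] (E.X (n + 1)).carrier,
      LiftP G E (n + 1) f' ∧ ∀ x, E.d n (f x) = f' (G.d n x) := by
  obtain ⟨f', hgr, hf'⟩ := starInj_extend_of_ker_le 𝒜 (E.X (n + 1)).gr (E.starInj (n + 1))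
    (G.X n).gr (G.X (n + 1)).gr (G.d n) (G.d_grHom n) ((E.d n) ∘ₗ f)
    (fun g m hm => E.d_grHom n g _ (hf.1 g m hm))
    (fun x hx => by
      rw [LinearMap.mem_ker] at hx ⊢
      exact hf.2 x hx)
  have hf'' : ∀ x, f' (G.d n x) = E.d n (f x) := fun x => congrArg (fun ψ => ψ x) hf'
  refine ⟨f', ⟨hgr, fun x hx => ?_⟩, fun x => (hf'' x).symm⟩
  have : x ∈ LinearMap.ker (G.d (n + 1)) := hx
  rw [G.exact_succ] at this
  obtain ⟨y, rfl⟩ := this
  rw [hf'', res_d_comp]

/-- the inductively constructed comparison map -/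
noncomputable def liftSeq :
    ∀ n : ℕ, {f : (G.X n).carrier →ₗ[R] (E.X n).carrier // LiftP G E n f}
  | 0 => ⟨Classical.choose (exists_lift_zero G E),
      (Classical.choose_spec (exists_lift_zero G E)).1⟩
  | n + 1 => ⟨Classical.choose (exists_lift_succ G E n (liftSeq n).1 (liftSeq n).2),
      (Classical.choose_spec (exists_lift_succ G E n (liftSeq n).1 (liftSeq n).2)).1⟩

/-- the comparison chain map from a graded resolution to a *injective resolution -/
noncomputable def liftHom : ARes.Hom G.toARes (Groth.Agent.Helper20.GrInj.toARes E) where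
  f := fun n => (liftSeq G E n).1
  comm := fun n x =>
    (Classical.choose_spec (exists_lift_succ G E n (liftSeq G E n).1 (liftSeq G E n).2)).2 x
  lifts := (Classical.choose_spec (exists_lift_zero G E)).2

theorem liftHom_isGr (n : ℕ) :
    GrLC.IsGrHom (G.X n).gr (E.X n).gr ((liftHom G E).f n) :=
  (liftSeq G E n).2.1

/-- the pieces of the cohomology of `Γ_a` of the resolution -/
def Hgr (a : HomogeneousIdeal 𝒜) (i : ℕ) (g : ι) : AddSubgroup (G.toARes.H a.toIdeal i) where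
  carrier := {w | ∃ z : ↥(G.toARes.cocyc a.toIdeal i), (z : (G.X i).carrier) ∈ (G.X i).gr g ∧
    Submodule.Quotient.mk z = w}
  zero_mem' := ⟨0, zero_mem _, rfl⟩
  add_mem' := by
    rintro x y ⟨z, hz, rfl⟩ ⟨w, hw, rfl⟩
    exact ⟨z + w, add_mem hz hw, rfl⟩
  neg_mem' := by
    rintro x ⟨z, hz, rfl⟩
    exact ⟨-z, neg_mem hz, rfl⟩

theorem cocyc_isHomogeneous (a : HomogeneousIdeal 𝒜) (i : ℕ) :
    (G.toARes.cocyc a.toIdeal i).IsHomogeneous (G.X i).gr :=
  inf_isHomogeneous _ (gam_isHomogeneous 𝒜 _ a) (ker_isHomogeneous _ _ (G.d_grHom i))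

theorem mk_mem_Hgr (a : HomogeneousIdeal 𝒜) (i : ℕ) (g : ι)
    (z : ↥(G.toARes.cocyc a.toIdeal i)) (hz : (z : (G.X i).carrier) ∈ (G.X i).gr g) :
    (Submodule.Quotient.mk z : G.toARes.H a.toIdeal i) ∈ G.Hgr a i g := ⟨z, hz, rfl⟩

/-- **graded local cohomology can be computed from a graded `Γ_a`-acyclic resolution** -/
theorem exists_equiv_of_acyclic [IsNoetherianRing R] (a : HomogeneousIdeal 𝒜)
    (hG : ∀ n j : ℕ, Subsingleton (LC.H a.toIdeal (j + 1) (G.X n).carrier)) (i : ℕ) :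
    ∃ ψ : G.toARes.H a.toIdeal i ≃ₗ[R] E.H a i,
      ∀ (g : ι) (w : G.toARes.H a.toIdeal i), w ∈ G.Hgr a i g ↔ ψ w ∈ E.Hgr a i g := by
  classical
  let c := liftHom G E
  have hB : ∀ n j : ℕ, Subsingleton
      (LC.H a.toIdeal (j + 1) ((Groth.Agent.Helper20.GrInj.toARes E).X n)) :=
    fun n j => X_acyclic E a n j
  let ψ₀ := LinearEquiv.ofBijective (c.Hmap a.toIdeal i) (c.Hmap_bijective a.toIdeal hG hB i)
  let ψ := ψ₀.trans (HEquiv E a i).symm
  have hfwd : ∀ (g : ι) (z : ↥(G.toARes.cocyc a.toIdeal i)),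
      (z : (G.X i).carrier) ∈ (G.X i).gr g →
        ψ (Submodule.Quotient.mk z) ∈ E.Hgr a i g := by
    intro g z hz
    have hzc : c.f i z.1 ∈ (Groth.Agent.Helper20.GrInj.toARes E).cocyc a.toIdeal i :=
      c.map_cocyc a.toIdeal i z.1 z.2
    refine ⟨⟨c.f i z.1, hzc⟩, liftHom_isGr G E i g z.1 hz, ?_⟩
    show _ = (HEquiv E a i).symm (c.Hmap a.toIdeal i (Submodule.Quotient.mk z))
    rw [ARes.Hom.Hmap_mk, HEquiv_symm_mk]
    rfl
  refine ⟨ψ, fun g w => ⟨?_, ?_⟩⟩
  · rintro ⟨z, hz, rfl⟩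
    exact hfwd g z hz
  · intro hw
    obtain ⟨z, rfl⟩ := Submodule.Quotient.mk_surjective _ w
    letI := (Hgr_isInternal E a i).chooseDecomposition
    let s := (decompose (G.X i).gr (z : (G.X i).carrier)).support
    let zk : ι → ↥(G.toARes.cocyc a.toIdeal i) := fun k =>
      ⟨(decompose (G.X i).gr (z : (G.X i).carrier) k : (G.X i).carrier),
        cocyc_isHomogeneous G a i k z.2⟩
    have hzk : ∀ k, ((zk k : ↥(G.toARes.cocyc a.toIdeal i)) : (G.X i).carrier) ∈ (G.X i).gr k :=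
      fun k => (decompose (G.X i).gr (z : (G.X i).carrier) k).2
    have hz : z = ∑ k ∈ s, zk k := by
      apply Subtype.ext
      rw [AddSubmonoidClass.coe_finsetSum]
      exact (sum_support_decompose (G.X i).gr (z : (G.X i).carrier)).symm
    let cc : ι → E.H a i := fun k => ψ (Submodule.Quotient.mk (zk k))
    have hcc : ∀ k, cc k ∈ E.Hgr a i k := fun k => hfwd k (zk k) (hzk k)
    have hmk : (Submodule.Quotient.mk z : G.toARes.H a.toIdeal i) =
        ∑ k ∈ s, Submodule.Quotient.mk (zk k) := by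
      conv_lhs => rw [hz]
      exact map_sum ((G.toARes.cobdy a.toIdeal i).comap (G.toARes.cocyc a.toIdeal i).subtype).mkQ
        zk s
    have hsum : ψ (Submodule.Quotient.mk z) = ∑ k ∈ s, cc k := by
      rw [hmk, map_sum]
    have hzero : ∀ k ∈ s, k ≠ g → (Submodule.Quotient.mk (zk k) : G.toARes.H a.toIdeal i) = 0 := by
      intro k hk hkg
      have h1 := decompose_sum_homog (E.Hgr a i) s cc hcc k
      rw [if_pos hk, ← hsum, decompose_of_mem_ne (E.Hgr a i) hw (fun e => hkg e.symm)] at h1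
      have h2 : ψ (Submodule.Quotient.mk (zk k)) = 0 := h1.symm
      exact ψ.map_eq_zero_iff.1 h2
    rw [hmk]
    apply AddSubgroup.sum_mem
    intro k hk
    by_cases hkg : k = g
    · subst hkg
      exact mk_mem_Hgr G a i k (zk k) (hzk k)
    · rw [hzero k hk hkg]
      exact AddSubgroup.zero_mem _

end GRes

end Groth.Agent.Helper20.GrInj
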