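import Mathlib
import Groth.Agent.Lib.Helper20.GrVer3
import Groth.Agent.Lib.Helper20.GrVer4
import Groth.Agent.Lib.Helper20.GrVer5
import Groth.Agent.Lib.Helper20.GrVer6

/-!
# The Veronese of a *injective resolution (helper20)

It is a resolution of the Veronese module by graded modules over the Veronese subring whose
terms are acyclic for the torsion functor of the irrelevant ideal.
-/

open DirectSum

namespace Groth.Agent.Helper20.GrInj

open Groth.Agent.Helper8

universe u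

variable {R : Type u} [CommRing R] {R' : Type u} [CommRing R']
variable {𝒜 : ℤ → AddSubgroup R} [GradedRing 𝒜] {𝒜' : ℤ → AddSubgroup R'} [GradedRing 𝒜']
  (V : VerRing 𝒜 𝒜')

section Map

variable {X : Type u} [AddCommGroup X] [Module R X] (𝒳 : ℤ → AddSubgroup X)
  [DirectSum.Decomposition 𝒳] [SetLike.GradedSMul 𝒜 𝒳]
variable {Z : Type u} [AddCommGroup Z] [Module R Z] (𝒵 : ℤ → AddSubgroup Z)
  [DirectSum.Decomposition 𝒵] [SetLike.GradedSMul 𝒜 𝒵]

/-- the Veronese of a homogeneous map -/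
noncomputable def verMap (f : X →ₗ[R] Z) (hf : GrLC.IsGrHom 𝒳 𝒵 f) : VerT 𝒳 V →ₗ[R'] VerT 𝒵 V where
  toFun y := VerT.mk' V 𝒵 (f y.val) (by
    rw [← verProj_comm 𝒳 𝒵 V.q f hf, y.val_prop])
  map_add' a b := VerT.val_injective V 𝒵 (by
    show f (a.val + b.val) = f a.val + f b.val
    rw [map_add])
  map_smul' r y := VerT.val_injective V 𝒵 (by
    show f (V.φ r • y.val) = V.φ r • f y.val
    rw [map_smul])

theorem verMap_val (f : X →ₗ[R] Z) (hf : GrLC.IsGrHom 𝒳 𝒵 f) (y : VerT 𝒳 V) :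
    (verMap V 𝒳 𝒵 f hf y).val = f y.val := rfl

theorem verMap_isGrHom (f : X →ₗ[R] Z) (hf : GrLC.IsGrHom 𝒳 𝒵 f) :
    GrLC.IsGrHom (verGr V 𝒳) (verGr V 𝒵) (verMap V 𝒳 𝒵 f hf) :=
  fun j y hy => hf (j * V.q) y.val hy

/-- the retraction onto the Veronese module -/
noncomputable def verRetr : X →+ VerT 𝒳 V where
  toFun x := VerT.mk' V 𝒳 (verProj 𝒳 V.q x) (verProj_idem 𝒳 V.q x)
  map_zero' := VerT.val_injective V 𝒳 (map_zero _)
  map_add' a b := VerT.val_injective V 𝒳 (map_add _ a b)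

theorem verRetr_val (x : X) : (verRetr V 𝒳 x).val = verProj 𝒳 V.q x := rfl

theorem verRetr_smul (r' : R') (x : X) : verRetr V 𝒳 (V.φ r' • x) = r' • verRetr V 𝒳 x :=
  VerT.val_injective V 𝒳 (verProj_map_smul 𝒜 𝒜' V.φ V.q V.h1 𝒳 r' x)

theorem verRetr_verIncl (y : VerT 𝒳 V) : verRetr V 𝒳 (verIncl V 𝒳 y) = y :=
  VerT.val_injective V 𝒳 y.val_prop

end Map

section Res

variable {M : Type u} [AddCommGroup M] [Module R M] {ℳ : ℤ → AddSubgroup M}
  [DirectSum.Decomposition ℳ] [SetLike.GradedSMul 𝒜 ℳ]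
variable {M' : Type u} [AddCommGroup M'] [Module R' M'] {ℳ' : ℤ → AddSubgroup M'}
  [DirectSum.Decomposition ℳ'] [SetLike.GradedSMul 𝒜' ℳ']
variable (g : M' →ₛₗ[V.φ] M) (hg : Function.Injective g)
  (hg1 : ∀ (j : ℤ) (y : M'), y ∈ ℳ' j → g y ∈ ℳ (j * V.q))
  (hg2 : ∀ (j : ℤ) (x : M), x ∈ ℳ (j * V.q) → ∃ y ∈ ℳ' j, g y = x)
variable (E : GrLC.StarInjRes 𝒜 ℳ)

/-- the augmentation of the Veronese resolution -/
noncomputable def verAug : M' →ₗ[R'] VerT (E.X 0).gr V where
  toFun m := VerT.mk' V (E.X 0).gr (E.ε (g m)) (by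
    rw [← verProj_comm ℳ (E.X 0).gr V.q E.ε E.ε_grHom, verProj_g V.φ V.q ℳ ℳ' g hg1])
  map_add' a b := VerT.val_injective V (E.X 0).gr (by
    show E.ε (g (a + b)) = E.ε (g a) + E.ε (g b)
    rw [map_add, map_add])
  map_smul' r m := VerT.val_injective V (E.X 0).gr (by
    show E.ε (g (r • m)) = V.φ r • E.ε (g m)
    rw [g.map_smulₛₗ, map_smul])

theorem verAug_val (m : M') : (verAug V g hg1 E m).val = E.ε (g m) := rfl

/-- the Veronese of a *injective resolution, a resolution of the Veronese module by graded modules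
over the Veronese subring -/
noncomputable def verRes : GRes 𝒜' ℳ' where
  X n := verG V (E.X n)
  d n := verMap V (E.X n).gr (E.X (n + 1)).gr (E.d n) (E.d_grHom n)
  ε := verAug V g hg1 E
  d_grHom n := verMap_isGrHom V (E.X n).gr (E.X (n + 1)).gr (E.d n) (E.d_grHom n)
  ε_grHom := fun j m hm => E.ε_grHom (j * V.q) (g m) (hg1 j m hm)
  ε_injective := by
    intro a b hab
    apply hg
    apply E.ε_injective
    exact congrArg VerT.val hab
  exact_zero := by
    ext y
    constructor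
    · intro hy
      have h0 := LinearMap.mem_ker.1 hy
      have hy' : E.d 0 y.val = 0 := congrArg VerT.val h0
      have hmem : y.val ∈ LinearMap.ker (E.d 0) := hy'
      rw [E.exact_zero] at hmem
      obtain ⟨m, hm⟩ := hmem
      have hpm : verProj ℳ V.q m = m := by
        apply E.ε_injective
        rw [verProj_comm ℳ (E.X 0).gr V.q E.ε E.ε_grHom, hm, y.val_prop]
      obtain ⟨m', rfl⟩ := exists_of_verProj_eq V.φ V.q ℳ ℳ' g hg2 m hpm
      exact ⟨m', VerT.val_injective V (E.X 0).gr hm⟩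
    · rintro ⟨m', rfl⟩
      rw [LinearMap.mem_ker]
      apply VerT.val_injective V (E.X 1).gr
      show E.d 0 (E.ε (g m')) = 0
      exact res_d_ε E _
  exact_succ n := by
    ext y
    constructor
    · intro hy
      have h0 := LinearMap.mem_ker.1 hy
      have hy' : E.d (n + 1) y.val = 0 := congrArg VerT.val h0
      have hmem : y.val ∈ LinearMap.ker (E.d (n + 1)) := hy'
      rw [E.exact_succ] at hmem
      obtain ⟨x, hx⟩ := hmem
      refine ⟨verRetr V (E.X n).gr x, VerT.val_injective V (E.X (n + 1)).gr ?_⟩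
      show E.d n (verProj (E.X n).gr V.q x) = y.val
      rw [verProj_comm (E.X n).gr (E.X (n + 1)).gr V.q (E.d n) (E.d_grHom n), hx, y.val_prop]
    · rintro ⟨x, rfl⟩
      rw [LinearMap.mem_ker]
      apply VerT.val_injective V (E.X (n + 1 + 1)).gr
      show E.d (n + 1) (E.d n x.val) = 0
      exact res_d_comp E n _

theorem verRes_X (n : ℕ) : ((verRes V g hg hg1 hg2 E).X n).carrier = VerT (E.X n).gr V := rfl

theorem verRes_d_val (n : ℕ) (y : VerT (E.X n).gr V) :
    VerT.val (V := V) (𝒳 := (E.X (n + 1)).gr) ((verRes V g hg hg1 hg2 E).d n y) = E.d n y.val := rfl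

end Res

end Groth.Agent.Helper20.GrInj
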