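import Mathlib
import Groth.Agent.Lib.Helper20.GrVer7

/-!
# Graded local cohomology of the Veronese module: the comparison map (helper20)
-/

open DirectSum

namespace Groth.Agent.Helper20.GrInj

open Groth.Agent.Helper8

universe u

variable {R : Type u} [CommRing R] [IsNoetherianRing R] {R' : Type u} [CommRing R']
variable {𝒜 : ℤ → AddSubgroup R} [GradedRing 𝒜] {𝒜' : ℤ → AddSubgroup R'} [GradedRing 𝒜']
  (V : VerRing 𝒜 𝒜')
variable {M : Type u} [AddCommGroup M] [Module R M] {ℳ : ℤ → AddSubgroup M}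
  [DirectSum.Decomposition ℳ] [SetLike.GradedSMul 𝒜 ℳ]
variable {M' : Type u} [AddCommGroup M'] [Module R' M'] {ℳ' : ℤ → AddSubgroup M'}
  [DirectSum.Decomposition ℳ'] [SetLike.GradedSMul 𝒜' ℳ']
variable (g : M' →ₛₗ[V.φ] M) (hg : Function.Injective g)
  (hg1 : ∀ (j : ℤ) (y : M'), y ∈ ℳ' j → g y ∈ ℳ (j * V.q))
  (hg2 : ∀ (j : ℤ) (x : M), x ∈ ℳ (j * V.q) → ∃ y ∈ ℳ' j, g y = x)
variable (E : GrLC.StarInjRes 𝒜 ℳ)
variable (m : HomogeneousIdeal 𝒜) (m' : HomogeneousIdeal 𝒜')
  (hle : m'.toIdeal.map V.φ ≤ m.toIdeal) (hrad : m.toIdeal ≤ (m'.toIdeal.map V.φ).radical)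

include hle hrad in
/-- the terms of the Veronese resolution are acyclic -/
theorem verRes_acyclic [IsNoetherianRing R'] (n j : ℕ) :
    Subsingleton (LC.H m'.toIdeal (j + 1) ((verRes V g hg hg1 hg2 E).X n).carrier) := by
  have hradeq : (m'.toIdeal.map V.φ).radical = m.toIdeal.radical :=
    le_antisymm (Ideal.radical_mono hle) (Ideal.radical_le_radical_iff.2 hrad)
  exact H_subsingleton_of_veronese V.φ (verIncl V (E.X n).gr) (verRetr V (E.X n).gr)
    (verRetr_smul V (E.X n).gr) (verRetr_verIncl V (E.X n).gr) m'.toIdeal m.toIdeal hradeq (j + 1)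
    (X_acyclic E m n j)

omit [IsNoetherianRing R] in
theorem mem_LCgam_iff {S : Type u} [CommRing S] (I : Ideal S) {N : Type u} [AddCommGroup N]
    [Module S N] (x : N) : x ∈ LC.gam I N ↔ x ∈ GrLC.gam I N := Iff.rfl

include hle hrad in
theorem verT_mem_gam_iff (n : ℕ) (y : VerT (E.X n).gr V) :
    y ∈ LC.gam m'.toIdeal (VerT (E.X n).gr V) ↔ y.val ∈ GrLC.gam m.toIdeal (E.X n).carrier := by
  rw [mem_LCgam_iff]
  exact mem_gam_iff_of_radical V.φ (verIncl V (E.X n).gr) (verIncl_injective V (E.X n).gr)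
    m'.toIdeal m.toIdeal hle hrad y

/-- the map on cocycles induced by the inclusions of the Veronese modules -/
noncomputable def verCocycMap (p : ℕ) :
    ↥((verRes V g hg hg1 hg2 E).toARes.cocyc m'.toIdeal p) →ₛₗ[V.φ] ↥(E.cocyc m p) where
  toFun z := ⟨VerT.val (V := V) (𝒳 := (E.X p).gr) z.1,
    ⟨(verT_mem_gam_iff V E m m' hle hrad p z.1).1 z.2.1, by
      have h0 : (verRes V g hg hg1 hg2 E).d p z.1 = 0 := z.2.2
      have h1 := congrArg (VerT.val (V := V) (𝒳 := (E.X (p + 1)).gr)) h0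
      exact h1⟩⟩
  map_add' a b := Subtype.ext rfl
  map_smul' r a := Subtype.ext rfl

theorem verCocycMap_coe (p : ℕ) (z : ↥((verRes V g hg hg1 hg2 E).toARes.cocyc m'.toIdeal p)) :
    ((verCocycMap V g hg hg1 hg2 E m m' hle hrad p z : ↥(E.cocyc m p)) : (E.X p).carrier) =
      VerT.val (V := V) (𝒳 := (E.X p).gr) z.1 := rfl

theorem verCocycMap_cobdy (p : ℕ) :
    ((verRes V g hg hg1 hg2 E).toARes.cobdy m'.toIdeal p).comap
      ((verRes V g hg hg1 hg2 E).toARes.cocyc m'.toIdeal p).subtype ≤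
    LinearMap.ker ((E.toH m p).comp (verCocycMap V g hg hg1 hg2 E m m' hle hrad p)) := by
  intro z hz
  rw [Submodule.mem_comap] at hz
  rw [LinearMap.mem_ker, LinearMap.comp_apply]
  show E.toH m p _ = 0
  rw [Submodule.mkQ_apply, Submodule.Quotient.mk_eq_zero, Submodule.mem_comap]
  show VerT.val (V := V) (𝒳 := (E.X p).gr) z.1 ∈ E.cobdy m p
  cases p with
  | zero =>
    have h0 : (z.1 : VerT (E.X 0).gr V) = 0 := (Submodule.mem_bot R').1 hz
    rw [h0]
    exact Submodule.zero_mem _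
  | succ n =>
    obtain ⟨w, hw, hwz⟩ := hz
    refine ⟨VerT.val (V := V) (𝒳 := (E.X n).gr) w,
      (verT_mem_gam_iff V E m m' hle hrad n w).1 hw, ?_⟩
    have := congrArg (VerT.val (V := V) (𝒳 := (E.X (n + 1)).gr)) hwz
    exact this

/-- the comparison map from the cohomology of `Γ_{m'}` of the Veronese resolution to the graded
local cohomology of the module over the big ring -/
noncomputable def verTheta (p : ℕ) :
    (verRes V g hg hg1 hg2 E).toARes.H m'.toIdeal p →ₛₗ[V.φ] E.H m p :=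
  Submodule.liftQ _ ((E.toH m p).comp (verCocycMap V g hg hg1 hg2 E m m' hle hrad p))
    (verCocycMap_cobdy V g hg hg1 hg2 E m m' hle hrad p)

theorem verTheta_mk (p : ℕ) (z : ↥((verRes V g hg hg1 hg2 E).toARes.cocyc m'.toIdeal p)) :
    verTheta V g hg hg1 hg2 E m m' hle hrad p (Submodule.Quotient.mk z) =
      E.toH m p (verCocycMap V g hg hg1 hg2 E m m' hle hrad p z) := rfl

end Groth.Agent.Helper20.GrInj
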