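import Mathlib
import Groth.Agent.Lib.Helper20.GrVer8

/-!
# Graded local cohomology of the Veronese module: bijectivity on pieces (helper20)
-/

open DirectSum

namespace Groth.Agent.Helper20.GrInj

open Groth.Agent.Helper8

universe u

variable {R : Type u} [CommRing R] [IsNoetherianRing R] {R' : Type u} [CommRing R']
variable {𝒜 : ℤ → AddSubgroup R} [GradedRing 𝒜] {𝒜' : ℤ → AddSubgroup R'} [GradedRing 𝒜']
  (V : VerRing 𝒜 𝒜')
variable {M : Type u} [AddCommGroup M] [Module R M] {ℳ : ℤ → AddSubgroup M}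
  [DirectSum.Decomposition ℳ] [SetLike.GradedSMul 𝒜 ℳ]
variable {M' : Type u} [AddCommGroup M'] [Module R' M'] {ℳ' : ℤ → AddSubgroup M'}
  [DirectSum.Decomposition ℳ'] [SetLike.GradedSMul 𝒜' ℳ']
variable (g : M' →ₛₗ[V.φ] M) (hg : Function.Injective g)
  (hg1 : ∀ (j : ℤ) (y : M'), y ∈ ℳ' j → g y ∈ ℳ (j * V.q))
  (hg2 : ∀ (j : ℤ) (x : M), x ∈ ℳ (j * V.q) → ∃ y ∈ ℳ' j, g y = x)
variable (E : GrLC.StarInjRes 𝒜 ℳ)
variable (m : HomogeneousIdeal 𝒜) (m' : HomogeneousIdeal 𝒜')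
  (hle : m'.toIdeal.map V.φ ≤ m.toIdeal) (hrad : m.toIdeal ≤ (m'.toIdeal.map V.φ).radical)

/-- `θ` maps the piece of degree `j` into the piece of degree `jq` -/
theorem verTheta_mem (p : ℕ) (j : ℤ)
    (w : (verRes V g hg hg1 hg2 E).toARes.H m'.toIdeal p)
    (hw : w ∈ (verRes V g hg hg1 hg2 E).Hgr m' p j) :
    verTheta V g hg hg1 hg2 E m m' hle hrad p w ∈ E.Hgr m p (j * V.q) := by
  obtain ⟨z, hz, rfl⟩ := hw
  exact ⟨verCocycMap V g hg hg1 hg2 E m m' hle hrad p z, hz, rfl⟩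

/-- `θ` is injective on the piece of degree `j` -/
theorem verTheta_eq_zero (p : ℕ) (j : ℤ)
    (w : (verRes V g hg hg1 hg2 E).toARes.H m'.toIdeal p)
    (hw : w ∈ (verRes V g hg hg1 hg2 E).Hgr m' p j)
    (h0 : verTheta V g hg hg1 hg2 E m m' hle hrad p w = 0) : w = 0 := by
  obtain ⟨z, hz, rfl⟩ := hw
  rw [verTheta_mk] at h0
  have h1 : ((verCocycMap V g hg hg1 hg2 E m m' hle hrad p z : ↥(E.cocyc m p)) :
      (E.X p).carrier) ∈ E.cobdy m p := by
    have := (Submodule.Quotient.mk_eq_zero _).1 h0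
    exact this
  rw [verCocycMap_coe] at h1
  rw [Submodule.Quotient.mk_eq_zero, Submodule.mem_comap]
  show (z.1 : VerT (E.X p).gr V) ∈ (verRes V g hg hg1 hg2 E).toARes.cobdy m'.toIdeal p
  have hz' : VerT.val (V := V) (𝒳 := (E.X p).gr) z.1 ∈ (E.X p).gr (j * V.q) := hz
  cases p with
  | zero =>
    have h2 : VerT.val (V := V) (𝒳 := (E.X 0).gr) z.1 = 0 := (Submodule.mem_bot R).1 h1
    have h3 : (z.1 : VerT (E.X 0).gr V) = 0 := VerT.val_injective V (E.X 0).gr h2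
    show (z.1 : VerT (E.X 0).gr V) ∈ (⊥ : Submodule R' (VerT (E.X 0).gr V))
    rw [h3]
    exact Submodule.zero_mem _
  | succ n =>
    obtain ⟨x, hx, hxz⟩ := h1
    -- replace `x` by its component of degree `jq`
    have hx' : (decompose (E.X n).gr x (j * V.q) : (E.X n).carrier) ∈
        GrLC.gam m.toIdeal (E.X n).carrier := gam_isHomogeneous 𝒜 (E.X n).gr m (j * V.q) hx
    have hdx : E.d n (decompose (E.X n).gr x (j * V.q) : (E.X n).carrier) =
        VerT.val (V := V) (𝒳 := (E.X (n + 1)).gr) z.1 := by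
      rw [← decompose_map (E.X n).gr (E.X (n + 1)).gr (E.d_grHom n), hxz,
        decompose_of_mem_same (E.X (n + 1)).gr hz']
    let y : VerT (E.X n).gr V := VerT.mk' V (E.X n).gr
      (decompose (E.X n).gr x (j * V.q) : (E.X n).carrier)
      (verProj_of_mem_mul (E.X n).gr V.q (decompose (E.X n).gr x (j * V.q)).2)
    refine ⟨y, (verT_mem_gam_iff V E m m' hle hrad n y).2 hx', ?_⟩
    exact VerT.val_injective V (E.X (n + 1)).gr hdx

/-- `θ` maps the piece of degree `j` onto the piece of degree `jq` -/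
theorem exists_verTheta_eq (p : ℕ) (j : ℤ) (u : E.H m p) (hu : u ∈ E.Hgr m p (j * V.q)) :
    ∃ w ∈ (verRes V g hg hg1 hg2 E).Hgr m' p j,
      verTheta V g hg hg1 hg2 E m m' hle hrad p w = u := by
  obtain ⟨z₀, hz₀, rfl⟩ := hu
  let y : VerT (E.X p).gr V := VerT.mk' V (E.X p).gr (z₀ : (E.X p).carrier)
    (verProj_of_mem_mul (E.X p).gr V.q hz₀)
  have hy1 : y ∈ LC.gam m'.toIdeal (VerT (E.X p).gr V) :=
    (verT_mem_gam_iff V E m m' hle hrad p y).2 z₀.2.1
  have hy2 : (verRes V g hg hg1 hg2 E).d p y = 0 := by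
    apply VerT.val_injective V (E.X (p + 1)).gr
    show E.d p (z₀ : (E.X p).carrier) = 0
    exact z₀.2.2
  let z : ↥((verRes V g hg hg1 hg2 E).toARes.cocyc m'.toIdeal p) := ⟨y, ⟨hy1, hy2⟩⟩
  refine ⟨Submodule.Quotient.mk z, ⟨z, hz₀, rfl⟩, ?_⟩
  rw [verTheta_mk]
  congr 1

end Groth.Agent.Helper20.GrInj
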