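import Mathlib
import Groth.Agent.Lib.Helper20.GrVer9

/-!
# Graded local cohomology commutes with the Veronese functor (helper20)
-/

open DirectSum

namespace Groth.Agent.Helper20.GrInj

open Groth.Agent.Helper8

universe u

variable {R : Type u} [CommRing R] [IsNoetherianRing R] {R' : Type u} [CommRing R']
variable {𝒜 : ℤ → AddSubgroup R} [GradedRing 𝒜] {𝒜' : ℤ → AddSubgroup R'} [GradedRing 𝒜']
  (V : VerRing 𝒜 𝒜')
variable {M : Type u} [AddCommGroup M] [Module R M] {ℳ : ℤ → AddSubgroup M}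
  [DirectSum.Decomposition ℳ] [SetLike.GradedSMul 𝒜 ℳ]
variable {M' : Type u} [AddCommGroup M'] [Module R' M'] {ℳ' : ℤ → AddSubgroup M'}
  [DirectSum.Decomposition ℳ'] [SetLike.GradedSMul 𝒜' ℳ']
variable (g : M' →ₛₗ[V.φ] M) (hg : Function.Injective g)
  (hg1 : ∀ (j : ℤ) (y : M'), y ∈ ℳ' j → g y ∈ ℳ (j * V.q))
  (hg2 : ∀ (j : ℤ) (x : M), x ∈ ℳ (j * V.q) → ∃ y ∈ ℳ' j, g y = x)
variable (E : GrLC.StarInjRes 𝒜 ℳ) (F : GrLC.StarInjRes 𝒜' ℳ')
variable (m : HomogeneousIdeal 𝒜) (m' : HomogeneousIdeal 𝒜')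
  (hle : m'.toIdeal.map V.φ ≤ m.toIdeal) (hrad : m.toIdeal ≤ (m'.toIdeal.map V.φ).radical)

/-- the isomorphism of degree-zero subrings -/
def VerRing.deg0Map : GrLC.deg0 𝒜' → GrLC.deg0 𝒜 := fun r =>
  ⟨V.φ r.1, by
    have := V.h1 0 r.1 r.2
    rwa [zero_mul] at this⟩

theorem VerRing.deg0Map_bijective : Function.Bijective V.deg0Map := by
  constructor
  · intro a b hab
    apply Subtype.ext
    apply V.inj
    exact congrArg Subtype.val hab
  · intro s
    have hs : (s : R) ∈ 𝒜 (0 * V.q) := by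
      rw [zero_mul]
      exact s.2
    obtain ⟨r', hr', hr's⟩ := V.h2 0 s.1 hs
    exact ⟨⟨r', hr'⟩, Subtype.ext hr's⟩

include hg hg1 hg2 hle hrad in
/-- **the pieces of the graded local cohomology of the Veronese module** -/
theorem exists_addEquiv_Hcomp_veronese (p : ℕ) (j : ℤ) :
    ∃ e : ↥(F.Hcomp m' p j) ≃+ ↥(E.Hcomp m p (j * V.q)),
      ∀ (r : GrLC.deg0 𝒜') (x : ↥(F.Hcomp m' p j)), e (r • x) = V.deg0Map r • e x := by
  haveI : IsNoetherianRing R' := isNoetherianRing_of_veronese 𝒜 𝒜' V.φ V.q V.inj V.h1 V.h2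
  let G := verRes V g hg hg1 hg2 E
  have hG : ∀ n k : ℕ, Subsingleton (LC.H m'.toIdeal (k + 1) (G.X n).carrier) :=
    fun n k => verRes_acyclic V g hg hg1 hg2 E m m' hle hrad n k
  obtain ⟨ψ, hψ⟩ := G.exists_equiv_of_acyclic F m' hG p
  let θ := verTheta V g hg hg1 hg2 E m m' hle hrad p
  have hmem : ∀ x : ↥(F.Hcomp m' p j), ψ.symm x.1 ∈ G.Hgr m' p j := by
    intro x
    rw [hψ j, LinearEquiv.apply_symm_apply]
    exact x.2
  let Φ : ↥(F.Hcomp m' p j) →+ ↥(E.Hcomp m p (j * V.q)) :=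
    { toFun := fun x => ⟨θ (ψ.symm x.1),
        verTheta_mem V g hg hg1 hg2 E m m' hle hrad p j _ (hmem x)⟩
      map_zero' := by
        apply Subtype.ext
        show θ (ψ.symm ((0 : ↥(F.Hcomp m' p j)) : F.H m' p)) = 0
        rw [ZeroMemClass.coe_zero, map_zero, map_zero]
      map_add' := by
        intro a b
        apply Subtype.ext
        show θ (ψ.symm ((a + b : ↥(F.Hcomp m' p j)) : F.H m' p)) =
          θ (ψ.symm a.1) + θ (ψ.symm b.1)
        rw [AddMemClass.coe_add, map_add, map_add] }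
  have hΦ : ∀ x, ((Φ x : ↥(E.Hcomp m p (j * V.q))) : E.H m p) = θ (ψ.symm x.1) := fun _ => rfl
  have hbij : Function.Bijective Φ := by
    constructor
    · rw [injective_iff_map_eq_zero]
      intro x hx
      have h1 : θ (ψ.symm x.1) = 0 := by
        rw [← hΦ, hx]
        rfl
      have h2 := verTheta_eq_zero V g hg hg1 hg2 E m m' hle hrad p j _ (hmem x) h1
      apply Subtype.ext
      rw [ZeroMemClass.coe_zero]
      exact ψ.symm.map_eq_zero_iff.1 h2
    · intro u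
      obtain ⟨w, hw, hwu⟩ := exists_verTheta_eq V g hg hg1 hg2 E m m' hle hrad p j u.1 u.2
      refine ⟨⟨ψ w, (hψ j w).1 hw⟩, Subtype.ext ?_⟩
      rw [hΦ]
      show θ (ψ.symm (ψ w)) = u.1
      rw [LinearEquiv.symm_apply_apply]
      exact hwu
  refine ⟨AddEquiv.ofBijective Φ hbij, fun r x => ?_⟩
  apply Subtype.ext
  show θ (ψ.symm ((r • x : ↥(F.Hcomp m' p j)) : F.H m' p)) = _
  rw [Submodule.coe_smul_of_tower]
  have h1 : (r • (x : F.H m' p)) = (r : R') • (x : F.H m' p) := rfl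
  rw [h1, map_smul, θ.map_smulₛₗ]
  rfl

include hg hg1 hg2 hle hrad in
/-- **graded local cohomology commutes with the Veronese functor**, dimension form -/
theorem finrank_Hcomp_veronese (p : ℕ) (j : ℤ) :
    Module.finrank (GrLC.deg0 𝒜') (F.Hcomp m' p j) =
      Module.finrank (GrLC.deg0 𝒜) (E.Hcomp m p (j * V.q)) := by
  obtain ⟨e, he⟩ := exists_addEquiv_Hcomp_veronese V g hg hg1 hg2 E F m m' hle hrad p j
  have := rank_eq_of_equiv_equiv V.deg0Map e V.deg0Map_bijective he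
  unfold Module.finrank
  rw [this]

end Groth.Agent.Helper20.GrInj
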