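import Mathlib
import Groth.Agent.Lib.Helper20.GrMat6
import Groth.Agent.Lib.Helper20.GrVer10

/-!
# The canonical module of a Veronese subring (helper20)
-/

open DirectSum

namespace Groth.Agent.Helper20.GrInj

open Groth.Agent.Helper8

universe u

section Lam

variable {R : Type u} [CommRing R] [IsNoetherianRing R] {R' : Type u} [CommRing R']
variable {𝒜 : ℤ → AddSubgroup R} [GradedRing 𝒜] {𝒜' : ℤ → AddSubgroup R'} [GradedRing 𝒜']
  (V : VerRing 𝒜 𝒜')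
variable {M : Type u} [AddCommGroup M] [Module R M] {ℳ : ℤ → AddSubgroup M}
  [DirectSum.Decomposition ℳ] [SetLike.GradedSMul 𝒜 ℳ]
variable {M' : Type u} [AddCommGroup M'] [Module R' M'] {ℳ' : ℤ → AddSubgroup M'}
  [DirectSum.Decomposition ℳ'] [SetLike.GradedSMul 𝒜' ℳ']
variable (g : M' →ₛₗ[V.φ] M) (hg : Function.Injective g)
  (hg1 : ∀ (j : ℤ) (y : M'), y ∈ ℳ' j → g y ∈ ℳ (j * V.q))
  (hg2 : ∀ (j : ℤ) (x : M), x ∈ ℳ (j * V.q) → ∃ y ∈ ℳ' j, g y = x)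
variable (E : GrLC.StarInjRes 𝒜 ℳ) (F : GrLC.StarInjRes 𝒜' ℳ')
variable (m : HomogeneousIdeal 𝒜) (m' : HomogeneousIdeal 𝒜')
  (hle : m'.toIdeal.map V.φ ≤ m.toIdeal) (hrad : m.toIdeal ≤ (m'.toIdeal.map V.φ).radical)

include hg hg1 hg2 hle hrad in
/-- **graded local cohomology commutes with the Veronese functor**, semilinear form: the local
cohomology of the Veronese module is the Veronese module of the local cohomology -/
theorem exists_semilinear_H_veronese (p : ℕ) :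
    ∃ Λ : F.H m' p →ₛₗ[V.φ] E.H m p,
      (∀ (j : ℤ) (w : F.H m' p), w ∈ F.Hgr m' p j → Λ w ∈ E.Hgr m p (j * V.q)) ∧
      (∀ (j : ℤ) (u : E.H m p), u ∈ E.Hgr m p (j * V.q) → ∃ w ∈ F.Hgr m' p j, Λ w = u) ∧
      (∀ (j : ℤ) (w : F.H m' p), w ∈ F.Hgr m' p j → Λ w = 0 → w = 0) := by
  haveI : IsNoetherianRing R' := isNoetherianRing_of_veronese 𝒜 𝒜' V.φ V.q V.inj V.h1 V.h2
  let G := verRes V g hg hg1 hg2 E
  have hG : ∀ n k : ℕ, Subsingleton (LC.H m'.toIdeal (k + 1) (G.X n).carrier) :=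
    fun n k => verRes_acyclic V g hg hg1 hg2 E m m' hle hrad n k
  obtain ⟨ψ, hψ⟩ := G.exists_equiv_of_acyclic F m' hG p
  let θ := verTheta V g hg hg1 hg2 E m m' hle hrad p
  have hmem : ∀ (j : ℤ) (x : F.H m' p), x ∈ F.Hgr m' p j → ψ.symm x ∈ G.Hgr m' p j := by
    intro j x hx
    rw [hψ j, LinearEquiv.apply_symm_apply]
    exact hx
  refine ⟨θ.comp ψ.symm.toLinearMap, ?_, ?_, ?_⟩
  · intro j w hw
    exact verTheta_mem V g hg hg1 hg2 E m m' hle hrad p j _ (hmem j w hw)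
  · intro j u hu
    obtain ⟨w, hw, hwu⟩ := exists_verTheta_eq V g hg hg1 hg2 E m m' hle hrad p j u hu
    refine ⟨ψ w, (hψ j w).1 hw, ?_⟩
    show θ (ψ.symm (ψ w)) = u
    rw [LinearEquiv.symm_apply_apply]
    exact hwu
  · intro j w hw h0
    have h2 := verTheta_eq_zero V g hg hg1 hg2 E m m' hle hrad p j _ (hmem j w hw) h0
    exact ψ.symm.map_eq_zero_iff.1 h2

end Lam

section Deg0

variable {R : Type u} [CommRing R] [IsNoetherianRing R] {R' : Type u} [CommRing R']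
variable {𝒜 : ℤ → AddSubgroup R} [GradedRing 𝒜] {𝒜' : ℤ → AddSubgroup R'} [GradedRing 𝒜']
  (V : VerRing 𝒜 𝒜')

/-- the isomorphism of degree-zero subrings as a ring homomorphism -/
def VerRing.deg0Hom : GrLC.deg0 𝒜' →+* GrLC.deg0 𝒜 where
  toFun := V.deg0Map
  map_one' := Subtype.ext (map_one V.φ)
  map_mul' := fun a b => Subtype.ext (map_mul V.φ a.1 b.1)
  map_zero' := Subtype.ext (map_zero V.φ)
  map_add' := fun a b => Subtype.ext (map_add V.φ a.1 b.1)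

include V in
theorem VerRing.isField_deg0 (h0 : IsField (GrLC.deg0 𝒜)) : IsField (GrLC.deg0 𝒜') :=
  MulEquiv.isField h0 (RingEquiv.ofBijective V.deg0Hom V.deg0Map_bijective).toMulEquiv

include V in
theorem VerRing.eq_bot_of_neg (hpos : ∀ n : ℤ, n < 0 → 𝒜 n = ⊥) (j : ℤ) (hj : j < 0) :
    𝒜' j = ⊥ := by
  rw [eq_bot_iff]
  intro r' hr'
  have h1 := V.h1 j r' hr'
  have hq := V.hq
  have hneg : j * (V.q : ℤ) < 0 := by
    apply mul_neg_of_neg_of_pos hj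
    exact_mod_cast hq
  rw [hpos _ hneg, AddSubgroup.mem_bot] at h1
  rw [AddSubgroup.mem_bot]
  apply V.inj
  rw [h1, map_zero]

end Deg0

section Main

variable {R : Type u} [CommRing R] [IsNoetherianRing R] {R' : Type u} [CommRing R']
variable {𝒜 : ℤ → AddSubgroup R} [GradedRing 𝒜] {𝒜' : ℤ → AddSubgroup R'} [GradedRing 𝒜']
  (V : VerRing 𝒜 𝒜')
variable (hpos : ∀ n : ℤ, n < 0 → 𝒜 n = ⊥) (h0 : IsField (GrLC.deg0 𝒜)) (m : HomogeneousIdeal 𝒜)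
  (hmsp : m.toIdeal = Ideal.span (⋃ n ∈ Set.Ioi (0 : ℤ), (𝒜 n : Set R)))
variable {E' : Type u} [AddCommGroup E'] [Module R E'] {𝓔 : ℤ → AddSubgroup E'}
  [DirectSum.Decomposition 𝓔] [SetLike.GradedSMul 𝒜 𝓔]
  (e : (R ⧸ m.toIdeal) →ₗ[R] E') (he : GrLC.IsStarInjHull 𝒜 (GrLC.quotGr 𝒜 m) 𝓔 e)
variable {C : Type u} [AddCommGroup C] [Module R C] {𝒞 : ℤ → AddSubgroup C}
  [DirectSum.Decomposition 𝒞] [SetLike.GradedSMul 𝒜 𝒞]
variable (m' : HomogeneousIdeal 𝒜')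
  (hm'sp : m'.toIdeal = Ideal.span (⋃ j ∈ Set.Ioi (0 : ℤ), (𝒜' j : Set R')))
variable {E'' : Type u} [AddCommGroup E''] [Module R' E''] {𝓔'' : ℤ → AddSubgroup E''}
  [DirectSum.Decomposition 𝓔''] [SetLike.GradedSMul 𝒜' 𝓔'']
  (e' : (R' ⧸ m'.toIdeal) →ₗ[R'] E'') (he' : GrLC.IsStarInjHull 𝒜' (GrLC.quotGr 𝒜' m') 𝓔'' e')
variable {C' : Type u} [AddCommGroup C'] [Module R' C'] {𝒞' : ℤ → AddSubgroup C'}
  [DirectSum.Decomposition 𝒞'] [SetLike.GradedSMul 𝒜' 𝒞']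

/-- the inclusion of the Veronese subring as a semilinear map -/
def VerRing.φLin : R' →ₛₗ[V.φ] R where
  toFun := V.φ
  map_add' := map_add V.φ
  map_smul' := fun r x => by
    rw [smul_eq_mul, map_mul, smul_eq_mul]

include hpos h0 hmsp he hm'sp he' in
/-- **the canonical module of a Veronese subring is the Veronese submodule of the canonical
module** -/
theorem exists_semilinear_veronese_canonical (n : ℕ) (I : GrLC.StarInjRes 𝒜 𝒜)
    (hC : GrLC.IsStarCanonical 𝒜 𝒞 𝓔 m n I) (I' : GrLC.StarInjRes 𝒜' 𝒜')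
    (hC' : GrLC.IsStarCanonical 𝒜' 𝒞' 𝓔'' m' n I') :
    ∃ g : C' →ₛₗ[V.φ] C, Function.Injective g ∧
      ∀ j : ℤ, (𝒞' j).map (g : C' →+ C) = 𝒞 (j * V.q) := by
  haveI : IsNoetherianRing R' := isNoetherianRing_of_veronese 𝒜 𝒜' V.φ V.q V.inj V.h1 V.h2
  have hpos' : ∀ j : ℤ, j < 0 → 𝒜' j = ⊥ := V.eq_bot_of_neg hpos
  have h0' : IsField (GrLC.deg0 𝒜') := V.isField_deg0 h0
  have hle : m'.toIdeal.map V.φ ≤ m.toIdeal := by
    rw [hmsp, hm'sp]
    exact map_irrelevant_le 𝒜 𝒜' V.φ V.q V.hq V.h1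
  have hrad : m.toIdeal ≤ (m'.toIdeal.map V.φ).radical := by
    rw [hmsp, hm'sp]
    exact irrelevant_le_radical_map 𝒜 𝒜' V.φ V.q V.h2
  obtain ⟨P⟩ := exists_grPairing_of_isStarCanonical hpos h0 m hmsp e he n I hC
  obtain ⟨P'⟩ := exists_grPairing_of_isStarCanonical hpos' h0' m' hm'sp e' he' n I' hC'
  obtain ⟨Λ, hΛ1, hΛ2, hΛ3⟩ := exists_semilinear_H_veronese V V.φLin V.inj V.h1 V.h2 I I' m m'
    hle hrad n
  have hsm : ∀ (i d : ℤ) (r' : R') (w : I'.H m' n), r' ∈ 𝒜' i → w ∈ I'.Hgr m' n d →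
      r' • w ∈ I'.Hgr m' n (i + d) := by
    intro i d r' w hr' hw
    have := (Hgr_gradedSMul I' m' n).smul_mem hr' hw
    rwa [vadd_eq_add] at this
  exact exists_veronese_of_grPairing V hsm Λ hΛ1 hΛ2 hΛ3 P P'

end Main

end Groth.Agent.Helper20.GrInj
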