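import Mathlib
import Groth.Prelude
import Groth.Agent.Lib.Helper20.GorBr4
import Groth.Agent.Lib.Helper20.GrMat7
import Groth.Agent.Lib.Helper20.GrCoind4

/-!
# Veronese subrings of Gorenstein graded rings (helper20)
-/

open DirectSum IsLocalRing

namespace Groth.Agent.Helper20.GorBr

open Groth.Agent.Helper20.GrInj Groth.Agent.Helper8

universe u

section Irr

variable {R : Type u} [CommRing R] (𝒜 : ℤ → AddSubgroup R) [GradedRing 𝒜]

/-- the irrelevant ideal of a ℤ-graded ring, generated by the elements of positive degree -/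
def irr : HomogeneousIdeal 𝒜 :=
  ⟨Ideal.span (⋃ n ∈ Set.Ioi (0 : ℤ), (𝒜 n : Set R)), Ideal.homogeneous_span 𝒜 _ (by
    intro x hx
    simp only [Set.mem_iUnion, Set.mem_Ioi, SetLike.mem_coe, exists_prop] at hx
    obtain ⟨n, -, hxn⟩ := hx
    exact ⟨n, hxn⟩)⟩

theorem irr_toIdeal :
    (irr 𝒜).toIdeal = Ideal.span (⋃ n ∈ Set.Ioi (0 : ℤ), (𝒜 n : Set R)) := rfl

variable {𝒜} (hpos : ∀ n : ℤ, n < 0 → 𝒜 n = ⊥) (h0 : IsField (GrLC.deg0 𝒜))

include hpos h0 in
theorem isStarLocal_irr : GrLC.IsStarLocal 𝒜 (irr 𝒜) := by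
  have hco : IsCoatom (irr 𝒜) := by
    refine ⟨?_, ?_⟩
    · intro h
      have h1 : (1 : R) ∈ (irr 𝒜).toIdeal := by
        rw [h, HomogeneousIdeal.toIdeal_top]
        trivial
      exact one_ne_zero_of_isField h0
        (eq_zero_of_mem_irrelevant_of_mem_zero hpos (irr 𝒜) (irr_toIdeal 𝒜)
          SetLike.GradedOne.one_mem h1)
    · intro b hb
      obtain ⟨x, hxb, hxi⟩ := SetLike.exists_of_lt hb
      have hsub := sub_decompose_zero_mem hpos (irr 𝒜) (irr_toIdeal 𝒜) x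
      have hx0b : (decompose 𝒜 x 0 : R) ∈ b.toIdeal := by
        have := b.toIdeal.sub_mem hxb (hb.le hsub)
        rwa [sub_sub_cancel] at this
      have hx0 : (decompose 𝒜 x 0 : R) ≠ 0 := by
        intro h
        apply hxi
        rw [h, sub_zero] at hsub
        exact hsub
      obtain ⟨u, -, hu⟩ := exists_mul_eq_one_of_mem_zero h0 (decompose 𝒜 x 0).2 hx0
      apply HomogeneousIdeal.toIdeal_injective
      rw [HomogeneousIdeal.toIdeal_top, Ideal.eq_top_iff_one, ← hu]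
      exact b.toIdeal.mul_mem_left u hx0b
  refine ⟨hco, fun n' hn' => ?_⟩
  have hle : irr 𝒜 ≤ n' := by
    show (irr 𝒜).toIdeal ≤ n'.toIdeal
    rw [irr_toIdeal, Ideal.span_le]
    intro x hx
    simp only [Set.mem_iUnion, Set.mem_Ioi, SetLike.mem_coe, exists_prop] at hx
    obtain ⟨k, hk, hxk⟩ := hx
    exact pos_mem_of_isCoatom hpos n' hn' hk hxk
  exact (hco.le_iff_eq hn'.1).1 hle

end Irr

section EndDeg

variable {W : Type u} [AddCommGroup W] {𝒲 : ℤ → AddSubgroup W}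

theorem endDeg_eq_of_top {s : ℤ} (h1 : 𝒲 s ≠ ⊥) (h2 : ∀ j, s < j → 𝒲 j = ⊥) :
    GrLC.endDeg 𝒲 = ((s : WithTop ℤ) : WithBot (WithTop ℤ)) := by
  unfold GrLC.endDeg
  apply le_antisymm
  · apply iSup₂_le
    intro j hj
    have hjs : j ≤ s := by
      by_contra h
      exact hj (h2 j (not_le.1 h))
    exact_mod_cast hjs
  · exact le_iSup₂ (f := fun (n : ℤ) (_ : 𝒲 n ≠ ⊥) => ((n : WithTop ℤ) : WithBot (WithTop ℤ))) s h1

end EndDeg

section Main

variable {R : Type u} [CommRing R] [hG : LocCoh.IsGorensteinRing R] {R' : Type u} [CommRing R']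
variable {𝒜 : ℤ → AddSubgroup R} [GradedRing 𝒜] {𝒜' : ℤ → AddSubgroup R'} [GradedRing 𝒜']
variable (hpos : ∀ n : ℤ, n < 0 → 𝒜 n = ⊥) (h0 : IsField (GrLC.deg0 𝒜)) (m : HomogeneousIdeal 𝒜)
  (hm : GrLC.IsStarLocal 𝒜 m)
  (hmsp : m.toIdeal = Ideal.span (⋃ n ∈ Set.Ioi (0 : ℤ), (𝒜 n : Set R)))
  (n : ℕ) (hn : ringKrullDim R = n) (I : GrLC.StarInjRes 𝒜 𝒜)

include hpos h0 hm hmsp hn in
/-- **Veronese subrings `R^(q)` with `q ∣ a(R)` of a Gorenstein graded ring over a field are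
Gorenstein** -/
theorem isGorensteinRing_veronese (a : ℤ)
    (ha : GrLC.endDeg (I.Hgr m n) = ((a : WithTop ℤ) : WithBot (WithTop ℤ)))
    (V : VerRing 𝒜 𝒜') (hdvd : (V.q : ℤ) ∣ a) : LocCoh.IsGorensteinRing R' := by
  classical
  haveI : IsNoetherianRing R' := isNoetherianRing_of_veronese 𝒜 𝒜' V.φ V.q V.inj V.h1 V.h2
  have hpos' : ∀ j : ℤ, j < 0 → 𝒜' j = ⊥ := V.eq_bot_of_neg hpos
  have h0' : IsField (GrLC.deg0 𝒜') := V.isField_deg0 h0
  have hm' := isStarLocal_irr hpos' h0'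
  have hm'sp := irr_toIdeal 𝒜'
  let F : GrLC.StarInjRes 𝒜' 𝒜' := starInjRes 𝒜' 𝒜'
  have hle : (irr 𝒜').toIdeal.map V.φ ≤ m.toIdeal := by
    rw [hmsp, hm'sp]
    exact map_irrelevant_le 𝒜 𝒜' V.φ V.q V.hq V.h1
  have hrad : m.toIdeal ≤ ((irr 𝒜').toIdeal.map V.φ).radical := by
    rw [hmsp, hm'sp]
    exact irrelevant_le_radical_map 𝒜 𝒜' V.φ V.q V.h2
  obtain ⟨hvan, s, hs, -⟩ := exists_isSocAt_of_isGorensteinRing hpos h0 m hm hmsp n hn I
  letI := HgrDec I m n
  letI := Hgr_gradedSMul I m n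
  have hsm : ∀ (i j : ℤ) (r : R) (w : I.H m n), r ∈ 𝒜 i → w ∈ I.Hgr m n j →
      r • w ∈ I.Hgr m n (i + j) := by
    intro i j r w hr hw
    have := SetLike.GradedSMul.smul_mem (A := 𝒜) (B := I.Hgr m n) hr hw
    rwa [vadd_eq_add] at this
  have htor := exists_pow_smul_H_eq_zero I m n
  have htop : ∀ j, s < j → I.Hgr m n j = ⊥ := fun j hj =>
    eq_bot_of_isSocAt_of_lt m hsm hpos htor hs hj
  -- `s = a`
  have hsa : s = a := by
    obtain ⟨-, w₀, hw₀, hw₀0, -, -⟩ := hs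
    have hne : I.Hgr m n s ≠ ⊥ := by
      intro h
      rw [h, AddSubgroup.mem_bot] at hw₀
      exact hw₀0 hw₀
    have h1 := endDeg_eq_of_top hne htop
    rw [ha] at h1
    exact_mod_cast h1.symm
  subst hsa
  obtain ⟨a', ha'⟩ := hdvd
  have hqpos : (0 : ℤ) < (V.q : ℤ) := by exact_mod_cast V.hq
  have hsdeg : s = a' * (V.q : ℤ) := by rw [ha', mul_comm]
  -- every element of top degree lies in the socle
  have hall : ∀ h ∈ I.Hgr m n s, ∀ r ∈ m.toIdeal, r • h = 0 := by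
    intro h hh
    apply smul_eq_zero_of_homog m h
    intro l r hr hra
    rcases lt_trichotomy l 0 with hl | hl | hl
    · rw [hpos l hl, AddSubgroup.mem_bot] at hr
      rw [hr, zero_smul]
    · subst hl
      rw [eq_zero_of_mem_irrelevant_of_mem_zero hpos m hmsp hr hra, zero_smul]
    · have h1 := hsm l s r h hr hh
      rw [htop (l + s) (by omega), AddSubgroup.mem_bot] at h1
      exact h1
  refine isGorensteinRing_of_isSocAt hpos' (irr 𝒜') hm' n F ?_ (s := a') ?_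
  · -- vanishing
    intro i hi
    haveI := hvan i hi
    obtain ⟨Λ, -, -, hΛ3⟩ := exists_semilinear_H_veronese V V.φLin V.inj V.h1 V.h2 I F m (irr 𝒜')
      hle hrad i
    letI := HgrDec F (irr 𝒜') i
    refine ⟨fun x y => ?_⟩
    have hz : ∀ w : F.H (irr 𝒜') i, w = 0 := by
      intro w
      rw [← sum_support_decompose (F.Hgr (irr 𝒜') i) w]
      apply Finset.sum_eq_zero
      intro j _
      exact hΛ3 j _ (decompose (F.Hgr (irr 𝒜') i) w j).2 (Subsingleton.elim _ _)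
    rw [hz x, hz y]
  · -- the socle
    obtain ⟨Λ, hΛ1, hΛ2, hΛ3⟩ := exists_semilinear_H_veronese V V.φLin V.inj V.h1 V.h2 I F m
      (irr 𝒜') hle hrad n
    letI := HgrDec F (irr 𝒜') n
    letI := Hgr_gradedSMul F (irr 𝒜') n
    have hsm' : ∀ (i j : ℤ) (r : R') (w : F.H (irr 𝒜') n), r ∈ 𝒜' i →
        w ∈ F.Hgr (irr 𝒜') n j → r • w ∈ F.Hgr (irr 𝒜') n (i + j) := by
      intro i j r w hr hw
      have := SetLike.GradedSMul.smul_mem (A := 𝒜') (B := F.Hgr (irr 𝒜') n) hr hw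
      rwa [vadd_eq_add] at this
    have hΛsmul : ∀ (r' : R') (w : F.H (irr 𝒜') n), Λ (r' • w) = V.φ r' • Λ w :=
      fun r' w => Λ.map_smulₛₗ r' w
    have hs' := hs
    obtain ⟨hs1, w₀, hw₀, hw₀0, hw₀m, hgen⟩ := hs
    refine ⟨?_, ?_⟩
    · intro j w hw hw0 hwm
      have hΛw : Λ w ∈ I.Hgr m n (j * V.q) := hΛ1 j w hw
      have hΛw0 : Λ w ≠ 0 := fun h => hw0 (hΛ3 j w hw h)
      obtain ⟨hjs, r, hr, hrw⟩ := exists_smul_ne_zero_of_isSocAt m hsm hpos htor hs' hΛw hΛw0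
      have hja' : j ≤ a' := by
        rw [hsdeg] at hjs
        exact le_of_mul_le_mul_right hjs hqpos
      have hdeg : s - j * (V.q : ℤ) = (a' - j) * (V.q : ℤ) := by rw [hsdeg]; ring
      rw [hdeg] at hr
      obtain ⟨r', hr', rfl⟩ := V.h2 (a' - j) r hr
      rw [← hΛsmul] at hrw
      by_contra hne
      have hlt : 0 < a' - j := by
        have : j ≠ a' := hne
        omega
      apply hrw
      rw [hwm r' (by
        rw [hm'sp]
        apply Ideal.subset_span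
        simp only [Set.mem_iUnion, Set.mem_Ioi, SetLike.mem_coe, exists_prop]
        exact ⟨a' - j, hlt, hr'⟩), map_zero]
    · rw [hsdeg] at hw₀
      obtain ⟨w₀', hw₀', hΛw₀'⟩ := hΛ2 a' w₀ hw₀
      have hw₀'m : ∀ r ∈ (irr 𝒜').toIdeal, r • w₀' = 0 := by
        apply smul_eq_zero_of_homog (irr 𝒜') w₀'
        intro l r' hr' hr'm
        rcases lt_trichotomy l 0 with hl | hl | hl
        · rw [hpos' l hl, AddSubgroup.mem_bot] at hr'
          rw [hr', zero_smul]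
        · subst hl
          rw [eq_zero_of_mem_irrelevant_of_mem_zero hpos' (irr 𝒜') hm'sp hr' hr'm, zero_smul]
        · apply hΛ3 (l + a') _ (hsm' l a' r' w₀' hr' hw₀')
          rw [hΛsmul, hΛw₀']
          apply hw₀m
          rw [hmsp]
          apply Ideal.subset_span
          simp only [Set.mem_iUnion, Set.mem_Ioi, SetLike.mem_coe, exists_prop]
          exact ⟨l * V.q, mul_pos hl hqpos, V.h1 l r' hr'⟩
      refine ⟨w₀', hw₀', ?_, hw₀'m, ?_⟩
      · intro h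
        apply hw₀0
        rw [← hΛw₀', h, map_zero]
      · intro w hw _
        have hΛw : Λ w ∈ I.Hgr m n s := by
          rw [hsdeg]
          exact hΛ1 a' w hw
        obtain ⟨c, hc, hcw⟩ := hgen (Λ w) hΛw (hall _ hΛw)
        have hc' : c ∈ 𝒜 (0 * (V.q : ℤ)) := by rwa [zero_mul]
        obtain ⟨c', hc'mem, rfl⟩ := V.h2 0 c hc'
        refine ⟨c', hc'mem, ?_⟩
        have hmem : w - c' • w₀' ∈ F.Hgr (irr 𝒜') n a' := by
          apply sub_mem hw
          have := hsm' 0 a' c' w₀' hc'mem hw₀'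
          rwa [zero_add] at this
        have hzero : Λ (w - c' • w₀') = 0 := by
          rw [map_sub, hΛsmul, hΛw₀', hcw, sub_self]
        exact sub_eq_zero.1 (hΛ3 a' _ hmem hzero)

end Main

end Groth.Agent.Helper20.GorBr
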