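import Mathlib
import Groth.Prelude
import Groth.Agent.Lib.Helper20.GorVer1
import Groth.Agent.Lib.Helper20.GrKos8

/-!
# Standard graded rings: pieces are not cyclic; Veronese subrings of Gorenstein standard graded
rings (helper20)
-/

open DirectSum IsLocalRing

namespace Groth.Agent.Helper20.GorBr

open Groth.Agent.Helper20.GrInj Groth.Agent.Helper8

universe u

section Std

variable {R : Type u} [CommRing R] {𝒜 : ℤ → AddSubgroup R} [GradedRing 𝒜]
variable (hpos : ∀ n : ℤ, n < 0 → 𝒜 n = ⊥) (h0 : IsField (GrLC.deg0 𝒜)) (m : HomogeneousIdeal 𝒜)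
  (hmsp : m.toIdeal = Ideal.span (⋃ n ∈ Set.Ioi (0 : ℤ), (𝒜 n : Set R)))
  (hstd : Ideal.span (⋃ n ∈ Set.Ioi (0 : ℤ), (𝒜 n : Set R)) =
    Ideal.span ((𝒜 1 : AddSubgroup R) : Set R))

include hstd in
/-- in a standard graded ring, `R_{i+1}` is spanned by the products `R_i R_1` -/
theorem mem_closure_products {i : ℤ} (hi : 0 ≤ i) {x : R} (hx : x ∈ 𝒜 (i + 1)) :
    x ∈ AddSubgroup.closure {z : R | ∃ u ∈ 𝒜 i, ∃ y ∈ 𝒜 1, z = u * y} := by
  classical
  have hxm : x ∈ Ideal.span ((𝒜 1 : AddSubgroup R) : Set R) := by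
    rw [← hstd]
    apply Ideal.subset_span
    simp only [Set.mem_iUnion, Set.mem_Ioi, SetLike.mem_coe, exists_prop]
    exact ⟨i + 1, by omega, hx⟩
  obtain ⟨c, hc, hsum⟩ := Submodule.mem_span_set.1 hxm
  have hx' : x = (decompose 𝒜 x (i + 1) : R) := (decompose_of_mem_same 𝒜 hx).symm
  rw [hx', ← hsum, Finsupp.sum, decompose_sum, DFinsupp.finsetSum_apply,
    AddSubmonoidClass.coe_finsetSum]
  apply AddSubgroup.sum_mem
  intro y hy
  have hy1 : y ∈ 𝒜 1 := hc hy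
  rw [smul_eq_mul, DirectSum.coe_decompose_mul_add_of_right_mem 𝒜 hy1]
  exact AddSubgroup.subset_closure ⟨_, (decompose 𝒜 (c y) i).2, y, hy1, rfl⟩

include hmsp hstd in
theorem pow_le_span_piece (t : ℕ) :
    m.toIdeal ^ t ≤ Ideal.span ((𝒜 (t : ℤ) : AddSubgroup R) : Set R) := by
  induction t with
  | zero =>
    rw [pow_zero, Ideal.one_eq_top]
    intro x _
    have h1 : (1 : R) ∈ Ideal.span ((𝒜 ((0 : ℕ) : ℤ) : AddSubgroup R) : Set R) :=
      Ideal.subset_span (by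
        show (1 : R) ∈ 𝒜 ((0 : ℕ) : ℤ)
        rw [Nat.cast_zero]
        exact SetLike.GradedOne.one_mem)
    have := Ideal.mul_mem_left _ x h1
    rwa [mul_one] at this
  | succ t ih =>
    rw [pow_succ]
    refine (Ideal.mul_mono ih (le_of_eq (hmsp.trans hstd))).trans ?_
    rw [Ideal.span_mul_span']
    apply Ideal.span_mono
    rintro _ ⟨u, hu, y, hy, rfl⟩
    show u * y ∈ 𝒜 ((t + 1 : ℕ) : ℤ)
    have := SetLike.mul_mem_graded (A := 𝒜) hu hy
    rw [Nat.cast_succ]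
    exact this

include hmsp hstd in
/-- if `Γ_m(R) = 0`, a nonzero element is not killed by `R_t` -/
theorem exists_mul_ne_zero_of_gam_eq_bot (hΓ : GrLC.gam m.toIdeal R = ⊥) {r : R} (hr : r ≠ 0)
    (t : ℕ) : ∃ s ∈ 𝒜 (t : ℤ), s * r ≠ 0 := by
  by_contra hall
  push Not at hall
  apply hr
  have hmem : r ∈ GrLC.gam m.toIdeal R := by
    refine ⟨t, fun c hc => ?_⟩
    have hc' := pow_le_span_piece m hmsp hstd t hc
    rw [smul_eq_mul]
    refine Submodule.span_induction (p := fun z _ => z * r = 0) ?_ ?_ ?_ ?_ hc'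
    · intro z hz
      exact hall z hz
    · exact zero_mul r
    · intro z z' _ _ hz hz'
      rw [add_mul, hz, hz', add_zero]
    · intro a z _ hz
      rw [smul_eq_mul, mul_assoc, hz, mul_zero]
  rw [hΓ] at hmem
  exact (Submodule.mem_bot R).1 hmem

include h0 hmsp hstd in
/-- **in a standard graded ring over a field with `Γ_m(R) = 0` and `dim_k R_1 ≥ 2`, no piece
`R_ρ`, `ρ ≥ 1`, is cyclic over `k`** -/
theorem not_cyclic_piece (hΓ : GrLC.gam m.toIdeal R = ⊥)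
    (hR1 : 2 ≤ Module.finrank (GrLC.deg0 𝒜) (GrLC.comp 𝒜 𝒜 1)) {ρ : ℤ} (hρ : 1 ≤ ρ)
    (x : R) (hx : ∀ z ∈ 𝒜 ρ, ∃ c ∈ 𝒜 0, z = c * x) : False := by
  classical
  letI : Field ↥(GrLC.deg0 𝒜) := h0.toField
  obtain ⟨i, rfl⟩ : ∃ i : ℤ, ρ = i + 1 := ⟨ρ - 1, by ring⟩
  have hi : 0 ≤ i := by omega
  obtain ⟨t, ht⟩ := Int.eq_ofNat_of_zero_le (show 0 ≤ i + 1 by omega)
  have h1ne : (1 : R) ≠ 0 := one_ne_zero_of_isField h0
  -- all products vanish
  have hprod : ∀ u ∈ 𝒜 i, ∀ y₁ ∈ 𝒜 1, u * y₁ = 0 := by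
    intro u hu y₁ hy₁
    by_contra hne
    have hy₁0 : (⟨y₁, hy₁⟩ : GrLC.comp 𝒜 𝒜 1) ≠ 0 := by
      intro h
      apply hne
      have : y₁ = 0 := congrArg Subtype.val h
      rw [this, mul_zero]
    obtain ⟨y₂, hy₂⟩ := exists_linearIndependent_pair_of_one_lt_finrank
      (show 1 < Module.finrank (GrLC.deg0 𝒜) (GrLC.comp 𝒜 𝒜 1) by omega) hy₁0
    have hmem1 : u * y₁ ∈ 𝒜 (i + 1) := SetLike.mul_mem_graded hu hy₁
    have hmem2 : u * (y₂ : R) ∈ 𝒜 (i + 1) := SetLike.mul_mem_graded hu y₂.2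
    obtain ⟨l₁, hl₁, h1⟩ := hx _ hmem1
    obtain ⟨l₂, hl₂, h2⟩ := hx _ hmem2
    -- the relation
    have hrel : x * (l₁ * (y₂ : R) - l₂ * y₁) = 0 := by
      have : (u * y₁) * (y₂ : R) = (u * (y₂ : R)) * y₁ := by ring
      rw [h1, h2] at this
      linear_combination this
    have hv : l₁ * (y₂ : R) - l₂ * y₁ = 0 := by
      by_contra hv0
      obtain ⟨s, hs, hsv⟩ := exists_mul_ne_zero_of_gam_eq_bot m hmsp hstd hΓ hv0 t
      rw [← ht] at hs
      obtain ⟨c, -, rfl⟩ := hx s hs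
      apply hsv
      rw [mul_assoc, hrel, mul_zero]
    have hlin := hy₂
    rw [LinearIndependent.pair_iff] at hlin
    have hcomb : (⟨-l₂, neg_mem hl₂⟩ : GrLC.deg0 𝒜) • (⟨y₁, hy₁⟩ : GrLC.comp 𝒜 𝒜 1) +
        (⟨l₁, hl₁⟩ : GrLC.deg0 𝒜) • y₂ = 0 := by
      apply Subtype.ext
      show -l₂ * y₁ + l₁ * (y₂ : R) = 0
      linear_combination hv
    obtain ⟨-, hl₁0⟩ := hlin _ _ hcomb
    have : l₁ = 0 := congrArg Subtype.val hl₁0
    apply hne
    rw [h1, this, zero_mul]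
  -- hence `R_ρ = 0`
  have hzero : ∀ z ∈ 𝒜 (i + 1), z = 0 := by
    intro z hz
    have := mem_closure_products hstd hi hz
    refine AddSubgroup.closure_induction (p := fun w _ => w = 0) ?_ rfl ?_ ?_ this
    · rintro w ⟨u, hu, y, hy, rfl⟩
      exact hprod u hu y hy
    · intro a b _ _ ha hb
      rw [ha, hb, add_zero]
    · intro a _ ha
      rw [ha, neg_zero]
  obtain ⟨s, hs, hs1⟩ := exists_mul_ne_zero_of_gam_eq_bot m hmsp hstd hΓ h1ne t
  rw [← ht] at hs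
  apply hs1
  rw [hzero s hs, zero_mul]

end Std

end Groth.Agent.Helper20.GorBr
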