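import Mathlib
import Groth.Prelude
import Groth.Agent.Lib.Helper20.GorType2
import Groth.Agent.Lib.Helper20.GorVer2

/-!
# Bass numbers of graded rings over a field via the graded socle (helper20)
-/

set_option autoImplicit false

open DirectSum IsLocalRing

namespace Groth.Agent.Helper20.GorType

open Groth.Agent.Helper8 Groth.Agent.Helper20.GrInj Groth.Agent.Helper20.GorBr

universe u

section Pairing

/-- a pairing of finite-dimensional spaces into a line which is nondegenerate on both sides -/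
theorem finrank_eq_of_pairing {K U V L : Type*} [Field K] [AddCommGroup U] [Module K U]
    [AddCommGroup V] [Module K V] [AddCommGroup L] [Module K L] [Module.Finite K U]
    [Module.Finite K V] (hL : Module.finrank K L = 1) (B : U →ₗ[K] V →ₗ[K] L)
    (h1 : Function.Injective B) (h2 : Function.Injective B.flip) :
    Module.finrank K U = Module.finrank K V := by
  haveI : Module.Finite K L := Module.finite_of_finrank_pos (by rw [hL]; exact Nat.one_pos)
  apply le_antisymm
  · have := LinearMap.finrank_le_finrank_of_injective h1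
    rwa [Module.finrank_linearMap, hL, mul_one] at this
  · have := LinearMap.finrank_le_finrank_of_injective h2
    rwa [Module.finrank_linearMap, hL, mul_one] at this

end Pairing

section Graded

variable {R : Type u} [CommRing R] [IsNoetherianRing R] {𝒜 : ℤ → AddSubgroup R} [GradedRing 𝒜]
variable (hpos : ∀ n : ℤ, n < 0 → 𝒜 n = ⊥) (h0 : IsField (GrLC.deg0 𝒜)) (m : HomogeneousIdeal 𝒜)
  (hmsp : m.toIdeal = Ideal.span (⋃ n ∈ Set.Ioi (0 : ℤ), (𝒜 n : Set R)))
  [hmax : m.toIdeal.IsMaximal] (n : ℕ) (F : GrLC.StarInjRes 𝒜 𝒜)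

include h0 in
theorem finite_Hcomp (j : ℤ) : Module.Finite (GrLC.deg0 𝒜) (F.Hcomp m n j) := by
  letI : Field ↥(GrLC.deg0 𝒜) := h0.toField
  haveI : IsArtinian R (F.H m n) := H_isArtinian_of_isMaximal F m n
  haveI := Hcomp_isArtinian F m n j
  exact ((IsArtinianRing.tfae (R := ↥(GrLC.deg0 𝒜)) (M := ↥(F.Hcomp m n j))).out 0 2).2 this

include hpos h0 hmsp in
/-- **the Bass number `μ_n(m, R)` of a graded ring over a field whose local cohomology is
concentrated in degree `n` and whose socle is the piece of degree `j₀`** -/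
theorem bassNum_eq_finrank_of_socle (hvan : ∀ i : ℕ, i ≠ n → Subsingleton (F.H m i)) (j₀ : ℤ)
    (hsoc : ∀ w : F.H m n, (∀ r ∈ m.toIdeal, r • w = 0) ↔ w ∈ F.Hgr m n j₀) :
    GrLC.bassNum m.toIdeal R n = (Module.finrank (GrLC.deg0 𝒜) (F.Hcomp m n j₀) : ℕ∞) := by
  have hvan' : ∀ i : ℕ, i ≠ n → Subsingleton (LC.H m.toIdeal i R) := fun i hi => by
    obtain ⟨e⟩ := nonempty_H_equiv_LC F m i
    haveI := hvan i hi
    exact e.symm.toEquiv.subsingleton
  rw [bassNum_eq_length_socle m.toIdeal n hvan']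
  obtain ⟨eH⟩ := nonempty_H_equiv_LC F m n
  have h1 : Module.length R (Submodule.torsionBySet R (LC.H m.toIdeal n R) (m.toIdeal : Set R)) =
      Module.length R (Submodule.torsionBySet R (F.H m n) (m.toIdeal : Set R)) :=
    LinearEquiv.length_eq (Groth.Agent.Helper8.Uniq.torsionBySetCongr eH.symm _)
  rw [h1]
  have h2 : Module.length (GrLC.deg0 𝒜)
      (Submodule.torsionBySet R (F.H m n) (m.toIdeal : Set R)) =
      Module.length R (Submodule.torsionBySet R (F.H m n) (m.toIdeal : Set R)) :=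
    length_eq_of_smul_eq (GrLC.deg0 𝒜).subtype (fun c x => rfl) m.toIdeal
      (fun a => ⟨⟨(decompose 𝒜 a 0 : R), (decompose 𝒜 a 0).2⟩,
        sub_decompose_zero_mem hpos m hmsp a⟩)
      (fun j hj x => Subtype.ext ((Submodule.mem_torsionBySet_iff _ _).mp x.2 ⟨j, hj⟩))
  rw [← h2]
  let eK : ↥(Submodule.torsionBySet R (F.H m n) (m.toIdeal : Set R)) ≃ₗ[GrLC.deg0 𝒜]
      ↥(F.Hcomp m n j₀) :=
    { toFun := fun x => ⟨x.1, (hsoc x.1).1 (fun r hr =>
        (Submodule.mem_torsionBySet_iff _ _).mp x.2 ⟨r, hr⟩)⟩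
      map_add' := fun _ _ => rfl
      map_smul' := fun _ _ => rfl
      invFun := fun y => ⟨y.1, by
        rw [Submodule.mem_torsionBySet_iff]
        rintro ⟨r, hr⟩
        exact (hsoc y.1).2 y.2 r hr⟩
      left_inv := fun _ => rfl
      right_inv := fun _ => rfl }
  have h3 : Module.length (GrLC.deg0 𝒜)
      (Submodule.torsionBySet R (F.H m n) (m.toIdeal : Set R)) =
      Module.length (GrLC.deg0 𝒜) (F.Hcomp m n j₀) := LinearEquiv.length_eq eK
  rw [h3]
  letI : Field ↥(GrLC.deg0 𝒜) := h0.toField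
  haveI := finite_Hcomp h0 m n F j₀
  exact Module.length_eq_finrank _ _

include hpos h0 hmsp in
/-- **duality between the pieces of `R` and of `H^n_m(R)`** for a graded ring over a field whose
top local cohomology is faithful with one-dimensional socle in degree `s` -/
theorem finrank_Hcomp_eq_finrank_comp {s : ℤ} (hs : IsSocAt 𝒜 m.toIdeal (F.Hgr m n) s)
    (hB : ∀ (i : ℤ) (r : R), r ∈ 𝒜 i → r ≠ 0 → ∃ h ∈ F.Hgr m n (s - i), r • h ≠ 0) (ρ : ℤ) :
    Module.finrank (GrLC.deg0 𝒜) (F.Hcomp m n (s - ρ)) =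
      Module.finrank (GrLC.deg0 𝒜) (GrLC.comp 𝒜 𝒜 ρ) := by
  classical
  letI : Field ↥(GrLC.deg0 𝒜) := h0.toField
  letI := HgrDec F m n
  letI := Hgr_gradedSMul F m n
  have hsm : ∀ (i j : ℤ) (r : R) (w : F.H m n), r ∈ 𝒜 i → w ∈ F.Hgr m n j →
      r • w ∈ F.Hgr m n (i + j) := by
    intro i j r w hr hw
    have := SetLike.GradedSMul.smul_mem (A := 𝒜) (B := F.Hgr m n) hr hw
    rwa [vadd_eq_add] at this
  have htor := exists_pow_smul_H_eq_zero F m n
  have htop : ∀ j, s < j → F.Hgr m n j = ⊥ := fun j hj =>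
    eq_bot_of_isSocAt_of_lt m hsm hpos htor hs hj
  haveI := finite_Hcomp h0 m n F (s - ρ)
  haveI : IsNoetherian (GrLC.deg0 𝒜) (GrLC.comp 𝒜 𝒜 ρ) := comp_isNoetherian (𝒜 := 𝒜) (ℳ := 𝒜) ρ
  haveI : Module.Finite ↥(GrLC.deg0 𝒜) ↥(GrLC.comp 𝒜 𝒜 ρ) := Module.IsNoetherian.finite _ _
  -- the top piece is a line
  have hL : Module.finrank (GrLC.deg0 𝒜) (F.Hcomp m n s) = 1 := by
    obtain ⟨-, w₀, hw₀, hw₀0, -, hgen⟩ := hs
    refine finrank_eq_one (⟨w₀, hw₀⟩ : F.Hcomp m n s) (fun h => hw₀0 (congrArg Subtype.val h)) ?_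
    intro w
    have hall : ∀ r ∈ m.toIdeal, r • w.1 = 0 := by
      apply smul_eq_zero_of_homog m w.1
      intro l r hr hra
      rcases lt_trichotomy l 0 with hl | hl | hl
      · rw [hpos l hl, AddSubgroup.mem_bot] at hr
        rw [hr, zero_smul]
      · subst hl
        rw [eq_zero_of_mem_irrelevant_of_mem_zero hpos m hmsp hr hra, zero_smul]
      · have h1 := hsm l s r w.1 hr w.2
        rw [htop (l + s) (by omega), AddSubgroup.mem_bot] at h1
        exact h1
    obtain ⟨c, hc, hcw⟩ := hgen w.1 w.2 hall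
    exact ⟨⟨c, hc⟩, Subtype.ext hcw.symm⟩
  -- the pairing
  have hmemB : ∀ (r : GrLC.comp 𝒜 𝒜 ρ) (h : F.Hcomp m n (s - ρ)),
      (r : R) • (h : F.H m n) ∈ F.Hcomp m n s := by
    intro r h
    have := hsm ρ (s - ρ) r.1 h.1 r.2 h.2
    rwa [show ρ + (s - ρ) = s by ring] at this
  let B : ↥(GrLC.comp 𝒜 𝒜 ρ) →ₗ[GrLC.deg0 𝒜] ↥(F.Hcomp m n (s - ρ)) →ₗ[GrLC.deg0 𝒜]
      ↥(F.Hcomp m n s) :=
    LinearMap.mk₂ (GrLC.deg0 𝒜) (fun r h => ⟨(r : R) • (h : F.H m n), hmemB r h⟩)
      (fun r r' h => Subtype.ext (add_smul (r : R) (r' : R) (h : F.H m n)))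
      (fun c r h => Subtype.ext (by
        show ((c : R) * (r : R)) • (h : F.H m n) = (c : R) • ((r : R) • (h : F.H m n))
        rw [mul_smul]))
      (fun r h h' => Subtype.ext (smul_add (r : R) (h : F.H m n) (h' : F.H m n)))
      (fun c r h => Subtype.ext (by
        show (r : R) • ((c : R) • (h : F.H m n)) = (c : R) • ((r : R) • (h : F.H m n))
        rw [smul_comm]))
  have hB1 : Function.Injective B := by
    rw [injective_iff_map_eq_zero]
    intro r hr
    by_contra hne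
    have hr0 : (r : R) ≠ 0 := fun h => hne (Subtype.ext h)
    obtain ⟨h, hh, hrh⟩ := hB ρ r.1 r.2 hr0
    apply hrh
    have := congrArg (fun f => ((f ⟨h, hh⟩ : F.Hcomp m n s) : F.H m n)) hr
    exact this
  have hB2 : Function.Injective B.flip := by
    rw [injective_iff_map_eq_zero]
    intro h hh
    by_contra hne
    have hh0 : (h : F.H m n) ≠ 0 := fun h' => hne (Subtype.ext h')
    obtain ⟨-, r, hr, hrh⟩ := exists_smul_ne_zero_of_isSocAt m hsm hpos htor hs h.2 hh0
    rw [show s - (s - ρ) = ρ by ring] at hr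
    apply hrh
    have := congrArg (fun f => ((f ⟨r, hr⟩ : F.Hcomp m n s) : F.H m n)) hh
    exact this
  exact (finrank_eq_of_pairing hL B hB1 hB2).symm

end Graded

end Groth.Agent.Helper20.GorType
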