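import Mathlib
import Groth.Prelude
import Groth.Agent.Lib.Helper20.GorType3
import Groth.Agent.Lib.Helper20.GrVer10

/-!
# The type of a Veronese subring of a Gorenstein standard graded ring (helper20)
-/

set_option autoImplicit false

open DirectSum IsLocalRing

namespace Groth.Agent.Helper20.GorType

open Groth.Agent.Helper8 Groth.Agent.Helper20.GrInj Groth.Agent.Helper20.GorBr

universe u

section Std

variable {R : Type u} [CommRing R] {𝒜 : ℤ → AddSubgroup R} [GradedRing 𝒜]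
  (hstd : Ideal.span (⋃ n ∈ Set.Ioi (0 : ℤ), (𝒜 n : Set R)) =
    Ideal.span ((𝒜 1 : AddSubgroup R) : Set R))

include hstd in
/-- in a standard graded ring, if an element of degree `d + e` does not kill `h` then some
element of degree `d` does not kill `h` -/
theorem exists_smul_ne_zero_of_std {W : Type*} [AddCommGroup W] [Module R W] (h : W) (d : ℤ)
    (hd : 0 ≤ d) : ∀ (e : ℕ) (r : R), r ∈ 𝒜 (d + (e : ℤ)) → r • h ≠ 0 → ∃ x ∈ 𝒜 d, x • h ≠ 0 := by
  intro e
  induction e with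
  | zero =>
    intro r hr hrh
    rw [Nat.cast_zero, add_zero] at hr
    exact ⟨r, hr, hrh⟩
  | succ e ih =>
    intro r hr hrh
    have hdeg : d + ((e + 1 : ℕ) : ℤ) = (d + (e : ℤ)) + 1 := by push_cast; ring
    rw [hdeg] at hr
    have hcl := mem_closure_products hstd (show 0 ≤ d + (e : ℤ) by omega) hr
    by_contra hall
    push Not at hall
    have hu : ∀ u ∈ 𝒜 (d + (e : ℤ)), u • h = 0 := by
      intro u hu
      by_contra hne
      obtain ⟨x, hx, hxh⟩ := ih u hu hne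
      exact hxh (hall x hx)
    apply hrh
    refine AddSubgroup.closure_induction (p := fun z _ => z • h = 0) ?_ ?_ ?_ ?_ hcl
    · rintro z ⟨u, hu', y, -, rfl⟩
      rw [mul_comm, mul_smul, hu u hu', smul_zero]
    · exact zero_smul R h
    · intro z z' _ _ hz hz'
      rw [add_smul, hz, hz', add_zero]
    · intro z _ hz
      rw [neg_smul, hz, neg_zero]

end Std

section Main

variable {R : Type u} [CommRing R] [hG : LocCoh.IsGorensteinRing R] {R' : Type u} [CommRing R']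
variable {𝒜 : ℤ → AddSubgroup R} [GradedRing 𝒜] {𝒜' : ℤ → AddSubgroup R'} [GradedRing 𝒜']
variable (hpos : ∀ n : ℤ, n < 0 → 𝒜 n = ⊥) (h0 : IsField (GrLC.deg0 𝒜)) (m : HomogeneousIdeal 𝒜)
  (hm : GrLC.IsStarLocal 𝒜 m)
  (hmsp : m.toIdeal = Ideal.span (⋃ n ∈ Set.Ioi (0 : ℤ), (𝒜 n : Set R)))
  (hstd : Ideal.span (⋃ n ∈ Set.Ioi (0 : ℤ), (𝒜 n : Set R)) =
    Ideal.span ((𝒜 1 : AddSubgroup R) : Set R))
  (n : ℕ) (hn : ringKrullDim R = n) (I : GrLC.StarInjRes 𝒜 𝒜)

include hpos h0 hm hmsp hstd hn in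
/-- **the type of the Veronese subring `R^(q)` of a Gorenstein standard graded ring over a field
is `dim_k R_ρ`, `ρ` the remainder of `a(R)` modulo `q`** -/
theorem bassNum_veronese (a : ℤ)
    (ha : GrLC.endDeg (I.Hgr m n) = ((a : WithTop ℤ) : WithBot (WithTop ℤ)))
    (V : VerRing 𝒜 𝒜') (m' : HomogeneousIdeal 𝒜') [hm'max : m'.toIdeal.IsMaximal]
    (hm'sp : m'.toIdeal = Ideal.span (⋃ j ∈ Set.Ioi (0 : ℤ), (𝒜' j : Set R')))
    (ρ : ℤ) (hρ0 : 0 ≤ ρ) (hρq : ρ < V.q) (hρa : (V.q : ℤ) ∣ a - ρ) :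
    GrLC.bassNum m'.toIdeal R' n =
      (Module.finrank (GrLC.deg0 𝒜) (GrLC.comp 𝒜 𝒜 ρ) : ℕ∞) := by
  classical
  haveI : IsNoetherianRing R' := isNoetherianRing_of_veronese 𝒜 𝒜' V.φ V.q V.inj V.h1 V.h2
  haveI hmax : m.toIdeal.IsMaximal := isMaximal_of_isStarLocal hpos m hm
  have hpos' : ∀ j : ℤ, j < 0 → 𝒜' j = ⊥ := V.eq_bot_of_neg hpos
  have h0' : IsField (GrLC.deg0 𝒜') := V.isField_deg0 h0
  let F : GrLC.StarInjRes 𝒜' 𝒜' := starInjRes 𝒜' 𝒜'
  have hle : m'.toIdeal.map V.φ ≤ m.toIdeal := by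
    rw [hmsp, hm'sp]
    exact map_irrelevant_le 𝒜 𝒜' V.φ V.q V.hq V.h1
  have hrad : m.toIdeal ≤ (m'.toIdeal.map V.φ).radical := by
    rw [hmsp, hm'sp]
    exact irrelevant_le_radical_map 𝒜 𝒜' V.φ V.q V.h2
  obtain ⟨hvan, s, hs, hB⟩ := exists_isSocAt_of_isGorensteinRing hpos h0 m hm hmsp n hn I
  letI := HgrDec I m n
  letI := Hgr_gradedSMul I m n
  have hsm : ∀ (i j : ℤ) (r : R) (w : I.H m n), r ∈ 𝒜 i → w ∈ I.Hgr m n j →
      r • w ∈ I.Hgr m n (i + j) := by
    intro i j r w hr hw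
    have := SetLike.GradedSMul.smul_mem (A := 𝒜) (B := I.Hgr m n) hr hw
    rwa [vadd_eq_add] at this
  have htor := exists_pow_smul_H_eq_zero I m n
  have htop : ∀ j, s < j → I.Hgr m n j = ⊥ := fun j hj =>
    eq_bot_of_isSocAt_of_lt m hsm hpos htor hs hj
  -- `s = a`
  have hsa : s = a := by
    obtain ⟨-, w₀, hw₀, hw₀0, -, -⟩ := hs
    have hne : I.Hgr m n s ≠ ⊥ := by
      intro h
      rw [h, AddSubgroup.mem_bot] at hw₀
      exact hw₀0 hw₀
    have h1 := endDeg_eq_of_top hne htop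
    rw [ha] at h1
    exact_mod_cast h1.symm
  subst hsa
  obtain ⟨j₀, hj₀⟩ := hρa
  have hqpos : (0 : ℤ) < (V.q : ℤ) := by exact_mod_cast V.hq
  have hvan' : ∀ i : ℕ, i ≠ n → Subsingleton (F.H m' i) := by
    intro i hi
    haveI := hvan i hi
    obtain ⟨Λ, -, -, hΛ3⟩ := exists_semilinear_H_veronese V V.φLin V.inj V.h1 V.h2 I F m m'
      hle hrad i
    letI := HgrDec F m' i
    refine ⟨fun x y => ?_⟩
    have hz : ∀ w : F.H m' i, w = 0 := by
      intro w
      rw [← sum_support_decompose (F.Hgr m' i) w]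
      apply Finset.sum_eq_zero
      intro j _
      exact hΛ3 j _ (decompose (F.Hgr m' i) w j).2 (Subsingleton.elim _ _)
    rw [hz x, hz y]
  obtain ⟨Λ, hΛ1, hΛ2, hΛ3⟩ := exists_semilinear_H_veronese V V.φLin V.inj V.h1 V.h2 I F m m'
    hle hrad n
  letI := HgrDec F m' n
  letI := Hgr_gradedSMul F m' n
  have hsm' : ∀ (i j : ℤ) (r : R') (w : F.H m' n), r ∈ 𝒜' i →
      w ∈ F.Hgr m' n j → r • w ∈ F.Hgr m' n (i + j) := by
    intro i j r w hr hw
    have := SetLike.GradedSMul.smul_mem (A := 𝒜') (B := F.Hgr m' n) hr hw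
    rwa [vadd_eq_add] at this
  have hΛsmul : ∀ (r' : R') (w : F.H m' n), Λ (r' • w) = V.φ r' • Λ w :=
    fun r' w => Λ.map_smulₛₗ r' w
  have htop' : ∀ j, j₀ < j → ∀ w ∈ F.Hgr m' n j, w = 0 := by
    intro j hj w hw
    apply hΛ3 j w hw
    have h1 := hΛ1 j w hw
    have hlt : s < j * (V.q : ℤ) := by
      have h2 : (j₀ + 1) * (V.q : ℤ) ≤ j * (V.q : ℤ) :=
        mul_le_mul_of_nonneg_right (by omega) hqpos.le
      have h3 : s = (V.q : ℤ) * j₀ + ρ := by linarith
      rw [h3]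
      nlinarith
    rw [htop _ hlt, AddSubgroup.mem_bot] at h1
    exact h1
  have hsoc : ∀ w : F.H m' n, (∀ r' ∈ m'.toIdeal, r' • w = 0) ↔ w ∈ F.Hgr m' n j₀ := by
    intro w
    constructor
    · intro hw
      have hcomp : ∀ j, j ≠ j₀ → (decompose (F.Hgr m' n) w j : F.H m' n) = 0 := by
        intro j hj
        rcases lt_or_gt_of_ne hj with hlt | hgt
        · by_contra hne
          have hwj := smul_decompose_eq_zero (𝒲 := F.Hgr m' n) m' hw j
          have hmem := (decompose (F.Hgr m' n) w j).2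
          have hΛw := hΛ1 j _ hmem
          have hΛw0 : Λ (decompose (F.Hgr m' n) w j : F.H m' n) ≠ 0 :=
            fun h => hne (hΛ3 j _ hmem h)
          obtain ⟨-, r, hr, hrw⟩ := exists_smul_ne_zero_of_isSocAt m hsm hpos htor hs hΛw hΛw0
          obtain ⟨e, he⟩ := Int.eq_ofNat_of_zero_le hρ0
          have hdeg : s - j * (V.q : ℤ) = (j₀ - j) * (V.q : ℤ) + (e : ℤ) := by
            rw [← he]
            linarith
          rw [hdeg] at hr
          obtain ⟨x, hx, hxw⟩ := exists_smul_ne_zero_of_std hstd _ ((j₀ - j) * (V.q : ℤ))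
            (mul_nonneg (by omega) hqpos.le) e r hr hrw
          obtain ⟨r', hr', rfl⟩ := V.h2 (j₀ - j) x hx
          apply hxw
          rw [← hΛsmul, hwj r' (by
            rw [hm'sp]
            apply Ideal.subset_span
            simp only [Set.mem_iUnion, Set.mem_Ioi, SetLike.mem_coe, exists_prop]
            exact ⟨j₀ - j, by omega, hr'⟩), map_zero]
        · exact htop' j hgt _ (decompose (F.Hgr m' n) w j).2
      rw [← sum_support_decompose (F.Hgr m' n) w]
      apply AddSubgroup.sum_mem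
      intro j _
      by_cases hj : j = j₀
      · subst hj
        exact (decompose (F.Hgr m' n) w j).2
      · rw [hcomp j hj]
        exact zero_mem _
    · intro hw
      apply smul_eq_zero_of_homog m' w
      intro l r' hr' hr'm
      rcases lt_trichotomy l 0 with hl | hl | hl
      · rw [hpos' l hl, AddSubgroup.mem_bot] at hr'
        rw [hr', zero_smul]
      · subst hl
        rw [eq_zero_of_mem_irrelevant_of_mem_zero hpos' m' hm'sp hr' hr'm, zero_smul]
      · exact htop' (l + j₀) (by omega) _ (hsm' l j₀ r' w hr' hw)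
  rw [bassNum_eq_finrank_of_socle hpos' h0' m' hm'sp n F hvan' j₀ hsoc]
  congr 1
  rw [finrank_Hcomp_veronese V V.φLin V.inj V.h1 V.h2 I F m m' hle hrad n j₀]
  have hdeg : j₀ * (V.q : ℤ) = s - ρ := by linarith
  rw [hdeg]
  exact finrank_Hcomp_eq_finrank_comp hpos h0 m hmsp n I hs hB ρ

end Main

end Groth.Agent.Helper20.GorType
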