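import Mathlib
import Groth.Prelude
import Groth.Agent.Lib.Helper20.GorType4
import Groth.Agent.Lib.Helper20.GrVer5

/-!
# The Veronese grading on an abstract presentation of a Veronese subring (helper20)

If `φ : R' → R` is an injective ring homomorphism into a ℤ-graded ring whose image consists of the
elements all of whose components sit in degrees divisible by `q`, then `R'` is graded by
`R'_j = φ⁻¹(R_{jq})`.
-/

set_option autoImplicit false

open DirectSum

namespace Groth.Agent.Helper20.GorType

open Groth.Agent.Helper20.GrInj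

universe u

section VerGr

variable {R : Type u} [CommRing R] (𝒜 : ℤ → AddSubgroup R) [GradedRing 𝒜] {R' : Type u}
  [CommRing R'] (φ : R' →+* R) (q : ℕ)

/-- the pieces of the Veronese grading -/
def verPiece (j : ℤ) : AddSubgroup R' := (𝒜 (j * q)).comap (φ : R' →+ R)

omit [GradedRing 𝒜] in
theorem mem_verPiece {j : ℤ} {r' : R'} : r' ∈ verPiece 𝒜 φ q j ↔ φ r' ∈ 𝒜 (j * q) := Iff.rfl

instance verPiece_gradedMonoid : SetLike.GradedMonoid (verPiece 𝒜 φ q) where
  one_mem := by
    rw [mem_verPiece, map_one, zero_mul]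
    exact SetLike.GradedOne.one_mem
  mul_mem := by
    intro i j x y hx hy
    rw [mem_verPiece] at hx hy ⊢
    rw [map_mul, add_mul]
    exact SetLike.GradedMul.mul_mem hx hy

variable (hq : 0 < q) (hφ : Function.Injective φ)
  (hrange : ∀ x : R, (∃ r', φ r' = x) ↔ verProj 𝒜 q x = x)

include hq hφ hrange in
theorem verPiece_isInternal : DirectSum.IsInternal (verPiece 𝒜 φ q) := by
  classical
  have hqz : (q : ℤ) ≠ 0 := by exact_mod_cast hq.ne'
  have hinj : Function.Injective (fun j : ℤ => j * (q : ℤ)) := fun a b h =>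
    mul_right_cancel₀ hqz h
  apply isInternal_of
  · intro y
    have hy : verProj 𝒜 q (φ y) = φ y := (hrange (φ y)).1 ⟨y, rfl⟩
    have hcomp : ∀ j : ℤ, ∃ c : R', φ c = (decompose 𝒜 (φ y) (j * q) : R) := fun j =>
      (hrange _).2 (verProj_of_mem_mul 𝒜 q (decompose 𝒜 (φ y) (j * q)).2)
    choose c hc using hcomp
    refine ⟨(decompose 𝒜 (φ y)).support.preimage (fun j : ℤ => j * (q : ℤ)) hinj.injOn, c,
      fun j => ?_, ?_⟩
    · rw [mem_verPiece, hc]
      exact (decompose 𝒜 (φ y) (j * q)).2
    · apply hφ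
      rw [map_sum]
      simp only [hc]
      rw [Finset.sum_preimage (fun j : ℤ => j * (q : ℤ)) (decompose 𝒜 (φ y)).support hinj.injOn
        (fun i => (decompose 𝒜 (φ y) i : R))]
      · exact (sum_support_decompose 𝒜 (φ y)).symm
      · intro i _ hi
        apply decompose_eq_zero_of_verProj_eq 𝒜 q hy
        rintro ⟨j, rfl⟩
        exact hi ⟨j, mul_comm _ _⟩
  · intro s c hc hsum j₀ hj₀
    apply hφ
    rw [map_zero]
    have h1 := congrArg φ hsum
    rw [map_sum, map_zero] at h1
    have h2 := congrArg (fun x => (decompose 𝒜 x (j₀ * q) : R)) h1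
    simp only at h2
    rw [decompose_sum, DFinsupp.finsetSum_apply, AddSubmonoidClass.coe_finsetSum] at h2
    rw [Finset.sum_eq_single j₀] at h2
    · rw [decompose_of_mem_same 𝒜 ((mem_verPiece 𝒜 φ q).1 (hc j₀))] at h2
      rw [h2, decompose_zero, DirectSum.zero_apply, ZeroMemClass.coe_zero]
    · intro j _ hj
      exact decompose_of_mem_ne 𝒜 ((mem_verPiece 𝒜 φ q).1 (hc j)) (fun h => hj (hinj h))
    · intro h
      exact absurd hj₀ h

/-- the Veronese grading of `R'` -/
@[instance_reducible]
noncomputable def verGradedRing : GradedRing (verPiece 𝒜 φ q) :=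
  { verPiece_gradedMonoid 𝒜 φ q with
    toDecomposition := (verPiece_isInternal 𝒜 φ q hq hφ hrange).chooseDecomposition }

include hrange in
theorem verPiece_map (j : ℤ) :
    (verPiece 𝒜 φ q j).map (φ : R' →+ R) = 𝒜 (j * q) := by
  ext x
  constructor
  · rintro ⟨r', hr', rfl⟩
    exact hr'
  · intro hx
    obtain ⟨r', rfl⟩ := (hrange x).2 (verProj_of_mem_mul 𝒜 q hx)
    exact ⟨r', hx, rfl⟩

end VerGr

end Groth.Agent.Helper20.GorType
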