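import Mathlib
import Groth.Agent.Lib.Helper20.GrInj2

/-!
# Replacing the grading of the ring by bare additive subgroups (helper20)

A grading `𝒜 : ι → σ` of `R` by an arbitrary type of additive subgroups (`Submodule k R`, …) is
replaced by the family `toAdd 𝒜 : ι → AddSubgroup R` with the same carriers; all the notions of the
graded local cohomology prelude are transported.
-/

open DirectSum

namespace Groth.Agent.Helper20.GrInj

universe u

section Conv

variable {ι : Type} [AddCommGroup ι] [DecidableEq ι]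
variable {R : Type u} [CommRing R] {σ : Type u} [SetLike σ R] [AddSubgroupClass σ R]
variable (𝒜 : ι → σ) [GradedRing 𝒜]

/-- the same grading by bare additive subgroups -/
def toAdd : ι → AddSubgroup R := fun n => AddSubgroup.ofClass (𝒜 n)

omit [AddCommGroup ι] [DecidableEq ι] [GradedRing 𝒜] in
theorem mem_toAdd {n : ι} {r : R} : r ∈ toAdd 𝒜 n ↔ r ∈ 𝒜 n := Iff.rfl

instance toAdd_gradedMonoid : SetLike.GradedMonoid (toAdd 𝒜) where
  one_mem := SetLike.GradedOne.one_mem (A := 𝒜)
  mul_mem := fun _ _ _ _ ha hb => SetLike.GradedMul.mul_mem (A := 𝒜) ha hb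

theorem toAdd_isInternal : DirectSum.IsInternal (toAdd 𝒜) := by
  classical
  apply isInternal_of
  · intro r
    refine ⟨(decompose 𝒜 r).support, fun i => (decompose 𝒜 r i : R), fun i => (decompose 𝒜 r i).2,
      ?_⟩
    exact (sum_support_decompose 𝒜 r).symm
  · intro s c hc hsum i hi
    have h1 : (decompose 𝒜 (∑ j ∈ s, c j) i : R) = c i := by
      rw [decompose_sum, DFinsupp.finsetSum_apply, AddSubmonoidClass.coe_finsetSum,
        Finset.sum_eq_single i]
      · exact decompose_of_mem_same 𝒜 (hc i)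
      · intro j _ hji
        exact decompose_of_mem_ne 𝒜 (hc j) hji
      · intro hn
        exact absurd hi hn
    rw [hsum, decompose_zero, DirectSum.zero_apply, ZeroMemClass.coe_zero] at h1
    exact h1.symm

noncomputable instance toAdd_decomposition : DirectSum.Decomposition (toAdd 𝒜) :=
  (toAdd_isInternal 𝒜).chooseDecomposition

noncomputable instance toAdd_gradedRing : GradedRing (toAdd 𝒜) where
  toGradedMonoid := toAdd_gradedMonoid 𝒜
  toDecomposition := toAdd_decomposition 𝒜

/-- the two decompositions agree -/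
theorem decompose_toAdd (r : R) (i : ι) :
    (decompose (toAdd 𝒜) r i : R) = (decompose 𝒜 r i : R) := by
  induction r using DirectSum.Decomposition.inductionOn 𝒜 with
  | zero =>
    rw [decompose_zero, decompose_zero, DirectSum.zero_apply, DirectSum.zero_apply,
      ZeroMemClass.coe_zero, ZeroMemClass.coe_zero]
  | @homogeneous j r =>
    have hr : (r : R) ∈ toAdd 𝒜 j := r.2
    by_cases hji : j = i
    · subst hji
      rw [decompose_of_mem_same (toAdd 𝒜) hr, decompose_of_mem_same 𝒜 r.2]
    · rw [decompose_of_mem_ne (toAdd 𝒜) hr hji, decompose_of_mem_ne 𝒜 r.2 hji]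
  | add a b ha hb =>
    rw [decompose_add, decompose_add, DirectSum.add_apply, DirectSum.add_apply,
      AddMemClass.coe_add, AddMemClass.coe_add, ha, hb]

theorem isHomogeneous_toAdd_iff (I : Ideal R) :
    I.IsHomogeneous (toAdd 𝒜) ↔ I.IsHomogeneous 𝒜 := by
  constructor
  · intro h i r hr
    rw [← decompose_toAdd]
    exact h i hr
  · intro h i r hr
    rw [decompose_toAdd]
    exact h i hr

/-- a homogeneous ideal for the converted grading -/
def HomogeneousIdeal.toAddH (m : HomogeneousIdeal 𝒜) : HomogeneousIdeal (toAdd 𝒜) :=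
  ⟨m.toIdeal, (isHomogeneous_toAdd_iff 𝒜 m.toIdeal).2 m.isHomogeneous⟩

theorem HomogeneousIdeal.toAddH_toIdeal (m : HomogeneousIdeal 𝒜) :
    (HomogeneousIdeal.toAddH 𝒜 m).toIdeal = m.toIdeal := rfl

/-- a graded module over the converted grading -/
@[reducible] def GMod.toAddG (X : GrLC.GMod.{u} 𝒜) : GrLC.GMod.{u} (toAdd 𝒜) where
  carrier := X.carrier
  acg := X.acg
  mod := X.mod
  gr := X.gr
  dec := X.dec
  gsmul := ⟨fun {i j} {r} {x} hr hx => X.gsmul.smul_mem (show r ∈ 𝒜 i from hr) hx⟩

/-- and back -/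
@[reducible] def GMod.ofAddG (X : GrLC.GMod.{u} (toAdd 𝒜)) : GrLC.GMod.{u} 𝒜 where
  carrier := X.carrier
  acg := X.acg
  mod := X.mod
  gr := X.gr
  dec := X.dec
  gsmul := ⟨fun {i j} {r} {x} hr hx => X.gsmul.smul_mem (show r ∈ toAdd 𝒜 i from hr) hx⟩

variable {M : Type u} [AddCommGroup M] [Module R M] (ℳ : ι → AddSubgroup M)
  [DirectSum.Decomposition ℳ] [SetLike.GradedSMul 𝒜 ℳ]

instance toAdd_gradedSMul : SetLike.GradedSMul (toAdd 𝒜) ℳ :=
  ⟨fun {i j} {r} {x} hr hx =>
    SetLike.GradedSMul.smul_mem (A := 𝒜) (B := ℳ) (show r ∈ 𝒜 i from hr) hx⟩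

theorem isStarInj_toAdd (h : GrLC.IsStarInj 𝒜 ℳ) : GrLC.IsStarInj (toAdd 𝒜) ℳ := by
  intro A B f hf hinj g hg
  exact h (GMod.ofAddG 𝒜 A) (GMod.ofAddG 𝒜 B) f hf hinj g hg

end Conv

end Groth.Agent.Helper20.GrInj
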