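import Mathlib
import Groth.Agent.Lib.Helper20.GrConv1

/-!
# Transport of resolutions, envelopes and canonical modules to the converted grading (helper20)
-/

open DirectSum

namespace Groth.Agent.Helper20.GrInj

universe u

section Conv

variable {ι : Type} [AddCommGroup ι] [DecidableEq ι]
variable {R : Type u} [CommRing R] {σ : Type u} [SetLike σ R] [AddSubgroupClass σ R]
variable (𝒜 : ι → σ) [GradedRing 𝒜]
variable {M : Type u} [AddCommGroup M] [Module R M] {τ : Type u} [SetLike τ M]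
  [AddSubgroupClass τ M] {ℳ : ι → τ} [DirectSum.Decomposition ℳ] [SetLike.GradedSMul 𝒜 ℳ]

/-- a *injective resolution over the converted grading -/
noncomputable def StarInjRes.toAddR (E : GrLC.StarInjRes 𝒜 ℳ) (ℳ' : ι → AddSubgroup M)
    [DirectSum.Decomposition ℳ'] [SetLike.GradedSMul (toAdd 𝒜) ℳ']
    (h : ∀ (i : ι) (x : M), x ∈ ℳ' i → x ∈ ℳ i) : GrLC.StarInjRes (toAdd 𝒜) ℳ' where
  X := fun n => GMod.toAddG 𝒜 (E.X n)
  d := E.d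
  ε := E.ε
  d_grHom := E.d_grHom
  ε_grHom := fun g m hm => E.ε_grHom g m (h g m hm)
  ε_injective := E.ε_injective
  exact_zero := E.exact_zero
  exact_succ := E.exact_succ
  starInj := fun n => isStarInj_toAdd 𝒜 (E.X n).gr (E.starInj n)

theorem StarInjRes.toAddR_H (E : GrLC.StarInjRes 𝒜 ℳ) (ℳ' : ι → AddSubgroup M)
    [DirectSum.Decomposition ℳ'] [SetLike.GradedSMul (toAdd 𝒜) ℳ']
    (h : ∀ (i : ι) (x : M), x ∈ ℳ' i → x ∈ ℳ i) (a : HomogeneousIdeal 𝒜) (i : ℕ) :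
    (StarInjRes.toAddR 𝒜 E ℳ' h).H (HomogeneousIdeal.toAddH 𝒜 a) i = E.H a i := rfl

theorem StarInjRes.mem_toAddR_Hgr (E : GrLC.StarInjRes 𝒜 ℳ) (ℳ' : ι → AddSubgroup M)
    [DirectSum.Decomposition ℳ'] [SetLike.GradedSMul (toAdd 𝒜) ℳ']
    (h : ∀ (i : ι) (x : M), x ∈ ℳ' i → x ∈ ℳ i) (a : HomogeneousIdeal 𝒜) (i : ℕ) (g : ι)
    (x : E.H a i) :
    (x : (StarInjRes.toAddR 𝒜 E ℳ' h).H (HomogeneousIdeal.toAddH 𝒜 a) i) ∈
      (StarInjRes.toAddR 𝒜 E ℳ' h).Hgr (HomogeneousIdeal.toAddH 𝒜 a) i g ↔ x ∈ E.Hgr a i g :=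
  Iff.rfl

variable {E' : Type u} [AddCommGroup E'] [Module R E'] (𝓔 : ι → AddSubgroup E')
  [DirectSum.Decomposition 𝓔] [SetLike.GradedSMul 𝒜 𝓔]

theorem isStarInjHull_toAdd (m : HomogeneousIdeal 𝒜) (e : (R ⧸ m.toIdeal) →ₗ[R] E')
    (he : GrLC.IsStarInjHull 𝒜 (GrLC.quotGr 𝒜 m) 𝓔 e) :
    GrLC.IsStarInjHull (toAdd 𝒜) (GrLC.quotGr (toAdd 𝒜) (HomogeneousIdeal.toAddH 𝒜 m)) 𝓔 e where
  injective := he.injective
  grHom := by
    rintro g x ⟨r, hr, rfl⟩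
    exact he.grHom g _ ⟨r, hr, rfl⟩
  essential := he.essential
  starInj := isStarInj_toAdd 𝒜 𝓔 he.starInj

variable {C : Type u} [AddCommGroup C] [Module R C] (𝒞 : ι → AddSubgroup C)
  [DirectSum.Decomposition 𝒞] [SetLike.GradedSMul 𝒜 𝒞]

theorem isStarCanonical_toAdd (m : HomogeneousIdeal 𝒜) (n : ℕ) (I : GrLC.StarInjRes 𝒜 𝒜)
    (hC : GrLC.IsStarCanonical 𝒜 𝒞 𝓔 m n I) :
    GrLC.IsStarCanonical (toAdd 𝒜) 𝒞 𝓔 (HomogeneousIdeal.toAddH 𝒜 m) n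
      (StarInjRes.toAddR 𝒜 I (toAdd 𝒜) (fun _ _ h => h)) := by
  obtain ⟨hfin, φ, hφ⟩ := hC
  exact ⟨hfin, φ, fun d f hf => hφ d f hf⟩

end Conv

end Groth.Agent.Helper20.GrInj
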