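import Mathlib
import Groth.Agent.Lib.Helper20.GrConv2
import Groth.Agent.Lib.Helper20.GrSoc4

/-!
# Weighted polynomial rings: the basic facts needed for the canonical module (helper20)
-/

open DirectSum Pointwise

attribute [local instance] MvPolynomial.weightedGradedAlgebra

namespace Groth.Agent.Helper20.GrInj

universe u

section Poly

variable {k : Type u} [Field k] {N : ℕ} (w : Fin N → ℤ) (hw : ∀ i, 0 < w i)

include hw in
theorem weight_nonneg (d : Fin N →₀ ℕ) : 0 ≤ Finsupp.weight w d := by
  rw [Finsupp.weight_eq_sum]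
  exact Finset.sum_nonneg fun i _ => smul_nonneg (Nat.zero_le _) (hw i).le

include hw in
theorem eq_zero_of_weight_eq_zero (d : Fin N →₀ ℕ) (h : Finsupp.weight w d = 0) : d = 0 := by
  by_contra hd
  obtain ⟨i, hi⟩ : ∃ i, d i ≠ 0 := by
    by_contra hcon
    push Not at hcon
    exact hd (Finsupp.ext hcon)
  have h1 := Finsupp.le_weight_of_ne_zero (w := w) (fun s => (hw s).le) hi
  have h2 := hw i
  omega

include hw in
theorem weightedHomogeneousSubmodule_eq_bot_of_neg (n : ℤ) (hn : n < 0) :
    MvPolynomial.weightedHomogeneousSubmodule k w n = ⊥ := by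
  rw [eq_bot_iff]
  intro p hp
  rw [MvPolynomial.mem_weightedHomogeneousSubmodule] at hp
  rw [Submodule.mem_bot]
  ext d
  rw [MvPolynomial.coeff_zero]
  by_contra hd
  have h1 := hp hd
  have h2 := weight_nonneg w hw d
  omega

theorem X_mem_weighted (i : Fin N) :
    (MvPolynomial.X i : MvPolynomial (Fin N) k) ∈
      MvPolynomial.weightedHomogeneousSubmodule k w (w i) := by
  rw [MvPolynomial.mem_weightedHomogeneousSubmodule]
  exact MvPolynomial.isWeightedHomogeneous_X k w i

include hw in
theorem eq_C_of_mem_zero (p : MvPolynomial (Fin N) k)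
    (hp : p ∈ MvPolynomial.weightedHomogeneousSubmodule k w 0) :
    p = MvPolynomial.C (MvPolynomial.coeff 0 p) := by
  rw [MvPolynomial.mem_weightedHomogeneousSubmodule] at hp
  ext d
  rw [MvPolynomial.coeff_C]
  by_cases hd : d = 0
  · subst hd
    rw [if_pos rfl]
  · rw [if_neg (Ne.symm hd)]
    by_contra hc
    exact hd (eq_zero_of_weight_eq_zero w hw d (hp hc))

theorem C_mem_zero (c : k) :
    (MvPolynomial.C c : MvPolynomial (Fin N) k) ∈
      MvPolynomial.weightedHomogeneousSubmodule k w 0 := by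
  rw [MvPolynomial.mem_weightedHomogeneousSubmodule]
  exact MvPolynomial.isWeightedHomogeneous_C w c

theorem mem_span_X_of_pos (n : ℤ) (hn : 0 < n) (p : MvPolynomial (Fin N) k)
    (hp : p ∈ MvPolynomial.weightedHomogeneousSubmodule k w n) :
    p ∈ Ideal.span (Set.range (MvPolynomial.X : Fin N → MvPolynomial (Fin N) k)) := by
  rw [← Set.image_univ, MvPolynomial.mem_ideal_span_X_image]
  intro d hd
  rw [MvPolynomial.mem_weightedHomogeneousSubmodule] at hp
  have h1 := hp (MvPolynomial.mem_support_iff.1 hd)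
  by_contra hcon
  push Not at hcon
  have : d = 0 := Finsupp.ext fun i => hcon i (Set.mem_univ i)
  rw [this, map_zero] at h1
  omega

include hw in
theorem X_mem_span_pos (i : Fin N) :
    (MvPolynomial.X i : MvPolynomial (Fin N) k) ∈
      Ideal.span (⋃ n ∈ Set.Ioi (0 : ℤ),
        (MvPolynomial.weightedHomogeneousSubmodule k w n : Set (MvPolynomial (Fin N) k))) := by
  apply Ideal.subset_span
  simp only [Set.mem_iUnion]
  exact ⟨w i, hw i, X_mem_weighted w i⟩

include hw in
theorem span_pos_eq_span_X :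
    Ideal.span (⋃ n ∈ Set.Ioi (0 : ℤ),
        (MvPolynomial.weightedHomogeneousSubmodule k w n : Set (MvPolynomial (Fin N) k))) =
      Ideal.span (Set.range (MvPolynomial.X : Fin N → MvPolynomial (Fin N) k)) := by
  apply le_antisymm
  · rw [Ideal.span_le]
    intro p hp
    simp only [Set.mem_iUnion] at hp
    obtain ⟨n, hn, hp⟩ := hp
    exact mem_span_X_of_pos w n hn p hp
  · rw [Ideal.span_le]
    rintro _ ⟨i, rfl⟩
    exact X_mem_span_pos w hw i

theorem one_notMem_span_X :
    (1 : MvPolynomial (Fin N) k) ∉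
      Ideal.span (Set.range (MvPolynomial.X : Fin N → MvPolynomial (Fin N) k)) := by
  rw [← Set.image_univ, MvPolynomial.mem_ideal_span_X_image]
  intro h
  have h0 : (0 : Fin N →₀ ℕ) ∈ (1 : MvPolynomial (Fin N) k).support := by
    rw [MvPolynomial.mem_support_iff, MvPolynomial.coeff_zero_one]
    exact one_ne_zero
  obtain ⟨i, -, hi⟩ := h 0 h0
  exact hi rfl

/-- the variables form a regular sequence -/
theorem isWeaklyRegular_X :
    RingTheory.Sequence.IsWeaklyRegular (MvPolynomial (Fin N) k)
      (List.ofFn (MvPolynomial.X : Fin N → MvPolynomial (Fin N) k)) := by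
  classical
  rw [RingTheory.Sequence.isWeaklyRegular_iff]
  intro i hi
  rw [List.length_ofFn] at hi
  have hset : {r | r ∈ (List.ofFn (MvPolynomial.X : Fin N → MvPolynomial (Fin N) k)).take i} =
      MvPolynomial.X '' {j : Fin N | (j : ℕ) < i} := by
    ext r
    simp only [Set.mem_ofPred_eq, Set.mem_image, List.mem_take_iff_getElem, List.getElem_ofFn,
      List.length_ofFn]
    constructor
    · rintro ⟨j, hj, rfl⟩
      have hj' : j < N := by omega
      refine ⟨⟨j, hj'⟩, ?_, rfl⟩
      show j < i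
      omega
    · rintro ⟨j, hj, rfl⟩
      exact ⟨j, by have := j.2; have : (j : ℕ) < i := hj; omega, rfl⟩
  have hJ : (Ideal.ofList ((List.ofFn
      (MvPolynomial.X : Fin N → MvPolynomial (Fin N) k)).take i) •
      (⊤ : Submodule (MvPolynomial (Fin N) k) (MvPolynomial (Fin N) k))) =
      Ideal.span (MvPolynomial.X '' {j : Fin N | (j : ℕ) < i}) := by
    rw [Ideal.ofList, hset, smul_eq_mul, Ideal.mul_top]
  rw [hJ]
  rw [List.getElem_ofFn]
  intro a b hab
  obtain ⟨p, rfl⟩ := Submodule.Quotient.mk_surjective _ a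
  obtain ⟨q, rfl⟩ := Submodule.Quotient.mk_surjective _ b
  simp only [← Submodule.Quotient.mk_smul] at hab
  rw [Submodule.Quotient.eq] at hab ⊢
  rw [← smul_sub, smul_eq_mul] at hab
  set f := p - q with hf
  rw [MvPolynomial.mem_ideal_span_X_image] at hab ⊢
  intro d hd
  have h1 : Finsupp.single (⟨i, hi⟩ : Fin N) 1 + d ∈
      (MvPolynomial.X (⟨i, hi⟩ : Fin N) * f).support := by
    rw [MvPolynomial.mem_support_iff, MvPolynomial.coeff_X_mul]
    exact MvPolynomial.mem_support_iff.1 hd
  obtain ⟨j, hj, hne⟩ := hab _ h1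
  refine ⟨j, hj, ?_⟩
  have hji : j ≠ ⟨i, hi⟩ := by
    intro h
    rw [h] at hj
    exact lt_irrefl i hj
  rw [Finsupp.add_apply, Finsupp.single_apply, if_neg (Ne.symm hji), zero_add] at hne
  exact hne

end Poly

end Groth.Agent.Helper20.GrInj
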