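import Mathlib
import Groth.Agent.Lib.Helper20.GrPoly1
import Groth.Agent.Lib.Helper20.GrMat5
import Groth.Agent.Lib.Helper20.GrSoc2
import Groth.Agent.Lib.Helper20.GrSoc4

/-!
# The canonical module of a weighted polynomial ring (helper20)
-/

open DirectSum Pointwise

attribute [local instance] MvPolynomial.weightedGradedAlgebra

namespace Groth.Agent.Helper20.GrInj

universe u

attribute [local instance] HgrDec Hgr_gradedSMul

section Poly

variable {k : Type u} [Field k] {N : ℕ} (w : Fin N → ℤ) (hw : ∀ i, 0 < w i)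

include hw in
theorem toAdd_weighted_eq_bot_of_neg (n : ℤ) (hn : n < 0) :
    toAdd (MvPolynomial.weightedHomogeneousSubmodule k w) n = ⊥ := by
  rw [eq_bot_iff]
  intro p hp
  rw [mem_toAdd, weightedHomogeneousSubmodule_eq_bot_of_neg w hw n hn, Submodule.mem_bot] at hp
  rw [AddSubgroup.mem_bot]
  exact hp

include hw in
theorem isField_deg0_weighted :
    IsField (GrLC.deg0 (toAdd (MvPolynomial.weightedHomogeneousSubmodule k w))) := by
  refine ⟨⟨0, 1, ?_⟩, fun a b => mul_comm a b, ?_⟩
  · intro h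
    have h1 := congrArg Subtype.val h
    exact zero_ne_one h1
  · rintro ⟨p, hp⟩ hne
    have hp' : p ∈ MvPolynomial.weightedHomogeneousSubmodule k w 0 := hp
    obtain ⟨c, rfl⟩ : ∃ c, p = MvPolynomial.C c := ⟨_, eq_C_of_mem_zero w hw p hp'⟩
    have hc : c ≠ 0 := by
      intro h0
      apply hne
      apply Subtype.ext
      show MvPolynomial.C c = 0
      rw [h0, map_zero]
    refine ⟨⟨MvPolynomial.C c⁻¹, C_mem_zero w _⟩, ?_⟩
    apply Subtype.ext
    show MvPolynomial.C c * MvPolynomial.C c⁻¹ = 1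
    rw [← map_mul, mul_inv_cancel₀ hc, map_one]

end Poly

section Main

variable (k : Type u) [Field k] (N : ℕ) (w : Fin N → ℤ) (hw : ∀ i, 0 < w i)
  (m : HomogeneousIdeal (MvPolynomial.weightedHomogeneousSubmodule k w))
  (hmsp : m.toIdeal = Ideal.span (⋃ n ∈ Set.Ioi (0 : ℤ),
    (MvPolynomial.weightedHomogeneousSubmodule k w n : Set (MvPolynomial (Fin N) k))))
  (I : GrLC.StarInjRes (MvPolynomial.weightedHomogeneousSubmodule k w)
    (MvPolynomial.weightedHomogeneousSubmodule k w))

include hw hmsp in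
/-- the socle of `H^N_m(R)` for the weighted polynomial ring -/
theorem isSocAt_weighted :
    IsSocAt (toAdd (MvPolynomial.weightedHomogeneousSubmodule k w))
      (HomogeneousIdeal.toAddH (MvPolynomial.weightedHomogeneousSubmodule k w) m).toIdeal
      ((StarInjRes.toAddR (MvPolynomial.weightedHomogeneousSubmodule k w) I
        (toAdd (MvPolynomial.weightedHomogeneousSubmodule k w)) (fun _ _ h => h)).Hgr
        (HomogeneousIdeal.toAddH (MvPolynomial.weightedHomogeneousSubmodule k w) m) N)
      (-(∑ i, w i)) := by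
  classical
  set 𝒜a := toAdd (MvPolynomial.weightedHomogeneousSubmodule k w) with h𝒜a
  set m' := HomogeneousIdeal.toAddH (MvPolynomial.weightedHomogeneousSubmodule k w) m with hm'
  set I' := StarInjRes.toAddR (MvPolynomial.weightedHomogeneousSubmodule k w) I
    (toAdd (MvPolynomial.weightedHomogeneousSubmodule k w)) (fun _ _ h => h) with hI'
  have hmX : m'.toIdeal = Ideal.span (Set.range
      (MvPolynomial.X : Fin N → MvPolynomial (Fin N) k)) := by
    show m.toIdeal = _
    rw [hmsp, span_pos_eq_span_X w hw]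
  have hP : (m'.toIdeal : Submodule (MvPolynomial (Fin N) k) (MvPolynomial (Fin N) k)).IsHomogeneous
      𝒜a := m'.isHomogeneous
  have hker : LinearMap.ker (quotMk 𝒜a 𝒜a m'.toIdeal hP) = Ideal.span (Set.range
      (MvPolynomial.X : Fin N → MvPolynomial (Fin N) k)) •
      (⊤ : Submodule (MvPolynomial (Fin N) k) (MvPolynomial (Fin N) k)) := by
    rw [quotMk_ker, smul_eq_mul, Ideal.mul_top]
    exact hmX
  have hmain := soc_main m' N (GrLC.GMod.of 𝒜a (MvPolynomial (Fin N) k) 𝒜a)
    (MvPolynomial.X : Fin N → MvPolynomial (Fin N) k) w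
    (fun i => X_mem_weighted w i)
    (fun i => by
      show MvPolynomial.X i ∈ m.toIdeal
      rw [hmsp]
      exact X_mem_span_pos w hw i)
    isWeaklyRegular_X
    (quotGMod 𝒜a 𝒜a m'.toIdeal hP) (quotMk 𝒜a 𝒜a m'.toIdeal hP)
    (quotMk_grHom 𝒜a 𝒜a m'.toIdeal hP) (quotMk_surjective 𝒜a 𝒜a m'.toIdeal hP)
    hker
    (by
      rw [eq_top_iff]
      intro y _
      obtain ⟨r, rfl⟩ := quotMk_surjective 𝒜a 𝒜a m'.toIdeal hP y
      refine ⟨1, fun s hs => ?_⟩
      rw [pow_one] at hs
      rw [← map_smul, quotMk_eq_zero_iff, smul_eq_mul]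
      exact Ideal.mul_mem_right _ _ hs)
    0
    (by
      refine ⟨?_, quotMk 𝒜a 𝒜a m'.toIdeal hP 1,
        quotMk_grHom 𝒜a 𝒜a m'.toIdeal hP 0 1 (SetLike.GradedOne.one_mem), ?_, ?_, ?_⟩
      · intro j y hy hy0 _
        obtain ⟨r, hr, rfl⟩ := hy
        rcases lt_trichotomy j 0 with hj | hj | hj
        · exfalso
          apply hy0
          have hr' : r ∈ toAdd (MvPolynomial.weightedHomogeneousSubmodule k w) j := hr
          rw [toAdd_weighted_eq_bot_of_neg w hw j hj, AddSubgroup.mem_bot] at hr'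
          rw [hr']
          exact map_zero _
        · exact hj
        · exfalso
          apply hy0
          have : r ∈ m'.toIdeal := by
            rw [hmX]
            exact mem_span_X_of_pos w j hj r hr
          exact (quotMk_eq_zero_iff 𝒜a 𝒜a m'.toIdeal hP).2 this
      · intro h
        rw [quotMk_eq_zero_iff, hmX] at h
        exact one_notMem_span_X h
      · intro r hr
        rw [← map_smul, quotMk_eq_zero_iff, smul_eq_mul, mul_one]
        exact hr
      · intro y hy _
        obtain ⟨r, hr, rfl⟩ := hy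
        refine ⟨r, hr, ?_⟩
        show quotMk 𝒜a 𝒜a m'.toIdeal hP r = r • quotMk 𝒜a 𝒜a m'.toIdeal hP 1
        rw [← map_smul, smul_eq_mul, mul_one])
    I'
  have h2 := hmain.2
  rw [zero_sub] at h2
  exact h2

include hw hmsp in
/-- **the canonical module of the weighted polynomial ring is `R(-Σ w_i)`** -/
theorem exists_shift_weighted
    (E' : Type u) [AddCommGroup E'] [Module (MvPolynomial (Fin N) k) E']
    (𝓔 : ℤ → AddSubgroup E') [DirectSum.Decomposition 𝓔]
    [SetLike.GradedSMul (MvPolynomial.weightedHomogeneousSubmodule k w) 𝓔]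
    (e : (MvPolynomial (Fin N) k ⧸ m.toIdeal) →ₗ[MvPolynomial (Fin N) k] E')
    (he : GrLC.IsStarInjHull (MvPolynomial.weightedHomogeneousSubmodule k w)
      (GrLC.quotGr (MvPolynomial.weightedHomogeneousSubmodule k w) m) 𝓔 e)
    (C : Type u) [AddCommGroup C] [Module (MvPolynomial (Fin N) k) C]
    (𝒞 : ℤ → AddSubgroup C) [DirectSum.Decomposition 𝒞]
    [SetLike.GradedSMul (MvPolynomial.weightedHomogeneousSubmodule k w) 𝒞]
    (hC : GrLC.IsStarCanonical (MvPolynomial.weightedHomogeneousSubmodule k w) 𝒞 𝓔 m N I) :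
    ∃ f : MvPolynomial (Fin N) k →ₗ[MvPolynomial (Fin N) k] C, Function.Bijective f ∧
      GrLC.IsGrHomDeg (MvPolynomial.weightedHomogeneousSubmodule k w) 𝒞 f
        ((Finset.univ : Finset (Fin N)).sum w) := by
  classical
  have hpos' := toAdd_weighted_eq_bot_of_neg w hw (k := k)
  have h0' := isField_deg0_weighted w hw (k := k)
  have hmsp' : (HomogeneousIdeal.toAddH (MvPolynomial.weightedHomogeneousSubmodule k w) m).toIdeal
      = Ideal.span (⋃ n ∈ Set.Ioi (0 : ℤ),
        (toAdd (MvPolynomial.weightedHomogeneousSubmodule k w) n :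
          Set (MvPolynomial (Fin N) k))) := hmsp
  have he' := isStarInjHull_toAdd (MvPolynomial.weightedHomogeneousSubmodule k w) 𝓔 m e he
  have hC' := isStarCanonical_toAdd (MvPolynomial.weightedHomogeneousSubmodule k w) 𝓔 𝒞 m N I hC
  obtain ⟨P⟩ := exists_grPairing_of_isStarCanonical hpos' h0' _ hmsp' e he' N _ hC'
  have hsoc := isSocAt_weighted k N w hw m hmsp I
  have htor := exists_pow_smul_H_eq_zero
    (StarInjRes.toAddR (MvPolynomial.weightedHomogeneousSubmodule k w) I
        (toAdd (MvPolynomial.weightedHomogeneousSubmodule k w)) (fun _ _ h => h))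
    (HomogeneousIdeal.toAddH (MvPolynomial.weightedHomogeneousSubmodule k w) m) N
  have hn : ringKrullDim (MvPolynomial (Fin N) k) = N := by
    rw [MvPolynomial.ringKrullDim_of_isNoetherianRing, ringKrullDim_eq_zero_of_field, zero_add,
      Nat.card_eq_fintype_card, Fintype.card_fin]
  have hB : ∀ (i : ℤ) (r : MvPolynomial (Fin N) k),
      r ∈ toAdd (MvPolynomial.weightedHomogeneousSubmodule k w) i → r ≠ 0 →
      ∃ h ∈ (StarInjRes.toAddR (MvPolynomial.weightedHomogeneousSubmodule k w) I
        (toAdd (MvPolynomial.weightedHomogeneousSubmodule k w)) (fun _ _ h => h)).Hgr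
        (HomogeneousIdeal.toAddH (MvPolynomial.weightedHomogeneousSubmodule k w) m) N
        (-(∑ i, w i) - i), r • h ≠ 0 := by
    intro i r hr hr0
    obtain ⟨_, w₀, hw₀, hw₀0, _, _⟩ := hsoc
    obtain ⟨v, hv, hvw⟩ := exists_smul_eq_of_mem_Hgr _ N hn _ hr
      (mem_nonZeroDivisors_of_ne_zero hr0) hw₀
    exact ⟨v, hv, by rw [hvw]; exact hw₀0⟩
  obtain ⟨f, hf, hfd⟩ := exists_bijective_of_isSocAt hpos' h0' _ hmsp' P htor (∑ i, w i) hsoc hB
  exact ⟨f, hf, fun g x hx => hfd g x hx⟩

end Main

end Groth.Agent.Helper20.GrInj
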