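import Mathlib
import Groth.Prelude
import Groth.Agent.Lib.Helper20.GorPoly1
import Groth.Agent.Lib.Helper20.GrPoly2

/-!
# The standard graded polynomial ring over a field (helper20)
-/

set_option autoImplicit false

open DirectSum MvPolynomial

attribute [local instance] MvPolynomial.weightedGradedAlgebra

namespace Groth.Agent.Helper20.GorType

open Groth.Agent.Helper20.GrInj Groth.Agent.Helper20.GorBr

universe u

section Poly

variable (k : Type u) [Field k] (N : ℕ)

/-- unit weights -/
abbrev w1 : Fin N → ℤ := fun _ => 1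

/-- the standard grading of the polynomial ring, by `k`-subspaces, indexed by `ℤ` -/
noncomputable abbrev Wp : ℤ → Submodule k (MvPolynomial (Fin N) k) := weightedHomogeneousSubmodule k (w1 N)

/-- the standard grading of the polynomial ring by additive subgroups -/
noncomputable abbrev Ap : ℤ → AddSubgroup (MvPolynomial (Fin N) k) := toAdd (Wp k N)

theorem weight_w1 (d : Fin N →₀ ℕ) : Finsupp.weight (w1 N) d = (d.degree : ℤ) := by
  rw [Finsupp.weight_eq_sum, Finsupp.degree_eq_sum]
  push_cast
  apply Finset.sum_congr rfl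
  intro i _
  simp

theorem mem_Ap_iff {p : MvPolynomial (Fin N) k} {j : ℕ} :
    p ∈ Ap k N (j : ℤ) ↔ p.IsHomogeneous j := by
  rw [mem_toAdd, mem_weightedHomogeneousSubmodule]
  have hdeg : ∀ d : Fin N →₀ ℕ, Finsupp.weight (1 : Fin N → ℕ) d = Finsupp.degree d := fun d =>
    (DFunLike.congr_fun Finsupp.degree_eq_weight_one d).symm
  constructor
  · intro h d hd
    have := h hd
    rw [weight_w1] at this
    have h2 : Finsupp.degree d = j := by exact_mod_cast this
    rw [hdeg, h2]
  · intro h d hd
    have := h hd
    rw [hdeg] at this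
    rw [weight_w1, this]

theorem decompose_Ap (p : MvPolynomial (Fin N) k) (j : ℕ) :
    (decompose (Ap k N) p (j : ℤ) : MvPolynomial (Fin N) k) = homogeneousComponent j p := by
  classical
  rw [decompose_toAdd]
  have h1 : (decompose (Wp k N) p (j : ℤ) : MvPolynomial (Fin N) k) =
      weightedHomogeneousComponent (w1 N) (j : ℤ) p :=
    weightedDecomposition.decompose'_apply k (w1 N) p j
  rw [h1]
  ext d
  rw [coeff_weightedHomogeneousComponent, coeff_homogeneousComponent, weight_w1]
  norm_cast

theorem hw1 : ∀ i : Fin N, 0 < w1 N i := fun _ => Int.one_pos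

theorem Ap_eq_bot_of_neg (n : ℤ) (hn : n < 0) : Ap k N n = ⊥ :=
  toAdd_weighted_eq_bot_of_neg (w1 N) (hw1 N) n hn

theorem decompose_Ap_neg (p : MvPolynomial (Fin N) k) (i : ℤ) (hi : i < 0) :
    (decompose (Ap k N) p i : MvPolynomial (Fin N) k) = 0 := by
  have h : ∀ x ∈ Ap k N i, x = 0 := by
    intro x hx
    rw [Ap_eq_bot_of_neg k N i hi, AddSubgroup.mem_bot] at hx
    exact hx
  exact h _ (decompose (Ap k N) p i).2

end Poly

end Groth.Agent.Helper20.GorType
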