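import Mathlib
import Groth.Prelude
import Groth.Agent.Lib.Helper20.GorPoly2

/-!
# Local cohomology of the weighted polynomial ring over a field, for any resolution (helper20)
-/

set_option autoImplicit false

open DirectSum MvPolynomial Pointwise

attribute [local instance] MvPolynomial.weightedGradedAlgebra

namespace Groth.Agent.Helper20.GorType

open Groth.Agent.Helper20.GrInj Groth.Agent.Helper20.GorBr

universe u

attribute [local instance] HgrDec Hgr_gradedSMul

section Weighted

variable (k : Type u) [Field k] (N : ℕ) (w : Fin N → ℤ) (hw : ∀ i, 0 < w i)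
  (m' : HomogeneousIdeal (toAdd (MvPolynomial.weightedHomogeneousSubmodule k w)))
  (hmsp : m'.toIdeal = Ideal.span (⋃ n ∈ Set.Ioi (0 : ℤ),
    (toAdd (MvPolynomial.weightedHomogeneousSubmodule k w) n : Set (MvPolynomial (Fin N) k))))
  (I' : GrLC.StarInjRes (toAdd (MvPolynomial.weightedHomogeneousSubmodule k w))
    (toAdd (MvPolynomial.weightedHomogeneousSubmodule k w)))

include hw hmsp in
/-- vanishing below `N` and the socle of `H^N_m(R)` for the weighted polynomial ring, computed from
any *injective resolution over the grading by additive subgroups -/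
theorem isSocAt_weighted' :
    (∀ i < N, ∀ x : I'.H m' i, x = 0) ∧
    IsSocAt (toAdd (MvPolynomial.weightedHomogeneousSubmodule k w)) m'.toIdeal (I'.Hgr m' N)
      (-(∑ i, w i)) := by
  classical
  set 𝒜a := toAdd (MvPolynomial.weightedHomogeneousSubmodule k w) with h𝒜a
  have hmX : m'.toIdeal = Ideal.span (Set.range
      (MvPolynomial.X : Fin N → MvPolynomial (Fin N) k)) := by
    rw [hmsp]
    exact span_pos_eq_span_X w hw
  have hP : (m'.toIdeal : Submodule (MvPolynomial (Fin N) k) (MvPolynomial (Fin N) k)).IsHomogeneous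
      𝒜a := m'.isHomogeneous
  have hker : LinearMap.ker (quotMk 𝒜a 𝒜a m'.toIdeal hP) = Ideal.span (Set.range
      (MvPolynomial.X : Fin N → MvPolynomial (Fin N) k)) •
      (⊤ : Submodule (MvPolynomial (Fin N) k) (MvPolynomial (Fin N) k)) := by
    rw [quotMk_ker, smul_eq_mul, Ideal.mul_top]
    exact hmX
  have hmain := soc_main m' N (GrLC.GMod.of 𝒜a (MvPolynomial (Fin N) k) 𝒜a)
    (MvPolynomial.X : Fin N → MvPolynomial (Fin N) k) w
    (fun i => X_mem_weighted w i)
    (fun i => by
      rw [hmX]
      exact Ideal.subset_span ⟨i, rfl⟩)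
    isWeaklyRegular_X
    (quotGMod 𝒜a 𝒜a m'.toIdeal hP) (quotMk 𝒜a 𝒜a m'.toIdeal hP)
    (quotMk_grHom 𝒜a 𝒜a m'.toIdeal hP) (quotMk_surjective 𝒜a 𝒜a m'.toIdeal hP)
    hker
    (by
      rw [eq_top_iff]
      intro y _
      obtain ⟨r, rfl⟩ := quotMk_surjective 𝒜a 𝒜a m'.toIdeal hP y
      refine ⟨1, fun s hs => ?_⟩
      rw [pow_one] at hs
      rw [← map_smul, quotMk_eq_zero_iff, smul_eq_mul]
      exact Ideal.mul_mem_right _ _ hs)
    0
    (by
      refine ⟨?_, quotMk 𝒜a 𝒜a m'.toIdeal hP 1,
        quotMk_grHom 𝒜a 𝒜a m'.toIdeal hP 0 1 (SetLike.GradedOne.one_mem), ?_, ?_, ?_⟩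
      · intro j y hy hy0 _
        obtain ⟨r, hr, rfl⟩ := hy
        rcases lt_trichotomy j 0 with hj | hj | hj
        · exfalso
          apply hy0
          have hr' : r ∈ toAdd (MvPolynomial.weightedHomogeneousSubmodule k w) j := hr
          rw [toAdd_weighted_eq_bot_of_neg w hw j hj, AddSubgroup.mem_bot] at hr'
          rw [hr']
          exact map_zero _
        · exact hj
        · exfalso
          apply hy0
          have : r ∈ m'.toIdeal := by
            rw [hmX]
            exact mem_span_X_of_pos w j hj r hr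
          exact (quotMk_eq_zero_iff 𝒜a 𝒜a m'.toIdeal hP).2 this
      · intro h
        rw [quotMk_eq_zero_iff, hmX] at h
        exact one_notMem_span_X h
      · intro r hr
        rw [← map_smul, quotMk_eq_zero_iff, smul_eq_mul, mul_one]
        exact hr
      · intro y hy _
        obtain ⟨r, hr, rfl⟩ := hy
        refine ⟨r, hr, ?_⟩
        show quotMk 𝒜a 𝒜a m'.toIdeal hP r = r • quotMk 𝒜a 𝒜a m'.toIdeal hP 1
        rw [← map_smul, smul_eq_mul, mul_one])
    I'
  refine ⟨hmain.1, ?_⟩
  have h2 := hmain.2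
  rw [zero_sub] at h2
  exact h2

end Weighted

end Groth.Agent.Helper20.GorType
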