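import Mathlib
import Groth.Prelude
import Groth.Agent.Lib.Helper20.GorPoly3
import Groth.Agent.Lib.Lead.Depth2

/-!
# The type of the Veronese subrings of a polynomial ring (helper20)
-/

set_option autoImplicit false

open DirectSum MvPolynomial Pointwise

attribute [local instance] MvPolynomial.weightedGradedAlgebra

namespace Groth.Agent.Helper20.GorType

open Groth.Agent.Helper20.GrInj Groth.Agent.Helper20.GorBr

universe u

section Gen

variable {X : Type u} [AddCommGroup X] (𝒳 : ℤ → AddSubgroup X) [DirectSum.Decomposition 𝒳]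
  (q : ℕ)

theorem verProj_eq_iff (x : X) :
    verProj 𝒳 q x = x ↔ ∀ i : ℤ, ¬ (q : ℤ) ∣ i → (decompose 𝒳 x i : X) = 0 := by
  classical
  constructor
  · intro h i hi
    exact decompose_eq_zero_of_verProj_eq 𝒳 q h hi
  · intro H
    rw [verProj_eq_sum]
    conv_rhs => rw [← sum_support_decompose 𝒳 x]
    apply Finset.sum_congr rfl
    intro i _
    split_ifs with h
    · rfl
    · exact (H i h).symm

end Gen

section Poly

variable (k : Type u) [Field k] (N : ℕ)

instance isGorensteinRing_mvPolynomial : LocCoh.IsGorensteinRing (MvPolynomial (Fin N) k) where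
  isGorensteinLocalRing_localization := fun p _ =>
    Groth.Agent.Lead.Depth.isGorensteinLocalRing_of_isRegularLocalRing _

theorem verProj_Ap_eq_iff (q : ℕ) (p : MvPolynomial (Fin N) k) :
    verProj (Ap k N) q p = p ↔ ∀ j : ℕ, ¬ q ∣ j → homogeneousComponent j p = 0 := by
  rw [verProj_eq_iff]
  constructor
  · intro H j hj
    rw [← decompose_Ap]
    apply H
    intro h
    exact hj (Int.natCast_dvd_natCast.1 h)
  · intro H i hi
    rcases lt_or_ge i 0 with h | h
    · exact decompose_Ap_neg k N p i h
    · lift i to ℕ using h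
      rw [decompose_Ap]
      apply H
      intro h'
      exact hi (Int.natCast_dvd_natCast.2 h')

theorem finrank_homogeneousSubmodule' (d : ℕ) :
    Module.finrank k (homogeneousSubmodule (Fin N) k d) = Nat.choose (N + d - 1) d := by
  classical
  rw [homogeneousSubmodule_eq_finsupp_supported]
  have hS : {e : Fin N →₀ ℕ | e.degree = d} =
      ↑((Finset.univ : Finset (Fin N)).finsuppAntidiag d) := by
    ext e
    simp [Finset.mem_finsuppAntidiag, Finsupp.degree_eq_sum]
  rw [hS, (AddMonoidAlgebra.supportedEquivFinsupp _).finrank_eq, Module.finrank_finsupp_self,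
    ← Nat.card_eq_fintype_card, Nat.card_coe_set_eq, Set.ncard_coe_finset,
    Finset.card_finsuppAntidiag_nat_eq_choose]
  simp only [Finset.card_univ, Fintype.card_fin]

theorem finrank_comp_Ap (j : ℕ) :
    Module.finrank (GrLC.deg0 (Ap k N)) (GrLC.comp (Ap k N) (Ap k N) (j : ℤ)) =
      Nat.choose (N + j - 1) j := by
  rw [← finrank_homogeneousSubmodule' k N j]
  have hrank : Module.rank k (homogeneousSubmodule (Fin N) k j) =
      Module.rank (GrLC.deg0 (Ap k N)) (GrLC.comp (Ap k N) (Ap k N) (j : ℤ)) := by
    refine rank_eq_of_equiv_equiv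
      (fun c => (⟨MvPolynomial.C c, C_mem_zero (w1 N) c⟩ : GrLC.deg0 (Ap k N)))
      { toFun := fun x => ⟨x.1, (mem_Ap_iff k N).2 x.2⟩
        invFun := fun y => ⟨y.1, (mem_Ap_iff k N).1 y.2⟩
        left_inv := fun x => rfl
        right_inv := fun y => rfl
        map_add' := fun x y => rfl } ⟨?_, ?_⟩ ?_
    · intro c c' h
      have h1 := congrArg Subtype.val h
      exact MvPolynomial.C_injective _ _ h1
    · rintro ⟨p, hp⟩
      have hp' : p ∈ MvPolynomial.weightedHomogeneousSubmodule k (w1 N) 0 := hp
      refine ⟨MvPolynomial.coeff 0 p, ?_⟩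
      apply Subtype.ext
      exact (eq_C_of_mem_zero (w1 N) (hw1 N) p hp').symm
    · intro c x
      apply Subtype.ext
      show c • (x : MvPolynomial (Fin N) k) = MvPolynomial.C c * (x : MvPolynomial (Fin N) k)
      rw [MvPolynomial.smul_eq_C_mul]
  unfold Module.finrank
  rw [hrank]

end Poly

end Groth.Agent.Helper20.GorType
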