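import Mathlib
import Groth.Prelude
import Groth.Agent.Lib.Helper20.GorPoly4

/-!
# The type of the Veronese subrings of a polynomial ring: main theorem (helper20)
-/

set_option autoImplicit false

open DirectSum MvPolynomial Pointwise

attribute [local instance] MvPolynomial.weightedGradedAlgebra

namespace Groth.Agent.Helper20.GorType

open Groth.Agent.Helper20.GrInj Groth.Agent.Helper20.GorBr

universe u

attribute [local instance] HgrDec Hgr_gradedSMul

section Main

variable (k : Type u) [Field k] (N : ℕ)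

theorem hstd_Ap : Ideal.span (⋃ n ∈ Set.Ioi (0 : ℤ), (Ap k N n : Set (MvPolynomial (Fin N) k))) =
    Ideal.span ((Ap k N 1 : AddSubgroup (MvPolynomial (Fin N) k)) :
      Set (MvPolynomial (Fin N) k)) := by
  apply le_antisymm
  · have h1 : Ideal.span (⋃ n ∈ Set.Ioi (0 : ℤ), (Ap k N n : Set (MvPolynomial (Fin N) k))) =
        Ideal.span (Set.range (MvPolynomial.X : Fin N → MvPolynomial (Fin N) k)) :=
      span_pos_eq_span_X (w1 N) (hw1 N)
    rw [h1]
    apply Ideal.span_mono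
    rintro _ ⟨i, rfl⟩
    exact X_mem_weighted (w1 N) i
  · apply Ideal.span_mono
    intro x hx
    simp only [Set.mem_iUnion, Set.mem_Ioi, SetLike.mem_coe, exists_prop]
    exact ⟨1, one_pos, hx⟩

theorem ringKrullDim_mvPolynomial_fin : ringKrullDim (MvPolynomial (Fin N) k) = (N : ℕ) := by
  rw [MvPolynomial.ringKrullDim_of_isNoetherianRing, ringKrullDim_eq_zero_of_field, zero_add,
    Nat.card_eq_fintype_card, Fintype.card_fin]

theorem endDeg_Ap (I : GrLC.StarInjRes (Ap k N) (Ap k N)) :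
    GrLC.endDeg (I.Hgr (irr (Ap k N)) N) =
      (((-(N : ℤ) : ℤ) : WithTop ℤ) : WithBot (WithTop ℤ)) := by
  have hpos := Ap_eq_bot_of_neg k N
  obtain ⟨-, hs⟩ := isSocAt_weighted' k N (w1 N) (hw1 N) (irr (Ap k N)) (irr_toIdeal _) I
  have hsum : (∑ i : Fin N, w1 N i) = (N : ℤ) := by
    simp
  rw [hsum] at hs
  have hsm : ∀ (i j : ℤ) (r : MvPolynomial (Fin N) k) (w : I.H (irr (Ap k N)) N),
      r ∈ Ap k N i → w ∈ I.Hgr (irr (Ap k N)) N j → r • w ∈ I.Hgr (irr (Ap k N)) N (i + j) := by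
    intro i j r w hr hw
    have := SetLike.GradedSMul.smul_mem (A := Ap k N) (B := I.Hgr (irr (Ap k N)) N) hr hw
    rwa [vadd_eq_add] at this
  have htor := exists_pow_smul_H_eq_zero I (irr (Ap k N)) N
  have htop : ∀ j, -(N : ℤ) < j → I.Hgr (irr (Ap k N)) N j = ⊥ := fun j hj =>
    eq_bot_of_isSocAt_of_lt (irr (Ap k N)) hsm hpos htor hs hj
  obtain ⟨-, w₀, hw₀, hw₀0, -, -⟩ := hs
  have hne : I.Hgr (irr (Ap k N)) N (-(N : ℤ)) ≠ ⊥ := by
    intro h
    rw [h, AddSubgroup.mem_bot] at hw₀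
    exact hw₀0 hw₀
  exact endDeg_eq_of_top hne htop

/-- positive-degree polynomials have zero constant coefficient -/
theorem constantCoeff_eq_zero_of_mem_Ap {p : MvPolynomial (Fin N) k} {j : ℤ} (hj : 0 < j)
    (hp : p ∈ Ap k N j) : MvPolynomial.constantCoeff p = 0 := by
  rw [mem_toAdd, mem_weightedHomogeneousSubmodule] at hp
  rw [MvPolynomial.constantCoeff_eq]
  apply hp.coeff_eq_zero
  rw [map_zero]
  exact hj.ne

end Main

section Final

variable (k : Type u) [Field k] (s d : ℕ)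

theorem bassNum_veronese_mvPolynomial (hs : 1 ≤ s)
    (hd : 1 ≤ d) (R' : Type u) [CommRing R'] (φ : R' →+* MvPolynomial (Fin s) k)
    (hφ : Function.Injective φ)
    (hrange : ∀ p : MvPolynomial (Fin s) k, p ∈ φ.range ↔
      ∀ j : ℕ, ¬ d ∣ j → MvPolynomial.homogeneousComponent j p = 0)
    (m' : Ideal R') [m'.IsMaximal]
    (hm' : m' = Ideal.comap φ
      (RingHom.ker (MvPolynomial.constantCoeff : MvPolynomial (Fin s) k →+* k)))
    (n : ℕ) (hsn : s ≤ n) (hdn : d ∣ n) (hmin : ∀ n' : ℕ, s ≤ n' → d ∣ n' → n ≤ n') :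
    GrLC.bassNum m' R' s = (Nat.choose (n - 1) (s - 1) : ℕ∞) := by
  classical
  have hrange' : ∀ x : MvPolynomial (Fin s) k,
      (∃ r', φ r' = x) ↔ verProj (Ap k s) d x = x := by
    intro x
    rw [verProj_Ap_eq_iff]
    exact hrange x
  letI : GradedRing (verPiece (Ap k s) φ d) := verGradedRing (Ap k s) φ d hd hφ hrange'
  let V : VerRing (Ap k s) (verPiece (Ap k s) φ d) :=
    ⟨φ, d, hd, hφ, fun j r' h => h, fun j r hr => by
      obtain ⟨r', rfl⟩ := (hrange' r).2 (verProj_of_mem_mul (Ap k s) d hr)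
      exact ⟨r', hr, rfl⟩⟩
  have hpos := Ap_eq_bot_of_neg k s
  have h0 : IsField (GrLC.deg0 (Ap k s)) := isField_deg0_weighted (w1 s) (hw1 s)
  have hpos' : ∀ j : ℤ, j < 0 → verPiece (Ap k s) φ d j = ⊥ := V.eq_bot_of_neg hpos
  have h0' : IsField (GrLC.deg0 (verPiece (Ap k s) φ d)) := V.isField_deg0 h0
  have hirrmax : (irr (verPiece (Ap k s) φ d)).toIdeal.IsMaximal :=
    isMaximal_of_isStarLocal hpos' _ (isStarLocal_irr hpos' h0')
  have hle : (irr (verPiece (Ap k s) φ d)).toIdeal ≤ m' := by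
    rw [irr_toIdeal, Ideal.span_le]
    intro x hx
    simp only [Set.mem_iUnion, Set.mem_Ioi, SetLike.mem_coe, exists_prop] at hx
    obtain ⟨j, hj, hxj⟩ := hx
    rw [hm']
    show φ x ∈ RingHom.ker _
    rw [RingHom.mem_ker]
    have hdpos : (0 : ℤ) < (d : ℤ) := by exact_mod_cast hd
    exact constantCoeff_eq_zero_of_mem_Ap k s (mul_pos hj hdpos) hxj
  have hm'eq : m' = (irr (verPiece (Ap k s) φ d)).toIdeal :=
    (hirrmax.eq_of_le (Ideal.IsMaximal.ne_top inferInstance) hle).symm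
  subst hm'eq
  -- the remainder
  obtain ⟨e, he⟩ := hdn
  have hρ : ((n - s : ℕ) : ℤ) = (n : ℤ) - (s : ℤ) := by
    rw [Nat.cast_sub hsn]
  have hlt : n - s < d := by
    by_contra hcon
    push Not at hcon
    have he1 : 1 ≤ e := by
      rcases Nat.eq_zero_or_pos e with h | h
      · subst h
        omega
      · exact h
    have h1 := hmin (d * (e - 1)) (by
      have : d * (e - 1) = d * e - d := by
        rw [Nat.mul_sub, mul_one]
      omega) (Dvd.intro _ rfl)
    have : d * (e - 1) = d * e - d := by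
      rw [Nat.mul_sub, mul_one]
    omega
  have hmain := bassNum_veronese hpos h0 (irr (Ap k s)) (isStarLocal_irr hpos h0)
    (irr_toIdeal _) (hstd_Ap k s) s (ringKrullDim_mvPolynomial_fin k s)
    (starInjRes (Ap k s) (Ap k s)) (-(s : ℤ)) (endDeg_Ap k s _) V
    (irr (verPiece (Ap k s) φ d)) (irr_toIdeal _) ((n - s : ℕ) : ℤ) (Int.natCast_nonneg _)
    (by exact_mod_cast hlt)
    (by
      rw [hρ]
      refine ⟨-(e : ℤ), ?_⟩
      show -(s : ℤ) - ((n : ℤ) - s) = (d : ℤ) * -(e : ℤ)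
      rw [he]
      push_cast
      ring)
  rw [hmain, finrank_comp_Ap]
  have h1 : s + (n - s) - 1 = n - 1 := by omega
  rw [h1]
  have h2 : (n - 1).choose (n - s) = (n - 1).choose (s - 1) := by
    rw [← Nat.choose_symm (by omega : n - s ≤ n - 1)]
    congr 1
    omega
  rw [h2]

end Final

end Groth.Agent.Helper20.GorType
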