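import Mathlib
import Groth.Prelude
import Groth.Agent.Lib.Helper20.GorVer2

/-!
# Gorenstein Veronese subrings of standard graded Gorenstein rings: `q ∣ a(R)` (helper20)
-/

open DirectSum IsLocalRing

namespace Groth.Agent.Helper20.GorBr

open Groth.Agent.Helper20.GrInj Groth.Agent.Helper8

universe u

section Main

variable {R : Type u} [CommRing R] [hG : LocCoh.IsGorensteinRing R] {R' : Type u} [CommRing R']
variable {𝒜 : ℤ → AddSubgroup R} [GradedRing 𝒜] {𝒜' : ℤ → AddSubgroup R'} [GradedRing 𝒜']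
variable (hpos : ∀ n : ℤ, n < 0 → 𝒜 n = ⊥) (h0 : IsField (GrLC.deg0 𝒜)) (m : HomogeneousIdeal 𝒜)
  (hm : GrLC.IsStarLocal 𝒜 m)
  (hmsp : m.toIdeal = Ideal.span (⋃ n ∈ Set.Ioi (0 : ℤ), (𝒜 n : Set R)))
  (hstd : Ideal.span (⋃ n ∈ Set.Ioi (0 : ℤ), (𝒜 n : Set R)) =
    Ideal.span ((𝒜 1 : AddSubgroup R) : Set R))
  (hR1 : 2 ≤ Module.finrank (GrLC.deg0 𝒜) (GrLC.comp 𝒜 𝒜 1))
  (n : ℕ) (hn : ringKrullDim R = n) (h1 : 1 ≤ n) (I : GrLC.StarInjRes 𝒜 𝒜)

include hpos h0 hm hmsp hstd hR1 hn h1 in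
/-- **if the Veronese subring `R^(q)` of a standard graded Gorenstein ring is Gorenstein then
`q ∣ a(R)`** -/
theorem dvd_of_isGorensteinRing_veronese (a : ℤ)
    (ha : GrLC.endDeg (I.Hgr m n) = ((a : WithTop ℤ) : WithBot (WithTop ℤ)))
    (V : VerRing 𝒜 𝒜') [hG' : LocCoh.IsGorensteinRing R'] : (V.q : ℤ) ∣ a := by
  classical
  have hpos' : ∀ j : ℤ, j < 0 → 𝒜' j = ⊥ := V.eq_bot_of_neg hpos
  have h0' : IsField (GrLC.deg0 𝒜') := V.isField_deg0 h0
  have hm' := isStarLocal_irr hpos' h0'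
  have hm'sp := irr_toIdeal 𝒜'
  let F : GrLC.StarInjRes 𝒜' 𝒜' := starInjRes 𝒜' 𝒜'
  have hle : (irr 𝒜').toIdeal.map V.φ ≤ m.toIdeal := by
    rw [hmsp, hm'sp]
    exact map_irrelevant_le 𝒜 𝒜' V.φ V.q V.hq V.h1
  have hrad : m.toIdeal ≤ ((irr 𝒜').toIdeal.map V.φ).radical := by
    rw [hmsp, hm'sp]
    exact irrelevant_le_radical_map 𝒜 𝒜' V.φ V.q V.h2
  obtain ⟨hvan, s, hs, hB⟩ := exists_isSocAt_of_isGorensteinRing hpos h0 m hm hmsp n hn I
  -- the dimension of `R'`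
  haveI hmax' : (irr 𝒜').toIdeal.IsMaximal := isMaximal_of_isStarLocal hpos' _ hm'
  have hdim' := ringKrullDim_eq_height_of_isStarLocal (irr 𝒜') hm' hmax'
  obtain ⟨n', hn'⟩ := ENat.ne_top_iff_exists.1
    (Ideal.height_ne_top (I := (irr 𝒜').toIdeal) hmax'.ne_top)
  rw [← hn'] at hdim'
  obtain ⟨-, s', hs', -⟩ := exists_isSocAt_of_isGorensteinRing hpos' h0' (irr 𝒜') hm' hm'sp n'
    hdim' F
  have hnn : n' = n := by
    by_contra hne
    obtain ⟨-, w₀', hw₀', hw₀'0, -, -⟩ := hs'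
    obtain ⟨Λ, -, -, hΛ3⟩ := exists_semilinear_H_veronese V V.φLin V.inj V.h1 V.h2 I F m (irr 𝒜')
      hle hrad n'
    haveI := hvan n' hne
    exact hw₀'0 (hΛ3 s' w₀' hw₀' (Subsingleton.elim _ _))
  subst hnn
  letI := HgrDec I m n'
  letI := Hgr_gradedSMul I m n'
  have hsm : ∀ (i j : ℤ) (r : R) (w : I.H m n'), r ∈ 𝒜 i → w ∈ I.Hgr m n' j →
      r • w ∈ I.Hgr m n' (i + j) := by
    intro i j r w hr hw
    have := SetLike.GradedSMul.smul_mem (A := 𝒜) (B := I.Hgr m n') hr hw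
    rwa [vadd_eq_add] at this
  have htor := exists_pow_smul_H_eq_zero I m n'
  have htop : ∀ j, s < j → I.Hgr m n' j = ⊥ := fun j hj =>
    eq_bot_of_isSocAt_of_lt m hsm hpos htor hs hj
  have hsa : s = a := by
    obtain ⟨-, w₀, hw₀, hw₀0, -, -⟩ := hs
    have hne : I.Hgr m n' s ≠ ⊥ := by
      intro h
      rw [h, AddSubgroup.mem_bot] at hw₀
      exact hw₀0 hw₀
    have h1 := endDeg_eq_of_top hne htop
    rw [ha] at h1
    exact_mod_cast h1.symm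
  subst hsa
  -- `Γ_m(R) = 0`
  have hΓ : GrLC.gam m.toIdeal R = ⊥ := by
    haveI := hvan 0 (by omega)
    rw [eq_bot_iff]
    intro y hy
    have := gamToH_injective I m (Subsingleton.elim (gamToH I m ⟨y, hy⟩) (gamToH I m 0))
    exact (Submodule.mem_bot R).2 (congrArg Subtype.val this)
  -- division with remainder
  have hqpos : (0 : ℤ) < (V.q : ℤ) := by exact_mod_cast V.hq
  by_contra hndvd
  have hρ0 : s % (V.q : ℤ) ≠ 0 := fun h => hndvd (Int.dvd_of_emod_eq_zero h)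
  have hρnn : 0 ≤ s % (V.q : ℤ) := Int.emod_nonneg s hqpos.ne'
  have hρlt : s % (V.q : ℤ) < V.q := Int.emod_lt_of_pos s hqpos
  have hdiv : s % (V.q : ℤ) + V.q * (s / (V.q : ℤ)) = s := Int.emod_add_mul_ediv s V.q
  set ρ := s % (V.q : ℤ) with hρ
  set j₀ := s / (V.q : ℤ) with hj₀
  have hdeg : s - ρ = j₀ * (V.q : ℤ) := by rw [← hdiv]; ring
  obtain ⟨Λ, hΛ1, hΛ2, hΛ3⟩ := exists_semilinear_H_veronese V V.φLin V.inj V.h1 V.h2 I F m
    (irr 𝒜') hle hrad n'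
  letI := HgrDec F (irr 𝒜') n'
  letI := Hgr_gradedSMul F (irr 𝒜') n'
  have hsm' : ∀ (i j : ℤ) (r : R') (w : F.H (irr 𝒜') n'), r ∈ 𝒜' i →
      w ∈ F.Hgr (irr 𝒜') n' j → r • w ∈ F.Hgr (irr 𝒜') n' (i + j) := by
    intro i j r w hr hw
    have := SetLike.GradedSMul.smul_mem (A := 𝒜') (B := F.Hgr (irr 𝒜') n') hr hw
    rwa [vadd_eq_add] at this
  have hΛsmul : ∀ (r' : R') (w : F.H (irr 𝒜') n'), Λ (r' • w) = V.φ r' • Λ w :=
    fun r' w => Λ.map_smulₛₗ r' w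
  -- `H_{a - ρ}` is at most one-dimensional
  have key : ∃ h₀ : I.H m n', ∀ h ∈ I.Hgr m n' (s - ρ), ∃ c ∈ 𝒜 0, h = c • h₀ := by
    by_cases hz : ∀ w ∈ F.Hgr (irr 𝒜') n' j₀, w = 0
    · refine ⟨0, fun h hh => ⟨0, zero_mem _, ?_⟩⟩
      rw [hdeg] at hh
      obtain ⟨w, hw, rfl⟩ := hΛ2 j₀ h hh
      rw [hz w hw, map_zero, smul_zero]
    · push Not at hz
      obtain ⟨w₁, hw₁, hw₁0⟩ := hz
      have hsocw : ∀ w ∈ F.Hgr (irr 𝒜') n' j₀, ∀ r ∈ (irr 𝒜').toIdeal, r • w = 0 := by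
        intro w hw
        apply smul_eq_zero_of_homog (irr 𝒜') w
        intro l r' hr' hr'm
        rcases lt_trichotomy l 0 with hl | hl | hl
        · rw [hpos' l hl, AddSubgroup.mem_bot] at hr'
          rw [hr', zero_smul]
        · subst hl
          rw [eq_zero_of_mem_irrelevant_of_mem_zero hpos' (irr 𝒜') hm'sp hr' hr'm, zero_smul]
        · have hmem := hsm' l j₀ r' w hr' hw
          apply hΛ3 (l + j₀) _ hmem
          have h2 := hΛ1 (l + j₀) _ hmem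
          have hlt : s < (l + j₀) * (V.q : ℤ) := by
            have : (V.q : ℤ) ≤ l * V.q := le_mul_of_one_le_left hqpos.le hl
            rw [add_mul, ← hdeg]
            omega
          rw [htop _ hlt, AddSubgroup.mem_bot] at h2
          exact h2
      have hj₀s : j₀ = s' := hs'.1 j₀ w₁ hw₁ hw₁0 (hsocw w₁ hw₁)
      obtain ⟨-, w₀', hw₀', -, -, hgen'⟩ := hs'
      refine ⟨Λ w₀', fun h hh => ?_⟩
      rw [hdeg] at hh
      obtain ⟨w, hw, rfl⟩ := hΛ2 j₀ h hh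
      obtain ⟨c', hc', hcw⟩ := hgen' w (hj₀s ▸ hw) (hsocw w hw)
      refine ⟨V.φ c', ?_, ?_⟩
      · have := V.h1 0 c' hc'
        rwa [zero_mul] at this
      · rw [hcw, hΛsmul]
  obtain ⟨h₀, hh₀⟩ := key
  have hs' := hs
  obtain ⟨-, w₀, hw₀, hw₀0, hw₀m, hgen⟩ := hs
  -- every element of top degree lies in the socle
  have hall : ∀ h ∈ I.Hgr m n' s, ∀ r ∈ m.toIdeal, r • h = 0 := by
    intro h hh
    apply smul_eq_zero_of_homog m h
    intro l r hr hra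
    rcases lt_trichotomy l 0 with hl | hl | hl
    · rw [hpos l hl, AddSubgroup.mem_bot] at hr
      rw [hr, zero_smul]
    · subst hl
      rw [eq_zero_of_mem_irrelevant_of_mem_zero hpos m hmsp hr hra, zero_smul]
    · have h1 := hsm l s r h hr hh
      rw [htop (l + s) (by omega), AddSubgroup.mem_bot] at h1
      exact h1
  have huniq : ∀ c ∈ 𝒜 0, c • w₀ = 0 → c = 0 := by
    intro c hc hcw
    by_contra hc0
    obtain ⟨u, _, hu⟩ := exists_mul_eq_one_of_mem_zero h0 hc hc0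
    apply hw₀0
    rw [← one_smul R w₀, ← hu, mul_smul, hcw, smul_zero]
  -- `R_ρ` is cyclic
  have hcyc : ∃ x : R, ∀ z ∈ 𝒜 ρ, ∃ c ∈ 𝒜 0, z = c * x := by
    by_cases hzero : ∀ z ∈ 𝒜 ρ, z = 0
    · exact ⟨0, fun z hz => ⟨0, zero_mem _, by rw [hzero z hz, zero_mul]⟩⟩
    · push Not at hzero
      obtain ⟨x, hx, hx0⟩ := hzero
      refine ⟨x, ?_⟩
      obtain ⟨h, hh, hxh⟩ := hB ρ x hx hx0
      obtain ⟨c₁, hc₁, rfl⟩ := hh₀ h hh
      have hc₁0 : c₁ ≠ 0 := by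
        intro h
        apply hxh
        rw [h, zero_smul, smul_zero]
      obtain ⟨u₁, hu₁, hu₁c⟩ := exists_mul_eq_one_of_mem_zero h0 hc₁ hc₁0
      have hh₀mem : h₀ ∈ I.Hgr m n' (s - ρ) := by
        have := hsm 0 (s - ρ) u₁ _ hu₁ hh
        rwa [zero_add, smul_smul, hu₁c, one_smul] at this
      have hxh₀ : x • h₀ ≠ 0 := by
        intro h
        apply hxh
        rw [smul_comm, h, smul_zero]
      have hmemtop : ∀ z ∈ 𝒜 ρ, z • h₀ ∈ I.Hgr m n' s := by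
        intro z hz
        have := hsm ρ (s - ρ) z h₀ hz hh₀mem
        rwa [add_sub_cancel] at this
      obtain ⟨cx, hcx, hcxw⟩ := hgen _ (hmemtop x hx) (hall _ (hmemtop x hx))
      have hcx0 : cx ≠ 0 := by
        intro h
        apply hxh₀
        rw [hcxw, h, zero_smul]
      obtain ⟨ux, hux, huxc⟩ := exists_mul_eq_one_of_mem_zero h0 hcx hcx0
      intro z hz
      obtain ⟨cz, hcz, hczw⟩ := hgen _ (hmemtop z hz) (hall _ (hmemtop z hz))
      have hcmem : cz * ux ∈ 𝒜 0 := by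
        have := SetLike.mul_mem_graded (A := 𝒜) hcz hux
        rwa [add_zero] at this
      refine ⟨cz * ux, hcmem, ?_⟩
      by_contra hne
      have hdiff : z - cz * ux * x ≠ 0 := sub_ne_zero.2 hne
      have hdmem : z - cz * ux * x ∈ 𝒜 ρ := by
        apply sub_mem hz
        have := SetLike.mul_mem_graded (A := 𝒜) hcmem hx
        rwa [zero_add] at this
      obtain ⟨h', hh', hne'⟩ := hB ρ _ hdmem hdiff
      obtain ⟨c₂, -, rfl⟩ := hh₀ h' hh'
      apply hne'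
      rw [smul_comm, sub_smul, hczw, mul_smul, mul_smul, hcxw, smul_smul ux cx, huxc, one_smul,
        sub_self, smul_zero]
  obtain ⟨x, hx⟩ := hcyc
  exact not_cyclic_piece h0 m hmsp hstd hΓ hR1 (show 1 ≤ ρ by omega) x hx

end Main

end Groth.Agent.Helper20.GorBr
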