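import Mathlib
import Groth.Agent.Lib.Helper20.GrMat5

/-!
# The graded module `*Hom(C, E')` and its decomposition (helper20)
-/

open DirectSum

namespace Groth.Agent.Helper20.GrInj

universe u

section HomDec

variable {R : Type u} [CommRing R] {𝒜 : ℤ → AddSubgroup R} [GradedRing 𝒜]
variable {C : Type u} [AddCommGroup C] [Module R C] (𝒞 : ℤ → AddSubgroup C)
  [DirectSum.Decomposition 𝒞] [SetLike.GradedSMul 𝒜 𝒞]
variable {E' : Type u} [AddCommGroup E'] [Module R E'] (𝓔 : ℤ → AddSubgroup E')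
  [DirectSum.Decomposition 𝓔] [SetLike.GradedSMul 𝒜 𝓔]

/-- the pieces of `*Hom(C, E')` -/
def homGr (d : ℤ) : AddSubgroup (C →ₗ[R] E') := (GrLC.homDeg 𝒜 𝒞 𝓔 d).toAddSubgroup

omit [DirectSum.Decomposition 𝒞] [SetLike.GradedSMul 𝒜 𝒞] [DirectSum.Decomposition 𝓔] in
theorem mem_homGr {d : ℤ} {f : C →ₗ[R] E'} :
    f ∈ homGr (𝒜 := 𝒜) 𝒞 𝓔 d ↔ GrLC.IsGrHomDeg 𝒞 𝓔 f d := Iff.rfl

omit [SetLike.GradedSMul 𝒜 𝒞] in
/-- a homogeneous map vanishing on homogeneous elements vanishes -/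
theorem eq_zero_of_forall_homog {f : C →ₗ[R] E'} (h : ∀ (j : ℤ) (x : C), x ∈ 𝒞 j → f x = 0) :
    f = 0 := by
  apply LinearMap.ext
  intro x
  rw [LinearMap.zero_apply]
  induction x using DirectSum.Decomposition.inductionOn 𝒞 with
  | zero => exact map_zero f
  | @homogeneous j x => exact h j x x.2
  | add a b ha hb => rw [map_add, ha, hb, add_zero]

omit [SetLike.GradedSMul 𝒜 𝒞] in
theorem homGr_independent (s : Finset ℤ) (c : ℤ → (C →ₗ[R] E'))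
    (hc : ∀ i, c i ∈ homGr (𝒜 := 𝒜) 𝒞 𝓔 i) (hsum : ∑ i ∈ s, c i = 0) : ∀ i ∈ s, c i = 0 := by
  classical
  intro d₀ hd₀
  apply eq_zero_of_forall_homog 𝒞
  intro j x hx
  have h1 : ∑ i ∈ s, c i x = 0 := by
    rw [← LinearMap.sum_apply, hsum, LinearMap.zero_apply]
  have h2 := congrArg (fun y => (decompose 𝓔 y (j + d₀) : E')) h1
  simp only at h2
  rw [decompose_sum, DFinsupp.finsetSum_apply, AddSubmonoidClass.coe_finsetSum,
    Finset.sum_eq_single d₀, decompose_zero, DirectSum.zero_apply, ZeroMemClass.coe_zero] at h2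
  · rw [decompose_of_mem_same 𝓔 (hc d₀ j x hx)] at h2
    exact h2
  · intro i _ hi
    rw [decompose_of_mem_ne 𝓔 (hc i j x hx)]
    intro h
    exact hi (add_left_cancel h)
  · intro h
    exact absurd hd₀ h

theorem homGr_isInternal [Module.Finite R C] :
    DirectSum.IsInternal (homGr (𝒜 := 𝒜) 𝒞 𝓔) := by
  apply isInternal_of
  · intro f
    obtain ⟨D, hD⟩ := exists_eq_sum_homComp 𝒜 𝒞 𝓔 f
    exact ⟨D, fun d => homComp 𝒜 𝒞 𝓔 f d, fun d => homComp_isGrHomDeg f d, hD⟩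
  · exact homGr_independent 𝒞 𝓔

/-- the decomposition of `*Hom(C, E')` -/
noncomputable def homGrDec [Module.Finite R C] :
    DirectSum.Decomposition (homGr (𝒜 := 𝒜) 𝒞 𝓔) :=
  (homGr_isInternal 𝒞 𝓔).chooseDecomposition

omit [DirectSum.Decomposition 𝒞] [SetLike.GradedSMul 𝒜 𝒞] [DirectSum.Decomposition 𝓔] in
theorem smul_mem_homGr {i d : ℤ} {r : R} (hr : r ∈ 𝒜 i) {f : C →ₗ[R] E'}
    (hf : f ∈ homGr (𝒜 := 𝒜) 𝒞 𝓔 d) : r • f ∈ homGr (𝒜 := 𝒜) 𝒞 𝓔 (i + d) := by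
  intro g x hx
  rw [LinearMap.smul_apply]
  have := SetLike.GradedSMul.smul_mem (A := 𝒜) (B := 𝓔) hr (hf g x hx)
  rw [vadd_eq_add] at this
  rwa [add_left_comm]

end HomDec

end Groth.Agent.Helper20.GrInj
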