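import Mathlib
import Groth.Agent.Lib.Helper20.GrCan1

/-!
# From a graded duality pairing to a *canonical module (helper20)

The converse of `exists_grPairing_of_isStarCanonical`: a finitely generated graded module `C`
with a graded duality pairing `C × H → R_0` against a graded module `H` satisfies
`*Hom(C, *E(R/m)) ≅ H` as graded modules.
-/

open DirectSum

namespace Groth.Agent.Helper20.GrInj

universe u

section Bil

variable {R : Type u} [CommRing R] {𝒜 : ℤ → AddSubgroup R} [GradedRing 𝒜]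
variable {C : Type u} [AddCommGroup C] [Module R C] {𝒞 : ℤ → AddSubgroup C}
  [DirectSum.Decomposition 𝒞] [SetLike.GradedSMul 𝒜 𝒞]
variable {H : Type u} [AddCommGroup H] [Module R H] {ℋ : ℤ → AddSubgroup H}
  [DirectSum.Decomposition ℋ] [SetLike.GradedSMul 𝒜 ℋ]

namespace GrPairing

variable (P : GrPairing 𝒜 𝒞 ℋ)

omit [DirectSum.Decomposition 𝒞] [SetLike.GradedSMul 𝒜 𝒞] [DirectSum.Decomposition ℋ]
  [SetLike.GradedSMul 𝒜 ℋ] in
theorem zero_right (c : C) : P.β c 0 = 0 := by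
  have h := P.add_right c 0 0
  rw [add_zero] at h
  exact left_eq_add.1 h

omit [DirectSum.Decomposition 𝒞] [SetLike.GradedSMul 𝒜 𝒞] [DirectSum.Decomposition ℋ]
  [SetLike.GradedSMul 𝒜 ℋ] in
theorem sub_right (c : C) (h h' : H) : P.β c (h - h') = P.β c h - P.β c h' := by
  have := P.add_right c (h - h') h'
  rw [sub_add_cancel] at this
  rw [this, add_sub_cancel_right]

/-- the pairing of the pieces of degrees `j` and `-j`, bilinear over `R_0` -/
noncomputable def bil (j : ℤ) :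
    ↥(GrLC.comp 𝒜 𝒞 j) →ₗ[GrLC.deg0 𝒜] ↥(GrLC.comp 𝒜 ℋ (-j)) →ₗ[GrLC.deg0 𝒜] GrLC.deg0 𝒜 :=
  LinearMap.mk₂ (GrLC.deg0 𝒜) (fun c h => ⟨P.β (c : C) (h : H), P.mem _ _⟩)
    (by
      intro c c' h
      apply Subtype.ext
      exact P.add_left _ _ _)
    (by
      intro s c h
      apply Subtype.ext
      show P.β ((s : R) • (c : C)) (h : H) = (s : R) * P.β (c : C) (h : H)
      rw [P.smul_left, P.smul_right _ s.2])
    (by
      intro c h h'
      apply Subtype.ext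
      exact P.add_right _ _ _)
    (by
      intro s c h
      apply Subtype.ext
      exact P.smul_right _ s.2 _ _)

theorem bil_apply (j : ℤ) (c : ↥(GrLC.comp 𝒜 𝒞 j)) (h : ↥(GrLC.comp 𝒜 ℋ (-j))) :
    ((P.bil j c h : GrLC.deg0 𝒜) : R) = P.β (c : C) (h : H) := rfl

theorem bil_injective (j : ℤ) : Function.Injective (P.bil j) := by
  rw [injective_iff_map_eq_zero]
  intro c hc
  apply Subtype.ext
  rw [ZeroMemClass.coe_zero]
  apply P.nondeg j (c : C) c.2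
  intro h hh
  have := congrArg (fun g => ((g ⟨h, hh⟩ : GrLC.deg0 𝒜) : R)) hc
  exact this

theorem bil_surjective (j : ℤ) : Function.Surjective (P.bil j) := by
  classical
  intro ℓ'
  let ℓ : H → R := fun h => if hh : h ∈ ℋ (-j) then ((ℓ' ⟨h, hh⟩ : GrLC.deg0 𝒜) : R) else 0
  have hℓ : ∀ (h : H) (hh : h ∈ ℋ (-j)), ℓ h = ((ℓ' ⟨h, hh⟩ : GrLC.deg0 𝒜) : R) := by
    intro h hh
    exact dif_pos hh
  obtain ⟨c, hc, hcℓ⟩ := P.repr j ℓ
    (by
      intro h hh
      rw [hℓ h hh]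
      exact (ℓ' ⟨h, hh⟩).2)
    (by
      intro h hh h' hh'
      rw [hℓ h hh, hℓ h' hh', hℓ (h + h') (add_mem hh hh')]
      have : (⟨h + h', add_mem hh hh'⟩ : ↥(GrLC.comp 𝒜 ℋ (-j))) = ⟨h, hh⟩ + ⟨h', hh'⟩ := rfl
      rw [this, map_add]
      rfl)
    (by
      intro s hs h hh
      have hsh : s • h ∈ ℋ (-j) :=
        (GrLC.comp 𝒜 ℋ (-j)).smul_mem (⟨s, hs⟩ : GrLC.deg0 𝒜) hh
      rw [hℓ h hh, hℓ (s • h) hsh]
      have : (⟨s • h, hsh⟩ : ↥(GrLC.comp 𝒜 ℋ (-j))) = (⟨s, hs⟩ : GrLC.deg0 𝒜) • ⟨h, hh⟩ := rfl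
      rw [this, map_smul]
      rfl)
  refine ⟨⟨c, hc⟩, ?_⟩
  apply LinearMap.ext
  intro h
  apply Subtype.ext
  rw [bil_apply]
  show P.β c (h : H) = _
  rw [hcℓ h h.2, hℓ h h.2]

theorem bil_flip_injective (h0 : IsField (GrLC.deg0 𝒜)) (j : ℤ) :
    Function.Injective (P.bil j).flip := by
  letI : Field ↥(GrLC.deg0 𝒜) := h0.toField
  rw [injective_iff_map_eq_zero]
  intro h hh
  rw [← Module.forall_dual_apply_eq_zero_iff (GrLC.deg0 𝒜)]
  intro ℓ'
  obtain ⟨c, rfl⟩ := P.bil_surjective j ℓ'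
  have := congrArg (fun g => g c) hh
  exact this

theorem bil_isPerfPair [IsNoetherian R C] (h0 : IsField (GrLC.deg0 𝒜)) (j : ℤ) :
    (P.bil j).IsPerfPair := by
  letI : Field ↥(GrLC.deg0 𝒜) := h0.toField
  haveI : IsNoetherian (GrLC.deg0 𝒜) (GrLC.comp 𝒜 𝒞 j) := comp_isNoetherian (𝒜 := 𝒜) (ℳ := 𝒞) j
  haveI : FiniteDimensional ↥(GrLC.deg0 𝒜) ↥(GrLC.comp 𝒜 𝒞 j) := Module.IsNoetherian.finite _ _
  exact LinearMap.IsPerfPair.of_injective (P.bil_injective j) (P.bil_flip_injective h0 j)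

end GrPairing

end Bil

end Groth.Agent.Helper20.GrInj
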