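import Mathlib
import Groth.Agent.Lib.Helper20.GrCan2

/-!
# From a graded duality pairing to a *canonical module: the isomorphism (helper20)
-/

open DirectSum

namespace Groth.Agent.Helper20.GrInj

universe u

section Can

variable {R : Type u} [CommRing R] [IsNoetherianRing R] {𝒜 : ℤ → AddSubgroup R} [GradedRing 𝒜]
variable (hpos : ∀ n : ℤ, n < 0 → 𝒜 n = ⊥) (h0 : IsField (GrLC.deg0 𝒜)) (m : HomogeneousIdeal 𝒜)
  (hmsp : m.toIdeal = Ideal.span (⋃ n ∈ Set.Ioi (0 : ℤ), (𝒜 n : Set R)))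
variable {E' : Type u} [AddCommGroup E'] [Module R E'] {𝓔 : ℤ → AddSubgroup E'}
  [DirectSum.Decomposition 𝓔] [SetLike.GradedSMul 𝒜 𝓔]
  (e : (R ⧸ m.toIdeal) →ₗ[R] E') (he : GrLC.IsStarInjHull 𝒜 (GrLC.quotGr 𝒜 m) 𝓔 e)
variable {C : Type u} [AddCommGroup C] [Module R C] {𝒞 : ℤ → AddSubgroup C}
  [DirectSum.Decomposition 𝒞] [SetLike.GradedSMul 𝒜 𝒞] [Module.Finite R C]
variable {H : Type u} [AddCommGroup H] [Module R H] {ℋ : ℤ → AddSubgroup H}
  [DirectSum.Decomposition ℋ] [SetLike.GradedSMul 𝒜 ℋ] (P : GrPairing 𝒜 𝒞 ℋ)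

include hpos h0 hmsp he in
/-- every homogeneous map of degree `d` is represented by a class of degree `d` -/
theorem exists_rel_left (d : ℤ) {f : C →ₗ[R] E'} (hf : GrLC.IsGrHomDeg 𝒞 𝓔 f d) :
    ∃ h ∈ ℋ d, ∀ c ∈ 𝒞 (-d), P.β c h = hullCoord hpos h0 m hmsp e he (f c) := by
  letI : Field ↥(GrLC.deg0 𝒜) := h0.toField
  haveI : IsNoetherian R C := isNoetherian_of_isNoetherianRing_of_finite R C
  haveI := P.bil_isPerfPair h0 (-d)
  let ℓ : Module.Dual (GrLC.deg0 𝒜) ↥(GrLC.comp 𝒜 𝒞 (-d)) :=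
    { toFun := fun c => ⟨hullCoord hpos h0 m hmsp e he (f (c : C)),
        hullCoord_mem hpos h0 m hmsp e he _⟩
      map_add' := by
        intro c c'
        apply Subtype.ext
        show hullCoord hpos h0 m hmsp e he (f ((c : C) + (c' : C))) = _
        rw [map_add, hullCoord_add]
        rfl
      map_smul' := by
        intro s c
        apply Subtype.ext
        show hullCoord hpos h0 m hmsp e he (f ((s : R) • (c : C))) = _
        rw [map_smul, hullCoord_smul hpos h0 m hmsp e he s.2]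
        rfl }
  obtain ⟨⟨x, hx⟩, hw⟩ := (LinearMap.IsPerfPair.bijective_right (p := P.bil (-d))).2 ℓ
  refine ⟨x, ?_, ?_⟩
  · have hx' : x ∈ ℋ (- -d) := hx
    rwa [neg_neg] at hx'
  · intro c hc
    have := congrArg (fun g => ((g ⟨c, hc⟩ : GrLC.deg0 𝒜) : R)) hw
    exact this

include hpos h0 hmsp he in
/-- every class is represented by a homogeneous map of degree `d` -/
theorem exists_rel_right (d : ℤ) (h : H) :
    ∃ f : C →ₗ[R] E', GrLC.IsGrHomDeg 𝒞 𝓔 f d ∧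
      ∀ c ∈ 𝒞 (-d), P.β c h = hullCoord hpos h0 m hmsp e he (f c) := by
  letI : Field ↥(GrLC.deg0 𝒜) := h0.toField
  haveI : IsNoetherian R C := isNoetherian_of_isNoetherianRing_of_finite R C
  haveI : IsNoetherian (GrLC.deg0 𝒜) (GrLC.comp 𝒜 𝒞 (-d)) :=
    comp_isNoetherian (𝒜 := 𝒜) (ℳ := 𝒞) (-d)
  haveI : FiniteDimensional ↥(GrLC.deg0 𝒜) ↥(GrLC.comp 𝒜 𝒞 (-d)) := Module.IsNoetherian.finite _ _
  haveI := LinearMap.IsPerfPair.of_injective
    (matPair_injective (ℳ := 𝒞) hpos h0 m hmsp e he (-d))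
    (matPair_flip_injective (ℳ := 𝒞) hpos h0 m hmsp e he (-d))
  let ℓ : Module.Dual (GrLC.deg0 𝒜) ↥(GrLC.comp 𝒜 𝒞 (-d)) :=
    { toFun := fun c => ⟨P.β (c : C) h, P.mem _ _⟩
      map_add' := by
        intro c c'
        apply Subtype.ext
        exact P.add_left _ _ _
      map_smul' := by
        intro s c
        apply Subtype.ext
        show P.β ((s : R) • (c : C)) h = (s : R) * P.β (c : C) h
        rw [P.smul_left, P.smul_right _ s.2] }
  obtain ⟨⟨f, hf⟩, hfℓ⟩ := (LinearMap.IsPerfPair.bijective_right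
    (p := matPair (ℳ := 𝒞) hpos h0 m hmsp e he (-d))).2 ℓ
  refine ⟨f, ?_, ?_⟩
  · have hf' : GrLC.IsGrHomDeg 𝒞 𝓔 f (- -d) := hf
    rwa [neg_neg] at hf'
  · intro c hc
    have := congrArg (fun g => ((g ⟨c, hc⟩ : GrLC.deg0 𝒜) : R)) hfℓ
    exact this.symm

include h0 in
/-- a class of degree `d` pairing to zero with the piece of degree `-d` vanishes -/
theorem eq_zero_of_forall_pair (d : ℤ) {h : H} (hh : h ∈ ℋ d)
    (hall : ∀ c ∈ 𝒞 (-d), P.β c h = 0) : h = 0 := by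
  have hh' : h ∈ ℋ (- -d) := by rwa [neg_neg]
  have hinj := P.bil_flip_injective h0 (-d)
  have h1 : (P.bil (-d)).flip ⟨h, hh'⟩ = 0 := by
    apply LinearMap.ext
    intro c
    apply Subtype.ext
    exact hall c c.2
  exact congrArg Subtype.val (hinj (h1.trans (map_zero _).symm))

include hpos h0 hmsp he in
/-- a map of degree `d` whose coordinates on the piece of degree `-d` vanish is zero -/
theorem eq_zero_of_forall_coord (d : ℤ) {f : C →ₗ[R] E'} (hf : GrLC.IsGrHomDeg 𝒞 𝓔 f d)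
    (hall : ∀ c ∈ 𝒞 (-d), hullCoord hpos h0 m hmsp e he (f c) = 0) : f = 0 := by
  have hf' : GrLC.IsGrHomDeg 𝒞 𝓔 f (- -d) := by rwa [neg_neg]
  apply eq_zero_of_isGrHomDeg_of_forall hpos m hmsp e he hf'
  intro x hx
  have hmem : f x ∈ 𝓔 0 := by
    have := hf (-d) x hx
    rwa [neg_add_cancel] at this
  exact eq_zero_of_hullCoord_eq_zero hpos h0 m hmsp e he hmem (hall x hx)

/-- the class of degree `d` representing a homogeneous map of degree `d` -/
noncomputable def thetaFun (d : ℤ) (f : ↥(homGr (𝒜 := 𝒜) 𝒞 𝓔 d)) : H :=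
  Classical.choose (exists_rel_left hpos h0 m hmsp e he P d f.2)

theorem thetaFun_mem (d : ℤ) (f : ↥(homGr (𝒜 := 𝒜) 𝒞 𝓔 d)) :
    thetaFun hpos h0 m hmsp e he P d f ∈ ℋ d :=
  (Classical.choose_spec (exists_rel_left hpos h0 m hmsp e he P d f.2)).1

theorem thetaFun_spec (d : ℤ) (f : ↥(homGr (𝒜 := 𝒜) 𝒞 𝓔 d)) {c : C} (hc : c ∈ 𝒞 (-d)) :
    P.β c (thetaFun hpos h0 m hmsp e he P d f) =
      hullCoord hpos h0 m hmsp e he ((f : C →ₗ[R] E') c) :=
  (Classical.choose_spec (exists_rel_left hpos h0 m hmsp e he P d f.2)).2 c hc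

theorem thetaFun_unique (d : ℤ) (f : ↥(homGr (𝒜 := 𝒜) 𝒞 𝓔 d)) {h : H} (hh : h ∈ ℋ d)
    (hspec : ∀ c ∈ 𝒞 (-d), P.β c h = hullCoord hpos h0 m hmsp e he ((f : C →ₗ[R] E') c)) :
    thetaFun hpos h0 m hmsp e he P d f = h := by
  rw [← sub_eq_zero]
  apply eq_zero_of_forall_pair h0 P d (sub_mem (thetaFun_mem hpos h0 m hmsp e he P d f) hh)
  intro c hc
  rw [P.sub_right, thetaFun_spec hpos h0 m hmsp e he P d f hc, hspec c hc, sub_self]

/-- the additive map on the piece of degree `d` -/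
noncomputable def theta (d : ℤ) : ↥(homGr (𝒜 := 𝒜) 𝒞 𝓔 d) →+ H where
  toFun := thetaFun hpos h0 m hmsp e he P d
  map_zero' := by
    apply thetaFun_unique hpos h0 m hmsp e he P d 0 (zero_mem _)
    intro c _
    rw [P.zero_right]
    show (0 : R) = hullCoord hpos h0 m hmsp e he ((0 : C →ₗ[R] E') c)
    rw [LinearMap.zero_apply, hullCoord_zero]
  map_add' := by
    intro f g
    apply thetaFun_unique hpos h0 m hmsp e he P d (f + g)
      (add_mem (thetaFun_mem hpos h0 m hmsp e he P d f) (thetaFun_mem hpos h0 m hmsp e he P d g))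
    intro c hc
    rw [P.add_right, thetaFun_spec hpos h0 m hmsp e he P d f hc,
      thetaFun_spec hpos h0 m hmsp e he P d g hc]
    show _ = hullCoord hpos h0 m hmsp e he (((f : C →ₗ[R] E') + (g : C →ₗ[R] E')) c)
    rw [LinearMap.add_apply, hullCoord_add]

theorem theta_apply (d : ℤ) (f : ↥(homGr (𝒜 := 𝒜) 𝒞 𝓔 d)) :
    theta hpos h0 m hmsp e he P d f = thetaFun hpos h0 m hmsp e he P d f := rfl

end Can

end Groth.Agent.Helper20.GrInj
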