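import Mathlib
import Groth.Agent.Lib.Helper20.GrCan3

/-!
# From a graded duality pairing to a *canonical module: the theorem (helper20)
-/

open DirectSum

namespace Groth.Agent.Helper20.GrInj

universe u

section Can

variable {R : Type u} [CommRing R] [IsNoetherianRing R] {𝒜 : ℤ → AddSubgroup R} [GradedRing 𝒜]
variable (hpos : ∀ n : ℤ, n < 0 → 𝒜 n = ⊥) (h0 : IsField (GrLC.deg0 𝒜)) (m : HomogeneousIdeal 𝒜)
  (hmsp : m.toIdeal = Ideal.span (⋃ n ∈ Set.Ioi (0 : ℤ), (𝒜 n : Set R)))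
variable {E' : Type u} [AddCommGroup E'] [Module R E'] {𝓔 : ℤ → AddSubgroup E'}
  [DirectSum.Decomposition 𝓔] [SetLike.GradedSMul 𝒜 𝓔]
  (e : (R ⧸ m.toIdeal) →ₗ[R] E') (he : GrLC.IsStarInjHull 𝒜 (GrLC.quotGr 𝒜 m) 𝓔 e)
variable {C : Type u} [AddCommGroup C] [Module R C] {𝒞 : ℤ → AddSubgroup C}
  [DirectSum.Decomposition 𝒞] [SetLike.GradedSMul 𝒜 𝒞] [Module.Finite R C]
variable {H : Type u} [AddCommGroup H] [Module R H] {ℋ : ℤ → AddSubgroup H}
  [DirectSum.Decomposition ℋ] [SetLike.GradedSMul 𝒜 ℋ] (P : GrPairing 𝒜 𝒞 ℋ)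

attribute [local instance] homGrDec

/-- the additive map `*Hom(C, E') → H` -/
noncomputable def psiAdd : (C →ₗ[R] E') →+ H :=
  (DirectSum.toAddMonoid (fun d : ℤ => theta hpos h0 m hmsp e he P d)).comp
    (decomposeAddEquiv (homGr (𝒜 := 𝒜) 𝒞 𝓔)).toAddMonoidHom

theorem psiAdd_of_mem {d : ℤ} {f : C →ₗ[R] E'} (hf : f ∈ homGr (𝒜 := 𝒜) 𝒞 𝓔 d) :
    psiAdd hpos h0 m hmsp e he P f = thetaFun hpos h0 m hmsp e he P d ⟨f, hf⟩ := by
  unfold psiAdd
  rw [AddMonoidHom.comp_apply]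
  have : (decomposeAddEquiv (homGr (𝒜 := 𝒜) 𝒞 𝓔)).toAddMonoidHom f =
      DirectSum.of (fun i => ↥(homGr (𝒜 := 𝒜) 𝒞 𝓔 i)) d ⟨f, hf⟩ :=
    decompose_of_mem (homGr (𝒜 := 𝒜) 𝒞 𝓔) hf
  rw [this, DirectSum.toAddMonoid_of]
  rfl

theorem psiAdd_mem {d : ℤ} {f : C →ₗ[R] E'} (hf : f ∈ homGr (𝒜 := 𝒜) 𝒞 𝓔 d) :
    psiAdd hpos h0 m hmsp e he P f ∈ ℋ d := by
  rw [psiAdd_of_mem hpos h0 m hmsp e he P hf]
  exact thetaFun_mem hpos h0 m hmsp e he P d _

theorem psiAdd_smul (r : R) (f : C →ₗ[R] E') :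
    psiAdd hpos h0 m hmsp e he P (r • f) = r • psiAdd hpos h0 m hmsp e he P f := by
  induction f using DirectSum.Decomposition.inductionOn (homGr (𝒜 := 𝒜) 𝒞 𝓔) with
  | zero => rw [smul_zero, map_zero, smul_zero]
  | @homogeneous d f =>
    induction r using DirectSum.Decomposition.inductionOn 𝒜 with
    | zero => rw [zero_smul, map_zero, zero_smul]
    | @homogeneous i r =>
      have hrf : (r : R) • (f : C →ₗ[R] E') ∈ homGr (𝒜 := 𝒜) 𝒞 𝓔 (i + d) :=
        smul_mem_homGr 𝒞 𝓔 r.2 f.2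
      rw [psiAdd_of_mem hpos h0 m hmsp e he P hrf, psiAdd_of_mem hpos h0 m hmsp e he P f.2]
      apply thetaFun_unique hpos h0 m hmsp e he P (i + d) ⟨_, hrf⟩
      · have := SetLike.GradedSMul.smul_mem (A := 𝒜) (B := ℋ) r.2
          (thetaFun_mem hpos h0 m hmsp e he P d ⟨f, f.2⟩)
        rwa [vadd_eq_add] at this
      · intro c hc
        have hrc : (r : R) • c ∈ 𝒞 (-d) := by
          have := SetLike.GradedSMul.smul_mem (A := 𝒜) (B := 𝒞) r.2 hc
          rw [vadd_eq_add] at this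
          have e1 : i + -(i + d) = -d := by ring
          rwa [e1] at this
        rw [← P.smul_left, thetaFun_spec hpos h0 m hmsp e he P d ⟨f, f.2⟩ hrc]
        show _ = hullCoord hpos h0 m hmsp e he (((r : R) • (f : C →ₗ[R] E')) c)
        rw [LinearMap.smul_apply, map_smul]
    | add r r' hr hr' => rw [add_smul, map_add, hr, hr', add_smul]
  | add f g hf hg => rw [smul_add, map_add, hf, hg, map_add, smul_add]

/-- the linear map `*Hom(C, E') → H` -/
noncomputable def psiLin : (C →ₗ[R] E') →ₗ[R] H where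
  toFun := psiAdd hpos h0 m hmsp e he P
  map_add' := map_add _
  map_smul' := psiAdd_smul hpos h0 m hmsp e he P

theorem psiLin_apply (f : C →ₗ[R] E') :
    psiLin hpos h0 m hmsp e he P f = psiAdd hpos h0 m hmsp e he P f := rfl

/-- `ψ` commutes with the projections onto the pieces -/
theorem decompose_psiAdd (f : C →ₗ[R] E') (d₀ : ℤ) :
    (decompose ℋ (psiAdd hpos h0 m hmsp e he P f) d₀ : H) =
      psiAdd hpos h0 m hmsp e he P (decompose (homGr (𝒜 := 𝒜) 𝒞 𝓔) f d₀ : C →ₗ[R] E') := by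
  induction f using DirectSum.Decomposition.inductionOn (homGr (𝒜 := 𝒜) 𝒞 𝓔) with
  | zero =>
    rw [map_zero, decompose_zero, decompose_zero, DirectSum.zero_apply, DirectSum.zero_apply,
      ZeroMemClass.coe_zero, ZeroMemClass.coe_zero, map_zero]
  | @homogeneous d f =>
    by_cases hd : d = d₀
    · subst hd
      rw [decompose_of_mem_same ℋ (psiAdd_mem hpos h0 m hmsp e he P f.2),
        decompose_of_mem_same (homGr (𝒜 := 𝒜) 𝒞 𝓔) f.2]
    · rw [decompose_of_mem_ne ℋ (psiAdd_mem hpos h0 m hmsp e he P f.2) hd,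
        decompose_of_mem_ne (homGr (𝒜 := 𝒜) 𝒞 𝓔) f.2 hd, map_zero]
  | add f g hf hg =>
    rw [map_add, decompose_add, decompose_add, DirectSum.add_apply, DirectSum.add_apply,
      AddMemClass.coe_add, AddMemClass.coe_add, hf, hg, map_add]

theorem psiAdd_injective : Function.Injective (psiAdd hpos h0 m hmsp e he P) := by
  classical
  rw [injective_iff_map_eq_zero]
  intro f hf
  have hall : ∀ d₀ : ℤ, (decompose (homGr (𝒜 := 𝒜) 𝒞 𝓔) f d₀ : C →ₗ[R] E') = 0 := by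
    intro d₀
    have h1 := decompose_psiAdd hpos h0 m hmsp e he P f d₀
    rw [hf, decompose_zero, DirectSum.zero_apply, ZeroMemClass.coe_zero] at h1
    have hmem := (decompose (homGr (𝒜 := 𝒜) 𝒞 𝓔) f d₀).2
    rw [psiAdd_of_mem hpos h0 m hmsp e he P hmem] at h1
    apply eq_zero_of_forall_coord hpos h0 m hmsp e he d₀ hmem
    intro c hc
    rw [← thetaFun_spec hpos h0 m hmsp e he P d₀ ⟨_, hmem⟩ hc, ← h1, P.zero_right]
  rw [← sum_support_decompose (homGr (𝒜 := 𝒜) 𝒞 𝓔) f]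
  exact Finset.sum_eq_zero (fun d _ => hall d)

theorem psiAdd_surjective : Function.Surjective (psiAdd hpos h0 m hmsp e he P) := by
  intro h
  induction h using DirectSum.Decomposition.inductionOn ℋ with
  | zero => exact ⟨0, map_zero _⟩
  | @homogeneous d h =>
    obtain ⟨f, hf, hfh⟩ := exists_rel_right hpos h0 m hmsp e he P d (h : H)
    refine ⟨f, ?_⟩
    rw [psiAdd_of_mem hpos h0 m hmsp e he P hf]
    exact thetaFun_unique hpos h0 m hmsp e he P d ⟨f, hf⟩ h.2 hfh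
  | add a b ha hb =>
    obtain ⟨f, rfl⟩ := ha
    obtain ⟨g, rfl⟩ := hb
    exact ⟨f + g, map_add _ _ _⟩

include hpos h0 hmsp he P in
/-- **graded Matlis duality, converse form**: a graded duality pairing `C × H → R_0` identifies
`*Hom(C, *E(R/m))` with `H` as graded modules -/
theorem exists_equiv_of_grPairing :
    ∃ φ : (C →ₗ[R] E') ≃ₗ[R] H,
      GrLC.IsGrHom (fun d => (GrLC.homDeg 𝒜 𝒞 𝓔 d).toAddSubgroup) ℋ φ.toLinearMap := by
  refine ⟨LinearEquiv.ofBijective (psiLin hpos h0 m hmsp e he P)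
    ⟨psiAdd_injective hpos h0 m hmsp e he P, psiAdd_surjective hpos h0 m hmsp e he P⟩, ?_⟩
  intro d f hf
  exact psiAdd_mem hpos h0 m hmsp e he P hf

end Can

section Canon

attribute [local instance] HgrDec Hgr_gradedSMul

variable {R : Type u} [CommRing R] [IsNoetherianRing R] {𝒜 : ℤ → AddSubgroup R} [GradedRing 𝒜]
variable (hpos : ∀ n : ℤ, n < 0 → 𝒜 n = ⊥) (h0 : IsField (GrLC.deg0 𝒜)) (m : HomogeneousIdeal 𝒜)
  (hmsp : m.toIdeal = Ideal.span (⋃ n ∈ Set.Ioi (0 : ℤ), (𝒜 n : Set R)))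
variable {E' : Type u} [AddCommGroup E'] [Module R E'] {𝓔 : ℤ → AddSubgroup E'}
  [DirectSum.Decomposition 𝓔] [SetLike.GradedSMul 𝒜 𝓔]
  (e : (R ⧸ m.toIdeal) →ₗ[R] E') (he : GrLC.IsStarInjHull 𝒜 (GrLC.quotGr 𝒜 m) 𝓔 e)
variable {C : Type u} [AddCommGroup C] [Module R C] {𝒞 : ℤ → AddSubgroup C}
  [DirectSum.Decomposition 𝒞] [SetLike.GradedSMul 𝒜 𝒞]

include hpos h0 hmsp he in
/-- **a finitely generated graded module in graded duality with `H^n_m(R)` is a *canonical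
module** -/
theorem isStarCanonical_of_grPairing [Module.Finite R C] (n : ℕ) (I : GrLC.StarInjRes 𝒜 𝒜)
    (P : GrPairing 𝒜 𝒞 (I.Hgr m n)) : GrLC.IsStarCanonical 𝒜 𝒞 𝓔 m n I :=
  ⟨inferInstance, exists_equiv_of_grPairing hpos h0 m hmsp e he P⟩

end Canon

end Groth.Agent.Helper20.GrInj
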