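import Mathlib
import Groth.Agent.Lib.Helper20.GrCan4
import Groth.Agent.Lib.Helper20.GrConv2

/-!
# Graded duality pairings with values in the base field (helper20)

For a graded algebra `R` over a field `k` with `R_0 = k`, a graded duality pairing `C × H → R_0`
is the same thing as a `k`-bilinear form with the corresponding properties.
-/

open DirectSum

namespace Groth.Agent.Helper20.Seg

open Groth.Agent.Helper20.GrInj

universe u

/-- a graded duality pairing with values in the base field -/
structure KPair (k : Type u) [Field k] (R : Type u) [CommRing R] [Algebra k R]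
    {C : Type u} [AddCommGroup C] [Module R C] [Module k C] (𝒞 : ℤ → AddSubgroup C)
    {H : Type u} [AddCommGroup H] [Module R H] [Module k H] (ℋ : ℤ → AddSubgroup H) where
  /-- the bilinear form -/
  b : C →ₗ[k] H →ₗ[k] k
  bal : ∀ (r : R) (c : C) (h : H), b (r • c) h = b c (r • h)
  nondeg : ∀ (j : ℤ) (c : C), c ∈ 𝒞 j → (∀ h ∈ ℋ (-j), b c h = 0) → c = 0
  repr : ∀ (j : ℤ) (ℓ : H →ₗ[k] k), ∃ c ∈ 𝒞 j, ∀ h ∈ ℋ (-j), b c h = ℓ h

section Retr

variable (k : Type u) [Field k] (R : Type u) [CommRing R] [Algebra k R] [Nontrivial R]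

/-- a `k`-linear retraction of the structure map -/
theorem exists_retraction : ∃ κ : R →ₗ[k] k, ∀ a : k, κ (algebraMap k R a) = a := by
  have hinj : Function.Injective (Algebra.linearMap k R) := (algebraMap k R).injective
  obtain ⟨κ, hκ⟩ := LinearMap.exists_leftInverse_of_injective (Algebra.linearMap k R)
    (LinearMap.ker_eq_bot.2 hinj)
  exact ⟨κ, fun a => congrArg (fun f => f a) hκ⟩

/-- a chosen retraction -/
noncomputable def retr : R →ₗ[k] k := Classical.choose (exists_retraction k R)

theorem retr_algebraMap (a : k) : retr k R (algebraMap k R a) = a :=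
  Classical.choose_spec (exists_retraction k R) a

variable {k R}

theorem algebraMap_retr_of_mem {𝒜 : ℤ → Submodule k R} (h0 : 𝒜 0 = Submodule.span k {(1 : R)})
    {x : R} (hx : x ∈ 𝒜 0) : algebraMap k R (retr k R x) = x := by
  rw [h0, Submodule.mem_span_singleton] at hx
  obtain ⟨a, rfl⟩ := hx
  rw [← Algebra.algebraMap_eq_smul_one, retr_algebraMap]

theorem exists_algebraMap_eq_of_mem {𝒜 : ℤ → Submodule k R} (h0 : 𝒜 0 = Submodule.span k {(1 : R)})
    {x : R} (hx : x ∈ 𝒜 0) : ∃ a : k, x = algebraMap k R a :=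
  ⟨retr k R x, (algebraMap_retr_of_mem h0 hx).symm⟩

end Retr

section ToK

variable {k : Type u} [Field k] {R : Type u} [CommRing R] [Algebra k R] [Nontrivial R]
  {𝒜 : ℤ → Submodule k R} [GradedAlgebra 𝒜] (h0 : 𝒜 0 = Submodule.span k {(1 : R)})
  {C : Type u} [AddCommGroup C] [Module R C] [Module k C] [IsScalarTower k R C]
  {𝒞 : ℤ → AddSubgroup C}
  {H : Type u} [AddCommGroup H] [Module R H] [Module k H] [IsScalarTower k R H]
  {ℋ : ℤ → AddSubgroup H}

/-- a pairing with values in `R_0 = k` gives a `k`-valued pairing -/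
noncomputable def KPair.ofGrPairing (P : GrPairing (toAdd 𝒜) 𝒞 ℋ) : KPair k R 𝒞 ℋ where
  b := LinearMap.mk₂ k (fun c h => retr k R (P.β c h))
    (by
      intro c c' h
      rw [P.add_left, map_add])
    (by
      intro a c h
      rw [← algebraMap_smul R a c, P.smul_left,
        P.smul_right _ (SetLike.algebraMap_mem_graded 𝒜 a), ← Algebra.smul_def, map_smul])
    (by
      intro c h h'
      rw [P.add_right, map_add])
    (by
      intro a c h
      rw [← algebraMap_smul R a h,
        P.smul_right _ (SetLike.algebraMap_mem_graded 𝒜 a), ← Algebra.smul_def, map_smul])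
  bal := by
    intro r c h
    show retr k R (P.β (r • c) h) = retr k R (P.β c (r • h))
    rw [P.smul_left]
  nondeg := by
    intro j c hc hall
    apply P.nondeg j c hc
    intro h hh
    have h1 : retr k R (P.β c h) = 0 := hall h hh
    rw [← algebraMap_retr_of_mem h0 (P.mem c h), h1, map_zero]
  repr := by
    intro j ℓ
    obtain ⟨c, hc, hcℓ⟩ := P.repr j (fun h => algebraMap k R (ℓ h))
      (fun h _ => SetLike.algebraMap_mem_graded 𝒜 _)
      (fun h _ h' _ => by rw [map_add, map_add])
      (by
        intro s hs h _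
        obtain ⟨a, rfl⟩ := exists_algebraMap_eq_of_mem h0 hs
        rw [algebraMap_smul, map_smul, smul_eq_mul, map_mul])
    refine ⟨c, hc, fun h hh => ?_⟩
    show retr k R (P.β c h) = ℓ h
    rw [hcℓ h hh, retr_algebraMap]

end ToK

section OfK

variable {k : Type u} [Field k] {T : Type u} [CommRing T] [Algebra k T] [Nontrivial T]
  {𝒯 : ℤ → Submodule k T} [GradedAlgebra 𝒯] (h0 : 𝒯 0 = Submodule.span k {(1 : T)})
  {P : Type u} [AddCommGroup P] [Module T P] [Module k P] [IsScalarTower k T P]
  {𝒬 : ℤ → AddSubgroup P}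
  {W : Type u} [AddCommGroup W] [Module T W] [Module k W] [IsScalarTower k T W]
  {𝒲 : ℤ → AddSubgroup W}

/-- a `k`-valued pairing gives a pairing with values in `T_0 = k` -/
noncomputable def KPair.toGrPairing (B : KPair k T 𝒬 𝒲)
    (hsm : ∀ (a : k) (n : ℤ) (w : W), w ∈ 𝒲 n → a • w ∈ 𝒲 n) :
    GrPairing (toAdd 𝒯) 𝒬 𝒲 where
  β := fun p w => algebraMap k T (B.b p w)
  mem := fun p w => SetLike.algebraMap_mem_graded 𝒯 _
  add_left := fun p p' w => by rw [map_add, LinearMap.add_apply, map_add]
  add_right := fun p w w' => by rw [map_add, map_add]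
  smul_left := fun t p w => by rw [B.bal]
  smul_right := by
    intro s hs p w
    obtain ⟨a, rfl⟩ := exists_algebraMap_eq_of_mem h0 hs
    rw [algebraMap_smul, map_smul, smul_eq_mul, map_mul]
  nondeg := by
    intro j p hp hall
    apply B.nondeg j p hp
    intro w hw
    have := hall w hw
    exact (algebraMap k T).injective (this.trans (map_zero _).symm)
  repr := by
    intro j ℓ hmem hadd hsmul
    let V : Submodule k W :=
      { carrier := 𝒲 (-j)
        add_mem' := add_mem
        zero_mem' := zero_mem _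
        smul_mem' := fun a w hw => hsm a (-j) w hw }
    let ℓV : ↥V →ₗ[k] k :=
      { toFun := fun v => retr k T (ℓ (v : W))
        map_add' := by
          intro v v'
          show retr k T (ℓ ((v : W) + (v' : W))) = _
          rw [hadd _ v.2 _ v'.2, map_add]
        map_smul' := by
          intro a v
          show retr k T (ℓ (a • (v : W))) = _
          rw [← algebraMap_smul T a (v : W),
            hsmul _ (SetLike.algebraMap_mem_graded 𝒯 a) _ v.2, ← Algebra.smul_def, map_smul]
          rfl }
    obtain ⟨g, hg⟩ := LinearMap.exists_extend ℓV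
    obtain ⟨p, hp, hpg⟩ := B.repr j g
    refine ⟨p, hp, fun w hw => ?_⟩
    show algebraMap k T (B.b p w) = ℓ w
    have h1 : g w = retr k T (ℓ w) := congrArg (fun f => f ⟨w, hw⟩) hg
    rw [hpg w hw, h1, algebraMap_retr_of_mem h0 (hmem w hw)]

end OfK

end Groth.Agent.Helper20.Seg
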