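import Mathlib
import Groth.Prelude

/-!
# Tensor products over a field: coordinates relative to a basis of the right factor (helper20)

For vector spaces `X`, `N` over a field and a subspace `A ≤ X`, `tl A` is the image of `A ⊗ N`
in `X ⊗ N`.  With the coordinates of a tensor relative to a basis of `N`, membership in `tl A` is
tested coordinatewise, whence kernels, intersections and images of such subspaces.
-/

set_option autoImplicit false

open TensorProduct

namespace Groth.Agent.Helper20.KS

universe u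

section Coord

variable {k : Type u} [Field k] {X X' N : Type u} [AddCommGroup X] [Module k X]
  [AddCommGroup X'] [Module k X'] [AddCommGroup N] [Module k N]

variable (N) in
/-- the image of `A ⊗ N` in `X ⊗ N` -/
def tl (A : Submodule k X) : Submodule k (X ⊗[k] N) := LinearMap.range (A.subtype.rTensor N)

theorem tmul_mem_tl {A : Submodule k X} {a : X} (ha : a ∈ A) (n : N) : a ⊗ₜ[k] n ∈ tl N A :=
  ⟨(⟨a, ha⟩ : A) ⊗ₜ[k] n, rfl⟩

theorem tl_mono {A A' : Submodule k X} (h : A ≤ A') : tl N A ≤ tl N A' := by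
  rintro _ ⟨u, rfl⟩
  induction u using TensorProduct.induction_on with
  | zero => rw [map_zero]; exact zero_mem _
  | tmul a n => exact tmul_mem_tl (h a.2) n
  | add x y hx hy => rw [map_add]; exact add_mem hx hy

variable {κ : Type u} (𝒞 : Module.Basis κ k N)

open Classical in
/-- the coordinates of a tensor relative to a basis of the right factor -/
noncomputable def crd : X ⊗[k] N →ₗ[k] κ →₀ X :=
  (TensorProduct.equivFinsuppOfBasisRight 𝒞).toLinearMap

theorem crd_tmul (x : X) (n : N) (i : κ) : crd 𝒞 (x ⊗ₜ[k] n) i = 𝒞.repr n i • x := by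
  classical
  exact TensorProduct.equivFinsuppOfBasisRight_apply_tmul_apply 𝒞 x n i

theorem crd_injective : Function.Injective (crd (X := X) 𝒞) := by
  classical
  exact (TensorProduct.equivFinsuppOfBasisRight 𝒞).injective

theorem eq_sum_crd (u : X ⊗[k] N) : u = (crd 𝒞 u).sum fun i m => m ⊗ₜ[k] 𝒞 i := by
  classical
  have := (TensorProduct.equivFinsuppOfBasisRight 𝒞).symm_apply_apply u
  rw [TensorProduct.equivFinsuppOfBasisRight_symm_apply] at this
  exact this.symm

theorem crd_rTensor (f : X →ₗ[k] X') (u : X ⊗[k] N) (i : κ) :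
    crd 𝒞 (f.rTensor N u) i = f (crd 𝒞 u i) := by
  induction u using TensorProduct.induction_on with
  | zero => simp
  | tmul x n => rw [LinearMap.rTensor_tmul, crd_tmul, crd_tmul, map_smul]
  | add x y hx hy => rw [map_add, map_add, Finsupp.add_apply, hx, hy, map_add, Finsupp.add_apply,
      map_add]

theorem mem_tl_iff (A : Submodule k X) (u : X ⊗[k] N) : u ∈ tl N A ↔ ∀ i, crd 𝒞 u i ∈ A := by
  constructor
  · rintro ⟨u', rfl⟩ i
    rw [crd_rTensor]
    exact (crd 𝒞 u' i).2
  · intro h
    rw [eq_sum_crd 𝒞 u]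
    apply Submodule.sum_mem
    intro i _
    exact tmul_mem_tl (h i) _

theorem ker_rTensor (f : X →ₗ[k] X') : LinearMap.ker (f.rTensor N) = tl N (LinearMap.ker f) := by
  obtain ⟨⟨κ, 𝒞⟩⟩ := Module.Free.exists_basis (R := k) (M := N)
  ext u
  rw [LinearMap.mem_ker, mem_tl_iff 𝒞]
  constructor
  · intro h i
    rw [LinearMap.mem_ker, ← crd_rTensor, h, map_zero, Finsupp.zero_apply]
  · intro h
    apply crd_injective 𝒞
    ext i
    rw [crd_rTensor, map_zero, Finsupp.zero_apply]
    exact h i

theorem tl_inf (A A' : Submodule k X) : tl N A ⊓ tl N A' = tl N (A ⊓ A') := by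
  obtain ⟨⟨κ, 𝒞⟩⟩ := Module.Free.exists_basis (R := k) (M := N)
  ext u
  rw [Submodule.mem_inf, mem_tl_iff 𝒞, mem_tl_iff 𝒞, mem_tl_iff 𝒞]
  constructor
  · rintro ⟨h1, h2⟩ i
    exact ⟨h1 i, h2 i⟩
  · intro h
    exact ⟨fun i => (h i).1, fun i => (h i).2⟩

theorem map_tl (f : X →ₗ[k] X') (A : Submodule k X) :
    (tl N A).map (f.rTensor N) = tl N (A.map f) := by
  apply le_antisymm
  · rintro _ ⟨_, ⟨u, rfl⟩, rfl⟩
    induction u using TensorProduct.induction_on with
    | zero => simp
    | tmul a n =>
      rw [LinearMap.rTensor_tmul, LinearMap.rTensor_tmul]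
      exact tmul_mem_tl (A := A.map f) (Submodule.mem_map_of_mem a.2) n
    | add x y hx hy =>
      rw [map_add, map_add]
      exact add_mem hx hy
  · rintro _ ⟨u, rfl⟩
    induction u using TensorProduct.induction_on with
    | zero => rw [map_zero]; exact zero_mem _
    | tmul a n =>
      obtain ⟨a0, ha0, ha⟩ := a.2
      refine ⟨a0 ⊗ₜ[k] n, tmul_mem_tl ha0 n, ?_⟩
      rw [LinearMap.rTensor_tmul, LinearMap.rTensor_tmul, ha]
      rfl
    | add x y hx hy =>
      rw [map_add]
      exact add_mem hx hy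

theorem tl_top : tl N (⊤ : Submodule k X) = ⊤ := by
  rw [eq_top_iff]
  have key : ∀ u : X ⊗[k] N, u ∈ tl N (⊤ : Submodule k X) := by
    intro u
    induction u using TensorProduct.induction_on with
    | zero => exact zero_mem _
    | tmul a n => exact tmul_mem_tl (A := (⊤ : Submodule k X)) Submodule.mem_top n
    | add x y hx hy => exact add_mem hx hy
  intro u _
  exact key u

/-- exactness of `- ⊗ N` -/
theorem exists_rTensor_eq {f : X →ₗ[k] X'} {X'' : Type u} [AddCommGroup X''] [Module k X'']
    {f' : X' →ₗ[k] X''} (hex : LinearMap.ker f' = LinearMap.range f) (u : X' ⊗[k] N)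
    (hu : f'.rTensor N u = 0) : ∃ w : X ⊗[k] N, f.rTensor N w = u := by
  have h1 : u ∈ tl N (LinearMap.ker f') := by
    rw [← ker_rTensor]
    exact hu
  rw [hex, ← Submodule.map_top, ← map_tl, tl_top] at h1
  obtain ⟨w, -, hw⟩ := h1
  exact ⟨w, hw⟩

end Coord

end Groth.Agent.Helper20.KS
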