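import Mathlib
import Groth.Prelude.Def_GrSeg
import Groth.Agent.Lib.Helper20.GrConv2

/-!
# Segre products of graded modules as graded modules over the Segre product ring (helper20)
-/

open DirectSum TensorProduct

namespace Groth.Agent.Helper20.Seg

universe u

section Act

variable {k : Type u} [CommRing k] {R S : Type u} [CommRing R] [CommRing S] [Algebra k R]
  [Algebra k S]
  {M N : Type u} [AddCommGroup M] [Module R M] [Module k M] [IsScalarTower k R M]
  [AddCommGroup N] [Module S N] [Module k N] [IsScalarTower k S N]

theorem act_one (z : M ⊗[k] N) : GrSeg.act k R S M N 1 z = z := by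
  rw [Algebra.TensorProduct.one_def]
  induction z using TensorProduct.induction_on with
  | zero => simp
  | tmul m n => rw [GrSeg.act_tmul, one_smul, one_smul]
  | add a b ha hb => rw [map_add, ha, hb]

theorem act_mul (x y : R ⊗[k] S) (z : M ⊗[k] N) :
    GrSeg.act k R S M N (x * y) z = GrSeg.act k R S M N x (GrSeg.act k R S M N y z) := by
  induction x using TensorProduct.induction_on with
  | zero => simp
  | tmul a b =>
    induction y using TensorProduct.induction_on with
    | zero => simp
    | tmul a' b' =>
      induction z using TensorProduct.induction_on with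
      | zero => simp
      | tmul m n =>
        rw [Algebra.TensorProduct.tmul_mul_tmul, GrSeg.act_tmul, GrSeg.act_tmul, GrSeg.act_tmul,
          mul_smul, mul_smul]
      | add z w hz hw => simp only [map_add, hz, hw]
    | add y y' hy hy' =>
      rw [mul_add, map_add, LinearMap.add_apply, hy, hy', map_add, LinearMap.add_apply, map_add]
  | add x x' hx hx' =>
    rw [add_mul, map_add, LinearMap.add_apply, hx, hx', map_add, LinearMap.add_apply]

variable {M' N' : Type u} [AddCommGroup M'] [Module R M'] [Module k M'] [IsScalarTower k R M']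
  [AddCommGroup N'] [Module S N'] [Module k N'] [IsScalarTower k S N']

/-- the tensor product of an `R`-linear and an `S`-linear map -/
noncomputable def tmap (f : M →ₗ[R] M') (g : N →ₗ[S] N') : M ⊗[k] N →ₗ[k] M' ⊗[k] N' :=
  TensorProduct.map (f.restrictScalars k) (g.restrictScalars k)

theorem tmap_tmul (f : M →ₗ[R] M') (g : N →ₗ[S] N') (m : M) (n : N) :
    tmap (k := k) f g (m ⊗ₜ[k] n) = f m ⊗ₜ[k] g n := rfl

theorem act_tmap (f : M →ₗ[R] M') (g : N →ₗ[S] N') (x : R ⊗[k] S) (z : M ⊗[k] N) :
    GrSeg.act k R S M' N' x (tmap f g z) = tmap f g (GrSeg.act k R S M N x z) := by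
  induction x using TensorProduct.induction_on with
  | zero => simp
  | tmul a b =>
    induction z using TensorProduct.induction_on with
    | zero => simp
    | tmul m n =>
      rw [tmap_tmul, GrSeg.act_tmul, GrSeg.act_tmul, tmap_tmul, map_smul, map_smul]
    | add z w hz hw => simp only [map_add, hz, hw]
  | add x x' hx hx' =>
    rw [map_add, LinearMap.add_apply, hx, hx', map_add, LinearMap.add_apply, map_add]

end Act

section Amb

variable {k : Type u} [CommRing k] {R S T : Type u} [CommRing R] [CommRing S] [CommRing T]
  [Algebra k R] [Algebra k S] [Algebra k T]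

/-- `M ⊗[k] N` as a module over `T` through `ψ : T → R ⊗[k] S` -/
def Amb (_ψ : T →ₐ[k] R ⊗[k] S) (M N : Type u) [AddCommGroup M] [Module R M] [Module k M]
    [IsScalarTower k R M] [AddCommGroup N] [Module S N] [Module k N] [IsScalarTower k S N] :
    Type u := M ⊗[k] N

variable (ψ : T →ₐ[k] R ⊗[k] S)
  {M N : Type u} [AddCommGroup M] [Module R M] [Module k M] [IsScalarTower k R M]
  [AddCommGroup N] [Module S N] [Module k N] [IsScalarTower k S N]

noncomputable instance : AddCommGroup (Amb ψ M N) := inferInstanceAs (AddCommGroup (M ⊗[k] N))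

noncomputable instance : Module k (Amb ψ M N) := inferInstanceAs (Module k (M ⊗[k] N))

noncomputable instance : Module T (Amb ψ M N) where
  smul t z := GrSeg.act k R S M N (ψ t) z
  one_smul z := by
    show GrSeg.act k R S M N (ψ 1) z = z
    rw [map_one, act_one]
  mul_smul a b z := by
    show GrSeg.act k R S M N (ψ (a * b)) z = GrSeg.act k R S M N (ψ a) (GrSeg.act k R S M N (ψ b) z)
    rw [map_mul, act_mul]
  smul_zero t := (GrSeg.act k R S M N (ψ t)).map_zero
  smul_add t z w := (GrSeg.act k R S M N (ψ t)).map_add z w
  add_smul a b z := by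
    have h : GrSeg.act k R S M N (ψ (a + b)) = GrSeg.act k R S M N (ψ a) + GrSeg.act k R S M N (ψ b) := by
      rw [map_add, map_add]
    exact congrArg (fun f => f z) h
  zero_smul z := by
    have h : GrSeg.act k R S M N (ψ 0) = 0 := by rw [map_zero, map_zero]
    exact congrArg (fun f => f z) h

theorem amb_smul_def (t : T) (z : Amb ψ M N) :
    t • z = (GrSeg.act k R S M N (ψ t) z : M ⊗[k] N) := rfl

instance : IsScalarTower k T (Amb ψ M N) where
  smul_assoc c t z := by
    have h : GrSeg.act k R S M N (ψ (c • t)) = c • GrSeg.act k R S M N (ψ t) := by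
      rw [map_smul, map_smul]
    exact congrArg (fun f => f z) h

end Amb

end Groth.Agent.Helper20.Seg
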