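import Mathlib
import Groth.Agent.Lib.Helper20.GrSeg1
import Groth.Agent.Lib.Helper20.GrInj3

/-!
# The Segre product `W # V` as a graded `T`-module (helper20)
-/

open DirectSum TensorProduct

namespace Groth.Agent.Helper20.Seg

open Groth.Agent.Helper20.GrInj

universe u

section Proj

variable {k : Type u} [Field k] {R : Type u} [CommRing R] [Algebra k R]
  (𝒜 : ℤ → Submodule k R) [GradedAlgebra 𝒜]
  {W : Type u} [AddCommGroup W] [Module R W] [Module k W] [IsScalarTower k R W]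
  (𝒲 : ℤ → AddSubgroup W) [DirectSum.Decomposition 𝒲] [SetLike.GradedSMul 𝒜 𝒲]

include 𝒜 in
theorem smul_mem_piece (c : k) {n : ℤ} {w : W} (hw : w ∈ 𝒲 n) : c • w ∈ 𝒲 n := by
  rw [← algebraMap_smul R c w]
  have h := SetLike.GradedSMul.smul_mem (A := 𝒜) (B := 𝒲) (SetLike.algebraMap_mem_graded 𝒜 c) hw
  rwa [vadd_eq_add, zero_add] at h

/-- the pieces as `k`-subspaces -/
def pieceK (n : ℤ) : Submodule k W where
  carrier := 𝒲 n
  add_mem' := add_mem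
  zero_mem' := zero_mem _
  smul_mem' c _ hw := smul_mem_piece 𝒜 𝒲 c hw

/-- the `k`-linear projection onto the piece of degree `n` -/
noncomputable def proj (n : ℤ) : W →ₗ[k] W where
  toFun w := (decompose 𝒲 w n : W)
  map_add' a b := by
    rw [decompose_add, DirectSum.add_apply, AddSubgroup.coe_add]
  map_smul' c w := by
    rw [RingHom.id_apply, ← algebraMap_smul R c w]
    have h := decompose_smul_of_mem 𝒜 𝒲 (SetLike.algebraMap_mem_graded 𝒜 c) w n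
    rw [zero_add] at h
    rw [h, algebraMap_smul]

theorem proj_apply (n : ℤ) (w : W) : proj 𝒜 𝒲 n w = (decompose 𝒲 w n : W) := rfl

theorem proj_same {n : ℤ} {w : W} (hw : w ∈ 𝒲 n) : proj 𝒜 𝒲 n w = w := by
  rw [proj_apply, decompose_of_mem_same 𝒲 hw]

theorem proj_ne {n m : ℤ} (h : m ≠ n) {w : W} (hw : w ∈ 𝒲 m) : proj 𝒜 𝒲 n w = 0 := by
  rw [proj_apply, decompose_of_mem_ne 𝒲 hw h]

theorem proj_mem (n : ℤ) (w : W) : proj 𝒜 𝒲 n w ∈ 𝒲 n := (decompose 𝒲 w n).2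

end Proj

section Seg

variable {k : Type u} [Field k] {R S T : Type u} [CommRing R] [CommRing S] [CommRing T]
  [Algebra k R] [Algebra k S] [Algebra k T]
  (𝒜 : ℤ → Submodule k R) [GradedAlgebra 𝒜] (ℬ : ℤ → Submodule k S) [GradedAlgebra ℬ]
  (𝒯 : ℤ → Submodule k T) [GradedAlgebra 𝒯] (ψ : T →ₐ[k] R ⊗[k] S)
  (hT : GrSeg.IsSegreRing 𝒜 ℬ 𝒯 ψ)
  {W : Type u} [AddCommGroup W] [Module R W] [Module k W] [IsScalarTower k R W]
  (𝒲 : ℤ → AddSubgroup W) [DirectSum.Decomposition 𝒲] [SetLike.GradedSMul 𝒜 𝒲]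
  {V : Type u} [AddCommGroup V] [Module S V] [Module k V] [IsScalarTower k S V]
  (𝒱 : ℤ → AddSubgroup V) [DirectSum.Decomposition 𝒱] [SetLike.GradedSMul ℬ 𝒱]

theorem tmul_mem_segrePiece {n : ℤ} {w : W} {v : V} (hw : w ∈ 𝒲 n) (hv : v ∈ 𝒱 n) :
    w ⊗ₜ[k] v ∈ GrSeg.segrePiece k 𝒲 𝒱 n :=
  Submodule.subset_span ⟨w, hw, v, hv, rfl⟩

theorem act_mem_segrePiece {e n : ℤ} {x : R ⊗[k] S} (hx : x ∈ GrSeg.segrePiece k 𝒜 ℬ e)
    {z : W ⊗[k] V} (hz : z ∈ GrSeg.segrePiece k 𝒲 𝒱 n) :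
    GrSeg.act k R S W V x z ∈ GrSeg.segrePiece k 𝒲 𝒱 (e + n) := by
  induction hx using Submodule.span_induction with
  | mem x hx =>
    obtain ⟨a, ha, b, hb, rfl⟩ := hx
    induction hz using Submodule.span_induction with
    | mem z hz =>
      obtain ⟨w, hw, v, hv, rfl⟩ := hz
      rw [GrSeg.act_tmul]
      apply tmul_mem_segrePiece
      · have := SetLike.GradedSMul.smul_mem (A := 𝒜) (B := 𝒲) ha hw
        rwa [vadd_eq_add] at this
      · have := SetLike.GradedSMul.smul_mem (A := ℬ) (B := 𝒱) hb hv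
        rwa [vadd_eq_add] at this
    | zero => rw [map_zero]; exact zero_mem _
    | add z w _ _ hz hw => rw [map_add]; exact add_mem hz hw
    | smul c z _ hz => rw [map_smul]; exact Submodule.smul_mem _ c hz
  | zero => rw [map_zero, LinearMap.zero_apply]; exact zero_mem _
  | add x y _ _ hx hy => rw [map_add, LinearMap.add_apply]; exact add_mem hx hy
  | smul c x _ hx => rw [map_smul, LinearMap.smul_apply]; exact Submodule.smul_mem _ c hx

include hT in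
theorem psi_mem {e : ℤ} {t : T} (ht : t ∈ 𝒯 e) : ψ t ∈ GrSeg.segrePiece k 𝒜 ℬ e := by
  rw [← hT.2 e]
  exact ⟨t, ht, rfl⟩

/-- the sum of all diagonal pieces -/
def segK : Submodule k (W ⊗[k] V) := ⨆ n, GrSeg.segrePiece k 𝒲 𝒱 n

include hT in
theorem act_psi_mem_segK (t : T) {z : W ⊗[k] V} (hz : z ∈ segK 𝒲 𝒱) :
    GrSeg.act k R S W V (ψ t) z ∈ segK 𝒲 𝒱 := by
  classical
  induction t using DirectSum.Decomposition.inductionOn 𝒯 with
  | zero => rw [map_zero, map_zero, LinearMap.zero_apply]; exact zero_mem _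
  | @homogeneous e t =>
    unfold segK at hz
    induction hz using Submodule.iSup_induction' with
    | mem n z hz =>
      exact Submodule.mem_iSup_of_mem (e + n)
        (act_mem_segrePiece 𝒜 ℬ 𝒲 𝒱 (psi_mem 𝒜 ℬ 𝒯 ψ hT t.2) hz)
    | zero => rw [map_zero]; exact zero_mem _
    | add z w _ _ hz hw => rw [map_add]; exact add_mem hz hw
  | add t t' ht ht' =>
    rw [map_add, map_add, LinearMap.add_apply]
    exact add_mem ht ht'

/-- the Segre product as a `T`-submodule of the ambient tensor product -/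
def segSub : Submodule T (Amb ψ W V) where
  carrier := {z | (z : W ⊗[k] V) ∈ segK 𝒲 𝒱}
  add_mem' := fun {_ _} ha hb => (segK 𝒲 𝒱).add_mem ha hb
  zero_mem' := (segK 𝒲 𝒱).zero_mem
  smul_mem' := fun t _ hz => act_psi_mem_segK 𝒜 ℬ 𝒯 ψ hT 𝒲 𝒱 t hz

/-- the carrier of the Segre product -/
abbrev SegC : Type u := ↥(segSub 𝒜 ℬ 𝒯 ψ hT 𝒲 𝒱)

/-- the underlying tensor -/
def valHom : SegC 𝒜 ℬ 𝒯 ψ hT 𝒲 𝒱 →+ W ⊗[k] V where
  toFun z := z.1
  map_zero' := rfl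
  map_add' _ _ := rfl

theorem valHom_injective : Function.Injective (valHom 𝒜 ℬ 𝒯 ψ hT 𝒲 𝒱) :=
  fun _ _ h => Subtype.ext h

/-- the pieces of the Segre product -/
def segGr (n : ℤ) : AddSubgroup (SegC 𝒜 ℬ 𝒯 ψ hT 𝒲 𝒱) where
  carrier := {z | (z.1 : W ⊗[k] V) ∈ GrSeg.segrePiece k 𝒲 𝒱 n}
  add_mem' := fun {_ _} ha hb => (GrSeg.segrePiece k 𝒲 𝒱 n).add_mem ha hb
  zero_mem' := (GrSeg.segrePiece k 𝒲 𝒱 n).zero_mem
  neg_mem' := fun {_} ha => (GrSeg.segrePiece k 𝒲 𝒱 n).neg_mem ha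

/-- the diagonal projection -/
noncomputable def dproj (n : ℤ) : W ⊗[k] V →ₗ[k] W ⊗[k] V :=
  TensorProduct.map (proj 𝒜 𝒲 n) (proj ℬ 𝒱 n)

theorem dproj_same {n : ℤ} {z : W ⊗[k] V} (hz : z ∈ GrSeg.segrePiece k 𝒲 𝒱 n) :
    dproj 𝒜 ℬ 𝒲 𝒱 n z = z := by
  induction hz using Submodule.span_induction with
  | mem z hz =>
    obtain ⟨w, hw, v, hv, rfl⟩ := hz
    unfold dproj
    rw [TensorProduct.map_tmul, proj_same 𝒜 𝒲 hw, proj_same ℬ 𝒱 hv]
  | zero => rw [map_zero]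
  | add z w _ _ hz hw => rw [map_add, hz, hw]
  | smul c z _ hz => rw [map_smul, hz]

theorem dproj_ne {n m : ℤ} (h : m ≠ n) {z : W ⊗[k] V} (hz : z ∈ GrSeg.segrePiece k 𝒲 𝒱 m) :
    dproj 𝒜 ℬ 𝒲 𝒱 n z = 0 := by
  induction hz using Submodule.span_induction with
  | mem z hz =>
    obtain ⟨w, hw, v, hv, rfl⟩ := hz
    unfold dproj
    rw [TensorProduct.map_tmul, proj_ne 𝒜 𝒲 h hw, TensorProduct.zero_tmul]
  | zero => rw [map_zero]
  | add z w _ _ hz hw => rw [map_add, hz, hw, add_zero]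
  | smul c z _ hz => rw [map_smul, hz, smul_zero]

theorem segGr_isInternal : DirectSum.IsInternal (segGr 𝒜 ℬ 𝒯 ψ hT 𝒲 𝒱) := by
  classical
  apply isInternal_of
  · intro z
    let z0 : W ⊗[k] V := z.1
    have hz : z0 ∈ segK 𝒲 𝒱 := z.2
    unfold segK at hz
    obtain ⟨f, hf⟩ := (Submodule.mem_iSup_iff_exists_dfinsupp'
      (fun n => GrSeg.segrePiece k 𝒲 𝒱 n) z0).1 hz
    have hmem : ∀ i, ((f i).1 : W ⊗[k] V) ∈ segK 𝒲 𝒱 := fun i =>
      Submodule.mem_iSup_of_mem i (f i).2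
    refine ⟨f.support, fun i => ⟨((f i).1 : W ⊗[k] V), hmem i⟩, fun i => (f i).2, ?_⟩
    apply valHom_injective
    rw [map_sum]
    show z0 = _
    rw [← hf]
    rfl
  · intro s c hc hsum i hi
    have h1 : dproj 𝒜 ℬ 𝒲 𝒱 i (valHom 𝒜 ℬ 𝒯 ψ hT 𝒲 𝒱 (∑ j ∈ s, c j)) = 0 := by
      rw [hsum, map_zero, map_zero]
    rw [map_sum, map_sum, Finset.sum_eq_single i] at h1
    · apply valHom_injective
      rw [map_zero, ← h1]
      exact (dproj_same 𝒜 ℬ 𝒲 𝒱 (hc i)).symm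
    · intro j _ hji
      exact dproj_ne 𝒜 ℬ 𝒲 𝒱 hji (hc j)
    · intro hn
      exact absurd hi hn

end Seg

end Groth.Agent.Helper20.Seg
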