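import Mathlib
import Groth.Prelude
import Groth.Agent.Lib.Helper20.GrSeg2
import Groth.Agent.Lib.Helper27.SegreNoeth

/-!
# The Segre product of finitely generated graded modules is finitely generated (helper20)
-/

open DirectSum TensorProduct

namespace Groth.Agent.Helper20.SegFin

open Groth.Agent.Helper20.Seg

universe u

section AmbW

variable (k : Type u) [CommRing k] (R S : Type u) [CommRing R] [CommRing S] [Algebra k R]
  [Algebra k S]
  (M N : Type u) [AddCommGroup M] [Module R M] [Module k M] [IsScalarTower k R M]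
  [AddCommGroup N] [Module S N] [Module k N] [IsScalarTower k S N]

/-- `M ⊗[k] N` as a module over `R ⊗[k] S` -/
@[nolint unusedArguments]
def AmbW (k : Type u) [CommRing k] (R S : Type u) [CommRing R] [CommRing S] [Algebra k R]
    [Algebra k S]
    (M N : Type u) [AddCommGroup M] [Module R M] [Module k M] [IsScalarTower k R M]
    [AddCommGroup N] [Module S N] [Module k N] [IsScalarTower k S N] : Type u := M ⊗[k] N

noncomputable instance : AddCommGroup (AmbW k R S M N) := inferInstanceAs (AddCommGroup (M ⊗[k] N))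

noncomputable instance : Module (R ⊗[k] S) (AmbW k R S M N) where
  smul x z := GrSeg.act k R S M N x z
  one_smul z := act_one z
  mul_smul a b z := act_mul a b z
  smul_zero x := (GrSeg.act k R S M N x).map_zero
  smul_add x z w := (GrSeg.act k R S M N x).map_add z w
  add_smul a b z := by
    have h : GrSeg.act k R S M N (a + b) = GrSeg.act k R S M N a + GrSeg.act k R S M N b :=
      map_add _ _ _
    exact congrArg (fun f => f z) h
  zero_smul z := by
    have h : GrSeg.act k R S M N 0 = 0 := map_zero _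
    exact congrArg (fun f => f z) h

variable {k R S M N} in
/-- the identity, into the synonym -/
def AmbW.mk (z : M ⊗[k] N) : AmbW k R S M N := z

theorem AmbW.mk_add (a b : M ⊗[k] N) :
    (AmbW.mk (a + b) : AmbW k R S M N) = AmbW.mk a + AmbW.mk b := rfl

theorem AmbW.mk_zero : (AmbW.mk (0 : M ⊗[k] N) : AmbW k R S M N) = 0 := rfl

theorem AmbW.smul_mk (x : R ⊗[k] S) (z : M ⊗[k] N) :
    x • (AmbW.mk z : AmbW k R S M N) = AmbW.mk (GrSeg.act k R S M N x z) := rfl

theorem AmbW.mk_sum {α : Type*} (s : Finset α) (f : α → M ⊗[k] N) :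
    (AmbW.mk (∑ i ∈ s, f i) : AmbW k R S M N) = ∑ i ∈ s, AmbW.mk (f i) := rfl

/-- `M ⊗ N` is finitely generated over `R ⊗ S` -/
theorem ambW_finite [Module.Finite R M] [Module.Finite S N] :
    Module.Finite (R ⊗[k] S) (AmbW k R S M N) := by
  classical
  obtain ⟨sM, hsM⟩ := (Module.finite_def (R := R) (M := M)).1 inferInstance
  obtain ⟨sN, hsN⟩ := (Module.finite_def (R := S) (M := N)).1 inferInstance
  let G : Set (AmbW k R S M N) := {z | ∃ m ∈ sM, ∃ n ∈ sN, z = AmbW.mk (m ⊗ₜ[k] n)}
  have hGfin : G.Finite := by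
    have : G ⊆ ((sM ×ˢ sN).image (fun p : M × N => (AmbW.mk (p.1 ⊗ₜ[k] p.2) : AmbW k R S M N)) :
        Finset (AmbW k R S M N)) := by
      rintro z ⟨m, hm, n, hn, rfl⟩
      rw [Finset.mem_coe, Finset.mem_image]
      exact ⟨(m, n), Finset.mem_product.2 ⟨hm, hn⟩, rfl⟩
    exact Set.Finite.subset (Finset.finite_toSet _) this
  have key : ∀ (m : M) (n : N),
      (AmbW.mk (m ⊗ₜ[k] n) : AmbW k R S M N) ∈ Submodule.span (R ⊗[k] S) G := by
    intro m
    have hm : m ∈ Submodule.span R (sM : Set M) := by rw [hsM]; trivial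
    induction hm using Submodule.span_induction with
    | mem m hm =>
      intro n
      have hn : n ∈ Submodule.span S (sN : Set N) := by rw [hsN]; trivial
      induction hn using Submodule.span_induction with
      | mem n hn => exact Submodule.subset_span ⟨m, hm, n, hn, rfl⟩
      | zero => rw [TensorProduct.tmul_zero]; exact zero_mem _
      | add a b _ _ ha hb => rw [TensorProduct.tmul_add]; exact add_mem ha hb
      | smul s a _ ha =>
        have h1 : (AmbW.mk (m ⊗ₜ[k] (s • a)) : AmbW k R S M N) =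
            ((1 : R) ⊗ₜ[k] s : R ⊗[k] S) • (AmbW.mk (m ⊗ₜ[k] a) : AmbW k R S M N) := by
          rw [AmbW.smul_mk, GrSeg.act_tmul, one_smul]
        rw [h1]
        exact Submodule.smul_mem _ _ ha
    | zero =>
      intro n
      rw [TensorProduct.zero_tmul]
      exact zero_mem _
    | add a b _ _ ha hb =>
      intro n
      rw [TensorProduct.add_tmul]
      exact add_mem (ha n) (hb n)
    | smul r a _ ha =>
      intro n
      have h1 : (AmbW.mk ((r • a) ⊗ₜ[k] n) : AmbW k R S M N) =
          (r ⊗ₜ[k] (1 : S) : R ⊗[k] S) • (AmbW.mk (a ⊗ₜ[k] n) : AmbW k R S M N) := by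
        rw [AmbW.smul_mk, GrSeg.act_tmul, one_smul]
      rw [h1]
      exact Submodule.smul_mem _ _ (ha n)
  refine ⟨⟨hGfin.toFinset, ?_⟩⟩
  rw [Set.Finite.coe_toFinset, eq_top_iff]
  intro z _
  have : ∀ z : M ⊗[k] N, (AmbW.mk z : AmbW k R S M N) ∈ Submodule.span (R ⊗[k] S) G := by
    intro z
    induction z using TensorProduct.induction_on with
    | zero => exact zero_mem _
    | tmul m n => exact key m n
    | add a b ha hb => exact add_mem ha hb
  exact this z

theorem isNoetherianRing_tensor {k : Type u} [Field k] (R S : Type u) [CommRing R] [CommRing S]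
    [Algebra k R] [Algebra k S] [Algebra.FiniteType k R] [Algebra.FiniteType k S] :
    IsNoetherianRing (R ⊗[k] S) := by
  have h1 : Algebra.FiniteType R (R ⊗[k] S) := inferInstance
  have h0 : Algebra.FiniteType k R := inferInstance
  have h2 : Algebra.FiniteType k (R ⊗[k] S) := Algebra.FiniteType.trans h0 h1
  exact Algebra.FiniteType.isNoetherianRing k _

end AmbW

section Rho

variable {k : Type u} [Field k] {R S : Type u} [CommRing R] [CommRing S]
  [Algebra k R] [Algebra k S]
  (𝒜 : ℤ → Submodule k R) [GradedAlgebra 𝒜] (ℬ : ℤ → Submodule k S) [GradedAlgebra ℬ]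
  {M : Type u} [AddCommGroup M] [Module R M] [Module k M] [IsScalarTower k R M]
  (ℳ : ℤ → AddSubgroup M) [DirectSum.Decomposition ℳ] [SetLike.GradedSMul 𝒜 ℳ]
  {N : Type u} [AddCommGroup N] [Module S N] [Module k N] [IsScalarTower k S N]
  (𝒩 : ℤ → AddSubgroup N) [DirectSum.Decomposition 𝒩] [SetLike.GradedSMul ℬ 𝒩]

theorem finite_support_dproj (z : M ⊗[k] N) :
    (Function.support fun i => dproj 𝒜 ℬ ℳ 𝒩 i z).Finite := by
  classical
  induction z using TensorProduct.induction_on with
  | zero =>
    have : (Function.support fun i => dproj 𝒜 ℬ ℳ 𝒩 i (0 : M ⊗[k] N)) = ∅ := by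
      ext i
      simp
    rw [this]
    exact Set.finite_empty
  | tmul m n =>
    apply Set.Finite.subset (Finset.finite_toSet (decompose ℳ m).support)
    intro i hi
    rw [Function.mem_support] at hi
    rw [Finset.mem_coe, DFinsupp.mem_support_iff]
    intro h0
    apply hi
    unfold dproj
    rw [TensorProduct.map_tmul, proj_apply, h0, ZeroMemClass.coe_zero, TensorProduct.zero_tmul]
  | add a b ha hb =>
    apply Set.Finite.subset (ha.union hb)
    intro i hi
    rw [Function.mem_support] at hi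
    by_contra hcon
    rw [Set.mem_union, not_or, Function.mem_support, Function.mem_support, not_not, not_not]
      at hcon
    apply hi
    rw [map_add, hcon.1, hcon.2, add_zero]

/-- the projection of `M ⊗ N` onto its diagonal part -/
noncomputable def rhoX : M ⊗[k] N →ₗ[k] M ⊗[k] N where
  toFun z := ∑ᶠ i, dproj 𝒜 ℬ ℳ 𝒩 i z
  map_add' a b := by
    simp only [map_add]
    exact finsum_add_distrib (finite_support_dproj 𝒜 ℬ ℳ 𝒩 a) (finite_support_dproj 𝒜 ℬ ℳ 𝒩 b)
  map_smul' c z := by
    simp only [map_smul, RingHom.id_apply]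
    exact (smul_finsum' c (finite_support_dproj 𝒜 ℬ ℳ 𝒩 z)).symm

theorem rhoX_apply (z : M ⊗[k] N) : rhoX 𝒜 ℬ ℳ 𝒩 z = ∑ᶠ i, dproj 𝒜 ℬ ℳ 𝒩 i z := rfl

theorem rhoX_tmul_of_mem_mem {i j : ℤ} {x : M} (hx : x ∈ ℳ i) {y : N} (hy : y ∈ 𝒩 j) :
    rhoX 𝒜 ℬ ℳ 𝒩 (x ⊗ₜ[k] y) = if i = j then x ⊗ₜ[k] y else 0 := by
  rw [rhoX_apply]
  split_ifs with h
  · subst h
    rw [finsum_eq_single _ i]
    · unfold dproj
      rw [TensorProduct.map_tmul, proj_same 𝒜 ℳ hx, proj_same ℬ 𝒩 hy]
    · intro n hn
      unfold dproj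
      rw [TensorProduct.map_tmul, proj_ne 𝒜 ℳ (Ne.symm hn) hx, TensorProduct.zero_tmul]
  · apply finsum_eq_zero_of_forall_eq_zero
    intro n
    unfold dproj
    rw [TensorProduct.map_tmul]
    by_cases hn : i = n
    · subst hn
      rw [proj_ne ℬ 𝒩 (Ne.symm h) hy, TensorProduct.tmul_zero]
    · rw [proj_ne 𝒜 ℳ hn hx, TensorProduct.zero_tmul]

theorem rhoX_of_mem_segK {z : M ⊗[k] N} (hz : z ∈ segK ℳ 𝒩) : rhoX 𝒜 ℬ ℳ 𝒩 z = z := by
  unfold segK at hz
  induction hz using Submodule.iSup_induction' with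
  | mem n z hz =>
    induction hz using Submodule.span_induction with
    | mem z hz =>
      obtain ⟨a, ha, b, hb, rfl⟩ := hz
      rw [rhoX_tmul_of_mem_mem 𝒜 ℬ ℳ 𝒩 ha hb, if_pos rfl]
    | zero => rw [map_zero]
    | add z w _ _ hz hw => rw [map_add, hz, hw]
    | smul c z _ hz => rw [map_smul, hz]
  | zero => rw [map_zero]
  | add z w _ _ hz hw => rw [map_add, hz, hw]

/-- the key identity: the diagonal projection is linear over the diagonal projection of the
ring, on diagonal elements -/
theorem rhoX_act (w : R ⊗[k] S) {l : M ⊗[k] N} (hl : l ∈ segK ℳ 𝒩) :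
    rhoX 𝒜 ℬ ℳ 𝒩 (GrSeg.act k R S M N w l) =
      GrSeg.act k R S M N (Groth.Agent.Helper27.Segre.ρ 𝒜 ℬ w) l := by
  unfold segK at hl
  induction hl using Submodule.iSup_induction' with
  | mem m l hl =>
    induction hl using Submodule.span_induction with
    | mem l hl =>
      obtain ⟨a, ha, b, hb, rfl⟩ := hl
      induction w using Groth.Agent.Helper27.Segre.tensor_hom_induction 𝒜 ℬ with
      | zero => simp
      | add x y hx hy =>
        rw [map_add, LinearMap.add_apply, map_add, hx, hy, map_add, map_add, LinearMap.add_apply]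
      | hom p q r s hr hs =>
        rw [GrSeg.act_tmul, Groth.Agent.Helper27.Segre.ρ_tmul_of_mem_mem 𝒜 ℬ hr hs]
        have h1 : r • a ∈ ℳ (p + m) := by
          have := SetLike.GradedSMul.smul_mem (A := 𝒜) (B := ℳ) hr ha
          rwa [vadd_eq_add] at this
        have h2 : s • b ∈ 𝒩 (q + m) := by
          have := SetLike.GradedSMul.smul_mem (A := ℬ) (B := 𝒩) hs hb
          rwa [vadd_eq_add] at this
        rw [rhoX_tmul_of_mem_mem 𝒜 ℬ ℳ 𝒩 h1 h2]
        by_cases hpq : p = q
        · subst hpq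
          rw [if_pos rfl, if_pos rfl, GrSeg.act_tmul]
        · rw [if_neg hpq, if_neg (by omega), map_zero, LinearMap.zero_apply]
    | zero => simp
    | add z w' _ _ hz hw => rw [map_add, map_add, hz, hw, map_add]
    | smul c z _ hz => rw [map_smul, map_smul, hz, map_smul]
  | zero => simp
  | add z w' _ _ hz hw => rw [map_add, map_add, hz, hw, map_add]

end Rho

end Groth.Agent.Helper20.SegFin
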