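import Mathlib
import Groth.Prelude
import Groth.Agent.Lib.Helper20.GrSM1

/-!
# The Segre product of finitely generated graded modules is finitely generated, II (helper20)
-/

open DirectSum TensorProduct

namespace Groth.Agent.Helper20.SegFin

open Groth.Agent.Helper20.Seg

universe u

variable {k : Type u} [Field k] {R S T : Type u} [CommRing R] [CommRing S] [CommRing T]
  [Algebra k R] [Algebra k S] [Algebra k T]
  {𝒜 : ℤ → Submodule k R} [GradedAlgebra 𝒜] {ℬ : ℤ → Submodule k S} [GradedAlgebra ℬ]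
  {𝒯 : ℤ → Submodule k T} [GradedAlgebra 𝒯] {ψ : T →ₐ[k] R ⊗[k] S}
  {M : Type u} [AddCommGroup M] [Module R M] [Module k M] [IsScalarTower k R M]
  {ℳ : ℤ → AddSubgroup M} [DirectSum.Decomposition ℳ] [SetLike.GradedSMul 𝒜 ℳ]
  {N : Type u} [AddCommGroup N] [Module S N] [Module k N] [IsScalarTower k S N]
  {𝒩 : ℤ → AddSubgroup N} [DirectSum.Decomposition 𝒩] [SetLike.GradedSMul ℬ 𝒩]
  {P : Type u} [AddCommGroup P] [Module T P] [Module k P] [IsScalarTower k T P]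
  {𝒬 : ℤ → AddSubgroup P} [DirectSum.Decomposition 𝒬] {φ : P →ₗ[k] M ⊗[k] N}

theorem φ_mem_piece' (hP : GrSeg.IsSegreMod ψ ℳ 𝒩 𝒬 φ) {n : ℤ} {p : P} (hp : p ∈ 𝒬 n) :
    φ p ∈ GrSeg.segrePiece k ℳ 𝒩 n := by
  have : φ p ∈ φ '' (𝒬 n : Set P) := ⟨p, hp, rfl⟩
  rw [hP.image_piece n] at this
  exact this

theorem φ_mem_segK (hP : GrSeg.IsSegreMod ψ ℳ 𝒩 𝒬 φ) (p : P) : φ p ∈ segK ℳ 𝒩 := by
  classical
  induction p using DirectSum.Decomposition.inductionOn 𝒬 with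
  | zero => rw [map_zero]; exact zero_mem _
  | @homogeneous n p =>
    exact le_iSup (fun n : ℤ => GrSeg.segrePiece k ℳ 𝒩 n) n (φ_mem_piece' hP p.2)
  | add p p' hp hp' => rw [map_add]; exact add_mem hp hp'

/-- the grading of a Segre product is compatible with that of the Segre ring -/
theorem gradedSMul_of_isSegreMod (hT : GrSeg.IsSegreRing 𝒜 ℬ 𝒯 ψ)
    (hP : GrSeg.IsSegreMod ψ ℳ 𝒩 𝒬 φ) : SetLike.GradedSMul 𝒯 𝒬 := by
  refine ⟨?_⟩
  intro i j t p ht hp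
  rw [vadd_eq_add]
  have h1 : φ (t • p) ∈ GrSeg.segrePiece k ℳ 𝒩 (i + j) := by
    rw [hP.map_smul]
    exact act_mem_segrePiece 𝒜 ℬ ℳ 𝒩 (psi_mem 𝒜 ℬ 𝒯 ψ hT ht) (φ_mem_piece' hP hp)
  have h2 : φ (t • p) ∈ φ '' (𝒬 (i + j) : Set P) := by
    rw [hP.image_piece (i + j)]
    exact h1
  obtain ⟨p', hp', hpp'⟩ := h2
  rw [← hP.injective hpp']
  exact hp'

/-- **the Segre product of finitely generated graded modules is finitely generated** -/
theorem finite_of_isSegreMod [Algebra.FiniteType k R] [Algebra.FiniteType k S]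
    [Module.Finite R M] [Module.Finite S N] (hT : GrSeg.IsSegreRing 𝒜 ℬ 𝒯 ψ)
    (hP : GrSeg.IsSegreMod ψ ℳ 𝒩 𝒬 φ) : Module.Finite T P := by
  classical
  haveI : IsNoetherianRing (R ⊗[k] S) := isNoetherianRing_tensor R S
  haveI : Module.Finite (R ⊗[k] S) (AmbW k R S M N) := ambW_finite k R S M N
  haveI : IsNoetherian (R ⊗[k] S) (AmbW k R S M N) := isNoetherian_of_isNoetherianRing_of_finite _ _
  let L₀ : Set (AmbW k R S M N) := Set.range (fun p : P => (AmbW.mk (φ p) : AmbW k R S M N))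
  have hfg : (Submodule.span (R ⊗[k] S) L₀).FG := IsNoetherian.noetherian _
  obtain ⟨F, hFL, hFspan⟩ := (Submodule.fg_span_iff_fg_span_finset_subset L₀).1 hfg
  have hFL' : (F : Set (AmbW k R S M N)) ⊆
      (fun p : P => (AmbW.mk (φ p) : AmbW k R S M N)) '' Set.univ := by
    rw [Set.image_univ]
    exact hFL
  obtain ⟨F₀, -, rfl⟩ := Finset.subset_set_image_iff.1 hFL'
  have hinj : Function.Injective (fun p : P => (AmbW.mk (φ p) : AmbW k R S M N)) :=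
    hP.injective
  refine ⟨⟨F₀, ?_⟩⟩
  rw [eq_top_iff]
  intro p _
  have hp : (AmbW.mk (φ p) : AmbW k R S M N) ∈ Submodule.span (R ⊗[k] S) L₀ :=
    Submodule.subset_span ⟨p, rfl⟩
  rw [hFspan] at hp
  obtain ⟨c, -, hc⟩ := Submodule.mem_span_finset.1 hp
  rw [Finset.sum_image (fun a _ b _ h => hinj h)] at hc
  -- apply the diagonal projection
  have hc' : φ p = ∑ a ∈ F₀, GrSeg.act k R S M N (c (AmbW.mk (φ a))) (φ a) := hc.symm
  have h1 : φ p = ∑ a ∈ F₀,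
      GrSeg.act k R S M N (Groth.Agent.Helper27.Segre.ρ 𝒜 ℬ (c (AmbW.mk (φ a)))) (φ a) := by
    rw [← rhoX_of_mem_segK 𝒜 ℬ ℳ 𝒩 (φ_mem_segK hP p), hc', map_sum]
    refine Finset.sum_congr rfl (fun a _ => ?_)
    exact rhoX_act 𝒜 ℬ ℳ 𝒩 _ (φ_mem_segK hP a)
  choose t ht using fun a : P => Groth.Agent.Helper27.Segre.ρ_mem_range 𝒜 ℬ 𝒯 ψ hT.2
    (c (AmbW.mk (φ a)))
  have h2 : φ p = φ (∑ a ∈ F₀, t a • a) := by
    rw [h1, map_sum]
    refine Finset.sum_congr rfl (fun a _ => ?_)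
    rw [hP.map_smul, ← ht a]
    rfl
  rw [hP.injective h2]
  exact Submodule.sum_mem _ (fun a ha => Submodule.smul_mem _ _ (Submodule.subset_span ha))

end Groth.Agent.Helper20.SegFin
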