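import Mathlib

/-!
# Splitting a graded differential vector space (helper20)

`V = ⨁ pc a` over a field, `d` of "degree `succ`" with `d ∘ d = 0`.  There are `s` (of degree `succ⁻¹`)
and a graded projector `p` with `d s + s d + p = 1`, `d p = 0 = p d`.
-/

open DirectSum

namespace Groth.Agent.Helper20.Kun

universe u v

section RelCompl

variable {k : Type u} [Field k] {V : Type v} [AddCommGroup V] [Module k V]

/-- relative complements exist -/
theorem exists_rel_compl (B Z : Submodule k V) (hBZ : B ≤ Z) :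
    ∃ H : Submodule k V, H ≤ Z ∧ H ⊓ B = ⊥ ∧ Z ≤ H ⊔ B := by
  obtain ⟨H', hH'⟩ := Submodule.exists_isCompl (B.comap Z.subtype)
  refine ⟨H'.map Z.subtype, ?_, ?_, ?_⟩
  · rintro x ⟨y, _, rfl⟩
    exact y.2
  · rw [eq_bot_iff]
    rintro x ⟨⟨y, hy, rfl⟩, hxB⟩
    have : y ∈ B.comap Z.subtype ⊓ H' := ⟨hxB, hy⟩
    rw [hH'.inf_eq_bot] at this
    rw [(Submodule.mem_bot k).1 this]
    simp
  · intro z hz
    have h1 : (⟨z, hz⟩ : Z) ∈ B.comap Z.subtype ⊔ H' := by
      rw [hH'.sup_eq_top]; trivial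
    obtain ⟨b, hb, h, hh, hbh⟩ := Submodule.mem_sup.1 h1
    have : z = (b : V) + (h : V) := by
      have := congrArg Subtype.val hbh
      simpa using this.symm
    rw [this, add_comm]
    exact Submodule.add_mem_sup ⟨h, hh, rfl⟩ hb

end RelCompl

section Split

variable {k : Type u} [Field k] {V : Type v} [AddCommGroup V] [Module k V]
variable {α : Type} [DecidableEq α] (pc : α → Submodule k V) [DirectSum.Decomposition pc]
variable (succ : α → α) (hsucc : Function.Injective succ)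
variable (d : V →ₗ[k] V) (hd : ∀ a x, x ∈ pc a → d x ∈ pc (succ a))

include hsucc hd in
theorem decompose_d_succ (x : V) (a : α) :
    (decompose pc (d x) (succ a) : V) = d (decompose pc x a : V) := by
  induction x using DirectSum.Decomposition.inductionOn pc with
  | zero => simp
  | @homogeneous a' x =>
    by_cases h : a' = a
    · subst h
      rw [decompose_of_mem_same pc (hd a' x x.2), decompose_of_mem_same pc x.2]
    · have h' : succ a' ≠ succ a := fun e => h (hsucc e)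
      rw [decompose_of_mem_ne pc (hd a' x x.2) h', decompose_of_mem_ne pc x.2 h, map_zero]
  | add x y hx hy =>
    simp only [map_add, decompose_add, DirectSum.add_apply, Submodule.coe_add, hx, hy]

include hd in
theorem decompose_d_of_not_range (x : V) (b : α) (hb : ∀ a, succ a ≠ b) :
    (decompose pc (d x) b : V) = 0 := by
  induction x using DirectSum.Decomposition.inductionOn pc with
  | zero => simp
  | @homogeneous a' x =>
    rw [decompose_of_mem_ne pc (hd a' x x.2) (hb a')]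
  | add x y hx hy =>
    simp only [map_add, decompose_add, DirectSum.add_apply, Submodule.coe_add, hx, hy, add_zero]

include hsucc hd in
theorem ker_isHomogeneous : (LinearMap.ker d).IsHomogeneous pc := by
  intro a x hx
  rw [LinearMap.mem_ker] at hx ⊢
  rw [← decompose_d_succ pc succ hsucc d hd, hx]
  simp

include hsucc hd in
theorem range_isHomogeneous : (LinearMap.range d).IsHomogeneous pc := by
  intro b x hx
  obtain ⟨y, rfl⟩ := hx
  by_cases hb : ∃ a, succ a = b
  · obtain ⟨a, rfl⟩ := hb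
    rw [decompose_d_succ pc succ hsucc d hd]
    exact ⟨_, rfl⟩
  · push Not at hb
    rw [decompose_d_of_not_range pc succ d hd y b hb]
    exact zero_mem _

/-- membership in a supremum of homogeneous parts -/
theorem mem_iSup_of_forall {Q : α → Submodule k V} (x : V)
    (h : ∀ a, (decompose pc x a : V) ∈ Q a) : x ∈ ⨆ a, Q a := by
  classical
  rw [← sum_support_decompose pc x]
  exact Submodule.sum_mem _ fun a _ => Submodule.mem_iSup_of_mem a (h a)

theorem decompose_mem_of_mem_iSup {Q : α → Submodule k V} (hQ : ∀ a, Q a ≤ pc a) (x : V)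
    (hx : x ∈ ⨆ a, Q a) (a : α) : (decompose pc x a : V) ∈ Q a := by
  induction hx using Submodule.iSup_induction' with
  | mem b y hy =>
    by_cases h : b = a
    · subst h
      rw [decompose_of_mem_same pc (hQ b hy)]
      exact hy
    · rw [decompose_of_mem_ne pc (hQ b hy) h]
      exact zero_mem _
  | zero => simp
  | add y z _ _ hy hz =>
    simp only [decompose_add, DirectSum.add_apply, Submodule.coe_add]
    exact add_mem hy hz

theorem eq_zero_of_forall_decompose (x : V) (h : ∀ a, (decompose pc x a : V) = 0) : x = 0 := by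
  classical
  rw [← sum_support_decompose pc x]
  exact Finset.sum_eq_zero fun a _ => h a

end Split

section Main

variable {k : Type u} [Field k] {V : Type v} [AddCommGroup V] [Module k V]
variable {α : Type} [DecidableEq α] (pc : α → Submodule k V) [DirectSum.Decomposition pc]
variable (succ : α → α) (d : V →ₗ[k] V)

/-- a graded splitting of a graded differential space -/
structure Splitting where
  s : V →ₗ[k] V
  p : V →ₗ[k] V
  s_mem : ∀ a x, x ∈ pc (succ a) → s x ∈ pc a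
  s_zero : ∀ b, (∀ a, succ a ≠ b) → ∀ x ∈ pc b, s x = 0
  p_mem : ∀ a x, x ∈ pc a → p x ∈ pc a
  d_p : ∀ x, d (p x) = 0
  p_d : ∀ x, p (d x) = 0
  p_p : ∀ x, p (p x) = p x
  hom : ∀ x, d (s x) + s (d x) + p x = x

variable (hsucc : Function.Injective succ)
  (hd : ∀ a x, x ∈ pc a → d x ∈ pc (succ a)) (hd2 : ∀ x, d (d x) = 0)

include hsucc hd hd2 in
theorem nonempty_splitting : Nonempty (Splitting pc succ d) := by
  classical
  have hBZ : ∀ a, LinearMap.range d ⊓ pc a ≤ LinearMap.ker d ⊓ pc a := by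
    rintro a x ⟨⟨y, rfl⟩, hx⟩
    exact ⟨LinearMap.mem_ker.2 (hd2 y), hx⟩
  have hU : ∀ a, ∃ U : Submodule k V, U ≤ pc a ∧ U ⊓ (LinearMap.ker d ⊓ pc a) = ⊥ ∧
      pc a ≤ U ⊔ (LinearMap.ker d ⊓ pc a) := fun a => exists_rel_compl _ _ inf_le_right
  choose U hU1 hU2 hU3 using hU
  have hH : ∀ a, ∃ H : Submodule k V, H ≤ LinearMap.ker d ⊓ pc a ∧
      H ⊓ (LinearMap.range d ⊓ pc a) = ⊥ ∧
      LinearMap.ker d ⊓ pc a ≤ H ⊔ (LinearMap.range d ⊓ pc a) :=
    fun a => exists_rel_compl _ _ (hBZ a)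
  choose H hH1 hH2 hH3 using hH
  set UU : Submodule k V := ⨆ a, U a with hUU
  set HH : Submodule k V := ⨆ a, H a with hHH
  have hHa : ∀ a, H a ≤ pc a := fun a => (hH1 a).trans inf_le_right
  have hHHker : HH ≤ LinearMap.ker d := iSup_le fun a => (hH1 a).trans inf_le_left
  have hRker : LinearMap.range d ≤ LinearMap.ker d := by
    rintro x ⟨y, rfl⟩
    rw [LinearMap.mem_ker]; exact hd2 y
  -- first splitting
  have hdisj1 : ∀ x, x ∈ LinearMap.ker d → x ∈ UU → x = 0 := by
    intro x hx hxU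
    apply eq_zero_of_forall_decompose pc
    intro a
    have h1 := decompose_mem_of_mem_iSup pc hU1 x hxU a
    have h2 := ker_isHomogeneous pc succ hsucc d hd a hx
    have h3 : (decompose pc x a : V) ∈ U a ⊓ (LinearMap.ker d ⊓ pc a) :=
      ⟨h1, h2, (decompose pc x a).2⟩
    rw [hU2 a] at h3
    exact (Submodule.mem_bot k).1 h3
  have hcod1 : ∀ x : V, ∃ z ∈ LinearMap.ker d, ∃ u ∈ UU, x = z + u := by
    intro x
    have : x ∈ LinearMap.ker d ⊔ UU := by
      rw [← sum_support_decompose pc x]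
      refine Submodule.sum_mem _ fun a _ => ?_
      have h1 := hU3 a (decompose pc x a).2
      obtain ⟨u, hu, z, hz, huz⟩ := Submodule.mem_sup.1 h1
      rw [← huz, add_comm]
      exact Submodule.add_mem_sup hz.1 (Submodule.mem_iSup_of_mem a hu)
    obtain ⟨z, hz, u, hu, hzu⟩ := Submodule.mem_sup.1 this
    exact ⟨z, hz, u, hu, hzu.symm⟩
  have hC1 : IsCompl (LinearMap.ker d) UU := by
    refine ⟨Submodule.disjoint_def.2 hdisj1, codisjoint_iff.2 (eq_top_iff.2 fun x _ => ?_)⟩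
    obtain ⟨z, hz, u, hu, rfl⟩ := hcod1 x
    exact Submodule.add_mem_sup hz hu
  -- second splitting, inside the kernel
  set K : Submodule k V := LinearMap.ker d with hK
  set B' : Submodule k K := (LinearMap.range d).comap K.subtype with hB'
  set H' : Submodule k K := HH.comap K.subtype with hH'
  have hdisj2 : ∀ x, x ∈ HH → x ∈ LinearMap.range d → x = 0 := by
    intro x hxH hxR
    apply eq_zero_of_forall_decompose pc
    intro a
    have h1 := decompose_mem_of_mem_iSup pc hHa x hxH a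
    have h2 := range_isHomogeneous pc succ hsucc d hd a hxR
    have h3 : (decompose pc x a : V) ∈ H a ⊓ (LinearMap.range d ⊓ pc a) :=
      ⟨h1, h2, (decompose pc x a).2⟩
    rw [hH2 a] at h3
    exact (Submodule.mem_bot k).1 h3
  have hcod2 : ∀ x ∈ LinearMap.ker d, ∃ h ∈ HH, ∃ b ∈ LinearMap.range d, x = h + b := by
    intro x hx
    have : x ∈ HH ⊔ LinearMap.range d := by
      rw [← sum_support_decompose pc x]
      refine Submodule.sum_mem _ fun a _ => ?_
      have h0 : (decompose pc x a : V) ∈ LinearMap.ker d ⊓ pc a :=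
        ⟨ker_isHomogeneous pc succ hsucc d hd a hx, (decompose pc x a).2⟩
      obtain ⟨h, hh, b, hb, hhb⟩ := Submodule.mem_sup.1 (hH3 a h0)
      rw [← hhb]
      exact Submodule.add_mem_sup (Submodule.mem_iSup_of_mem a hh) hb.1
    obtain ⟨h, hh, b, hb, hhb⟩ := Submodule.mem_sup.1 this
    exact ⟨h, hh, b, hb, hhb.symm⟩
  have hC2 : IsCompl H' B' := by
    refine ⟨Submodule.disjoint_def.2 fun y hyH hyB => ?_,
      codisjoint_iff.2 (eq_top_iff.2 fun y _ => ?_)⟩
    · apply Subtype.ext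
      exact hdisj2 y.1 hyH hyB
    · obtain ⟨h, hh, b, hb, hy⟩ := hcod2 y.1 y.2
      have : y = (⟨h, hHHker hh⟩ : K) + ⟨b, hRker hb⟩ := Subtype.ext hy
      rw [this]
      exact Submodule.add_mem_sup (show (⟨h, hHHker hh⟩ : K) ∈ H' from hh)
        (show (⟨b, hRker hb⟩ : K) ∈ B' from hb)
  -- the equivalence `UU ≃ range d`
  let e0 : UU →ₗ[k] LinearMap.range d :=
    LinearMap.codRestrict (LinearMap.range d) (d ∘ₗ UU.subtype) fun u => ⟨u.1, rfl⟩
  have he0inj : Function.Injective e0 := by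
    rw [injective_iff_map_eq_zero]
    intro u hu
    have h1 : d u.1 = 0 := congrArg Subtype.val hu
    exact Subtype.ext (hdisj1 u.1 (LinearMap.mem_ker.2 h1) u.2)
  have he0surj : Function.Surjective e0 := by
    rintro ⟨b, y, rfl⟩
    obtain ⟨z, hz, u, hu, rfl⟩ := hcod1 y
    refine ⟨⟨u, hu⟩, Subtype.ext ?_⟩
    show d u = d (z + u)
    rw [map_add, LinearMap.mem_ker.1 hz, zero_add]
  let e : UU ≃ₗ[k] LinearMap.range d := LinearEquiv.ofBijective e0 ⟨he0inj, he0surj⟩
  let πZ : V →ₗ[k] K := K.linearProjOfIsCompl UU hC1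
  let πH : K →ₗ[k] H' := H'.linearProjOfIsCompl B' hC2
  let πB : K →ₗ[k] B' := B'.linearProjOfIsCompl H' hC2.symm
  let toR : B' →ₗ[k] LinearMap.range d :=
    LinearMap.codRestrict (LinearMap.range d) (K.subtype ∘ₗ B'.subtype) fun y => y.2
  let p : V →ₗ[k] V := K.subtype ∘ₗ H'.subtype ∘ₗ πH ∘ₗ πZ
  let s : V →ₗ[k] V := UU.subtype ∘ₗ e.symm.toLinearMap ∘ₗ toR ∘ₗ πB ∘ₗ πZ
  have hπZ : ∀ z (hz : z ∈ K) u, u ∈ UU → πZ (z + u) = ⟨z, hz⟩ := by
    intro z hz u hu
    rw [map_add]
    have h1 : πZ z = ⟨z, hz⟩ := Submodule.linearProjOfIsCompl_apply_left hC1 ⟨z, hz⟩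
    have h2 : πZ u = 0 := Submodule.linearProjOfIsCompl_apply_right hC1 ⟨u, hu⟩
    rw [h1, h2, add_zero]
  have hcomp : ∀ b (hb : b ∈ LinearMap.range d) h (hh : h ∈ HH) u, u ∈ UU →
      p (b + h + u) = h ∧ ∀ u' ∈ UU, d u' = b → s (b + h + u) = u' := by
    intro b hb h hh u hu
    have hbK : b ∈ K := hRker hb
    have hhK : h ∈ K := hHHker hh
    have h1 : πZ (b + h + u) = (⟨b, hbK⟩ : K) + ⟨h, hhK⟩ :=
      hπZ (b + h) (add_mem hbK hhK) u hu
    have h2 : πH ((⟨b, hbK⟩ : K) + ⟨h, hhK⟩) = ⟨⟨h, hhK⟩, hh⟩ := by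
      rw [map_add]
      have e1 : πH ⟨b, hbK⟩ = 0 :=
        Submodule.linearProjOfIsCompl_apply_right hC2 ⟨⟨b, hbK⟩, hb⟩
      have e2 : πH ⟨h, hhK⟩ = ⟨⟨h, hhK⟩, hh⟩ :=
        Submodule.linearProjOfIsCompl_apply_left hC2 ⟨⟨h, hhK⟩, hh⟩
      rw [e1, e2, zero_add]
    have h3 : πB ((⟨b, hbK⟩ : K) + ⟨h, hhK⟩) = ⟨⟨b, hbK⟩, hb⟩ := by
      rw [map_add]
      have e1 : πB ⟨b, hbK⟩ = ⟨⟨b, hbK⟩, hb⟩ :=
        Submodule.linearProjOfIsCompl_apply_left hC2.symm ⟨⟨b, hbK⟩, hb⟩
      have e2 : πB ⟨h, hhK⟩ = 0 :=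
        Submodule.linearProjOfIsCompl_apply_right hC2.symm ⟨⟨h, hhK⟩, hh⟩
      rw [e1, e2, add_zero]
    refine ⟨?_, fun u' hu' hdu' => ?_⟩
    · show ((πH (πZ (b + h + u)) : K) : V) = h
      rw [h1, h2]
    · show ((e.symm (toR (πB (πZ (b + h + u)))) : UU) : V) = u'
      rw [h1, h3]
      have h4 : toR ⟨⟨b, hbK⟩, hb⟩ = e ⟨u', hu'⟩ := by
        apply Subtype.ext
        show b = d u'
        exact hdu'.symm
      rw [h4, LinearEquiv.symm_apply_apply]
  have hdec : ∀ a x, x ∈ pc a → ∃ b ∈ LinearMap.range d ⊓ pc a, ∃ h ∈ H a, ∃ u ∈ U a,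
      x = b + h + u := by
    intro a x hx
    obtain ⟨u, hu, z, hz, huz⟩ := Submodule.mem_sup.1 (hU3 a hx)
    obtain ⟨h, hh, b, hb, hhb⟩ := Submodule.mem_sup.1 (hH3 a hz)
    refine ⟨b, hb, h, hh, u, hu, ?_⟩
    rw [← huz, ← hhb]
    abel
  have hUUmem : ∀ a u, u ∈ U a → u ∈ UU := fun a u hu => Submodule.mem_iSup_of_mem a hu
  have hHHmem : ∀ a h, h ∈ H a → h ∈ HH := fun a h hh => Submodule.mem_iSup_of_mem a hh
  have hpHH : ∀ x, p x ∈ HH := fun x => (πH (πZ x)).2
  refine ⟨⟨s, p, ?_, ?_, ?_, ?_, ?_, ?_, ?_⟩⟩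
  · intro a x hx
    obtain ⟨b, hb, h, hh, u, hu, rfl⟩ := hdec (succ a) x hx
    obtain ⟨y, hy⟩ := hb.1
    have h1 : b = d (decompose pc y a : V) := by
      rw [← decompose_d_succ pc succ hsucc d hd, hy, decompose_of_mem_same pc hb.2]
    obtain ⟨u', hu', z', hz', huz'⟩ := Submodule.mem_sup.1 (hU3 a (decompose pc y a).2)
    have h2 : d u' = b := by
      rw [h1, ← huz', map_add, LinearMap.mem_ker.1 hz'.1, add_zero]
    rw [(hcomp b hb.1 h (hHHmem _ h hh) u (hUUmem _ u hu)).2 u' (hUUmem a u' hu') h2]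
    exact hU1 a hu'
  · intro b₀ hb₀ x hx
    obtain ⟨b, hb, h, hh, u, hu, rfl⟩ := hdec b₀ x hx
    obtain ⟨y, hy⟩ := hb.1
    have h1 : b = 0 := by
      rw [← decompose_of_mem_same pc hb.2, ← hy]
      exact decompose_d_of_not_range pc succ d hd y b₀ hb₀
    exact (hcomp b hb.1 h (hHHmem _ h hh) u (hUUmem _ u hu)).2 0 (zero_mem _)
      (by rw [map_zero, h1])
  · intro a x hx
    obtain ⟨b, hb, h, hh, u, hu, rfl⟩ := hdec a x hx
    rw [(hcomp b hb.1 h (hHHmem _ h hh) u (hUUmem _ u hu)).1]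
    exact hHa a hh
  · intro x
    exact LinearMap.mem_ker.1 (hHHker (hpHH x))
  · intro x
    have := (hcomp (d x) ⟨x, rfl⟩ 0 (zero_mem _) 0 (zero_mem _)).1
    rwa [add_zero, add_zero] at this
  · intro x
    have := (hcomp 0 (zero_mem _) (p x) (hpHH x) 0 (zero_mem _)).1
    rwa [zero_add, add_zero] at this
  · intro x
    induction x using DirectSum.Decomposition.inductionOn pc with
    | zero => simp
    | @homogeneous a x =>
      obtain ⟨b, hb, h, hh, u, hu, hx⟩ := hdec a x x.2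
      obtain ⟨y, hy⟩ := hb.1
      obtain ⟨z, hz, u', hu', rfl⟩ := hcod1 y
      have hdu' : d u' = b := by
        rw [← hy, map_add, LinearMap.mem_ker.1 hz, zero_add]
      have hc := hcomp b hb.1 h (hHHmem _ h hh) u (hUUmem _ u hu)
      have hdx : d (x : V) = d u + 0 + 0 := by
        rw [hx, map_add, map_add, LinearMap.mem_ker.1 (hRker hb.1),
          LinearMap.mem_ker.1 (hH1 a hh).1]
        abel
      have hc2 := (hcomp (d u) ⟨u, rfl⟩ 0 (zero_mem _) 0 (zero_mem _)).2 u (hUUmem _ u hu) rfl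
      rw [hdx, hc2, hx, hc.1, hc.2 u' hu' hdu', hdu']
      abel
    | add x y hx hy =>
      have : d (s (x + y)) + s (d (x + y)) + p (x + y) =
          (d (s x) + s (d x) + p x) + (d (s y) + s (d y) + p y) := by
        simp only [map_add]
        abel
      rw [this, hx, hy]

end Main

end Groth.Agent.Helper20.Kun
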