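import Mathlib
import Groth.Agent.Lib.Helper20.GrKun1

/-!
# The tensor product of two split graded differential spaces (helper20)
-/

open DirectSum TensorProduct

namespace Groth.Agent.Helper20.Kun

universe u v

section Scal

variable {k : Type u} [Field k] {V : Type v} [AddCommGroup V] [Module k V]
variable {α : Type} [DecidableEq α] (pc : α → Submodule k V) [DirectSum.Decomposition pc]

/-- two linear maps agreeing on the pieces are equal -/
theorem ext_pieces {V' : Type*} [AddCommGroup V'] [Module k V'] {f g : V →ₗ[k] V'}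
    (h : ∀ a x, x ∈ pc a → f x = g x) : f = g := by
  ext x
  induction x using DirectSum.Decomposition.inductionOn pc with
  | zero => simp
  | @homogeneous a x => exact h a x x.2
  | add x y hx hy => rw [map_add, map_add, hx, hy]

/-- the operator acting by the scalar `c a` on the piece `pc a` -/
noncomputable def scal (c : α → k) : V →ₗ[k] V :=
  (DirectSum.toModule k α V fun a => c a • (pc a).subtype) ∘ₗ
    (DirectSum.decomposeLinearEquiv pc).toLinearMap

theorem scal_apply_mem (c : α → k) {a : α} {x : V} (hx : x ∈ pc a) : scal pc c x = c a • x := by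
  unfold scal
  rw [LinearMap.comp_apply, LinearEquiv.coe_coe, DirectSum.decomposeLinearEquiv_apply,
    DirectSum.decompose_of_mem pc hx]
  erw [DirectSum.toModule_lof]
  rfl

theorem scal_mem (c : α → k) {a : α} {x : V} (hx : x ∈ pc a) : scal pc c x ∈ pc a := by
  rw [scal_apply_mem pc c hx]
  exact Submodule.smul_mem _ _ hx

end Scal

section Sign

variable {k : Type u} [Field k] {V : Type v} [AddCommGroup V] [Module k V]
variable {α : Type} [DecidableEq α] (pc : α → Submodule k V) [DirectSum.Decomposition pc]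
variable (succ : α → α) (d : V →ₗ[k] V) (hd : ∀ a x, x ∈ pc a → d x ∈ pc (succ a))
variable (c : α → k) (hc1 : ∀ a, c a * c a = 1) (hc2 : ∀ a, c (succ a) = - c a)

include hc1 in
theorem sign_sign (x : V) : scal pc c (scal pc c x) = x := by
  have : (scal pc c) ∘ₗ (scal pc c) = LinearMap.id := by
    apply ext_pieces pc
    intro a x hx
    rw [LinearMap.comp_apply, scal_apply_mem pc c hx, map_smul, scal_apply_mem pc c hx, smul_smul,
      hc1, one_smul, LinearMap.id_apply]
  exact congrArg (fun f => f x) this

include hd hc2 in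
theorem d_sign (x : V) : d (scal pc c x) = - scal pc c (d x) := by
  have : d ∘ₗ (scal pc c) = - ((scal pc c) ∘ₗ d) := by
    apply ext_pieces pc
    intro a x hx
    rw [LinearMap.comp_apply, LinearMap.neg_apply, LinearMap.comp_apply, scal_apply_mem pc c hx,
      scal_apply_mem pc c (hd a x hx), hc2, map_smul, neg_smul, neg_neg]
  exact congrArg (fun f => f x) this

variable (sp : Splitting pc succ d)

theorem sign_p (x : V) : scal pc c (sp.p x) = sp.p (scal pc c x) := by
  have : (scal pc c) ∘ₗ sp.p = sp.p ∘ₗ (scal pc c) := by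
    apply ext_pieces pc
    intro a x hx
    rw [LinearMap.comp_apply, LinearMap.comp_apply, scal_apply_mem pc c hx,
      scal_apply_mem pc c (sp.p_mem a x hx), map_smul]
  exact congrArg (fun f => f x) this

include hc2 in
theorem sign_s (x : V) : scal pc c (sp.s x) = - sp.s (scal pc c x) := by
  have : (scal pc c) ∘ₗ sp.s = - (sp.s ∘ₗ (scal pc c)) := by
    apply ext_pieces pc
    intro b x hx
    rw [LinearMap.comp_apply, LinearMap.neg_apply, LinearMap.comp_apply, scal_apply_mem pc c hx,
      map_smul]
    by_cases hb : ∃ a, succ a = b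
    · obtain ⟨a, rfl⟩ := hb
      rw [scal_apply_mem pc c (sp.s_mem a x hx), hc2, neg_smul, neg_neg]
    · push Not at hb
      rw [sp.s_zero b hb x hx, map_zero, smul_zero, neg_zero]
  exact congrArg (fun f => f x) this

end Sign

section Tensor

variable {k : Type u} [Field k] {V : Type v} [AddCommGroup V] [Module k V]
  {W : Type v} [AddCommGroup W] [Module k W]
variable {α : Type} [DecidableEq α] {pc : α → Submodule k V} [DirectSum.Decomposition pc]
variable {β : Type} [DecidableEq β] {pc' : β → Submodule k W} [DirectSum.Decomposition pc']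
variable {succ : α → α} {d : V →ₗ[k] V} (hd : ∀ a x, x ∈ pc a → d x ∈ pc (succ a))
variable {succ' : β → β} {d' : W →ₗ[k] W}
variable (c : α → k) (hc1 : ∀ a, c a * c a = 1) (hc2 : ∀ a, c (succ a) = - c a)
variable (sp : Splitting pc succ d) (sp' : Splitting pc' succ' d')

variable (pc d d') in
/-- the total differential -/
noncomputable def tδ : V ⊗[k] W →ₗ[k] V ⊗[k] W :=
  TensorProduct.map d LinearMap.id + TensorProduct.map (scal pc c) d'

/-- the total homotopy -/
noncomputable def tS : V ⊗[k] W →ₗ[k] V ⊗[k] W :=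
  TensorProduct.map sp.s LinearMap.id + TensorProduct.map ((scal pc c) ∘ₗ sp.p) sp'.s

/-- the total projector -/
noncomputable def tP : V ⊗[k] W →ₗ[k] V ⊗[k] W := TensorProduct.map sp.p sp'.p

theorem tδ_tmul (x : V) (y : W) :
    tδ pc d d' c (x ⊗ₜ[k] y) = d x ⊗ₜ[k] y + scal pc c x ⊗ₜ[k] d' y := by
  simp [tδ]

theorem tS_tmul (x : V) (y : W) :
    tS c sp sp' (x ⊗ₜ[k] y) = sp.s x ⊗ₜ[k] y + scal pc c (sp.p x) ⊗ₜ[k] sp'.s y := by
  simp [tS]

theorem tP_tmul (x : V) (y : W) : tP sp sp' (x ⊗ₜ[k] y) = sp.p x ⊗ₜ[k] sp'.p y := by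
  simp [tP]

include hd hc1 hc2 in
/-- the homotopy identity `δ S + S δ + Π = 1` -/
theorem homotopy (z : V ⊗[k] W) :
    tδ pc d d' c (tS c sp sp' z) + tS c sp sp' (tδ pc d d' c z) + tP sp sp' z = z := by
  induction z using TensorProduct.induction_on with
  | zero => simp
  | tmul x y =>
    rw [tS_tmul, map_add, tδ_tmul, tδ_tmul, tδ_tmul, map_add, tS_tmul, tS_tmul, tP_tmul]
    rw [d_sign pc succ d hd c hc2 (sp.p x), sp.d_p, map_zero, neg_zero, sign_sign pc c hc1,
      sp.p_d, map_zero, ← sign_p pc succ d c sp x, sign_sign pc c hc1,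
      sign_s pc succ d c hc2 sp x]
    have h1 := sp.hom x
    have h2 := sp'.hom y
    have e1 : d (sp.s x) = x - sp.p x - sp.s (d x) := eq_sub_of_add_eq (eq_sub_of_add_eq h1)
    have e2 : d' (sp'.s y) = y - sp'.p y - sp'.s (d' y) := eq_sub_of_add_eq (eq_sub_of_add_eq h2)
    rw [e1, e2]
    simp only [TensorProduct.sub_tmul, TensorProduct.tmul_sub, TensorProduct.zero_tmul,
      TensorProduct.neg_tmul]
    abel
  | add z w hz hw =>
    have : tδ pc d d' c (tS c sp sp' (z + w)) + tS c sp sp' (tδ pc d d' c (z + w)) +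
        tP sp sp' (z + w) =
        (tδ pc d d' c (tS c sp sp' z) + tS c sp sp' (tδ pc d d' c z) + tP sp sp' z) +
        (tδ pc d d' c (tS c sp sp' w) + tS c sp sp' (tδ pc d d' c w) + tP sp sp' w) := by
      simp only [map_add]
      abel
    rw [this, hz, hw]

end Tensor

end Groth.Agent.Helper20.Kun
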