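import Mathlib
import Groth.Agent.Lib.Helper20.GrKun2

/-!
# The Künneth formula for bigraded differential spaces over a field (helper20)
-/

open DirectSum TensorProduct

namespace Groth.Agent.Helper20.Kun

universe u v

section Pieces

variable {k : Type u} [Field k] {V : Type v} [AddCommGroup V] [Module k V]
  {W : Type v} [AddCommGroup W] [Module k W]
variable {α : Type} (pc : α → Submodule k V) {β : Type} (pc' : β → Submodule k W)

/-- the span of the pure tensors of two subspaces -/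
def tsp (A : Submodule k V) (B : Submodule k W) : Submodule k (V ⊗[k] W) :=
  Submodule.span k {z | ∃ x ∈ A, ∃ y ∈ B, z = x ⊗ₜ[k] y}

theorem tmul_mem_tsp {A : Submodule k V} {B : Submodule k W} {x : V} {y : W} (hx : x ∈ A)
    (hy : y ∈ B) : x ⊗ₜ[k] y ∈ tsp A B :=
  Submodule.subset_span ⟨x, hx, y, hy, rfl⟩

theorem tsp_mono {A A' : Submodule k V} {B B' : Submodule k W} (hA : A ≤ A') (hB : B ≤ B') :
    tsp A B ≤ tsp A' B' := by
  apply Submodule.span_mono
  rintro z ⟨x, hx, y, hy, rfl⟩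
  exact ⟨x, hA hx, y, hB hy, rfl⟩

theorem tsp_bot_left (B : Submodule k W) : tsp (⊥ : Submodule k V) B = ⊥ := by
  rw [eq_bot_iff]
  apply Submodule.span_le.2
  rintro z ⟨x, hx, y, _, rfl⟩
  rw [(Submodule.mem_bot k).1 hx, TensorProduct.zero_tmul]
  exact zero_mem _

theorem tsp_bot_right (A : Submodule k V) : tsp A (⊥ : Submodule k W) = ⊥ := by
  rw [eq_bot_iff]
  apply Submodule.span_le.2
  rintro z ⟨x, _, y, hy, rfl⟩
  rw [(Submodule.mem_bot k).1 hy, TensorProduct.tmul_zero]
  exact zero_mem _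

/-- a linear map sends `tsp A B` into `C` as soon as it does so on pure tensors -/
theorem map_tsp_le {X : Type*} [AddCommGroup X] [Module k X] (f : V ⊗[k] W →ₗ[k] X)
    {A : Submodule k V} {B : Submodule k W} {C : Submodule k X}
    (h : ∀ x ∈ A, ∀ y ∈ B, f (x ⊗ₜ[k] y) ∈ C) : (tsp A B).map f ≤ C := by
  rw [Submodule.map_le_iff_le_comap]
  apply Submodule.span_le.2
  rintro z ⟨x, hx, y, hy, rfl⟩
  exact h x hx y hy

theorem range_map_subtype (A : Submodule k V) (B : Submodule k W) :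
    LinearMap.range (TensorProduct.map A.subtype B.subtype) = tsp A B := by
  apply le_antisymm
  · rintro z ⟨t, rfl⟩
    induction t using TensorProduct.induction_on with
    | zero => simp
    | tmul x y =>
      rw [TensorProduct.map_tmul]
      exact tmul_mem_tsp x.2 y.2
    | add a b ha hb =>
      rw [map_add]
      exact add_mem ha hb
  · apply Submodule.span_le.2
    rintro z ⟨x, hx, y, hy, rfl⟩
    exact ⟨(⟨x, hx⟩ : A) ⊗ₜ[k] (⟨y, hy⟩ : B), by simp⟩

end Pieces

section Kunneth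

variable {k : Type u} [Field k] {V : Type v} [AddCommGroup V] [Module k V]
  {W : Type v} [AddCommGroup W] [Module k W]
variable {ι : Type} [DecidableEq ι]
variable {pc : ℕ × ι → Submodule k V} [DirectSum.Decomposition pc]
variable {pc' : ℕ × ι → Submodule k W} [DirectSum.Decomposition pc']

/-- the shift of the cohomological degree -/
def sh : ℕ × ι → ℕ × ι := fun a => (a.1 + 1, a.2)

theorem sh_injective : Function.Injective (sh (ι := ι)) := by
  rintro ⟨i, n⟩ ⟨j, m⟩ h
  simp only [sh, Prod.mk.injEq, add_left_inj] at h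
  exact Prod.ext h.1 h.2

theorem sh_ne_zero (n : ι) (a : ℕ × ι) : sh a ≠ (0, n) := by
  intro h
  have := congrArg Prod.fst h
  simp [sh] at this

/-- the sign `(-1)^i` -/
def sgn (k : Type u) [Field k] : ℕ × ι → k := fun a => (-1) ^ a.1

theorem sgn_mul_self (a : ℕ × ι) : sgn k a * sgn k a = 1 := by
  unfold sgn
  rw [← mul_pow]
  simp

theorem sgn_sh (a : ℕ × ι) : sgn k (sh a) = - sgn k a := by
  unfold sgn sh
  rw [pow_succ]
  ring

variable {d : V →ₗ[k] V} (hd : ∀ a x, x ∈ pc a → d x ∈ pc (sh a))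
variable {d' : W →ₗ[k] W} (hd' : ∀ a x, x ∈ pc' a → d' x ∈ pc' (sh a))
variable (sp : Splitting pc sh d) (sp' : Splitting pc' sh d')

variable (pc pc') in
/-- the piece of total degree `q` and internal degree `n` of the tensor product -/
def E (q : ℕ) (n : ι) : Submodule k (V ⊗[k] W) :=
  ⨆ (i : ℕ) (j : ℕ) (_ : i + j = q), tsp (pc (i, n)) (pc' (j, n))

theorem tsp_le_E {i j q : ℕ} (h : i + j = q) (n : ι) : tsp (pc (i, n)) (pc' (j, n)) ≤ E pc pc' q n :=
  le_iSup_of_le i (le_iSup_of_le j (le_iSup_of_le h le_rfl))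

theorem E_le {q : ℕ} {n : ι} {C : Submodule k (V ⊗[k] W)}
    (h : ∀ i j, i + j = q → tsp (pc (i, n)) (pc' (j, n)) ≤ C) : E pc pc' q n ≤ C :=
  iSup_le fun i => iSup_le fun j => iSup_le fun hij => h i j hij

/-- the total differential, with the standard sign -/
noncomputable abbrev δ' (pc : ℕ × ι → Submodule k V) [DirectSum.Decomposition pc] (d : V →ₗ[k] V)
    (d' : W →ₗ[k] W) : V ⊗[k] W →ₗ[k] V ⊗[k] W := tδ pc d d' (sgn k)

include hd hd' in
theorem δ_E (q : ℕ) (n : ι) : (E pc pc' q n).map (δ' pc d d') ≤ E pc pc' (q + 1) n := by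
  rw [Submodule.map_le_iff_le_comap]
  apply E_le
  intro i j hij
  rw [← Submodule.map_le_iff_le_comap]
  apply map_tsp_le
  intro x hx y hy
  rw [tδ_tmul]
  apply add_mem
  · exact tsp_le_E (by omega : (i + 1) + j = q + 1) n (tmul_mem_tsp (hd (i, n) x hx) hy)
  · exact tsp_le_E (by omega : i + (j + 1) = q + 1) n
      (tmul_mem_tsp (scal_mem pc _ hx) (hd' (j, n) y hy))

theorem S_E (q : ℕ) (n : ι) :
    (E pc pc' (q + 1) n).map (tS (sgn k) sp sp') ≤ E pc pc' q n := by
  rw [Submodule.map_le_iff_le_comap]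
  apply E_le
  intro i j hij
  rw [← Submodule.map_le_iff_le_comap]
  apply map_tsp_le
  intro x hx y hy
  rw [tS_tmul]
  apply add_mem
  · cases i with
    | zero =>
      rw [sp.s_zero (0, n) (sh_ne_zero n) x hx, TensorProduct.zero_tmul]
      exact zero_mem _
    | succ i =>
      exact tsp_le_E (by omega : i + j = q) n (tmul_mem_tsp (sp.s_mem (i, n) x hx) hy)
  · cases j with
    | zero =>
      rw [sp'.s_zero (0, n) (sh_ne_zero n) y hy, TensorProduct.tmul_zero]
      exact zero_mem _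
    | succ j =>
      exact tsp_le_E (by omega : i + j = q) n
        (tmul_mem_tsp (scal_mem pc _ (sp.p_mem (i, n) x hx)) (sp'.s_mem (j, n) y hy))

theorem S_E_zero (n : ι) (z : V ⊗[k] W) (hz : z ∈ E pc pc' 0 n) : tS (sgn k) sp sp' z = 0 := by
  have : (E pc pc' 0 n).map (tS (sgn k) sp sp') ≤ ⊥ := by
    rw [Submodule.map_le_iff_le_comap]
    apply E_le
    intro i j hij
    rw [← Submodule.map_le_iff_le_comap]
    apply map_tsp_le
    intro x hx y hy
    obtain rfl : i = 0 := by omega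
    obtain rfl : j = 0 := by omega
    rw [tS_tmul, sp.s_zero (0, n) (sh_ne_zero n) x hx, sp'.s_zero (0, n) (sh_ne_zero n) y hy]
    simp
  exact (Submodule.mem_bot k).1 (this ⟨z, hz, rfl⟩)

/-- the harmonic part of a piece -/
def HV (a : ℕ × ι) : Submodule k V := (pc a).map sp.p

theorem HV_le (a : ℕ × ι) : HV sp a ≤ pc a := by
  rintro x ⟨y, hy, rfl⟩
  exact sp.p_mem a y hy

theorem p_of_mem_HV {a : ℕ × ι} {x : V} (hx : x ∈ HV sp a) : sp.p x = x := by
  obtain ⟨y, _, rfl⟩ := hx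
  exact sp.p_p y

theorem d_of_mem_HV {a : ℕ × ι} {x : V} (hx : x ∈ HV sp a) : d x = 0 := by
  obtain ⟨y, _, rfl⟩ := hx
  exact sp.d_p y

/-- the image of the projector on `E q n` -/
def PE (q : ℕ) (n : ι) : Submodule k (V ⊗[k] W) :=
  ⨆ (i : ℕ) (j : ℕ) (_ : i + j = q), tsp (HV sp (i, n)) (HV sp' (j, n))

theorem tsp_le_PE {i j q : ℕ} (h : i + j = q) (n : ι) :
    tsp (HV sp (i, n)) (HV sp' (j, n)) ≤ PE sp sp' q n :=
  le_iSup_of_le i (le_iSup_of_le j (le_iSup_of_le h le_rfl))

theorem PE_le_E (q : ℕ) (n : ι) : PE sp sp' q n ≤ E pc pc' q n :=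
  iSup_le fun i => iSup_le fun j => iSup_le fun hij =>
    (tsp_mono (HV_le sp _) (HV_le sp' _)).trans (tsp_le_E hij n)

theorem P_E (q : ℕ) (n : ι) : (E pc pc' q n).map (tP sp sp') ≤ PE sp sp' q n := by
  rw [Submodule.map_le_iff_le_comap]
  apply E_le
  intro i j hij
  rw [← Submodule.map_le_iff_le_comap]
  apply map_tsp_le
  intro x hx y hy
  rw [tP_tmul]
  exact tsp_le_PE sp sp' hij n (tmul_mem_tsp ⟨x, hx, rfl⟩ ⟨y, hy, rfl⟩)

theorem P_of_mem_PE {q : ℕ} {n : ι} {z : V ⊗[k] W} (hz : z ∈ PE sp sp' q n) :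
    tP sp sp' z = z := by
  have : PE sp sp' q n ≤ LinearMap.ker (tP sp sp' - LinearMap.id) := by
    refine iSup_le fun i => iSup_le fun j => iSup_le fun _ => Submodule.span_le.2 ?_
    rintro w ⟨x, hx, y, hy, rfl⟩
    rw [SetLike.mem_coe, LinearMap.mem_ker, LinearMap.sub_apply, tP_tmul, p_of_mem_HV sp hx,
      p_of_mem_HV sp' hy, LinearMap.id_apply, sub_self]
  have h := this hz
  rw [LinearMap.mem_ker, LinearMap.sub_apply, LinearMap.id_apply, sub_eq_zero] at h
  exact h

theorem δ_of_mem_PE {q : ℕ} {n : ι} {z : V ⊗[k] W} (hz : z ∈ PE sp sp' q n) :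
    δ' pc d d' z = 0 := by
  have : PE sp sp' q n ≤ LinearMap.ker (δ' pc d d') := by
    refine iSup_le fun i => iSup_le fun j => iSup_le fun _ => Submodule.span_le.2 ?_
    rintro w ⟨x, hx, y, hy, rfl⟩
    rw [SetLike.mem_coe, LinearMap.mem_ker, tδ_tmul, d_of_mem_HV sp hx, d_of_mem_HV sp' hy]
    simp
  exact LinearMap.mem_ker.1 (this hz)

theorem P_δ (z : V ⊗[k] W) : tP sp sp' (δ' pc d d' z) = 0 := by
  induction z using TensorProduct.induction_on with
  | zero => simp
  | tmul x y =>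
    rw [tδ_tmul, map_add, tP_tmul, tP_tmul, sp.p_d, sp'.p_d]
    simp
  | add a b ha hb => rw [map_add, map_add, ha, hb, add_zero]

include hd in
/-- every cocycle is cohomologous to its harmonic projection -/
theorem cocycle_eq (z : V ⊗[k] W) (hz : δ' pc d d' z = 0) :
    z = δ' pc d d' (tS (sgn k) sp sp' z) + tP sp sp' z := by
  have h := homotopy hd (sgn k) sgn_mul_self sgn_sh sp sp' z
  rw [hz, map_zero, add_zero] at h
  exact h.symm

end Kunneth

end Groth.Agent.Helper20.Kun
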