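import Mathlib
import Groth.Agent.Lib.Helper20.GrKun3

/-!
# The Künneth isomorphism (helper20)
-/

open DirectSum TensorProduct

namespace Groth.Agent.Helper20.Kun

universe u v

section Proj

variable {k : Type u} [Field k] {V : Type v} [AddCommGroup V] [Module k V]
variable {α : Type} [DecidableEq α] (pc : α → Submodule k V) [DirectSum.Decomposition pc]

/-- the projection onto the piece `pc a` -/
noncomputable def prj (a : α) : V →ₗ[k] V := scal pc fun b => if b = a then 1 else 0

theorem prj_same {a : α} {x : V} (hx : x ∈ pc a) : prj pc a x = x := by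
  unfold prj
  rw [scal_apply_mem pc _ hx, if_pos rfl, one_smul]

theorem prj_ne {a b : α} (h : b ≠ a) {x : V} (hx : x ∈ pc b) : prj pc a x = 0 := by
  unfold prj
  rw [scal_apply_mem pc _ hx, if_neg h, zero_smul]

end Proj

section Kunneth

variable {k : Type u} [Field k] {V : Type v} [AddCommGroup V] [Module k V]
  {W : Type v} [AddCommGroup W] [Module k W]
variable {ι : Type} [DecidableEq ι]
variable {pc : ℕ × ι → Submodule k V} [DirectSum.Decomposition pc]
variable {pc' : ℕ × ι → Submodule k W} [DirectSum.Decomposition pc']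
variable {d : V →ₗ[k] V} (hd : ∀ a x, x ∈ pc a → d x ∈ pc (sh a))
variable {d' : W →ₗ[k] W} (hd' : ∀ a x, x ∈ pc' a → d' x ∈ pc' (sh a))
variable (sp : Splitting pc sh d) (sp' : Splitting pc' sh d')

variable (pc pc' d d') in
/-- the coboundaries of total degree `q` and internal degree `n` -/
noncomputable def Bd : ℕ → ι → Submodule k (V ⊗[k] W)
  | 0, _ => ⊥
  | q + 1, n => (E pc pc' q n).map (δ' pc d d')

variable (pc pc' d d') in
/-- the cocycles of total degree `q` and internal degree `n` -/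
noncomputable def Zc (q : ℕ) (n : ι) : Submodule k (V ⊗[k] W) := E pc pc' q n ⊓ LinearMap.ker (δ' pc d d')

include hd in
theorem mem_Bd_of_P_eq_zero (q : ℕ) (n : ι) (z : V ⊗[k] W) (hz : z ∈ Zc pc pc' d d' q n)
    (hP : tP sp sp' z = 0) : z ∈ Bd pc pc' d d' q n := by
  have h := cocycle_eq hd sp sp' z (LinearMap.mem_ker.1 hz.2)
  rw [hP, add_zero] at h
  cases q with
  | zero =>
    rw [S_E_zero sp sp' n z hz.1, map_zero] at h
    rw [h]
    exact zero_mem _
  | succ q =>
    rw [h]
    exact ⟨_, S_E sp sp' q n ⟨z, hz.1, rfl⟩, rfl⟩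

theorem P_eq_zero_of_mem_Bd (q : ℕ) (n : ι) (z : V ⊗[k] W) (hz : z ∈ Bd pc pc' d d' q n) :
    tP sp sp' z = 0 := by
  cases q with
  | zero =>
    rw [(Submodule.mem_bot k).1 hz, map_zero]
  | succ q =>
    obtain ⟨y, _, rfl⟩ := hz
    exact P_δ sp sp' y

/-- the harmonic projection on cocycles -/
noncomputable def Θ (q : ℕ) (n : ι) : Zc pc pc' d d' q n →ₗ[k] PE sp sp' q n :=
  LinearMap.codRestrict (PE sp sp' q n) ((tP sp sp') ∘ₗ (Zc pc pc' d d' q n).subtype)
    fun z => P_E sp sp' q n ⟨z.1, z.2.1, rfl⟩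

theorem Θ_surjective (q : ℕ) (n : ι) : Function.Surjective (Θ sp sp' q n) := by
  rintro ⟨w, hw⟩
  refine ⟨⟨w, PE_le_E sp sp' q n hw, LinearMap.mem_ker.2 (δ_of_mem_PE sp sp' hw)⟩, ?_⟩
  apply Subtype.ext
  exact P_of_mem_PE sp sp' hw

include hd in
theorem Θ_ker (q : ℕ) (n : ι) :
    LinearMap.ker (Θ sp sp' q n) = (Bd pc pc' d d' q n).comap (Zc pc pc' d d' q n).subtype := by
  ext z
  rw [LinearMap.mem_ker, Submodule.mem_comap]
  constructor
  · intro h
    exact mem_Bd_of_P_eq_zero hd sp sp' q n z.1 z.2 (congrArg Subtype.val h)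
  · intro h
    apply Subtype.ext
    exact P_eq_zero_of_mem_Bd sp sp' q n z.1 h

/-- the assembly map from the product of the tensor products of the harmonic parts -/
noncomputable def Ψ (q : ℕ) (n : ι) :
    ((i : Fin (q + 1)) → ↥(HV sp ((i : ℕ), n)) ⊗[k] ↥(HV sp' (q - (i : ℕ), n))) →ₗ[k] V ⊗[k] W :=
  ∑ i : Fin (q + 1), (TensorProduct.map (HV sp ((i : ℕ), n)).subtype
    (HV sp' (q - (i : ℕ), n)).subtype) ∘ₗ LinearMap.proj i

theorem Ψ_apply (q : ℕ) (n : ι)
    (t : (i : Fin (q + 1)) → ↥(HV sp ((i : ℕ), n)) ⊗[k] ↥(HV sp' (q - (i : ℕ), n))) :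
    Ψ sp sp' q n t = ∑ i : Fin (q + 1), TensorProduct.map (HV sp ((i : ℕ), n)).subtype
      (HV sp' (q - (i : ℕ), n)).subtype (t i) := by
  simp [Ψ]

theorem prj_map (q : ℕ) (n : ι) (i i' : Fin (q + 1))
    (t : ↥(HV sp ((i' : ℕ), n)) ⊗[k] ↥(HV sp' (q - (i' : ℕ), n))) :
    TensorProduct.map (prj pc ((i : ℕ), n)) (prj pc' (q - (i : ℕ), n))
      (TensorProduct.map (HV sp ((i' : ℕ), n)).subtype (HV sp' (q - (i' : ℕ), n)).subtype t) =
    if i' = i then TensorProduct.map (HV sp ((i' : ℕ), n)).subtype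
      (HV sp' (q - (i' : ℕ), n)).subtype t else 0 := by
  induction t using TensorProduct.induction_on with
  | zero => simp
  | tmul x y =>
    rw [TensorProduct.map_tmul, TensorProduct.map_tmul]
    by_cases h : i' = i
    · subst h
      rw [if_pos rfl, Submodule.subtype_apply, Submodule.subtype_apply,
        prj_same pc (HV_le sp _ x.2), prj_same pc' (HV_le sp' _ y.2)]
    · rw [if_neg h]
      have h' : (((i' : ℕ), n) : ℕ × ι) ≠ ((i : ℕ), n) := by
        intro e
        apply h
        apply Fin.ext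
        exact congrArg Prod.fst e
      rw [Submodule.subtype_apply, prj_ne pc h' (HV_le sp _ x.2), TensorProduct.zero_tmul]
  | add a b ha hb =>
    rw [map_add, map_add, ha, hb]
    split_ifs <;> simp

theorem Ψ_injective (q : ℕ) (n : ι) : Function.Injective (Ψ sp sp' q n) := by
  rw [injective_iff_map_eq_zero]
  intro t ht
  funext i
  have h1 := congrArg (TensorProduct.map (prj pc ((i : ℕ), n)) (prj pc' (q - (i : ℕ), n))) ht
  rw [Ψ_apply, map_sum, map_zero] at h1
  simp only [prj_map] at h1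
  rw [Finset.sum_ite_eq' Finset.univ i] at h1
  simp only [Finset.mem_univ, if_true] at h1
  have hinj := TensorProduct.map_injective_of_flat_flat (HV sp ((i : ℕ), n)).subtype
    (HV sp' (q - (i : ℕ), n)).subtype (Submodule.injective_subtype _) (Submodule.injective_subtype _)
  apply hinj
  rw [h1]
  exact (map_zero _).symm

theorem Ψ_range (q : ℕ) (n : ι) : LinearMap.range (Ψ sp sp' q n) = PE sp sp' q n := by
  apply le_antisymm
  · rintro z ⟨t, rfl⟩
    rw [Ψ_apply]
    refine Submodule.sum_mem _ fun i _ => ?_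
    have h1 : TensorProduct.map (HV sp ((i : ℕ), n)).subtype (HV sp' (q - (i : ℕ), n)).subtype (t i) ∈
        LinearMap.range (TensorProduct.map (HV sp ((i : ℕ), n)).subtype
          (HV sp' (q - (i : ℕ), n)).subtype) := ⟨_, rfl⟩
    rw [range_map_subtype] at h1
    exact tsp_le_PE sp sp' (by have := i.2; omega) n h1
  · refine iSup_le fun i => iSup_le fun j => iSup_le fun hij => ?_
    have hi : i < q + 1 := by omega
    have hj : j = q - i := by omega
    subst hj
    rw [← range_map_subtype]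
    rintro z ⟨t, rfl⟩
    refine ⟨Pi.single (⟨i, hi⟩ : Fin (q + 1)) t, ?_⟩
    rw [Ψ_apply, Finset.sum_eq_single (⟨i, hi⟩ : Fin (q + 1))]
    · rw [Pi.single_eq_same]
    · intro b _ hb
      rw [Pi.single_eq_of_ne hb, map_zero]
    · intro h
      exact absurd (Finset.mem_univ _) h

include hd in
/-- **Künneth formula** for the tensor product of two split bigraded differential spaces -/
theorem kunneth (q : ℕ) (n : ι) :
    Nonempty ((↥(Zc pc pc' d d' q n) ⧸ (Bd pc pc' d d' q n).comap (Zc pc pc' d d' q n).subtype)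
      ≃ₗ[k] ((i : Fin (q + 1)) → ↥(HV sp ((i : ℕ), n)) ⊗[k] ↥(HV sp' (q - (i : ℕ), n)))) := by
  let e1 := (Θ sp sp' q n).quotKerEquivOfSurjective (Θ_surjective sp sp' q n)
  let e2 := Submodule.quotEquivOfEq _ _ (Θ_ker hd sp sp' q n)
  let e3 := LinearEquiv.ofInjective (Ψ sp sp' q n) (Ψ_injective sp sp' q n)
  let e4 := LinearEquiv.ofEq _ _ (Ψ_range sp sp' q n)
  exact ⟨e2.symm.trans (e1.trans (e4.symm.trans e3.symm))⟩

end Kunneth

end Groth.Agent.Helper20.Kun
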