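import Mathlib
import Groth.Agent.Lib.Helper20.GrKun4

/-!
# Connecting isomorphisms and harmonic parts (helper20)
-/

open DirectSum TensorProduct

namespace Groth.Agent.Helper20.Kun

universe u v

section Conn

variable {k : Type u} [Field k] {F : Type v} [AddCommGroup F] [Module k F]
  {F' : Type v} [AddCommGroup F'] [Module k F']
variable (δ : F →ₗ[k] F) (δ' : F' →ₗ[k] F') (π : F →ₗ[k] F')
  (hπ : ∀ x, π (δ x) = δ' (π x)) (hδ : ∀ x, δ (δ x) = 0)
variable (A1 A2 : Submodule k F) (A1' : Submodule k F')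
  (h12 : A1.map δ ≤ A2) (hA1 : A1.map π = A1')
  (hex : ∀ z ∈ A2, δ z = 0 → z ∈ A1.map δ)

/-- the correspondence space `{e ∈ A1 | δ e ∈ ker π}` -/
def corr : Submodule k F := A1 ⊓ (LinearMap.ker π).comap δ

/-- the sub cocycles -/
def subZ : Submodule k F := A2 ⊓ LinearMap.ker π ⊓ LinearMap.ker δ

/-- the sub coboundaries -/
def subB : Submodule k F := (A1 ⊓ LinearMap.ker π).map δ

/-- the quotient cocycles -/
def quoZ : Submodule k F' := A1' ⊓ LinearMap.ker δ'

/-- the image of the cocycles of `A1` -/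
def quoB : Submodule k F' := (A1 ⊓ LinearMap.ker δ).map π

include h12 hδ in
/-- `e ↦ [δ e]` -/
noncomputable def corrF : corr δ π A1 →ₗ[k]
    (↥(subZ δ π A2) ⧸ (subB δ π A1).comap (subZ δ π A2).subtype) :=
  (Submodule.mkQ _) ∘ₗ (LinearMap.codRestrict (subZ δ π A2) (δ ∘ₗ (corr δ π A1).subtype)
    fun e => ⟨⟨h12 ⟨e.1, e.2.1, rfl⟩, e.2.2⟩, LinearMap.mem_ker.2 (hδ e.1)⟩)

include hπ hA1 in
/-- `e ↦ [π e]` -/
noncomputable def corrG : corr δ π A1 →ₗ[k]
    (↥(quoZ δ' A1') ⧸ (quoB δ π A1).comap (quoZ δ' A1').subtype) :=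
  (Submodule.mkQ _) ∘ₗ (LinearMap.codRestrict (quoZ δ' A1') (π ∘ₗ (corr δ π A1).subtype)
    fun e => ⟨hA1 ▸ ⟨e.1, e.2.1, rfl⟩, by
      show δ' (π e.1) = 0
      rw [← hπ]
      exact e.2.2⟩)

include hex in
theorem corrF_surjective : Function.Surjective (corrF δ π hδ A1 A2 h12) := by
  intro w
  obtain ⟨⟨z, hz⟩, rfl⟩ := Submodule.Quotient.mk_surjective _ w
  obtain ⟨e, he, rfl⟩ := hex z hz.1.1 (LinearMap.mem_ker.1 hz.2)
  exact ⟨⟨e, he, hz.1.2⟩, rfl⟩

theorem corrG_surjective : Function.Surjective (corrG δ δ' π hπ A1 A1' hA1) := by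
  intro w
  obtain ⟨⟨z, hz⟩, rfl⟩ := Submodule.Quotient.mk_surjective _ w
  have h1 : z ∈ A1.map π := hA1 ▸ hz.1
  obtain ⟨e, he, rfl⟩ := h1
  refine ⟨⟨e, he, ?_⟩, rfl⟩
  show π (δ e) = 0
  rw [hπ]
  exact LinearMap.mem_ker.1 hz.2

theorem corrF_ker : LinearMap.ker (corrF δ π hδ A1 A2 h12) =
    ((A1 ⊓ LinearMap.ker π) ⊔ (A1 ⊓ LinearMap.ker δ)).comap (corr δ π A1).subtype := by
  ext e
  rw [LinearMap.mem_ker, Submodule.mem_comap]
  unfold corrF
  rw [LinearMap.comp_apply, Submodule.mkQ_apply, Submodule.Quotient.mk_eq_zero,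
    Submodule.mem_comap]
  constructor
  · rintro ⟨κ, hκ, hκe⟩
    have hκe' : δ κ = δ e.1 := hκe
    have h1 : e.1 = κ + (e.1 - κ) := by abel
    rw [Submodule.subtype_apply, h1]
    refine Submodule.add_mem_sup hκ ⟨sub_mem e.2.1 hκ.1, ?_⟩
    show δ (e.1 - κ) = 0
    rw [map_sub, hκe', sub_self]
  · intro h
    obtain ⟨κ, hκ, c, hc, hκc⟩ := Submodule.mem_sup.1 h
    refine ⟨κ, hκ, ?_⟩
    show δ κ = δ e.1
    have : e.1 = κ + c := hκc.symm
    rw [this, map_add, LinearMap.mem_ker.1 hc.2, add_zero]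

theorem corrG_ker : LinearMap.ker (corrG δ δ' π hπ A1 A1' hA1) =
    ((A1 ⊓ LinearMap.ker π) ⊔ (A1 ⊓ LinearMap.ker δ)).comap (corr δ π A1).subtype := by
  ext e
  rw [LinearMap.mem_ker, Submodule.mem_comap]
  unfold corrG
  rw [LinearMap.comp_apply, Submodule.mkQ_apply, Submodule.Quotient.mk_eq_zero,
    Submodule.mem_comap]
  constructor
  · rintro ⟨c, hc, hce⟩
    have hce' : π c = π e.1 := hce
    have h1 : e.1 = (e.1 - c) + c := by abel
    rw [Submodule.subtype_apply, h1]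
    refine Submodule.add_mem_sup ⟨sub_mem e.2.1 hc.1, ?_⟩ hc
    show π (e.1 - c) = 0
    rw [map_sub, hce', sub_self]
  · intro h
    obtain ⟨κ, hκ, c, hc, hκc⟩ := Submodule.mem_sup.1 h
    refine ⟨c, hc, ?_⟩
    show π c = π e.1
    have : e.1 = κ + c := hκc.symm
    rw [this, map_add, LinearMap.mem_ker.1 hκ.2, zero_add]

include hπ hδ h12 hA1 hex in
/-- **the connecting isomorphism** -/
theorem nonempty_conn_equiv :
    Nonempty ((↥(subZ δ π A2) ⧸ (subB δ π A1).comap (subZ δ π A2).subtype) ≃ₗ[k]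
      (↥(quoZ δ' A1') ⧸ (quoB δ π A1).comap (quoZ δ' A1').subtype)) := by
  let e1 := (corrF δ π hδ A1 A2 h12).quotKerEquivOfSurjective
    (corrF_surjective δ π hδ A1 A2 h12 hex)
  let e2 := (corrG δ δ' π hπ A1 A1' hA1).quotKerEquivOfSurjective
    (corrG_surjective δ δ' π hπ A1 A1' hA1)
  let e3 := Submodule.quotEquivOfEq _ _
    ((corrF_ker δ π hδ A1 A2 h12).trans (corrG_ker δ δ' π hπ A1 A1' hA1).symm)
  exact ⟨e1.symm.trans (e3.trans e2)⟩

end Conn

section Harm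

variable {k : Type u} [Field k] {V : Type v} [AddCommGroup V] [Module k V]
variable {ι : Type} [DecidableEq ι]
variable {pc : ℕ × ι → Submodule k V} [DirectSum.Decomposition pc]
variable {d : V →ₗ[k] V} (sp : Splitting pc sh d)

variable (pc d) in
/-- the coboundaries of the piece `(i, n)` -/
def Bv : ℕ → ι → Submodule k V
  | 0, _ => ⊥
  | i + 1, n => (pc (i, n)).map d

/-- the harmonic projection on the cocycles of a piece -/
noncomputable def harm (i : ℕ) (n : ι) : ↥(pc (i, n) ⊓ LinearMap.ker d) →ₗ[k] ↥(HV sp (i, n)) :=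
  LinearMap.codRestrict (HV sp (i, n)) (sp.p ∘ₗ (pc (i, n) ⊓ LinearMap.ker d).subtype)
    fun x => ⟨x.1, x.2.1, rfl⟩

theorem harm_surjective (i : ℕ) (n : ι) : Function.Surjective (harm sp i n) := by
  rintro ⟨h, hh⟩
  refine ⟨⟨h, HV_le sp _ hh, LinearMap.mem_ker.2 (d_of_mem_HV sp hh)⟩, Subtype.ext ?_⟩
  exact p_of_mem_HV sp hh

theorem harm_ker (i : ℕ) (n : ι) : LinearMap.ker (harm sp i n) =
    (Bv pc d i n).comap (pc (i, n) ⊓ LinearMap.ker d).subtype := by
  ext x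
  rw [LinearMap.mem_ker, Submodule.mem_comap, Submodule.subtype_apply]
  constructor
  · intro h
    have hp : sp.p x.1 = 0 := congrArg Subtype.val h
    have hx := sp.hom x.1
    rw [hp, add_zero, LinearMap.mem_ker.1 x.2.2, map_zero, add_zero] at hx
    cases i with
    | zero =>
      rw [sp.s_zero (0, n) (sh_ne_zero n) x.1 x.2.1, map_zero] at hx
      rw [← hx]
      exact zero_mem _
    | succ i =>
      rw [← hx]
      exact ⟨_, sp.s_mem (i, n) x.1 x.2.1, rfl⟩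
  · intro h
    apply Subtype.ext
    show sp.p x.1 = 0
    cases i with
    | zero =>
      rw [(Submodule.mem_bot k).1 h, map_zero]
    | succ i =>
      obtain ⟨y, _, hy⟩ := h
      rw [← hy, sp.p_d]

/-- the harmonic part of a piece is its cohomology -/
theorem nonempty_harm_equiv (i : ℕ) (n : ι) :
    Nonempty ((↥(pc (i, n) ⊓ LinearMap.ker d) ⧸
      (Bv pc d i n).comap (pc (i, n) ⊓ LinearMap.ker d).subtype) ≃ₗ[k] ↥(HV sp (i, n))) :=
  ⟨(Submodule.quotEquivOfEq _ _ (harm_ker sp i n)).symm.trans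
    ((harm sp i n).quotKerEquivOfSurjective (harm_surjective sp i n))⟩

theorem HV_zero (n : ι) : HV sp (0, n) = pc (0, n) ⊓ LinearMap.ker d := by
  apply le_antisymm
  · intro x hx
    exact ⟨HV_le sp _ hx, LinearMap.mem_ker.2 (d_of_mem_HV sp hx)⟩
  · intro x hx
    have h := sp.hom x
    rw [LinearMap.mem_ker.1 hx.2, map_zero, sp.s_zero (0, n) (sh_ne_zero n) x hx.1, map_zero,
      zero_add, zero_add] at h
    exact ⟨x, hx.1, h⟩

end Harm

end Groth.Agent.Helper20.Kun
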