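import Mathlib
import Groth.Agent.Lib.Helper20.GrKun5

/-!
# Decompositions from projections; quotient decompositions (helper20)
-/

open DirectSum TensorProduct

namespace Groth.Agent.Helper20.Kun

universe u v

section Proj

variable {k : Type u} [Field k] {V : Type v} [AddCommGroup V] [Module k V]
variable {α : Type} [DecidableEq α] (pc : α → Submodule k V)

/-- a family of subspaces with compatible projections spanning the space is an internal direct
sum -/
theorem isInternal_of_proj (P : α → V →ₗ[k] V) (h1 : ∀ a x, x ∈ pc a → P a x = x)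
    (h2 : ∀ a b x, b ≠ a → x ∈ pc b → P a x = 0) (h3 : ⨆ a, pc a = ⊤) :
    DirectSum.IsInternal pc := by
  apply DirectSum.isInternal_submodule_of_iSupIndep_of_iSup_eq_top _ h3
  intro a
  rw [Submodule.disjoint_def]
  intro x hx hx'
  have h4 : (⨆ b, ⨆ (_ : b ≠ a), pc b) ≤ LinearMap.ker (P a) :=
    iSup_le fun b => iSup_le fun hb x hx => LinearMap.mem_ker.2 (h2 a b x hb hx)
  rw [← h1 a x hx]
  exact LinearMap.mem_ker.1 (h4 hx')

end Proj

section Quot

variable {k : Type u} [Field k] {V : Type v} [AddCommGroup V] [Module k V]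
variable {α : Type} [DecidableEq α] (pc : α → Submodule k V) [DirectSum.Decomposition pc]
variable (G : Submodule k V) (hG : ∀ a x, x ∈ G → prj pc a x ∈ G)

/-- the pieces of a quotient -/
def qpc : α → Submodule k (V ⧸ G) := fun a => (pc a).map G.mkQ

theorem mk_mem_qpc {a : α} {x : V} (hx : x ∈ pc a) : G.mkQ x ∈ qpc pc G a := ⟨x, hx, rfl⟩

/-- the projections of the quotient -/
noncomputable def qP (a : α) : (V ⧸ G) →ₗ[k] (V ⧸ G) :=
  G.mapQ G (prj pc a) (fun x hx => hG a x hx)

theorem qP_mk (a : α) (x : V) : qP pc G hG a (G.mkQ x) = G.mkQ (prj pc a x) := rfl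

theorem iSup_pc_eq_top : ⨆ a, pc a = ⊤ := by
  rw [eq_top_iff]
  rintro x -
  induction x using DirectSum.Decomposition.inductionOn pc with
  | zero => exact zero_mem _
  | @homogeneous a x => exact Submodule.mem_iSup_of_mem a x.2
  | add x y hx hy => exact add_mem hx hy

include hG in
theorem qpc_isInternal : DirectSum.IsInternal (qpc pc G) := by
  apply isInternal_of_proj (qpc pc G) (qP pc G hG)
  · rintro a _ ⟨x, hx, rfl⟩
    rw [qP_mk, prj_same pc hx]
  · rintro a b _ hb ⟨x, hx, rfl⟩
    rw [qP_mk, prj_ne pc hb hx, map_zero]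
  · unfold qpc
    rw [← Submodule.map_iSup, iSup_pc_eq_top, Submodule.map_top, Submodule.range_mkQ]

/-- the decomposition of the quotient -/
@[reducible] noncomputable def qdec : DirectSum.Decomposition (qpc pc G) :=
  (qpc_isInternal pc G hG).chooseDecomposition

variable (d : V →ₗ[k] V) (hdG : ∀ x, x ∈ G → d x ∈ G)

/-- the differential of the quotient -/
noncomputable def qd : (V ⧸ G) →ₗ[k] (V ⧸ G) := G.mapQ G d (fun x hx => hdG x hx)

theorem qd_mk (x : V) : qd G d hdG (G.mkQ x) = G.mkQ (d x) := rfl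

theorem qd_mem {succ : α → α} (hd : ∀ a x, x ∈ pc a → d x ∈ pc (succ a)) (a : α) (x : V ⧸ G)
    (hx : x ∈ qpc pc G a) : qd G d hdG x ∈ qpc pc G (succ a) := by
  obtain ⟨y, hy, rfl⟩ := hx
  rw [qd_mk]
  exact mk_mem_qpc pc G (hd a y hy)

theorem qd_qd (hd2 : ∀ x, d (d x) = 0) (x : V ⧸ G) : qd G d hdG (qd G d hdG x) = 0 := by
  obtain ⟨y, rfl⟩ := G.mkQ_surjective x
  rw [qd_mk, qd_mk, hd2, map_zero]

end Quot

end Groth.Agent.Helper20.Kun
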