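import Mathlib
import Groth.Agent.Lib.Helper20.GrSeg2

/-!
# The Segre product as a bundled graded module; functoriality (helper20)
-/

open DirectSum TensorProduct

namespace Groth.Agent.Helper20.Seg

open Groth.Agent.Helper20.GrInj

universe u

section Seg

variable {k : Type u} [Field k] {R S T : Type u} [CommRing R] [CommRing S] [CommRing T]
  [Algebra k R] [Algebra k S] [Algebra k T]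
  (𝒜 : ℤ → Submodule k R) [GradedAlgebra 𝒜] (ℬ : ℤ → Submodule k S) [GradedAlgebra ℬ]
  (𝒯 : ℤ → Submodule k T) [GradedAlgebra 𝒯] (ψ : T →ₐ[k] R ⊗[k] S)
  (hT : GrSeg.IsSegreRing 𝒜 ℬ 𝒯 ψ)
  {W : Type u} [AddCommGroup W] [Module R W] [Module k W] [IsScalarTower k R W]
  (𝒲 : ℤ → AddSubgroup W) [DirectSum.Decomposition 𝒲] [SetLike.GradedSMul 𝒜 𝒲]
  {V : Type u} [AddCommGroup V] [Module S V] [Module k V] [IsScalarTower k S V]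
  (𝒱 : ℤ → AddSubgroup V) [DirectSum.Decomposition 𝒱] [SetLike.GradedSMul ℬ 𝒱]

noncomputable instance segGr_decomposition :
    DirectSum.Decomposition (segGr 𝒜 ℬ 𝒯 ψ hT 𝒲 𝒱) :=
  (segGr_isInternal 𝒜 ℬ 𝒯 ψ hT 𝒲 𝒱).chooseDecomposition

theorem val_smul (t : T) (z : SegC 𝒜 ℬ 𝒯 ψ hT 𝒲 𝒱) :
    valHom 𝒜 ℬ 𝒯 ψ hT 𝒲 𝒱 (t • z) = GrSeg.act k R S W V (ψ t) (valHom 𝒜 ℬ 𝒯 ψ hT 𝒲 𝒱 z) := rfl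

instance segGr_gradedSMul : SetLike.GradedSMul (toAdd 𝒯) (segGr 𝒜 ℬ 𝒯 ψ hT 𝒲 𝒱) where
  smul_mem := by
    intro e n t z ht hz
    rw [vadd_eq_add]
    exact act_mem_segrePiece 𝒜 ℬ 𝒲 𝒱 (psi_mem 𝒜 ℬ 𝒯 ψ hT ht) hz

/-- the Segre product `W # V` as a bundled graded `T`-module -/
noncomputable def SegG : GrLC.GMod.{u} (toAdd 𝒯) where
  carrier := SegC 𝒜 ℬ 𝒯 ψ hT 𝒲 𝒱
  gr := segGr 𝒜 ℬ 𝒯 ψ hT 𝒲 𝒱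

theorem mem_segGr {n : ℤ} {z : SegC 𝒜 ℬ 𝒯 ψ hT 𝒲 𝒱} :
    z ∈ segGr 𝒜 ℬ 𝒯 ψ hT 𝒲 𝒱 n ↔ valHom 𝒜 ℬ 𝒯 ψ hT 𝒲 𝒱 z ∈ GrSeg.segrePiece k 𝒲 𝒱 n := Iff.rfl

/-- elements of the Segre product from elements of the sum of the diagonal pieces -/
def mkSeg (z : W ⊗[k] V) (hz : z ∈ segK 𝒲 𝒱) : SegC 𝒜 ℬ 𝒯 ψ hT 𝒲 𝒱 := ⟨z, hz⟩

theorem val_mkSeg (z : W ⊗[k] V) (hz : z ∈ segK 𝒲 𝒱) :
    valHom 𝒜 ℬ 𝒯 ψ hT 𝒲 𝒱 (mkSeg 𝒜 ℬ 𝒯 ψ hT 𝒲 𝒱 z hz) = z := rfl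

theorem val_mem_segK (z : SegC 𝒜 ℬ 𝒯 ψ hT 𝒲 𝒱) : valHom 𝒜 ℬ 𝒯 ψ hT 𝒲 𝒱 z ∈ segK 𝒲 𝒱 := z.2

variable {W' : Type u} [AddCommGroup W'] [Module R W'] [Module k W'] [IsScalarTower k R W']
  (𝒲' : ℤ → AddSubgroup W') [DirectSum.Decomposition 𝒲'] [SetLike.GradedSMul 𝒜 𝒲']
  {V' : Type u} [AddCommGroup V'] [Module S V'] [Module k V'] [IsScalarTower k S V']
  (𝒱' : ℤ → AddSubgroup V') [DirectSum.Decomposition 𝒱'] [SetLike.GradedSMul ℬ 𝒱']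

theorem tmap_mem_segrePiece {f : W →ₗ[R] W'} (hf : GrLC.IsGrHom 𝒲 𝒲' f) {g : V →ₗ[S] V'}
    (hg : GrLC.IsGrHom 𝒱 𝒱' g) {n : ℤ} {z : W ⊗[k] V} (hz : z ∈ GrSeg.segrePiece k 𝒲 𝒱 n) :
    tmap f g z ∈ GrSeg.segrePiece k 𝒲' 𝒱' n := by
  induction hz using Submodule.span_induction with
  | mem z hz =>
    obtain ⟨w, hw, v, hv, rfl⟩ := hz
    rw [tmap_tmul]
    exact tmul_mem_segrePiece 𝒲' 𝒱' (hf n w hw) (hg n v hv)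
  | zero => rw [map_zero]; exact zero_mem _
  | add z w _ _ hz hw => rw [map_add]; exact add_mem hz hw
  | smul c z _ hz => rw [map_smul]; exact Submodule.smul_mem _ c hz

theorem tmap_mem_segK {f : W →ₗ[R] W'} (hf : GrLC.IsGrHom 𝒲 𝒲' f) {g : V →ₗ[S] V'}
    (hg : GrLC.IsGrHom 𝒱 𝒱' g) {z : W ⊗[k] V} (hz : z ∈ segK 𝒲 𝒱) :
    tmap f g z ∈ segK 𝒲' 𝒱' := by
  unfold segK at hz
  induction hz using Submodule.iSup_induction' with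
  | mem n z hz =>
    exact Submodule.mem_iSup_of_mem n (tmap_mem_segrePiece 𝒲 𝒱 𝒲' 𝒱' hf hg hz)
  | zero => rw [map_zero]; exact zero_mem _
  | add z w _ _ hz hw => rw [map_add]; exact add_mem hz hw

/-- functoriality of the Segre product -/
noncomputable def segMap (f : W →ₗ[R] W') (hf : GrLC.IsGrHom 𝒲 𝒲' f) (g : V →ₗ[S] V')
    (hg : GrLC.IsGrHom 𝒱 𝒱' g) :
    SegC 𝒜 ℬ 𝒯 ψ hT 𝒲 𝒱 →ₗ[T] SegC 𝒜 ℬ 𝒯 ψ hT 𝒲' 𝒱' where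
  toFun z := ⟨tmap f g z.1, tmap_mem_segK 𝒲 𝒱 𝒲' 𝒱' hf hg z.2⟩
  map_add' a b := by
    apply Subtype.ext
    exact (tmap (k := k) f g).map_add a.1 b.1
  map_smul' t z := by
    apply Subtype.ext
    exact (act_tmap f g (ψ t) z.1).symm

theorem val_segMap (f : W →ₗ[R] W') (hf : GrLC.IsGrHom 𝒲 𝒲' f) (g : V →ₗ[S] V')
    (hg : GrLC.IsGrHom 𝒱 𝒱' g) (z : SegC 𝒜 ℬ 𝒯 ψ hT 𝒲 𝒱) :
    valHom 𝒜 ℬ 𝒯 ψ hT 𝒲' 𝒱' (segMap 𝒜 ℬ 𝒯 ψ hT 𝒲 𝒱 𝒲' 𝒱' f hf g hg z) =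
      tmap f g (valHom 𝒜 ℬ 𝒯 ψ hT 𝒲 𝒱 z) := rfl

theorem segMap_isGrHom (f : W →ₗ[R] W') (hf : GrLC.IsGrHom 𝒲 𝒲' f) (g : V →ₗ[S] V')
    (hg : GrLC.IsGrHom 𝒱 𝒱' g) :
    GrLC.IsGrHom (segGr 𝒜 ℬ 𝒯 ψ hT 𝒲 𝒱) (segGr 𝒜 ℬ 𝒯 ψ hT 𝒲' 𝒱')
      (segMap 𝒜 ℬ 𝒯 ψ hT 𝒲 𝒱 𝒲' 𝒱' f hf g hg) :=
  fun _ _ hz => tmap_mem_segrePiece 𝒲 𝒱 𝒲' 𝒱' hf hg hz

end Seg

end Groth.Agent.Helper20.Seg
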