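import Mathlib
import Groth.Agent.Lib.Helper20.GrSeg3
import Groth.Agent.Lib.Helper8.LCGen

/-!
# Torsion and invertible elements on Segre products; retract sums (helper20)
-/

open DirectSum TensorProduct

namespace Groth.Agent.Helper20.Seg

open Groth.Agent.Helper20.GrInj Groth.Agent.Helper8

universe u

section RetractSum

variable {A : Type u} [CommRing A] (I : Ideal A) (q : ℕ)
  {X : Type u} [AddCommGroup X] [Module A X]

theorem Hmap_sum {Y : Type u} [AddCommGroup Y] [Module A Y] {α : Type*} (s : Finset α)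
    (f : α → X →ₗ[A] Y) : LC.Hmap I q (∑ a ∈ s, f a) = ∑ a ∈ s, LC.Hmap I q (f a) := by
  classical
  induction s using Finset.induction_on with
  | empty => simp [LC.Hmap_zero]
  | insert a s ha ih => rw [Finset.sum_insert ha, Finset.sum_insert ha, LC.Hmap_add, ih]

/-- a module whose identity is a finite sum of maps through acyclic modules is acyclic -/
theorem H_subsingleton_of_retract_sum {α : Type} [Fintype α] (Y : α → Type u)
    [∀ a, AddCommGroup (Y a)] [∀ a, Module A (Y a)]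
    (f : ∀ a, X →ₗ[A] Y a) (g : ∀ a, Y a →ₗ[A] X)
    (hfg : ∑ a, (g a) ∘ₗ (f a) = LinearMap.id)
    (hY : ∀ a, Subsingleton (LC.H I q (Y a))) : Subsingleton (LC.H I q X) := by
  refine ⟨fun x y => ?_⟩
  have h : ∀ z : LC.H I q X, z = 0 := by
    intro z
    have h1 : LC.Hmap I q (LinearMap.id : X →ₗ[A] X) z = z := by rw [LC.Hmap_id]; rfl
    rw [← hfg, Hmap_sum, LinearMap.sum_apply] at h1
    rw [← h1]
    apply Finset.sum_eq_zero
    intro a _
    rw [LC.Hmap_comp]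
    have : LC.Hmap I q (f a) z = 0 := (hY a).elim _ _
    rw [LinearMap.comp_apply, this, map_zero]
  rw [h x, h y]

end RetractSum

section Tors

variable {k : Type u} [Field k] {R S T : Type u} [CommRing R] [CommRing S] [CommRing T]
  [Algebra k R] [Algebra k S] [Algebra k T]
  (𝒜 : ℤ → Submodule k R) [GradedAlgebra 𝒜] (ℬ : ℤ → Submodule k S) [GradedAlgebra ℬ]
  (𝒯 : ℤ → Submodule k T) [GradedAlgebra 𝒯] (ψ : T →ₐ[k] R ⊗[k] S)
  (hT : GrSeg.IsSegreRing 𝒜 ℬ 𝒯 ψ)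
  {W : Type u} [AddCommGroup W] [Module R W] [Module k W] [IsScalarTower k R W]
  (𝒲 : ℤ → AddSubgroup W) [DirectSum.Decomposition 𝒲] [SetLike.GradedSMul 𝒜 𝒲]
  {V : Type u} [AddCommGroup V] [Module S V] [Module k V] [IsScalarTower k S V]
  (𝒱 : ℤ → AddSubgroup V) [DirectSum.Decomposition 𝒱] [SetLike.GradedSMul ℬ 𝒱]

/-- the irrelevant ideal -/
def irr {A : Type u} [CommRing A] [Algebra k A] (𝒜 : ℤ → Submodule k A) : Ideal A :=
  Ideal.span (⋃ n ∈ Set.Ioi (0 : ℤ), (𝒜 n : Set A))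

theorem mem_irr {A : Type u} [CommRing A] [Algebra k A] (𝒜 : ℤ → Submodule k A) {e : ℤ}
    (he : 0 < e) {a : A} (ha : a ∈ 𝒜 e) : a ∈ irr 𝒜 :=
  Ideal.subset_span (Set.mem_biUnion (Set.mem_Ioi.2 he) ha)

include hT in
theorem irr_le_comap_left :
    irr 𝒯 ≤ (Ideal.map (Algebra.TensorProduct.includeLeft : R →ₐ[k] R ⊗[k] S) (irr 𝒜)).comap ψ := by
  apply Ideal.span_le.2
  intro t ht
  obtain ⟨e, he, hte⟩ := Set.mem_iUnion₂.1 ht
  have h1 := psi_mem 𝒜 ℬ 𝒯 ψ hT hte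
  rw [SetLike.mem_coe, Ideal.mem_comap]
  generalize ψ t = x at h1 ⊢
  induction h1 using Submodule.span_induction with
  | mem x hx =>
    obtain ⟨a, ha, b, _, rfl⟩ := hx
    have : a ⊗ₜ[k] b = (1 ⊗ₜ[k] b : R ⊗[k] S) * (a ⊗ₜ[k] (1 : S)) := by
      rw [Algebra.TensorProduct.tmul_mul_tmul, one_mul, mul_one]
    rw [this]
    exact Ideal.mul_mem_left _ _ (Ideal.mem_map_of_mem _ (mem_irr 𝒜 (Set.mem_Ioi.1 he) ha))
  | zero => exact zero_mem _
  | add x y _ _ hx hy => exact add_mem hx hy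
  | smul c x _ hx =>
    rw [Algebra.smul_def]
    exact Ideal.mul_mem_left _ _ hx

include hT in
theorem irr_le_comap_right :
    irr 𝒯 ≤ (Ideal.map (Algebra.TensorProduct.includeRight : S →ₐ[k] R ⊗[k] S) (irr ℬ)).comap ψ := by
  apply Ideal.span_le.2
  intro t ht
  obtain ⟨e, he, hte⟩ := Set.mem_iUnion₂.1 ht
  have h1 := psi_mem 𝒜 ℬ 𝒯 ψ hT hte
  rw [SetLike.mem_coe, Ideal.mem_comap]
  generalize ψ t = x at h1 ⊢
  induction h1 using Submodule.span_induction with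
  | mem x hx =>
    obtain ⟨a, _, b, hb, rfl⟩ := hx
    have : a ⊗ₜ[k] b = (a ⊗ₜ[k] (1 : S) : R ⊗[k] S) * ((1 : R) ⊗ₜ[k] b) := by
      rw [Algebra.TensorProduct.tmul_mul_tmul, one_mul, mul_one]
    rw [this]
    exact Ideal.mul_mem_left _ _ (Ideal.mem_map_of_mem _ (mem_irr ℬ (Set.mem_Ioi.1 he) hb))
  | zero => exact zero_mem _
  | add x y _ _ hx hy => exact add_mem hx hy
  | smul c x _ hx =>
    rw [Algebra.smul_def]
    exact Ideal.mul_mem_left _ _ hx

omit [DirectSum.Decomposition 𝒲] [DirectSum.Decomposition 𝒱] in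
/-- elements of `I (R ⊗ S)` kill `w ⊗ v` when `I` kills `w` -/
theorem act_eq_zero_left (I : Ideal R) (w : W) (hw : ∀ a ∈ I, a • w = 0) (v : V)
    (x : R ⊗[k] S)
    (hx : x ∈ Ideal.map (Algebra.TensorProduct.includeLeft : R →ₐ[k] R ⊗[k] S) I) :
    GrSeg.act k R S W V x (w ⊗ₜ[k] v) = 0 := by
  unfold Ideal.map at hx
  induction hx using Submodule.span_induction with
  | mem x hx =>
    obtain ⟨a, ha, rfl⟩ := hx
    show GrSeg.act k R S W V (a ⊗ₜ[k] (1 : S)) (w ⊗ₜ[k] v) = 0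
    rw [GrSeg.act_tmul, hw a ha, TensorProduct.zero_tmul]
  | zero => rw [map_zero, LinearMap.zero_apply]
  | add x y _ _ hx hy => rw [map_add, LinearMap.add_apply, hx, hy, add_zero]
  | smul c x _ hx =>
    rw [smul_eq_mul, act_mul, hx, map_zero]

omit [DirectSum.Decomposition 𝒲] [DirectSum.Decomposition 𝒱] in
theorem act_eq_zero_right (I : Ideal S) (w : W) (v : V) (hv : ∀ a ∈ I, a • v = 0)
    (x : R ⊗[k] S)
    (hx : x ∈ Ideal.map (Algebra.TensorProduct.includeRight : S →ₐ[k] R ⊗[k] S) I) :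
    GrSeg.act k R S W V x (w ⊗ₜ[k] v) = 0 := by
  unfold Ideal.map at hx
  induction hx using Submodule.span_induction with
  | mem x hx =>
    obtain ⟨a, ha, rfl⟩ := hx
    show GrSeg.act k R S W V ((1 : R) ⊗ₜ[k] a) (w ⊗ₜ[k] v) = 0
    rw [GrSeg.act_tmul, hv a ha, TensorProduct.tmul_zero]
  | zero => rw [map_zero, LinearMap.zero_apply]
  | add x y _ _ hx hy => rw [map_add, LinearMap.add_apply, hx, hy, add_zero]
  | smul c x _ hx =>
    rw [smul_eq_mul, act_mul, hx, map_zero]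

end Tors

end Groth.Agent.Helper20.Seg
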