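import Mathlib
import Groth.Agent.Lib.Helper20.GrSeg4

/-!
# Torsion Segre products and Segre products with an invertible element (helper20)
-/

open DirectSum TensorProduct

namespace Groth.Agent.Helper20.Seg

open Groth.Agent.Helper20.GrInj Groth.Agent.Helper8

universe u

section Tors

variable {k : Type u} [Field k] {R S T : Type u} [CommRing R] [CommRing S] [CommRing T]
  [Algebra k R] [Algebra k S] [Algebra k T]
  (𝒜 : ℤ → Submodule k R) [GradedAlgebra 𝒜] (ℬ : ℤ → Submodule k S) [GradedAlgebra ℬ]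
  (𝒯 : ℤ → Submodule k T) [GradedAlgebra 𝒯] (ψ : T →ₐ[k] R ⊗[k] S)
  (hT : GrSeg.IsSegreRing 𝒜 ℬ 𝒯 ψ)
  {W : Type u} [AddCommGroup W] [Module R W] [Module k W] [IsScalarTower k R W]
  (𝒲 : ℤ → AddSubgroup W) [DirectSum.Decomposition 𝒲] [SetLike.GradedSMul 𝒜 𝒲]
  {V : Type u} [AddCommGroup V] [Module S V] [Module k V] [IsScalarTower k S V]
  (𝒱 : ℤ → AddSubgroup V) [DirectSum.Decomposition 𝒱] [SetLike.GradedSMul ℬ 𝒱]

include hT in
theorem psi_pow_mem_left (N : ℕ) {t : T} (ht : t ∈ irr 𝒯 ^ N) :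
    ψ t ∈ Ideal.map (Algebra.TensorProduct.includeLeft : R →ₐ[k] R ⊗[k] S) (irr 𝒜 ^ N) := by
  have h1 := Ideal.pow_right_mono (irr_le_comap_left 𝒜 ℬ 𝒯 ψ hT) N ht
  have h2 := Ideal.le_comap_pow (ψ : T →+* R ⊗[k] S) N h1
  rw [Ideal.mem_comap, ← Ideal.map_pow] at h2
  exact h2

include hT in
theorem psi_pow_mem_right (N : ℕ) {t : T} (ht : t ∈ irr 𝒯 ^ N) :
    ψ t ∈ Ideal.map (Algebra.TensorProduct.includeRight : S →ₐ[k] R ⊗[k] S) (irr ℬ ^ N) := by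
  have h1 := Ideal.pow_right_mono (irr_le_comap_right 𝒜 ℬ 𝒯 ψ hT) N ht
  have h2 := Ideal.le_comap_pow (ψ : T →+* R ⊗[k] S) N h1
  rw [Ideal.mem_comap, ← Ideal.map_pow] at h2
  exact h2

omit [DirectSum.Decomposition 𝒲] [DirectSum.Decomposition 𝒱] in
theorem exists_act_eq_zero_left (hW : LC.IsTors (irr 𝒜) W) (z : W ⊗[k] V) :
    ∃ N : ℕ, ∀ x ∈ Ideal.map (Algebra.TensorProduct.includeLeft : R →ₐ[k] R ⊗[k] S) (irr 𝒜 ^ N),
      GrSeg.act k R S W V x z = 0 := by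
  induction z using TensorProduct.induction_on with
  | zero => exact ⟨0, fun x _ => map_zero _⟩
  | tmul w v =>
    obtain ⟨N, hN⟩ := hW w
    exact ⟨N, fun x hx => act_eq_zero_left (irr 𝒜 ^ N) w hN v x hx⟩
  | add z z' hz hz' =>
    obtain ⟨N, hN⟩ := hz
    obtain ⟨N', hN'⟩ := hz'
    refine ⟨max N N', fun x hx => ?_⟩
    rw [map_add, hN x (Ideal.map_mono (Ideal.pow_le_pow_right (le_max_left N N')) hx),
      hN' x (Ideal.map_mono (Ideal.pow_le_pow_right (le_max_right N N')) hx), add_zero]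

omit [DirectSum.Decomposition 𝒲] [DirectSum.Decomposition 𝒱] in
theorem exists_act_eq_zero_right (hV : LC.IsTors (irr ℬ) V) (z : W ⊗[k] V) :
    ∃ N : ℕ, ∀ x ∈ Ideal.map (Algebra.TensorProduct.includeRight : S →ₐ[k] R ⊗[k] S) (irr ℬ ^ N),
      GrSeg.act k R S W V x z = 0 := by
  induction z using TensorProduct.induction_on with
  | zero => exact ⟨0, fun x _ => map_zero _⟩
  | tmul w v =>
    obtain ⟨N, hN⟩ := hV v
    exact ⟨N, fun x hx => act_eq_zero_right (irr ℬ ^ N) w v hN x hx⟩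
  | add z z' hz hz' =>
    obtain ⟨N, hN⟩ := hz
    obtain ⟨N', hN'⟩ := hz'
    refine ⟨max N N', fun x hx => ?_⟩
    rw [map_add, hN x (Ideal.map_mono (Ideal.pow_le_pow_right (le_max_left N N')) hx),
      hN' x (Ideal.map_mono (Ideal.pow_le_pow_right (le_max_right N N')) hx), add_zero]

/-- `W # V` is torsion when `W` is -/
theorem isTors_seg_left (hW : LC.IsTors (irr 𝒜) W) :
    LC.IsTors (irr 𝒯) (SegC 𝒜 ℬ 𝒯 ψ hT 𝒲 𝒱) := by
  intro z
  obtain ⟨N, hN⟩ := exists_act_eq_zero_left (S := S) 𝒜 (V := V) hW (valHom 𝒜 ℬ 𝒯 ψ hT 𝒲 𝒱 z)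
  refine ⟨N, fun t ht => ?_⟩
  apply valHom_injective
  rw [val_smul, map_zero]
  exact hN _ (psi_pow_mem_left 𝒜 ℬ 𝒯 ψ hT N ht)

/-- `W # V` is torsion when `V` is -/
theorem isTors_seg_right (hV : LC.IsTors (irr ℬ) V) :
    LC.IsTors (irr 𝒯) (SegC 𝒜 ℬ 𝒯 ψ hT 𝒲 𝒱) := by
  intro z
  obtain ⟨N, hN⟩ := exists_act_eq_zero_right (R := R) ℬ (W := W) hV (valHom 𝒜 ℬ 𝒯 ψ hT 𝒲 𝒱 z)
  refine ⟨N, fun t ht => ?_⟩
  apply valHom_injective
  rw [val_smul, map_zero]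
  exact hN _ (psi_pow_mem_right 𝒜 ℬ 𝒯 ψ hT N ht)

end Tors

section Bij

variable {k : Type u} [Field k] {R : Type u} [CommRing R] [Algebra k R]
  (𝒜 : ℤ → Submodule k R) [GradedAlgebra 𝒜]
  {W : Type u} [AddCommGroup W] [Module R W] [Module k W] [IsScalarTower k R W]
  (𝒲 : ℤ → AddSubgroup W) [DirectSum.Decomposition 𝒲] [SetLike.GradedSMul 𝒜 𝒲]

/-- graded preimages under a surjective homogeneous multiplication -/
theorem exists_preimage_graded {D : ℤ} {a : R} (ha : a ∈ 𝒜 D)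
    (hs : Function.Surjective (fun w : W => a • w)) {n : ℤ} {w : W} (hw : w ∈ 𝒲 n) :
    ∃ w' ∈ 𝒲 (n - D), a • w' = w := by
  obtain ⟨w'', hw''⟩ := hs w
  refine ⟨(decompose 𝒲 w'' (n - D) : W), (decompose 𝒲 w'' (n - D)).2, ?_⟩
  have h := decompose_smul_of_mem 𝒜 𝒲 ha w'' (n - D)
  rw [← h]
  have h2 : a • w'' = w := hw''
  rw [h2, add_sub_cancel, decompose_of_mem_same 𝒲 hw]

theorem smul_pow_bijective {x : R} (hx : Function.Bijective (fun w : W => x • w)) (n : ℕ) :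
    Function.Bijective (fun w : W => x ^ n • w) := by
  have := hx.iterate n
  rwa [smul_iterate] at this

end Bij

end Groth.Agent.Helper20.Seg
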