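import Mathlib
import Groth.Agent.Lib.Helper20.GrSeg5

/-!
# An invertible element of the irrelevant ideal on a Segre product (helper20)
-/

open DirectSum TensorProduct

namespace Groth.Agent.Helper20.Seg

open Groth.Agent.Helper20.GrInj Groth.Agent.Helper8

universe u

section Bij

variable {k : Type u} [Field k] {R S T : Type u} [CommRing R] [CommRing S] [CommRing T]
  [Algebra k R] [Algebra k S] [Algebra k T]
  (𝒜 : ℤ → Submodule k R) [GradedAlgebra 𝒜] (ℬ : ℤ → Submodule k S) [GradedAlgebra ℬ]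
  (𝒯 : ℤ → Submodule k T) [GradedAlgebra 𝒯] (ψ : T →ₐ[k] R ⊗[k] S)
  (hT : GrSeg.IsSegreRing 𝒜 ℬ 𝒯 ψ)
  {W : Type u} [AddCommGroup W] [Module R W] [Module k W] [IsScalarTower k R W]
  (𝒲 : ℤ → AddSubgroup W) [DirectSum.Decomposition 𝒲] [SetLike.GradedSMul 𝒜 𝒲]
  {V : Type u} [AddCommGroup V] [Module S V] [Module k V] [IsScalarTower k S V]
  (𝒱 : ℤ → AddSubgroup V) [DirectSum.Decomposition 𝒱] [SetLike.GradedSMul ℬ 𝒱]

omit [DirectSum.Decomposition 𝒲] [DirectSum.Decomposition 𝒱] in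
theorem act_tmul_eq_map (a : R) (b : S) :
    GrSeg.act k R S W V (a ⊗ₜ[k] b) =
      TensorProduct.map (Algebra.lsmul k k W a) (Algebra.lsmul k k V b) := by
  apply TensorProduct.ext'
  intro w v
  rw [GrSeg.act_tmul, TensorProduct.map_tmul]
  rfl

include hT in
/-- a product of powers of homogeneous elements acting bijectively gives an element of the
irrelevant ideal of `T` acting bijectively on the Segre product -/
theorem exists_smul_bijective {e e' : ℕ} (he : 0 < e) (he' : 0 < e') {x : R}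
    (hx : x ∈ 𝒜 (e : ℤ)) {y : S} (hy : y ∈ ℬ (e' : ℤ))
    (hxW : Function.Bijective (fun w : W => x • w))
    (hyV : Function.Bijective (fun v : V => y • v)) :
    ∃ t ∈ irr 𝒯, Function.Bijective (fun z : SegC 𝒜 ℬ 𝒯 ψ hT 𝒲 𝒱 => t • z) := by
  set D : ℤ := ((e * e' : ℕ) : ℤ) with hD
  have hDpos : 0 < D := by
    rw [hD]
    exact_mod_cast Nat.mul_pos he he'
  set a : R := x ^ e' with ha
  set b : S := y ^ e with hb
  have haD : a ∈ 𝒜 D := by
    have h := SetLike.pow_mem_graded e' hx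
    have e1 : e' • (e : ℤ) = D := by
      rw [hD, nsmul_eq_mul]; push_cast; ring
    rwa [e1] at h
  have hbD : b ∈ ℬ D := by
    have h := SetLike.pow_mem_graded e hy
    have e1 : e • (e' : ℤ) = D := by
      rw [hD, nsmul_eq_mul]; push_cast; ring
    rwa [e1] at h
  have habmem : a ⊗ₜ[k] b ∈ GrSeg.segrePiece k 𝒜 ℬ D :=
    Submodule.subset_span ⟨a, haD, b, hbD, rfl⟩
  rw [← hT.2 D] at habmem
  obtain ⟨t, htD, htab⟩ := habmem
  have htab' : ψ t = a ⊗ₜ[k] b := htab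
  refine ⟨t, mem_irr 𝒯 hDpos htD, ?_⟩
  have haW : Function.Bijective (fun w : W => a • w) := smul_pow_bijective hxW e'
  have hbV : Function.Bijective (fun v : V => b • v) := smul_pow_bijective hyV e
  constructor
  · intro z z' hzz'
    apply valHom_injective
    have h1 := congrArg (valHom 𝒜 ℬ 𝒯 ψ hT 𝒲 𝒱) hzz'
    simp only [val_smul] at h1
    rw [htab', act_tmul_eq_map] at h1
    exact TensorProduct.map_injective_of_flat_flat _ _ haW.1 hbV.1 h1
  · -- surjectivity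
    have key : segK 𝒲 𝒱 ≤ (segK 𝒲 𝒱).map (GrSeg.act k R S W V (ψ t)) := by
      unfold segK
      refine iSup_le fun n => Submodule.span_le.2 ?_
      rintro u ⟨w, hw, v, hv, rfl⟩
      obtain ⟨w', hw', hww'⟩ := exists_preimage_graded 𝒜 𝒲 haD haW.2 hw
      obtain ⟨v', hv', hvv'⟩ := exists_preimage_graded ℬ 𝒱 hbD hbV.2 hv
      refine ⟨w' ⊗ₜ[k] v', Submodule.mem_iSup_of_mem (n - D)
        (tmul_mem_segrePiece 𝒲 𝒱 hw' hv'), ?_⟩
      rw [htab', GrSeg.act_tmul, hww', hvv']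
    intro z
    obtain ⟨u, hu, huz⟩ := key (val_mem_segK 𝒜 ℬ 𝒯 ψ hT 𝒲 𝒱 z)
    refine ⟨mkSeg 𝒜 ℬ 𝒯 ψ hT 𝒲 𝒱 u hu, ?_⟩
    apply valHom_injective
    show GrSeg.act k R S W V (ψ t) u = _
    exact huz

end Bij

end Groth.Agent.Helper20.Seg
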