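import Mathlib
import Groth.Agent.Lib.Helper20.GrSeg6
import Groth.Agent.Lib.Helper20.GrKun5

/-!
# Nice graded modules: acyclicity and the torsion of Segre products (helper20)
-/

open DirectSum TensorProduct

namespace Groth.Agent.Helper20.Seg

open Groth.Agent.Helper20.GrInj Groth.Agent.Helper8 Groth.Agent.Helper20.Kun

universe u

section KStr

variable (k : Type u) [Field k] {R : Type u} [CommRing R] [Algebra k R]
  {𝒜 : ℤ → Submodule k R} [GradedAlgebra 𝒜]

/-- the `k`-structure of a graded module over a graded `k`-algebra -/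
@[reducible] noncomputable def gK (X : GrLC.GMod.{u} 𝒜) : Module k X.carrier :=
  Module.compHom X.carrier (algebraMap k R)

theorem gK_tower (X : GrLC.GMod.{u} 𝒜) :
    @IsScalarTower k R X.carrier _ _ (gK k X).toSMul :=
  letI := gK k X
  ⟨fun c r x => by
    show (c • r) • x = algebraMap k R c • (r • x)
    rw [Algebra.smul_def, mul_smul]⟩

end KStr

attribute [local instance] gK gK_tower

section Nice

variable {k : Type u} [Field k] {R : Type u} [CommRing R] [Algebra k R]
  (𝒜 : ℤ → Submodule k R) [GradedAlgebra 𝒜]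

/-- a graded module which is torsion or on which a homogeneous element of positive degree is
invertible -/
def IsPieceNice (Y : GrLC.GMod.{u} 𝒜) : Prop :=
  LC.IsTors (irr 𝒜) Y.carrier ∨
    ∃ (e : ℕ) (x : R), 0 < e ∧ x ∈ 𝒜 (e : ℤ) ∧ Function.Bijective (fun y : Y.carrier => x • y)

/-- a presentation of the identity of `X` as a finite sum of maps through nice pieces -/
structure NiceDec (X : GrLC.GMod.{u} 𝒜) : Type (u + 1) where
  α : Type
  [fin : Fintype α]
  Y : α → GrLC.GMod.{u} 𝒜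
  f : ∀ a, X.carrier →ₗ[R] (Y a).carrier
  g : ∀ a, (Y a).carrier →ₗ[R] X.carrier
  f_gr : ∀ a, GrLC.IsGrHom X.gr (Y a).gr (f a)
  g_gr : ∀ a, GrLC.IsGrHom (Y a).gr X.gr (g a)
  sum_eq : ∑ a, (g a) ∘ₗ (f a) = LinearMap.id
  nice : ∀ a, IsPieceNice 𝒜 (Y a)

attribute [instance] NiceDec.fin

/-- nice graded modules -/
def IsNice (X : GrLC.GMod.{u} 𝒜) : Prop := Nonempty (NiceDec 𝒜 X)

theorem pieceNice_acyclic [IsNoetherianRing R] (Y : GrLC.GMod.{u} 𝒜) (hY : IsPieceNice 𝒜 Y)
    (j : ℕ) : Subsingleton (LC.H (irr 𝒜) (j + 1) Y.carrier) := by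
  rcases hY with h | ⟨e, x, he, hx, hbij⟩
  · exact LC.IsTors.H_subsingleton (irr 𝒜) (j + 1) (by omega) Y.carrier h
  · exact LC.H_subsingleton_of_smul_bijective (irr 𝒜) (j + 1) Y.carrier
      (mem_irr 𝒜 (by exact_mod_cast he) hx) hbij

/-- nice modules are acyclic for the irrelevant ideal -/
theorem nice_acyclic [IsNoetherianRing R] (X : GrLC.GMod.{u} 𝒜) (hX : IsNice 𝒜 X) (j : ℕ) :
    Subsingleton (LC.H (irr 𝒜) (j + 1) X.carrier) := by
  obtain ⟨D⟩ := hX
  exact H_subsingleton_of_retract_sum (irr 𝒜) (j + 1) (fun a => (D.Y a).carrier) D.f D.g D.sum_eq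
    fun a => pieceNice_acyclic 𝒜 (D.Y a) (D.nice a) j

end Nice

end Groth.Agent.Helper20.Seg
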