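import Mathlib
import Groth.Agent.Lib.Helper20.GrSeg7

/-!
# Segre products of nice modules: acyclicity and torsion (helper20)
-/

open DirectSum TensorProduct

namespace Groth.Agent.Helper20.Seg

open Groth.Agent.Helper20.GrInj Groth.Agent.Helper8 Groth.Agent.Helper20.Kun

universe u

attribute [local instance] gK gK_tower

section RetractTensor

variable {k : Type u} [Field k] {R S : Type u} [CommRing R] [CommRing S] [Algebra k R]
  [Algebra k S]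
  {M N : Type u} [AddCommGroup M] [Module R M] [Module k M] [IsScalarTower k R M]
  [AddCommGroup N] [Module S N] [Module k N] [IsScalarTower k S N]

theorem sum_tmap_tmap {α β : Type} [Fintype α] [Fintype β] (Y : α → Type u)
    [∀ a, AddCommGroup (Y a)] [∀ a, Module R (Y a)] [∀ a, Module k (Y a)]
    [∀ a, IsScalarTower k R (Y a)]
    (Y' : β → Type u) [∀ b, AddCommGroup (Y' b)] [∀ b, Module S (Y' b)] [∀ b, Module k (Y' b)]
    [∀ b, IsScalarTower k S (Y' b)]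
    (f : ∀ a, M →ₗ[R] Y a) (g : ∀ a, Y a →ₗ[R] M) (hfg : ∑ a, (g a) ∘ₗ (f a) = LinearMap.id)
    (f' : ∀ b, N →ₗ[S] Y' b) (g' : ∀ b, Y' b →ₗ[S] N)
    (hfg' : ∑ b, (g' b) ∘ₗ (f' b) = LinearMap.id) (u : M ⊗[k] N) :
    ∑ p : α × β, tmap (k := k) (g p.1) (g' p.2) (tmap (k := k) (f p.1) (f' p.2) u) = u := by
  induction u using TensorProduct.induction_on with
  | zero => simp
  | tmul x y =>
    simp only [tmap_tmul]
    rw [Fintype.sum_prod_type]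
    have h1 : ∀ a : α, ∑ b : β, (g a (f a x)) ⊗ₜ[k] (g' b (f' b y)) = (g a (f a x)) ⊗ₜ[k] y := by
      intro a
      rw [← TensorProduct.tmul_sum]
      congr 1
      have := congrArg (fun φ => φ y) hfg'
      simpa [LinearMap.sum_apply] using this
    rw [Finset.sum_congr rfl fun a _ => h1 a, ← TensorProduct.sum_tmul]
    congr 1
    have := congrArg (fun φ => φ x) hfg
    simpa [LinearMap.sum_apply] using this
  | add u v hu hv =>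
    simp only [map_add, Finset.sum_add_distrib, hu, hv]

end RetractTensor

section NiceSeg

variable {k : Type u} [Field k] {R S T : Type u} [CommRing R] [CommRing S] [CommRing T]
  [Algebra k R] [Algebra k S] [Algebra k T]
  (𝒜 : ℤ → Submodule k R) [GradedAlgebra 𝒜] (ℬ : ℤ → Submodule k S) [GradedAlgebra ℬ]
  (𝒯 : ℤ → Submodule k T) [GradedAlgebra 𝒯] (ψ : T →ₐ[k] R ⊗[k] S)
  (hT : GrSeg.IsSegreRing 𝒜 ℬ 𝒯 ψ)

/-- the Segre product of two bundled graded modules -/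
abbrev SegX (X : GrLC.GMod.{u} 𝒜) (Y : GrLC.GMod.{u} ℬ) : Type u :=
  SegC 𝒜 ℬ 𝒯 ψ hT X.gr Y.gr

variable {𝒜 ℬ}

/-- the first map of the retract presentation of a Segre product of nice modules -/
noncomputable def niceF {X : GrLC.GMod.{u} 𝒜} {Y : GrLC.GMod.{u} ℬ} (D : NiceDec 𝒜 X)
    (D' : NiceDec ℬ Y) (p : D.α × D'.α) :
    SegX 𝒜 ℬ 𝒯 ψ hT X Y →ₗ[T] SegX 𝒜 ℬ 𝒯 ψ hT (D.Y p.1) (D'.Y p.2) :=
  segMap 𝒜 ℬ 𝒯 ψ hT X.gr Y.gr (D.Y p.1).gr (D'.Y p.2).gr (D.f p.1) (D.f_gr p.1) (D'.f p.2)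
    (D'.f_gr p.2)

/-- the second map of the retract presentation of a Segre product of nice modules -/
noncomputable def niceG {X : GrLC.GMod.{u} 𝒜} {Y : GrLC.GMod.{u} ℬ} (D : NiceDec 𝒜 X)
    (D' : NiceDec ℬ Y) (p : D.α × D'.α) :
    SegX 𝒜 ℬ 𝒯 ψ hT (D.Y p.1) (D'.Y p.2) →ₗ[T] SegX 𝒜 ℬ 𝒯 ψ hT X Y :=
  segMap 𝒜 ℬ 𝒯 ψ hT (D.Y p.1).gr (D'.Y p.2).gr X.gr Y.gr (D.g p.1) (D.g_gr p.1) (D'.g p.2)
    (D'.g_gr p.2)

theorem sum_niceG_niceF {X : GrLC.GMod.{u} 𝒜} {Y : GrLC.GMod.{u} ℬ} (D : NiceDec 𝒜 X)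
    (D' : NiceDec ℬ Y) :
    ∑ p : D.α × D'.α, (niceG 𝒯 ψ hT D D' p) ∘ₗ (niceF 𝒯 ψ hT D D' p) = LinearMap.id := by
  refine LinearMap.ext fun z => ?_
  apply valHom_injective 𝒜 ℬ 𝒯 ψ hT X.gr Y.gr
  rw [LinearMap.sum_apply, map_sum]
  have := sum_tmap_tmap (k := k) (fun a => (D.Y a).carrier) (fun b => (D'.Y b).carrier) D.f D.g
    D.sum_eq D'.f D'.g D'.sum_eq (valHom 𝒜 ℬ 𝒯 ψ hT X.gr Y.gr z)
  exact this

theorem val_eq_sum {X : GrLC.GMod.{u} 𝒜} {Y : GrLC.GMod.{u} ℬ} (D : NiceDec 𝒜 X)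
    (D' : NiceDec ℬ Y) (z : SegX 𝒜 ℬ 𝒯 ψ hT X Y) :
    valHom 𝒜 ℬ 𝒯 ψ hT X.gr Y.gr z = ∑ p : D.α × D'.α, tmap (k := k) (D.g p.1) (D'.g p.2)
      (valHom 𝒜 ℬ 𝒯 ψ hT (D.Y p.1).gr (D'.Y p.2).gr (niceF 𝒯 ψ hT D D' p z)) :=
  (sum_tmap_tmap (k := k) (fun a => (D.Y a).carrier) (fun b => (D'.Y b).carrier) D.f D.g
    D.sum_eq D'.f D'.g D'.sum_eq (valHom 𝒜 ℬ 𝒯 ψ hT X.gr Y.gr z)).symm

/-- the Segre product of two nice pieces is torsion or has an invertible element of the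
irrelevant ideal -/
theorem piece_seg {X : GrLC.GMod.{u} 𝒜} {Y : GrLC.GMod.{u} ℬ} (hX : IsPieceNice 𝒜 X)
    (hY : IsPieceNice ℬ Y) :
    LC.IsTors (irr 𝒜) X.carrier ∨ LC.IsTors (irr ℬ) Y.carrier ∨
      ∃ t ∈ irr 𝒯, Function.Bijective (fun z : SegX 𝒜 ℬ 𝒯 ψ hT X Y => t • z) := by
  rcases hX with h | ⟨e, x, he, hx, hbx⟩
  · exact Or.inl h
  rcases hY with h | ⟨e', y, he', hy, hby⟩
  · exact Or.inr (Or.inl h)
  exact Or.inr (Or.inr (exists_smul_bijective 𝒜 ℬ 𝒯 ψ hT X.gr Y.gr he he' hx hy hbx hby))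

/-- **Segre products of nice modules are acyclic** -/
theorem seg_nice_acyclic [IsNoetherianRing T] {X : GrLC.GMod.{u} 𝒜} {Y : GrLC.GMod.{u} ℬ}
    (hX : IsNice 𝒜 X) (hY : IsNice ℬ Y) (j : ℕ) :
    Subsingleton (LC.H (irr 𝒯) (j + 1) (SegX 𝒜 ℬ 𝒯 ψ hT X Y)) := by
  obtain ⟨D⟩ := hX
  obtain ⟨D'⟩ := hY
  refine H_subsingleton_of_retract_sum (irr 𝒯) (j + 1)
    (fun p : D.α × D'.α => SegX 𝒜 ℬ 𝒯 ψ hT (D.Y p.1) (D'.Y p.2))
    (niceF 𝒯 ψ hT D D') (niceG 𝒯 ψ hT D D') (sum_niceG_niceF 𝒯 ψ hT D D') fun p => ?_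
  rcases piece_seg 𝒯 ψ hT (D.nice p.1) (D'.nice p.2) with h | h | ⟨t, ht, hbij⟩
  · exact LC.IsTors.H_subsingleton (irr 𝒯) (j + 1) (by omega) _
      (isTors_seg_left 𝒜 ℬ 𝒯 ψ hT _ _ h)
  · exact LC.IsTors.H_subsingleton (irr 𝒯) (j + 1) (by omega) _
      (isTors_seg_right 𝒜 ℬ 𝒯 ψ hT _ _ h)
  · exact LC.H_subsingleton_of_smul_bijective (irr 𝒯) (j + 1) _ ht hbij

end NiceSeg

section Gam

variable {k : Type u} [Field k] {R S T : Type u} [CommRing R] [CommRing S] [CommRing T]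
  [Algebra k R] [Algebra k S] [Algebra k T]
  (𝒜 : ℤ → Submodule k R) [GradedAlgebra 𝒜] (ℬ : ℤ → Submodule k S) [GradedAlgebra ℬ]
  (𝒯 : ℤ → Submodule k T) [GradedAlgebra 𝒯] (ψ : T →ₐ[k] R ⊗[k] S)
  (hT : GrSeg.IsSegreRing 𝒜 ℬ 𝒯 ψ)

/-- the torsion of a graded module, as a `k`-subspace -/
noncomputable def gamK (X : GrLC.GMod.{u} 𝒜) : Submodule k X.carrier :=
  (LC.gam (irr 𝒜) X.carrier).restrictScalars k

theorem mem_gamK {X : GrLC.GMod.{u} 𝒜} {x : X.carrier} :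
    x ∈ gamK 𝒜 X ↔ x ∈ LC.gam (irr 𝒜) X.carrier := Iff.rfl

/-- the candidate for the torsion of a Segre product -/
noncomputable def gamSeg (X : GrLC.GMod.{u} 𝒜) (Y : GrLC.GMod.{u} ℬ) : Submodule k (X.carrier ⊗[k] Y.carrier) :=
  tsp (gamK 𝒜 X) ⊤ ⊔ tsp ⊤ (gamK ℬ Y)

variable {𝒜 ℬ}

include hT in
/-- elements of `Γ(X) ⊗ Y + X ⊗ Γ(Y)` are killed by a power of the irrelevant ideal of `T` -/
theorem exists_pow_act_eq_zero {X : GrLC.GMod.{u} 𝒜} {Y : GrLC.GMod.{u} ℬ}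
    (u : X.carrier ⊗[k] Y.carrier) (hu : u ∈ gamSeg 𝒜 ℬ X Y) :
    ∃ N : ℕ, ∀ t ∈ irr 𝒯 ^ N, GrSeg.act k R S X.carrier Y.carrier (ψ t) u = 0 := by
  have hadd : ∀ u v : X.carrier ⊗[k] Y.carrier,
      (∃ N : ℕ, ∀ t ∈ irr 𝒯 ^ N, GrSeg.act k R S X.carrier Y.carrier (ψ t) u = 0) →
      (∃ N : ℕ, ∀ t ∈ irr 𝒯 ^ N, GrSeg.act k R S X.carrier Y.carrier (ψ t) v = 0) →
      ∃ N : ℕ, ∀ t ∈ irr 𝒯 ^ N, GrSeg.act k R S X.carrier Y.carrier (ψ t) (u + v) = 0 := by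
    rintro u v ⟨N, hN⟩ ⟨N', hN'⟩
    refine ⟨max N N', fun t ht => ?_⟩
    rw [map_add, hN t (Ideal.pow_le_pow_right (le_max_left N N') ht),
      hN' t (Ideal.pow_le_pow_right (le_max_right N N') ht), add_zero]
  obtain ⟨u1, hu1, u2, hu2, rfl⟩ := Submodule.mem_sup.1 hu
  clear hu
  apply hadd
  · unfold tsp at hu1
    induction hu1 using Submodule.span_induction with
    | mem u hu =>
      obtain ⟨x, hx, y, _, rfl⟩ := hu
      obtain ⟨N, hN⟩ := hx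
      exact ⟨N, fun t ht => act_eq_zero_left (irr 𝒜 ^ N) x hN y _
        (psi_pow_mem_left 𝒜 ℬ 𝒯 ψ hT N ht)⟩
    | zero => exact ⟨0, fun t _ => map_zero _⟩
    | add u v _ _ hu hv => exact hadd u v hu hv
    | smul c u _ hu =>
      obtain ⟨N, hN⟩ := hu
      exact ⟨N, fun t ht => by rw [map_smul, hN t ht, smul_zero]⟩
  · unfold tsp at hu2
    induction hu2 using Submodule.span_induction with
    | mem u hu =>
      obtain ⟨x, _, y, hy, rfl⟩ := hu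
      obtain ⟨N, hN⟩ := hy
      exact ⟨N, fun t ht => act_eq_zero_right (irr ℬ ^ N) x y hN _
        (psi_pow_mem_right 𝒜 ℬ 𝒯 ψ hT N ht)⟩
    | zero => exact ⟨0, fun t _ => map_zero _⟩
    | add u v _ _ hu hv => exact hadd u v hu hv
    | smul c u _ hu =>
      obtain ⟨N, hN⟩ := hu
      exact ⟨N, fun t ht => by rw [map_smul, hN t ht, smul_zero]⟩

/-- the easy half of the description of the torsion of a Segre product -/
theorem mem_gam_of_val_mem_gamSeg {X : GrLC.GMod.{u} 𝒜} {Y : GrLC.GMod.{u} ℬ}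
    (z : SegX 𝒜 ℬ 𝒯 ψ hT X Y) (hz : valHom 𝒜 ℬ 𝒯 ψ hT X.gr Y.gr z ∈ gamSeg 𝒜 ℬ X Y) :
    z ∈ LC.gam (irr 𝒯) (SegX 𝒜 ℬ 𝒯 ψ hT X Y) := by
  obtain ⟨N, hN⟩ := exists_pow_act_eq_zero 𝒯 ψ hT _ hz
  refine ⟨N, fun t ht => ?_⟩
  apply valHom_injective
  rw [val_smul, map_zero]
  exact hN t ht

omit [GradedAlgebra ℬ] in
theorem tmap_mem_tsp_left {X X' : GrLC.GMod.{u} 𝒜} {Y Y' : Type u} [AddCommGroup Y] [Module S Y]
    [Module k Y] [IsScalarTower k S Y] [AddCommGroup Y'] [Module S Y']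
    [Module k Y'] [IsScalarTower k S Y'] (g : X.carrier →ₗ[R] X'.carrier) (g' : Y →ₗ[S] Y')
    (hg : ∀ x, g x ∈ LC.gam (irr 𝒜) X'.carrier) (u : X.carrier ⊗[k] Y) :
    tmap (k := k) g g' u ∈ tsp (gamK 𝒜 X') (⊤ : Submodule k Y') := by
  induction u using TensorProduct.induction_on with
  | zero => rw [map_zero]; exact zero_mem _
  | tmul x y => rw [tmap_tmul]; exact tmul_mem_tsp (hg x) trivial
  | add u v hu hv => rw [map_add]; exact add_mem hu hv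

omit [GradedAlgebra 𝒜] in
theorem tmap_mem_tsp_right {X X' : Type u} [AddCommGroup X] [Module R X]
    [Module k X] [IsScalarTower k R X] [AddCommGroup X'] [Module R X']
    [Module k X'] [IsScalarTower k R X'] {Y Y' : GrLC.GMod.{u} ℬ} (g : X →ₗ[R] X')
    (g' : Y.carrier →ₗ[S] Y'.carrier)
    (hg : ∀ y, g' y ∈ LC.gam (irr ℬ) Y'.carrier) (u : X ⊗[k] Y.carrier) :
    tmap (k := k) g g' u ∈ tsp (⊤ : Submodule k X') (gamK ℬ Y') := by
  induction u using TensorProduct.induction_on with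
  | zero => rw [map_zero]; exact zero_mem _
  | tmul x y => rw [tmap_tmul]; exact tmul_mem_tsp trivial (hg y)
  | add u v hu hv => rw [map_add]; exact add_mem hu hv

theorem map_mem_gam_of_isTors {A : Type u} [CommRing A] (I : Ideal A) {M N : Type u}
    [AddCommGroup M] [Module A M] [AddCommGroup N] [Module A N] (hM : LC.IsTors I M)
    (g : M →ₗ[A] N) (x : M) : g x ∈ LC.gam I N := by
  obtain ⟨n, hn⟩ := hM x
  exact ⟨n, fun a ha => by rw [← map_smul, hn a ha, map_zero]⟩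

theorem map_mem_gam {A : Type u} [CommRing A] (I : Ideal A) {M N : Type u}
    [AddCommGroup M] [Module A M] [AddCommGroup N] [Module A N]
    (g : M →ₗ[A] N) {x : M} (hx : x ∈ LC.gam I M) : g x ∈ LC.gam I N := by
  obtain ⟨n, hn⟩ := hx
  exact ⟨n, fun a ha => by rw [← map_smul, hn a ha, map_zero]⟩

theorem eq_zero_of_mem_gam_of_bijective {A : Type u} [CommRing A] (I : Ideal A) {M : Type u}
    [AddCommGroup M] [Module A M] {t : A} (ht : t ∈ I)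
    (hbij : Function.Bijective (fun z : M => t • z)) {x : M} (hx : x ∈ LC.gam I M) : x = 0 := by
  obtain ⟨n, hn⟩ := hx
  have h1 := hn (t ^ n) (Ideal.pow_mem_pow ht n)
  have h2 : Function.Injective (fun z : M => t ^ n • z) := by
    have := hbij.1.iterate n
    rwa [smul_iterate] at this
  apply h2
  show t ^ n • x = t ^ n • 0
  rw [h1, smul_zero]

/-- **the torsion of a Segre product of nice modules** -/
theorem val_mem_gamSeg_of_mem_gam {X : GrLC.GMod.{u} 𝒜} {Y : GrLC.GMod.{u} ℬ}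
    (hX : IsNice 𝒜 X) (hY : IsNice ℬ Y)
    (z : SegX 𝒜 ℬ 𝒯 ψ hT X Y) (hz : z ∈ LC.gam (irr 𝒯) (SegX 𝒜 ℬ 𝒯 ψ hT X Y)) :
    valHom 𝒜 ℬ 𝒯 ψ hT X.gr Y.gr z ∈ gamSeg 𝒜 ℬ X Y := by
  obtain ⟨D⟩ := hX
  obtain ⟨D'⟩ := hY
  rw [val_eq_sum 𝒯 ψ hT D D' z]
  refine Submodule.sum_mem _ fun p _ => ?_
  have hF : niceF 𝒯 ψ hT D D' p z ∈ LC.gam (irr 𝒯) _ := map_mem_gam (irr 𝒯) _ hz
  rcases piece_seg 𝒯 ψ hT (D.nice p.1) (D'.nice p.2) with h | h | ⟨t, ht, hbij⟩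
  · exact Submodule.mem_sup_left (tmap_mem_tsp_left (D.g p.1) (D'.g p.2)
      (fun x => map_mem_gam_of_isTors (irr 𝒜) h (D.g p.1) x) _)
  · exact Submodule.mem_sup_right (tmap_mem_tsp_right (D.g p.1) (D'.g p.2)
      (fun y => map_mem_gam_of_isTors (irr ℬ) h (D'.g p.2) y) _)
  · rw [eq_zero_of_mem_gam_of_bijective (irr 𝒯) ht hbij hF, map_zero, map_zero]
    exact zero_mem _

end Gam

end Groth.Agent.Helper20.Seg
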