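import Mathlib
import Groth.Agent.Lib.Helper20.GrSeg8

/-!
# Direct sums of graded modules (helper20)
-/

open DirectSum

namespace Groth.Agent.Helper20.GrInj

universe u

section Crit

variable {ι : Type} [DecidableEq ι]

/-- criterion for an internal direct sum of additive subgroups, with generation stated by `⨆` -/
theorem isInternal_of_iSup {N : Type*} [AddCommGroup N] (𝒩 : ι → AddSubgroup N)
    (hgen : ∀ n : N, n ∈ ⨆ i, 𝒩 i)
    (hind : ∀ (s : Finset ι) (c : ι → N), (∀ i, c i ∈ 𝒩 i) → ∑ i ∈ s, c i = 0 → ∀ i ∈ s, c i = 0) :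
    DirectSum.IsInternal 𝒩 := by
  classical
  apply isInternal_of 𝒩 _ hind
  intro n
  refine AddSubgroup.iSup_induction 𝒩 (C := fun n => ∃ (s : Finset ι) (c : ι → N),
    (∀ i, c i ∈ 𝒩 i) ∧ n = ∑ i ∈ s, c i) (hgen n) ?_ ?_ ?_
  · intro i x hx
    refine ⟨{i}, fun j => if j = i then x else 0, fun j => ?_, ?_⟩
    · show (if j = i then x else 0) ∈ 𝒩 j
      by_cases hj : j = i
      · subst hj
        rw [if_pos rfl]
        exact hx
      · rw [if_neg hj]
        exact zero_mem _
    · rw [Finset.sum_singleton, if_pos rfl]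
  · exact ⟨∅, fun _ => 0, fun _ => zero_mem _, by simp⟩
  · rintro x y ⟨s, c, hc, rfl⟩ ⟨s', c', hc', rfl⟩
    refine ⟨s ∪ s', fun i => (if i ∈ s then c i else 0) + (if i ∈ s' then c' i else 0),
      fun i => add_mem ?_ ?_, ?_⟩
    · split_ifs
      · exact hc i
      · exact zero_mem _
    · split_ifs
      · exact hc' i
      · exact zero_mem _
    · rw [Finset.sum_add_distrib, Finset.sum_ite_mem, Finset.sum_ite_mem,
        Finset.union_inter_cancel_left, Finset.union_inter_cancel_right]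

end Crit

section DSum

variable {ι : Type} [AddCommGroup ι] [DecidableEq ι]
variable {R : Type u} [CommRing R] {σ : Type u} [SetLike σ R] [AddSubgroupClass σ R]
variable (𝒜 : ι → σ) [GradedRing 𝒜]
variable {α : Type} [DecidableEq α] (Y : α → GrLC.GMod.{u} 𝒜)

/-- the carrier of the direct sum -/
abbrev DSumC : Type u := ⨁ a, (Y a).carrier

/-- the pieces of the direct sum -/
def dsumGr (n : ι) : AddSubgroup (DSumC 𝒜 Y) where
  carrier := {z | ∀ a, z a ∈ (Y a).gr n}
  add_mem' := fun {x y} hx hy a => by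
    rw [DirectSum.add_apply]
    exact add_mem (hx a) (hy a)
  zero_mem' := fun a => by
    rw [DirectSum.zero_apply]
    exact zero_mem _
  neg_mem' := fun {x} hx a => by
    have : (-x) a = -(x a) := rfl
    rw [this]
    exact neg_mem (hx a)

theorem mem_dsumGr {n : ι} {z : DSumC 𝒜 Y} : z ∈ dsumGr 𝒜 Y n ↔ ∀ a, z a ∈ (Y a).gr n := Iff.rfl

theorem of_mem_dsumGr {n : ι} (a : α) {y : (Y a).carrier} (hy : y ∈ (Y a).gr n) :
    DirectSum.of (fun a => (Y a).carrier) a y ∈ dsumGr 𝒜 Y n := by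
  intro b
  by_cases hb : b = a
  · subst hb
    rw [DirectSum.of_eq_same]
    exact hy
  · rw [DirectSum.of_eq_of_ne _ _ _ hb]
    exact zero_mem _

theorem dsumGr_isInternal : DirectSum.IsInternal (dsumGr 𝒜 Y) := by
  classical
  apply isInternal_of_iSup
  · intro z
    induction z using DirectSum.induction_on with
    | zero => exact zero_mem _
    | of a y =>
      rw [← sum_support_decompose (Y a).gr y, map_sum]
      refine AddSubgroup.sum_mem _ fun n _ => ?_
      exact AddSubgroup.mem_iSup_of_mem n (of_mem_dsumGr 𝒜 Y a (decompose (Y a).gr y n).2)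
    | add x y hx hy => exact add_mem hx hy
  · intro s c hc hsum i hi
    ext a
    have h1 := decompose_sum_homog (Y a).gr s (fun j => c j a) (fun j => hc j a) i
    rw [if_pos hi] at h1
    have h2 : ∑ j ∈ s, c j a = 0 := by
      have := congrArg (fun z : DSumC 𝒜 Y => z a) hsum
      simpa [DFinsupp.finset_sum_apply] using this
    rw [h2, decompose_zero, DirectSum.zero_apply, ZeroMemClass.coe_zero] at h1
    rw [DirectSum.zero_apply]
    exact h1.symm

noncomputable instance dsumGr_decomposition : DirectSum.Decomposition (dsumGr 𝒜 Y) :=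
  (dsumGr_isInternal 𝒜 Y).chooseDecomposition

instance dsumGr_gradedSMul : SetLike.GradedSMul 𝒜 (dsumGr 𝒜 Y) where
  smul_mem := by
    intro i j r z hr hz a
    rw [DirectSum.smul_apply]
    exact SetLike.GradedSMul.smul_mem (A := 𝒜) (B := (Y a).gr) hr (hz a)

/-- the direct sum of a family of graded modules -/
noncomputable def dsumG : GrLC.GMod.{u} 𝒜 where
  carrier := DSumC 𝒜 Y
  gr := dsumGr 𝒜 Y

/-- the inclusion of a summand -/
noncomputable def dinc (a : α) : (Y a).carrier →ₗ[R] (dsumG 𝒜 Y).carrier :=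
  DirectSum.lof R α (fun a => (Y a).carrier) a

/-- the projection onto a summand -/
noncomputable def dprj (a : α) : (dsumG 𝒜 Y).carrier →ₗ[R] (Y a).carrier :=
  DirectSum.component R α (fun a => (Y a).carrier) a

theorem dinc_isGrHom (a : α) : GrLC.IsGrHom (Y a).gr (dsumG 𝒜 Y).gr (dinc 𝒜 Y a) :=
  fun _ _ hy => of_mem_dsumGr 𝒜 Y a hy

theorem dprj_isGrHom (a : α) : GrLC.IsGrHom (dsumG 𝒜 Y).gr (Y a).gr (dprj 𝒜 Y a) :=
  fun _ _ hz => hz a

theorem dprj_dinc_same (a : α) (y : (Y a).carrier) : dprj 𝒜 Y a (dinc 𝒜 Y a y) = y :=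
  DirectSum.of_eq_same _ _

theorem dprj_dinc_ne {a b : α} (h : b ≠ a) (y : (Y a).carrier) : dprj 𝒜 Y b (dinc 𝒜 Y a y) = 0 :=
  DirectSum.of_eq_of_ne _ _ _ h

theorem dinc_injective (a : α) : Function.Injective (dinc 𝒜 Y a) :=
  DirectSum.of_injective a

theorem dsum_ext {z w : (dsumG 𝒜 Y).carrier} (h : ∀ a, dprj 𝒜 Y a z = dprj 𝒜 Y a w) : z = w :=
  DirectSum.ext_component R h

theorem sum_dinc_dprj [Fintype α] :
    ∑ a, (dinc 𝒜 Y a) ∘ₗ (dprj 𝒜 Y a) = LinearMap.id := by
  refine LinearMap.ext fun z => ?_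
  rw [LinearMap.sum_apply]
  exact DirectSum.sum_univ_of z

/-- every element is the sum of its components (finitely many are non zero) -/
theorem exists_finset_sum_dinc_dprj (z : (dsumG 𝒜 Y).carrier) :
    ∃ s : Finset α, (∀ a, a ∉ s → dprj 𝒜 Y a z = 0) ∧ z = ∑ a ∈ s, dinc 𝒜 Y a (dprj 𝒜 Y a z) := by
  classical
  refine ⟨DFinsupp.support z, fun a ha => ?_, ?_⟩
  · exact DFinsupp.notMem_support_iff.1 ha
  · exact (DirectSum.sum_support_of z).symm

end DSum

end Groth.Agent.Helper20.GrInj
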