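import Mathlib
import Groth.Agent.Lib.Helper20.GrSeg9
import Groth.Agent.Lib.Helper20.GrInj5

/-!
# The localization of a graded module at a homogeneous element (helper20)
-/

open DirectSum

namespace Groth.Agent.Helper20.GrInj

universe u

section Loc

variable {R : Type u} [CommRing R] {σ : Type u} [SetLike σ R] [AddSubgroupClass σ R]
variable (𝒜 : ℤ → σ) [GradedRing 𝒜]
variable (Y : GrLC.GMod.{u} 𝒜) (x : R)

/-- the carrier of the localization -/
abbrev LocC : Type u := LocalizedModule (Submonoid.powers x) Y.carrier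

/-- the powers of `x` as elements of the submonoid -/
def pw (j : ℕ) : Submonoid.powers x := ⟨x ^ j, j, rfl⟩

theorem pw_mul (i j : ℕ) : pw x i * pw x j = pw x (i + j) :=
  Subtype.ext (pow_add x i j).symm

theorem pw_smul (j : ℕ) (y : Y.carrier) : pw x j • y = x ^ j • y := rfl

theorem pw_zero : pw x 0 = 1 := Subtype.ext (pow_zero x)

theorem exists_eq_pw (s : Submonoid.powers x) : ∃ j, s = pw x j := by
  obtain ⟨j, hj⟩ := s.2
  exact ⟨j, Subtype.ext hj.symm⟩

variable {𝒜 Y x}

theorem mk_add_same (y y' : Y.carrier) (s : Submonoid.powers x) :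
    LocalizedModule.mk (y + y') s = LocalizedModule.mk y s + LocalizedModule.mk y' s := by
  rw [LocalizedModule.mk_add_mk, ← smul_add, LocalizedModule.mk_cancel_common_left]

variable (Y x) in
/-- `y ↦ y / s` as an additive map -/
def mkHom (s : Submonoid.powers x) : Y.carrier →+ LocC 𝒜 Y x where
  toFun y := LocalizedModule.mk y s
  map_zero' := LocalizedModule.zero_mk s
  map_add' y y' := mk_add_same y y' s

theorem mkHom_apply (s : Submonoid.powers x) (y : Y.carrier) :
    mkHom Y x s y = LocalizedModule.mk y s := rfl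

theorem mk_eq_mk_pow (i j : ℕ) (y : Y.carrier) :
    (LocalizedModule.mk y (pw x j) : LocC 𝒜 Y x) = LocalizedModule.mk (x ^ i • y) (pw x (i + j)) := by
  rw [← pw_mul, ← pw_smul, LocalizedModule.mk_cancel_common_left]

theorem mk_eq_zero_of_smul (l j : ℕ) (y : Y.carrier) (h : x ^ l • y = 0) :
    (LocalizedModule.mk y (pw x j) : LocC 𝒜 Y x) = 0 := by
  rw [mk_eq_mk_pow l j y, h, LocalizedModule.zero_mk]

theorem exists_smul_eq_zero_of_mk (j : ℕ) (y : Y.carrier)
    (h : (LocalizedModule.mk y (pw x j) : LocC 𝒜 Y x) = 0) : ∃ l : ℕ, x ^ l • y = 0 := by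
  rw [← LocalizedModule.zero_mk (1 : Submonoid.powers x), LocalizedModule.mk_eq] at h
  obtain ⟨u, hu⟩ := h
  obtain ⟨l, rfl⟩ := exists_eq_pw x u
  refine ⟨l, ?_⟩
  rw [smul_zero, smul_zero, one_smul] at hu
  exact hu

variable {e : ℤ} (hx : x ∈ 𝒜 e)

include hx in
theorem pow_smul_mem (j : ℕ) {m : ℤ} {y : Y.carrier} (hy : y ∈ Y.gr m) :
    x ^ j • y ∈ Y.gr ((j : ℤ) * e + m) := by
  have h1 := SetLike.pow_mem_graded j hx
  have h2 := SetLike.GradedSMul.smul_mem (A := 𝒜) (B := Y.gr) h1 hy
  rwa [vadd_eq_add, nsmul_eq_mul] at h2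

variable (Y x e) in
/-- the pieces of the localization -/
def locGr (n : ℤ) : AddSubgroup (LocC 𝒜 Y x) where
  carrier := {z | ∃ (j : ℕ) (y : Y.carrier), y ∈ Y.gr (n + (j : ℤ) * e) ∧
    z = LocalizedModule.mk y (pw x j)}
  zero_mem' := ⟨0, 0, zero_mem _, (LocalizedModule.zero_mk _).symm⟩
  add_mem' := by
    rintro _ _ ⟨j, y, hy, rfl⟩ ⟨j', y', hy', rfl⟩
    refine ⟨j' + j, x ^ j' • y + x ^ j • y', ?_, ?_⟩
    · apply add_mem
      · have := pow_smul_mem hx j' hy
        have e1 : (j' : ℤ) * e + (n + (j : ℤ) * e) = n + ((j' + j : ℕ) : ℤ) * e := by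
          push_cast; ring
        rwa [e1] at this
      · have := pow_smul_mem hx j hy'
        have e1 : (j : ℤ) * e + (n + (j' : ℤ) * e) = n + ((j' + j : ℕ) : ℤ) * e := by
          push_cast; ring
        rwa [e1] at this
    · rw [mk_add_same, ← mk_eq_mk_pow, add_comm j' j, ← mk_eq_mk_pow]
  neg_mem' := by
    rintro _ ⟨j, y, hy, rfl⟩
    exact ⟨j, -y, neg_mem hy, LocalizedModule.mk_neg.symm⟩

theorem mk_mem_locGr {n : ℤ} (j : ℕ) {y : Y.carrier} (hy : y ∈ Y.gr (n + (j : ℤ) * e)) :
    (LocalizedModule.mk y (pw x j) : LocC 𝒜 Y x) ∈ locGr Y x e hx n := ⟨j, y, hy, rfl⟩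

theorem locGr_isInternal : DirectSum.IsInternal (locGr Y x e hx) := by
  classical
  apply isInternal_of_iSup
  · intro z
    induction z using LocalizedModule.induction_on with
    | h y s =>
      obtain ⟨j, rfl⟩ := exists_eq_pw x s
      rw [← mkHom_apply, ← sum_support_decompose Y.gr y, map_sum]
      refine AddSubgroup.sum_mem _ fun n _ => ?_
      refine AddSubgroup.mem_iSup_of_mem (n - (j : ℤ) * e) ?_
      rw [mkHom_apply]
      apply mk_mem_locGr hx j
      rw [sub_add_cancel]
      exact (decompose Y.gr y n).2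
  · intro s c hc hsum i hi
    choose j y hy hcy using hc
    set J : ℕ := ∑ n ∈ s, j n with hJ
    have hjJ : ∀ n ∈ s, j n ≤ J := fun n hn => Finset.single_le_sum (fun _ _ => Nat.zero_le _) hn
    let y' : ℤ → Y.carrier := fun n => x ^ (J - j n) • y n
    have hy' : ∀ n ∈ s, c n = LocalizedModule.mk (y' n) (pw x J) := by
      intro n hn
      rw [hcy n, mk_eq_mk_pow (J - j n) (j n) (y n), Nat.sub_add_cancel (hjJ n hn)]
    have hy'mem : ∀ n ∈ s, y' n ∈ Y.gr ((J : ℤ) * e + n) := by
      intro n hn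
      have := pow_smul_mem hx (J - j n) (hy n)
      have e1 : ((J - j n : ℕ) : ℤ) * e + (n + (j n : ℤ) * e) = (J : ℤ) * e + n := by
        rw [Nat.cast_sub (hjJ n hn)]; ring
      rwa [e1] at this
    have h1 : (LocalizedModule.mk (∑ n ∈ s, y' n) (pw x J) : LocC 𝒜 Y x) = 0 := by
      rw [← mkHom_apply, map_sum, ← hsum]
      exact Finset.sum_congr rfl fun n hn => by rw [mkHom_apply, hy' n hn]
    obtain ⟨l, hl⟩ := exists_smul_eq_zero_of_mk J _ h1
    rw [Finset.smul_sum] at hl
    let w : ℤ → Y.carrier := fun n => if n ∈ s then x ^ l • y' n else 0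
    have hw : ∀ n, w n ∈ Y.gr (((l : ℤ) * e + (J : ℤ) * e) + n) := by
      intro n
      by_cases hn : n ∈ s
      · simp only [w, if_pos hn]
        have := pow_smul_mem hx l (hy'mem n hn)
        rwa [← add_assoc] at this
      · simp only [w, if_neg hn]
        exact zero_mem _
    have hsumw : ∑ n ∈ s, w n = 0 := by
      rw [← hl]
      exact Finset.sum_congr rfl fun n hn => by simp only [w, if_pos hn]
    have h2 := decompose_sum_homog_shift Y.gr ((l : ℤ) * e + (J : ℤ) * e) s w hw i
    rw [if_pos hi, hsumw, decompose_zero, DirectSum.zero_apply, ZeroMemClass.coe_zero] at h2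
    have h3 : x ^ l • y' i = 0 := by
      have : w i = x ^ l • y' i := by simp only [w, if_pos hi]
      rw [← this, ← h2]
    rw [hy' i hi]
    exact mk_eq_zero_of_smul l J (y' i) h3

noncomputable instance locGr_decomposition : DirectSum.Decomposition (locGr Y x e hx) :=
  (locGr_isInternal hx).chooseDecomposition

instance locGr_gradedSMul : SetLike.GradedSMul 𝒜 (locGr Y x e hx) where
  smul_mem := by
    rintro i n r _ hr ⟨j, y, hy, rfl⟩
    refine ⟨j, r • y, ?_, ?_⟩
    · have := SetLike.GradedSMul.smul_mem (A := 𝒜) (B := Y.gr) hr hy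
      rw [vadd_eq_add] at this ⊢
      rwa [add_assoc]
    · rw [LocalizedModule.smul'_mk]

variable (Y x e) in
/-- the localization `Y_x` as a graded module -/
noncomputable def locG : GrLC.GMod.{u} 𝒜 where
  carrier := LocC 𝒜 Y x
  gr := locGr Y x e hx

variable (Y x e) in
/-- the canonical map `Y → Y_x` -/
noncomputable def locMap : Y.carrier →ₗ[R] (locG Y x e hx).carrier :=
  LocalizedModule.mkLinearMap (Submonoid.powers x) Y.carrier

theorem locMap_apply (y : Y.carrier) :
    locMap Y x e hx y = (LocalizedModule.mk y 1 : LocC 𝒜 Y x) := rfl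

theorem locMap_isGrHom : GrLC.IsGrHom Y.gr (locG Y x e hx).gr (locMap Y x e hx) := by
  intro n y hy
  refine ⟨0, y, ?_, ?_⟩
  · rw [Nat.cast_zero, zero_mul, add_zero]
    exact hy
  · rw [locMap_apply, pw_zero]

theorem locMap_eq_zero_iff (y : Y.carrier) : locMap Y x e hx y = 0 ↔ ∃ l : ℕ, x ^ l • y = 0 := by
  constructor
  · intro h
    rw [locMap_apply, ← pw_zero] at h
    exact exists_smul_eq_zero_of_mk 0 y h
  · rintro ⟨l, hl⟩
    rw [locMap_apply, ← pw_zero]
    exact mk_eq_zero_of_smul l 0 y hl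

theorem loc_smul_bijective : Function.Bijective (fun z : (locG Y x e hx).carrier => x • z) := by
  have h := IsLocalizedModule.map_units (S := Submonoid.powers x)
    (LocalizedModule.mkLinearMap (Submonoid.powers x) Y.carrier) (pw x 1)
  have h2 := (Module.End.isUnit_iff _).1 h
  have h3 : (fun z : (locG Y x e hx).carrier => x • z) =
      ⇑(algebraMap R (Module.End R (LocC 𝒜 Y x)) (pw x 1 : R)) := by
    funext z
    rw [Module.algebraMap_end_apply]
    show x • z = (x ^ 1) • z
    rw [pow_one]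
  rw [h3]
  exact h2

end Loc

end Groth.Agent.Helper20.GrInj
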