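import Mathlib
import Groth.Agent.Lib.Helper20.GrSeg10
import Groth.Agent.Lib.Helper20.GrHull5
import Groth.Agent.Lib.Helper8.LCVanish

/-!
# Embedding a graded module into a nice one (helper20)
-/

open DirectSum TensorProduct

namespace Groth.Agent.Helper20.Seg

open Groth.Agent.Helper20.GrInj Groth.Agent.Helper8

universe u

section Ess

variable {R : Type u} [CommRing R] [IsNoetherianRing R] (I : Ideal R)
  {G E : Type u} [AddCommGroup G] [Module R G] [AddCommGroup E] [Module R E]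

/-- an essential extension of a torsion module is torsion (Artin–Rees) -/
theorem isTors_of_essential (f : G →ₗ[R] E) (hf : InjHull.IsEssentialInj f)
    (hG : LC.IsTors I G) : LC.IsTors I E := by
  intro e
  let U : Submodule R E := Submodule.span R {e}
  haveI : Module.Finite R ↥U := Module.Finite.span_of_finite R (Set.finite_singleton e)
  haveI : IsNoetherian R ↥U := isNoetherian_of_isNoetherianRing_of_finite R ↥U
  let G' : Submodule R ↥U := (LinearMap.range f).comap U.subtype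
  have hG'tors : LC.IsTors I ↥G' := by
    rintro ⟨⟨v, hvU⟩, g, hg⟩
    obtain ⟨n, hn⟩ := hG g
    refine ⟨n, fun a ha => ?_⟩
    apply Subtype.ext
    apply Subtype.ext
    show a • v = 0
    have hg' : f g = v := hg
    rw [← hg', ← map_smul, hn a ha, map_zero]
  have hG'fg : (⊤ : Submodule R ↥G').FG := Module.Finite.fg_top
  obtain ⟨n, hn⟩ := LC.IsTors.exists_pow_of_fg I hG'tors hG'fg
  obtain ⟨k, hk⟩ := Ideal.exists_pow_inf_eq_pow_smul I G'
  have h1 : (I ^ (n + k) • ⊤ ⊓ G' : Submodule R ↥U) = ⊥ := by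
    rw [hk (n + k) (by omega), Nat.add_sub_cancel, eq_bot_iff]
    apply Submodule.smul_le.2
    intro a ha v hv
    have := hn a ha ⟨v, hv.2⟩
    have h2 : a • v = 0 := congrArg Subtype.val this
    rw [h2]
    exact zero_mem _
  let V : Submodule R E := (I ^ (n + k) • ⊤ : Submodule R ↥U).map U.subtype
  have hV : V = ⊥ := by
    by_contra hne
    apply hf.essential V hne
    rw [eq_bot_iff]
    rintro v ⟨⟨v', hv', rfl⟩, hvf⟩
    have h3 : v' ∈ (I ^ (n + k) • ⊤ ⊓ G' : Submodule R ↥U) := ⟨hv', hvf⟩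
    rw [h1] at h3
    rw [(Submodule.mem_bot R).1 h3, map_zero]
    exact zero_mem _
  refine ⟨n + k, fun a ha => ?_⟩
  have h4 : a • e ∈ V :=
    ⟨a • ⟨e, Submodule.mem_span_singleton_self e⟩, Submodule.smul_mem_smul ha trivial, rfl⟩
  rw [hV] at h4
  exact (Submodule.mem_bot R).1 h4

end Ess

section Hull

variable {R : Type u} [CommRing R] [IsNoetherianRing R] {σ : Type u} [SetLike σ R]
  [AddSubgroupClass σ R] (𝒜 : ℤ → σ) [GradedRing 𝒜]

/-- a graded map to a torsion graded module which is injective on the torsion -/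
theorem exists_torsion_hull (a : HomogeneousIdeal 𝒜) (Y : GrLC.GMod.{u} 𝒜) :
    ∃ (E : GrLC.GMod.{u} 𝒜) (f : Y.carrier →ₗ[R] E.carrier), GrLC.IsGrHom Y.gr E.gr f ∧
      LC.IsTors a.toIdeal E.carrier ∧ ∀ y ∈ LC.gam a.toIdeal Y.carrier, f y = 0 → y = 0 := by
  have hG : (LC.gam a.toIdeal Y.carrier).IsHomogeneous Y.gr := gam_isHomogeneous 𝒜 Y.gr a
  let G := subGMod Y.gr 𝒜 (LC.gam a.toIdeal Y.carrier) hG
  obtain ⟨E, e, he⟩ := exists_starInjHull 𝒜 G.gr
  have hess := isEssentialInj_of_isStarEss 𝒜 E.gr G.gr he.toIsStarEss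
  have hGt : LC.IsTors a.toIdeal G.carrier := LC.isTors_gam a.toIdeal
  have hE : LC.IsTors a.toIdeal E.carrier := isTors_of_essential a.toIdeal e hess hGt
  obtain ⟨h, hgr, hh⟩ := starInj_extend E.gr 𝒜 he.starInj G.gr Y.gr
    (subVal 𝒜 Y.gr (LC.gam a.toIdeal Y.carrier) hG)
    (subVal_grHom 𝒜 Y.gr _ hG) (subVal_injective 𝒜 Y.gr _ hG) e he.grHom
  refine ⟨E, h, hgr, hE, fun y hy hy0 => ?_⟩
  have h1 : h y = e ⟨y, hy⟩ := by
    rw [← hh]
    rfl
  rw [h1] at hy0
  have h2 := he.injective (hy0.trans (map_zero e).symm)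
  exact congrArg Subtype.val h2

end Hull

section Gens

variable {R : Type u} [CommRing R] {M : Type u} [AddCommGroup M] [Module R M]

/-- an element killed by powers of generators of an ideal is torsion -/
theorem mem_gam_of_pow_smul {r : ℕ} (xs : Fin r → R) (y : M)
    (h : ∀ i, ∃ l : ℕ, xs i ^ l • y = 0) :
    y ∈ LC.gam (Ideal.span (Set.range xs)) M := by
  let J : Ideal R := LinearMap.ker (LinearMap.toSpanSingleton R M y)
  have hJ : ∀ a, a ∈ J ↔ a • y = 0 := fun a => by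
    rw [LinearMap.mem_ker, LinearMap.toSpanSingleton_apply]
  have hle : Ideal.span (Set.range xs) ≤ J.radical := by
    apply Ideal.span_le.2
    rintro _ ⟨i, rfl⟩
    obtain ⟨l, hl⟩ := h i
    exact ⟨l, (hJ _).2 hl⟩
  have hfg : (Ideal.span (Set.range xs)).FG :=
    Submodule.fg_span (Set.finite_range xs)
  obtain ⟨n, hn⟩ := Ideal.exists_pow_le_of_le_radical_of_fg hle hfg
  exact ⟨n, fun a ha => (hJ a).1 (hn ha)⟩

end Gens

section Irr

variable {k : Type u} [Field k] {R : Type u} [CommRing R] [Algebra k R]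
  (𝒜 : ℤ → Submodule k R) [GradedAlgebra 𝒜]

/-- the irrelevant ideal as a homogeneous ideal -/
def irrH : HomogeneousIdeal 𝒜 :=
  ⟨irr 𝒜, Ideal.homogeneous_span 𝒜 _ (by
    intro x hx
    obtain ⟨n, _, hxn⟩ := Set.mem_iUnion₂.1 hx
    exact ⟨n, hxn⟩)⟩

theorem irrH_toIdeal : (irrH 𝒜).toIdeal = irr 𝒜 := rfl

/-- finitely many homogeneous generators of positive degrees of the irrelevant ideal -/
theorem exists_generators [IsNoetherianRing R] :
    ∃ (r : ℕ) (xs : Fin r → R) (es : Fin r → ℕ), (∀ i, 0 < es i) ∧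
      (∀ i, xs i ∈ 𝒜 (es i : ℤ)) ∧ irr 𝒜 = Ideal.span (Set.range xs) := by
  classical
  have hfg : (irr 𝒜).FG := IsNoetherian.noetherian _
  unfold irr at hfg
  obtain ⟨s', hs', hspan⟩ := (Submodule.fg_span_iff_fg_span_finset_subset _).mp hfg
  have hdeg : ∀ x : ↥s', ∃ e : ℕ, 0 < e ∧ (x : R) ∈ 𝒜 (e : ℤ) := by
    intro x
    obtain ⟨n, hn, hxn⟩ := Set.mem_iUnion₂.1 (hs' x.2)
    have hn' : 0 < n := hn
    refine ⟨n.toNat, by omega, ?_⟩
    rw [Int.toNat_of_nonneg hn'.le]
    exact hxn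
  choose es hes using hdeg
  refine ⟨s'.card, fun i => (s'.equivFin.symm i : R), fun i => es (s'.equivFin.symm i),
    fun i => (hes _).1, fun i => (hes _).2, ?_⟩
  have hrange : Set.range (fun i => ((s'.equivFin.symm i : ↥s') : R)) = (s' : Set R) := by
    ext x
    constructor
    · rintro ⟨i, rfl⟩
      exact (s'.equivFin.symm i).2
    · intro hx
      exact ⟨s'.equivFin ⟨x, hx⟩, by simp⟩
  rw [hrange]
  unfold irr
  exact hspan

end Irr

section Embed

attribute [local instance] gK gK_tower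

variable {k : Type u} [Field k] {R : Type u} [CommRing R] [Algebra k R] [IsNoetherianRing R]
  (𝒜 : ℤ → Submodule k R) [GradedAlgebra 𝒜]

/-- **every graded module embeds into a nice one** -/
theorem exists_nice_embedding (Y : GrLC.GMod.{u} 𝒜) :
    ∃ (Z : GrLC.GMod.{u} 𝒜) (j : Y.carrier →ₗ[R] Z.carrier), GrLC.IsGrHom Y.gr Z.gr j ∧
      Function.Injective j ∧ IsNice 𝒜 Z := by
  classical
  obtain ⟨r, xs, es, hpos, hxs, hspan⟩ := exists_generators 𝒜
  obtain ⟨E, f0, hf0gr, hEt, hf0⟩ := exists_torsion_hull 𝒜 (irrH 𝒜) Y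
  let Ys : Option (Fin r) → GrLC.GMod.{u} 𝒜 := fun o =>
    match o with
    | none => E
    | some i => locG Y (xs i) (es i : ℤ) (hxs i)
  let fs : ∀ o, Y.carrier →ₗ[R] (Ys o).carrier := fun o =>
    match o with
    | none => f0
    | some i => locMap Y (xs i) (es i : ℤ) (hxs i)
  have hfs : ∀ o, GrLC.IsGrHom Y.gr (Ys o).gr (fs o) := fun o =>
    match o with
    | none => hf0gr
    | some i => locMap_isGrHom (hxs i)
  let Z := dsumG 𝒜 Ys
  let j : Y.carrier →ₗ[R] Z.carrier := ∑ o, (dinc 𝒜 Ys o) ∘ₗ (fs o)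
  have hj : ∀ o y, dprj 𝒜 Ys o (j y) = fs o y := by
    intro o y
    simp only [j, LinearMap.sum_apply, map_sum, LinearMap.comp_apply]
    rw [Finset.sum_eq_single o]
    · exact dprj_dinc_same 𝒜 Ys o _
    · intro b _ hb
      exact dprj_dinc_ne 𝒜 Ys hb.symm _
    · intro h
      exact absurd (Finset.mem_univ o) h
  refine ⟨Z, j, ?_, ?_, ?_⟩
  · intro n y hy
    simp only [j, LinearMap.sum_apply, LinearMap.comp_apply]
    refine AddSubgroup.sum_mem _ fun o _ => ?_
    exact dinc_isGrHom 𝒜 Ys o n _ (hfs o n y hy)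
  · rw [injective_iff_map_eq_zero]
    intro y hy
    have h1 : ∀ o, fs o y = 0 := fun o => by rw [← hj o y, hy, map_zero]
    have h2 : y ∈ LC.gam (irr 𝒜) Y.carrier := by
      rw [hspan]
      apply mem_gam_of_pow_smul
      intro i
      exact (locMap_eq_zero_iff (hxs i) y).1 (h1 (some i))
    exact hf0 y h2 (h1 none)
  · refine ⟨⟨Option (Fin r), Ys, dprj 𝒜 Ys, dinc 𝒜 Ys, dprj_isGrHom 𝒜 Ys, dinc_isGrHom 𝒜 Ys,
      sum_dinc_dprj 𝒜 Ys, ?_⟩⟩
    intro o
    match o with
    | none => exact Or.inl hEt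
    | some i => exact Or.inr ⟨es i, xs i, hpos i, hxs i, loc_smul_bijective (hxs i)⟩

end Embed

end Groth.Agent.Helper20.Seg
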