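import Mathlib
import Groth.Agent.Lib.Helper20.GrSeg11
import Groth.Agent.Lib.Helper20.GrCoind4
import Groth.Agent.Lib.Helper20.GrVer6

/-!
# Resolutions by nice graded modules (helper20)
-/

open DirectSum TensorProduct

namespace Groth.Agent.Helper20.Seg

open Groth.Agent.Helper20.GrInj Groth.Agent.Helper8

universe u

attribute [local instance] gK gK_tower

section NRes

variable {k : Type u} [Field k] {R : Type u} [CommRing R] [Algebra k R]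
  (𝒜 : ℤ → Submodule k R) [GradedAlgebra 𝒜]
  {M : Type u} [AddCommGroup M] [Module R M] (ℳ : ℤ → AddSubgroup M)
  [DirectSum.Decomposition ℳ] [SetLike.GradedSMul 𝒜 ℳ]

/-- a resolution of a graded module by nice graded modules -/
structure NRes : Type (u + 1) where
  /-- the terms -/
  X : ℕ → GrLC.GMod.{u} 𝒜
  /-- the differentials -/
  d : ∀ n : ℕ, (X n).carrier →ₗ[R] (X (n + 1)).carrier
  /-- the augmentation -/
  ε : M →ₗ[R] (X 0).carrier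
  d_grHom : ∀ n : ℕ, GrLC.IsGrHom (X n).gr (X (n + 1)).gr (d n)
  ε_grHom : GrLC.IsGrHom ℳ (X 0).gr ε
  ε_injective : Function.Injective ε
  exact_zero : LinearMap.ker (d 0) = LinearMap.range ε
  exact_succ : ∀ n : ℕ, LinearMap.ker (d (n + 1)) = LinearMap.range (d n)
  nice : ∀ n : ℕ, IsNice 𝒜 (X n)

variable {𝒜 ℳ}

/-- the underlying resolution over the converted grading -/
@[reducible] def NRes.toGRes (G : NRes 𝒜 ℳ) : GRes (toAdd 𝒜) ℳ where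
  X n := GMod.toAddG 𝒜 (G.X n)
  d := G.d
  ε := G.ε
  d_grHom := G.d_grHom
  ε_grHom := G.ε_grHom
  ε_injective := G.ε_injective
  exact_zero := G.exact_zero
  exact_succ := G.exact_succ

theorem NRes.d_comp (G : NRes 𝒜 ℳ) (n : ℕ) (x : (G.X n).carrier) : G.d (n + 1) (G.d n x) = 0 := by
  have : G.d n x ∈ LinearMap.ker (G.d (n + 1)) := by
    rw [G.exact_succ]; exact ⟨x, rfl⟩
  exact this

theorem NRes.d_ε (G : NRes 𝒜 ℳ) (m : M) : G.d 0 (G.ε m) = 0 := by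
  have : G.ε m ∈ LinearMap.ker (G.d 0) := by
    rw [G.exact_zero]; exact ⟨m, rfl⟩
  exact this

end NRes

section Build

variable {k : Type u} [Field k] {R : Type u} [CommRing R] [Algebra k R] [IsNoetherianRing R]
  (𝒜 : ℤ → Submodule k R) [GradedAlgebra 𝒜]

/-- a chosen nice module receiving `Y` -/
noncomputable def niceX (Y : GrLC.GMod.{u} 𝒜) : GrLC.GMod.{u} 𝒜 :=
  (exists_nice_embedding 𝒜 Y).choose

/-- the chosen embedding -/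
noncomputable def niceJ (Y : GrLC.GMod.{u} 𝒜) : Y.carrier →ₗ[R] (niceX 𝒜 Y).carrier :=
  (exists_nice_embedding 𝒜 Y).choose_spec.choose

theorem niceJ_grHom (Y : GrLC.GMod.{u} 𝒜) : GrLC.IsGrHom Y.gr (niceX 𝒜 Y).gr (niceJ 𝒜 Y) :=
  (exists_nice_embedding 𝒜 Y).choose_spec.choose_spec.1

theorem niceJ_injective (Y : GrLC.GMod.{u} 𝒜) : Function.Injective (niceJ 𝒜 Y) :=
  (exists_nice_embedding 𝒜 Y).choose_spec.choose_spec.2.1

theorem niceX_nice (Y : GrLC.GMod.{u} 𝒜) : IsNice 𝒜 (niceX 𝒜 Y) :=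
  (exists_nice_embedding 𝒜 Y).choose_spec.choose_spec.2.2

/-- the cokernel of the chosen embedding -/
noncomputable def ncokerY (Y : GrLC.GMod.{u} 𝒜) : GrLC.GMod.{u} 𝒜 :=
  quotGMod (niceX 𝒜 Y).gr 𝒜 (LinearMap.range (niceJ 𝒜 Y))
    (range_isHomogeneous Y.gr (niceX 𝒜 Y).gr (niceJ_grHom 𝒜 Y))

/-- the quotient map to the cokernel -/
noncomputable def ncokerQ (Y : GrLC.GMod.{u} 𝒜) :
    (niceX 𝒜 Y).carrier →ₗ[R] (ncokerY 𝒜 Y).carrier :=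
  (LinearMap.range (niceJ 𝒜 Y)).mkQ

theorem ncokerQ_grHom (Y : GrLC.GMod.{u} 𝒜) :
    GrLC.IsGrHom (niceX 𝒜 Y).gr (ncokerY 𝒜 Y).gr (ncokerQ 𝒜 Y) :=
  fun _ m hm => ⟨m, hm, rfl⟩

theorem ncokerQ_surjective (Y : GrLC.GMod.{u} 𝒜) : Function.Surjective (ncokerQ 𝒜 Y) :=
  Submodule.mkQ_surjective _

theorem ncokerQ_ker (Y : GrLC.GMod.{u} 𝒜) :
    LinearMap.ker (ncokerQ 𝒜 Y) = LinearMap.range (niceJ 𝒜 Y) :=
  Submodule.ker_mkQ _

/-- the successive cokernels -/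
noncomputable def nYseq (Y : GrLC.GMod.{u} 𝒜) : ℕ → GrLC.GMod.{u} 𝒜
  | 0 => Y
  | n + 1 => ncokerY 𝒜 (nYseq Y n)

/-- the differential of the resolution -/
noncomputable def nresD (Y : GrLC.GMod.{u} 𝒜) (n : ℕ) :
    (niceX 𝒜 (nYseq 𝒜 Y n)).carrier →ₗ[R] (niceX 𝒜 (nYseq 𝒜 Y (n + 1))).carrier :=
  (niceJ 𝒜 (nYseq 𝒜 Y (n + 1))).comp (ncokerQ 𝒜 (nYseq 𝒜 Y n))

theorem comp_ncokerQ_ker (Y : GrLC.GMod.{u} 𝒜) {Z : Type u} [AddCommGroup Z] [Module R Z]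
    (j : (ncokerY 𝒜 Y).carrier →ₗ[R] Z) (hj : Function.Injective j) :
    LinearMap.ker (j.comp (ncokerQ 𝒜 Y)) = LinearMap.range (niceJ 𝒜 Y) := by
  rw [LinearMap.ker_comp_of_ker_eq_bot _ (LinearMap.ker_eq_bot.2 hj), ncokerQ_ker]

theorem comp_ncokerQ_range (Y : GrLC.GMod.{u} 𝒜) {Z : Type u} [AddCommGroup Z] [Module R Z]
    (j : (ncokerY 𝒜 Y).carrier →ₗ[R] Z) :
    LinearMap.range (j.comp (ncokerQ 𝒜 Y)) = LinearMap.range j := by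
  rw [LinearMap.range_comp_of_range_eq_top _ (LinearMap.range_eq_top.2 (ncokerQ_surjective 𝒜 _))]

theorem nresD_ker (Y : GrLC.GMod.{u} 𝒜) (n : ℕ) :
    LinearMap.ker (nresD 𝒜 Y n) = LinearMap.range (niceJ 𝒜 (nYseq 𝒜 Y n)) :=
  comp_ncokerQ_ker 𝒜 (nYseq 𝒜 Y n) (niceJ 𝒜 (ncokerY 𝒜 (nYseq 𝒜 Y n)))
    (niceJ_injective 𝒜 (ncokerY 𝒜 (nYseq 𝒜 Y n)))

theorem nresD_range (Y : GrLC.GMod.{u} 𝒜) (n : ℕ) :
    LinearMap.range (nresD 𝒜 Y n) = LinearMap.range (niceJ 𝒜 (nYseq 𝒜 Y (n + 1))) :=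
  comp_ncokerQ_range 𝒜 (nYseq 𝒜 Y n) (niceJ 𝒜 (ncokerY 𝒜 (nYseq 𝒜 Y n)))

variable {M : Type u} [AddCommGroup M] [Module R M] (ℳ : ℤ → AddSubgroup M)
  [DirectSum.Decomposition ℳ] [SetLike.GradedSMul 𝒜 ℳ]

/-- **every graded module has a resolution by nice modules** -/
noncomputable def niceRes : NRes 𝒜 ℳ where
  X n := niceX 𝒜 (nYseq 𝒜 (GrLC.GMod.of 𝒜 M ℳ) n)
  d n := nresD 𝒜 (GrLC.GMod.of 𝒜 M ℳ) n
  ε := niceJ 𝒜 (GrLC.GMod.of 𝒜 M ℳ)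
  d_grHom n := fun g m hm =>
    niceJ_grHom 𝒜 _ g _ (ncokerQ_grHom 𝒜 _ g m hm)
  ε_grHom := niceJ_grHom 𝒜 (GrLC.GMod.of 𝒜 M ℳ)
  ε_injective := niceJ_injective 𝒜 (GrLC.GMod.of 𝒜 M ℳ)
  exact_zero := nresD_ker 𝒜 (GrLC.GMod.of 𝒜 M ℳ) 0
  exact_succ n := by
    rw [nresD_ker, nresD_range]
  nice n := niceX_nice 𝒜 _

end Build

end Groth.Agent.Helper20.Seg
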