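import Mathlib
import Groth.Agent.Lib.Helper20.GrSeg12
import Groth.Agent.Lib.Helper20.GrKun6

/-!
# The total module of a complex of graded modules (helper20)
-/

open DirectSum TensorProduct

namespace Groth.Agent.Helper20.Seg

open Groth.Agent.Helper20.GrInj Groth.Agent.Helper8 Groth.Agent.Helper20.Kun

universe u

attribute [local instance] gK gK_tower

section Big

variable {k : Type u} [Field k] {R : Type u} [CommRing R] [Algebra k R]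
  (𝒜 : ℤ → Submodule k R) [GradedAlgebra 𝒜]
  (X : ℕ → GrLC.GMod.{u} 𝒜)

/-- the total module -/
noncomputable abbrev BigG : GrLC.GMod.{u} 𝒜 := dsumG 𝒜 X

/-- a map out of the total module -/
noncomputable def bigLift {Z : Type u} [AddCommGroup Z] [Module R Z]
    (φ : ∀ i, (X i).carrier →ₗ[R] Z) : (BigG 𝒜 X).carrier →ₗ[R] Z :=
  DirectSum.toModule R ℕ Z φ

theorem bigLift_dinc {Z : Type u} [AddCommGroup Z] [Module R Z]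
    (φ : ∀ i, (X i).carrier →ₗ[R] Z) (i : ℕ) (x : (X i).carrier) :
    bigLift 𝒜 X φ (dinc 𝒜 X i x) = φ i x := by
  unfold bigLift dinc
  exact DirectSum.toModule_lof (M := fun i => (X i).carrier) R i x

theorem bigLift_isGrHom {Z : GrLC.GMod.{u} 𝒜} (φ : ∀ i, (X i).carrier →ₗ[R] Z.carrier)
    (hφ : ∀ i, GrLC.IsGrHom (X i).gr Z.gr (φ i)) :
    GrLC.IsGrHom (BigG 𝒜 X).gr Z.gr (bigLift 𝒜 X φ) := by
  intro n z hz
  obtain ⟨s, _, hs⟩ := exists_finset_sum_dinc_dprj 𝒜 X z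
  rw [hs, map_sum]
  refine AddSubgroup.sum_mem _ fun i _ => ?_
  rw [bigLift_dinc]
  exact hφ i n _ (dprj_isGrHom 𝒜 X i n z hz)

theorem big_ext {Z : Type u} [AddCommGroup Z] [Module R Z]
    {f g : (BigG 𝒜 X).carrier →ₗ[R] Z} (h : ∀ i x, f (dinc 𝒜 X i x) = g (dinc 𝒜 X i x)) :
    f = g :=
  DirectSum.linearMap_ext R fun i => LinearMap.ext fun x => h i x

variable (d : ∀ n : ℕ, (X n).carrier →ₗ[R] (X (n + 1)).carrier)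
  (hd : ∀ n, GrLC.IsGrHom (X n).gr (X (n + 1)).gr (d n))
  (hdd : ∀ n x, d (n + 1) (d n x) = 0)

/-- the total differential -/
noncomputable def bigD : (BigG 𝒜 X).carrier →ₗ[R] (BigG 𝒜 X).carrier :=
  bigLift 𝒜 X fun i => (dinc 𝒜 X (i + 1)) ∘ₗ d i

theorem bigD_dinc (i : ℕ) (x : (X i).carrier) :
    bigD 𝒜 X d (dinc 𝒜 X i x) = dinc 𝒜 X (i + 1) (d i x) :=
  bigLift_dinc 𝒜 X _ i x

include hd in
theorem bigD_isGrHom : GrLC.IsGrHom (BigG 𝒜 X).gr (BigG 𝒜 X).gr (bigD 𝒜 X d) :=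
  bigLift_isGrHom 𝒜 X _ fun i n x hx => dinc_isGrHom 𝒜 X (i + 1) n _ (hd i n x hx)

include hdd in
theorem bigD_bigD (z : (BigG 𝒜 X).carrier) : bigD 𝒜 X d (bigD 𝒜 X d z) = 0 := by
  have : (bigD 𝒜 X d) ∘ₗ (bigD 𝒜 X d) = 0 := by
    apply big_ext
    intro i x
    rw [LinearMap.comp_apply, bigD_dinc, bigD_dinc, hdd, map_zero, LinearMap.zero_apply]
  exact congrArg (fun f => f z) this

/-- the sign operator -/
noncomputable def bigSg : (BigG 𝒜 X).carrier →ₗ[R] (BigG 𝒜 X).carrier :=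
  bigLift 𝒜 X fun i => ((-1 : R) ^ i) • dinc 𝒜 X i

theorem bigSg_dinc (i : ℕ) (x : (X i).carrier) :
    bigSg 𝒜 X (dinc 𝒜 X i x) = ((-1 : R) ^ i) • dinc 𝒜 X i x :=
  bigLift_dinc 𝒜 X _ i x

theorem bigSg_isGrHom : GrLC.IsGrHom (BigG 𝒜 X).gr (BigG 𝒜 X).gr (bigSg 𝒜 X) := by
  apply bigLift_isGrHom
  intro i n x hx
  rw [LinearMap.smul_apply, ← map_smul]
  apply dinc_isGrHom 𝒜 X i n
  have h1 : ((-1 : R) ^ i) ∈ 𝒜 0 := by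
    have := SetLike.pow_mem_graded i (neg_mem (SetLike.GradedOne.one_mem (A := 𝒜)))
    rwa [smul_zero] at this
  have := SetLike.GradedSMul.smul_mem (A := 𝒜) (B := (X i).gr) h1 hx
  rwa [vadd_eq_add, zero_add] at this

/-- the bigrading of the total module -/
noncomputable def bpc (a : ℕ × ℤ) : Submodule k (BigG 𝒜 X).carrier :=
  (pieceK 𝒜 (X a.1).gr a.2).map ((dinc 𝒜 X a.1).restrictScalars k)

theorem mem_bpc {i : ℕ} {n : ℤ} {z : (BigG 𝒜 X).carrier} :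
    z ∈ bpc 𝒜 X (i, n) ↔ ∃ x ∈ (X i).gr n, dinc 𝒜 X i x = z := Iff.rfl

theorem dinc_mem_bpc {i : ℕ} {n : ℤ} {x : (X i).carrier} (hx : x ∈ (X i).gr n) :
    dinc 𝒜 X i x ∈ bpc 𝒜 X (i, n) := ⟨x, hx, rfl⟩

theorem bpc_le_gr {i : ℕ} {n : ℤ} {z : (BigG 𝒜 X).carrier} (hz : z ∈ bpc 𝒜 X (i, n)) :
    z ∈ (BigG 𝒜 X).gr n := by
  obtain ⟨x, hx, rfl⟩ := (mem_bpc 𝒜 X).1 hz
  exact dinc_isGrHom 𝒜 X i n x hx

/-- the projection onto a piece of the bigrading -/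
noncomputable def bP (a : ℕ × ℤ) : (BigG 𝒜 X).carrier →ₗ[k] (BigG 𝒜 X).carrier :=
  ((dinc 𝒜 X a.1).restrictScalars k) ∘ₗ (proj 𝒜 (X a.1).gr a.2) ∘ₗ
    ((dprj 𝒜 X a.1).restrictScalars k)

theorem bP_apply (i : ℕ) (n : ℤ) (z : (BigG 𝒜 X).carrier) :
    bP 𝒜 X (i, n) z = dinc 𝒜 X i (proj 𝒜 (X i).gr n (dprj 𝒜 X i z)) := rfl

theorem bP_same (a : ℕ × ℤ) (z : (BigG 𝒜 X).carrier) (hz : z ∈ bpc 𝒜 X a) :
    bP 𝒜 X a z = z := by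
  obtain ⟨i, n⟩ := a
  obtain ⟨x, hx, rfl⟩ := (mem_bpc 𝒜 X).1 hz
  rw [bP_apply, dprj_dinc_same, proj_same 𝒜 _ hx]

theorem bP_ne (a b : ℕ × ℤ) (z : (BigG 𝒜 X).carrier) (hab : b ≠ a) (hz : z ∈ bpc 𝒜 X b) :
    bP 𝒜 X a z = 0 := by
  obtain ⟨i, n⟩ := a
  obtain ⟨j, m⟩ := b
  obtain ⟨x, hx, rfl⟩ := (mem_bpc 𝒜 X).1 hz
  rw [bP_apply]
  by_cases hij : i = j
  · subst hij
    have hmn : m ≠ n := fun h => hab (by rw [h])
    rw [dprj_dinc_same, proj_ne 𝒜 _ hmn hx, map_zero]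
  · rw [dprj_dinc_ne 𝒜 X hij, map_zero, map_zero]

theorem iSup_bpc : ⨆ a, bpc 𝒜 X a = ⊤ := by
  classical
  rw [eq_top_iff]
  rintro z -
  obtain ⟨s, _, hs⟩ := exists_finset_sum_dinc_dprj 𝒜 X z
  rw [hs]
  refine Submodule.sum_mem _ fun i _ => ?_
  rw [← sum_support_decompose (X i).gr (dprj 𝒜 X i z), map_sum]
  refine Submodule.sum_mem _ fun n _ => ?_
  exact Submodule.mem_iSup_of_mem (i, n) (dinc_mem_bpc 𝒜 X (decompose (X i).gr _ n).2)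

theorem bpc_isInternal : DirectSum.IsInternal (bpc 𝒜 X) :=
  isInternal_of_proj (bpc 𝒜 X) (bP 𝒜 X) (fun a x hx => bP_same 𝒜 X a x hx)
    (fun a b x hab hx => bP_ne 𝒜 X a b x hab hx) (iSup_bpc 𝒜 X)

noncomputable instance bpc_decomposition : DirectSum.Decomposition (bpc 𝒜 X) :=
  (bpc_isInternal 𝒜 X).chooseDecomposition

/-- the differential as a `k`-linear map -/
noncomputable def bigDk : (BigG 𝒜 X).carrier →ₗ[k] (BigG 𝒜 X).carrier :=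
  (bigD 𝒜 X d).restrictScalars k

theorem bigDk_apply (z : (BigG 𝒜 X).carrier) : bigDk 𝒜 X d z = bigD 𝒜 X d z := rfl

include hd in
theorem bigDk_mem (a : ℕ × ℤ) (z : (BigG 𝒜 X).carrier) (hz : z ∈ bpc 𝒜 X a) :
    bigDk 𝒜 X d z ∈ bpc 𝒜 X (sh a) := by
  obtain ⟨i, n⟩ := a
  obtain ⟨x, hx, rfl⟩ := (mem_bpc 𝒜 X).1 hz
  rw [bigDk_apply, bigD_dinc]
  exact dinc_mem_bpc 𝒜 X (hd i n x hx)

include hdd in
theorem bigDk_bigDk (z : (BigG 𝒜 X).carrier) : bigDk 𝒜 X d (bigDk 𝒜 X d z) = 0 :=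
  bigD_bigD 𝒜 X d hdd z

theorem scal_sgn_eq : scal (bpc 𝒜 X) (sgn k) = (bigSg 𝒜 X).restrictScalars k := by
  apply ext_pieces (bpc 𝒜 X)
  rintro ⟨i, n⟩ z hz
  rw [scal_apply_mem (bpc 𝒜 X) _ hz]
  obtain ⟨x, hx, rfl⟩ := (mem_bpc 𝒜 X).1 hz
  show sgn k (i, n) • dinc 𝒜 X i x = bigSg 𝒜 X (dinc 𝒜 X i x)
  rw [bigSg_dinc]
  unfold sgn
  show algebraMap k R ((-1 : k) ^ i) • dinc 𝒜 X i x = _
  rw [map_pow, map_neg, map_one]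

theorem smul_mem_bpc {e : ℤ} {a : R} (ha : a ∈ 𝒜 e) {i : ℕ} {n : ℤ} {z : (BigG 𝒜 X).carrier}
    (hz : z ∈ bpc 𝒜 X (i, n)) : a • z ∈ bpc 𝒜 X (i, e + n) := by
  obtain ⟨x, hx, rfl⟩ := (mem_bpc 𝒜 X).1 hz
  rw [← map_smul]
  apply dinc_mem_bpc
  have := SetLike.GradedSMul.smul_mem (A := 𝒜) (B := (X i).gr) ha hx
  rwa [vadd_eq_add] at this

theorem proj_bpc_same {i : ℕ} {n : ℤ} {z : (BigG 𝒜 X).carrier} (hz : z ∈ bpc 𝒜 X (i, n)) :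
    proj 𝒜 (BigG 𝒜 X).gr n z = z :=
  proj_same 𝒜 _ (bpc_le_gr 𝒜 X hz)

theorem proj_bpc_ne {i : ℕ} {n m : ℤ} (h : m ≠ n) {z : (BigG 𝒜 X).carrier}
    (hz : z ∈ bpc 𝒜 X (i, m)) : proj 𝒜 (BigG 𝒜 X).gr n z = 0 :=
  proj_ne 𝒜 _ h (bpc_le_gr 𝒜 X hz)

end Big

end Groth.Agent.Helper20.Seg
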