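import Mathlib
import Groth.Agent.Lib.Helper20.GrSeg13

/-!
# The total complex of the Segre product of two complexes (helper20)
-/

open DirectSum TensorProduct

namespace Groth.Agent.Helper20.Seg

open Groth.Agent.Helper20.GrInj Groth.Agent.Helper8 Groth.Agent.Helper20.Kun

universe u

attribute [local instance] gK gK_tower

section Tot

variable {k : Type u} [Field k] {R S T : Type u} [CommRing R] [CommRing S] [CommRing T]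
  [Algebra k R] [Algebra k S] [Algebra k T]
  (𝒜 : ℤ → Submodule k R) [GradedAlgebra 𝒜] (ℬ : ℤ → Submodule k S) [GradedAlgebra ℬ]
  (𝒯 : ℤ → Submodule k T) [GradedAlgebra 𝒯] (ψ : T →ₐ[k] R ⊗[k] S)
  (hT : GrSeg.IsSegreRing 𝒜 ℬ 𝒯 ψ)
  (X : ℕ → GrLC.GMod.{u} 𝒜) (Y : ℕ → GrLC.GMod.{u} ℬ)

/-- the ambient tensor product -/
abbrev BT : Type u := (BigG 𝒜 X).carrier ⊗[k] (BigG ℬ Y).carrier

/-- the pieces of the total complex -/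
noncomputable abbrev Eq (q : ℕ) (n : ℤ) : Submodule k (BT 𝒜 ℬ X Y) :=
  E (bpc 𝒜 X) (bpc ℬ Y) q n

/-- the Segre product of the two total modules -/
abbrev SC : Type u := SegX 𝒜 ℬ 𝒯 ψ hT (BigG 𝒜 X) (BigG ℬ Y)

/-- the underlying tensor -/
noncomputable abbrev vl : SC 𝒜 ℬ 𝒯 ψ hT X Y →+ BT 𝒜 ℬ X Y :=
  valHom 𝒜 ℬ 𝒯 ψ hT (BigG 𝒜 X).gr (BigG ℬ Y).gr

theorem E_le_segrePiece (q : ℕ) (n : ℤ) :
    Eq 𝒜 ℬ X Y q n ≤ GrSeg.segrePiece k (BigG 𝒜 X).gr (BigG ℬ Y).gr n := by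
  apply E_le
  intro i j _
  apply Submodule.span_le.2
  rintro _ ⟨x, hx, y, hy, rfl⟩
  exact tmul_mem_segrePiece _ _ (bpc_le_gr 𝒜 X hx) (bpc_le_gr ℬ Y hy)

theorem act_mem_E {e : ℤ} {x : R ⊗[k] S} (hx : x ∈ GrSeg.segrePiece k 𝒜 ℬ e) (q : ℕ) (n : ℤ)
    {z : BT 𝒜 ℬ X Y} (hz : z ∈ Eq 𝒜 ℬ X Y q n) :
    GrSeg.act k R S _ _ x z ∈ Eq 𝒜 ℬ X Y q (e + n) := by
  induction hx using Submodule.span_induction with
  | mem x hx =>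
    obtain ⟨a, ha, b, hb, rfl⟩ := hx
    have : Eq 𝒜 ℬ X Y q n ≤ (Eq 𝒜 ℬ X Y q (e + n)).comap
        (GrSeg.act k R S (BigG 𝒜 X).carrier (BigG ℬ Y).carrier (a ⊗ₜ[k] b)) := by
      apply E_le
      intro i j hij
      apply Submodule.span_le.2
      rintro _ ⟨u, hu, v, hv, rfl⟩
      rw [SetLike.mem_coe, Submodule.mem_comap, GrSeg.act_tmul]
      exact tsp_le_E hij (e + n)
        (tmul_mem_tsp (smul_mem_bpc 𝒜 X ha hu) (smul_mem_bpc ℬ Y hb hv))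
    exact this hz
  | zero => rw [map_zero, LinearMap.zero_apply]; exact zero_mem _
  | add x y _ _ hx hy => rw [map_add, LinearMap.add_apply]; exact add_mem hx hy
  | smul c x _ hx => rw [map_smul, LinearMap.smul_apply]; exact Submodule.smul_mem _ c hx

theorem dproj_E_same {q : ℕ} {n : ℤ} {z : BT 𝒜 ℬ X Y} (hz : z ∈ Eq 𝒜 ℬ X Y q n) :
    dproj 𝒜 ℬ (BigG 𝒜 X).gr (BigG ℬ Y).gr n z = z :=
  dproj_same 𝒜 ℬ _ _ (E_le_segrePiece 𝒜 ℬ X Y q n hz)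

theorem dproj_E_ne {q : ℕ} {n m : ℤ} (h : m ≠ n) {z : BT 𝒜 ℬ X Y} (hz : z ∈ Eq 𝒜 ℬ X Y q m) :
    dproj 𝒜 ℬ (BigG 𝒜 X).gr (BigG ℬ Y).gr n z = 0 :=
  dproj_ne 𝒜 ℬ _ _ h (E_le_segrePiece 𝒜 ℬ X Y q m hz)

/-- the sum over all internal degrees of the pieces of total degree `q` -/
noncomputable def totK (q : ℕ) : Submodule k (BT 𝒜 ℬ X Y) := ⨆ n, Eq 𝒜 ℬ X Y q n

theorem totK_le_segK (q : ℕ) : totK 𝒜 ℬ X Y q ≤ segK (BigG 𝒜 X).gr (BigG ℬ Y).gr :=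
  iSup_le fun n => (E_le_segrePiece 𝒜 ℬ X Y q n).trans (le_iSup _ n)

theorem dproj_totK (q : ℕ) (n : ℤ) {z : BT 𝒜 ℬ X Y} (hz : z ∈ totK 𝒜 ℬ X Y q) :
    dproj 𝒜 ℬ (BigG 𝒜 X).gr (BigG ℬ Y).gr n z ∈ Eq 𝒜 ℬ X Y q n := by
  unfold totK at hz
  induction hz using Submodule.iSup_induction' with
  | mem m z hz =>
    by_cases hmn : m = n
    · subst hmn
      rw [dproj_E_same 𝒜 ℬ X Y hz]
      exact hz
    · rw [dproj_E_ne 𝒜 ℬ X Y hmn hz]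
      exact zero_mem _
  | zero => rw [map_zero]; exact zero_mem _
  | add z w _ _ hz hw => rw [map_add]; exact add_mem hz hw

include hT in
theorem act_psi_mem_totK (q : ℕ) (t : T) {z : BT 𝒜 ℬ X Y} (hz : z ∈ totK 𝒜 ℬ X Y q) :
    GrSeg.act k R S _ _ (ψ t) z ∈ totK 𝒜 ℬ X Y q := by
  classical
  induction t using DirectSum.Decomposition.inductionOn 𝒯 with
  | zero => rw [map_zero, map_zero, LinearMap.zero_apply]; exact zero_mem _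
  | @homogeneous e t =>
    unfold totK at hz
    induction hz using Submodule.iSup_induction' with
    | mem n z hz =>
      exact Submodule.mem_iSup_of_mem (e + n)
        (act_mem_E 𝒜 ℬ X Y (psi_mem 𝒜 ℬ 𝒯 ψ hT t.2) q n hz)
    | zero => rw [map_zero]; exact zero_mem _
    | add z w _ _ hz hw => rw [map_add]; exact add_mem hz hw
  | add t t' ht ht' =>
    rw [map_add, map_add, LinearMap.add_apply]
    exact add_mem ht ht'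

/-- the term of degree `q` of the total complex, as a submodule of the Segre product -/
def totSub (q : ℕ) : Submodule T (SC 𝒜 ℬ 𝒯 ψ hT X Y) where
  carrier := {z | vl 𝒜 ℬ 𝒯 ψ hT X Y z ∈ totK 𝒜 ℬ X Y q}
  add_mem' := fun {a b} ha hb => by
    rw [Set.mem_setOf_eq, map_add]
    exact add_mem ha hb
  zero_mem' := by
    rw [Set.mem_setOf_eq, map_zero]
    exact zero_mem _
  smul_mem' := fun t z hz => act_psi_mem_totK 𝒜 ℬ 𝒯 ψ hT X Y q t hz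

theorem mem_totSub {q : ℕ} {z : SC 𝒜 ℬ 𝒯 ψ hT X Y} :
    z ∈ totSub 𝒜 ℬ 𝒯 ψ hT X Y q ↔ vl 𝒜 ℬ 𝒯 ψ hT X Y z ∈ totK 𝒜 ℬ X Y q := Iff.rfl

/-- the homogeneous components of an element of a Segre product -/
theorem val_decompose {W : GrLC.GMod.{u} 𝒜} {V : GrLC.GMod.{u} ℬ}
    (z : SegX 𝒜 ℬ 𝒯 ψ hT W V) (n : ℤ) :
    valHom 𝒜 ℬ 𝒯 ψ hT W.gr V.gr (decompose (segGr 𝒜 ℬ 𝒯 ψ hT W.gr V.gr) z n : SegX 𝒜 ℬ 𝒯 ψ hT W V) =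
      dproj 𝒜 ℬ W.gr V.gr n (valHom 𝒜 ℬ 𝒯 ψ hT W.gr V.gr z) := by
  classical
  have hz := sum_support_decompose (segGr 𝒜 ℬ 𝒯 ψ hT W.gr V.gr) z
  conv_rhs => rw [← hz]
  rw [map_sum, map_sum]
  by_cases hn : n ∈ (decompose (segGr 𝒜 ℬ 𝒯 ψ hT W.gr V.gr) z).support
  · rw [Finset.sum_eq_single n]
    · exact (dproj_same 𝒜 ℬ W.gr V.gr (decompose (segGr 𝒜 ℬ 𝒯 ψ hT W.gr V.gr) z n).2).symm
    · intro m _ hmn
      exact dproj_ne 𝒜 ℬ W.gr V.gr hmn (decompose (segGr 𝒜 ℬ 𝒯 ψ hT W.gr V.gr) z m).2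
    · intro h
      exact absurd hn h
  · have h0 : (decompose (segGr 𝒜 ℬ 𝒯 ψ hT W.gr V.gr) z n : SegX 𝒜 ℬ 𝒯 ψ hT W V) = 0 := by
      rw [DFinsupp.notMem_support_iff.1 hn]
      rfl
    rw [h0, map_zero]
    symm
    apply Finset.sum_eq_zero
    intro m hm
    have hmn : m ≠ n := fun h => hn (h ▸ hm)
    exact dproj_ne 𝒜 ℬ W.gr V.gr hmn (decompose (segGr 𝒜 ℬ 𝒯 ψ hT W.gr V.gr) z m).2

theorem totSub_isHomogeneous (q : ℕ) :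
    (totSub 𝒜 ℬ 𝒯 ψ hT X Y q).IsHomogeneous
      (segGr 𝒜 ℬ 𝒯 ψ hT (BigG 𝒜 X).gr (BigG ℬ Y).gr) := by
  intro n z hz
  rw [mem_totSub, val_decompose]
  exact le_iSup (fun n => Eq 𝒜 ℬ X Y q n) n (dproj_totK 𝒜 ℬ X Y q n hz)

/-- the term of degree `q` of the total complex as a graded `T`-module -/
noncomputable def TotG (q : ℕ) : GrLC.GMod.{u} (toAdd 𝒯) :=
  subGMod (segGr 𝒜 ℬ 𝒯 ψ hT (BigG 𝒜 X).gr (BigG ℬ Y).gr) (toAdd 𝒯)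
    (totSub 𝒜 ℬ 𝒯 ψ hT X Y q) (totSub_isHomogeneous 𝒜 ℬ 𝒯 ψ hT X Y q)

/-- the tensor underlying an element of the total complex -/
noncomputable def tv (q : ℕ) : (TotG 𝒜 ℬ 𝒯 ψ hT X Y q).carrier →+ BT 𝒜 ℬ X Y :=
  (vl 𝒜 ℬ 𝒯 ψ hT X Y).comp (totSub 𝒜 ℬ 𝒯 ψ hT X Y q).subtype.toAddMonoidHom

theorem tv_injective (q : ℕ) : Function.Injective (tv 𝒜 ℬ 𝒯 ψ hT X Y q) := by
  intro a b h
  apply Subtype.ext
  exact valHom_injective 𝒜 ℬ 𝒯 ψ hT _ _ h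

theorem tv_mem_totK (q : ℕ) (z : (TotG 𝒜 ℬ 𝒯 ψ hT X Y q).carrier) :
    tv 𝒜 ℬ 𝒯 ψ hT X Y q z ∈ totK 𝒜 ℬ X Y q := z.2

theorem tv_smul (q : ℕ) (t : T) (z : (TotG 𝒜 ℬ 𝒯 ψ hT X Y q).carrier) :
    tv 𝒜 ℬ 𝒯 ψ hT X Y q (t • z) = GrSeg.act k R S _ _ (ψ t) (tv 𝒜 ℬ 𝒯 ψ hT X Y q z) := rfl

theorem mem_TotG_gr {q : ℕ} {n : ℤ} {z : (TotG 𝒜 ℬ 𝒯 ψ hT X Y q).carrier} :
    z ∈ (TotG 𝒜 ℬ 𝒯 ψ hT X Y q).gr n ↔ tv 𝒜 ℬ 𝒯 ψ hT X Y q z ∈ Eq 𝒜 ℬ X Y q n := by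
  constructor
  · intro hz
    have h1 : tv 𝒜 ℬ 𝒯 ψ hT X Y q z ∈ GrSeg.segrePiece k (BigG 𝒜 X).gr (BigG ℬ Y).gr n := hz
    have h2 := dproj_totK 𝒜 ℬ X Y q n (tv_mem_totK 𝒜 ℬ 𝒯 ψ hT X Y q z)
    rwa [dproj_same 𝒜 ℬ _ _ h1] at h2
  · intro hz
    exact E_le_segrePiece 𝒜 ℬ X Y q n hz

/-- elements of the total complex from tensors -/
noncomputable def mkTot (q : ℕ) (u : BT 𝒜 ℬ X Y) (hu : u ∈ totK 𝒜 ℬ X Y q) :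
    (TotG 𝒜 ℬ 𝒯 ψ hT X Y q).carrier :=
  ⟨⟨u, totK_le_segK 𝒜 ℬ X Y q hu⟩, hu⟩

theorem tv_mkTot (q : ℕ) (u : BT 𝒜 ℬ X Y) (hu : u ∈ totK 𝒜 ℬ X Y q) :
    tv 𝒜 ℬ 𝒯 ψ hT X Y q (mkTot 𝒜 ℬ 𝒯 ψ hT X Y q u hu) = u := rfl

end Tot

end Groth.Agent.Helper20.Seg
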