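import Mathlib
import Groth.Agent.Lib.Helper20.GrSeg14

/-!
# The differential of the total complex (helper20)
-/

open DirectSum TensorProduct

namespace Groth.Agent.Helper20.Kun

universe u v

section Sq

variable {k : Type u} [Field k] {V : Type v} [AddCommGroup V] [Module k V]
  {W : Type v} [AddCommGroup W] [Module k W]
variable {α : Type} [DecidableEq α] {pc : α → Submodule k V} [DirectSum.Decomposition pc]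
variable {succ : α → α} {d : V →ₗ[k] V} (hd : ∀ a x, x ∈ pc a → d x ∈ pc (succ a))
variable {d' : W →ₗ[k] W}
variable (c : α → k) (hc2 : ∀ a, c (succ a) = - c a)

include hd hc2 in
theorem tδ_tδ (hd2 : ∀ x, d (d x) = 0) (hd2' : ∀ y, d' (d' y) = 0) (z : V ⊗[k] W) :
    tδ pc d d' c (tδ pc d d' c z) = 0 := by
  induction z using TensorProduct.induction_on with
  | zero => simp
  | tmul x y =>
    rw [tδ_tmul, map_add, tδ_tmul, tδ_tmul, hd2, hd2', d_sign pc succ d hd c hc2 x]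
    simp only [TensorProduct.zero_tmul, TensorProduct.tmul_zero, TensorProduct.neg_tmul]
    abel
  | add z w hz hw => rw [map_add, map_add, hz, hw, add_zero]

end Sq

end Groth.Agent.Helper20.Kun

namespace Groth.Agent.Helper20.Seg

open Groth.Agent.Helper20.GrInj Groth.Agent.Helper8 Groth.Agent.Helper20.Kun

universe u

attribute [local instance] gK gK_tower

section TotD

variable {k : Type u} [Field k] {R S T : Type u} [CommRing R] [CommRing S] [CommRing T]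
  [Algebra k R] [Algebra k S] [Algebra k T]
  (𝒜 : ℤ → Submodule k R) [GradedAlgebra 𝒜] (ℬ : ℤ → Submodule k S) [GradedAlgebra ℬ]
  (𝒯 : ℤ → Submodule k T) [GradedAlgebra 𝒯] (ψ : T →ₐ[k] R ⊗[k] S)
  (hT : GrSeg.IsSegreRing 𝒜 ℬ 𝒯 ψ)
  (X : ℕ → GrLC.GMod.{u} 𝒜) (Y : ℕ → GrLC.GMod.{u} ℬ)
  (d : ∀ n : ℕ, (X n).carrier →ₗ[R] (X (n + 1)).carrier)
  (hd : ∀ n, GrLC.IsGrHom (X n).gr (X (n + 1)).gr (d n))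
  (hdd : ∀ n x, d (n + 1) (d n x) = 0)
  (d' : ∀ n : ℕ, (Y n).carrier →ₗ[S] (Y (n + 1)).carrier)
  (hd' : ∀ n, GrLC.IsGrHom (Y n).gr (Y (n + 1)).gr (d' n))
  (hdd' : ∀ n y, d' (n + 1) (d' n y) = 0)

/-- the total differential on the ambient tensor product -/
noncomputable abbrev Δ : BT 𝒜 ℬ X Y →ₗ[k] BT 𝒜 ℬ X Y :=
  δ' (bpc 𝒜 X) (bigDk 𝒜 X d) (bigDk ℬ Y d')

theorem Δ_eq : Δ 𝒜 ℬ X Y d d' =
    tmap (k := k) (bigD 𝒜 X d) (LinearMap.id : (BigG ℬ Y).carrier →ₗ[S] (BigG ℬ Y).carrier) +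
      tmap (k := k) (bigSg 𝒜 X) (bigD ℬ Y d') := by
  unfold Δ δ' tδ
  rw [scal_sgn_eq]
  rfl

include hd hd' in
theorem Δ_E (q : ℕ) (n : ℤ) :
    (Eq 𝒜 ℬ X Y q n).map (Δ 𝒜 ℬ X Y d d') ≤ Eq 𝒜 ℬ X Y (q + 1) n :=
  δ_E (bigDk_mem 𝒜 X d hd) (bigDk_mem ℬ Y d' hd') q n

include hd hd' in
theorem Δ_totK (q : ℕ) {z : BT 𝒜 ℬ X Y} (hz : z ∈ totK 𝒜 ℬ X Y q) :
    Δ 𝒜 ℬ X Y d d' z ∈ totK 𝒜 ℬ X Y (q + 1) := by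
  unfold totK at hz
  induction hz using Submodule.iSup_induction' with
  | mem n z hz =>
    exact le_iSup (fun n => Eq 𝒜 ℬ X Y (q + 1) n) n (Δ_E 𝒜 ℬ X Y d hd d' hd' q n ⟨z, hz, rfl⟩)
  | zero => rw [map_zero]; exact zero_mem _
  | add z w _ _ hz hw => rw [map_add]; exact add_mem hz hw

include hd hdd hdd' in
theorem Δ_Δ (z : BT 𝒜 ℬ X Y) : Δ 𝒜 ℬ X Y d d' (Δ 𝒜 ℬ X Y d d' z) = 0 :=
  tδ_tδ (bigDk_mem 𝒜 X d hd) (sgn k) sgn_sh (bigDk_bigDk 𝒜 X d hdd) (bigDk_bigDk ℬ Y d' hdd') z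

/-- the differential on the Segre product of the total modules -/
noncomputable def δT : SC 𝒜 ℬ 𝒯 ψ hT X Y →ₗ[T] SC 𝒜 ℬ 𝒯 ψ hT X Y :=
  segMap 𝒜 ℬ 𝒯 ψ hT _ _ _ _ (bigD 𝒜 X d) (bigD_isGrHom 𝒜 X d hd) LinearMap.id
      (fun _ _ h => h) +
    segMap 𝒜 ℬ 𝒯 ψ hT _ _ _ _ (bigSg 𝒜 X) (bigSg_isGrHom 𝒜 X) (bigD ℬ Y d')
      (bigD_isGrHom ℬ Y d' hd')

theorem vl_δT (z : SC 𝒜 ℬ 𝒯 ψ hT X Y) :
    vl 𝒜 ℬ 𝒯 ψ hT X Y (δT 𝒜 ℬ 𝒯 ψ hT X Y d hd d' hd' z) =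
      Δ 𝒜 ℬ X Y d d' (vl 𝒜 ℬ 𝒯 ψ hT X Y z) := by
  rw [Δ_eq]
  rfl

/-- the differential of the total complex -/
noncomputable def totD (q : ℕ) :
    (TotG 𝒜 ℬ 𝒯 ψ hT X Y q).carrier →ₗ[T] (TotG 𝒜 ℬ 𝒯 ψ hT X Y (q + 1)).carrier :=
  (δT 𝒜 ℬ 𝒯 ψ hT X Y d hd d' hd').restrict (p := totSub 𝒜 ℬ 𝒯 ψ hT X Y q)
    (q := totSub 𝒜 ℬ 𝒯 ψ hT X Y (q + 1)) (fun z hz => by
      rw [mem_totSub, vl_δT]
      exact Δ_totK 𝒜 ℬ X Y d hd d' hd' q hz)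

theorem tv_totD (q : ℕ) (z : (TotG 𝒜 ℬ 𝒯 ψ hT X Y q).carrier) :
    tv 𝒜 ℬ 𝒯 ψ hT X Y (q + 1) (totD 𝒜 ℬ 𝒯 ψ hT X Y d hd d' hd' q z) =
      Δ 𝒜 ℬ X Y d d' (tv 𝒜 ℬ 𝒯 ψ hT X Y q z) :=
  vl_δT 𝒜 ℬ 𝒯 ψ hT X Y d hd d' hd' z.1

theorem totD_isGrHom (q : ℕ) :
    GrLC.IsGrHom (TotG 𝒜 ℬ 𝒯 ψ hT X Y q).gr (TotG 𝒜 ℬ 𝒯 ψ hT X Y (q + 1)).gr
      (totD 𝒜 ℬ 𝒯 ψ hT X Y d hd d' hd' q) := by
  intro n z hz
  rw [mem_TotG_gr] at hz ⊢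
  rw [tv_totD]
  exact Δ_E 𝒜 ℬ X Y d hd d' hd' q n ⟨_, hz, rfl⟩

include hdd hdd' in
theorem totD_totD (q : ℕ) (z : (TotG 𝒜 ℬ 𝒯 ψ hT X Y q).carrier) :
    totD 𝒜 ℬ 𝒯 ψ hT X Y d hd d' hd' (q + 1) (totD 𝒜 ℬ 𝒯 ψ hT X Y d hd d' hd' q z) = 0 := by
  apply tv_injective
  rw [tv_totD, tv_totD, Δ_Δ 𝒜 ℬ X Y d hd hdd d' hdd', map_zero]

end TotD

end Groth.Agent.Helper20.Seg
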