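import Mathlib
import Groth.Agent.Lib.Helper20.GrSeg15

/-!
# Exactness of the total complex of two nice resolutions (helper20)
-/

open DirectSum TensorProduct

namespace Groth.Agent.Helper20.Seg

open Groth.Agent.Helper20.GrInj Groth.Agent.Helper8 Groth.Agent.Helper20.Kun

universe u

attribute [local instance] gK gK_tower

section OneRes

variable {k : Type u} [Field k] {R : Type u} [CommRing R] [Algebra k R]
  {𝒜 : ℤ → Submodule k R} [GradedAlgebra 𝒜]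
  {M : Type u} [AddCommGroup M] [Module R M] [Module k M] [IsScalarTower k R M]
  {ℳ : ℤ → AddSubgroup M} [DirectSum.Decomposition ℳ] [SetLike.GradedSMul 𝒜 ℳ]
  (G : NRes 𝒜 ℳ)

/-- the total module of a resolution -/
noncomputable abbrev NRes.B : GrLC.GMod.{u} 𝒜 := BigG 𝒜 G.X

/-- the bigrading -/
noncomputable abbrev NRes.pc : ℕ × ℤ → Submodule k G.B.carrier := bpc 𝒜 G.X

/-- the differential -/
noncomputable abbrev NRes.D : G.B.carrier →ₗ[k] G.B.carrier := bigDk 𝒜 G.X G.d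

theorem NRes.D_mem (a : ℕ × ℤ) (z : G.B.carrier) (hz : z ∈ G.pc a) : G.D z ∈ G.pc (sh a) :=
  bigDk_mem 𝒜 G.X G.d G.d_grHom a z hz

theorem NRes.D_D (z : G.B.carrier) : G.D (G.D z) = 0 :=
  bigDk_bigDk 𝒜 G.X G.d G.d_comp z

/-- a chosen splitting -/
noncomputable def NRes.sp : Splitting G.pc sh G.D :=
  Classical.choice (nonempty_splitting G.pc sh G.D sh_injective G.D_mem G.D_D)

/-- the augmentation into the total module -/
noncomputable def NRes.ι : M →ₗ[R] G.B.carrier := (dinc 𝒜 G.X 0) ∘ₗ G.ε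

theorem NRes.ι_apply (m : M) : G.ι m = dinc 𝒜 G.X 0 (G.ε m) := rfl

theorem NRes.ι_injective : Function.Injective G.ι :=
  (dinc_injective 𝒜 G.X 0).comp G.ε_injective

theorem NRes.ι_isGrHom : GrLC.IsGrHom ℳ G.B.gr G.ι :=
  fun n m hm => dinc_isGrHom 𝒜 G.X 0 n _ (G.ε_grHom n m hm)

theorem NRes.ι_mem_pc {n : ℤ} {m : M} (hm : m ∈ ℳ n) : G.ι m ∈ G.pc (0, n) :=
  dinc_mem_bpc 𝒜 G.X (G.ε_grHom n m hm)

theorem NRes.D_ι (m : M) : G.D (G.ι m) = 0 := by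
  show bigD 𝒜 G.X G.d (dinc 𝒜 G.X 0 (G.ε m)) = 0
  rw [bigD_dinc, G.d_ε, map_zero]

/-- exactness in positive degrees, on the pieces -/
theorem NRes.exact_pc (i : ℕ) (n : ℤ) (z : G.B.carrier) (hz : z ∈ G.pc (i + 1, n))
    (hz0 : G.D z = 0) : ∃ w ∈ G.pc (i, n), G.D w = z := by
  obtain ⟨x, hx, rfl⟩ := (mem_bpc 𝒜 G.X).1 hz
  have h1 : bigD 𝒜 G.X G.d (dinc 𝒜 G.X (i + 1) x) = 0 := hz0
  rw [bigD_dinc] at h1
  have h2 : G.d (i + 1) x = 0 := dinc_injective 𝒜 G.X (i + 2) (h1.trans (map_zero _).symm)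
  have h3 : x ∈ LinearMap.range (G.d i) := by
    rw [← G.exact_succ]
    exact h2
  obtain ⟨y, rfl⟩ := h3
  refine ⟨dinc 𝒜 G.X i (decompose (G.X i).gr y n : (G.X i).carrier),
    dinc_mem_bpc 𝒜 G.X (decompose (G.X i).gr y n).2, ?_⟩
  show bigD 𝒜 G.X G.d _ = _
  rw [bigD_dinc, ← decompose_map (G.X i).gr (G.X (i + 1)).gr (G.d_grHom i) y n,
    decompose_of_mem_same _ hx]

/-- exactness in degree zero, on the pieces -/
theorem NRes.exact_pc_zero (n : ℤ) (z : G.B.carrier) (hz : z ∈ G.pc (0, n))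
    (hz0 : G.D z = 0) : ∃ m ∈ ℳ n, G.ι m = z := by
  obtain ⟨x, hx, rfl⟩ := (mem_bpc 𝒜 G.X).1 hz
  have h1 : bigD 𝒜 G.X G.d (dinc 𝒜 G.X 0 x) = 0 := hz0
  rw [bigD_dinc] at h1
  have h2 : G.d 0 x = 0 := dinc_injective 𝒜 G.X 1 (h1.trans (map_zero _).symm)
  have h3 : x ∈ LinearMap.range G.ε := by
    rw [← G.exact_zero]
    exact h2
  obtain ⟨m, rfl⟩ := h3
  refine ⟨(decompose ℳ m n : M), (decompose ℳ m n).2, ?_⟩
  rw [G.ι_apply, ← decompose_map ℳ (G.X 0).gr G.ε_grHom m n, decompose_of_mem_same _ hx]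

theorem NRes.HV_succ (i : ℕ) (n : ℤ) : HV G.sp (i + 1, n) = ⊥ := by
  rw [eq_bot_iff]
  intro x hx
  obtain ⟨w, _, hw⟩ := G.exact_pc i n x (HV_le G.sp _ hx) (d_of_mem_HV G.sp hx)
  rw [Submodule.mem_bot, ← p_of_mem_HV G.sp hx, ← hw, G.sp.p_d]

theorem NRes.mem_HV_zero (n : ℤ) (z : G.B.carrier) :
    z ∈ HV G.sp (0, n) ↔ ∃ m ∈ ℳ n, G.ι m = z := by
  rw [HV_zero]
  constructor
  · rintro ⟨h1, h2⟩
    exact G.exact_pc_zero n z h1 (LinearMap.mem_ker.1 h2)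
  · rintro ⟨m, hm, rfl⟩
    exact ⟨G.ι_mem_pc hm, LinearMap.mem_ker.2 (G.D_ι m)⟩

end OneRes

section TwoRes

variable {k : Type u} [Field k] {R S : Type u} [CommRing R] [CommRing S]
  [Algebra k R] [Algebra k S]
  {𝒜 : ℤ → Submodule k R} [GradedAlgebra 𝒜] {ℬ : ℤ → Submodule k S} [GradedAlgebra ℬ]
  {M : Type u} [AddCommGroup M] [Module R M] [Module k M] [IsScalarTower k R M]
  {ℳ : ℤ → AddSubgroup M} [DirectSum.Decomposition ℳ] [SetLike.GradedSMul 𝒜 ℳ]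
  {N : Type u} [AddCommGroup N] [Module S N] [Module k N] [IsScalarTower k S N]
  {𝒩 : ℤ → AddSubgroup N} [DirectSum.Decomposition 𝒩] [SetLike.GradedSMul ℬ 𝒩]
  (GX : NRes 𝒜 ℳ) (GY : NRes ℬ 𝒩)

/-- the total differential of two resolutions -/
noncomputable abbrev DD : BT 𝒜 ℬ GX.X GY.X →ₗ[k] BT 𝒜 ℬ GX.X GY.X := Δ 𝒜 ℬ GX.X GY.X GX.d GY.d

theorem PE_succ (q : ℕ) (n : ℤ) : PE GX.sp GY.sp (q + 1) n = ⊥ := by
  rw [eq_bot_iff]
  refine iSup_le fun i => iSup_le fun j => iSup_le fun hij => ?_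
  cases i with
  | zero =>
    cases j with
    | zero => omega
    | succ j => rw [GY.HV_succ, tsp_bot_right]
  | succ i => rw [GX.HV_succ, tsp_bot_left]

theorem tP_totK_succ (q : ℕ) {z : BT 𝒜 ℬ GX.X GY.X} (hz : z ∈ totK 𝒜 ℬ GX.X GY.X (q + 1)) :
    tP GX.sp GY.sp z = 0 := by
  unfold totK at hz
  induction hz using Submodule.iSup_induction' with
  | mem n z hz =>
    have := P_E GX.sp GY.sp (q + 1) n ⟨z, hz, rfl⟩
    rw [PE_succ] at this
    exact (Submodule.mem_bot k).1 this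
  | zero => rw [map_zero]
  | add z w _ _ hz hw => rw [map_add, hz, hw, add_zero]

theorem tS_totK (q : ℕ) {z : BT 𝒜 ℬ GX.X GY.X} (hz : z ∈ totK 𝒜 ℬ GX.X GY.X (q + 1)) :
    tS (sgn k) GX.sp GY.sp z ∈ totK 𝒜 ℬ GX.X GY.X q := by
  unfold totK at hz
  induction hz using Submodule.iSup_induction' with
  | mem n z hz =>
    exact le_iSup (fun n => Eq 𝒜 ℬ GX.X GY.X q n) n (S_E GX.sp GY.sp q n ⟨z, hz, rfl⟩)
  | zero => rw [map_zero]; exact zero_mem _
  | add z w _ _ hz hw => rw [map_add]; exact add_mem hz hw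

theorem tS_totK_zero {z : BT 𝒜 ℬ GX.X GY.X} (hz : z ∈ totK 𝒜 ℬ GX.X GY.X 0) :
    tS (sgn k) GX.sp GY.sp z = 0 := by
  unfold totK at hz
  induction hz using Submodule.iSup_induction' with
  | mem n z hz => exact S_E_zero GX.sp GY.sp n z hz
  | zero => rw [map_zero]
  | add z w _ _ hz hw => rw [map_add, hz, hw, add_zero]

/-- **exactness of the total complex in positive degrees** -/
theorem DD_exact_succ (q : ℕ) {z : BT 𝒜 ℬ GX.X GY.X} (hz : z ∈ totK 𝒜 ℬ GX.X GY.X (q + 1))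
    (hz0 : DD GX GY z = 0) : ∃ w ∈ totK 𝒜 ℬ GX.X GY.X q, DD GX GY w = z := by
  have h := cocycle_eq GX.D_mem GX.sp GY.sp z hz0
  rw [tP_totK_succ GX GY q hz, add_zero] at h
  exact ⟨_, tS_totK GX GY q hz, h.symm⟩

/-- the harmonic part in degree zero -/
noncomputable def harm0 : Submodule k (BT 𝒜 ℬ GX.X GY.X) :=
  ⨆ n : ℤ, tsp (HV GX.sp (0, n)) (HV GY.sp (0, n))

theorem tP_totK_zero {z : BT 𝒜 ℬ GX.X GY.X} (hz : z ∈ totK 𝒜 ℬ GX.X GY.X 0) :
    tP GX.sp GY.sp z ∈ harm0 GX GY := by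
  unfold totK at hz
  induction hz using Submodule.iSup_induction' with
  | mem n z hz =>
    have h1 := P_E GX.sp GY.sp 0 n ⟨z, hz, rfl⟩
    have h2 : PE GX.sp GY.sp 0 n ≤ tsp (HV GX.sp (0, n)) (HV GY.sp (0, n)) := by
      refine iSup_le fun i => iSup_le fun j => iSup_le fun hij => ?_
      have hi : i = 0 := by omega
      have hj : j = 0 := by omega
      subst hi hj
      exact le_rfl
    exact le_iSup (fun n : ℤ => tsp (HV GX.sp (0, n)) (HV GY.sp (0, n))) n (h2 h1)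
  | zero => rw [map_zero]; exact zero_mem _
  | add z w _ _ hz hw => rw [map_add]; exact add_mem hz hw

/-- **exactness of the total complex in degree zero** -/
theorem DD_exact_zero {z : BT 𝒜 ℬ GX.X GY.X} (hz : z ∈ totK 𝒜 ℬ GX.X GY.X 0)
    (hz0 : DD GX GY z = 0) : z ∈ harm0 GX GY := by
  have h := cocycle_eq GX.D_mem GX.sp GY.sp z hz0
  rw [tS_totK_zero GX GY hz, map_zero, zero_add] at h
  rw [h]
  exact tP_totK_zero GX GY hz

end TwoRes

end Groth.Agent.Helper20.Seg
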