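import Mathlib
import Groth.Agent.Lib.Helper20.GrSeg16

/-!
# The total complex as a resolution of the Segre product (helper20)
-/

open DirectSum TensorProduct

namespace Groth.Agent.Helper20.Seg

open Groth.Agent.Helper20.GrInj Groth.Agent.Helper8 Groth.Agent.Helper20.Kun

universe u

attribute [local instance] gK gK_tower

section Aug

variable {k : Type u} [Field k] {R S T : Type u} [CommRing R] [CommRing S] [CommRing T]
  [Algebra k R] [Algebra k S] [Algebra k T]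
  {𝒜 : ℤ → Submodule k R} [GradedAlgebra 𝒜] {ℬ : ℤ → Submodule k S} [GradedAlgebra ℬ]
  {𝒯 : ℤ → Submodule k T} [GradedAlgebra 𝒯] {ψ : T →ₐ[k] R ⊗[k] S}
  (hT : GrSeg.IsSegreRing 𝒜 ℬ 𝒯 ψ)
  {M : Type u} [AddCommGroup M] [Module R M] [Module k M] [IsScalarTower k R M]
  {ℳ : ℤ → AddSubgroup M} [DirectSum.Decomposition ℳ] [SetLike.GradedSMul 𝒜 ℳ]
  {N : Type u} [AddCommGroup N] [Module S N] [Module k N] [IsScalarTower k S N]
  {𝒩 : ℤ → AddSubgroup N} [DirectSum.Decomposition 𝒩] [SetLike.GradedSMul ℬ 𝒩]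
  {P : Type u} [AddCommGroup P] [Module T P] [Module k P] [IsScalarTower k T P]
  {𝒬 : ℤ → AddSubgroup P} [DirectSum.Decomposition 𝒬] [SetLike.GradedSMul 𝒯 𝒬]
  {φ : P →ₗ[k] M ⊗[k] N} (hP : GrSeg.IsSegreMod ψ ℳ 𝒩 𝒬 φ)
  (GX : NRes 𝒜 ℳ) (GY : NRes ℬ 𝒩)

/-- the tensor product of the two augmentations -/
noncomputable def ιι : M ⊗[k] N →ₗ[k] BT 𝒜 ℬ GX.X GY.X := tmap GX.ι GY.ι

theorem ιι_tmul (m : M) (m' : N) : ιι GX GY (m ⊗ₜ[k] m') = GX.ι m ⊗ₜ[k] GY.ι m' := rfl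

theorem ιι_injective : Function.Injective (ιι GX GY) :=
  TensorProduct.map_injective_of_flat_flat _ _ GX.ι_injective GY.ι_injective

theorem ιι_mem_tsp {n : ℤ} {u : M ⊗[k] N} (hu : u ∈ GrSeg.segrePiece k ℳ 𝒩 n) :
    ιι GX GY u ∈ tsp (HV GX.sp (0, n)) (HV GY.sp (0, n)) := by
  induction hu using Submodule.span_induction with
  | mem u hu =>
    obtain ⟨m, hm, m', hm', rfl⟩ := hu
    rw [ιι_tmul]
    exact tmul_mem_tsp ((GX.mem_HV_zero n _).2 ⟨m, hm, rfl⟩) ((GY.mem_HV_zero n _).2 ⟨m', hm', rfl⟩)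
  | zero => rw [map_zero]; exact zero_mem _
  | add z w _ _ hz hw => rw [map_add]; exact add_mem hz hw
  | smul c z _ hz => rw [map_smul]; exact Submodule.smul_mem _ c hz

theorem tsp_HV_le_E (n : ℤ) :
    tsp (HV GX.sp (0, n)) (HV GY.sp (0, n)) ≤ Eq 𝒜 ℬ GX.X GY.X 0 n :=
  (tsp_mono (HV_le GX.sp _) (HV_le GY.sp _)).trans (tsp_le_E (by rfl) n)

theorem harm0_le_totK : harm0 GX GY ≤ totK 𝒜 ℬ GX.X GY.X 0 :=
  iSup_le fun n => (tsp_HV_le_E GX GY n).trans (le_iSup (fun n => Eq 𝒜 ℬ GX.X GY.X 0 n) n)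

include hP in
theorem φ_mem_piece {n : ℤ} {p : P} (hp : p ∈ 𝒬 n) : φ p ∈ GrSeg.segrePiece k ℳ 𝒩 n := by
  have : φ p ∈ φ '' (𝒬 n : Set P) := ⟨p, hp, rfl⟩
  rw [hP.image_piece n] at this
  exact this

include hP in
theorem ιι_φ_mem_harm0 (p : P) : ιι GX GY (φ p) ∈ harm0 GX GY := by
  classical
  induction p using DirectSum.Decomposition.inductionOn 𝒬 with
  | zero => rw [map_zero, map_zero]; exact zero_mem _
  | @homogeneous n p =>
    exact le_iSup (fun n : ℤ => tsp (HV GX.sp (0, n)) (HV GY.sp (0, n))) n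
      (ιι_mem_tsp GX GY (φ_mem_piece hP p.2))
  | add p p' hp hp' => rw [map_add, map_add]; exact add_mem hp hp'

include hP in
theorem harm0_le_range : harm0 GX GY ≤ (LinearMap.range φ).map (ιι GX GY) := by
  refine iSup_le fun n => Submodule.span_le.2 ?_
  rintro _ ⟨x, hx, y, hy, rfl⟩
  obtain ⟨m, hm, rfl⟩ := (GX.mem_HV_zero n x).1 hx
  obtain ⟨m', hm', rfl⟩ := (GY.mem_HV_zero n y).1 hy
  have h1 : m ⊗ₜ[k] m' ∈ (GrSeg.segrePiece k ℳ 𝒩 n : Set (M ⊗[k] N)) :=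
    Submodule.subset_span ⟨m, hm, m', hm', rfl⟩
  rw [← hP.image_piece n] at h1
  obtain ⟨p, _, hp⟩ := h1
  exact ⟨φ p, ⟨p, rfl⟩, by rw [hp, ιι_tmul]⟩

theorem DD_ιι (u : M ⊗[k] N) : DD GX GY (ιι GX GY u) = 0 := by
  induction u using TensorProduct.induction_on with
  | zero => rw [map_zero, map_zero]
  | tmul m m' =>
    rw [ιι_tmul]
    show tδ _ _ _ _ _ = 0
    rw [tδ_tmul]
    have h1 : bigDk 𝒜 GX.X GX.d (GX.ι m) = 0 := GX.D_ι m
    have h2 : bigDk ℬ GY.X GY.d (GY.ι m') = 0 := GY.D_ι m'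
    rw [h1, h2, TensorProduct.zero_tmul, TensorProduct.tmul_zero, add_zero]
  | add u v hu hv => rw [map_add, map_add, hu, hv, add_zero]

/-- the augmentation of the total complex -/
noncomputable def εP : P →ₗ[T] (TotG 𝒜 ℬ 𝒯 ψ hT GX.X GY.X 0).carrier where
  toFun p := mkTot 𝒜 ℬ 𝒯 ψ hT GX.X GY.X 0 (ιι GX GY (φ p))
    (harm0_le_totK GX GY (ιι_φ_mem_harm0 hP GX GY p))
  map_add' p p' := by
    apply tv_injective
    refine Eq.trans ?_ (map_add (tv 𝒜 ℬ 𝒯 ψ hT GX.X GY.X 0) _ _).symm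
    show ιι GX GY (φ (p + p')) = ιι GX GY (φ p) + ιι GX GY (φ p')
    rw [map_add, map_add]
  map_smul' t p := by
    apply tv_injective
    rw [RingHom.id_apply, tv_smul]
    show ιι GX GY (φ (t • p)) = GrSeg.act k R S _ _ (ψ t) (ιι GX GY (φ p))
    rw [hP.map_smul]
    exact (act_tmap GX.ι GY.ι (ψ t) (φ p)).symm

theorem tv_εP (p : P) :
    tv 𝒜 ℬ 𝒯 ψ hT GX.X GY.X 0 (εP hT hP GX GY p) = ιι GX GY (φ p) := rfl

theorem εP_injective : Function.Injective (εP hT hP GX GY) := by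
  intro p p' h
  have h1 := congrArg (tv 𝒜 ℬ 𝒯 ψ hT GX.X GY.X 0) h
  rw [tv_εP, tv_εP] at h1
  exact hP.injective (ιι_injective GX GY h1)

theorem εP_isGrHom :
    GrLC.IsGrHom 𝒬 (TotG 𝒜 ℬ 𝒯 ψ hT GX.X GY.X 0).gr (εP hT hP GX GY) := by
  intro n p hp
  rw [mem_TotG_gr, tv_εP]
  exact tsp_HV_le_E GX GY n (ιι_mem_tsp GX GY (φ_mem_piece hP hp))

/-- **the total complex of two nice resolutions resolves the Segre product** -/
noncomputable def totRes : GRes (toAdd 𝒯) 𝒬 where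
  X q := TotG 𝒜 ℬ 𝒯 ψ hT GX.X GY.X q
  d q := totD 𝒜 ℬ 𝒯 ψ hT GX.X GY.X GX.d GX.d_grHom GY.d GY.d_grHom q
  ε := εP hT hP GX GY
  d_grHom q := totD_isGrHom 𝒜 ℬ 𝒯 ψ hT GX.X GY.X GX.d GX.d_grHom GY.d GY.d_grHom q
  ε_grHom := εP_isGrHom hT hP GX GY
  ε_injective := εP_injective hT hP GX GY
  exact_zero := by
    apply le_antisymm
    · intro z hz
      have h1 : DD GX GY (tv 𝒜 ℬ 𝒯 ψ hT GX.X GY.X 0 z) = 0 := by
        rw [← tv_totD 𝒜 ℬ 𝒯 ψ hT GX.X GY.X GX.d GX.d_grHom GY.d GY.d_grHom 0 z,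
          LinearMap.mem_ker.1 hz, map_zero]
      have h2 := harm0_le_range hP GX GY
        (DD_exact_zero GX GY (tv_mem_totK 𝒜 ℬ 𝒯 ψ hT GX.X GY.X 0 z) h1)
      obtain ⟨_, ⟨p, rfl⟩, hp⟩ := h2
      refine ⟨p, ?_⟩
      apply tv_injective
      rw [tv_εP]
      exact hp
    · rintro _ ⟨p, rfl⟩
      rw [LinearMap.mem_ker]
      apply tv_injective
      rw [tv_totD, tv_εP, map_zero]
      exact DD_ιι GX GY (φ p)
  exact_succ q := by
    apply le_antisymm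
    · intro z hz
      have h1 : DD GX GY (tv 𝒜 ℬ 𝒯 ψ hT GX.X GY.X (q + 1) z) = 0 := by
        rw [← tv_totD 𝒜 ℬ 𝒯 ψ hT GX.X GY.X GX.d GX.d_grHom GY.d GY.d_grHom (q + 1) z,
          LinearMap.mem_ker.1 hz, map_zero]
      obtain ⟨w, hw, hwz⟩ := DD_exact_succ GX GY q (tv_mem_totK 𝒜 ℬ 𝒯 ψ hT GX.X GY.X (q + 1) z) h1
      refine ⟨mkTot 𝒜 ℬ 𝒯 ψ hT GX.X GY.X q w hw, ?_⟩
      apply tv_injective
      rw [tv_totD, tv_mkTot]
      exact hwz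
    · rintro _ ⟨w, rfl⟩
      rw [LinearMap.mem_ker]
      exact totD_totD 𝒜 ℬ 𝒯 ψ hT GX.X GY.X GX.d GX.d_grHom GX.d_comp GY.d GY.d_grHom GY.d_comp q w

end Aug

end Groth.Agent.Helper20.Seg
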