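import Mathlib
import Groth.Agent.Lib.Helper20.GrSeg17

/-!
# The terms of the total complex: acyclicity and torsion (helper20)
-/

open DirectSum TensorProduct

namespace Groth.Agent.Helper20.Seg

open Groth.Agent.Helper20.GrInj Groth.Agent.Helper8 Groth.Agent.Helper20.Kun

universe u

attribute [local instance] gK gK_tower

section Terms

variable {k : Type u} [Field k] {R S T : Type u} [CommRing R] [CommRing S] [CommRing T]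
  [Algebra k R] [Algebra k S] [Algebra k T]
  (𝒜 : ℤ → Submodule k R) [GradedAlgebra 𝒜] (ℬ : ℤ → Submodule k S) [GradedAlgebra ℬ]
  (𝒯 : ℤ → Submodule k T) [GradedAlgebra 𝒯] (ψ : T →ₐ[k] R ⊗[k] S)
  (hT : GrSeg.IsSegreRing 𝒜 ℬ 𝒯 ψ)
  (X : ℕ → GrLC.GMod.{u} 𝒜) (Y : ℕ → GrLC.GMod.{u} ℬ)

/-- the projection of the ambient tensor product onto the `(i, j)` summand and back -/
noncomputable def pij (i j : ℕ) : BT 𝒜 ℬ X Y →ₗ[k] BT 𝒜 ℬ X Y :=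
  tmap (k := k) ((dinc 𝒜 X i) ∘ₗ (dprj 𝒜 X i)) ((dinc ℬ Y j) ∘ₗ (dprj ℬ Y j))

theorem dinc_dprj_bpc_same {i : ℕ} {n : ℤ} {x : (BigG 𝒜 X).carrier} (hx : x ∈ bpc 𝒜 X (i, n)) :
    dinc 𝒜 X i (dprj 𝒜 X i x) = x := by
  obtain ⟨x', _, rfl⟩ := (mem_bpc 𝒜 X).1 hx
  rw [dprj_dinc_same]

theorem dinc_dprj_bpc_ne {i i' : ℕ} (h : i ≠ i') {n : ℤ} {x : (BigG 𝒜 X).carrier}
    (hx : x ∈ bpc 𝒜 X (i', n)) : dinc 𝒜 X i (dprj 𝒜 X i x) = 0 := by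
  obtain ⟨x', _, rfl⟩ := (mem_bpc 𝒜 X).1 hx
  rw [dprj_dinc_ne 𝒜 X h, map_zero]

theorem sum_pij_eq (q : ℕ) {z : BT 𝒜 ℬ X Y} (hz : z ∈ totK 𝒜 ℬ X Y q) :
    ∑ i : Fin (q + 1), pij 𝒜 ℬ X Y (i : ℕ) (q - (i : ℕ)) z = z := by
  have key : totK 𝒜 ℬ X Y q ≤ LinearMap.ker
      ((∑ i : Fin (q + 1), pij 𝒜 ℬ X Y (i : ℕ) (q - (i : ℕ))) - LinearMap.id) := by
    refine iSup_le fun n => E_le fun i' j' hij => Submodule.span_le.2 ?_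
    rintro _ ⟨x, hx, y, hy, rfl⟩
    rw [SetLike.mem_coe, LinearMap.mem_ker, LinearMap.sub_apply, LinearMap.sum_apply,
      LinearMap.id_apply, sub_eq_zero]
    have hi' : i' < q + 1 := by omega
    rw [Finset.sum_eq_single (⟨i', hi'⟩ : Fin (q + 1))]
    · have hj' : q - i' = j' := by omega
      show tmap (k := k) _ _ (x ⊗ₜ[k] y) = _
      rw [tmap_tmul, hj']
      show dinc 𝒜 X i' (dprj 𝒜 X i' x) ⊗ₜ[k] dinc ℬ Y j' (dprj ℬ Y j' y) = _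
      rw [dinc_dprj_bpc_same 𝒜 X hx, dinc_dprj_bpc_same ℬ Y hy]
    · intro b _ hb
      have hne : (b : ℕ) ≠ i' := fun h => hb (Fin.ext h)
      show tmap (k := k) _ _ (x ⊗ₜ[k] y) = _
      rw [tmap_tmul]
      show dinc 𝒜 X b (dprj 𝒜 X b x) ⊗ₜ[k] _ = _
      rw [dinc_dprj_bpc_ne 𝒜 X hne hx, TensorProduct.zero_tmul]
    · intro h
      exact absurd (Finset.mem_univ _) h
  have := LinearMap.mem_ker.1 (key hz)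
  rw [LinearMap.sub_apply, LinearMap.sum_apply, LinearMap.id_apply, sub_eq_zero] at this
  exact this

/-- the projection of a term of the total complex onto a summand -/
noncomputable def totF (q : ℕ) (i : Fin (q + 1)) :
    (TotG 𝒜 ℬ 𝒯 ψ hT X Y q).carrier →ₗ[T] SegX 𝒜 ℬ 𝒯 ψ hT (X i) (Y (q - (i : ℕ))) :=
  (segMap 𝒜 ℬ 𝒯 ψ hT _ _ _ _ (dprj 𝒜 X i) (dprj_isGrHom 𝒜 X i) (dprj ℬ Y (q - (i : ℕ)))
    (dprj_isGrHom ℬ Y _)) ∘ₗ (totSub 𝒜 ℬ 𝒯 ψ hT X Y q).subtype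

theorem val_totF (q : ℕ) (i : Fin (q + 1)) (z : (TotG 𝒜 ℬ 𝒯 ψ hT X Y q).carrier) :
    valHom 𝒜 ℬ 𝒯 ψ hT _ _ (totF 𝒜 ℬ 𝒯 ψ hT X Y q i z) =
      tmap (k := k) (dprj 𝒜 X i) (dprj ℬ Y (q - (i : ℕ))) (tv 𝒜 ℬ 𝒯 ψ hT X Y q z) := rfl

theorem tmap_dinc_mem_totK (q : ℕ) (i j : ℕ) (hij : i + j = q)
    {u : (X i).carrier ⊗[k] (Y j).carrier} (hu : u ∈ segK (X i).gr (Y j).gr) :
    tmap (k := k) (dinc 𝒜 X i) (dinc ℬ Y j) u ∈ totK 𝒜 ℬ X Y q := by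
  unfold segK at hu
  induction hu using Submodule.iSup_induction' with
  | mem n u hu =>
    refine le_iSup (fun n => Eq 𝒜 ℬ X Y q n) n (tsp_le_E hij n ?_)
    induction hu using Submodule.span_induction with
    | mem u hu =>
      obtain ⟨x, hx, y, hy, rfl⟩ := hu
      rw [tmap_tmul]
      exact tmul_mem_tsp (dinc_mem_bpc 𝒜 X hx) (dinc_mem_bpc ℬ Y hy)
    | zero => rw [map_zero]; exact zero_mem _
    | add z w _ _ hz hw => rw [map_add]; exact add_mem hz hw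
    | smul c z _ hz => rw [map_smul]; exact Submodule.smul_mem _ c hz
  | zero => rw [map_zero]; exact zero_mem _
  | add z w _ _ hz hw => rw [map_add]; exact add_mem hz hw

/-- the inclusion of a summand into a term of the total complex -/
noncomputable def totGm (q : ℕ) (i : Fin (q + 1)) :
    SegX 𝒜 ℬ 𝒯 ψ hT (X i) (Y (q - (i : ℕ))) →ₗ[T] (TotG 𝒜 ℬ 𝒯 ψ hT X Y q).carrier :=
  LinearMap.codRestrict (totSub 𝒜 ℬ 𝒯 ψ hT X Y q)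
    (segMap 𝒜 ℬ 𝒯 ψ hT _ _ _ _ (dinc 𝒜 X i) (dinc_isGrHom 𝒜 X i) (dinc ℬ Y (q - (i : ℕ)))
      (dinc_isGrHom ℬ Y _))
    (fun u => tmap_dinc_mem_totK 𝒜 ℬ X Y q i (q - (i : ℕ)) (by omega) u.2)

theorem tv_totGm (q : ℕ) (i : Fin (q + 1)) (u : SegX 𝒜 ℬ 𝒯 ψ hT (X i) (Y (q - (i : ℕ)))) :
    tv 𝒜 ℬ 𝒯 ψ hT X Y q (totGm 𝒜 ℬ 𝒯 ψ hT X Y q i u) =
      tmap (k := k) (dinc 𝒜 X i) (dinc ℬ Y (q - (i : ℕ))) (valHom 𝒜 ℬ 𝒯 ψ hT _ _ u) := rfl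

theorem tmap_tmap_eq_pij (i j : ℕ) (z : BT 𝒜 ℬ X Y) :
    tmap (k := k) (dinc 𝒜 X i) (dinc ℬ Y j) (tmap (k := k) (dprj 𝒜 X i) (dprj ℬ Y j) z) =
      pij 𝒜 ℬ X Y i j z := by
  induction z using TensorProduct.induction_on with
  | zero => simp
  | tmul x y => rfl
  | add z w hz hw => rw [map_add, map_add, map_add, hz, hw]

theorem tv_eq_sum (q : ℕ) (z : (TotG 𝒜 ℬ 𝒯 ψ hT X Y q).carrier) :
    tv 𝒜 ℬ 𝒯 ψ hT X Y q z = ∑ i : Fin (q + 1), tmap (k := k) (dinc 𝒜 X i)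
      (dinc ℬ Y (q - (i : ℕ))) (valHom 𝒜 ℬ 𝒯 ψ hT _ _ (totF 𝒜 ℬ 𝒯 ψ hT X Y q i z)) := by
  conv_lhs => rw [← sum_pij_eq 𝒜 ℬ X Y q (tv_mem_totK 𝒜 ℬ 𝒯 ψ hT X Y q z)]
  refine Finset.sum_congr rfl fun i _ => ?_
  rw [val_totF, tmap_tmap_eq_pij]

theorem sum_totGm_totF (q : ℕ) :
    ∑ i : Fin (q + 1), (totGm 𝒜 ℬ 𝒯 ψ hT X Y q i) ∘ₗ (totF 𝒜 ℬ 𝒯 ψ hT X Y q i) =
      LinearMap.id := by
  refine LinearMap.ext fun z => ?_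
  apply tv_injective
  rw [LinearMap.sum_apply, map_sum, LinearMap.id_apply]
  rw [tv_eq_sum 𝒜 ℬ 𝒯 ψ hT X Y q z]
  rfl

/-- **the terms of the total complex are acyclic** -/
theorem totG_acyclic [IsNoetherianRing T] (hX : ∀ i, IsNice 𝒜 (X i)) (hY : ∀ j, IsNice ℬ (Y j))
    (q j : ℕ) : Subsingleton (LC.H (irr 𝒯) (j + 1) (TotG 𝒜 ℬ 𝒯 ψ hT X Y q).carrier) :=
  H_subsingleton_of_retract_sum (irr 𝒯) (j + 1)
    (fun i : Fin (q + 1) => SegX 𝒜 ℬ 𝒯 ψ hT (X i) (Y (q - (i : ℕ))))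
    (totF 𝒜 ℬ 𝒯 ψ hT X Y q) (totGm 𝒜 ℬ 𝒯 ψ hT X Y q) (sum_totGm_totF 𝒜 ℬ 𝒯 ψ hT X Y q)
    fun i => seg_nice_acyclic 𝒯 ψ hT (hX i) (hY _) j

theorem tmap_gamSeg {W W' : GrLC.GMod.{u} 𝒜} {V V' : GrLC.GMod.{u} ℬ}
    (g : W.carrier →ₗ[R] W'.carrier) (g' : V.carrier →ₗ[S] V'.carrier)
    {u : W.carrier ⊗[k] V.carrier} (hu : u ∈ gamSeg 𝒜 ℬ W V) :
    tmap (k := k) g g' u ∈ gamSeg 𝒜 ℬ W' V' := by
  have h1 : (tsp (gamK 𝒜 W) (⊤ : Submodule k V.carrier)).map (tmap (k := k) g g') ≤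
      gamSeg 𝒜 ℬ W' V' := by
    apply map_tsp_le
    intro x hx y _
    rw [tmap_tmul]
    exact Submodule.mem_sup_left (tmul_mem_tsp (map_mem_gam (irr 𝒜) g hx) trivial)
  have h2 : (tsp (⊤ : Submodule k W.carrier) (gamK ℬ V)).map (tmap (k := k) g g') ≤
      gamSeg 𝒜 ℬ W' V' := by
    apply map_tsp_le
    intro x _ y hy
    rw [tmap_tmul]
    exact Submodule.mem_sup_right (tmul_mem_tsp trivial (map_mem_gam (irr ℬ) g' hy))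
  have h3 : (gamSeg 𝒜 ℬ W V).map (tmap (k := k) g g') ≤ gamSeg 𝒜 ℬ W' V' := by
    unfold gamSeg
    rw [Submodule.map_sup]
    exact sup_le h1 h2
  exact h3 ⟨u, hu, rfl⟩

/-- the torsion of the ambient tensor product -/
noncomputable abbrev GamT : Submodule k (BT 𝒜 ℬ X Y) := gamSeg 𝒜 ℬ (BigG 𝒜 X) (BigG ℬ Y)

/-- **the torsion of the terms of the total complex** -/
theorem mem_gam_totG_iff (hX : ∀ i, IsNice 𝒜 (X i)) (hY : ∀ j, IsNice ℬ (Y j)) (q : ℕ)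
    (z : (TotG 𝒜 ℬ 𝒯 ψ hT X Y q).carrier) :
    z ∈ LC.gam (irr 𝒯) (TotG 𝒜 ℬ 𝒯 ψ hT X Y q).carrier ↔
      tv 𝒜 ℬ 𝒯 ψ hT X Y q z ∈ GamT 𝒜 ℬ X Y := by
  constructor
  · intro hz
    rw [tv_eq_sum 𝒜 ℬ 𝒯 ψ hT X Y q z]
    refine Submodule.sum_mem _ fun i _ => ?_
    apply tmap_gamSeg
    apply val_mem_gamSeg_of_mem_gam 𝒯 ψ hT (hX i) (hY _)
    exact map_mem_gam (irr 𝒯) _ hz
  · intro hz
    obtain ⟨n, hn⟩ := mem_gam_of_val_mem_gamSeg 𝒯 ψ hT z.1 hz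
    exact ⟨n, fun t ht => Subtype.ext (hn t ht)⟩

end Terms

end Groth.Agent.Helper20.Seg
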