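import Mathlib
import Groth.Agent.Lib.Helper20.GrSeg18

/-!
# Linear models of the graded pieces of the local cohomology computed from a resolution
(helper20)
-/

open DirectSum

namespace Groth.Agent.Helper20.GrInj

open Groth.Agent.Helper8

universe u

section Model

variable {k : Type u} [Field k] {A : Type u} [CommRing A] [Algebra k A]
  {𝒜 : ℤ → AddSubgroup A} [GradedRing 𝒜]
  {M : Type u} [AddCommGroup M] [Module A M] {ℳ : ℤ → AddSubgroup M}
  [DirectSum.Decomposition ℳ] [SetLike.GradedSMul 𝒜 ℳ]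

/-- a compatible embedding of the terms of a resolution into a differential vector space -/
structure GEmb (G : GRes 𝒜 ℳ) (a : HomogeneousIdeal 𝒜) (k : Type u) [Field k] [Algebra k A]
    (F : Type u) [AddCommGroup F] [Module k F] where
  /-- the differential -/
  Δ : F →ₗ[k] F
  /-- the embeddings -/
  v : ∀ q, (G.X q).carrier →+ F
  v_inj : ∀ q, Function.Injective (v q)
  v_d : ∀ q z, v (q + 1) (G.d q z) = Δ (v q z)
  v_smul : ∀ q (c : k) z, v q (algebraMap k A c • z) = c • v q z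
  /-- the images of the pieces -/
  P : ℕ → ℤ → Submodule k F
  mem_P : ∀ q n z, z ∈ (G.X q).gr n ↔ v q z ∈ P q n
  surj_P : ∀ q n u, u ∈ P q n → ∃ z, v q z = u
  /-- the image of the torsion -/
  K : Submodule k F
  mem_K : ∀ q z, z ∈ LC.gam a.toIdeal (G.X q).carrier ↔ v q z ∈ K

variable {G : GRes 𝒜 ℳ} {a : HomogeneousIdeal 𝒜} {F : Type u} [AddCommGroup F] [Module k F]
  (D : GEmb G a k F)

/-- the model of the cocycles -/
def GEmb.Zm (q : ℕ) (n : ℤ) : Submodule k F := D.P q n ⊓ D.K ⊓ LinearMap.ker D.Δ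

/-- the model of the coboundaries -/
def GEmb.Bm : ℕ → ℤ → Submodule k F
  | 0, _ => ⊥
  | q + 1, n => (D.P q n ⊓ D.K).map D.Δ

/-- the model of the cohomology -/
abbrev GEmb.Hm (q : ℕ) (n : ℤ) : Type u := ↥(D.Zm q n) ⧸ (D.Bm q n).comap (D.Zm q n).subtype

variable (G a) in
/-- the homogeneous cocycles -/
def Zh (q : ℕ) (n : ℤ) : AddSubgroup (G.X q).carrier where
  carrier := {z | z ∈ G.toARes.cocyc a.toIdeal q ∧ z ∈ (G.X q).gr n}
  zero_mem' := ⟨zero_mem _, zero_mem _⟩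
  add_mem' := fun {x y} hx hy => ⟨add_mem hx.1 hy.1, add_mem hx.2 hy.2⟩
  neg_mem' := fun {x} hx => ⟨neg_mem hx.1, neg_mem hx.2⟩

theorem GEmb.v_mem_Zm {q : ℕ} {n : ℤ} (z : Zh G a q n) : D.v q z.1 ∈ D.Zm q n := by
  refine ⟨⟨(D.mem_P q n z.1).1 z.2.2, (D.mem_K q z.1).1 z.2.1.1⟩, ?_⟩
  show D.Δ (D.v q z.1) = 0
  rw [← D.v_d]
  have : G.d q z.1 = 0 := LinearMap.mem_ker.1 z.2.1.2
  rw [this, map_zero]

variable (G a) in
/-- the class of a homogeneous cocycle in the cohomology of the resolution -/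
def Zα (q : ℕ) (n : ℤ) : Zh G a q n →+ G.toARes.H a.toIdeal q where
  toFun z := Submodule.Quotient.mk ⟨z.1, z.2.1⟩
  map_zero' := rfl
  map_add' _ _ := rfl

/-- the class of a homogeneous cocycle in the model -/
def GEmb.β (q : ℕ) (n : ℤ) : Zh G a q n →+ D.Hm q n where
  toFun z := Submodule.Quotient.mk ⟨D.v q z.1, D.v_mem_Zm z⟩
  map_zero' := by
    rw [← Submodule.Quotient.mk_zero]
    congr 1
    apply Subtype.ext
    exact map_zero (D.v q)
  map_add' x y := by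
    rw [← Submodule.Quotient.mk_add]
    congr 1
    apply Subtype.ext
    exact map_add (D.v q) x.1 y.1

variable (G a) in
theorem Zα_range (q : ℕ) (n : ℤ) : (Zα G a q n).range = G.Hgr a q n := by
  ext w
  constructor
  · rintro ⟨z, rfl⟩
    exact ⟨⟨z.1, z.2.1⟩, z.2.2, rfl⟩
  · rintro ⟨z, hz, rfl⟩
    exact ⟨⟨z.1, z.2, hz⟩, rfl⟩

theorem GEmb.β_surjective (q : ℕ) (n : ℤ) : Function.Surjective (D.β q n) := by
  intro w
  obtain ⟨⟨u, hu⟩, rfl⟩ := Submodule.Quotient.mk_surjective _ w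
  obtain ⟨z, rfl⟩ := D.surj_P q n u hu.1.1
  have hz1 : z ∈ (G.X q).gr n := (D.mem_P q n z).2 hu.1.1
  have hz2 : z ∈ LC.gam a.toIdeal (G.X q).carrier := (D.mem_K q z).2 hu.1.2
  have hz3 : G.d q z = 0 := by
    apply D.v_inj (q + 1)
    rw [D.v_d, map_zero]
    exact LinearMap.mem_ker.1 hu.2
  exact ⟨⟨z, ⟨hz2, LinearMap.mem_ker.2 hz3⟩, hz1⟩, rfl⟩

theorem GEmb.ker_eq (q : ℕ) (n : ℤ) : (Zα G a q n).ker = (D.β q n).ker := by
  ext z
  rw [AddMonoidHom.mem_ker, AddMonoidHom.mem_ker]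
  show (Submodule.Quotient.mk _ : G.toARes.H a.toIdeal q) = 0 ↔
    (Submodule.Quotient.mk _ : D.Hm q n) = 0
  rw [Submodule.Quotient.mk_eq_zero, Submodule.Quotient.mk_eq_zero, Submodule.mem_comap,
    Submodule.mem_comap, Submodule.subtype_apply, Submodule.subtype_apply]
  cases q with
  | zero =>
    show z.1 ∈ (⊥ : Submodule A (G.X 0).carrier) ↔ D.v 0 z.1 ∈ (⊥ : Submodule k F)
    rw [Submodule.mem_bot, Submodule.mem_bot]
    constructor
    · intro h
      rw [h, map_zero]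
    · intro h
      exact D.v_inj 0 (h.trans (map_zero _).symm)
  | succ q =>
    show z.1 ∈ (LC.gam a.toIdeal (G.X q).carrier).map (G.d q) ↔
      D.v (q + 1) z.1 ∈ (D.P q n ⊓ D.K).map D.Δ
    constructor
    · rintro ⟨y, hy, hyz⟩
      have hhom : (LC.gam a.toIdeal (G.X q).carrier).IsHomogeneous (G.X q).gr :=
        gam_isHomogeneous 𝒜 (G.X q).gr a
      refine ⟨D.v q (decompose (G.X q).gr y n : (G.X q).carrier),
        ⟨(D.mem_P q n _).1 (decompose (G.X q).gr y n).2, (D.mem_K q _).1 (hhom n hy)⟩, ?_⟩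
      rw [← D.v_d, ← decompose_map (G.X q).gr (G.X (q + 1)).gr (G.d_grHom q) y n, hyz,
        decompose_of_mem_same _ z.2.2]
    · rintro ⟨u, hu, huz⟩
      obtain ⟨y, rfl⟩ := D.surj_P q n u hu.1
      refine ⟨y, (D.mem_K q y).2 hu.2, ?_⟩
      apply D.v_inj (q + 1)
      rw [D.v_d]
      exact huz

/-- **the pieces of the cohomology of the resolution are the cohomology of the model** -/
noncomputable def GEmb.equiv (q : ℕ) (n : ℤ) : ↥(G.Hgr a q n) ≃+ D.Hm q n :=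
  (AddEquiv.addSubgroupCongr (Zα_range G a q n)).symm.trans
    ((QuotientAddGroup.quotientKerEquivRange (Zα G a q n)).symm.trans
      ((QuotientAddGroup.quotientAddEquivOfEq (D.ker_eq q n)).trans
        (QuotientAddGroup.quotientKerEquivOfSurjective (D.β q n) (D.β_surjective q n))))

theorem GEmb.equiv_α (q : ℕ) (n : ℤ) (z : Zh G a q n) (h : Zα G a q n z ∈ G.Hgr a q n) :
    D.equiv q n ⟨Zα G a q n z, h⟩ = D.β q n z := by
  unfold GEmb.equiv
  rw [AddEquiv.trans_apply, AddEquiv.trans_apply, AddEquiv.trans_apply]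
  have h1 : (QuotientAddGroup.quotientKerEquivRange (Zα G a q n)).symm
      ((AddEquiv.addSubgroupCongr (Zα_range G a q n)).symm ⟨Zα G a q n z, h⟩) =
      QuotientAddGroup.mk z := by
    rw [AddEquiv.symm_apply_eq]
    rfl
  rw [h1]
  rfl

variable (G a) in
theorem exists_rep (q : ℕ) (n : ℤ) (w : ↥(G.Hgr a q n)) :
    ∃ z : Zh G a q n, Zα G a q n z = w.1 := by
  obtain ⟨z, hz, hzw⟩ := w.2
  exact ⟨⟨z.1, z.2, hz⟩, hzw⟩

/-- compatibility with scalars -/
theorem GEmb.equiv_smul (hk : ∀ c : k, algebraMap k A c ∈ 𝒜 0) (q : ℕ) (n : ℤ) (c : k)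
    (w w' : ↥(G.Hgr a q n))
    (h : (w' : G.toARes.H a.toIdeal q) = algebraMap k A c • (w : G.toARes.H a.toIdeal q)) :
    D.equiv q n w' = c • D.equiv q n w := by
  obtain ⟨z, hz⟩ := exists_rep G a q n w
  have hz' : algebraMap k A c • z.1 ∈ Zh G a q n := by
    refine ⟨Submodule.smul_mem _ _ z.2.1, ?_⟩
    have := SetLike.GradedSMul.smul_mem (A := 𝒜) (B := (G.X q).gr) (hk c) z.2.2
    rwa [vadd_eq_add, zero_add] at this
  have h1 : Zα G a q n ⟨algebraMap k A c • z.1, hz'⟩ = w'.1 := by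
    rw [h, ← hz]
    rfl
  have h2 : w' = ⟨Zα G a q n ⟨algebraMap k A c • z.1, hz'⟩, h1 ▸ w'.2⟩ := Subtype.ext h1.symm
  have h3 : w = ⟨Zα G a q n z, hz ▸ w.2⟩ := Subtype.ext hz.symm
  rw [h2, D.equiv_α, h3, D.equiv_α]
  show (Submodule.Quotient.mk _ : D.Hm q n) = c • (Submodule.Quotient.mk _ : D.Hm q n)
  rw [← Submodule.Quotient.mk_smul]
  congr 1
  apply Subtype.ext
  exact D.v_smul q c z.1

end Model

end Groth.Agent.Helper20.GrInj
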