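import Mathlib
import Groth.Agent.Lib.Helper20.GrSeg19

/-!
# Dimensions of the pieces of graded local cohomology from a model (helper20)
-/

open DirectSum

namespace Groth.Agent.Helper20.GrInj

open Groth.Agent.Helper8

universe u

section Deg0

variable {k : Type u} [Field k] {A : Type u} [CommRing A] [Algebra k A] [Nontrivial A]
  (𝒜 : ℤ → Submodule k A) [GradedAlgebra 𝒜]

/-- scalars as elements of the degree-zero subring -/
def c0 (c : k) : GrLC.deg0 𝒜 := ⟨algebraMap k A c, SetLike.algebraMap_mem_graded 𝒜 c⟩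

theorem c0_bijective (h0 : 𝒜 0 = Submodule.span k {(1 : A)}) : Function.Bijective (c0 𝒜) := by
  constructor
  · intro c c' h
    exact (algebraMap k A).injective (congrArg Subtype.val h)
  · rintro ⟨r, hr⟩
    have hr' : r ∈ 𝒜 0 := hr
    rw [h0, Submodule.mem_span_singleton] at hr'
    obtain ⟨c, rfl⟩ := hr'
    refine ⟨c, Subtype.ext ?_⟩
    show algebraMap k A c = c • 1
    rw [Algebra.algebraMap_eq_smul_one]

/-- dimension over the degree-zero subring from a semilinear additive equivalence -/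
theorem finrank_deg0_eq (h0 : 𝒜 0 = Submodule.span k {(1 : A)})
    {W : Type u} [AddCommGroup W] [Module (GrLC.deg0 𝒜) W]
    {V : Type u} [AddCommGroup V] [Module k V] (e : W ≃+ V)
    (he : ∀ (c : k) (w : W), e (c0 𝒜 c • w) = c • e w) :
    Module.finrank (GrLC.deg0 𝒜) W = Module.finrank k V := by
  have h := rank_eq_of_equiv_equiv (c0 𝒜) e.symm (c0_bijective 𝒜 h0) (fun c v => by
    rw [AddEquiv.symm_apply_eq, he, AddEquiv.apply_symm_apply])
  unfold Module.finrank
  rw [h]

end Deg0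

section Main

variable {k : Type u} [Field k] {A : Type u} [CommRing A] [Algebra k A] [Nontrivial A]
  [IsNoetherianRing A]
  {𝒜 : ℤ → Submodule k A} [GradedAlgebra 𝒜]
  {M : Type u} [AddCommGroup M] [Module A M] {ℳ : ℤ → AddSubgroup M}
  [DirectSum.Decomposition ℳ] [SetLike.GradedSMul 𝒜 ℳ]
  (E : GrLC.StarInjRes 𝒜 ℳ) (m : HomogeneousIdeal 𝒜) (G : GRes (toAdd 𝒜) ℳ)
  (hG : ∀ n j : ℕ, Subsingleton (LC.H m.toIdeal (j + 1) (G.X n).carrier))
  {F : Type u} [AddCommGroup F] [Module k F]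
  (D : GEmb G (HomogeneousIdeal.toAddH 𝒜 m) k F)

include hG in
/-- **the dimensions of the pieces of graded local cohomology are those of the model** -/
theorem finrank_Hcomp_eq_model (h0 : 𝒜 0 = Submodule.span k {(1 : A)}) (q : ℕ) (n : ℤ) :
    Module.finrank (GrLC.deg0 𝒜) (E.Hcomp m q n) = Module.finrank k (D.Hm q n) := by
  let E' := StarInjRes.toAddR 𝒜 E ℳ (fun _ _ h => h)
  let m' := HomogeneousIdeal.toAddH 𝒜 m
  obtain ⟨ψ, hψ⟩ := G.exists_equiv_of_acyclic E' m' hG q
  have hmem : ∀ x : ↥(E.Hcomp m q n), ψ.symm x.1 ∈ G.Hgr m' q n := by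
    intro x
    rw [hψ n, LinearEquiv.apply_symm_apply]
    exact x.2
  have hmem' : ∀ w : ↥(G.Hgr m' q n), ψ w.1 ∈ E.Hcomp m q n := fun w => (hψ n w.1).1 w.2
  let e : ↥(E.Hcomp m q n) ≃+ D.Hm q n :=
    { toFun := fun x => D.equiv q n ⟨ψ.symm x.1, hmem x⟩
      invFun := fun y => ⟨ψ ((D.equiv q n).symm y).1, hmem' _⟩
      left_inv := by
        intro x
        apply Subtype.ext
        show ψ ((D.equiv q n).symm (D.equiv q n ⟨ψ.symm x.1, hmem x⟩)).1 = x.1
        rw [AddEquiv.symm_apply_apply]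
        exact ψ.apply_symm_apply x.1
      right_inv := by
        intro y
        show D.equiv q n ⟨ψ.symm (ψ ((D.equiv q n).symm y).1), _⟩ = y
        have : (⟨ψ.symm (ψ ((D.equiv q n).symm y).1), hmem ⟨_, hmem' _⟩⟩ : ↥(G.Hgr m' q n)) =
            (D.equiv q n).symm y := Subtype.ext (ψ.symm_apply_apply _)
        rw [this, AddEquiv.apply_symm_apply]
      map_add' := by
        intro x y
        rw [← map_add]
        congr 1
        apply Subtype.ext
        show ψ.symm ((x + y : ↥(E.Hcomp m q n)) : E.H m q) = ψ.symm x.1 + ψ.symm y.1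
        rw [← map_add]
        rfl }
  apply finrank_deg0_eq 𝒜 h0 e
  intro c x
  show D.equiv q n ⟨ψ.symm ((c0 𝒜 c • x : ↥(E.Hcomp m q n)) : E.H m q), _⟩ =
    c • D.equiv q n ⟨ψ.symm x.1, hmem x⟩
  apply D.equiv_smul (fun c => SetLike.algebraMap_mem_graded 𝒜 c) q n c
  show ψ.symm ((c0 𝒜 c • x : ↥(E.Hcomp m q n)) : E.H m q) = algebraMap k A c • ψ.symm x.1
  rw [← map_smul]
  rfl

end Main

end Groth.Agent.Helper20.GrInj
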