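import Mathlib
import Groth.Agent.Lib.Helper20.GrSeg20

/-!
# The quotient of a nice resolution by its torsion, and the connecting isomorphisms (helper20)
-/

open DirectSum TensorProduct

namespace Groth.Agent.Helper20.Seg

open Groth.Agent.Helper20.GrInj Groth.Agent.Helper8 Groth.Agent.Helper20.Kun

universe u

attribute [local instance] gK gK_tower

section Quo

variable {k : Type u} [Field k] {R : Type u} [CommRing R] [Algebra k R]
  {𝒜 : ℤ → Submodule k R} [GradedAlgebra 𝒜]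
  {M : Type u} [AddCommGroup M] [Module R M] [Module k M] [IsScalarTower k R M]
  {ℳ : ℤ → AddSubgroup M} [DirectSum.Decomposition ℳ] [SetLike.GradedSMul 𝒜 ℳ]
  (G : NRes 𝒜 ℳ)

/-- the torsion of the total module -/
noncomputable def NRes.Γ : Submodule k G.B.carrier := gamK 𝒜 G.B

theorem NRes.prj_eq_bP (a : ℕ × ℤ) : prj G.pc a = bP 𝒜 G.X a := by
  apply ext_pieces G.pc
  intro b x hx
  by_cases hb : b = a
  · subst hb
    rw [prj_same G.pc hx, bP_same 𝒜 G.X b x hx]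
  · rw [prj_ne G.pc hb hx, bP_ne 𝒜 G.X a b x hb hx]

theorem NRes.hΓ (a : ℕ × ℤ) (x : G.B.carrier) (hx : x ∈ G.Γ) : prj G.pc a x ∈ G.Γ := by
  rw [G.prj_eq_bP]
  obtain ⟨i, n⟩ := a
  rw [bP_apply]
  apply map_mem_gam (irr 𝒜) (dinc 𝒜 G.X i)
  have h1 : dprj 𝒜 G.X i x ∈ LC.gam (irr 𝒜) (G.X i).carrier := map_mem_gam (irr 𝒜) _ hx
  exact gam_isHomogeneous 𝒜 (G.X i).gr (irrH 𝒜) n h1

theorem NRes.hDΓ (x : G.B.carrier) (hx : x ∈ G.Γ) : G.D x ∈ G.Γ :=
  map_mem_gam (irr 𝒜) (bigD 𝒜 G.X G.d) hx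

/-- the quotient of the total module by its torsion -/
abbrev NRes.Q : Type u := G.B.carrier ⧸ G.Γ

/-- the bigrading of the quotient -/
noncomputable def NRes.qp : ℕ × ℤ → Submodule k G.Q := Kun.qpc G.pc G.Γ

noncomputable instance NRes.qdc : DirectSum.Decomposition G.qp := Kun.qdec G.pc G.Γ G.hΓ

/-- the differential of the quotient -/
noncomputable def NRes.qD : G.Q →ₗ[k] G.Q := qd G.Γ G.D G.hDΓ

/-- the quotient map -/
noncomputable def NRes.π : G.B.carrier →ₗ[k] G.Q := G.Γ.mkQ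

theorem NRes.π_surjective : Function.Surjective G.π := G.Γ.mkQ_surjective

theorem NRes.ker_π : LinearMap.ker G.π = G.Γ := G.Γ.ker_mkQ

theorem NRes.π_D (x : G.B.carrier) : G.π (G.D x) = G.qD (G.π x) := rfl

theorem NRes.map_π_pc (a : ℕ × ℤ) : (G.pc a).map G.π = G.qp a := rfl

theorem NRes.qD_mem (a : ℕ × ℤ) (x : G.Q) (hx : x ∈ G.qp a) : G.qD x ∈ G.qp (sh a) :=
  qd_mem G.pc G.Γ G.D G.hDΓ G.D_mem a x hx

theorem NRes.qD_qD (x : G.Q) : G.qD (G.qD x) = 0 := qd_qd G.Γ G.D G.hDΓ G.D_D x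

/-- a chosen splitting of the quotient -/
noncomputable def NRes.qsp : Splitting G.qp sh G.qD :=
  Classical.choice (nonempty_splitting G.qp sh G.qD sh_injective G.qD_mem G.qD_qD)

theorem NRes.π_scal (x : G.B.carrier) :
    G.π (scal G.pc (sgn k) x) = scal G.qp (sgn k) (G.π x) := by
  have : G.π ∘ₗ (scal G.pc (sgn k)) = (scal G.qp (sgn k)) ∘ₗ G.π := by
    apply ext_pieces G.pc
    intro a x hx
    have h2 : G.π x ∈ G.qp a := mk_mem_qpc G.pc G.Γ hx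
    rw [LinearMap.comp_apply, LinearMap.comp_apply, scal_apply_mem G.pc _ hx, map_smul,
      scal_apply_mem G.qp _ h2]
  exact congrArg (fun f => f x) this

/-- the embedding of the resolution into its total module -/
noncomputable def NRes.emb (m : HomogeneousIdeal 𝒜) (hm : m.toIdeal = irr 𝒜) :
    GEmb G.toGRes (HomogeneousIdeal.toAddH 𝒜 m) k G.B.carrier where
  Δ := G.D
  v q := (dinc 𝒜 G.X q).toAddMonoidHom
  v_inj q := dinc_injective 𝒜 G.X q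
  v_d q z := (bigD_dinc 𝒜 G.X G.d q z).symm
  v_smul q c z := map_smul (dinc 𝒜 G.X q) (algebraMap k R c) z
  P q n := G.pc (q, n)
  mem_P q n z := by
    constructor
    · intro hz
      exact dinc_mem_bpc 𝒜 G.X hz
    · intro hz
      obtain ⟨x, hx, hxz⟩ := (mem_bpc 𝒜 G.X).1 hz
      rw [← dinc_injective 𝒜 G.X q hxz]
      exact hx
  surj_P q n u hu := by
    obtain ⟨x, _, hxu⟩ := (mem_bpc 𝒜 G.X).1 hu
    exact ⟨x, hxu⟩
  K := LinearMap.ker G.π
  mem_K q z := by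
    rw [G.ker_π]
    show z ∈ LC.gam m.toIdeal (G.X q).carrier ↔ dinc 𝒜 G.X q z ∈ LC.gam (irr 𝒜) G.B.carrier
    rw [hm]
    constructor
    · intro hz
      exact map_mem_gam (irr 𝒜) _ hz
    · rintro ⟨N, hN⟩
      refine ⟨N, fun a ha => ?_⟩
      apply dinc_injective 𝒜 G.X q
      rw [map_smul, hN a ha, map_zero]

variable (m : HomogeneousIdeal 𝒜) (hm : m.toIdeal = irr 𝒜)

/-- the cohomology of the torsion part in degree `i + 2` is the harmonic part of the quotient in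
degree `i + 1` -/
theorem NRes.nonempty_Hm_succ_equiv (i : ℕ) (n : ℤ) :
    Nonempty ((G.emb m hm).Hm (i + 2) n ≃ₗ[k] ↥(HV G.qsp (i + 1, n))) := by
  obtain ⟨e1⟩ := nonempty_conn_equiv G.D G.qD G.π G.π_D G.D_D (G.pc (i + 1, n))
    (G.pc (i + 2, n)) (G.qp (i + 1, n))
    (by
      rintro _ ⟨x, hx, rfl⟩
      exact G.D_mem (i + 1, n) x hx)
    (G.map_π_pc (i + 1, n))
    (by
      intro z hz hz0
      obtain ⟨w, hw, hwz⟩ := G.exact_pc (i + 1) n z hz hz0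
      exact ⟨w, hw, hwz⟩)
  have hB : quoB G.D G.π (G.pc (i + 1, n)) = Bv G.qp G.qD (i + 1) n := by
    show (G.pc (i + 1, n) ⊓ LinearMap.ker G.D).map G.π = (G.qp (i, n)).map G.qD
    apply le_antisymm
    · rintro _ ⟨z, ⟨hz1, hz2⟩, rfl⟩
      obtain ⟨w, hw, rfl⟩ := G.exact_pc i n z hz1 (LinearMap.mem_ker.1 hz2)
      exact ⟨G.π w, ⟨w, hw, rfl⟩, rfl⟩
    · rintro _ ⟨_, ⟨w, hw, rfl⟩, rfl⟩
      exact ⟨G.D w, ⟨G.D_mem (i, n) w hw, LinearMap.mem_ker.2 (G.D_D w)⟩, rfl⟩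
  obtain ⟨e2⟩ := nonempty_harm_equiv G.qsp (i + 1) n
  have e3 : (↥(quoZ G.qD (G.qp (i + 1, n))) ⧸
      (quoB G.D G.π (G.pc (i + 1, n))).comap (quoZ G.qD (G.qp (i + 1, n))).subtype) ≃ₗ[k]
      (↥(G.qp (i + 1, n) ⊓ LinearMap.ker G.qD) ⧸
        (Bv G.qp G.qD (i + 1) n).comap (G.qp (i + 1, n) ⊓ LinearMap.ker G.qD).subtype) :=
    Submodule.quotEquivOfEq _ _ (by rw [hB]; rfl)
  exact ⟨e1.trans (e3.trans e2)⟩

/-- the comparison map from the piece of `M` to the harmonic part of degree zero of the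
quotient -/
noncomputable def NRes.αn (n : ℤ) : ↥(pieceK 𝒜 ℳ n) →ₗ[k] ↥(HV G.qsp (0, n)) :=
  LinearMap.codRestrict (HV G.qsp (0, n))
    (G.π ∘ₗ (G.ι.restrictScalars k) ∘ₗ (pieceK 𝒜 ℳ n).subtype) (fun x => by
      rw [HV_zero]
      refine ⟨⟨G.ι x.1, G.ι_mem_pc x.2, rfl⟩, ?_⟩
      show G.qD (G.π (G.ι x.1)) = 0
      rw [← G.π_D, G.D_ι, map_zero])

theorem NRes.αn_apply (n : ℤ) (x : ↥(pieceK 𝒜 ℳ n)) : (G.αn n x : G.Q) = G.π (G.ι x.1) := rfl

end Quo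

end Groth.Agent.Helper20.Seg
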