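import Mathlib
import Groth.Agent.Lib.Helper20.GrSeg21

/-!
# Dimension counts for the connecting isomorphisms (helper20)
-/

open DirectSum TensorProduct

namespace Groth.Agent.Helper20.Kun

universe u v

section LinAlg

variable {k : Type u} [Field k] {V : Type v} [AddCommGroup V] [Module k V]
  {W : Type v} [AddCommGroup W] [Module k W]

/-- rank–nullity on a subspace -/
theorem finrank_map_add_finrank_inf_ker (f : V →ₗ[k] W) (A : Submodule k V) [Module.Finite k A] :
    Module.finrank k (A.map f) + Module.finrank k (A ⊓ LinearMap.ker f : Submodule k V) =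
      Module.finrank k A := by
  have h := LinearMap.finrank_range_add_finrank_ker (f.domRestrict A)
  rw [LinearMap.range_domRestrict] at h
  have e : LinearMap.ker (f.domRestrict A) ≃ₗ[k] (A ⊓ LinearMap.ker f : Submodule k V) :=
    { toFun := fun x => ⟨x.1.1, x.1.2, x.2⟩
      invFun := fun x => ⟨⟨x.1, x.2.1⟩, x.2.2⟩
      left_inv := fun x => rfl
      right_inv := fun x => rfl
      map_add' := fun x y => rfl
      map_smul' := fun c x => rfl }
  rw [← e.finrank_eq]
  exact h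

/-- the dimension of a quotient of subspaces -/
theorem finrank_quot_comap_add (Z B : Submodule k V) (hB : B ≤ Z) [Module.Finite k Z] :
    Module.finrank k (↥Z ⧸ B.comap Z.subtype) + Module.finrank k B = Module.finrank k Z := by
  have h := Submodule.finrank_quotient_add_finrank (B.comap Z.subtype)
  rw [(Submodule.comapSubtypeEquivOfLe hB).finrank_eq] at h
  exact h

/-- the tensor product of two subspaces, as a subspace -/
noncomputable def tspEquiv (A : Submodule k V) (B : Submodule k W) :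
    (↥A ⊗[k] ↥B) ≃ₗ[k] ↥(tsp A B) :=
  (LinearEquiv.ofInjective (TensorProduct.map A.subtype B.subtype)
    (TensorProduct.map_injective_of_flat_flat _ _ A.injective_subtype B.injective_subtype)).trans
    (LinearEquiv.ofEq _ _ (range_map_subtype A B))

theorem finrank_tsp (A : Submodule k V) (B : Submodule k W) :
    Module.finrank k (tsp A B) = Module.finrank k A * Module.finrank k B := by
  rw [← (tspEquiv A B).finrank_eq, Module.finrank_tensorProduct]

theorem finite_tsp (A : Submodule k V) (B : Submodule k W) [Module.Finite k A]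
    [Module.Finite k B] : Module.Finite k (tsp A B) :=
  Module.Finite.equiv (tspEquiv A B)

theorem map_tsp {V' : Type v} [AddCommGroup V'] [Module k V'] {W' : Type v} [AddCommGroup W']
    [Module k W'] (f : V →ₗ[k] V') (g : W →ₗ[k] W') (A : Submodule k V) (B : Submodule k W) :
    (tsp A B).map (TensorProduct.map f g) = tsp (A.map f) (B.map g) := by
  apply le_antisymm
  · apply map_tsp_le
    intro x hx y hy
    rw [TensorProduct.map_tmul]
    exact tmul_mem_tsp ⟨x, hx, rfl⟩ ⟨y, hy, rfl⟩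
  · apply Submodule.span_le.2
    rintro _ ⟨_, ⟨x, hx, rfl⟩, _, ⟨y, hy, rfl⟩, rfl⟩
    exact ⟨x ⊗ₜ[k] y, tmul_mem_tsp hx hy, TensorProduct.map_tmul f g x y⟩

end LinAlg

end Groth.Agent.Helper20.Kun

namespace Groth.Agent.Helper20.Seg

open Groth.Agent.Helper20.GrInj Groth.Agent.Helper8 Groth.Agent.Helper20.Kun

universe u

attribute [local instance] gK gK_tower

section Quo

variable {k : Type u} [Field k] {R : Type u} [CommRing R] [Algebra k R]
  {𝒜 : ℤ → Submodule k R} [GradedAlgebra 𝒜]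
  {M : Type u} [AddCommGroup M] [Module R M] [Module k M] [IsScalarTower k R M]
  {ℳ : ℤ → AddSubgroup M} [DirectSum.Decomposition ℳ] [SetLike.GradedSMul 𝒜 ℳ]
  (G : NRes 𝒜 ℳ)

/-- the image of the piece of `M` in the quotient -/
noncomputable def NRes.ρ (n : ℤ) : Submodule k G.Q := (HV G.sp (0, n)).map G.π

theorem NRes.ρ_le (n : ℤ) : G.ρ n ≤ HV G.qsp (0, n) := by
  rintro _ ⟨x, hx, rfl⟩
  rw [HV_zero] at hx ⊢
  refine ⟨⟨x, hx.1, rfl⟩, ?_⟩
  show G.qD (G.π x) = 0
  rw [← G.π_D, LinearMap.mem_ker.1 hx.2, map_zero]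

theorem NRes.map_ι_piece (n : ℤ) :
    (pieceK 𝒜 ℳ n).map (G.ι.restrictScalars k) = HV G.sp (0, n) := by
  ext z
  rw [G.mem_HV_zero]
  constructor
  · rintro ⟨m, hm, rfl⟩
    exact ⟨m, hm, rfl⟩
  · rintro ⟨m, hm, rfl⟩
    exact ⟨m, hm, rfl⟩

theorem NRes.finrank_HV_zero (n : ℤ) :
    Module.finrank k (HV G.sp (0, n)) = Module.finrank k (pieceK 𝒜 ℳ n) := by
  rw [← G.map_ι_piece]
  exact (Submodule.equivMapOfInjective (G.ι.restrictScalars k) G.ι_injective
    (pieceK 𝒜 ℳ n)).finrank_eq.symm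

theorem NRes.finite_HV_zero (n : ℤ) [Module.Finite k (pieceK 𝒜 ℳ n)] :
    Module.Finite k (HV G.sp (0, n)) := by
  rw [← G.map_ι_piece]
  exact Module.Finite.equiv (Submodule.equivMapOfInjective (G.ι.restrictScalars k) G.ι_injective
    (pieceK 𝒜 ℳ n))

variable (m : HomogeneousIdeal 𝒜) (hm : m.toIdeal = irr 𝒜)

theorem NRes.Zm_zero (n : ℤ) :
    (G.emb m hm).Zm 0 n = (HV G.sp (0, n) ⊓ LinearMap.ker G.π : Submodule k G.B.carrier) := by
  rw [HV_zero]
  show G.pc (0, n) ⊓ LinearMap.ker G.π ⊓ LinearMap.ker G.D = _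
  ext z
  simp only [Submodule.mem_inf]
  tauto

/-- `H⁰` and the image -/
theorem NRes.finrank_Hm_zero (n : ℤ) [Module.Finite k (pieceK 𝒜 ℳ n)] :
    Module.finrank k ((G.emb m hm).Hm 0 n) + Module.finrank k (G.ρ n) =
      Module.finrank k (pieceK 𝒜 ℳ n) := by
  haveI := G.finite_HV_zero n
  have h1 : Module.finrank k ((G.emb m hm).Hm 0 n) = Module.finrank k ((G.emb m hm).Zm 0 n) := by
    have : ((G.emb m hm).Bm 0 n).comap ((G.emb m hm).Zm 0 n).subtype = ⊥ := by
      show (⊥ : Submodule k G.B.carrier).comap _ = ⊥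
      rw [Submodule.comap_bot, Submodule.ker_subtype]
    exact (Submodule.quotEquivOfEqBot _ this).finrank_eq
  rw [h1, G.Zm_zero, ← G.finrank_HV_zero, add_comm]
  exact finrank_map_add_finrank_inf_ker G.π (HV G.sp (0, n))

/-- `H¹` as a cokernel -/
theorem NRes.nonempty_Hm_one_equiv (n : ℤ) :
    Nonempty ((G.emb m hm).Hm 1 n ≃ₗ[k]
      (↥(HV G.qsp (0, n)) ⧸ (G.ρ n).comap (HV G.qsp (0, n)).subtype)) := by
  obtain ⟨e1⟩ := nonempty_conn_equiv G.D G.qD G.π G.π_D G.D_D (G.pc (0, n))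
    (G.pc (1, n)) (G.qp (0, n))
    (by
      rintro _ ⟨x, hx, rfl⟩
      exact G.D_mem (0, n) x hx)
    (G.map_π_pc (0, n))
    (by
      intro z hz hz0
      obtain ⟨w, hw, hwz⟩ := G.exact_pc 0 n z hz hz0
      exact ⟨w, hw, hwz⟩)
  have hZ : quoZ G.qD (G.qp (0, n)) = HV G.qsp (0, n) := by
    rw [HV_zero]
    rfl
  have hB : quoB G.D G.π (G.pc (0, n)) = G.ρ n := by
    unfold NRes.ρ
    rw [HV_zero]
    rfl
  have e3 : (↥(quoZ G.qD (G.qp (0, n))) ⧸
      (quoB G.D G.π (G.pc (0, n))).comap (quoZ G.qD (G.qp (0, n))).subtype) ≃ₗ[k]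
      (↥(HV G.qsp (0, n)) ⧸ (G.ρ n).comap (HV G.qsp (0, n)).subtype) := by
    rw [hB, hZ]
  exact ⟨e1.trans e3⟩

theorem NRes.finite_ρ (n : ℤ) [Module.Finite k (pieceK 𝒜 ℳ n)] : Module.Finite k (G.ρ n) := by
  haveI := G.finite_HV_zero n
  exact Module.Finite.map (HV G.sp (0, n)) G.π

/-- **the dimension counts for one resolution** -/
theorem NRes.dims (n : ℤ) [Module.Finite k (pieceK 𝒜 ℳ n)]
    (hfin : ∀ q, Module.Finite k ((G.emb m hm).Hm q n)) :
    (∀ i, Module.Finite k (HV G.qsp (i, n))) ∧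
    Module.finrank k ((G.emb m hm).Hm 0 n) + Module.finrank k (G.ρ n) =
      Module.finrank k (pieceK 𝒜 ℳ n) ∧
    Module.finrank k ((G.emb m hm).Hm 1 n) + Module.finrank k (G.ρ n) =
      Module.finrank k (HV G.qsp (0, n)) ∧
    ∀ i, Module.finrank k ((G.emb m hm).Hm (i + 2) n) = Module.finrank k (HV G.qsp (i + 1, n)) := by
  haveI := G.finite_ρ n
  obtain ⟨e1⟩ := G.nonempty_Hm_one_equiv m hm n
  have hfin0 : Module.Finite k (HV G.qsp (0, n)) := by
    haveI : Module.Finite k ((G.ρ n).comap (HV G.qsp (0, n)).subtype) :=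
      Module.Finite.equiv (Submodule.comapSubtypeEquivOfLe (G.ρ_le n)).symm
    haveI : Module.Finite k (↥(HV G.qsp (0, n)) ⧸ (G.ρ n).comap (HV G.qsp (0, n)).subtype) := by
      haveI := hfin 1
      exact Module.Finite.equiv e1
    exact Module.Finite.of_submodule_quotient ((G.ρ n).comap (HV G.qsp (0, n)).subtype)
  refine ⟨?_, G.finrank_Hm_zero m hm n, ?_, ?_⟩
  · intro i
    cases i with
    | zero => exact hfin0
    | succ i =>
      obtain ⟨e⟩ := G.nonempty_Hm_succ_equiv m hm i n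
      haveI := hfin (i + 2)
      exact Module.Finite.equiv e
  · rw [e1.finrank_eq]
    exact finrank_quot_comap_add (HV G.qsp (0, n)) (G.ρ n) (G.ρ_le n)
  · intro i
    obtain ⟨e⟩ := G.nonempty_Hm_succ_equiv m hm i n
    exact e.finrank_eq

end Quo

end Groth.Agent.Helper20.Seg
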