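import Mathlib
import Groth.Agent.Lib.Helper20.GrSeg22

/-!
# The model of the local cohomology of a Segre product (helper20)
-/

open DirectSum TensorProduct

namespace Groth.Agent.Helper20.Kun

universe u v

/-- the subquotient `Z / (B ∩ Z)` (an abbreviation which keeps instance search in a generic
context) -/
abbrev SubQuo {k : Type u} [Field k] {V : Type v} [AddCommGroup V] [Module k V]
    (Z B : Submodule k V) : Type v :=
  ↥Z ⧸ B.comap Z.subtype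

section ZcZero

variable {k : Type u} [Field k] {V : Type v} [AddCommGroup V] [Module k V]
  {W : Type v} [AddCommGroup W] [Module k W]
variable {ι : Type} [DecidableEq ι]
variable {pc : ℕ × ι → Submodule k V} [DirectSum.Decomposition pc]
variable {pc' : ℕ × ι → Submodule k W} [DirectSum.Decomposition pc']
variable {d : V →ₗ[k] V} (hd : ∀ a x, x ∈ pc a → d x ∈ pc (sh a))
variable {d' : W →ₗ[k] W}
variable (sp : Splitting pc sh d) (sp' : Splitting pc' sh d')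

theorem PE_zero (n : ι) : PE sp sp' 0 n = tsp (HV sp (0, n)) (HV sp' (0, n)) := by
  apply le_antisymm
  · refine iSup_le fun i => iSup_le fun j => iSup_le fun hij => ?_
    have hi : i = 0 := by omega
    have hj : j = 0 := by omega
    subst hi hj
    exact le_rfl
  · exact tsp_le_PE sp sp' (by rfl) n

include hd in
/-- the cocycles of total degree zero -/
theorem Zc_zero (n : ι) : Zc pc pc' d d' 0 n = tsp (HV sp (0, n)) (HV sp' (0, n)) := by
  rw [← PE_zero]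
  apply le_antisymm
  · intro z hz
    have h := cocycle_eq hd sp sp' z (LinearMap.mem_ker.1 hz.2)
    rw [S_E_zero sp sp' n z hz.1, map_zero, zero_add] at h
    rw [h]
    exact P_E sp sp' 0 n ⟨z, hz.1, rfl⟩
  · intro z hz
    exact ⟨PE_le_E sp sp' 0 n hz, LinearMap.mem_ker.2 (δ_of_mem_PE sp sp' hz)⟩

end ZcZero

section Ranges

variable {k : Type u} [Field k] {V : Type v} [AddCommGroup V] [Module k V]
  {W : Type v} [AddCommGroup W] [Module k W]

theorem range_lTensor_subtype (B : Submodule k W) :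
    LinearMap.range (LinearMap.lTensor V B.subtype) = tsp (⊤ : Submodule k V) B := by
  apply le_antisymm
  · rintro _ ⟨z, rfl⟩
    induction z using TensorProduct.induction_on with
    | zero => rw [map_zero]; exact zero_mem _
    | tmul x y => exact tmul_mem_tsp trivial y.2
    | add a b ha hb => rw [map_add]; exact add_mem ha hb
  · apply Submodule.span_le.2
    rintro _ ⟨x, _, y, hy, rfl⟩
    exact ⟨x ⊗ₜ[k] (⟨y, hy⟩ : B), rfl⟩

theorem range_rTensor_subtype (A : Submodule k V) :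
    LinearMap.range (LinearMap.rTensor W A.subtype) = tsp A (⊤ : Submodule k W) := by
  apply le_antisymm
  · rintro _ ⟨z, rfl⟩
    induction z using TensorProduct.induction_on with
    | zero => rw [map_zero]; exact zero_mem _
    | tmul x y => exact tmul_mem_tsp x.2 trivial
    | add a b ha hb => rw [map_add]; exact add_mem ha hb
  · apply Submodule.span_le.2
    rintro _ ⟨x, hx, y, _, rfl⟩
    exact ⟨(⟨x, hx⟩ : A) ⊗ₜ[k] y, rfl⟩

/-- the kernel of the tensor product of two quotient maps -/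
theorem ker_map_mkQ (A : Submodule k V) (B : Submodule k W) :
    LinearMap.ker (TensorProduct.map A.mkQ B.mkQ) = tsp A ⊤ ⊔ tsp ⊤ B := by
  rw [TensorProduct.map_ker (LinearMap.exact_subtype_mkQ A) A.mkQ_surjective
    (LinearMap.exact_subtype_mkQ B) B.mkQ_surjective, range_lTensor_subtype,
    range_rTensor_subtype, sup_comm]

theorem map_E {V' : Type v} [AddCommGroup V'] [Module k V'] {W' : Type v} [AddCommGroup W']
    [Module k W'] {ι : Type} (f : V →ₗ[k] V') (g : W →ₗ[k] W')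
    (pc : ℕ × ι → Submodule k V) (pc' : ℕ × ι → Submodule k W) (q : ℕ) (n : ι) :
    (E pc pc' q n).map (TensorProduct.map f g) =
      E (fun a => (pc a).map f) (fun a => (pc' a).map g) q n := by
  unfold E
  rw [Submodule.map_iSup]
  refine iSup_congr fun i => ?_
  rw [Submodule.map_iSup]
  refine iSup_congr fun j => ?_
  rw [Submodule.map_iSup]
  refine iSup_congr fun _ => ?_
  exact map_tsp f g _ _

end Ranges

end Groth.Agent.Helper20.Kun

namespace Groth.Agent.Helper20.Seg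

open Groth.Agent.Helper20.GrInj Groth.Agent.Helper8 Groth.Agent.Helper20.Kun

universe u

attribute [local instance] gK gK_tower

section TSide

variable {k : Type u} [Field k] {R S T : Type u} [CommRing R] [CommRing S] [CommRing T]
  [Algebra k R] [Algebra k S] [Algebra k T]
  {𝒜 : ℤ → Submodule k R} [GradedAlgebra 𝒜] {ℬ : ℤ → Submodule k S} [GradedAlgebra ℬ]
  {𝒯 : ℤ → Submodule k T} [GradedAlgebra 𝒯] {ψ : T →ₐ[k] R ⊗[k] S}
  (hT : GrSeg.IsSegreRing 𝒜 ℬ 𝒯 ψ)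
  {M : Type u} [AddCommGroup M] [Module R M] [Module k M] [IsScalarTower k R M]
  {ℳ : ℤ → AddSubgroup M} [DirectSum.Decomposition ℳ] [SetLike.GradedSMul 𝒜 ℳ]
  {N : Type u} [AddCommGroup N] [Module S N] [Module k N] [IsScalarTower k S N]
  {𝒩 : ℤ → AddSubgroup N} [DirectSum.Decomposition 𝒩] [SetLike.GradedSMul ℬ 𝒩]
  {P : Type u} [AddCommGroup P] [Module T P] [Module k P] [IsScalarTower k T P]
  {𝒬 : ℤ → AddSubgroup P} [DirectSum.Decomposition 𝒬] [SetLike.GradedSMul 𝒯 𝒬]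
  {φ : P →ₗ[k] M ⊗[k] N} (hP : GrSeg.IsSegreMod ψ ℳ 𝒩 𝒬 φ)
  (GX : NRes 𝒜 ℳ) (GY : NRes ℬ 𝒩)

/-- the quotient map on the tensor product -/
noncomputable def πT : BT 𝒜 ℬ GX.X GY.X →ₗ[k] GX.Q ⊗[k] GY.Q := TensorProduct.map GX.π GY.π

/-- the differential of the tensor product of the quotients -/
noncomputable abbrev δQ : GX.Q ⊗[k] GY.Q →ₗ[k] GX.Q ⊗[k] GY.Q := δ' GX.qp GX.qD GY.qD

theorem ker_πT : LinearMap.ker (πT GX GY) = GamT 𝒜 ℬ GX.X GY.X :=
  ker_map_mkQ GX.Γ GY.Γ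

theorem πT_DD (z : BT 𝒜 ℬ GX.X GY.X) : πT GX GY (DD GX GY z) = δQ GX GY (πT GX GY z) := by
  induction z using TensorProduct.induction_on with
  | zero => rw [map_zero, map_zero, map_zero]
  | tmul x y =>
    show πT GX GY (tδ _ _ _ _ (x ⊗ₜ[k] y)) = tδ _ _ _ _ (GX.π x ⊗ₜ[k] GY.π y)
    rw [tδ_tmul, tδ_tmul, map_add]
    show GX.π (GX.D x) ⊗ₜ[k] GY.π y + GX.π (scal GX.pc (sgn k) x) ⊗ₜ[k] GY.π (GY.D y) = _
    rw [GX.π_D, GY.π_D, GX.π_scal]
  | add a b ha hb => rw [map_add, map_add, map_add, map_add, ha, hb]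

theorem DD_DD (z : BT 𝒜 ℬ GX.X GY.X) : DD GX GY (DD GX GY z) = 0 :=
  Δ_Δ 𝒜 ℬ GX.X GY.X GX.d GX.d_grHom GX.d_comp GY.d GY.d_comp z

theorem DD_Eq (q : ℕ) (n : ℤ) :
    (Eq 𝒜 ℬ GX.X GY.X q n).map (DD GX GY) ≤ Eq 𝒜 ℬ GX.X GY.X (q + 1) n :=
  Δ_E 𝒜 ℬ GX.X GY.X GX.d GX.d_grHom GY.d GY.d_grHom q n

theorem map_πT_Eq (q : ℕ) (n : ℤ) :
    (Eq 𝒜 ℬ GX.X GY.X q n).map (πT GX GY) = E GX.qp GY.qp q n :=
  map_E GX.π GY.π GX.pc GY.pc q n

/-- exactness of the total complex on the pieces -/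
theorem DD_exact_piece (q : ℕ) (n : ℤ) (z : BT 𝒜 ℬ GX.X GY.X)
    (hz : z ∈ Eq 𝒜 ℬ GX.X GY.X (q + 1) n) (hz0 : DD GX GY z = 0) :
    z ∈ (Eq 𝒜 ℬ GX.X GY.X q n).map (DD GX GY) := by
  have h := cocycle_eq GX.D_mem GX.sp GY.sp z hz0
  have h1 : tP GX.sp GY.sp z = 0 := by
    have := P_E GX.sp GY.sp (q + 1) n ⟨z, hz, rfl⟩
    rw [PE_succ] at this
    exact (Submodule.mem_bot k).1 this
  rw [h1, add_zero] at h
  exact ⟨_, S_E GX.sp GY.sp q n ⟨z, hz, rfl⟩, h.symm⟩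

theorem Eq_zero_inf_ker (n : ℤ) :
    Eq 𝒜 ℬ GX.X GY.X 0 n ⊓ LinearMap.ker (DD GX GY) =
      tsp (HV GX.sp (0, n)) (HV GY.sp (0, n)) :=
  Zc_zero GX.D_mem GX.sp GY.sp n

theorem Eq_succ_inf_ker (q : ℕ) (n : ℤ) :
    Eq 𝒜 ℬ GX.X GY.X (q + 1) n ⊓ LinearMap.ker (DD GX GY) =
      (Eq 𝒜 ℬ GX.X GY.X q n).map (DD GX GY) := by
  apply le_antisymm
  · intro z hz
    exact DD_exact_piece GX GY q n z hz.1 (LinearMap.mem_ker.1 hz.2)
  · rintro _ ⟨w, hw, rfl⟩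
    exact ⟨DD_Eq GX GY q n ⟨w, hw, rfl⟩, LinearMap.mem_ker.2 (DD_DD GX GY w)⟩

variable (mT : HomogeneousIdeal 𝒯) (hmT : mT.toIdeal = irr 𝒯)

/-- the embedding of the total complex into the ambient tensor product -/
noncomputable def embT :
    GEmb (totRes hT hP GX GY) (HomogeneousIdeal.toAddH 𝒯 mT) k (BT 𝒜 ℬ GX.X GY.X) where
  Δ := DD GX GY
  v q := tv 𝒜 ℬ 𝒯 ψ hT GX.X GY.X q
  v_inj q := tv_injective 𝒜 ℬ 𝒯 ψ hT GX.X GY.X q
  v_d q z := tv_totD 𝒜 ℬ 𝒯 ψ hT GX.X GY.X GX.d GX.d_grHom GY.d GY.d_grHom q z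
  v_smul q c z := by
    refine (tv_smul 𝒜 ℬ 𝒯 ψ hT GX.X GY.X q (algebraMap k T c) z).trans ?_
    rw [AlgHom.commutes, Algebra.algebraMap_eq_smul_one, map_smul, LinearMap.smul_apply, act_one]
    rfl
  P q n := Eq 𝒜 ℬ GX.X GY.X q n
  mem_P q n z := mem_TotG_gr 𝒜 ℬ 𝒯 ψ hT GX.X GY.X
  surj_P q n u hu :=
    ⟨mkTot 𝒜 ℬ 𝒯 ψ hT GX.X GY.X q u (le_iSup (fun n => Eq 𝒜 ℬ GX.X GY.X q n) n hu), rfl⟩
  K := LinearMap.ker (πT GX GY)
  mem_K q z := by
    rw [ker_πT]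
    show z ∈ LC.gam mT.toIdeal (TotG 𝒜 ℬ 𝒯 ψ hT GX.X GY.X q).carrier ↔ _
    rw [hmT]
    exact mem_gam_totG_iff 𝒜 ℬ 𝒯 ψ hT GX.X GY.X GX.nice GY.nice q z

/-- the connecting isomorphism for the total complex -/
theorem nonempty_HmT_succ_equiv (q : ℕ) (n : ℤ) :
    Nonempty ((embT hT hP GX GY mT hmT).Hm (q + 1) n ≃ₗ[k]
      SubQuo (Zc GX.qp GY.qp GX.qD GY.qD q n)
        ((Eq 𝒜 ℬ GX.X GY.X q n ⊓ LinearMap.ker (DD GX GY)).map (πT GX GY))) :=
  nonempty_conn_equiv (DD GX GY) (δQ GX GY) (πT GX GY) (πT_DD GX GY) (DD_DD GX GY)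
    (Eq 𝒜 ℬ GX.X GY.X q n) (Eq 𝒜 ℬ GX.X GY.X (q + 1) n) (E GX.qp GY.qp q n)
    (DD_Eq GX GY q n) (map_πT_Eq GX GY q n) (DD_exact_piece GX GY q n)

/-- **the Künneth formula for the local cohomology of a Segre product**, in degrees at least
two -/
theorem nonempty_HmT_succ_succ_equiv (q : ℕ) (n : ℤ) :
    Nonempty ((embT hT hP GX GY mT hmT).Hm (q + 2) n ≃ₗ[k]
      ((i : Fin (q + 2)) → ↥(HV GX.qsp ((i : ℕ), n)) ⊗[k] ↥(HV GY.qsp (q + 1 - (i : ℕ), n)))) := by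
  obtain ⟨e1⟩ := nonempty_HmT_succ_equiv hT hP GX GY mT hmT (q + 1) n
  obtain ⟨e2⟩ := kunneth GX.qD_mem GX.qsp GY.qsp (q + 1) n
  have hB : (Eq 𝒜 ℬ GX.X GY.X (q + 1) n ⊓ LinearMap.ker (DD GX GY)).map (πT GX GY) =
      Bd GX.qp GY.qp GX.qD GY.qD (q + 1) n := by
    rw [Eq_succ_inf_ker]
    show _ = (E GX.qp GY.qp q n).map (δQ GX GY)
    rw [← map_πT_Eq, ← Submodule.map_comp, ← Submodule.map_comp]
    congr 1
    exact LinearMap.ext fun z => πT_DD GX GY z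
  exact ⟨e1.trans ((Submodule.quotEquivOfEq _ _ (by rw [hB])).trans e2)⟩

end TSide

end Groth.Agent.Helper20.Seg
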