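import Mathlib
import Groth.Agent.Lib.Helper20.GrSeg23

/-!
# The dimension counts for the local cohomology of a Segre product (helper20)
-/

open DirectSum TensorProduct

namespace Groth.Agent.Helper20.Seg

open Groth.Agent.Helper20.GrInj Groth.Agent.Helper8 Groth.Agent.Helper20.Kun

universe u

attribute [local instance] gK gK_tower

section TSide

variable {k : Type u} [Field k] {R S T : Type u} [CommRing R] [CommRing S] [CommRing T]
  [Algebra k R] [Algebra k S] [Algebra k T]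
  {𝒜 : ℤ → Submodule k R} [GradedAlgebra 𝒜] {ℬ : ℤ → Submodule k S} [GradedAlgebra ℬ]
  {𝒯 : ℤ → Submodule k T} [GradedAlgebra 𝒯] {ψ : T →ₐ[k] R ⊗[k] S}
  (hT : GrSeg.IsSegreRing 𝒜 ℬ 𝒯 ψ)
  {M : Type u} [AddCommGroup M] [Module R M] [Module k M] [IsScalarTower k R M]
  {ℳ : ℤ → AddSubgroup M} [DirectSum.Decomposition ℳ] [SetLike.GradedSMul 𝒜 ℳ]
  {N : Type u} [AddCommGroup N] [Module S N] [Module k N] [IsScalarTower k S N]
  {𝒩 : ℤ → AddSubgroup N} [DirectSum.Decomposition 𝒩] [SetLike.GradedSMul ℬ 𝒩]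
  {P : Type u} [AddCommGroup P] [Module T P] [Module k P] [IsScalarTower k T P]
  {𝒬 : ℤ → AddSubgroup P} [DirectSum.Decomposition 𝒬] [SetLike.GradedSMul 𝒯 𝒬]
  {φ : P →ₗ[k] M ⊗[k] N} (hP : GrSeg.IsSegreMod ψ ℳ 𝒩 𝒬 φ)
  (GX : NRes 𝒜 ℳ) (GY : NRes ℬ 𝒩)
  (mT : HomogeneousIdeal 𝒯) (hmT : mT.toIdeal = irr 𝒯)

theorem map_πT_tsp (n : ℤ) :
    (tsp (HV GX.sp (0, n)) (HV GY.sp (0, n))).map (πT GX GY) = tsp (GX.ρ n) (GY.ρ n) :=
  map_tsp GX.π GY.π _ _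

theorem ZmT_zero (n : ℤ) :
    (embT hT hP GX GY mT hmT).Zm 0 n =
      (tsp (HV GX.sp (0, n)) (HV GY.sp (0, n)) ⊓ LinearMap.ker (πT GX GY) :
        Submodule k (BT 𝒜 ℬ GX.X GY.X)) := by
  rw [← Eq_zero_inf_ker]
  show Eq 𝒜 ℬ GX.X GY.X 0 n ⊓ LinearMap.ker (πT GX GY) ⊓ LinearMap.ker (DD GX GY) = _
  ext z
  simp only [Submodule.mem_inf]
  tauto

/-- the dimension of `H⁰` of the Segre product -/
theorem finrank_HmT_zero (n : ℤ) [Module.Finite k (pieceK 𝒜 ℳ n)]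
    [Module.Finite k (pieceK ℬ 𝒩 n)] :
    Module.finrank k ((embT hT hP GX GY mT hmT).Hm 0 n) +
        Module.finrank k (GX.ρ n) * Module.finrank k (GY.ρ n) =
      Module.finrank k (pieceK 𝒜 ℳ n) * Module.finrank k (pieceK ℬ 𝒩 n) := by
  haveI := GX.finite_HV_zero n
  haveI := GY.finite_HV_zero n
  haveI := finite_tsp (HV GX.sp (0, n)) (HV GY.sp (0, n))
  have h1 : Module.finrank k ((embT hT hP GX GY mT hmT).Hm 0 n) =
      Module.finrank k ((embT hT hP GX GY mT hmT).Zm 0 n) := by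
    have : ((embT hT hP GX GY mT hmT).Bm 0 n).comap
        ((embT hT hP GX GY mT hmT).Zm 0 n).subtype = ⊥ := by
      show (⊥ : Submodule k (BT 𝒜 ℬ GX.X GY.X)).comap _ = ⊥
      rw [Submodule.comap_bot, Submodule.ker_subtype]
    exact (Submodule.quotEquivOfEqBot _ this).finrank_eq
  have h2 := finrank_map_add_finrank_inf_ker (πT GX GY) (tsp (HV GX.sp (0, n)) (HV GY.sp (0, n)))
  rw [map_πT_tsp, finrank_tsp, finrank_tsp, GX.finrank_HV_zero, GY.finrank_HV_zero] at h2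
  rw [h1, ZmT_zero, add_comm]
  exact h2

/-- the dimension of `H¹` of the Segre product -/
theorem finrank_HmT_one (n : ℤ) (hX : Module.Finite k (HV GX.qsp (0, n)))
    (hY : Module.Finite k (HV GY.qsp (0, n))) :
    Module.finrank k ((embT hT hP GX GY mT hmT).Hm 1 n) +
        Module.finrank k (GX.ρ n) * Module.finrank k (GY.ρ n) =
      Module.finrank k (HV GX.qsp (0, n)) * Module.finrank k (HV GY.qsp (0, n)) := by
  obtain ⟨e1⟩ := nonempty_HmT_succ_equiv hT hP GX GY mT hmT 0 n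
  have hZ : Zc GX.qp GY.qp GX.qD GY.qD 0 n = tsp (HV GX.qsp (0, n)) (HV GY.qsp (0, n)) :=
    Zc_zero GX.qD_mem GX.qsp GY.qsp n
  have hB : (Eq 𝒜 ℬ GX.X GY.X 0 n ⊓ LinearMap.ker (DD GX GY)).map (πT GX GY) =
      tsp (GX.ρ n) (GY.ρ n) := by
    rw [Eq_zero_inf_ker, map_πT_tsp]
  haveI := finite_tsp (HV GX.qsp (0, n)) (HV GY.qsp (0, n))
  have hle : tsp (GX.ρ n) (GY.ρ n) ≤ tsp (HV GX.qsp (0, n)) (HV GY.qsp (0, n)) :=
    tsp_mono (GX.ρ_le n) (GY.ρ_le n)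
  have h2 := finrank_quot_comap_add (tsp (HV GX.qsp (0, n)) (HV GY.qsp (0, n)))
    (tsp (GX.ρ n) (GY.ρ n)) hle
  rw [finrank_tsp, finrank_tsp] at h2
  rw [← h2, e1.finrank_eq]
  congr 1
  have e3 : SubQuo (Zc GX.qp GY.qp GX.qD GY.qD 0 n)
      ((Eq 𝒜 ℬ GX.X GY.X 0 n ⊓ LinearMap.ker (DD GX GY)).map (πT GX GY)) ≃ₗ[k]
      SubQuo (tsp (HV GX.qsp (0, n)) (HV GY.qsp (0, n))) (tsp (GX.ρ n) (GY.ρ n)) := by
    rw [hB, hZ]
  exact e3.finrank_eq

/-- the dimensions of the higher cohomology of the Segre product -/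
theorem finrank_HmT_succ_succ (q : ℕ) (n : ℤ) (hX : ∀ i, Module.Finite k (HV GX.qsp (i, n)))
    (hY : ∀ j, Module.Finite k (HV GY.qsp (j, n))) :
    Module.finrank k ((embT hT hP GX GY mT hmT).Hm (q + 2) n) =
      ∑ i : Fin (q + 2), Module.finrank k (HV GX.qsp ((i : ℕ), n)) *
        Module.finrank k (HV GY.qsp (q + 1 - (i : ℕ), n)) := by
  obtain ⟨e⟩ := nonempty_HmT_succ_succ_equiv hT hP GX GY mT hmT q n
  rw [e.finrank_eq]
  haveI : ∀ i : Fin (q + 2), Module.Finite k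
      (↥(HV GX.qsp ((i : ℕ), n)) ⊗[k] ↥(HV GY.qsp (q + 1 - (i : ℕ), n))) := fun i => by
    haveI := hX (i : ℕ)
    haveI := hY (q + 1 - (i : ℕ))
    infer_instance
  rw [Module.finrank_pi_fintype]
  refine Finset.sum_congr rfl fun i _ => ?_
  exact Module.finrank_tensorProduct

end TSide

end Groth.Agent.Helper20.Seg
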