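import Mathlib
import Groth.Agent.Lib.Helper20.GrSeg24
import Groth.Agent.Lib.Helper27.SegreNoeth
import Groth.Agent.Lib.Helper29.GrFin
import Groth.Agent.S13226

/-!
# The dimensions of the pieces of the local cohomology of a Segre product (helper20)
-/

open DirectSum TensorProduct

namespace Groth.Agent.Helper20.GrInj

open Groth.Agent.Helper8

universe u

section Deg0

variable {k : Type u} [Field k] {A : Type u} [CommRing A] [Algebra k A] [Nontrivial A]
  (𝒜 : ℤ → Submodule k A) [GradedAlgebra 𝒜]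

/-- finiteness over the degree-zero subring passes along a semilinear additive equivalence -/
theorem finite_of_deg0_equiv (h0 : 𝒜 0 = Submodule.span k {(1 : A)})
    {W : Type u} [AddCommGroup W] [Module (GrLC.deg0 𝒜) W]
    {V : Type u} [AddCommGroup V] [Module k V] (e : W ≃+ V)
    (he : ∀ (c : k) (w : W), e (c0 𝒜 c • w) = c • e w) [Module.Finite (GrLC.deg0 𝒜) W] :
    Module.Finite k V := by
  classical
  obtain ⟨s, hs⟩ := (Module.finite_def (R := GrLC.deg0 𝒜) (M := W)).1 inferInstance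
  refine ⟨⟨s.image e, ?_⟩⟩
  rw [eq_top_iff]
  intro v _
  have h1 : e.symm v ∈ Submodule.span (GrLC.deg0 𝒜) (s : Set W) := by rw [hs]; trivial
  have h2 : ∀ w ∈ Submodule.span (GrLC.deg0 𝒜) (s : Set W),
      e w ∈ Submodule.span k ((s.image e : Finset V) : Set V) := by
    intro w hw
    induction hw using Submodule.span_induction with
    | mem w hw => exact Submodule.subset_span (Finset.mem_coe.2 (Finset.mem_image_of_mem e hw))
    | zero => rw [map_zero]; exact zero_mem _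
    | add x y _ _ hx hy => rw [map_add]; exact add_mem hx hy
    | smul r x _ hx =>
      obtain ⟨c, rfl⟩ := (c0_bijective 𝒜 h0).2 r
      rw [he]
      exact Submodule.smul_mem _ c hx
  have h3 := h2 _ h1
  rwa [AddEquiv.apply_symm_apply] at h3

end Deg0

section Main

variable {k : Type u} [Field k] {A : Type u} [CommRing A] [Algebra k A] [Nontrivial A]
  [IsNoetherianRing A]
  {𝒜 : ℤ → Submodule k A} [GradedAlgebra 𝒜]
  {M : Type u} [AddCommGroup M] [Module A M] {ℳ : ℤ → AddSubgroup M}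
  [DirectSum.Decomposition ℳ] [SetLike.GradedSMul 𝒜 ℳ]
  (E : GrLC.StarInjRes 𝒜 ℳ) (m : HomogeneousIdeal 𝒜) (G : GRes (toAdd 𝒜) ℳ)
  (hG : ∀ n j : ℕ, Subsingleton (LC.H m.toIdeal (j + 1) (G.X n).carrier))
  {F : Type u} [AddCommGroup F] [Module k F]
  (D : GEmb G (HomogeneousIdeal.toAddH 𝒜 m) k F)

include hG in
/-- **the pieces of graded local cohomology are semilinearly isomorphic to the model** -/
theorem exists_Hcomp_equiv_model (q : ℕ) (n : ℤ) :
    ∃ e : ↥(E.Hcomp m q n) ≃+ D.Hm q n, ∀ (c : k) (x : ↥(E.Hcomp m q n)),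
      e (c0 𝒜 c • x) = c • e x := by
  let E' := StarInjRes.toAddR 𝒜 E ℳ (fun _ _ h => h)
  let m' := HomogeneousIdeal.toAddH 𝒜 m
  obtain ⟨ψ, hψ⟩ := G.exists_equiv_of_acyclic E' m' hG q
  have hmem : ∀ x : ↥(E.Hcomp m q n), ψ.symm x.1 ∈ G.Hgr m' q n := by
    intro x
    rw [hψ n, LinearEquiv.apply_symm_apply]
    exact x.2
  have hmem' : ∀ w : ↥(G.Hgr m' q n), ψ w.1 ∈ E.Hcomp m q n := fun w => (hψ n w.1).1 w.2
  let e : ↥(E.Hcomp m q n) ≃+ D.Hm q n :=
    { toFun := fun x => D.equiv q n ⟨ψ.symm x.1, hmem x⟩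
      invFun := fun y => ⟨ψ ((D.equiv q n).symm y).1, hmem' _⟩
      left_inv := by
        intro x
        apply Subtype.ext
        show ψ ((D.equiv q n).symm (D.equiv q n ⟨ψ.symm x.1, hmem x⟩)).1 = x.1
        rw [AddEquiv.symm_apply_apply]
        exact ψ.apply_symm_apply x.1
      right_inv := by
        intro y
        show D.equiv q n ⟨ψ.symm (ψ ((D.equiv q n).symm y).1), _⟩ = y
        have : (⟨ψ.symm (ψ ((D.equiv q n).symm y).1), hmem ⟨_, hmem' _⟩⟩ : ↥(G.Hgr m' q n)) =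
            (D.equiv q n).symm y := Subtype.ext (ψ.symm_apply_apply _)
        rw [this, AddEquiv.apply_symm_apply]
      map_add' := by
        intro x y
        rw [← map_add]
        congr 1
        apply Subtype.ext
        show ψ.symm ((x + y : ↥(E.Hcomp m q n)) : E.H m q) = ψ.symm x.1 + ψ.symm y.1
        rw [← map_add]
        rfl }
  refine ⟨e, ?_⟩
  intro c x
  show D.equiv q n ⟨ψ.symm ((c0 𝒜 c • x : ↥(E.Hcomp m q n)) : E.H m q), _⟩ =
    c • D.equiv q n ⟨ψ.symm x.1, hmem x⟩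
  apply D.equiv_smul (fun c => SetLike.algebraMap_mem_graded 𝒜 c) q n c
  show ψ.symm ((c0 𝒜 c • x : ↥(E.Hcomp m q n)) : E.H m q) = algebraMap k A c • ψ.symm x.1
  rw [← map_smul]
  rfl

omit [Nontrivial A] in
/-- the pieces of graded local cohomology are finite over the degree-zero subring -/
theorem Hcomp_finite [Module.Finite A M] (hpos : ∀ n : ℤ, n < 0 → 𝒜 n = ⊥)
    (hm : m.toIdeal = Ideal.span (⋃ n ∈ Set.Ioi (0 : ℤ), (𝒜 n : Set A))) (q : ℕ) (n : ℤ) :
    Module.Finite (GrLC.deg0 𝒜) (E.Hcomp m q n) := by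
  have hpos' : ∀ n : ℤ, n < 0 → toAdd 𝒜 n = ⊥ := by
    intro n hn
    ext x
    show x ∈ 𝒜 n ↔ x ∈ (⊥ : AddSubgroup A)
    rw [hpos n hn]
    rfl
  exact Groth.Agent.S13226.result A (toAdd 𝒜) hpos' (HomogeneousIdeal.toAddH 𝒜 m) hm M ℳ
    (StarInjRes.toAddR 𝒜 E ℳ (fun _ _ h => h)) q n

include E hG in
theorem model_finite [Module.Finite A M] (hpos : ∀ n : ℤ, n < 0 → 𝒜 n = ⊥)
    (h0 : 𝒜 0 = Submodule.span k {(1 : A)})
    (hm : m.toIdeal = Ideal.span (⋃ n ∈ Set.Ioi (0 : ℤ), (𝒜 n : Set A))) (q : ℕ) (n : ℤ) :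
    Module.Finite k (D.Hm q n) := by
  obtain ⟨e, he⟩ := exists_Hcomp_equiv_model E m G hG D q n
  haveI := Hcomp_finite E m hpos hm q n
  exact finite_of_deg0_equiv 𝒜 h0 e he

include hG in
theorem Hcomp_eq_bot_iff (q : ℕ) (n : ℤ) : E.Hcomp m q n = ⊥ ↔ Subsingleton (D.Hm q n) := by
  obtain ⟨e, _⟩ := exists_Hcomp_equiv_model E m G hG D q n
  constructor
  · intro h
    haveI : Subsingleton ↥(E.Hcomp m q n) := by
      refine ⟨fun x y => Subtype.ext ?_⟩
      have key : ∀ z : E.H m q, z ∈ E.Hcomp m q n → z = 0 := by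
        intro z hz
        rw [h] at hz
        exact AddSubgroup.mem_bot.1 hz
      rw [key x.1 x.2, key y.1 y.2]
    exact e.symm.injective.subsingleton
  · intro h
    rw [eq_bot_iff]
    intro x hx
    have : (⟨x, hx⟩ : ↥(E.Hcomp m q n)) = 0 := e.injective (Subsingleton.elim _ _)
    exact congrArg Subtype.val this

end Main

end Groth.Agent.Helper20.GrInj
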