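import Mathlib
import Groth.Agent.Lib.Helper20.GrSeg25

/-!
# The master dimension formula for the local cohomology of a Segre product (helper20)
-/

open DirectSum TensorProduct

namespace Groth.Agent.Helper20.Seg

open Groth.Agent.Helper20.GrInj Groth.Agent.Helper8 Groth.Agent.Helper20.Kun

universe u

section Ring

variable {k : Type u} [Field k] {R S T : Type u} [CommRing R] [CommRing S] [CommRing T]
  [Algebra k R] [Algebra k S] [Algebra k T]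
  {𝒜 : ℤ → Submodule k R} [GradedAlgebra 𝒜] {ℬ : ℤ → Submodule k S} [GradedAlgebra ℬ]
  {𝒯 : ℤ → Submodule k T} [GradedAlgebra 𝒯] {ψ : T →ₐ[k] R ⊗[k] S}
  (hT : GrSeg.IsSegreRing 𝒜 ℬ 𝒯 ψ)

include hT in
theorem segre_nontrivial [Nontrivial R] [Nontrivial S] : Nontrivial T := by
  haveI : Nontrivial (R ⊗[k] S) :=
    Algebra.TensorProduct.nontrivial_of_algebraMap_injective_of_flat_left k R S
      (algebraMap k S).injective
  by_contra h
  rw [not_nontrivial_iff_subsingleton] at h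
  have h1 : ψ 1 = ψ 0 := congrArg ψ (Subsingleton.elim _ _)
  rw [map_one, map_zero] at h1
  exact one_ne_zero h1

include hT in
theorem segre_h0 (h0R : 𝒜 0 = Submodule.span k {(1 : R)})
    (h0S : ℬ 0 = Submodule.span k {(1 : S)}) : 𝒯 0 = Submodule.span k {(1 : T)} := by
  apply le_antisymm
  · intro t ht
    have h1 : ψ t ∈ (𝒯 0).map ψ.toLinearMap := ⟨t, ht, rfl⟩
    rw [hT.2 0] at h1
    have h2 : GrSeg.segrePiece k 𝒜 ℬ 0 ≤ Submodule.span k {(1 : R ⊗[k] S)} := by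
      apply Submodule.span_le.2
      rintro _ ⟨a, ha, b, hb, rfl⟩
      rw [h0R] at ha
      rw [h0S] at hb
      obtain ⟨c, rfl⟩ := Submodule.mem_span_singleton.1 ha
      obtain ⟨c', rfl⟩ := Submodule.mem_span_singleton.1 hb
      rw [SetLike.mem_coe, Submodule.mem_span_singleton]
      refine ⟨c * c', ?_⟩
      rw [TensorProduct.smul_tmul_smul]
      rfl
    obtain ⟨c, hc⟩ := Submodule.mem_span_singleton.1 (h2 h1)
    rw [Submodule.mem_span_singleton]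
    refine ⟨c, hT.1 ?_⟩
    rw [map_smul, map_one]
    exact hc
  · rw [Submodule.span_le, Set.singleton_subset_iff]
    exact SetLike.GradedOne.one_mem

end Ring

section Comp

variable {k : Type u} [Field k] {A : Type u} [CommRing A] [Algebra k A] [Nontrivial A]
  (𝒜 : ℤ → Submodule k A) [GradedAlgebra 𝒜]
  {M : Type u} [AddCommGroup M] [Module A M] [Module k M] [IsScalarTower k A M]
  (ℳ : ℤ → AddSubgroup M) [DirectSum.Decomposition ℳ] [SetLike.GradedSMul 𝒜 ℳ]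

theorem finrank_comp_eq (h0 : 𝒜 0 = Submodule.span k {(1 : A)}) (d : ℤ) :
    Module.finrank (GrLC.deg0 𝒜) (GrLC.comp 𝒜 ℳ d) = Module.finrank k (pieceK 𝒜 ℳ d) := by
  let e : ↥(GrLC.comp 𝒜 ℳ d) ≃+ ↥(pieceK 𝒜 ℳ d) :=
    { toFun := fun x => ⟨x.1, x.2⟩
      invFun := fun x => ⟨x.1, x.2⟩
      left_inv := fun _ => rfl
      right_inv := fun _ => rfl
      map_add' := fun _ _ => rfl }
  apply finrank_deg0_eq 𝒜 h0 e
  intro c w
  apply Subtype.ext
  show algebraMap k A c • (w : M) = c • (w : M)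
  rw [algebraMap_smul]

end Comp

section Master

attribute [local instance] gK gK_tower

/-- **the master formula**: the dimensions of the pieces of the local cohomology of a Segre
product of graded modules, in terms of those of the factors -/
theorem segre_dims (k : Type u) [Field k] (R : Type u) [CommRing R] [Nontrivial R] [Algebra k R]
    (𝒜 : ℤ → Submodule k R) [GradedAlgebra 𝒜] (hposR : ∀ n : ℤ, n < 0 → 𝒜 n = ⊥)
    (h0R : 𝒜 0 = Submodule.span k {(1 : R)}) [Algebra.FiniteType k R]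
    (S : Type u) [CommRing S] [Nontrivial S] [Algebra k S] (ℬ : ℤ → Submodule k S)
    [GradedAlgebra ℬ] (hposS : ∀ n : ℤ, n < 0 → ℬ n = ⊥)
    (h0S : ℬ 0 = Submodule.span k {(1 : S)}) [Algebra.FiniteType k S]
    (T : Type u) [CommRing T] [Algebra k T] (𝒯 : ℤ → Submodule k T) [GradedAlgebra 𝒯]
    (ψ : T →ₐ[k] R ⊗[k] S) (hT : GrSeg.IsSegreRing 𝒜 ℬ 𝒯 ψ)
    (mR : HomogeneousIdeal 𝒜)
    (hmR : mR.toIdeal = Ideal.span (⋃ n ∈ Set.Ioi (0 : ℤ), (𝒜 n : Set R)))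
    (mS : HomogeneousIdeal ℬ)
    (hmS : mS.toIdeal = Ideal.span (⋃ n ∈ Set.Ioi (0 : ℤ), (ℬ n : Set S)))
    (mT : HomogeneousIdeal 𝒯)
    (hmT : mT.toIdeal = Ideal.span (⋃ n ∈ Set.Ioi (0 : ℤ), (𝒯 n : Set T)))
    (M : Type u) [AddCommGroup M] [Module R M] [Module k M] [IsScalarTower k R M]
    (ℳ : ℤ → AddSubgroup M) [DirectSum.Decomposition ℳ] [SetLike.GradedSMul 𝒜 ℳ]
    [Module.Finite R M] (EM : GrLC.StarInjRes 𝒜 ℳ)
    (N : Type u) [AddCommGroup N] [Module S N] [Module k N] [IsScalarTower k S N]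
    (𝒩 : ℤ → AddSubgroup N) [DirectSum.Decomposition 𝒩] [SetLike.GradedSMul ℬ 𝒩]
    [Module.Finite S N] (EN : GrLC.StarInjRes ℬ 𝒩)
    (P : Type u) [AddCommGroup P] [Module T P] [Module k P] [IsScalarTower k T P]
    (𝒬 : ℤ → AddSubgroup P) [DirectSum.Decomposition 𝒬] [SetLike.GradedSMul 𝒯 𝒬]
    (φ : P →ₗ[k] M ⊗[k] N) (hP : GrSeg.IsSegreMod ψ ℳ 𝒩 𝒬 φ) (EP : GrLC.StarInjRes 𝒯 𝒬)
    (d : ℤ) :
    ∃ (ρ ρ' : ℕ) (h h' : ℕ → ℕ),
      Module.finrank (GrLC.deg0 𝒜) (EM.Hcomp mR 0 d) + ρ =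
        Module.finrank (GrLC.deg0 𝒜) (GrLC.comp 𝒜 ℳ d) ∧
      Module.finrank (GrLC.deg0 𝒜) (EM.Hcomp mR 1 d) + ρ = h 0 ∧
      (∀ i, Module.finrank (GrLC.deg0 𝒜) (EM.Hcomp mR (i + 2) d) = h (i + 1)) ∧
      Module.finrank (GrLC.deg0 ℬ) (EN.Hcomp mS 0 d) + ρ' =
        Module.finrank (GrLC.deg0 ℬ) (GrLC.comp ℬ 𝒩 d) ∧
      Module.finrank (GrLC.deg0 ℬ) (EN.Hcomp mS 1 d) + ρ' = h' 0 ∧
      (∀ i, Module.finrank (GrLC.deg0 ℬ) (EN.Hcomp mS (i + 2) d) = h' (i + 1)) ∧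
      Module.finrank (GrLC.deg0 𝒯) (EP.Hcomp mT 0 d) + ρ * ρ' =
        Module.finrank (GrLC.deg0 𝒜) (GrLC.comp 𝒜 ℳ d) *
          Module.finrank (GrLC.deg0 ℬ) (GrLC.comp ℬ 𝒩 d) ∧
      Module.finrank (GrLC.deg0 𝒯) (EP.Hcomp mT 1 d) + ρ * ρ' = h 0 * h' 0 ∧
      ∀ q, Module.finrank (GrLC.deg0 𝒯) (EP.Hcomp mT (q + 2) d) =
        ∑ i : Fin (q + 2), h (i : ℕ) * h' (q + 1 - (i : ℕ)) := by
  classical
  haveI : IsNoetherianRing R := Algebra.FiniteType.isNoetherianRing k R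
  haveI : IsNoetherianRing S := Algebra.FiniteType.isNoetherianRing k S
  haveI : IsNoetherianRing T := Groth.Agent.Helper27.Segre.isNoetherianRing 𝒜 ℬ 𝒯 ψ hT.2 hT.1
  haveI : Nontrivial T := segre_nontrivial hT
  have h0T : 𝒯 0 = Submodule.span k {(1 : T)} := segre_h0 hT h0R h0S
  let GX : NRes 𝒜 ℳ := niceRes 𝒜 ℳ
  let GY : NRes ℬ 𝒩 := niceRes ℬ 𝒩
  have hGX : ∀ n j : ℕ, Subsingleton (LC.H mR.toIdeal (j + 1) (GX.toGRes.X n).carrier) := by
    intro n j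
    rw [hmR]
    exact nice_acyclic 𝒜 (GX.X n) (GX.nice n) j
  have hGY : ∀ n j : ℕ, Subsingleton (LC.H mS.toIdeal (j + 1) (GY.toGRes.X n).carrier) := by
    intro n j
    rw [hmS]
    exact nice_acyclic ℬ (GY.X n) (GY.nice n) j
  have hGT : ∀ n j : ℕ, Subsingleton (LC.H mT.toIdeal (j + 1)
      ((totRes hT hP GX GY).X n).carrier) := by
    intro n j
    rw [hmT]
    exact totG_acyclic 𝒜 ℬ 𝒯 ψ hT GX.X GY.X GX.nice GY.nice n j
  haveI : Module.Finite k (pieceK 𝒜 ℳ d) :=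
    Groth.Agent.Helper29.GrFin.module_piece_finite 𝒜 ℳ hposR h0R d
  haveI : Module.Finite k (pieceK ℬ 𝒩 d) :=
    Groth.Agent.Helper29.GrFin.module_piece_finite ℬ 𝒩 hposS h0S d
  have hRfin : ∀ q, Module.Finite k ((GX.emb mR hmR).Hm q d) := fun q =>
    model_finite EM mR GX.toGRes hGX (GX.emb mR hmR) hposR h0R hmR q d
  have hSfin : ∀ q, Module.Finite k ((GY.emb mS hmS).Hm q d) := fun q =>
    model_finite EN mS GY.toGRes hGY (GY.emb mS hmS) hposS h0S hmS q d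
  obtain ⟨hXfin, hX0, hX1, hXs⟩ := GX.dims mR hmR d hRfin
  obtain ⟨hYfin, hY0, hY1, hYs⟩ := GY.dims mS hmS d hSfin
  have eR : ∀ q, Module.finrank (GrLC.deg0 𝒜) (EM.Hcomp mR q d) =
      Module.finrank k ((GX.emb mR hmR).Hm q d) := fun q =>
    finrank_Hcomp_eq_model EM mR GX.toGRes hGX (GX.emb mR hmR) h0R q d
  have eS : ∀ q, Module.finrank (GrLC.deg0 ℬ) (EN.Hcomp mS q d) =
      Module.finrank k ((GY.emb mS hmS).Hm q d) := fun q =>
    finrank_Hcomp_eq_model EN mS GY.toGRes hGY (GY.emb mS hmS) h0S q d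
  have eT : ∀ q, Module.finrank (GrLC.deg0 𝒯) (EP.Hcomp mT q d) =
      Module.finrank k ((embT hT hP GX GY mT hmT).Hm q d) := fun q =>
    finrank_Hcomp_eq_model EP mT (totRes hT hP GX GY) hGT (embT hT hP GX GY mT hmT) h0T q d
  refine ⟨Module.finrank k (GX.ρ d), Module.finrank k (GY.ρ d),
    fun i => Module.finrank k (HV GX.qsp (i, d)), fun j => Module.finrank k (HV GY.qsp (j, d)),
    ?_, ?_, ?_, ?_, ?_, ?_, ?_, ?_, ?_⟩
  · rw [eR, finrank_comp_eq 𝒜 ℳ h0R]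
    exact hX0
  · rw [eR]
    exact hX1
  · intro i
    rw [eR]
    exact hXs i
  · rw [eS, finrank_comp_eq ℬ 𝒩 h0S]
    exact hY0
  · rw [eS]
    exact hY1
  · intro i
    rw [eS]
    exact hYs i
  · rw [eT, finrank_comp_eq 𝒜 ℳ h0R, finrank_comp_eq ℬ 𝒩 h0S]
    exact finrank_HmT_zero hT hP GX GY mT hmT d
  · rw [eT]
    exact finrank_HmT_one hT hP GX GY mT hmT d (hXfin 0) (hYfin 0)
  · intro q
    rw [eT]
    exact finrank_HmT_succ_succ hT hP GX GY mT hmT q d hXfin hYfin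

end Master

end Groth.Agent.Helper20.Seg
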