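import Mathlib
import Groth.Prelude
import Groth.Agent.Lib.Helper20.GrKS1
import Groth.Agent.Lib.Helper20.GrSM2
import Groth.Agent.Lib.Helper20.GrSeg26
import Groth.Agent.Lib.Helper20.GrVer6

/-!
# The Segre product of a *injective resolution with a graded module: a resolution of the Segre
product (helper20)
-/

set_option autoImplicit false

open DirectSum TensorProduct

namespace Groth.Agent.Helper20.KS

open Groth.Agent.Helper20.GrInj Groth.Agent.Helper8 Groth.Agent.Helper20.Seg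
  Groth.Agent.Helper20.SegFin

universe u

section Rho

variable {k : Type u} [Field k] {R S : Type u} [CommRing R] [CommRing S]
  [Algebra k R] [Algebra k S]
  (𝒜 : ℤ → Submodule k R) [GradedAlgebra 𝒜] (ℬ : ℤ → Submodule k S) [GradedAlgebra ℬ]
  {W : Type u} [AddCommGroup W] [Module R W] [Module k W] [IsScalarTower k R W]
  (𝒲 : ℤ → AddSubgroup W) [DirectSum.Decomposition 𝒲] [SetLike.GradedSMul 𝒜 𝒲]
  {W' : Type u} [AddCommGroup W'] [Module R W'] [Module k W'] [IsScalarTower k R W']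
  (𝒲' : ℤ → AddSubgroup W') [DirectSum.Decomposition 𝒲'] [SetLike.GradedSMul 𝒜 𝒲']
  {V : Type u} [AddCommGroup V] [Module S V] [Module k V] [IsScalarTower k S V]
  (𝒱 : ℤ → AddSubgroup V) [DirectSum.Decomposition 𝒱] [SetLike.GradedSMul ℬ 𝒱]
  {V' : Type u} [AddCommGroup V'] [Module S V'] [Module k V'] [IsScalarTower k S V']
  (𝒱' : ℤ → AddSubgroup V') [DirectSum.Decomposition 𝒱'] [SetLike.GradedSMul ℬ 𝒱']

/-- every tensor is a sum of tensors of homogeneous elements -/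
theorem tensor_homog_induction {C : W ⊗[k] V → Prop} (h0 : C 0)
    (hadd : ∀ a b, C a → C b → C (a + b))
    (hom : ∀ (i j : ℤ) (x : W) (y : V), x ∈ 𝒲 i → y ∈ 𝒱 j → C (x ⊗ₜ[k] y)) (z : W ⊗[k] V) : C z := by
  classical
  induction z using TensorProduct.induction_on with
  | zero => exact h0
  | tmul x y =>
    induction x using DirectSum.Decomposition.inductionOn 𝒲 with
    | zero => rw [TensorProduct.zero_tmul]; exact h0
    | @homogeneous i x =>
      induction y using DirectSum.Decomposition.inductionOn 𝒱 with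
      | zero => rw [TensorProduct.tmul_zero]; exact h0
      | @homogeneous j y => exact hom i j x y x.2 y.2
      | add y y' hy hy' => rw [TensorProduct.tmul_add]; exact hadd _ _ hy hy'
    | add x x' hx hx' => rw [TensorProduct.add_tmul]; exact hadd _ _ hx hx'
  | add a b ha hb => exact hadd _ _ ha hb

theorem rhoX_mem_segK (z : W ⊗[k] V) : rhoX 𝒜 ℬ 𝒲 𝒱 z ∈ segK 𝒲 𝒱 := by
  induction z using tensor_homog_induction 𝒲 𝒱 with
  | h0 => rw [map_zero]; exact zero_mem _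
  | hadd a b ha hb => rw [map_add]; exact add_mem ha hb
  | hom i j x y hx hy =>
    rw [rhoX_tmul_of_mem_mem 𝒜 ℬ 𝒲 𝒱 hx hy]
    split_ifs with h
    · subst h
      exact Submodule.mem_iSup_of_mem i (tmul_mem_segrePiece 𝒲 𝒱 hx hy)
    · exact zero_mem _

theorem rhoX_tmap {f : W →ₗ[R] W'} (hf : GrLC.IsGrHom 𝒲 𝒲' f) {g : V →ₗ[S] V'}
    (hg : GrLC.IsGrHom 𝒱 𝒱' g) (z : W ⊗[k] V) :
    rhoX 𝒜 ℬ 𝒲' 𝒱' (tmap f g z) = tmap f g (rhoX 𝒜 ℬ 𝒲 𝒱 z) := by
  induction z using tensor_homog_induction 𝒲 𝒱 with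
  | h0 => simp
  | hadd a b ha hb => rw [map_add, map_add, ha, hb, map_add, map_add]
  | hom i j x y hx hy =>
    rw [tmap_tmul, rhoX_tmul_of_mem_mem 𝒜 ℬ 𝒲' 𝒱' (hf i x hx) (hg j y hy),
      rhoX_tmul_of_mem_mem 𝒜 ℬ 𝒲 𝒱 hx hy]
    split_ifs with h
    · rw [tmap_tmul]
    · rw [map_zero]

omit [DirectSum.Decomposition 𝒲] [SetLike.GradedSMul 𝒜 𝒲] [DirectSum.Decomposition 𝒲']
  [SetLike.GradedSMul 𝒜 𝒲'] [DirectSum.Decomposition 𝒱] [SetLike.GradedSMul ℬ 𝒱] in
theorem tmap_id_eq_rTensor (f : W →ₗ[R] W') :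
    tmap (k := k) f (LinearMap.id : V →ₗ[S] V) = (f.restrictScalars k).rTensor V := by
  apply TensorProduct.ext'
  intro x y
  rfl

include 𝒜 ℬ in
/-- exactness of the Segre product with a fixed graded module -/
theorem exists_seg_preimage {W'' : Type u} [AddCommGroup W''] [Module R W''] [Module k W'']
    [IsScalarTower k R W''] {f : W →ₗ[R] W'} (hf : GrLC.IsGrHom 𝒲 𝒲' f) {f' : W' →ₗ[R] W''}
    (hex : LinearMap.ker f' = LinearMap.range f) {u : W' ⊗[k] V} (hu : u ∈ segK 𝒲' 𝒱)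
    (hu0 : tmap (k := k) f' (LinearMap.id : V →ₗ[S] V) u = 0) :
    ∃ w ∈ segK 𝒲 𝒱, tmap (k := k) f (LinearMap.id : V →ₗ[S] V) w = u := by
  rw [tmap_id_eq_rTensor] at hu0
  have hex' : LinearMap.ker (f'.restrictScalars k) = LinearMap.range (f.restrictScalars k) := by
    ext x
    rw [LinearMap.mem_ker, LinearMap.mem_range]
    have := SetLike.ext_iff.1 hex x
    rw [LinearMap.mem_ker, LinearMap.mem_range] at this
    exact this
  obtain ⟨w', hw'⟩ := exists_rTensor_eq hex' u hu0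
  refine ⟨rhoX 𝒜 ℬ 𝒲 𝒱 w', rhoX_mem_segK 𝒜 ℬ 𝒲 𝒱 w', ?_⟩
  rw [← rhoX_tmap 𝒜 ℬ 𝒲 𝒲' 𝒱 𝒱 hf (fun _ _ h => h), tmap_id_eq_rTensor, hw',
    rhoX_of_mem_segK 𝒜 ℬ 𝒲' 𝒱 hu]

end Rho

end Groth.Agent.Helper20.KS
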