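import Mathlib
import Groth.Prelude
import Groth.Agent.Lib.Helper20.GrKS2

/-!
# The resolution of a Segre product `M # N` by the Segre products `I^i # N` of the terms of a
*injective resolution of `M` (helper20)
-/

set_option autoImplicit false

open DirectSum TensorProduct

namespace Groth.Agent.Helper20.KS

open Groth.Agent.Helper20.GrInj Groth.Agent.Helper8 Groth.Agent.Helper20.Seg
  Groth.Agent.Helper20.SegFin

universe u

attribute [local instance] gK gK_tower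

section Res

variable {k : Type u} [Field k] {R S T : Type u} [CommRing R] [CommRing S] [CommRing T]
  [Algebra k R] [Algebra k S] [Algebra k T]
  {𝒜 : ℤ → Submodule k R} [GradedAlgebra 𝒜] {ℬ : ℤ → Submodule k S} [GradedAlgebra ℬ]
  {𝒯 : ℤ → Submodule k T} [GradedAlgebra 𝒯] {ψ : T →ₐ[k] R ⊗[k] S}
  (hT : GrSeg.IsSegreRing 𝒜 ℬ 𝒯 ψ)
  {M : Type u} [AddCommGroup M] [Module R M] [Module k M] [IsScalarTower k R M]
  {ℳ : ℤ → AddSubgroup M} [DirectSum.Decomposition ℳ] [SetLike.GradedSMul 𝒜 ℳ]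
  {N : Type u} [AddCommGroup N] [Module S N] [Module k N] [IsScalarTower k S N]
  {𝒩 : ℤ → AddSubgroup N} [DirectSum.Decomposition 𝒩] [SetLike.GradedSMul ℬ 𝒩]
  {P : Type u} [AddCommGroup P] [Module T P] [Module k P] [IsScalarTower k T P]
  {𝒬 : ℤ → AddSubgroup P} [DirectSum.Decomposition 𝒬] [SetLike.GradedSMul 𝒯 𝒬]
  {φ : P →ₗ[k] M ⊗[k] N} (hP : GrSeg.IsSegreMod ψ ℳ 𝒩 𝒬 φ)
  (EM : GrLC.StarInjRes 𝒜 ℳ)

variable (𝒩) in
/-- the terms `I^i # N` -/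
abbrev sX (i : ℕ) : Type u := SegC 𝒜 ℬ 𝒯 ψ hT (EM.X i).gr 𝒩

variable (𝒩) in
/-- the differentials `d # 1` -/
noncomputable def sD (i : ℕ) : sX hT 𝒩 EM i →ₗ[T] sX hT 𝒩 EM (i + 1) :=
  segMap 𝒜 ℬ 𝒯 ψ hT (EM.X i).gr 𝒩 (EM.X (i + 1)).gr 𝒩 (EM.d i) (EM.d_grHom i) LinearMap.id
    (fun _ _ h => h)

theorem val_sD (i : ℕ) (z : sX hT 𝒩 EM i) :
    valHom 𝒜 ℬ 𝒯 ψ hT (EM.X (i + 1)).gr 𝒩 (sD hT 𝒩 EM i z) =
      tmap (k := k) (EM.d i) (LinearMap.id : N →ₗ[S] N) (valHom 𝒜 ℬ 𝒯 ψ hT (EM.X i).gr 𝒩 z) := rfl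

/-- the augmentation `M # N → I^0 # N` -/
noncomputable def sε : P →ₗ[T] sX hT 𝒩 EM 0 where
  toFun p := ⟨tmap (k := k) EM.ε (LinearMap.id : N →ₗ[S] N) (φ p),
    tmap_mem_segK ℳ 𝒩 (EM.X 0).gr 𝒩 EM.ε_grHom (fun _ _ h => h) (φ_mem_segK hP p)⟩
  map_add' p p' := by
    apply Subtype.ext
    show tmap (k := k) EM.ε (LinearMap.id : N →ₗ[S] N) (φ (p + p')) = _ + _
    rw [map_add, map_add]
  map_smul' t p := by
    apply Subtype.ext
    show tmap (k := k) EM.ε (LinearMap.id : N →ₗ[S] N) (φ (t • p)) =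
      GrSeg.act k R S _ _ (ψ t) (tmap (k := k) EM.ε (LinearMap.id : N →ₗ[S] N) (φ p))
    rw [hP.map_smul]
    exact (act_tmap EM.ε LinearMap.id (ψ t) (φ p)).symm

theorem val_sε (p : P) :
    valHom 𝒜 ℬ 𝒯 ψ hT (EM.X 0).gr 𝒩 (sε hT hP EM p) =
      tmap (k := k) EM.ε (LinearMap.id : N →ₗ[S] N) (φ p) := rfl

theorem sε_isGrHom :
    GrLC.IsGrHom 𝒬 (segGr 𝒜 ℬ 𝒯 ψ hT (EM.X 0).gr 𝒩) (sε hT hP EM) := by
  intro n p hp
  show tmap (k := k) EM.ε (LinearMap.id : N →ₗ[S] N) (φ p) ∈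
    GrSeg.segrePiece k (EM.X 0).gr 𝒩 n
  exact tmap_mem_segrePiece ℳ 𝒩 (EM.X 0).gr 𝒩 EM.ε_grHom (fun _ _ h => h) (φ_mem_piece' hP hp)

theorem sε_injective : Function.Injective (sε hT hP EM) := by
  intro p p' h
  have h1 := congrArg (valHom 𝒜 ℬ 𝒯 ψ hT (EM.X 0).gr 𝒩) h
  rw [val_sε, val_sε] at h1
  apply hP.injective
  have hinj : Function.Injective (tmap (k := k) EM.ε (LinearMap.id : N →ₗ[S] N)) :=
    TensorProduct.map_injective_of_flat_flat (EM.ε.restrictScalars k)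
      ((LinearMap.id : N →ₗ[S] N).restrictScalars k) EM.ε_injective (fun _ _ h => h)
  exact hinj h1

theorem sD_exact_zero : LinearMap.ker (sD hT 𝒩 EM 0) = LinearMap.range (sε hT hP EM) := by
  apply le_antisymm
  · intro z hz
    have h1 : tmap (k := k) (EM.d 0) (LinearMap.id : N →ₗ[S] N)
        (valHom 𝒜 ℬ 𝒯 ψ hT (EM.X 0).gr 𝒩 z) = 0 := by
      rw [← val_sD, LinearMap.mem_ker.1 hz, map_zero]
    obtain ⟨w, hw, hwz⟩ := exists_seg_preimage 𝒜 ℬ ℳ (EM.X 0).gr 𝒩 EM.ε_grHom EM.exact_zero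
      (val_mem_segK 𝒜 ℬ 𝒯 ψ hT (EM.X 0).gr 𝒩 z) h1
    -- `w` lies in the image of `φ`
    have hwφ : ∀ w ∈ segK ℳ 𝒩, w ∈ LinearMap.range φ := by
      intro w hw
      unfold segK at hw
      induction hw using Submodule.iSup_induction' with
      | mem n w hw =>
        have : w ∈ φ '' (𝒬 n : Set P) := by rw [hP.image_piece n]; exact hw
        obtain ⟨p, -, rfl⟩ := this
        exact ⟨p, rfl⟩
      | zero => exact zero_mem _
      | add a b _ _ ha hb => exact add_mem ha hb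
    obtain ⟨p, rfl⟩ := hwφ w hw
    refine ⟨p, ?_⟩
    apply valHom_injective
    rw [val_sε]
    exact hwz
  · rintro _ ⟨p, rfl⟩
    rw [LinearMap.mem_ker]
    apply valHom_injective
    rw [val_sD, val_sε, map_zero]
    generalize φ p = u
    induction u using TensorProduct.induction_on with
    | zero => simp
    | tmul x y => rw [tmap_tmul, tmap_tmul, res_d_ε, TensorProduct.zero_tmul]
    | add a b ha hb => rw [map_add, map_add, ha, hb, add_zero]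

theorem sD_exact_succ (i : ℕ) :
    LinearMap.ker (sD hT 𝒩 EM (i + 1)) = LinearMap.range (sD hT 𝒩 EM i) := by
  apply le_antisymm
  · intro z hz
    have h1 : tmap (k := k) (EM.d (i + 1)) (LinearMap.id : N →ₗ[S] N)
        (valHom 𝒜 ℬ 𝒯 ψ hT (EM.X (i + 1)).gr 𝒩 z) = 0 := by
      rw [← val_sD, LinearMap.mem_ker.1 hz, map_zero]
    obtain ⟨w, hw, hwz⟩ := exists_seg_preimage 𝒜 ℬ (EM.X i).gr (EM.X (i + 1)).gr 𝒩
      (EM.d_grHom i) (EM.exact_succ i) (val_mem_segK 𝒜 ℬ 𝒯 ψ hT (EM.X (i + 1)).gr 𝒩 z) h1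
    refine ⟨mkSeg 𝒜 ℬ 𝒯 ψ hT (EM.X i).gr 𝒩 w hw, ?_⟩
    apply valHom_injective
    rw [val_sD, val_mkSeg]
    exact hwz
  · rintro _ ⟨w, rfl⟩
    rw [LinearMap.mem_ker]
    apply valHom_injective
    rw [val_sD, val_sD, map_zero]
    generalize valHom 𝒜 ℬ 𝒯 ψ hT (EM.X i).gr 𝒩 w = u
    induction u using TensorProduct.induction_on with
    | zero => simp
    | tmul x y => rw [tmap_tmul, tmap_tmul, res_d_comp, TensorProduct.zero_tmul]
    | add a b ha hb => rw [map_add, map_add, ha, hb, add_zero]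

/-- **the resolution `I^• # N` of `M # N`** -/
noncomputable def segRes : GRes (toAdd 𝒯) 𝒬 where
  X i := SegG 𝒜 ℬ 𝒯 ψ hT (EM.X i).gr 𝒩
  d i := sD hT 𝒩 EM i
  ε := sε hT hP EM
  d_grHom i := segMap_isGrHom 𝒜 ℬ 𝒯 ψ hT (EM.X i).gr 𝒩 (EM.X (i + 1)).gr 𝒩 (EM.d i)
    (EM.d_grHom i) LinearMap.id (fun _ _ h => h)
  ε_grHom := sε_isGrHom hT hP EM
  ε_injective := sε_injective hT hP EM
  exact_zero := sD_exact_zero hT hP EM
  exact_succ i := sD_exact_succ hT EM i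

end Res

end Groth.Agent.Helper20.KS
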