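import Mathlib
import Groth.Prelude
import Groth.Agent.Lib.Helper20.GrKS3

/-!
# *Injective graded modules are nice; Segre products with a module on which a homogeneous
element of positive degree acts bijectively are acyclic (helper20)
-/

set_option autoImplicit false

open DirectSum TensorProduct

namespace Groth.Agent.Helper20.KS

open Groth.Agent.Helper20.GrInj Groth.Agent.Helper8 Groth.Agent.Helper20.Seg
  Groth.Agent.Helper20.SegFin

universe u

attribute [local instance] gK gK_tower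

section Nice

variable {k : Type u} [Field k] {R : Type u} [CommRing R] [Algebra k R] [IsNoetherianRing R]
  (𝒜 : ℤ → Submodule k R) [GradedAlgebra 𝒜]

/-- a *injective graded module is nice: it is a graded direct summand of a nice module -/
theorem isNice_of_isStarInj (X : GrLC.GMod.{u} 𝒜) (hX : GrLC.IsStarInj 𝒜 X.gr) : IsNice 𝒜 X := by
  obtain ⟨Z, j, hjgr, hjinj, ⟨D⟩⟩ := exists_nice_embedding 𝒜 X
  obtain ⟨r, hrgr, hr⟩ := starInj_extend X.gr 𝒜 hX X.gr Z.gr j hjgr hjinj LinearMap.id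
    (fun _ _ h => h)
  refine ⟨{ α := D.α
            Y := D.Y
            f := fun a => (D.f a) ∘ₗ j
            g := fun a => r ∘ₗ (D.g a)
            f_gr := fun a n x hx => D.f_gr a n _ (hjgr n x hx)
            g_gr := fun a n y hy => hrgr n _ (D.g_gr a n y hy)
            sum_eq := ?_
            nice := D.nice }⟩
  ext x
  simp only [LinearMap.sum_apply, LinearMap.comp_apply, LinearMap.id_apply]
  rw [← map_sum]
  have h1 : ∑ a, D.g a (D.f a (j x)) = j x := by
    have := congrArg (fun φ => φ (j x)) D.sum_eq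
    simpa [LinearMap.sum_apply] using this
  rw [h1]
  exact congrArg (fun φ => φ x) hr

end Nice

section Acyc

variable {k : Type u} [Field k] {R S T : Type u} [CommRing R] [CommRing S] [CommRing T]
  [Algebra k R] [Algebra k S] [Algebra k T]
  {𝒜 : ℤ → Submodule k R} [GradedAlgebra 𝒜] {ℬ : ℤ → Submodule k S} [GradedAlgebra ℬ]
  {𝒯 : ℤ → Submodule k T} [GradedAlgebra 𝒯] {ψ : T →ₐ[k] R ⊗[k] S}
  (hT : GrSeg.IsSegreRing 𝒜 ℬ 𝒯 ψ)
  {N : Type u} [AddCommGroup N] [Module S N] [Module k N] [IsScalarTower k S N]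
  (𝒩 : ℤ → AddSubgroup N) [DirectSum.Decomposition 𝒩] [SetLike.GradedSMul ℬ 𝒩]

/-- the Segre product of a nice module with a module on which a homogeneous element of positive
degree acts bijectively is acyclic -/
theorem seg_nice_bij_acyclic [IsNoetherianRing T] {X : GrLC.GMod.{u} 𝒜} (hX : IsNice 𝒜 X)
    {e : ℕ} (he : 0 < e) {g : S} (hg : g ∈ ℬ (e : ℤ))
    (hgN : Function.Bijective (fun y : N => g • y)) (j : ℕ) :
    Subsingleton (LC.H (irr 𝒯) (j + 1) (SegC 𝒜 ℬ 𝒯 ψ hT X.gr 𝒩)) := by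
  obtain ⟨D⟩ := hX
  refine H_subsingleton_of_retract_sum (irr 𝒯) (j + 1)
    (fun a : D.α => SegC 𝒜 ℬ 𝒯 ψ hT (D.Y a).gr 𝒩)
    (fun a => segMap 𝒜 ℬ 𝒯 ψ hT X.gr 𝒩 (D.Y a).gr 𝒩 (D.f a) (D.f_gr a) LinearMap.id
      (fun _ _ h => h))
    (fun a => segMap 𝒜 ℬ 𝒯 ψ hT (D.Y a).gr 𝒩 X.gr 𝒩 (D.g a) (D.g_gr a) LinearMap.id
      (fun _ _ h => h)) ?_ fun a => ?_
  · refine LinearMap.ext fun z => ?_
    apply valHom_injective 𝒜 ℬ 𝒯 ψ hT X.gr 𝒩
    rw [LinearMap.sum_apply, map_sum]
    show ∑ a, tmap (k := k) (D.g a) (LinearMap.id : N →ₗ[S] N)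
      (tmap (k := k) (D.f a) (LinearMap.id : N →ₗ[S] N) z.1) = z.1
    generalize z.1 = u
    induction u using TensorProduct.induction_on with
    | zero => simp
    | tmul x y =>
      simp only [tmap_tmul, LinearMap.id_apply]
      rw [← TensorProduct.sum_tmul]
      congr 1
      have := congrArg (fun φ => φ x) D.sum_eq
      simpa [LinearMap.sum_apply] using this
    | add u v hu hv =>
      simp only [map_add, Finset.sum_add_distrib, hu, hv]
  · rcases D.nice a with h | ⟨e', x, he', hx, hbx⟩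
    · exact LC.IsTors.H_subsingleton (irr 𝒯) (j + 1) (by omega) _
        (isTors_seg_left 𝒜 ℬ 𝒯 ψ hT _ _ h)
    · obtain ⟨t, ht, hbij⟩ := exists_smul_bijective 𝒜 ℬ 𝒯 ψ hT (D.Y a).gr 𝒩 he' he hx hg hbx hgN
      exact LC.H_subsingleton_of_smul_bijective (irr 𝒯) (j + 1) _ ht hbij

end Acyc

end Groth.Agent.Helper20.KS
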