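import Mathlib
import Groth.Prelude
import Groth.Agent.Lib.Helper20.GrKS4

/-!
# The torsion of a Segre product with a module on which a homogeneous element of positive degree
acts bijectively (helper20)
-/

set_option autoImplicit false

open DirectSum TensorProduct

namespace Groth.Agent.Helper20.KS

open Groth.Agent.Helper20.GrInj Groth.Agent.Helper8 Groth.Agent.Helper20.Seg
  Groth.Agent.Helper20.SegFin

universe u

attribute [local instance] gK gK_tower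

section Tors

variable {k : Type u} [Field k] {R S T : Type u} [CommRing R] [CommRing S] [CommRing T]
  [Algebra k R] [Algebra k S] [Algebra k T]
  {𝒜 : ℤ → Submodule k R} [GradedAlgebra 𝒜] {ℬ : ℤ → Submodule k S} [GradedAlgebra ℬ]
  {𝒯 : ℤ → Submodule k T} [GradedAlgebra 𝒯] {ψ : T →ₐ[k] R ⊗[k] S}
  (hT : GrSeg.IsSegreRing 𝒜 ℬ 𝒯 ψ)
  {N : Type u} [AddCommGroup N] [Module S N] [Module k N] [IsScalarTower k S N]
  (𝒩 : ℤ → AddSubgroup N) [DirectSum.Decomposition 𝒩] [SetLike.GradedSMul ℬ 𝒩]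

include hT in
theorem exists_psi_eq_tmul {D : ℤ} {a : R} (ha : a ∈ 𝒜 D) {b : S} (hb : b ∈ ℬ D) :
    ∃ t ∈ 𝒯 D, ψ t = a ⊗ₜ[k] b := by
  have habmem : a ⊗ₜ[k] b ∈ GrSeg.segrePiece k 𝒜 ℬ D :=
    Submodule.subset_span ⟨a, ha, b, hb, rfl⟩
  rw [← hT.2 D] at habmem
  obtain ⟨t, htD, htab⟩ := habmem
  exact ⟨t, htD, htab⟩

/-- the torsion of `X # N` lies in `Γ(X) ⊗ N` -/
theorem val_mem_tl_gamK [IsNoetherianRing R] (X : GrLC.GMod.{u} 𝒜) {e : ℕ} (he : 0 < e) {g : S}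
    (hg : g ∈ ℬ (e : ℤ)) (hgN : Function.Injective (fun y : N => g • y))
    (z : SegC 𝒜 ℬ 𝒯 ψ hT X.gr 𝒩) (hz : z ∈ LC.gam (irr 𝒯) (SegC 𝒜 ℬ 𝒯 ψ hT X.gr 𝒩)) :
    valHom 𝒜 ℬ 𝒯 ψ hT X.gr 𝒩 z ∈ tl N (gamK 𝒜 X) := by
  classical
  obtain ⟨l, hl⟩ := hz
  obtain ⟨⟨κ, 𝒞⟩⟩ := Module.Free.exists_basis (R := k) (M := N)
  rw [mem_tl_iff 𝒞]
  intro i
  obtain ⟨r, xs, es, hpos, hxs, hspan⟩ := exists_generators 𝒜
  show crd 𝒞 (valHom 𝒜 ℬ 𝒯 ψ hT X.gr 𝒩 z) i ∈ LC.gam (irr 𝒜) X.carrier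
  rw [hspan]
  apply mem_gam_of_pow_smul xs
  intro j
  set D : ℤ := ((e * es j : ℕ) : ℤ) with hD
  have hDpos : 0 < D := by
    rw [hD]
    exact_mod_cast Nat.mul_pos he (hpos j)
  have hA : xs j ^ e ∈ 𝒜 D := by
    have h := SetLike.pow_mem_graded e (hxs j)
    have e1 : e • (es j : ℤ) = D := by
      rw [hD, nsmul_eq_mul]; push_cast; ring
    rwa [e1] at h
  have hB : g ^ es j ∈ ℬ D := by
    have h := SetLike.pow_mem_graded (es j) hg
    have e1 : es j • (e : ℤ) = D := by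
      rw [hD, nsmul_eq_mul]; push_cast; ring
    rwa [e1] at h
  obtain ⟨t, htD, ht⟩ := exists_psi_eq_tmul hT hA hB
  have htl : t ^ l ∈ irr 𝒯 ^ l := Ideal.pow_mem_pow (mem_irr 𝒯 hDpos htD) l
  have h0 := hl _ htl
  have h1 : GrSeg.act k R S X.carrier N (ψ (t ^ l)) (valHom 𝒜 ℬ 𝒯 ψ hT X.gr 𝒩 z) = 0 := by
    rw [← val_smul, h0, map_zero]
  rw [map_pow, ht, Algebra.TensorProduct.tmul_pow, act_tmul_eq_map,
    ← LinearMap.lTensor_comp_rTensor, LinearMap.comp_apply] at h1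
  have hinjB : Function.Injective (Algebra.lsmul k k N ((g ^ es j) ^ l)) := by
    have h2 : Function.Injective (fun y : N => (g ^ (es j * l)) • y) := by
      have := hgN.iterate (es j * l)
      rwa [smul_iterate] at this
    intro y y' hyy'
    apply h2
    show g ^ (es j * l) • y = g ^ (es j * l) • y'
    rw [pow_mul]
    exact hyy'
  have hinj : Function.Injective
      ((Algebra.lsmul k k N ((g ^ es j) ^ l)).lTensor X.carrier) :=
    Module.Flat.lTensor_preserves_injective_linearMap _ hinjB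
  have h2 : (Algebra.lsmul k k X.carrier ((xs j ^ e) ^ l)).rTensor N
      (valHom 𝒜 ℬ 𝒯 ψ hT X.gr 𝒩 z) = 0 := hinj (by rw [h1, map_zero])
  have h3 := crd_rTensor 𝒞 (Algebra.lsmul k k X.carrier ((xs j ^ e) ^ l))
    (valHom 𝒜 ℬ 𝒯 ψ hT X.gr 𝒩 z) i
  rw [h2, map_zero, Finsupp.zero_apply] at h3
  refine ⟨e * l, ?_⟩
  rw [pow_mul]
  exact h3.symm

/-- elements of `Γ(X) ⊗ N` in the Segre product are torsion -/
theorem mem_gam_of_val_mem_tl (X : GrLC.GMod.{u} 𝒜) (z : SegC 𝒜 ℬ 𝒯 ψ hT X.gr 𝒩)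
    (hz : valHom 𝒜 ℬ 𝒯 ψ hT X.gr 𝒩 z ∈ tl N (gamK 𝒜 X)) :
    z ∈ LC.gam (irr 𝒯) (SegC 𝒜 ℬ 𝒯 ψ hT X.gr 𝒩) := by
  have key : ∀ u ∈ tl N (gamK 𝒜 X), ∃ l : ℕ,
      ∀ x ∈ Ideal.map (Algebra.TensorProduct.includeLeft : R →ₐ[k] R ⊗[k] S) (irr 𝒜 ^ l),
        GrSeg.act k R S X.carrier N x u = 0 := by
    rintro _ ⟨u', rfl⟩
    induction u' using TensorProduct.induction_on with
    | zero => exact ⟨0, fun x _ => by rw [map_zero, map_zero]⟩
    | tmul w v =>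
      obtain ⟨l, hl⟩ := w.2
      exact ⟨l, fun x hx => act_eq_zero_left (irr 𝒜 ^ l) w.1 hl v x hx⟩
    | add a b ha hb =>
      obtain ⟨l, hl⟩ := ha
      obtain ⟨l', hl'⟩ := hb
      refine ⟨max l l', fun x hx => ?_⟩
      rw [map_add, map_add, hl x (Ideal.map_mono (Ideal.pow_le_pow_right (le_max_left l l')) hx),
        hl' x (Ideal.map_mono (Ideal.pow_le_pow_right (le_max_right l l')) hx), add_zero]
  obtain ⟨l, hl⟩ := key _ hz
  refine ⟨l, fun t ht => ?_⟩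
  apply valHom_injective
  rw [val_smul, map_zero]
  exact hl _ (psi_pow_mem_left 𝒜 ℬ 𝒯 ψ hT l ht)

end Tors

end Groth.Agent.Helper20.KS
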