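import Mathlib
import Groth.Prelude
import Groth.Agent.Lib.Helper20.GrKS5

/-!
# The cohomology of `Γ_{T_+}(I^• # N)` when a homogeneous element of positive degree acts
bijectively on `N` (helper20)
-/

set_option autoImplicit false

open DirectSum TensorProduct

namespace Groth.Agent.Helper20.KS

open Groth.Agent.Helper20.GrInj Groth.Agent.Helper8 Groth.Agent.Helper20.Seg
  Groth.Agent.Helper20.SegFin

universe u

attribute [local instance] gK gK_tower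

section Stab

variable {k : Type u} [Field k] {R S : Type u} [CommRing R] [CommRing S]
  [Algebra k R] [Algebra k S]
  (𝒜 : ℤ → Submodule k R) [GradedAlgebra 𝒜] (ℬ : ℤ → Submodule k S) [GradedAlgebra ℬ]
  {W : Type u} [AddCommGroup W] [Module R W] [Module k W] [IsScalarTower k R W]
  (𝒲 : ℤ → AddSubgroup W) [DirectSum.Decomposition 𝒲] [SetLike.GradedSMul 𝒜 𝒲]
  {V : Type u} [AddCommGroup V] [Module S V] [Module k V] [IsScalarTower k S V]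
  (𝒱 : ℤ → AddSubgroup V) [DirectSum.Decomposition 𝒱] [SetLike.GradedSMul ℬ 𝒱]

omit [IsScalarTower k R W] [IsScalarTower k S V] [Module R W] [Module S V] in
theorem map_mem_tl {A : Submodule k W} (f : W →ₗ[k] W) (g : V →ₗ[k] V) (hf : ∀ w ∈ A, f w ∈ A)
    {u : W ⊗[k] V} (hu : u ∈ tl V A) : TensorProduct.map f g u ∈ tl V A := by
  obtain ⟨u', rfl⟩ := hu
  induction u' using TensorProduct.induction_on with
  | zero => rw [map_zero, map_zero]; exact zero_mem _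
  | tmul a n =>
    rw [LinearMap.rTensor_tmul, TensorProduct.map_tmul]
    exact tmul_mem_tl (hf _ a.2) _
  | add x y hx hy => rw [map_add, map_add]; exact add_mem hx hy

theorem rhoX_mem_tl {A : Submodule k W} (hA : ∀ n, ∀ w ∈ A, proj 𝒜 𝒲 n w ∈ A) {u : W ⊗[k] V}
    (hu : u ∈ tl V A) : rhoX 𝒜 ℬ 𝒲 𝒱 u ∈ tl V A := by
  rw [rhoX_apply]
  apply finsum_induction (p := fun x => x ∈ tl V A)
  · exact zero_mem _
  · intro x y hx hy; exact add_mem hx hy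
  · intro i
    exact map_mem_tl (proj 𝒜 𝒲 i) (proj ℬ 𝒱 i) (hA i) hu

end Stab


section Coh

variable {k : Type u} [Field k] {R S T : Type u} [CommRing R] [CommRing S] [CommRing T]
  [Algebra k R] [Algebra k S] [Algebra k T]
  {𝒜 : ℤ → Submodule k R} [GradedAlgebra 𝒜] {ℬ : ℤ → Submodule k S} [GradedAlgebra ℬ]
  {𝒯 : ℤ → Submodule k T} [GradedAlgebra 𝒯] {ψ : T →ₐ[k] R ⊗[k] S}
  (hT : GrSeg.IsSegreRing 𝒜 ℬ 𝒯 ψ)
  {M : Type u} [AddCommGroup M] [Module R M] [Module k M] [IsScalarTower k R M]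
  {ℳ : ℤ → AddSubgroup M} [DirectSum.Decomposition ℳ] [SetLike.GradedSMul 𝒜 ℳ]
  {N : Type u} [AddCommGroup N] [Module S N] [Module k N] [IsScalarTower k S N]
  (𝒩 : ℤ → AddSubgroup N) [DirectSum.Decomposition 𝒩] [SetLike.GradedSMul ℬ 𝒩]
  (EM : GrLC.StarInjRes 𝒜 ℳ) (mR : HomogeneousIdeal 𝒜) (q : ℕ)

variable (N) in
/-- the inclusion of the cocycles, tensored with `N` -/
noncomputable def ιZ : ↥(EM.cocyc mR q) ⊗[k] N →ₗ[k] (EM.X q).carrier ⊗[k] N :=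
  ((EM.cocyc mR q).subtype.restrictScalars k).rTensor N

theorem ιZ_tmul (c : ↥(EM.cocyc mR q)) (y : N) :
    ιZ N EM mR q (c ⊗ₜ[k] y) = (c : (EM.X q).carrier) ⊗ₜ[k] y := rfl

theorem ιZ_injective : Function.Injective (ιZ N EM mR q) :=
  Module.Flat.rTensor_preserves_injective_linearMap _ Subtype.val_injective

theorem act_ιZ (x : R ⊗[k] S) (u : ↥(EM.cocyc mR q) ⊗[k] N) :
    GrSeg.act k R S (EM.X q).carrier N x (ιZ N EM mR q u) =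
      ιZ N EM mR q (GrSeg.act k R S ↥(EM.cocyc mR q) N x u) := by
  unfold ιZ
  rw [← tmap_id_eq_rTensor (S := S)]
  exact act_tmap _ _ x u

variable {Hq : Type u} [AddCommGroup Hq] [Module R Hq] [Module k Hq] [IsScalarTower k R Hq]
  (π : ↥(EM.cocyc mR q) →ₗ[R] Hq)

variable (N) in
/-- the class map, tensored with `N` -/
noncomputable def πZ : ↥(EM.cocyc mR q) ⊗[k] N →ₗ[k] Hq ⊗[k] N :=
  (π.restrictScalars k).rTensor N

theorem πZ_tmul (c : ↥(EM.cocyc mR q)) (y : N) :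
    πZ N EM mR q π (c ⊗ₜ[k] y) = (π c) ⊗ₜ[k] y := rfl

theorem act_πZ (x : R ⊗[k] S) (u : ↥(EM.cocyc mR q) ⊗[k] N) :
    GrSeg.act k R S Hq N x (πZ N EM mR q π u) =
      πZ N EM mR q π (GrSeg.act k R S ↥(EM.cocyc mR q) N x u) := by
  unfold πZ
  rw [← tmap_id_eq_rTensor (S := S)]
  exact act_tmap _ _ x u

end Coh


section Coh2

variable {k : Type u} [Field k] {R S T : Type u} [CommRing R] [CommRing S] [CommRing T]
  [Algebra k R] [Algebra k S] [Algebra k T]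
  {𝒜 : ℤ → Submodule k R} [GradedAlgebra 𝒜] {ℬ : ℤ → Submodule k S} [GradedAlgebra ℬ]
  {𝒯 : ℤ → Submodule k T} [GradedAlgebra 𝒯] {ψ : T →ₐ[k] R ⊗[k] S}
  (hT : GrSeg.IsSegreRing 𝒜 ℬ 𝒯 ψ)
  {M : Type u} [AddCommGroup M] [Module R M] [Module k M] [IsScalarTower k R M]
  {ℳ : ℤ → AddSubgroup M} [DirectSum.Decomposition ℳ] [SetLike.GradedSMul 𝒜 ℳ]
  {N : Type u} [AddCommGroup N] [Module S N] [Module k N] [IsScalarTower k S N]
  (𝒩 : ℤ → AddSubgroup N) [DirectSum.Decomposition 𝒩] [SetLike.GradedSMul ℬ 𝒩]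
  (EM : GrLC.StarInjRes 𝒜 ℳ) (mR : HomogeneousIdeal 𝒜) (hmR : mR.toIdeal = irr 𝒜) (q : ℕ)

include hmR in
/-- the underlying tensor of a cocycle of `Γ(I^• # N)` lies in `Z ⊗ N` -/
theorem exists_ιZ_eq [IsNoetherianRing R] {e : ℕ} (he : 0 < e) {g : S}
    (hg : g ∈ ℬ (e : ℤ)) (hgN : Function.Injective (fun y : N => g • y))
    (z : sX hT 𝒩 EM q) (hz1 : z ∈ LC.gam (irr 𝒯) (sX hT 𝒩 EM q)) (hz2 : sD hT 𝒩 EM q z = 0) :
    ∃ u' : ↥(EM.cocyc mR q) ⊗[k] N,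
      ιZ N EM mR q u' = valHom 𝒜 ℬ 𝒯 ψ hT (EM.X q).gr 𝒩 z := by
  have h1 := val_mem_tl_gamK hT 𝒩 (EM.X q) he hg hgN z hz1
  have h2 : valHom 𝒜 ℬ 𝒯 ψ hT (EM.X q).gr 𝒩 z ∈
      tl N (LinearMap.ker ((EM.d q).restrictScalars k)) := by
    rw [← ker_rTensor, LinearMap.mem_ker, ← tmap_id_eq_rTensor (S := S), ← val_sD, hz2, map_zero]
  have h3 : valHom 𝒜 ℬ 𝒯 ψ hT (EM.X q).gr 𝒩 z ∈
      tl N (gamK 𝒜 (EM.X q) ⊓ LinearMap.ker ((EM.d q).restrictScalars k)) := by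
    rw [← tl_inf]; exact ⟨h1, h2⟩
  obtain ⟨u'', hu''⟩ := h3
  have key : ∀ u'' : ↥(gamK 𝒜 (EM.X q) ⊓ LinearMap.ker ((EM.d q).restrictScalars k)) ⊗[k] N,
      ∃ u' : ↥(EM.cocyc mR q) ⊗[k] N, ιZ N EM mR q u' =
        (gamK 𝒜 (EM.X q) ⊓ LinearMap.ker ((EM.d q).restrictScalars k)).subtype.rTensor N u'' := by
    intro u''
    induction u'' using TensorProduct.induction_on with
    | zero => exact ⟨0, by rw [map_zero, map_zero]⟩
    | tmul a n =>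
      have ha : (a : (EM.X q).carrier) ∈ EM.cocyc mR q := by
        refine Submodule.mem_inf.2 ⟨?_, a.2.2⟩
        rw [hmR]
        exact a.2.1
      exact ⟨(⟨a.1, ha⟩ : ↥(EM.cocyc mR q)) ⊗ₜ[k] n, rfl⟩
    | add x y hx hy =>
      obtain ⟨x', hx'⟩ := hx
      obtain ⟨y', hy'⟩ := hy
      exact ⟨x' + y', by rw [map_add, map_add, hx', hy']⟩
  obtain ⟨u', hu'⟩ := key u''
  exact ⟨u', hu'.trans hu''⟩

end Coh2


section Coh3

variable {k : Type u} [Field k] {R S T : Type u} [CommRing R] [CommRing S] [CommRing T]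
  [Algebra k R] [Algebra k S] [Algebra k T]
  {𝒜 : ℤ → Submodule k R} [GradedAlgebra 𝒜] {ℬ : ℤ → Submodule k S} [GradedAlgebra ℬ]
  {𝒯 : ℤ → Submodule k T} [GradedAlgebra 𝒯] {ψ : T →ₐ[k] R ⊗[k] S}
  (hT : GrSeg.IsSegreRing 𝒜 ℬ 𝒯 ψ)
  {M : Type u} [AddCommGroup M] [Module R M] [Module k M] [IsScalarTower k R M]
  {ℳ : ℤ → AddSubgroup M} [DirectSum.Decomposition ℳ] [SetLike.GradedSMul 𝒜 ℳ]
  {N : Type u} [AddCommGroup N] [Module S N] [Module k N] [IsScalarTower k S N]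
  (𝒩 : ℤ → AddSubgroup N) [DirectSum.Decomposition 𝒩] [SetLike.GradedSMul ℬ 𝒩]
  (EM : GrLC.StarInjRes 𝒜 ℳ) (mR : HomogeneousIdeal 𝒜) (hmR : mR.toIdeal = irr 𝒜) (q : ℕ)
  {Hq : Type u} [AddCommGroup Hq] [Module R Hq] [Module k Hq] [IsScalarTower k R Hq]
  (π : ↥(EM.cocyc mR q) →ₗ[R] Hq)

/-- the cocycles of `Γ(I^• # N)` -/
noncomputable def sZ : Submodule T (sX hT 𝒩 EM q) :=
  LC.gam (irr 𝒯) (sX hT 𝒩 EM q) ⊓ LinearMap.ker (sD hT 𝒩 EM q)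

/-- the coboundaries of `Γ(I^• # N)` -/
noncomputable def sB : (q : ℕ) → Submodule T (sX hT 𝒩 EM q)
  | 0 => ⊥
  | n + 1 => (LC.gam (irr 𝒯) (sX hT 𝒩 EM n)).map (sD hT 𝒩 EM n)

include hmR in
/-- the map from the cocycles of `Γ(I^• # N)` to `H # N` -/
theorem exists_cocycle_map [IsNoetherianRing R] {e : ℕ} (he : 0 < e) {g : S}
    (hg : g ∈ ℬ (e : ℤ)) (hgN : Function.Injective (fun y : N => g • y)) :
    ∃ Ψ : ↥(sZ hT 𝒩 EM q) →ₗ[T] Amb ψ Hq N,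
      ∀ (z : ↥(sZ hT 𝒩 EM q)) (u' : ↥(EM.cocyc mR q) ⊗[k] N),
        ιZ N EM mR q u' = valHom 𝒜 ℬ 𝒯 ψ hT (EM.X q).gr 𝒩 z.1 → Ψ z = πZ N EM mR q π u' := by
  obtain ⟨ρ, hρ⟩ := LinearMap.exists_leftInverse_of_injective (ιZ N EM mR q)
    (LinearMap.ker_eq_bot.2 (ιZ_injective EM mR q))
  have hρ' : ∀ u', ρ (ιZ N EM mR q u') = u' := fun u' => congrArg (fun f => f u') hρ
  have hex : ∀ z : ↥(sZ hT 𝒩 EM q),
      ∃ u' : ↥(EM.cocyc mR q) ⊗[k] N,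
        ιZ N EM mR q u' = valHom 𝒜 ℬ 𝒯 ψ hT (EM.X q).gr 𝒩 z.1 := fun z =>
    exists_ιZ_eq hT 𝒩 EM mR hmR q he hg hgN z.1 (Submodule.mem_inf.1 z.2).1
      (LinearMap.mem_ker.1 (Submodule.mem_inf.1 z.2).2)
  refine ⟨{ toFun := fun z => πZ N EM mR q π (ρ (valHom 𝒜 ℬ 𝒯 ψ hT (EM.X q).gr 𝒩 z.1))
            map_add' := ?_
            map_smul' := ?_ }, ?_⟩
  · intro z w
    show πZ N EM mR q π (ρ (valHom 𝒜 ℬ 𝒯 ψ hT (EM.X q).gr 𝒩 (z.1 + w.1))) = _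
    rw [map_add, map_add, map_add]
    rfl
  · intro t z
    obtain ⟨u', hu'⟩ := hex z
    show πZ N EM mR q π (ρ (valHom 𝒜 ℬ 𝒯 ψ hT (EM.X q).gr 𝒩 (t • z.1))) =
      GrSeg.act k R S Hq N (ψ t) (πZ N EM mR q π (ρ (valHom 𝒜 ℬ 𝒯 ψ hT (EM.X q).gr 𝒩 z.1)))
    rw [val_smul, ← hu', act_ιZ, hρ', hρ', act_πZ]
  · intro z u' hu'
    show πZ N EM mR q π (ρ (valHom 𝒜 ℬ 𝒯 ψ hT (EM.X q).gr 𝒩 z.1)) = _
    rw [← hu', hρ']

end Coh3

end Groth.Agent.Helper20.KS
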