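import Mathlib
import Groth.Prelude
import Groth.Agent.Lib.Helper20.GrKS6

/-!
# The cohomology of `Γ_{T_+}(I^• # N)` is `H^•_m(M) # N` when a homogeneous element of positive
degree acts bijectively on `N` (helper20)
-/

set_option autoImplicit false

open DirectSum TensorProduct

namespace Groth.Agent.Helper20.KS

open Groth.Agent.Helper20.GrInj Groth.Agent.Helper8 Groth.Agent.Helper20.Seg
  Groth.Agent.Helper20.SegFin

universe u

attribute [local instance] gK gK_tower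

section Coh4

variable {k : Type u} [Field k] {R S T : Type u} [CommRing R] [CommRing S] [CommRing T]
  [Algebra k R] [Algebra k S] [Algebra k T]
  {𝒜 : ℤ → Submodule k R} [GradedAlgebra 𝒜] {ℬ : ℤ → Submodule k S} [GradedAlgebra ℬ]
  {𝒯 : ℤ → Submodule k T} [GradedAlgebra 𝒯] {ψ : T →ₐ[k] R ⊗[k] S}
  (hT : GrSeg.IsSegreRing 𝒜 ℬ 𝒯 ψ)
  {M : Type u} [AddCommGroup M] [Module R M] [Module k M] [IsScalarTower k R M]
  {ℳ : ℤ → AddSubgroup M} [DirectSum.Decomposition ℳ] [SetLike.GradedSMul 𝒜 ℳ]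
  {N : Type u} [AddCommGroup N] [Module S N] [Module k N] [IsScalarTower k S N]
  (𝒩 : ℤ → AddSubgroup N) [DirectSum.Decomposition 𝒩] [SetLike.GradedSMul ℬ 𝒩]
  (EM : GrLC.StarInjRes 𝒜 ℳ) (mR : HomogeneousIdeal 𝒜) (hmR : mR.toIdeal = irr 𝒜)

/-- the torsion of `I^n` as an `R`-module -/
abbrev Gn (n : ℕ) : Submodule R (EM.X n).carrier := GrLC.gam mR.toIdeal (EM.X n).carrier

/-- the differential from the torsion of `I^n` to the cocycles of `I^{n+1}` -/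
noncomputable def dG (n : ℕ) : ↥(Gn EM mR n) →ₗ[R] ↥(EM.cocyc mR (n + 1)) :=
  ((EM.d n).comp (Gn EM mR n).subtype).codRestrict (EM.cocyc mR (n + 1)) (fun x => by
    refine Submodule.mem_inf.2 ⟨?_, LinearMap.mem_ker.2 (res_d_comp EM n x.1)⟩
    obtain ⟨l, hl⟩ := x.2
    refine ⟨l, fun r hr => ?_⟩
    show r • EM.d n x.1 = 0
    rw [← map_smul, hl r hr, map_zero])

theorem dG_coe (n : ℕ) (x : ↥(Gn EM mR n)) :
    ((dG EM mR n x : ↥(EM.cocyc mR (n + 1))) : (EM.X (n + 1)).carrier) = EM.d n x.1 := rfl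

theorem range_dG (n : ℕ) :
    LinearMap.range (dG EM mR n) =
      (EM.cobdy mR (n + 1)).comap (EM.cocyc mR (n + 1)).subtype := by
  ext z
  constructor
  · rintro ⟨x, rfl⟩
    exact ⟨x.1, x.2, rfl⟩
  · rintro ⟨x, hx, hxz⟩
    exact ⟨⟨x, hx⟩, Subtype.ext hxz⟩

variable (N) in
/-- the inclusion of the torsion, tensored with `N` -/
noncomputable def ιG (n : ℕ) : ↥(Gn EM mR n) ⊗[k] N →ₗ[k] (EM.X n).carrier ⊗[k] N :=
  ((Gn EM mR n).subtype.restrictScalars k).rTensor N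

include hmR in
theorem ιG_mem_tl (n : ℕ) (w' : ↥(Gn EM mR n) ⊗[k] N) :
    ιG N EM mR n w' ∈ tl N (gamK 𝒜 (EM.X n)) := by
  induction w' using TensorProduct.induction_on with
  | zero => rw [map_zero]; exact zero_mem _
  | tmul x y =>
    refine tmul_mem_tl ?_ y
    show (x : (EM.X n).carrier) ∈ LC.gam (irr 𝒜) (EM.X n).carrier
    rw [← hmR]
    exact x.2
  | add a b ha hb => rw [map_add]; exact add_mem ha hb

include hmR in
theorem exists_ιG_eq (n : ℕ) {u : (EM.X n).carrier ⊗[k] N} (hu : u ∈ tl N (gamK 𝒜 (EM.X n))) :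
    ∃ w' : ↥(Gn EM mR n) ⊗[k] N, ιG N EM mR n w' = u := by
  obtain ⟨u'', rfl⟩ := hu
  induction u'' using TensorProduct.induction_on with
  | zero => exact ⟨0, by rw [map_zero, map_zero]⟩
  | tmul a y =>
    have ha : (a : (EM.X n).carrier) ∈ Gn EM mR n := by
      show (a : (EM.X n).carrier) ∈ GrLC.gam mR.toIdeal (EM.X n).carrier
      rw [hmR]
      exact a.2
    exact ⟨(⟨a.1, ha⟩ : ↥(Gn EM mR n)) ⊗ₜ[k] y, rfl⟩
  | add x y hx hy =>
    obtain ⟨x', hx'⟩ := hx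
    obtain ⟨y', hy'⟩ := hy
    exact ⟨x' + y', by rw [map_add, map_add, hx', hy']⟩

theorem ιZ_dG (n : ℕ) (w' : ↥(Gn EM mR n) ⊗[k] N) :
    ιZ N EM mR (n + 1) (((dG EM mR n).restrictScalars k).rTensor N w') =
      ((EM.d n).restrictScalars k).rTensor N (ιG N EM mR n w') := by
  induction w' using TensorProduct.induction_on with
  | zero => simp only [map_zero]
  | tmul x y => rfl
  | add a b ha hb => simp only [map_add, ha, hb]

end Coh4


section Coh5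

variable {k : Type u} [Field k] {R S T : Type u} [CommRing R] [CommRing S] [CommRing T]
  [Algebra k R] [Algebra k S] [Algebra k T]
  {𝒜 : ℤ → Submodule k R} [GradedAlgebra 𝒜] {ℬ : ℤ → Submodule k S} [GradedAlgebra ℬ]
  {𝒯 : ℤ → Submodule k T} [GradedAlgebra 𝒯] {ψ : T →ₐ[k] R ⊗[k] S}
  (hT : GrSeg.IsSegreRing 𝒜 ℬ 𝒯 ψ)
  {M : Type u} [AddCommGroup M] [Module R M] [Module k M] [IsScalarTower k R M]
  {ℳ : ℤ → AddSubgroup M} [DirectSum.Decomposition ℳ] [SetLike.GradedSMul 𝒜 ℳ]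
  {N : Type u} [AddCommGroup N] [Module S N] [Module k N] [IsScalarTower k S N]
  (𝒩 : ℤ → AddSubgroup N) [DirectSum.Decomposition 𝒩] [SetLike.GradedSMul ℬ 𝒩]
  (EM : GrLC.StarInjRes 𝒜 ℳ) (mR : HomogeneousIdeal 𝒜) (hmR : mR.toIdeal = irr 𝒜) (q : ℕ)
  {Hq : Type u} [AddCommGroup Hq] [Module R Hq] [Module k Hq] [IsScalarTower k R Hq]
  (π : ↥(EM.cocyc mR q) →ₗ[R] Hq)
  (hπk : LinearMap.ker π = (EM.cobdy mR q).comap (EM.cocyc mR q).subtype)

include hmR hπk in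
/-- coboundaries go to zero -/
theorem πZ_eq_zero_of_mem_sB [IsNoetherianRing R] {e : ℕ} (he : 0 < e) {g : S}
    (hg : g ∈ ℬ (e : ℤ)) (hgN : Function.Injective (fun y : N => g • y))
    (z : sX hT 𝒩 EM q) (hz : z ∈ sB hT 𝒩 EM q) (u' : ↥(EM.cocyc mR q) ⊗[k] N)
    (hu' : ιZ N EM mR q u' = valHom 𝒜 ℬ 𝒯 ψ hT (EM.X q).gr 𝒩 z) :
    πZ N EM mR q π u' = 0 := by
  cases q with
  | zero =>
    have hz0 : z = 0 := hz
    rw [hz0, map_zero] at hu'
    have : u' = 0 := ιZ_injective EM mR 0 (by rw [hu', map_zero])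
    rw [this, map_zero]
  | succ n =>
    obtain ⟨w, hw, rfl⟩ := hz
    have h1 := val_mem_tl_gamK hT 𝒩 (EM.X n) he hg hgN w hw
    obtain ⟨w', hw'⟩ := exists_ιG_eq EM mR hmR n h1
    have h2 : ιZ N EM mR (n + 1) (((dG EM mR n).restrictScalars k).rTensor N w') =
        ιZ N EM mR (n + 1) u' := by
      rw [ιZ_dG, hw', hu', val_sD, tmap_id_eq_rTensor]
    have h3 := ιZ_injective EM mR (n + 1) h2
    rw [← h3]
    have key : ∀ w' : ↥(Gn EM mR n) ⊗[k] N,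
        πZ N EM mR (n + 1) π (((dG EM mR n).restrictScalars k).rTensor N w') = 0 := by
      intro w'
      induction w' using TensorProduct.induction_on with
      | zero => simp only [map_zero]
      | tmul x y =>
        have hx : π (dG EM mR n x) = 0 := by
          have : dG EM mR n x ∈ LinearMap.ker π := by
            rw [hπk, ← range_dG]
            exact ⟨x, rfl⟩
          exact this
        show (π (dG EM mR n x)) ⊗ₜ[k] y = 0
        rw [hx, TensorProduct.zero_tmul]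
      | add a b ha hb => simp only [map_add, ha, hb, add_zero]
    exact key w'

end Coh5


section Coh6

variable {k : Type u} [Field k] {R S T : Type u} [CommRing R] [CommRing S] [CommRing T]
  [Algebra k R] [Algebra k S] [Algebra k T]
  {𝒜 : ℤ → Submodule k R} [GradedAlgebra 𝒜] {ℬ : ℤ → Submodule k S} [GradedAlgebra ℬ]
  {𝒯 : ℤ → Submodule k T} [GradedAlgebra 𝒯] {ψ : T →ₐ[k] R ⊗[k] S}
  (hT : GrSeg.IsSegreRing 𝒜 ℬ 𝒯 ψ)
  {M : Type u} [AddCommGroup M] [Module R M] [Module k M] [IsScalarTower k R M]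
  {ℳ : ℤ → AddSubgroup M} [DirectSum.Decomposition ℳ] [SetLike.GradedSMul 𝒜 ℳ]
  {N : Type u} [AddCommGroup N] [Module S N] [Module k N] [IsScalarTower k S N]
  (𝒩 : ℤ → AddSubgroup N) [DirectSum.Decomposition 𝒩] [SetLike.GradedSMul ℬ 𝒩]
  (EM : GrLC.StarInjRes 𝒜 ℳ) (mR : HomogeneousIdeal 𝒜) (hmR : mR.toIdeal = irr 𝒜) (q : ℕ)
  {Hq : Type u} [AddCommGroup Hq] [Module R Hq] [Module k Hq] [IsScalarTower k R Hq]
  (π : ↥(EM.cocyc mR q) →ₗ[R] Hq)
  (hπk : LinearMap.ker π = (EM.cobdy mR q).comap (EM.cocyc mR q).subtype)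

theorem proj_mem_gamK (n : ℕ) (i : ℤ) (w : (EM.X n).carrier) (hw : w ∈ gamK 𝒜 (EM.X n)) :
    proj 𝒜 (EM.X n).gr i w ∈ gamK 𝒜 (EM.X n) :=
  gam_isHomogeneous 𝒜 (EM.X n).gr (irrH 𝒜) i hw

include hmR hπk in
/-- cocycles going to zero are coboundaries -/
theorem mem_sB_of_πZ_eq_zero
    (z : sX hT 𝒩 EM q) (u' : ↥(EM.cocyc mR q) ⊗[k] N)
    (hu' : ιZ N EM mR q u' = valHom 𝒜 ℬ 𝒯 ψ hT (EM.X q).gr 𝒩 z)
    (h0 : πZ N EM mR q π u' = 0) : z ∈ sB hT 𝒩 EM q := by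
  cases q with
  | zero =>
    have hπinj : Function.Injective π := by
      rw [← LinearMap.ker_eq_bot, hπk]
      show (⊥ : Submodule R (EM.X 0).carrier).comap (EM.cocyc mR 0).subtype = ⊥
      rw [Submodule.comap_bot, Submodule.ker_subtype]
    have hinj : Function.Injective (πZ N EM mR 0 π) :=
      Module.Flat.rTensor_preserves_injective_linearMap _ hπinj
    have hu0 : u' = 0 := hinj (by rw [h0, map_zero])
    rw [hu0, map_zero] at hu'
    have hz0 : z = 0 := valHom_injective 𝒜 ℬ 𝒯 ψ hT (EM.X 0).gr 𝒩 (by rw [← hu', map_zero])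
    rw [hz0]
    exact zero_mem _
  | succ n =>
    have hex : LinearMap.ker (π.restrictScalars k) =
        LinearMap.range ((dG EM mR n).restrictScalars k) := by
      ext x
      rw [LinearMap.mem_ker, LinearMap.mem_range]
      have := SetLike.ext_iff.1 (hπk.trans (range_dG EM mR n).symm) x
      rw [LinearMap.mem_ker, LinearMap.mem_range] at this
      exact this
    obtain ⟨w', hw'⟩ := exists_rTensor_eq hex u' h0
    have hw0 := ιG_mem_tl EM mR hmR n w'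
    have hw1 : rhoX 𝒜 ℬ (EM.X n).gr 𝒩 (ιG N EM mR n w') ∈ tl N (gamK 𝒜 (EM.X n)) :=
      rhoX_mem_tl 𝒜 ℬ (EM.X n).gr 𝒩 (fun i w hw => proj_mem_gamK EM n i w hw) hw0
    have hw2 := rhoX_mem_segK 𝒜 ℬ (EM.X n).gr 𝒩 (ιG N EM mR n w')
    let w : sX hT 𝒩 EM n := mkSeg 𝒜 ℬ 𝒯 ψ hT (EM.X n).gr 𝒩 _ hw2
    have hwg : w ∈ LC.gam (irr 𝒯) (sX hT 𝒩 EM n) :=
      mem_gam_of_val_mem_tl hT 𝒩 (EM.X n) w hw1
    refine ⟨w, hwg, ?_⟩
    apply valHom_injective 𝒜 ℬ 𝒯 ψ hT (EM.X (n + 1)).gr 𝒩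
    rw [val_sD]
    show tmap (k := k) (EM.d n) (LinearMap.id : N →ₗ[S] N)
      (rhoX 𝒜 ℬ (EM.X n).gr 𝒩 (ιG N EM mR n w')) = _
    rw [← rhoX_tmap 𝒜 ℬ (EM.X n).gr (EM.X (n + 1)).gr 𝒩 𝒩 (EM.d_grHom n) (fun _ _ h => h),
      tmap_id_eq_rTensor, ← ιZ_dG, hw', hu',
      rhoX_of_mem_segK 𝒜 ℬ (EM.X (n + 1)).gr 𝒩 (val_mem_segK 𝒜 ℬ 𝒯 ψ hT (EM.X (n + 1)).gr 𝒩 z)]

end Coh6

end Groth.Agent.Helper20.KS
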