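import Mathlib
import Groth.Prelude
import Groth.Agent.Lib.Helper20.GrKS7

/-!
# The cohomology of `Γ_{T_+}(I^• # N)` is `H^•_m(M) # N`: the homogeneous pieces and the main
comparison (helper20)
-/

set_option autoImplicit false

open DirectSum TensorProduct

namespace Groth.Agent.Helper20.KS

open Groth.Agent.Helper20.GrInj Groth.Agent.Helper8 Groth.Agent.Helper20.Seg
  Groth.Agent.Helper20.SegFin

universe u

attribute [local instance] gK gK_tower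

section Coh7

variable {k : Type u} [Field k] {R S T : Type u} [CommRing R] [CommRing S] [CommRing T]
  [Algebra k R] [Algebra k S] [Algebra k T]
  {𝒜 : ℤ → Submodule k R} [GradedAlgebra 𝒜] {ℬ : ℤ → Submodule k S} [GradedAlgebra ℬ]
  {𝒯 : ℤ → Submodule k T} [GradedAlgebra 𝒯] {ψ : T →ₐ[k] R ⊗[k] S}
  (hT : GrSeg.IsSegreRing 𝒜 ℬ 𝒯 ψ)
  {M : Type u} [AddCommGroup M] [Module R M] [Module k M] [IsScalarTower k R M]
  {ℳ : ℤ → AddSubgroup M} [DirectSum.Decomposition ℳ] [SetLike.GradedSMul 𝒜 ℳ]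
  {N : Type u} [AddCommGroup N] [Module S N] [Module k N] [IsScalarTower k S N]
  (𝒩 : ℤ → AddSubgroup N) [DirectSum.Decomposition 𝒩] [SetLike.GradedSMul ℬ 𝒩]
  (EM : GrLC.StarInjRes 𝒜 ℳ) (mR : HomogeneousIdeal 𝒜) (hmR : mR.toIdeal = irr 𝒜) (q : ℕ)
  {Hq : Type u} [AddCommGroup Hq] [Module R Hq] [Module k Hq] [IsScalarTower k R Hq]
  (π : ↥(EM.cocyc mR q) →ₗ[R] Hq)
  (ℋ : ℤ → AddSubgroup Hq)
  (hℋ : ∀ (n : ℤ) (h : Hq), h ∈ ℋ n ↔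
    ∃ z : ↥(EM.cocyc mR q), (z : (EM.X q).carrier) ∈ (EM.X q).gr n ∧ π z = h)

/-- the homogeneous components of cocycles -/
noncomputable def pZ (n : ℤ) : ↥(EM.cocyc mR q) →ₗ[k] ↥(EM.cocyc mR q) where
  toFun c := ⟨proj 𝒜 (EM.X q).gr n c.1, cocyc_isHomogeneous EM mR q n c.2⟩
  map_add' c c' := Subtype.ext (map_add (proj 𝒜 (EM.X q).gr n) c.1 c'.1)
  map_smul' a c := Subtype.ext (map_smul (proj 𝒜 (EM.X q).gr n) a c.1)

theorem ιZ_pZ (n : ℤ) (u' : ↥(EM.cocyc mR q) ⊗[k] N) :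
    ιZ N EM mR q (TensorProduct.map (pZ EM mR q n) (proj ℬ 𝒩 n) u') =
      dproj 𝒜 ℬ (EM.X q).gr 𝒩 n (ιZ N EM mR q u') := by
  induction u' using TensorProduct.induction_on with
  | zero => simp only [map_zero]
  | tmul x y => rfl
  | add a b ha hb => simp only [map_add, ha, hb]

include hℋ in
theorem πZ_pZ_mem (n : ℤ) (u' : ↥(EM.cocyc mR q) ⊗[k] N) :
    πZ N EM mR q π (TensorProduct.map (pZ EM mR q n) (proj ℬ 𝒩 n) u') ∈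
      GrSeg.segrePiece k ℋ 𝒩 n := by
  induction u' using TensorProduct.induction_on with
  | zero => simp only [map_zero]; exact zero_mem _
  | tmul x y =>
    refine Submodule.subset_span ⟨π (pZ EM mR q n x), ?_, proj ℬ 𝒩 n y, proj_mem ℬ 𝒩 n y, rfl⟩
    exact (hℋ n _).2 ⟨pZ EM mR q n x, proj_mem 𝒜 (EM.X q).gr n x.1, rfl⟩
  | add a b ha hb => simp only [map_add]; exact add_mem ha hb

include hℋ in
/-- cocycles of degree `n` go to the piece of degree `n` -/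
theorem πZ_mem_segrePiece (n : ℤ) (z : sX hT 𝒩 EM q)
    (hz : valHom 𝒜 ℬ 𝒯 ψ hT (EM.X q).gr 𝒩 z ∈ GrSeg.segrePiece k (EM.X q).gr 𝒩 n)
    (u' : ↥(EM.cocyc mR q) ⊗[k] N)
    (hu' : ιZ N EM mR q u' = valHom 𝒜 ℬ 𝒯 ψ hT (EM.X q).gr 𝒩 z) :
    πZ N EM mR q π u' ∈ GrSeg.segrePiece k ℋ 𝒩 n := by
  have h1 : ιZ N EM mR q (TensorProduct.map (pZ EM mR q n) (proj ℬ 𝒩 n) u') =
      ιZ N EM mR q u' := by
    rw [ιZ_pZ, hu', dproj_same 𝒜 ℬ (EM.X q).gr 𝒩 hz]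
  rw [← ιZ_injective EM mR q h1]
  exact πZ_pZ_mem 𝒩 EM mR q π ℋ hℋ n u'

include hmR in
/-- the generators of the piece of degree `n` come from cocycles of degree `n` -/
theorem exists_cocycle_of_tmul (n : ℤ) (c : ↥(EM.cocyc mR q))
    (hc : (c : (EM.X q).carrier) ∈ (EM.X q).gr n) (y : N) (hy : y ∈ 𝒩 n) :
    ∃ z : ↥(sZ hT 𝒩 EM q), z.1 ∈ segGr 𝒜 ℬ 𝒯 ψ hT (EM.X q).gr 𝒩 n ∧
      ιZ N EM mR q (c ⊗ₜ[k] y) = valHom 𝒜 ℬ 𝒯 ψ hT (EM.X q).gr 𝒩 z.1 := by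
  have hp : (c : (EM.X q).carrier) ⊗ₜ[k] y ∈ GrSeg.segrePiece k (EM.X q).gr 𝒩 n :=
    tmul_mem_segrePiece (EM.X q).gr 𝒩 hc hy
  have hs : (c : (EM.X q).carrier) ⊗ₜ[k] y ∈ segK (EM.X q).gr 𝒩 :=
    Submodule.mem_iSup_of_mem n hp
  let z : sX hT 𝒩 EM q := mkSeg 𝒜 ℬ 𝒯 ψ hT (EM.X q).gr 𝒩 _ hs
  have hc1 : (c : (EM.X q).carrier) ∈ gamK 𝒜 (EM.X q) := by
    show (c : (EM.X q).carrier) ∈ LC.gam (irr 𝒜) (EM.X q).carrier
    rw [← hmR]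
    exact (Submodule.mem_inf.1 c.2).1
  have hz1 : z ∈ LC.gam (irr 𝒯) (sX hT 𝒩 EM q) :=
    mem_gam_of_val_mem_tl hT 𝒩 (EM.X q) z (tmul_mem_tl hc1 y)
  have hz2 : z ∈ LinearMap.ker (sD hT 𝒩 EM q) := by
    rw [LinearMap.mem_ker]
    apply valHom_injective 𝒜 ℬ 𝒯 ψ hT (EM.X (q + 1)).gr 𝒩
    rw [val_sD, map_zero]
    show tmap (k := k) (EM.d q) (LinearMap.id : N →ₗ[S] N) ((c : (EM.X q).carrier) ⊗ₜ[k] y) = 0
    rw [tmap_tmul, LinearMap.mem_ker.1 (Submodule.mem_inf.1 c.2).2, TensorProduct.zero_tmul]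
  exact ⟨⟨z, Submodule.mem_inf.2 ⟨hz1, hz2⟩⟩, hp, rfl⟩

end Coh7


section Coh8

variable {k : Type u} [Field k] {R S T : Type u} [CommRing R] [CommRing S] [CommRing T]
  [Algebra k R] [Algebra k S] [Algebra k T]
  {𝒜 : ℤ → Submodule k R} [GradedAlgebra 𝒜] {ℬ : ℤ → Submodule k S} [GradedAlgebra ℬ]
  {𝒯 : ℤ → Submodule k T} [GradedAlgebra 𝒯] {ψ : T →ₐ[k] R ⊗[k] S}
  (hT : GrSeg.IsSegreRing 𝒜 ℬ 𝒯 ψ)
  {M : Type u} [AddCommGroup M] [Module R M] [Module k M] [IsScalarTower k R M]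
  {ℳ : ℤ → AddSubgroup M} [DirectSum.Decomposition ℳ] [SetLike.GradedSMul 𝒜 ℳ]
  {N : Type u} [AddCommGroup N] [Module S N] [Module k N] [IsScalarTower k S N]
  (𝒩 : ℤ → AddSubgroup N) [DirectSum.Decomposition 𝒩] [SetLike.GradedSMul ℬ 𝒩]
  (EM : GrLC.StarInjRes 𝒜 ℳ) (mR : HomogeneousIdeal 𝒜) (hmR : mR.toIdeal = irr 𝒜) (q : ℕ)
  {Hq : Type u} [AddCommGroup Hq] [Module R Hq] [Module k Hq] [IsScalarTower k R Hq]
  (π : ↥(EM.cocyc mR q) →ₗ[R] Hq)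
  (hπk : LinearMap.ker π = (EM.cobdy mR q).comap (EM.cocyc mR q).subtype)
  (ℋ : ℤ → AddSubgroup Hq)
  (hℋ : ∀ (n : ℤ) (h : Hq), h ∈ ℋ n ↔
    ∃ z : ↥(EM.cocyc mR q), (z : (EM.X q).carrier) ∈ (EM.X q).gr n ∧ π z = h)

include hmR hπk hℋ in
/-- **the cohomology of `Γ_{T_+}(I^• # N)` is `H^q_m(M) # N`** -/
theorem exists_seg_cohomology_map [IsNoetherianRing R] {e : ℕ} (he : 0 < e) {g : S}
    (hg : g ∈ ℬ (e : ℤ)) (hgN : Function.Injective (fun y : N => g • y)) :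
    ∃ Φ : (↥(sZ hT 𝒩 EM q) ⧸ (sB hT 𝒩 EM q).comap (sZ hT 𝒩 EM q).subtype) →ₗ[T] Amb ψ Hq N,
      Function.Injective Φ ∧ ∀ n : ℤ,
        Φ '' {w | ∃ z : ↥(sZ hT 𝒩 EM q), z.1 ∈ segGr 𝒜 ℬ 𝒯 ψ hT (EM.X q).gr 𝒩 n ∧
          Submodule.Quotient.mk z = w} = (GrSeg.segrePiece k ℋ 𝒩 n : Set (Hq ⊗[k] N)) := by
  obtain ⟨Ψ, hΨ⟩ := exists_cocycle_map hT 𝒩 EM mR hmR q π he hg hgN
  have hex : ∀ z : ↥(sZ hT 𝒩 EM q),
      ∃ u' : ↥(EM.cocyc mR q) ⊗[k] N,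
        ιZ N EM mR q u' = valHom 𝒜 ℬ 𝒯 ψ hT (EM.X q).gr 𝒩 z.1 := fun z =>
    exists_ιZ_eq hT 𝒩 EM mR hmR q he hg hgN z.1 (Submodule.mem_inf.1 z.2).1
      (LinearMap.mem_ker.1 (Submodule.mem_inf.1 z.2).2)
  have hle : (sB hT 𝒩 EM q).comap (sZ hT 𝒩 EM q).subtype ≤ LinearMap.ker Ψ := by
    intro z hz
    obtain ⟨u', hu'⟩ := hex z
    rw [LinearMap.mem_ker, hΨ z u' hu']
    exact πZ_eq_zero_of_mem_sB hT 𝒩 EM mR hmR q π hπk he hg hgN z.1 hz u' hu'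
  have hge : LinearMap.ker Ψ ≤ (sB hT 𝒩 EM q).comap (sZ hT 𝒩 EM q).subtype := by
    intro z hz
    obtain ⟨u', hu'⟩ := hex z
    rw [LinearMap.mem_ker, hΨ z u' hu'] at hz
    exact mem_sB_of_πZ_eq_zero hT 𝒩 EM mR hmR q π hπk z.1 u' hu' hz
  refine ⟨Submodule.liftQ _ Ψ hle, ?_, ?_⟩
  · rw [← LinearMap.ker_eq_bot]
    exact Submodule.ker_liftQ_eq_bot _ _ _ hge
  · intro n
    apply Set.Subset.antisymm
    · rintro _ ⟨_, ⟨z, hz, rfl⟩, rfl⟩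
      obtain ⟨u', hu'⟩ := hex z
      show Submodule.liftQ _ Ψ hle (Submodule.Quotient.mk z) ∈ _
      rw [Submodule.liftQ_apply, hΨ z u' hu']
      exact πZ_mem_segrePiece hT 𝒩 EM mR q π ℋ hℋ n z.1 hz u' hu'
    · intro x hx
      have hx' : x ∈ GrSeg.segrePiece k ℋ 𝒩 n := hx
      clear hx
      induction hx' using Submodule.span_induction with
      | mem x hx =>
        obtain ⟨h, hh, y, hy, rfl⟩ := hx
        obtain ⟨c, hc, rfl⟩ := (hℋ n h).1 hh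
        obtain ⟨z, hz, hzu⟩ := exists_cocycle_of_tmul hT 𝒩 EM mR hmR q n c hc y hy
        refine ⟨Submodule.Quotient.mk z, ⟨z, hz, rfl⟩, ?_⟩
        rw [Submodule.liftQ_apply, hΨ z _ hzu]
        rfl
      | zero => exact ⟨0, ⟨0, zero_mem _, rfl⟩, map_zero _⟩
      | add a b ha' hb' ha hb =>
        obtain ⟨_, ⟨z, hz, rfl⟩, hza⟩ := ha
        obtain ⟨_, ⟨w, hw, rfl⟩, hwb⟩ := hb
        refine ⟨Submodule.Quotient.mk (z + w), ⟨z + w, add_mem hz hw, rfl⟩, ?_⟩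
        rw [← hza, ← hwb, ← map_add]
        rfl
      | smul c a ha' ha =>
        obtain ⟨_, ⟨z, hz, rfl⟩, hza⟩ := ha
        refine ⟨Submodule.Quotient.mk (algebraMap k T c • z),
          ⟨algebraMap k T c • z, ?_, rfl⟩, ?_⟩
        · show valHom 𝒜 ℬ 𝒯 ψ hT (EM.X q).gr 𝒩 (algebraMap k T c • z.1) ∈
            GrSeg.segrePiece k (EM.X q).gr 𝒩 n
          rw [val_smul, AlgHom.commutes, Algebra.algebraMap_eq_smul_one, map_smul,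
            LinearMap.smul_apply, act_one]
          exact Submodule.smul_mem _ c hz
        · rw [← hza]
          show Submodule.liftQ _ Ψ hle (algebraMap k T c • Submodule.Quotient.mk z) = _
          rw [map_smul]
          exact algebraMap_smul T c _

end Coh8

end Groth.Agent.Helper20.KS
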