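import Mathlib
import Groth.Prelude
import Groth.Agent.Lib.Helper20.GrKS8

/-!
# `H^q_{T_+}(M # N) ≅ H^q_m(M) # N` when a homogeneous element of positive degree acts bijectively
on `N` (helper20)
-/

set_option autoImplicit false

open DirectSum TensorProduct

namespace Groth.Agent.Helper20.KS

open Groth.Agent.Helper20.GrInj Groth.Agent.Helper8 Groth.Agent.Helper20.Seg
  Groth.Agent.Helper20.SegFin

universe u

attribute [local instance] gK gK_tower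

section Fin

variable {k : Type u} [Field k] {R S T : Type u} [CommRing R] [CommRing S] [CommRing T]
  [Algebra k R] [Algebra k S] [Algebra k T]
  {𝒜 : ℤ → Submodule k R} [GradedAlgebra 𝒜] {ℬ : ℤ → Submodule k S} [GradedAlgebra ℬ]
  {𝒯 : ℤ → Submodule k T} [GradedAlgebra 𝒯] {ψ : T →ₐ[k] R ⊗[k] S}
  (hT : GrSeg.IsSegreRing 𝒜 ℬ 𝒯 ψ)
  {M : Type u} [AddCommGroup M] [Module R M] [Module k M] [IsScalarTower k R M]
  {ℳ : ℤ → AddSubgroup M} [DirectSum.Decomposition ℳ] [SetLike.GradedSMul 𝒜 ℳ]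
  {N : Type u} [AddCommGroup N] [Module S N] [Module k N] [IsScalarTower k S N]
  {𝒩 : ℤ → AddSubgroup N} [DirectSum.Decomposition 𝒩] [SetLike.GradedSMul ℬ 𝒩]
  {P : Type u} [AddCommGroup P] [Module T P] [Module k P] [IsScalarTower k T P]
  {𝒬 : ℤ → AddSubgroup P} [DirectSum.Decomposition 𝒬] [SetLike.GradedSMul 𝒯 𝒬]
  {φ : P →ₗ[k] M ⊗[k] N} (hP : GrSeg.IsSegreMod ψ ℳ 𝒩 𝒬 φ)
  (EM : GrLC.StarInjRes 𝒜 ℳ) (mR : HomogeneousIdeal 𝒜) (hmR : mR.toIdeal = irr 𝒜)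
  (EP : GrLC.StarInjRes 𝒯 𝒬) (mT : HomogeneousIdeal 𝒯) (hmT : mT.toIdeal = irr 𝒯) (q : ℕ)
  {Hq : Type u} [AddCommGroup Hq] [Module R Hq] [Module k Hq] [IsScalarTower k R Hq]
  (π : ↥(EM.cocyc mR q) →ₗ[R] Hq)
  (hπk : LinearMap.ker π = (EM.cobdy mR q).comap (EM.cocyc mR q).subtype)
  (ℋ : ℤ → AddSubgroup Hq)
  (hℋ : ∀ (n : ℤ) (h : Hq), h ∈ ℋ n ↔
    ∃ z : ↥(EM.cocyc mR q), (z : (EM.X q).carrier) ∈ (EM.X q).gr n ∧ π z = h)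

include hmR hπk hℋ in
theorem exists_seg_cohomology_map' [IsNoetherianRing R] {e : ℕ} (he : 0 < e) {g : S}
    (hg : g ∈ ℬ (e : ℤ)) (hgN : Function.Injective (fun y : N => g • y))
    (B : Submodule T (sX hT 𝒩 EM q)) (hB : B = sB hT 𝒩 EM q) :
    ∃ Φ : (↥(sZ hT 𝒩 EM q) ⧸ B.comap (sZ hT 𝒩 EM q).subtype) →ₗ[T] Amb ψ Hq N,
      Function.Injective Φ ∧ ∀ n : ℤ,
        Φ '' {w | ∃ z : ↥(sZ hT 𝒩 EM q), z.1 ∈ segGr 𝒜 ℬ 𝒯 ψ hT (EM.X q).gr 𝒩 n ∧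
          Submodule.Quotient.mk z = w} = (GrSeg.segrePiece k ℋ 𝒩 n : Set (Hq ⊗[k] N)) := by
  subst hB
  exact exists_seg_cohomology_map hT 𝒩 EM mR hmR q π hπk ℋ hℋ he hg hgN

include hT hmR hπk hℋ hmT hP in
/-- **`H^q_{T_+}(M # N) ≅ H^q_m(M) # N`** -/
theorem exists_H_seg_map [IsNoetherianRing R] [IsNoetherianRing T] {e : ℕ} (he : 0 < e) {g : S}
    (hg : g ∈ ℬ (e : ℤ)) (hgN : Function.Bijective (fun y : N => g • y)) :
    ∃ Φ : EP.H mT q →ₗ[T] Amb ψ Hq N, Function.Injective Φ ∧ ∀ n : ℤ,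
      Φ '' (EP.Hgr mT q n : Set (EP.H mT q)) =
        (GrSeg.segrePiece k ℋ 𝒩 n : Set (Hq ⊗[k] N)) := by
  obtain rfl : mT = irrH 𝒯 := HomogeneousIdeal.toIdeal_injective hmT
  let G := segRes hT hP EM
  let E' := StarInjRes.toAddR 𝒯 EP 𝒬 (fun _ _ h => h)
  let m' := HomogeneousIdeal.toAddH 𝒯 (irrH 𝒯)
  have hG : ∀ n j : ℕ, Subsingleton (LC.H m'.toIdeal (j + 1) (G.X n).carrier) := fun n j =>
    seg_nice_bij_acyclic hT 𝒩 (isNice_of_isStarInj 𝒜 (EM.X n) (EM.starInj n)) he hg hgN j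
  obtain ⟨ψG, hψG⟩ := G.exists_equiv_of_acyclic E' m' hG q
  obtain ⟨Φ, hΦinj, hΦim⟩ := exists_seg_cohomology_map' hT EM mR hmR q π hπk ℋ hℋ he hg
    hgN.injective (G.toARes.cobdy (irr 𝒯) q) (by cases q <;> rfl)
  let Φ' : G.toARes.H m'.toIdeal q →ₗ[T] Amb ψ Hq N := Φ
  refine ⟨Φ' ∘ₗ ψG.symm.toLinearMap, hΦinj.comp ψG.symm.injective, fun n => ?_⟩
  rw [← hΦim n]
  ext x
  constructor
  · rintro ⟨y, hy, rfl⟩
    have hw : ψG.symm y ∈ G.Hgr m' q n := by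
      rw [hψG n, LinearEquiv.apply_symm_apply]
      exact hy
    exact ⟨ψG.symm y, hw, rfl⟩
  · rintro ⟨w, hw, rfl⟩
    have hw' : w ∈ G.Hgr m' q n := hw
    refine ⟨ψG w, (hψG n w).1 hw', ?_⟩
    show Φ' (ψG.symm (ψG w)) = Φ w
    rw [LinearEquiv.symm_apply_apply]
    rfl

end Fin

end Groth.Agent.Helper20.KS
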