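import Mathlib
import Groth.Agent.Lib.Helper20.GrSeg23

/-!
# Coarse pieces of a tensor product of bigraded differential spaces (helper20)

The pieces `Ec q` of total degree `q` and arbitrary internal degrees of `V ⊗ W`, and the behaviour of
the total differential, the total homotopy and the total projector on them; the kernel of the
tensor product of two linear maps over a field.
-/

set_option autoImplicit false

open DirectSum TensorProduct

namespace Groth.Agent.Helper20.Kun

universe u v

section KerMap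

variable {k : Type u} [Field k] {V : Type v} [AddCommGroup V] [Module k V]
  {W : Type v} [AddCommGroup W] [Module k W]
  {V' : Type v} [AddCommGroup V'] [Module k V'] {W' : Type v} [AddCommGroup W'] [Module k W']

/-- the kernel of the tensor product of two linear maps over a field -/
theorem ker_map_eq (f : V →ₗ[k] V') (g : W →ₗ[k] W') :
    LinearMap.ker (TensorProduct.map f g) =
      tsp (LinearMap.ker f) ⊤ ⊔ tsp ⊤ (LinearMap.ker g) := by
  have h1 : TensorProduct.map f g =
      (TensorProduct.map (LinearMap.range f).subtype (LinearMap.range g).subtype) ∘ₗ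
        (TensorProduct.map f.rangeRestrict g.rangeRestrict) := by
    rw [← TensorProduct.map_comp]
    rfl
  have hinj : Function.Injective
      (TensorProduct.map (LinearMap.range f).subtype (LinearMap.range g).subtype) :=
    TensorProduct.map_injective_of_flat_flat _ _ (Submodule.subtype_injective _)
      (Submodule.subtype_injective _)
  have h2 : LinearMap.ker (TensorProduct.map f g) =
      LinearMap.ker (TensorProduct.map f.rangeRestrict g.rangeRestrict) := by
    rw [h1, LinearMap.ker_comp, LinearMap.ker_eq_bot.2 hinj, Submodule.comap_bot]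
  rw [h2]
  have e1 : Function.Exact (LinearMap.ker f).subtype f.rangeRestrict := by
    rw [LinearMap.exact_iff, LinearMap.ker_rangeRestrict, Submodule.range_subtype]
  have e2 : Function.Exact (LinearMap.ker g).subtype g.rangeRestrict := by
    rw [LinearMap.exact_iff, LinearMap.ker_rangeRestrict, Submodule.range_subtype]
  rw [TensorProduct.map_ker e1 f.surjective_rangeRestrict e2 g.surjective_rangeRestrict,
    range_lTensor_subtype, range_rTensor_subtype, sup_comm]

end KerMap

section Coarse

variable {k : Type u} [Field k] {V : Type v} [AddCommGroup V] [Module k V]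
  {W : Type v} [AddCommGroup W] [Module k W]
variable {ι : Type} [DecidableEq ι]
variable {pc : ℕ × ι → Submodule k V} [DirectSum.Decomposition pc]
variable {pc' : ℕ × ι → Submodule k W} [DirectSum.Decomposition pc']
variable {d : V →ₗ[k] V} (hd : ∀ a x, x ∈ pc a → d x ∈ pc (sh a))
variable {d' : W →ₗ[k] W} (hd' : ∀ a x, x ∈ pc' a → d' x ∈ pc' (sh a))
variable (sp : Splitting pc sh d) (sp' : Splitting pc' sh d')

variable (pc pc') in
/-- the piece of total degree `q` and arbitrary internal degrees -/
def Ec (q : ℕ) : Submodule k (V ⊗[k] W) :=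
  ⨆ (i : ℕ) (j : ℕ) (_ : i + j = q) (n : ι) (n' : ι), tsp (pc (i, n)) (pc' (j, n'))

omit [DirectSum.Decomposition pc] [DirectSum.Decomposition pc'] in
theorem tsp_le_Ec {i j q : ℕ} (h : i + j = q) (n n' : ι) :
    tsp (pc (i, n)) (pc' (j, n')) ≤ Ec pc pc' q :=
  le_iSup_of_le i (le_iSup_of_le j (le_iSup_of_le h (le_iSup_of_le n (le_iSup_of_le n' le_rfl))))

omit [DirectSum.Decomposition pc] [DirectSum.Decomposition pc'] in
theorem Ec_le {q : ℕ} {C : Submodule k (V ⊗[k] W)}
    (h : ∀ i j, i + j = q → ∀ n n', tsp (pc (i, n)) (pc' (j, n')) ≤ C) : Ec pc pc' q ≤ C :=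
  iSup_le fun i => iSup_le fun j => iSup_le fun hij => iSup_le fun n => iSup_le fun n' =>
    h i j hij n n'

theorem E_le_Ec (q : ℕ) (n : ι) : E pc pc' q n ≤ Ec pc pc' q :=
  E_le fun _ _ hij => tsp_le_Ec hij n n

include hd hd' in
theorem δ_Ec (q : ℕ) : (Ec pc pc' q).map (δ' pc d d') ≤ Ec pc pc' (q + 1) := by
  rw [Submodule.map_le_iff_le_comap]
  apply Ec_le
  intro i j hij n n'
  rw [← Submodule.map_le_iff_le_comap]
  apply map_tsp_le
  intro x hx y hy
  rw [tδ_tmul]
  apply add_mem
  · exact tsp_le_Ec (by omega : (i + 1) + j = q + 1) n n' (tmul_mem_tsp (hd (i, n) x hx) hy)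
  · exact tsp_le_Ec (by omega : i + (j + 1) = q + 1) n n'
      (tmul_mem_tsp (scal_mem pc _ hx) (hd' (j, n') y hy))

theorem S_Ec (q : ℕ) : (Ec pc pc' (q + 1)).map (tS (sgn k) sp sp') ≤ Ec pc pc' q := by
  rw [Submodule.map_le_iff_le_comap]
  apply Ec_le
  intro i j hij n n'
  rw [← Submodule.map_le_iff_le_comap]
  apply map_tsp_le
  intro x hx y hy
  rw [tS_tmul]
  apply add_mem
  · cases i with
    | zero =>
      rw [sp.s_zero (0, n) (sh_ne_zero n) x hx, TensorProduct.zero_tmul]
      exact zero_mem _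
    | succ i =>
      exact tsp_le_Ec (by omega : i + j = q) n n' (tmul_mem_tsp (sp.s_mem (i, n) x hx) hy)
  · cases j with
    | zero =>
      rw [sp'.s_zero (0, n') (sh_ne_zero n') y hy, TensorProduct.tmul_zero]
      exact zero_mem _
    | succ j =>
      exact tsp_le_Ec (by omega : i + j = q) n n'
        (tmul_mem_tsp (scal_mem pc _ (sp.p_mem (i, n) x hx)) (sp'.s_mem (j, n') y hy))

/-- the image of the projector on `Ec q` -/
def PEc (q : ℕ) : Submodule k (V ⊗[k] W) :=
  ⨆ (i : ℕ) (j : ℕ) (_ : i + j = q) (n : ι) (n' : ι), tsp (HV sp (i, n)) (HV sp' (j, n'))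

theorem P_Ec (q : ℕ) : (Ec pc pc' q).map (tP sp sp') ≤ PEc sp sp' q := by
  rw [Submodule.map_le_iff_le_comap]
  apply Ec_le
  intro i j hij n n'
  rw [← Submodule.map_le_iff_le_comap]
  apply map_tsp_le
  intro x hx y hy
  rw [tP_tmul]
  have hle : tsp (HV sp (i, n)) (HV sp' (j, n')) ≤ PEc sp sp' q :=
    le_iSup_of_le i (le_iSup_of_le j (le_iSup_of_le hij (le_iSup_of_le n
      (le_iSup_of_le n' le_rfl))))
  exact hle (tmul_mem_tsp ⟨x, hx, rfl⟩ ⟨y, hy, rfl⟩)

/-- if the positive pieces have no cohomology, the projector kills the pieces of positive total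
degree -/
theorem P_Ec_succ (hv : ∀ i n, HV sp (i + 1, n) = ⊥) (hv' : ∀ j n, HV sp' (j + 1, n) = ⊥) (q : ℕ)
    {z : V ⊗[k] W} (hz : z ∈ Ec pc pc' (q + 1)) : tP sp sp' z = 0 := by
  have h := P_Ec sp sp' (q + 1) ⟨z, hz, rfl⟩
  have hbot : PEc sp sp' (q + 1) = ⊥ := by
    rw [eq_bot_iff]
    refine iSup_le fun i => iSup_le fun j => iSup_le fun hij => iSup_le fun n => iSup_le fun n' => ?_
    cases i with
    | zero =>
      cases j with
      | zero => omega
      | succ j => rw [hv', tsp_bot_right]
    | succ i => rw [hv, tsp_bot_left]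
  rw [hbot] at h
  exact (Submodule.mem_bot k).1 h

include hd in
/-- exactness of the tensor product of two exact complexes, on the coarse pieces -/
theorem exact_Ec (hv : ∀ i n, HV sp (i + 1, n) = ⊥) (hv' : ∀ j n, HV sp' (j + 1, n) = ⊥) (q : ℕ)
    {z : V ⊗[k] W} (hz : z ∈ Ec pc pc' (q + 1)) (hz0 : δ' pc d d' z = 0) :
    ∃ w ∈ Ec pc pc' q, δ' pc d d' w = z := by
  have h := cocycle_eq hd sp sp' z hz0
  rw [P_Ec_succ sp sp' hv hv' q hz, add_zero] at h
  exact ⟨_, S_Ec sp sp' q ⟨z, hz, rfl⟩, h.symm⟩

omit [DirectSum.Decomposition pc] [DirectSum.Decomposition pc'] in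
theorem map_Ec {V' : Type v} [AddCommGroup V'] [Module k V'] {W' : Type v} [AddCommGroup W']
    [Module k W'] (f : V →ₗ[k] V') (g : W →ₗ[k] W') (q : ℕ) :
    (Ec pc pc' q).map (TensorProduct.map f g) =
      Ec (fun a => (pc a).map f) (fun a => (pc' a).map g) q := by
  unfold Ec
  simp only [Submodule.map_iSup, map_tsp]

end Coarse

end Groth.Agent.Helper20.Kun
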