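import Mathlib
import Groth.Prelude
import Groth.Agent.Lib.Helper20.GrTK1
import Groth.Agent.Lib.Helper20.GrKS9

/-!
# The coarse pieces of the total complex of two nice resolutions (helper20)

The pieces of total degree `q` and arbitrary internal degrees of the ambient tensor product of the
total modules of two nice resolutions; the total differential, the action of `R ⊗ S`, the torsion
and the diagonal projection on them.
-/

set_option autoImplicit false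

open DirectSum TensorProduct

namespace Groth.Agent.Helper20.Seg

open Groth.Agent.Helper20.GrInj Groth.Agent.Helper8 Groth.Agent.Helper20.Kun
  Groth.Agent.Helper20.SegFin Groth.Agent.Helper20.KS

universe u

attribute [local instance] gK gK_tower

section Coarse

variable {k : Type u} [Field k] {R S : Type u} [CommRing R] [CommRing S]
  [Algebra k R] [Algebra k S]
  {𝒜 : ℤ → Submodule k R} [GradedAlgebra 𝒜] {ℬ : ℤ → Submodule k S} [GradedAlgebra ℬ]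
  {M : Type u} [AddCommGroup M] [Module R M] [Module k M] [IsScalarTower k R M]
  {ℳ : ℤ → AddSubgroup M} [DirectSum.Decomposition ℳ] [SetLike.GradedSMul 𝒜 ℳ]
  {N : Type u} [AddCommGroup N] [Module S N] [Module k N] [IsScalarTower k S N]
  {𝒩 : ℤ → AddSubgroup N} [DirectSum.Decomposition 𝒩] [SetLike.GradedSMul ℬ 𝒩]
  (GX : NRes 𝒜 ℳ) (GY : NRes ℬ 𝒩)

/-- the coarse pieces of the ambient tensor product -/
noncomputable abbrev EcB (q : ℕ) : Submodule k (BT 𝒜 ℬ GX.X GY.X) := Ec GX.pc GY.pc q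

/-- the coarse pieces of the tensor product of the quotients -/
noncomputable abbrev EcQ (q : ℕ) : Submodule k (GX.Q ⊗[k] GY.Q) := Ec GX.qp GY.qp q

theorem DD_EcB (q : ℕ) {z : BT 𝒜 ℬ GX.X GY.X} (hz : z ∈ EcB GX GY q) :
    DD GX GY z ∈ EcB GX GY (q + 1) :=
  δ_Ec GX.D_mem GY.D_mem q ⟨z, hz, rfl⟩

theorem δQ_EcQ (q : ℕ) {z : GX.Q ⊗[k] GY.Q} (hz : z ∈ EcQ GX GY q) :
    δQ GX GY z ∈ EcQ GX GY (q + 1) :=
  δ_Ec GX.qD_mem GY.qD_mem q ⟨z, hz, rfl⟩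

theorem map_πT_EcB (q : ℕ) : (EcB GX GY q).map (πT GX GY) = EcQ GX GY q :=
  map_Ec GX.π GY.π q

theorem πT_mem_EcQ (q : ℕ) {z : BT 𝒜 ℬ GX.X GY.X} (hz : z ∈ EcB GX GY q) :
    πT GX GY z ∈ EcQ GX GY q := by
  rw [← map_πT_EcB]
  exact ⟨z, hz, rfl⟩

theorem exists_πT_eq (q : ℕ) {x : GX.Q ⊗[k] GY.Q} (hx : x ∈ EcQ GX GY q) :
    ∃ z ∈ EcB GX GY q, πT GX GY z = x := by
  rw [← map_πT_EcB] at hx
  exact hx

/-- exactness of the total complex on the coarse pieces -/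
theorem DD_exact_c (q : ℕ) {z : BT 𝒜 ℬ GX.X GY.X} (hz : z ∈ EcB GX GY (q + 1))
    (hz0 : DD GX GY z = 0) : ∃ w ∈ EcB GX GY q, DD GX GY w = z :=
  exact_Ec GX.D_mem GX.sp GY.sp GX.HV_succ GY.HV_succ q hz hz0

theorem totK_le_EcB (q : ℕ) : totK 𝒜 ℬ GX.X GY.X q ≤ EcB GX GY q :=
  iSup_le fun n => E_le_Ec q n

theorem tmul_mem_EcB {i j q : ℕ} (hij : i + j = q) {n n' : ℤ} {x : GX.B.carrier}
    (hx : x ∈ GX.pc (i, n)) {y : GY.B.carrier} (hy : y ∈ GY.pc (j, n')) :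
    x ⊗ₜ[k] y ∈ EcB GX GY q :=
  tsp_le_Ec hij n n' (tmul_mem_tsp hx hy)

end Coarse

section Act

variable {k : Type u} [Field k] {R S : Type u} [CommRing R] [CommRing S]
  [Algebra k R] [Algebra k S]
  {𝒜 : ℤ → Submodule k R} [GradedAlgebra 𝒜] {ℬ : ℤ → Submodule k S} [GradedAlgebra ℬ]
  {M : Type u} [AddCommGroup M] [Module R M] [Module k M] [IsScalarTower k R M]
  {ℳ : ℤ → AddSubgroup M} [DirectSum.Decomposition ℳ] [SetLike.GradedSMul 𝒜 ℳ]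
  {N : Type u} [AddCommGroup N] [Module S N] [Module k N] [IsScalarTower k S N]
  {𝒩 : ℤ → AddSubgroup N} [DirectSum.Decomposition 𝒩] [SetLike.GradedSMul ℬ 𝒩]
  (GX : NRes 𝒜 ℳ) (GY : NRes ℬ 𝒩)

/-- the action of `R ⊗ S` preserves the coarse pieces -/
theorem act_mem_EcB (x : R ⊗[k] S) (q : ℕ) {z : BT 𝒜 ℬ GX.X GY.X} (hz : z ∈ EcB GX GY q) :
    GrSeg.act k R S GX.B.carrier GY.B.carrier x z ∈ EcB GX GY q := by
  induction x using Groth.Agent.Helper27.Segre.tensor_hom_induction 𝒜 ℬ with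
  | zero => rw [map_zero, LinearMap.zero_apply]; exact zero_mem _
  | add x y hx hy => rw [map_add, LinearMap.add_apply]; exact add_mem hx hy
  | hom p p' a b ha hb =>
    have : EcB GX GY q ≤ (EcB GX GY q).comap
        (GrSeg.act k R S GX.B.carrier GY.B.carrier (a ⊗ₜ[k] b)) := by
      apply Ec_le
      intro i j hij n n'
      apply Submodule.span_le.2
      rintro _ ⟨u, hu, v, hv, rfl⟩
      rw [SetLike.mem_coe, Submodule.mem_comap, GrSeg.act_tmul]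
      exact tmul_mem_EcB GX GY hij (smul_mem_bpc 𝒜 GX.X ha hu) (smul_mem_bpc ℬ GY.X hb hv)
    exact this hz

/-- the action of `R ⊗ S` preserves the torsion -/
theorem act_mem_GamT (x : R ⊗[k] S) {z : BT 𝒜 ℬ GX.X GY.X} (hz : z ∈ GamT 𝒜 ℬ GX.X GY.X) :
    GrSeg.act k R S GX.B.carrier GY.B.carrier x z ∈ GamT 𝒜 ℬ GX.X GY.X := by
  induction x using TensorProduct.induction_on with
  | zero => rw [map_zero, LinearMap.zero_apply]; exact zero_mem _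
  | add x y hx hy => rw [map_add, LinearMap.add_apply]; exact add_mem hx hy
  | tmul a b =>
    have : GamT 𝒜 ℬ GX.X GY.X ≤ (GamT 𝒜 ℬ GX.X GY.X).comap
        (GrSeg.act k R S GX.B.carrier GY.B.carrier (a ⊗ₜ[k] b)) := by
      apply sup_le
      · apply Submodule.span_le.2
        rintro _ ⟨u, hu, v, -, rfl⟩
        rw [SetLike.mem_coe, Submodule.mem_comap, GrSeg.act_tmul]
        exact Submodule.mem_sup_left (tmul_mem_tsp
          ((LC.gam (irr 𝒜) GX.B.carrier).smul_mem a hu) trivial)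
      · apply Submodule.span_le.2
        rintro _ ⟨u, -, v, hv, rfl⟩
        rw [SetLike.mem_coe, Submodule.mem_comap, GrSeg.act_tmul]
        exact Submodule.mem_sup_right (tmul_mem_tsp trivial
          ((LC.gam (irr ℬ) GY.B.carrier).smul_mem b hv))
    exact this hz

/-- the total differential commutes with the action of `R ⊗ S` -/
theorem act_DD (x : R ⊗[k] S) (z : BT 𝒜 ℬ GX.X GY.X) :
    GrSeg.act k R S GX.B.carrier GY.B.carrier x (DD GX GY z) =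
      DD GX GY (GrSeg.act k R S GX.B.carrier GY.B.carrier x z) := by
  show GrSeg.act k R S GX.B.carrier GY.B.carrier x (Δ 𝒜 ℬ GX.X GY.X GX.d GY.d z) =
    Δ 𝒜 ℬ GX.X GY.X GX.d GY.d (GrSeg.act k R S GX.B.carrier GY.B.carrier x z)
  rw [Δ_eq]
  simp only [LinearMap.add_apply, map_add, act_tmap]

/-- the diagonal projection of the ambient tensor product -/
noncomputable abbrev rhoB : BT 𝒜 ℬ GX.X GY.X →ₗ[k] BT 𝒜 ℬ GX.X GY.X :=
  rhoX 𝒜 ℬ GX.B.gr GY.B.gr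

theorem rhoB_DD (z : BT 𝒜 ℬ GX.X GY.X) : rhoB GX GY (DD GX GY z) = DD GX GY (rhoB GX GY z) := by
  show rhoB GX GY (Δ 𝒜 ℬ GX.X GY.X GX.d GY.d z) = Δ 𝒜 ℬ GX.X GY.X GX.d GY.d (rhoB GX GY z)
  rw [Δ_eq]
  simp only [LinearMap.add_apply, map_add]
  rw [rhoX_tmap 𝒜 ℬ GX.B.gr GX.B.gr GY.B.gr GY.B.gr (bigD_isGrHom 𝒜 GX.X GX.d GX.d_grHom)
      (fun _ _ h => h),
    rhoX_tmap 𝒜 ℬ GX.B.gr GX.B.gr GY.B.gr GY.B.gr (bigSg_isGrHom 𝒜 GX.X)
      (bigD_isGrHom ℬ GY.X GY.d GY.d_grHom)]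

theorem rhoB_mem_totK (q : ℕ) {z : BT 𝒜 ℬ GX.X GY.X} (hz : z ∈ EcB GX GY q) :
    rhoB GX GY z ∈ totK 𝒜 ℬ GX.X GY.X q := by
  have : EcB GX GY q ≤ (totK 𝒜 ℬ GX.X GY.X q).comap (rhoB GX GY) := by
    apply Ec_le
    intro i j hij n n'
    apply Submodule.span_le.2
    rintro _ ⟨x, hx, y, hy, rfl⟩
    rw [SetLike.mem_coe, Submodule.mem_comap,
      rhoX_tmul_of_mem_mem 𝒜 ℬ _ _ (bpc_le_gr 𝒜 GX.X hx) (bpc_le_gr ℬ GY.X hy)]
    split_ifs with h
    · subst h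
      exact le_iSup (fun n => Eq 𝒜 ℬ GX.X GY.X q n) n (tsp_le_E hij n (tmul_mem_tsp hx hy))
    · exact zero_mem _
  exact this hz

theorem rhoB_of_mem_totK (q : ℕ) {z : BT 𝒜 ℬ GX.X GY.X} (hz : z ∈ totK 𝒜 ℬ GX.X GY.X q) :
    rhoB GX GY z = z :=
  rhoX_of_mem_segK 𝒜 ℬ _ _ (totK_le_segK 𝒜 ℬ GX.X GY.X q hz)

theorem proj_mem_gamB (n : ℤ) {x : GX.B.carrier} (hx : x ∈ gamK 𝒜 GX.B) :
    proj 𝒜 GX.B.gr n x ∈ gamK 𝒜 GX.B :=
  gam_isHomogeneous 𝒜 GX.B.gr (irrH 𝒜) n hx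

theorem dproj_mem_GamT (n : ℤ) {z : BT 𝒜 ℬ GX.X GY.X} (hz : z ∈ GamT 𝒜 ℬ GX.X GY.X) :
    dproj 𝒜 ℬ GX.B.gr GY.B.gr n z ∈ GamT 𝒜 ℬ GX.X GY.X := by
  have : GamT 𝒜 ℬ GX.X GY.X ≤ (GamT 𝒜 ℬ GX.X GY.X).comap (dproj 𝒜 ℬ GX.B.gr GY.B.gr n) := by
    apply sup_le
    · apply Submodule.span_le.2
      rintro _ ⟨u, hu, v, -, rfl⟩
      rw [SetLike.mem_coe, Submodule.mem_comap]
      exact Submodule.mem_sup_left (tmul_mem_tsp (proj_mem_gamB GX n hu) trivial)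
    · apply Submodule.span_le.2
      rintro _ ⟨u, -, v, hv, rfl⟩
      rw [SetLike.mem_coe, Submodule.mem_comap]
      exact Submodule.mem_sup_right (tmul_mem_tsp trivial (proj_mem_gamB GY n hv))
  exact this hz

/-- the diagonal projection preserves the torsion -/
theorem rhoB_mem_GamT {z : BT 𝒜 ℬ GX.X GY.X} (hz : z ∈ GamT 𝒜 ℬ GX.X GY.X) :
    rhoB GX GY z ∈ GamT 𝒜 ℬ GX.X GY.X := by
  show rhoX 𝒜 ℬ GX.B.gr GY.B.gr z ∈ _
  rw [rhoX_apply]
  apply finsum_induction (p := fun x => x ∈ GamT 𝒜 ℬ GX.X GY.X)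
  · exact zero_mem _
  · intro x y hx hy; exact add_mem hx hy
  · intro i
    exact dproj_mem_GamT GX GY i hz

end Act

end Groth.Agent.Helper20.Seg
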