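import Mathlib
import Groth.Prelude
import Groth.Agent.Lib.Helper20.GrTK2

/-!
# Elements with torsion differential in a nice resolution, and their tensor products (helper20)

For a nice resolution `X^•` the submodule `U^ρ = {a ∈ X^ρ | d a ∈ Γ(X^{ρ+1})}`, the cocycles `Z^q`
of `Γ(X^•)`, the map `d : U^ρ → Z^{ρ+1}`, and the map `U^ρ ⊗ U'^σ → B ⊗ B'` into the ambient tensor
product of the total modules.
-/

set_option autoImplicit false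

open DirectSum TensorProduct

namespace Groth.Agent.Helper20.Seg

open Groth.Agent.Helper20.GrInj Groth.Agent.Helper8 Groth.Agent.Helper20.Kun
  Groth.Agent.Helper20.SegFin Groth.Agent.Helper20.KS

universe u

attribute [local instance] gK gK_tower

section One

variable {k : Type u} [Field k] {R : Type u} [CommRing R] [Algebra k R]
  {𝒜 : ℤ → Submodule k R} [GradedAlgebra 𝒜]
  {M : Type u} [AddCommGroup M] [Module R M] [Module k M] [IsScalarTower k R M]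
  {ℳ : ℤ → AddSubgroup M} [DirectSum.Decomposition ℳ] [SetLike.GradedSMul 𝒜 ℳ]
  (G : NRes 𝒜 ℳ)

theorem NRes.dinc_mem_Γ_iff (i : ℕ) (x : (G.X i).carrier) :
    dinc 𝒜 G.X i x ∈ G.Γ ↔ x ∈ LC.gam (irr 𝒜) (G.X i).carrier := by
  constructor
  · rintro ⟨N, hN⟩
    refine ⟨N, fun a ha => ?_⟩
    apply dinc_injective 𝒜 G.X i
    rw [map_smul, hN a ha, map_zero]
  · intro hx
    exact map_mem_gam (irr 𝒜) _ hx

theorem NRes.D_dinc (i : ℕ) (x : (G.X i).carrier) :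
    G.D (dinc 𝒜 G.X i x) = dinc 𝒜 G.X (i + 1) (G.d i x) :=
  bigD_dinc 𝒜 G.X G.d i x

theorem NRes.π_eq_zero_iff (x : G.B.carrier) : G.π x = 0 ↔ x ∈ G.Γ := by
  rw [← LinearMap.mem_ker, G.ker_π]

/-- the component of the differential -/
theorem NRes.dprj_bigD (i : ℕ) (z : G.B.carrier) :
    dprj 𝒜 G.X (i + 1) (bigD 𝒜 G.X G.d z) = G.d i (dprj 𝒜 G.X i z) := by
  have : (dprj 𝒜 G.X (i + 1)) ∘ₗ (bigD 𝒜 G.X G.d) = (G.d i) ∘ₗ (dprj 𝒜 G.X i) := by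
    apply big_ext
    intro j x
    rw [LinearMap.comp_apply, LinearMap.comp_apply, bigD_dinc]
    by_cases hj : j = i
    · subst hj
      rw [dprj_dinc_same, dprj_dinc_same]
    · rw [dprj_dinc_ne 𝒜 G.X (fun h => hj (by omega) : i + 1 ≠ j + 1),
        dprj_dinc_ne 𝒜 G.X (fun h => hj h.symm : i ≠ j), map_zero]
  exact congrArg (fun f => f z) this

/-- the elements of `X^ρ` with torsion differential -/
noncomputable def NRes.U (ρ : ℕ) : Submodule R (G.X ρ).carrier :=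
  (LC.gam (irr 𝒜) (G.X (ρ + 1)).carrier).comap (G.d ρ)

theorem NRes.mem_U {ρ : ℕ} {x : (G.X ρ).carrier} :
    x ∈ G.U ρ ↔ G.d ρ x ∈ LC.gam (irr 𝒜) (G.X (ρ + 1)).carrier := Iff.rfl

/-- the cocycles of `Γ(X^•)` -/
noncomputable def NRes.Z (q : ℕ) : Submodule R (G.X q).carrier :=
  LC.gam (irr 𝒜) (G.X q).carrier ⊓ LinearMap.ker (G.d q)

/-- the coboundaries of `Γ(X^•)` in positive degrees -/
noncomputable def NRes.Bd (q : ℕ) : Submodule R (G.X (q + 1)).carrier :=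
  (LC.gam (irr 𝒜) (G.X q).carrier).map (G.d q)

/-- the differential `U^ρ → Z^{ρ+1}` -/
noncomputable def NRes.dU (ρ : ℕ) : ↥(G.U ρ) →ₗ[R] ↥(G.Z (ρ + 1)) :=
  ((G.d ρ).comp (G.U ρ).subtype).codRestrict (G.Z (ρ + 1)) (fun x =>
    Submodule.mem_inf.2 ⟨x.2, LinearMap.mem_ker.2 (G.d_comp ρ x.1)⟩)

theorem NRes.dU_coe (ρ : ℕ) (x : ↥(G.U ρ)) :
    ((G.dU ρ x : ↥(G.Z (ρ + 1))) : (G.X (ρ + 1)).carrier) = G.d ρ x.1 := rfl

theorem NRes.gam_le_U (ρ : ℕ) : LC.gam (irr 𝒜) (G.X ρ).carrier ≤ G.U ρ := by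
  intro x hx
  exact map_mem_gam (irr 𝒜) (G.d ρ) hx

theorem NRes.range_le_U (ρ : ℕ) (c : (G.X ρ).carrier) : G.d ρ c ∈ G.U (ρ + 1) := by
  rw [G.mem_U, G.d_comp]
  exact zero_mem _

/-- every harmonic element of the quotient of positive degree lifts to `U` -/
theorem NRes.exists_U_lift (ρ : ℕ) (n : ℤ) {h : G.Q} (hh : h ∈ HV G.qsp (ρ, n)) :
    ∃ a : ↥(G.U ρ), G.π (dinc 𝒜 G.X ρ a.1) = h := by
  have h1 : h ∈ (G.pc (ρ, n)).map G.π := HV_le G.qsp _ hh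
  obtain ⟨y, hy, rfl⟩ := h1
  obtain ⟨x, -, rfl⟩ := (mem_bpc 𝒜 G.X).1 hy
  have h2 : G.qD (G.π (dinc 𝒜 G.X ρ x)) = 0 := d_of_mem_HV G.qsp hh
  rw [← G.π_D, G.π_eq_zero_iff, G.D_dinc, G.dinc_mem_Γ_iff] at h2
  exact ⟨⟨x, h2⟩, rfl⟩

end One

section Two

variable {k : Type u} [Field k] {R S : Type u} [CommRing R] [CommRing S]
  [Algebra k R] [Algebra k S]
  {𝒜 : ℤ → Submodule k R} [GradedAlgebra 𝒜] {ℬ : ℤ → Submodule k S} [GradedAlgebra ℬ]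
  {M : Type u} [AddCommGroup M] [Module R M] [Module k M] [IsScalarTower k R M]
  {ℳ : ℤ → AddSubgroup M} [DirectSum.Decomposition ℳ] [SetLike.GradedSMul 𝒜 ℳ]
  {N : Type u} [AddCommGroup N] [Module S N] [Module k N] [IsScalarTower k S N]
  {𝒩 : ℤ → AddSubgroup N} [DirectSum.Decomposition 𝒩] [SetLike.GradedSMul ℬ 𝒩]
  (GX : NRes 𝒜 ℳ) (GY : NRes ℬ 𝒩)

theorem DD_tmul (x : GX.B.carrier) (y : GY.B.carrier) :
    DD GX GY (x ⊗ₜ[k] y) =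
      bigD 𝒜 GX.X GX.d x ⊗ₜ[k] y + bigSg 𝒜 GX.X x ⊗ₜ[k] bigD ℬ GY.X GY.d y := by
  show Δ 𝒜 ℬ GX.X GY.X GX.d GY.d (x ⊗ₜ[k] y) = _
  rw [Δ_eq]
  rfl

/-- the inclusion of the tensor product of two terms into the ambient tensor product -/
noncomputable def ιij (i j : ℕ) :
    (GX.X i).carrier ⊗[k] (GY.X j).carrier →ₗ[k] BT 𝒜 ℬ GX.X GY.X :=
  tmap (k := k) (dinc 𝒜 GX.X i) (dinc ℬ GY.X j)

theorem ιij_tmul (i j : ℕ) (x : (GX.X i).carrier) (y : (GY.X j).carrier) :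
    ιij GX GY i j (x ⊗ₜ[k] y) = dinc 𝒜 GX.X i x ⊗ₜ[k] dinc ℬ GY.X j y := rfl

theorem ιij_mem_EcB {i j q : ℕ} (hij : i + j = q) (z : (GX.X i).carrier ⊗[k] (GY.X j).carrier) :
    ιij GX GY i j z ∈ EcB GX GY q := by
  induction z using tensor_homog_induction (GX.X i).gr (GY.X j).gr with
  | h0 => rw [map_zero]; exact zero_mem _
  | hadd a b ha hb => rw [map_add]; exact add_mem ha hb
  | hom n n' x y hx hy =>
    rw [ιij_tmul]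
    exact tmul_mem_EcB GX GY hij (dinc_mem_bpc 𝒜 GX.X hx) (dinc_mem_bpc ℬ GY.X hy)

theorem dinc_tmul_dinc_mem_EcB {i j q : ℕ} (hij : i + j = q) (x : (GX.X i).carrier)
    (y : (GY.X j).carrier) : dinc 𝒜 GX.X i x ⊗ₜ[k] dinc ℬ GY.X j y ∈ EcB GX GY q :=
  ιij_mem_EcB GX GY hij (x ⊗ₜ[k] y)

theorem tmul_mem_GamT_left {x : GX.B.carrier} (hx : x ∈ GX.Γ) (y : GY.B.carrier) :
    x ⊗ₜ[k] y ∈ GamT 𝒜 ℬ GX.X GY.X :=
  Submodule.mem_sup_left (tmul_mem_tsp hx trivial)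

theorem tmul_mem_GamT_right (x : GX.B.carrier) {y : GY.B.carrier} (hy : y ∈ GY.Γ) :
    x ⊗ₜ[k] y ∈ GamT 𝒜 ℬ GX.X GY.X :=
  Submodule.mem_sup_right (tmul_mem_tsp trivial hy)

theorem πT_eq_zero_iff (z : BT 𝒜 ℬ GX.X GY.X) : πT GX GY z = 0 ↔ z ∈ GamT 𝒜 ℬ GX.X GY.X := by
  rw [← LinearMap.mem_ker, ker_πT]

/-- the inclusion `U^ρ ⊗ U'^σ → B ⊗ B'` -/
noncomputable def ιU (ρ σ : ℕ) : ↥(GX.U ρ) ⊗[k] ↥(GY.U σ) →ₗ[k] BT 𝒜 ℬ GX.X GY.X :=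
  (ιij GX GY ρ σ) ∘ₗ (tmap (k := k) (GX.U ρ).subtype (GY.U σ).subtype)

theorem ιU_tmul (ρ σ : ℕ) (a : ↥(GX.U ρ)) (b : ↥(GY.U σ)) :
    ιU GX GY ρ σ (a ⊗ₜ[k] b) = dinc 𝒜 GX.X ρ a.1 ⊗ₜ[k] dinc ℬ GY.X σ b.1 := rfl

theorem ιU_mem_EcB {ρ σ q : ℕ} (h : ρ + σ = q) (u : ↥(GX.U ρ) ⊗[k] ↥(GY.U σ)) :
    ιU GX GY ρ σ u ∈ EcB GX GY q :=
  ιij_mem_EcB GX GY h _

theorem act_ιU (ρ σ : ℕ) (x : R ⊗[k] S) (u : ↥(GX.U ρ) ⊗[k] ↥(GY.U σ)) :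
    GrSeg.act k R S GX.B.carrier GY.B.carrier x (ιU GX GY ρ σ u) =
      ιU GX GY ρ σ (GrSeg.act k R S ↥(GX.U ρ) ↥(GY.U σ) x u) := by
  unfold ιU ιij
  rw [LinearMap.comp_apply, LinearMap.comp_apply, act_tmap, act_tmap]

end Two

section E

variable {k : Type u} [Field k] {R S : Type u} [CommRing R] [CommRing S]
  [Algebra k R] [Algebra k S]
  {𝒜 : ℤ → Submodule k R} [GradedAlgebra 𝒜] {ℬ : ℤ → Submodule k S} [GradedAlgebra ℬ]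
  {M : Type u} [AddCommGroup M] [Module R M] [Module k M] [IsScalarTower k R M]
  {ℳ : ℤ → AddSubgroup M} [DirectSum.Decomposition ℳ] [SetLike.GradedSMul 𝒜 ℳ]
  {N : Type u} [AddCommGroup N] [Module S N] [Module k N] [IsScalarTower k S N]
  {𝒩 : ℤ → AddSubgroup N} [DirectSum.Decomposition 𝒩] [SetLike.GradedSMul ℬ 𝒩]
  (GX : NRes 𝒜 ℳ) (GY : NRes ℬ 𝒩) (ρ σ : ℕ)
  (hvX : ∀ i n, ρ + 1 < i → HV GX.qsp (i, n) = ⊥)
  (hvY : ∀ j n, σ + 1 < j → HV GY.qsp (j, n) = ⊥)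

include hvX hvY in
/-- the top harmonic part of the tensor product of the quotients comes from `U ⊗ U'` -/
theorem PEc_top_le : PEc GX.qsp GY.qsp (ρ + σ + 2) ≤
    (LinearMap.range (ιU GX GY (ρ + 1) (σ + 1))).map (πT GX GY) := by
  refine iSup_le fun i => iSup_le fun j => iSup_le fun hij => iSup_le fun n => iSup_le fun n' => ?_
  by_cases hi : ρ + 1 < i
  · rw [hvX i n hi, tsp_bot_left]; exact bot_le
  by_cases hj : σ + 1 < j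
  · rw [hvY j n' hj, tsp_bot_right]; exact bot_le
  obtain rfl : i = ρ + 1 := by omega
  obtain rfl : j = σ + 1 := by omega
  apply Submodule.span_le.2
  rintro _ ⟨h, hh, h', hh', rfl⟩
  obtain ⟨a, ha⟩ := GX.exists_U_lift (ρ + 1) n hh
  obtain ⟨b, hb⟩ := GY.exists_U_lift (σ + 1) n' hh'
  refine ⟨ιU GX GY _ _ (a ⊗ₜ[k] b), ⟨_, rfl⟩, ?_⟩
  rw [ιU_tmul, ← ha, ← hb]
  rfl

include hvX hvY in
/-- **(E)** every torsion cocycle of top degree is, up to the differential of a torsion element,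
the differential of an element of `U ⊗ U'` -/
theorem exists_top_rep {z : BT 𝒜 ℬ GX.X GY.X} (hz : z ∈ EcB GX GY (ρ + σ + 3))
    (hzΓ : z ∈ GamT 𝒜 ℬ GX.X GY.X) (hz0 : DD GX GY z = 0) :
    ∃ (u' : ↥(GX.U (ρ + 1)) ⊗[k] ↥(GY.U (σ + 1))) (w : BT 𝒜 ℬ GX.X GY.X),
      w ∈ EcB GX GY (ρ + σ + 2) ∧ w ∈ GamT 𝒜 ℬ GX.X GY.X ∧
        z = DD GX GY (ιU GX GY (ρ + 1) (σ + 1) u') + DD GX GY w := by
  obtain ⟨u, hu, huz⟩ := DD_exact_c GX GY (ρ + σ + 2) hz hz0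
  have hxE : πT GX GY u ∈ EcQ GX GY (ρ + σ + 2) := πT_mem_EcQ GX GY _ hu
  have hx0 : δQ GX GY (πT GX GY u) = 0 := by
    rw [← πT_DD, huz, (πT_eq_zero_iff GX GY z).2 hzΓ]
  have hce := cocycle_eq GX.qD_mem GX.qsp GY.qsp (πT GX GY u) hx0
  have hS : tS (sgn k) GX.qsp GY.qsp (πT GX GY u) ∈ EcQ GX GY (ρ + σ + 1) :=
    S_Ec GX.qsp GY.qsp (ρ + σ + 1) ⟨_, hxE, rfl⟩
  have hP : tP GX.qsp GY.qsp (πT GX GY u) ∈ PEc GX.qsp GY.qsp (ρ + σ + 2) :=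
    P_Ec GX.qsp GY.qsp (ρ + σ + 2) ⟨_, hxE, rfl⟩
  obtain ⟨_, ⟨u', rfl⟩, hu'⟩ := PEc_top_le GX GY ρ σ hvX hvY hP
  obtain ⟨v, hv, hvS⟩ := exists_πT_eq GX GY (ρ + σ + 1) hS
  refine ⟨u', u - ιU GX GY (ρ + 1) (σ + 1) u' - DD GX GY v, ?_, ?_, ?_⟩
  · exact sub_mem (sub_mem hu (ιU_mem_EcB GX GY (by omega) u')) (DD_EcB GX GY _ hv)
  · rw [← πT_eq_zero_iff, map_sub, map_sub, hu', πT_DD, hvS, sub_sub, sub_eq_zero, add_comm]
    exact hce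
  · rw [map_sub, map_sub, DD_DD, sub_zero, huz]
    abel

end E

end Groth.Agent.Helper20.Seg
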