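import Mathlib
import Groth.Prelude
import Groth.Agent.Lib.Helper20.GrTK3

/-!
# The top local cohomology of a Segre product: uniqueness of representatives (helper20)
-/

set_option autoImplicit false

open DirectSum TensorProduct

namespace Groth.Agent.Helper20.Seg

open Groth.Agent.Helper20.GrInj Groth.Agent.Helper8 Groth.Agent.Helper20.Kun
  Groth.Agent.Helper20.SegFin Groth.Agent.Helper20.KS

universe u

attribute [local instance] gK gK_tower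

section One

variable {k : Type u} [Field k] {R : Type u} [CommRing R] [Algebra k R]
  {𝒜 : ℤ → Submodule k R} [GradedAlgebra 𝒜]
  {M : Type u} [AddCommGroup M] [Module R M] [Module k M] [IsScalarTower k R M]
  {ℳ : ℤ → AddSubgroup M} [DirectSum.Decomposition ℳ] [SetLike.GradedSMul 𝒜 ℳ]
  (G : NRes 𝒜 ℳ) (ρ : ℕ)
  {H : Type u} [AddCommGroup H] [Module R H]
  (π : ↥(G.Z (ρ + 1 + 1)) →ₗ[R] H)
  (hπ : LinearMap.ker π = (G.Bd (ρ + 1)).comap (G.Z (ρ + 1 + 1)).subtype)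

/-- the harmonic projection of the class in the quotient of an element of `U` -/
noncomputable def NRes.fU (a : ℕ) : ↥(G.U a) →ₗ[k] G.Q :=
  G.qsp.p ∘ₗ G.π ∘ₗ ((dinc 𝒜 G.X a).restrictScalars k) ∘ₗ ((G.U a).subtype.restrictScalars k)

theorem NRes.fU_apply (a : ℕ) (x : ↥(G.U a)) :
    G.fU a x = G.qsp.p (G.π (dinc 𝒜 G.X a x.1)) := rfl

include hπ in
/-- an element of `U` whose class in the quotient has zero harmonic projection has a zero class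
in the cohomology of the torsion -/
theorem NRes.πdU_eq_zero_of_fU (a : ↥(G.U (ρ + 1))) (h : G.fU (ρ + 1) a = 0) :
    π (G.dU (ρ + 1) a) = 0 := by
  rw [G.fU_apply] at h
  have hx0 : G.qD (G.π (dinc 𝒜 G.X (ρ + 1) a.1)) = 0 := by
    rw [← G.π_D, G.π_eq_zero_iff, G.D_dinc, G.dinc_mem_Γ_iff]
    exact a.2
  have hom := G.qsp.hom (G.π (dinc 𝒜 G.X (ρ + 1) a.1))
  rw [hx0, map_zero, h, add_zero, add_zero] at hom
  obtain ⟨b, hb⟩ := G.π_surjective (G.qsp.s (G.π (dinc 𝒜 G.X (ρ + 1) a.1)))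
  have h1 : G.π (dinc 𝒜 G.X (ρ + 1) a.1 - G.D b) = 0 := by
    rw [map_sub, G.π_D, hb, hom, sub_self]
  rw [G.π_eq_zero_iff] at h1
  have h2 : dprj 𝒜 G.X (ρ + 1) (dinc 𝒜 G.X (ρ + 1) a.1 - G.D b) ∈
      LC.gam (irr 𝒜) (G.X (ρ + 1)).carrier := map_mem_gam (irr 𝒜) _ h1
  have h3 : dprj 𝒜 G.X (ρ + 1) (G.D b) = G.d ρ (dprj 𝒜 G.X ρ b) := G.dprj_bigD ρ b
  rw [map_sub, dprj_dinc_same, h3] at h2
  rw [← LinearMap.mem_ker, hπ, Submodule.mem_comap]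
  refine ⟨a.1 - G.d ρ (dprj 𝒜 G.X ρ b), h2, ?_⟩
  rw [map_sub, G.d_comp, sub_zero]
  rfl

include hπ in
/-- the elements of `U` with zero class are the sums of a torsion element and a coboundary -/
theorem NRes.exists_decomp_of_πdU_eq_zero (a : ↥(G.U (ρ + 1))) (h : π (G.dU (ρ + 1) a) = 0) :
    ∃ g ∈ LC.gam (irr 𝒜) (G.X (ρ + 1)).carrier, ∃ c : (G.X ρ).carrier, a.1 = g + G.d ρ c := by
  rw [← LinearMap.mem_ker, hπ, Submodule.mem_comap] at h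
  obtain ⟨g, hg, hga⟩ := h
  have h1 : a.1 - g ∈ LinearMap.ker (G.d (ρ + 1)) := by
    rw [LinearMap.mem_ker, map_sub, sub_eq_zero]
    exact hga.symm
  rw [G.exact_succ ρ] at h1
  obtain ⟨c, hc⟩ := h1
  exact ⟨g, hg, c, by rw [hc]; abel⟩

end One

section Two

variable {k : Type u} [Field k] {R S : Type u} [CommRing R] [CommRing S]
  [Algebra k R] [Algebra k S]
  {𝒜 : ℤ → Submodule k R} [GradedAlgebra 𝒜] {ℬ : ℤ → Submodule k S} [GradedAlgebra ℬ]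
  {M : Type u} [AddCommGroup M] [Module R M] [Module k M] [IsScalarTower k R M]
  {ℳ : ℤ → AddSubgroup M} [DirectSum.Decomposition ℳ] [SetLike.GradedSMul 𝒜 ℳ]
  {N : Type u} [AddCommGroup N] [Module S N] [Module k N] [IsScalarTower k S N]
  {𝒩 : ℤ → AddSubgroup N} [DirectSum.Decomposition 𝒩] [SetLike.GradedSMul ℬ 𝒩]
  (GX : NRes 𝒜 ℳ) (GY : NRes ℬ 𝒩) (ρ σ : ℕ)
  {HX : Type u} [AddCommGroup HX] [Module R HX] [Module k HX] [IsScalarTower k R HX]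
  (πX : ↥(GX.Z (ρ + 1 + 1)) →ₗ[R] HX)
  (hπX : LinearMap.ker πX = (GX.Bd (ρ + 1)).comap (GX.Z (ρ + 1 + 1)).subtype)
  {HY : Type u} [AddCommGroup HY] [Module S HY] [Module k HY] [IsScalarTower k S HY]
  (πY : ↥(GY.Z (σ + 1 + 1)) →ₗ[S] HY)
  (hπY : LinearMap.ker πY = (GY.Bd (σ + 1)).comap (GY.Z (σ + 1 + 1)).subtype)

/-- the tensor product of the two class maps -/
noncomputable def PiD : ↥(GX.U (ρ + 1)) ⊗[k] ↥(GY.U (σ + 1)) →ₗ[k] HX ⊗[k] HY :=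
  tmap (k := k) (πX ∘ₗ GX.dU (ρ + 1)) (πY ∘ₗ GY.dU (σ + 1))

theorem PiD_tmul (a : ↥(GX.U (ρ + 1))) (b : ↥(GY.U (σ + 1))) :
    PiD GX GY ρ σ πX πY (a ⊗ₜ[k] b) = πX (GX.dU (ρ + 1) a) ⊗ₜ[k] πY (GY.dU (σ + 1) b) := rfl

theorem act_PiD (x : R ⊗[k] S) (u : ↥(GX.U (ρ + 1)) ⊗[k] ↥(GY.U (σ + 1))) :
    GrSeg.act k R S HX HY x (PiD GX GY ρ σ πX πY u) =
      PiD GX GY ρ σ πX πY (GrSeg.act k R S ↥(GX.U (ρ + 1)) ↥(GY.U (σ + 1)) x u) :=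
  act_tmap _ _ x u

include hπX hπY in
/-- **(U)** the class of `u'` is determined by the cohomology class of `D (ι u')` -/
theorem PiD_eq_zero_of_DD {u' : ↥(GX.U (ρ + 1)) ⊗[k] ↥(GY.U (σ + 1))} {w : BT 𝒜 ℬ GX.X GY.X}
    (hw : w ∈ EcB GX GY (ρ + σ + 2)) (hwΓ : w ∈ GamT 𝒜 ℬ GX.X GY.X)
    (h : DD GX GY (ιU GX GY (ρ + 1) (σ + 1) u') + DD GX GY w = 0) :
    PiD GX GY ρ σ πX πY u' = 0 := by
  have hy : ιU GX GY (ρ + 1) (σ + 1) u' + w ∈ EcB GX GY (ρ + σ + 2) :=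
    add_mem (ιU_mem_EcB GX GY (by omega) u') hw
  have hy0 : DD GX GY (ιU GX GY (ρ + 1) (σ + 1) u' + w) = 0 := by rw [map_add]; exact h
  obtain ⟨v, -, hvy⟩ := DD_exact_c GX GY (ρ + σ + 1) hy hy0
  have h2 : πT GX GY (ιU GX GY (ρ + 1) (σ + 1) u') = δQ GX GY (πT GX GY v) := by
    rw [← πT_DD, hvy, map_add, (πT_eq_zero_iff GX GY w).2 hwΓ, add_zero]
  have h3 : tP GX.qsp GY.qsp (πT GX GY (ιU GX GY (ρ + 1) (σ + 1) u')) = 0 := by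
    rw [h2, P_δ]
  have hcomp : (tP GX.qsp GY.qsp) ∘ₗ (πT GX GY) ∘ₗ (ιU GX GY (ρ + 1) (σ + 1)) =
      TensorProduct.map (GX.fU (ρ + 1)) (GY.fU (σ + 1)) :=
    TensorProduct.ext' fun a b => rfl
  have h5 : u' ∈ LinearMap.ker (TensorProduct.map (GX.fU (ρ + 1)) (GY.fU (σ + 1))) := by
    rw [LinearMap.mem_ker, ← hcomp]
    exact h3
  rw [ker_map_eq] at h5
  have hle : tsp (LinearMap.ker (GX.fU (ρ + 1))) ⊤ ⊔ tsp ⊤ (LinearMap.ker (GY.fU (σ + 1))) ≤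
      LinearMap.ker (PiD GX GY ρ σ πX πY) := by
    apply sup_le
    · apply Submodule.span_le.2
      rintro _ ⟨a, ha, b, -, rfl⟩
      rw [SetLike.mem_coe, LinearMap.mem_ker, PiD_tmul,
        GX.πdU_eq_zero_of_fU ρ πX hπX a (LinearMap.mem_ker.1 ha), TensorProduct.zero_tmul]
    · apply Submodule.span_le.2
      rintro _ ⟨a, -, b, hb, rfl⟩
      rw [SetLike.mem_coe, LinearMap.mem_ker, PiD_tmul,
        GY.πdU_eq_zero_of_fU σ πY hπY b (LinearMap.mem_ker.1 hb), TensorProduct.tmul_zero]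
  exact LinearMap.mem_ker.1 (hle h5)

/-- the torsion coboundaries of the ambient complex in degree `ρ + σ + 3` -/
noncomputable def BdT : Submodule k (BT 𝒜 ℬ GX.X GY.X) :=
  (EcB GX GY (ρ + σ + 2) ⊓ GamT 𝒜 ℬ GX.X GY.X).map (DD GX GY)

theorem mem_BdT {z : BT 𝒜 ℬ GX.X GY.X} : z ∈ BdT GX GY ρ σ ↔
    ∃ w, w ∈ EcB GX GY (ρ + σ + 2) ∧ w ∈ GamT 𝒜 ℬ GX.X GY.X ∧ DD GX GY w = z := by
  constructor
  · rintro ⟨w, hw, rfl⟩
    exact ⟨w, hw.1, hw.2, rfl⟩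
  · rintro ⟨w, h1, h2, rfl⟩
    exact ⟨w, ⟨h1, h2⟩, rfl⟩

theorem neg_one_pow_mul_self (i : ℕ) : ((-1 : R) ^ i) * ((-1 : R) ^ i) = 1 := by
  rw [← mul_pow]
  simp

/-- the differential of `d c ⊗ b` -/
theorem DD_dinc_d_left (c : (GX.X ρ).carrier) (b : ↥(GY.U (σ + 1))) :
    DD GX GY (dinc 𝒜 GX.X (ρ + 1) (GX.d ρ c) ⊗ₜ[k] dinc ℬ GY.X (σ + 1) b.1) ∈
      BdT GX GY ρ σ := by
  have h1 := DD_tmul GX GY (dinc 𝒜 GX.X ρ c) (dinc ℬ GY.X (σ + 1) b.1)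
  rw [bigD_dinc, bigD_dinc, bigSg_dinc, ← map_smul] at h1
  have h2 : dinc 𝒜 GX.X (ρ + 1) (GX.d ρ c) ⊗ₜ[k] dinc ℬ GY.X (σ + 1) b.1 =
      DD GX GY (dinc 𝒜 GX.X ρ c ⊗ₜ[k] dinc ℬ GY.X (σ + 1) b.1) -
        dinc 𝒜 GX.X ρ (((-1 : R) ^ ρ) • c) ⊗ₜ[k] dinc ℬ GY.X (σ + 1 + 1) (GY.d (σ + 1) b.1) := by
    rw [h1]
    abel
  rw [h2, map_sub, DD_DD, zero_sub, ← map_neg, mem_BdT]
  refine ⟨_, neg_mem (dinc_tmul_dinc_mem_EcB GX GY (by omega) _ _),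
    neg_mem (tmul_mem_GamT_right GX GY _ ((GY.dinc_mem_Γ_iff _ _).2 b.2)), rfl⟩

/-- the differential of `a ⊗ d c` -/
theorem DD_dinc_d_right (a : ↥(GX.U (ρ + 1))) (c : (GY.X σ).carrier) :
    DD GX GY (dinc 𝒜 GX.X (ρ + 1) a.1 ⊗ₜ[k] dinc ℬ GY.X (σ + 1) (GY.d σ c)) ∈
      BdT GX GY ρ σ := by
  have h1 := DD_tmul GX GY (dinc 𝒜 GX.X (ρ + 1) (((-1 : R) ^ (ρ + 1)) • a.1)) (dinc ℬ GY.X σ c)
  rw [bigD_dinc, bigD_dinc, bigSg_dinc, ← map_smul, ← mul_smul, neg_one_pow_mul_self,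
    one_smul] at h1
  have h2 : dinc 𝒜 GX.X (ρ + 1) a.1 ⊗ₜ[k] dinc ℬ GY.X (σ + 1) (GY.d σ c) =
      DD GX GY (dinc 𝒜 GX.X (ρ + 1) (((-1 : R) ^ (ρ + 1)) • a.1) ⊗ₜ[k] dinc ℬ GY.X σ c) -
        dinc 𝒜 GX.X (ρ + 1 + 1) (GX.d (ρ + 1) (((-1 : R) ^ (ρ + 1)) • a.1)) ⊗ₜ[k]
          dinc ℬ GY.X σ c := by
    rw [h1]
    abel
  rw [h2, map_sub, DD_DD, zero_sub, ← map_neg, mem_BdT]
  refine ⟨_, neg_mem (dinc_tmul_dinc_mem_EcB GX GY (by omega) _ _),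
    neg_mem (tmul_mem_GamT_left GX GY ((GX.dinc_mem_Γ_iff _ _).2 ?_) _), rfl⟩
  rw [map_smul]
  exact (LC.gam (irr 𝒜) (GX.X (ρ + 1 + 1)).carrier).smul_mem _ a.2

include hπX hπY in
/-- **(K)** if the class of `u'` vanishes, `D (ι u')` is a torsion coboundary -/
theorem DD_ιU_mem_BdT_of_PiD {u' : ↥(GX.U (ρ + 1)) ⊗[k] ↥(GY.U (σ + 1))}
    (h : PiD GX GY ρ σ πX πY u' = 0) :
    DD GX GY (ιU GX GY (ρ + 1) (σ + 1) u') ∈ BdT GX GY ρ σ := by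
  have h1 : u' ∈ LinearMap.ker (TensorProduct.map ((πX ∘ₗ GX.dU (ρ + 1)).restrictScalars k)
      ((πY ∘ₗ GY.dU (σ + 1)).restrictScalars k)) := LinearMap.mem_ker.2 h
  rw [ker_map_eq] at h1
  have hle : tsp (LinearMap.ker ((πX ∘ₗ GX.dU (ρ + 1)).restrictScalars k)) ⊤ ⊔
      tsp ⊤ (LinearMap.ker ((πY ∘ₗ GY.dU (σ + 1)).restrictScalars k)) ≤
      (BdT GX GY ρ σ).comap ((DD GX GY) ∘ₗ (ιU GX GY (ρ + 1) (σ + 1))) := by
    apply sup_le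
    · apply Submodule.span_le.2
      rintro _ ⟨a, ha, b, -, rfl⟩
      rw [SetLike.mem_coe, Submodule.mem_comap, LinearMap.comp_apply, ιU_tmul]
      obtain ⟨g, hg, c, hac⟩ := GX.exists_decomp_of_πdU_eq_zero ρ πX hπX a (LinearMap.mem_ker.1 ha)
      rw [hac, map_add, TensorProduct.add_tmul, map_add]
      refine add_mem ?_ (DD_dinc_d_left GX GY ρ σ c b)
      rw [mem_BdT]
      exact ⟨_, dinc_tmul_dinc_mem_EcB GX GY (by omega) _ _,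
        tmul_mem_GamT_left GX GY ((GX.dinc_mem_Γ_iff _ _).2 hg) _, rfl⟩
    · apply Submodule.span_le.2
      rintro _ ⟨a, -, b, hb, rfl⟩
      rw [SetLike.mem_coe, Submodule.mem_comap, LinearMap.comp_apply, ιU_tmul]
      obtain ⟨g, hg, c, hbc⟩ := GY.exists_decomp_of_πdU_eq_zero σ πY hπY b (LinearMap.mem_ker.1 hb)
      rw [hbc, map_add, TensorProduct.tmul_add, map_add]
      refine add_mem ?_ (DD_dinc_d_right GX GY ρ σ a c)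
      rw [mem_BdT]
      exact ⟨_, dinc_tmul_dinc_mem_EcB GX GY (by omega) _ _,
        tmul_mem_GamT_right GX GY _ ((GY.dinc_mem_Γ_iff _ _).2 hg), rfl⟩
  exact hle h1

end Two

end Groth.Agent.Helper20.Seg
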