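import Mathlib
import Groth.Prelude
import Groth.Agent.Lib.Helper20.GrTK4

/-!
# The top local cohomology of a Segre product: the class map on the ambient complex (helper20)
-/

set_option autoImplicit false

open DirectSum TensorProduct

namespace Groth.Agent.Helper20.Seg

open Groth.Agent.Helper20.GrInj Groth.Agent.Helper8 Groth.Agent.Helper20.Kun
  Groth.Agent.Helper20.SegFin Groth.Agent.Helper20.KS

universe u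

attribute [local instance] gK gK_tower

section Theta

variable {k : Type u} [Field k] {R S : Type u} [CommRing R] [CommRing S]
  [Algebra k R] [Algebra k S]
  {𝒜 : ℤ → Submodule k R} [GradedAlgebra 𝒜] {ℬ : ℤ → Submodule k S} [GradedAlgebra ℬ]
  {M : Type u} [AddCommGroup M] [Module R M] [Module k M] [IsScalarTower k R M]
  {ℳ : ℤ → AddSubgroup M} [DirectSum.Decomposition ℳ] [SetLike.GradedSMul 𝒜 ℳ]
  {N : Type u} [AddCommGroup N] [Module S N] [Module k N] [IsScalarTower k S N]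
  {𝒩 : ℤ → AddSubgroup N} [DirectSum.Decomposition 𝒩] [SetLike.GradedSMul ℬ 𝒩]
  (GX : NRes 𝒜 ℳ) (GY : NRes ℬ 𝒩) (ρ σ : ℕ)
  (hvX : ∀ i n, ρ + 1 < i → HV GX.qsp (i, n) = ⊥)
  (hvY : ∀ j n, σ + 1 < j → HV GY.qsp (j, n) = ⊥)
  {HX : Type u} [AddCommGroup HX] [Module R HX] [Module k HX] [IsScalarTower k R HX]
  (πX : ↥(GX.Z (ρ + 1 + 1)) →ₗ[R] HX)
  (hπX : LinearMap.ker πX = (GX.Bd (ρ + 1)).comap (GX.Z (ρ + 1 + 1)).subtype)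
  {HY : Type u} [AddCommGroup HY] [Module S HY] [Module k HY] [IsScalarTower k S HY]
  (πY : ↥(GY.Z (σ + 1 + 1)) →ₗ[S] HY)
  (hπY : LinearMap.ker πY = (GY.Bd (σ + 1)).comap (GY.Z (σ + 1 + 1)).subtype)

theorem DD_ιU_mem_GamT (u' : ↥(GX.U (ρ + 1)) ⊗[k] ↥(GY.U (σ + 1))) :
    DD GX GY (ιU GX GY (ρ + 1) (σ + 1) u') ∈ GamT 𝒜 ℬ GX.X GY.X := by
  induction u' using TensorProduct.induction_on with
  | zero => rw [map_zero, map_zero]; exact zero_mem _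
  | tmul a b =>
    rw [ιU_tmul, DD_tmul, bigD_dinc, bigD_dinc]
    exact add_mem (tmul_mem_GamT_left GX GY ((GX.dinc_mem_Γ_iff _ _).2 a.2) _)
      (tmul_mem_GamT_right GX GY _ ((GY.dinc_mem_Γ_iff _ _).2 b.2))
  | add x y hx hy => rw [map_add, map_add]; exact add_mem hx hy

/-- the torsion cocycles of the ambient complex in degree `ρ + σ + 3` -/
noncomputable def ZcT : Submodule k (BT 𝒜 ℬ GX.X GY.X) :=
  EcB GX GY (ρ + σ + 3) ⊓ GamT 𝒜 ℬ GX.X GY.X ⊓ LinearMap.ker (DD GX GY)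

theorem mem_ZcT {z : BT 𝒜 ℬ GX.X GY.X} : z ∈ ZcT GX GY ρ σ ↔
    z ∈ EcB GX GY (ρ + σ + 3) ∧ z ∈ GamT 𝒜 ℬ GX.X GY.X ∧ DD GX GY z = 0 := by
  unfold ZcT
  rw [Submodule.mem_inf, Submodule.mem_inf, LinearMap.mem_ker, and_assoc]

theorem DD_ιU_mem_ZcT (u' : ↥(GX.U (ρ + 1)) ⊗[k] ↥(GY.U (σ + 1))) :
    DD GX GY (ιU GX GY (ρ + 1) (σ + 1) u') ∈ ZcT GX GY ρ σ := by
  rw [mem_ZcT]
  exact ⟨DD_EcB GX GY (ρ + σ + 2) (ιU_mem_EcB GX GY (by omega) u'),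
    DD_ιU_mem_GamT GX GY ρ σ u', DD_DD GX GY _⟩

theorem BdT_le_ZcT : BdT GX GY ρ σ ≤ ZcT GX GY ρ σ := by
  rintro _ ⟨w, hw, rfl⟩
  rw [mem_ZcT]
  refine ⟨DD_EcB GX GY (ρ + σ + 2) hw.1, ?_, DD_DD GX GY w⟩
  rw [← πT_eq_zero_iff, πT_DD, (πT_eq_zero_iff GX GY w).2 hw.2, map_zero]

/-- the parametrisation of the torsion cocycles -/
noncomputable def τT : (↥(GX.U (ρ + 1)) ⊗[k] ↥(GY.U (σ + 1))) ×
    ↥(EcB GX GY (ρ + σ + 2) ⊓ GamT 𝒜 ℬ GX.X GY.X) →ₗ[k] ↥(ZcT GX GY ρ σ) :=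
  LinearMap.codRestrict (ZcT GX GY ρ σ)
    (((DD GX GY) ∘ₗ (ιU GX GY (ρ + 1) (σ + 1))) ∘ₗ (LinearMap.fst k _ _) +
      ((DD GX GY) ∘ₗ (EcB GX GY (ρ + σ + 2) ⊓ GamT 𝒜 ℬ GX.X GY.X).subtype) ∘ₗ
        (LinearMap.snd k _ _))
    (fun p => add_mem (DD_ιU_mem_ZcT GX GY ρ σ p.1)
      (BdT_le_ZcT GX GY ρ σ ⟨p.2.1, p.2.2, rfl⟩))

theorem τT_coe (p : (↥(GX.U (ρ + 1)) ⊗[k] ↥(GY.U (σ + 1))) ×
    ↥(EcB GX GY (ρ + σ + 2) ⊓ GamT 𝒜 ℬ GX.X GY.X)) :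
    (τT GX GY ρ σ p : BT 𝒜 ℬ GX.X GY.X) =
      DD GX GY (ιU GX GY (ρ + 1) (σ + 1) p.1) + DD GX GY p.2.1 := rfl

include hvX hvY in
theorem τT_surjective : Function.Surjective (τT GX GY ρ σ) := by
  rintro ⟨z, hz⟩
  rw [mem_ZcT] at hz
  obtain ⟨u', w, hw, hwΓ, hzw⟩ := exists_top_rep GX GY ρ σ hvX hvY hz.1 hz.2.1 hz.2.2
  exact ⟨(u', ⟨w, hw, hwΓ⟩), Subtype.ext hzw.symm⟩

include hvX hvY hπX hπY in
/-- **the class map on the torsion cocycles of the ambient complex** -/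
theorem exists_theta : ∃ θ : ↥(ZcT GX GY ρ σ) →ₗ[k] HX ⊗[k] HY,
    (∀ (z : ↥(ZcT GX GY ρ σ)) (u' : ↥(GX.U (ρ + 1)) ⊗[k] ↥(GY.U (σ + 1)))
      (w : BT 𝒜 ℬ GX.X GY.X), w ∈ EcB GX GY (ρ + σ + 2) → w ∈ GamT 𝒜 ℬ GX.X GY.X →
      z.1 = DD GX GY (ιU GX GY (ρ + 1) (σ + 1) u') + DD GX GY w →
        θ z = PiD GX GY ρ σ πX πY u') ∧
    ∀ z : ↥(ZcT GX GY ρ σ), θ z = 0 ↔ z.1 ∈ BdT GX GY ρ σ := by
  obtain ⟨g, hg⟩ := LinearMap.exists_rightInverse_of_surjective (τT GX GY ρ σ)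
    (LinearMap.range_eq_top.2 (τT_surjective GX GY ρ σ hvX hvY))
  have hg' : ∀ z, τT GX GY ρ σ (g z) = z := fun z => congrArg (fun f => f z) hg
  have key : ∀ (z : ↥(ZcT GX GY ρ σ)) (u' : ↥(GX.U (ρ + 1)) ⊗[k] ↥(GY.U (σ + 1)))
      (w : BT 𝒜 ℬ GX.X GY.X), w ∈ EcB GX GY (ρ + σ + 2) → w ∈ GamT 𝒜 ℬ GX.X GY.X →
      z.1 = DD GX GY (ιU GX GY (ρ + 1) (σ + 1) u') + DD GX GY w →
        PiD GX GY ρ σ πX πY (g z).1 = PiD GX GY ρ σ πX πY u' := by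
    intro z u' w hw hwΓ hz
    have h1 : (τT GX GY ρ σ (g z) : BT 𝒜 ℬ GX.X GY.X) = z.1 := by rw [hg']
    rw [τT_coe, hz] at h1
    have h2 : DD GX GY (ιU GX GY (ρ + 1) (σ + 1) ((g z).1 - u')) +
        DD GX GY ((g z).2.1 - w) = 0 := by
      rw [map_sub, map_sub, map_sub]
      rw [← sub_eq_zero] at h1
      rw [← h1]
      abel
    have h3 := PiD_eq_zero_of_DD GX GY ρ σ πX hπX πY hπY (sub_mem (g z).2.2.1 hw)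
      (sub_mem (g z).2.2.2 hwΓ) h2
    rw [map_sub, sub_eq_zero] at h3
    exact h3
  refine ⟨(PiD GX GY ρ σ πX πY) ∘ₗ (LinearMap.fst k _ _) ∘ₗ g, key, fun z => ?_⟩
  show PiD GX GY ρ σ πX πY (g z).1 = 0 ↔ _
  constructor
  · intro h
    have h1 : z.1 = (τT GX GY ρ σ (g z) : BT 𝒜 ℬ GX.X GY.X) := by rw [hg']
    rw [h1, τT_coe]
    exact add_mem (DD_ιU_mem_BdT_of_PiD GX GY ρ σ πX hπX πY hπY h) ⟨(g z).2.1, (g z).2.2, rfl⟩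
  · rintro ⟨w, hw, hwz⟩
    rw [key z 0 w hw.1 hw.2 (by rw [map_zero, map_zero, zero_add, hwz]), map_zero]

end Theta

end Groth.Agent.Helper20.Seg
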