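import Mathlib
import Groth.Prelude
import Groth.Agent.Lib.Helper20.GrTK5

/-!
# The top local cohomology of a Segre product: homogeneous components (helper20)
-/

set_option autoImplicit false

open DirectSum TensorProduct

namespace Groth.Agent.Helper20.Seg

open Groth.Agent.Helper20.GrInj Groth.Agent.Helper8 Groth.Agent.Helper20.Kun
  Groth.Agent.Helper20.SegFin Groth.Agent.Helper20.KS

universe u

attribute [local instance] gK gK_tower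

section Dproj

variable {k : Type u} [Field k] {R S : Type u} [CommRing R] [CommRing S]
  [Algebra k R] [Algebra k S]
  (𝒜 : ℤ → Submodule k R) [GradedAlgebra 𝒜] (ℬ : ℤ → Submodule k S) [GradedAlgebra ℬ]
  {W : Type u} [AddCommGroup W] [Module R W] [Module k W] [IsScalarTower k R W]
  (𝒲 : ℤ → AddSubgroup W) [DirectSum.Decomposition 𝒲] [SetLike.GradedSMul 𝒜 𝒲]
  {W' : Type u} [AddCommGroup W'] [Module R W'] [Module k W'] [IsScalarTower k R W']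
  (𝒲' : ℤ → AddSubgroup W') [DirectSum.Decomposition 𝒲'] [SetLike.GradedSMul 𝒜 𝒲']
  {V : Type u} [AddCommGroup V] [Module S V] [Module k V] [IsScalarTower k S V]
  (𝒱 : ℤ → AddSubgroup V) [DirectSum.Decomposition 𝒱] [SetLike.GradedSMul ℬ 𝒱]
  {V' : Type u} [AddCommGroup V'] [Module S V'] [Module k V'] [IsScalarTower k S V']
  (𝒱' : ℤ → AddSubgroup V') [DirectSum.Decomposition 𝒱'] [SetLike.GradedSMul ℬ 𝒱']

theorem proj_map {f : W →ₗ[R] W'} (hf : GrLC.IsGrHom 𝒲 𝒲' f) (n : ℤ) (x : W) :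
    proj 𝒜 𝒲' n (f x) = f (proj 𝒜 𝒲 n x) := by
  rw [proj_apply, proj_apply, decompose_map 𝒲 𝒲' hf]

theorem dproj_tmap {f : W →ₗ[R] W'} (hf : GrLC.IsGrHom 𝒲 𝒲' f) {g : V →ₗ[S] V'}
    (hg : GrLC.IsGrHom 𝒱 𝒱' g) (n : ℤ) (z : W ⊗[k] V) :
    dproj 𝒜 ℬ 𝒲' 𝒱' n (tmap f g z) = tmap f g (dproj 𝒜 ℬ 𝒲 𝒱 n z) := by
  induction z using TensorProduct.induction_on with
  | zero => simp only [map_zero]
  | tmul x y =>
    unfold dproj
    rw [tmap_tmul, TensorProduct.map_tmul, TensorProduct.map_tmul, tmap_tmul,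
      proj_map 𝒜 𝒲 𝒲' hf, proj_map ℬ 𝒱 𝒱' hg]
  | add a b ha hb => simp only [map_add, ha, hb]

end Dproj

section One

variable {k : Type u} [Field k] {R : Type u} [CommRing R] [Algebra k R]
  {𝒜 : ℤ → Submodule k R} [GradedAlgebra 𝒜]
  {M : Type u} [AddCommGroup M] [Module R M] [Module k M] [IsScalarTower k R M]
  {ℳ : ℤ → AddSubgroup M} [DirectSum.Decomposition ℳ] [SetLike.GradedSMul 𝒜 ℳ]
  (G : NRes 𝒜 ℳ)

theorem NRes.proj_mem_U (a : ℕ) (n : ℤ) {x : (G.X a).carrier} (hx : x ∈ G.U a) :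
    proj 𝒜 (G.X a).gr n x ∈ G.U a := by
  rw [G.mem_U, ← proj_map 𝒜 (G.X a).gr (G.X (a + 1)).gr (G.d_grHom a)]
  exact gam_isHomogeneous 𝒜 (G.X (a + 1)).gr (irrH 𝒜) n hx

/-- the homogeneous components of the elements of `U` -/
noncomputable def NRes.pU (a : ℕ) (n : ℤ) : ↥(G.U a) →ₗ[k] ↥(G.U a) where
  toFun c := ⟨proj 𝒜 (G.X a).gr n c.1, G.proj_mem_U a n c.2⟩
  map_add' c c' := Subtype.ext (map_add (proj 𝒜 (G.X a).gr n) c.1 c'.1)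
  map_smul' r c := Subtype.ext (map_smul (proj 𝒜 (G.X a).gr n) r c.1)

theorem NRes.pU_coe (a : ℕ) (n : ℤ) (c : ↥(G.U a)) :
    ((G.pU a n c : ↥(G.U a)) : (G.X a).carrier) = proj 𝒜 (G.X a).gr n c.1 := rfl

theorem NRes.dU_pU_mem (a : ℕ) (n : ℤ) (c : ↥(G.U a)) :
    ((G.dU a (G.pU a n c) : ↥(G.Z (a + 1))) : (G.X (a + 1)).carrier) ∈ (G.X (a + 1)).gr n :=
  G.d_grHom a n _ (proj_mem 𝒜 (G.X a).gr n c.1)

end One

section Two

variable {k : Type u} [Field k] {R S : Type u} [CommRing R] [CommRing S]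
  [Algebra k R] [Algebra k S]
  {𝒜 : ℤ → Submodule k R} [GradedAlgebra 𝒜] {ℬ : ℤ → Submodule k S} [GradedAlgebra ℬ]
  {M : Type u} [AddCommGroup M] [Module R M] [Module k M] [IsScalarTower k R M]
  {ℳ : ℤ → AddSubgroup M} [DirectSum.Decomposition ℳ] [SetLike.GradedSMul 𝒜 ℳ]
  {N : Type u} [AddCommGroup N] [Module S N] [Module k N] [IsScalarTower k S N]
  {𝒩 : ℤ → AddSubgroup N} [DirectSum.Decomposition 𝒩] [SetLike.GradedSMul ℬ 𝒩]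
  (GX : NRes 𝒜 ℳ) (GY : NRes ℬ 𝒩) (ρ σ : ℕ)
  {HX : Type u} [AddCommGroup HX] [Module R HX] [Module k HX] [IsScalarTower k R HX]
  (πX : ↥(GX.Z (ρ + 1 + 1)) →ₗ[R] HX)
  {HY : Type u} [AddCommGroup HY] [Module S HY] [Module k HY] [IsScalarTower k S HY]
  (πY : ↥(GY.Z (σ + 1 + 1)) →ₗ[S] HY)
  (ℋX : ℤ → AddSubgroup HX)
  (hℋX : ∀ (n : ℤ) (h : HX), h ∈ ℋX n ↔
    ∃ c : ↥(GX.Z (ρ + 1 + 1)), (c : (GX.X (ρ + 1 + 1)).carrier) ∈ (GX.X (ρ + 1 + 1)).gr n ∧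
      πX c = h)
  (ℋY : ℤ → AddSubgroup HY)
  (hℋY : ∀ (n : ℤ) (h : HY), h ∈ ℋY n ↔
    ∃ c : ↥(GY.Z (σ + 1 + 1)), (c : (GY.X (σ + 1 + 1)).carrier) ∈ (GY.X (σ + 1 + 1)).gr n ∧
      πY c = h)

/-- the diagonal projection of the ambient tensor product -/
noncomputable abbrev dprojB (n : ℤ) : BT 𝒜 ℬ GX.X GY.X →ₗ[k] BT 𝒜 ℬ GX.X GY.X :=
  dproj 𝒜 ℬ GX.B.gr GY.B.gr n

theorem dprojB_DD (n : ℤ) (z : BT 𝒜 ℬ GX.X GY.X) :
    dprojB GX GY n (DD GX GY z) = DD GX GY (dprojB GX GY n z) := by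
  show dprojB GX GY n (Δ 𝒜 ℬ GX.X GY.X GX.d GY.d z) =
    Δ 𝒜 ℬ GX.X GY.X GX.d GY.d (dprojB GX GY n z)
  rw [Δ_eq]
  simp only [LinearMap.add_apply, map_add]
  rw [dproj_tmap 𝒜 ℬ GX.B.gr GX.B.gr GY.B.gr GY.B.gr (bigD_isGrHom 𝒜 GX.X GX.d GX.d_grHom)
      (fun _ _ h => h),
    dproj_tmap 𝒜 ℬ GX.B.gr GX.B.gr GY.B.gr GY.B.gr (bigSg_isGrHom 𝒜 GX.X)
      (bigD_isGrHom ℬ GY.X GY.d GY.d_grHom)]

theorem dprojB_mem_EcB (n : ℤ) (q : ℕ) {z : BT 𝒜 ℬ GX.X GY.X} (hz : z ∈ EcB GX GY q) :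
    dprojB GX GY n z ∈ EcB GX GY q := by
  have : EcB GX GY q ≤ (EcB GX GY q).comap (dprojB GX GY n) := by
    apply Ec_le
    intro i j hij m m'
    apply Submodule.span_le.2
    rintro _ ⟨x, hx, y, hy, rfl⟩
    rw [SetLike.mem_coe, Submodule.mem_comap]
    show proj 𝒜 GX.B.gr n x ⊗ₜ[k] proj ℬ GY.B.gr n y ∈ _
    by_cases hm : m = n
    · by_cases hm' : m' = n
      · subst hm hm'
        rw [proj_bpc_same 𝒜 GX.X hx, proj_bpc_same ℬ GY.X hy]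
        exact tmul_mem_EcB GX GY hij hx hy
      · rw [proj_bpc_ne ℬ GY.X hm' hy, TensorProduct.tmul_zero]
        exact zero_mem _
    · rw [proj_bpc_ne 𝒜 GX.X hm hx, TensorProduct.zero_tmul]
      exact zero_mem _
  exact this hz

theorem ιU_pU (n : ℤ) (u' : ↥(GX.U (ρ + 1)) ⊗[k] ↥(GY.U (σ + 1))) :
    ιU GX GY (ρ + 1) (σ + 1) (TensorProduct.map (GX.pU (ρ + 1) n) (GY.pU (σ + 1) n) u') =
      dprojB GX GY n (ιU GX GY (ρ + 1) (σ + 1) u') := by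
  induction u' using TensorProduct.induction_on with
  | zero => simp only [map_zero]
  | tmul a b =>
    rw [TensorProduct.map_tmul, ιU_tmul, ιU_tmul]
    show _ = proj 𝒜 GX.B.gr n _ ⊗ₜ[k] proj ℬ GY.B.gr n _
    rw [proj_map 𝒜 _ _ (dinc_isGrHom 𝒜 GX.X (ρ + 1)), proj_map ℬ _ _ (dinc_isGrHom ℬ GY.X (σ + 1))]
    rfl
  | add x y hx hy => simp only [map_add, hx, hy]

include hℋX hℋY in
theorem PiD_pU_mem (n : ℤ) (u' : ↥(GX.U (ρ + 1)) ⊗[k] ↥(GY.U (σ + 1))) :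
    PiD GX GY ρ σ πX πY (TensorProduct.map (GX.pU (ρ + 1) n) (GY.pU (σ + 1) n) u') ∈
      GrSeg.segrePiece k ℋX ℋY n := by
  induction u' using TensorProduct.induction_on with
  | zero => simp only [map_zero]; exact zero_mem _
  | tmul a b =>
    rw [TensorProduct.map_tmul, PiD_tmul]
    refine Submodule.subset_span ⟨_, ?_, _, ?_, rfl⟩
    · exact (hℋX n _).2 ⟨_, GX.dU_pU_mem (ρ + 1) n a, rfl⟩
    · exact (hℋY n _).2 ⟨_, GY.dU_pU_mem (σ + 1) n b, rfl⟩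
  | add x y hx hy => simp only [map_add]; exact add_mem hx hy

end Two

end Groth.Agent.Helper20.Seg
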