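import Mathlib
import Groth.Prelude
import Groth.Agent.Lib.Helper20.GrTK6

/-!
# The top local cohomology of a Segre product: the cohomology of the torsion of the total complex
(helper20)
-/

set_option autoImplicit false

open DirectSum TensorProduct

namespace Groth.Agent.Helper20.Seg

open Groth.Agent.Helper20.GrInj Groth.Agent.Helper8 Groth.Agent.Helper20.Kun
  Groth.Agent.Helper20.SegFin Groth.Agent.Helper20.KS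

universe u

attribute [local instance] gK gK_tower

section Tot

variable {k : Type u} [Field k] {R S T : Type u} [CommRing R] [CommRing S] [CommRing T]
  [Algebra k R] [Algebra k S] [Algebra k T]
  {𝒜 : ℤ → Submodule k R} [GradedAlgebra 𝒜] {ℬ : ℤ → Submodule k S} [GradedAlgebra ℬ]
  {𝒯 : ℤ → Submodule k T} [GradedAlgebra 𝒯] {ψ : T →ₐ[k] R ⊗[k] S}
  (hT : GrSeg.IsSegreRing 𝒜 ℬ 𝒯 ψ)
  {M : Type u} [AddCommGroup M] [Module R M] [Module k M] [IsScalarTower k R M]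
  {ℳ : ℤ → AddSubgroup M} [DirectSum.Decomposition ℳ] [SetLike.GradedSMul 𝒜 ℳ]
  {N : Type u} [AddCommGroup N] [Module S N] [Module k N] [IsScalarTower k S N]
  {𝒩 : ℤ → AddSubgroup N} [DirectSum.Decomposition 𝒩] [SetLike.GradedSMul ℬ 𝒩]
  (GX : NRes 𝒜 ℳ) (GY : NRes ℬ 𝒩) (ρ σ : ℕ)

/-- the terms of the total complex -/
noncomputable abbrev TG (q : ℕ) : GrLC.GMod.{u} (toAdd 𝒯) := TotG 𝒜 ℬ 𝒯 ψ hT GX.X GY.X q

/-- the differential of the total complex -/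
noncomputable abbrev tD (q : ℕ) : (TG hT GX GY q).carrier →ₗ[T] (TG hT GX GY (q + 1)).carrier :=
  totD 𝒜 ℬ 𝒯 ψ hT GX.X GY.X GX.d GX.d_grHom GY.d GY.d_grHom q

/-- the underlying tensor -/
noncomputable abbrev tvG (q : ℕ) : (TG hT GX GY q).carrier →+ BT 𝒜 ℬ GX.X GY.X :=
  tv 𝒜 ℬ 𝒯 ψ hT GX.X GY.X q

/-- the cocycles of the torsion of the total complex in degree `ρ + σ + 3` -/
noncomputable def tZ : Submodule T (TG hT GX GY (ρ + σ + 2 + 1)).carrier :=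
  LC.gam (irr 𝒯) (TG hT GX GY (ρ + σ + 2 + 1)).carrier ⊓ LinearMap.ker (tD hT GX GY (ρ + σ + 2 + 1))

/-- the coboundaries of the torsion of the total complex in degree `ρ + σ + 3` -/
noncomputable def tB : Submodule T (TG hT GX GY (ρ + σ + 2 + 1)).carrier :=
  (LC.gam (irr 𝒯) (TG hT GX GY (ρ + σ + 2)).carrier).map (tD hT GX GY (ρ + σ + 2))

theorem tvG_mem_GamT_iff (q : ℕ) (z : (TG hT GX GY q).carrier) :
    z ∈ LC.gam (irr 𝒯) (TG hT GX GY q).carrier ↔ tvG hT GX GY q z ∈ GamT 𝒜 ℬ GX.X GY.X :=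
  mem_gam_totG_iff 𝒜 ℬ 𝒯 ψ hT GX.X GY.X GX.nice GY.nice q z

theorem tvG_tD (q : ℕ) (z : (TG hT GX GY q).carrier) :
    tvG hT GX GY (q + 1) (tD hT GX GY q z) = DD GX GY (tvG hT GX GY q z) :=
  tv_totD 𝒜 ℬ 𝒯 ψ hT GX.X GY.X GX.d GX.d_grHom GY.d GY.d_grHom q z

theorem tvG_mem_EcB (q : ℕ) (z : (TG hT GX GY q).carrier) :
    tvG hT GX GY q z ∈ EcB GX GY q :=
  totK_le_EcB GX GY q (tv_mem_totK 𝒜 ℬ 𝒯 ψ hT GX.X GY.X q z)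

theorem tvG_mem_ZcT (z : ↥(tZ hT GX GY ρ σ)) :
    tvG hT GX GY (ρ + σ + 2 + 1) z.1 ∈ ZcT GX GY ρ σ := by
  rw [mem_ZcT]
  refine ⟨tvG_mem_EcB hT GX GY _ z.1, (tvG_mem_GamT_iff hT GX GY _ z.1).1 z.2.1, ?_⟩
  rw [← tvG_tD, LinearMap.mem_ker.1 z.2.2, map_zero]

theorem mem_tB_iff (z : (TG hT GX GY (ρ + σ + 2 + 1)).carrier) :
    z ∈ tB hT GX GY ρ σ ↔ tvG hT GX GY (ρ + σ + 2 + 1) z ∈ BdT GX GY ρ σ := by
  constructor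
  · rintro ⟨ζ, hζ, rfl⟩
    rw [tvG_tD, mem_BdT]
    exact ⟨_, tvG_mem_EcB hT GX GY _ ζ, (tvG_mem_GamT_iff hT GX GY _ ζ).1 hζ, rfl⟩
  · intro h
    rw [mem_BdT] at h
    obtain ⟨w, hw, hwΓ, hwz⟩ := h
    have h1 : rhoB GX GY w ∈ totK 𝒜 ℬ GX.X GY.X (ρ + σ + 2) := rhoB_mem_totK GX GY _ hw
    refine ⟨mkTot 𝒜 ℬ 𝒯 ψ hT GX.X GY.X (ρ + σ + 2) (rhoB GX GY w) h1, ?_, ?_⟩
    · rw [SetLike.mem_coe, tvG_mem_GamT_iff]
      exact rhoB_mem_GamT GX GY hwΓ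
    · apply tv_injective 𝒜 ℬ 𝒯 ψ hT GX.X GY.X
      refine (tvG_tD hT GX GY _ _).trans ?_
      show DD GX GY (rhoB GX GY w) = _
      rw [← rhoB_DD, hwz]
      exact rhoB_of_mem_totK GX GY _ (tv_mem_totK 𝒜 ℬ 𝒯 ψ hT GX.X GY.X _ z)

end Tot

section Map

variable {k : Type u} [Field k] {R S T : Type u} [CommRing R] [CommRing S] [CommRing T]
  [Algebra k R] [Algebra k S] [Algebra k T]
  {𝒜 : ℤ → Submodule k R} [GradedAlgebra 𝒜] {ℬ : ℤ → Submodule k S} [GradedAlgebra ℬ]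
  {𝒯 : ℤ → Submodule k T} [GradedAlgebra 𝒯] {ψ : T →ₐ[k] R ⊗[k] S}
  (hT : GrSeg.IsSegreRing 𝒜 ℬ 𝒯 ψ)
  {M : Type u} [AddCommGroup M] [Module R M] [Module k M] [IsScalarTower k R M]
  {ℳ : ℤ → AddSubgroup M} [DirectSum.Decomposition ℳ] [SetLike.GradedSMul 𝒜 ℳ]
  {N : Type u} [AddCommGroup N] [Module S N] [Module k N] [IsScalarTower k S N]
  {𝒩 : ℤ → AddSubgroup N} [DirectSum.Decomposition 𝒩] [SetLike.GradedSMul ℬ 𝒩]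
  (GX : NRes 𝒜 ℳ) (GY : NRes ℬ 𝒩) (ρ σ : ℕ)
  (hvX : ∀ i n, ρ + 1 < i → HV GX.qsp (i, n) = ⊥)
  (hvY : ∀ j n, σ + 1 < j → HV GY.qsp (j, n) = ⊥)
  {HX : Type u} [AddCommGroup HX] [Module R HX] [Module k HX] [IsScalarTower k R HX]
  (πX : ↥(GX.Z (ρ + 1 + 1)) →ₗ[R] HX)
  (hπX : LinearMap.ker πX = (GX.Bd (ρ + 1)).comap (GX.Z (ρ + 1 + 1)).subtype)
  {HY : Type u} [AddCommGroup HY] [Module S HY] [Module k HY] [IsScalarTower k S HY]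
  (πY : ↥(GY.Z (σ + 1 + 1)) →ₗ[S] HY)
  (hπY : LinearMap.ker πY = (GY.Bd (σ + 1)).comap (GY.Z (σ + 1 + 1)).subtype)

include hvX hvY hπX hπY in
/-- **the class map on the cocycles of the torsion of the total complex** -/
theorem exists_tot_cocycle_map : ∃ Φ : ↥(tZ hT GX GY ρ σ) →ₗ[T] Amb ψ HX HY,
    (∀ (z : ↥(tZ hT GX GY ρ σ)) (u' : ↥(GX.U (ρ + 1)) ⊗[k] ↥(GY.U (σ + 1)))
      (w : BT 𝒜 ℬ GX.X GY.X), w ∈ EcB GX GY (ρ + σ + 2) → w ∈ GamT 𝒜 ℬ GX.X GY.X →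
      tvG hT GX GY (ρ + σ + 2 + 1) z.1 =
          DD GX GY (ιU GX GY (ρ + 1) (σ + 1) u') + DD GX GY w →
        Φ z = PiD GX GY ρ σ πX πY u') ∧
    ∀ z : ↥(tZ hT GX GY ρ σ), Φ z = 0 ↔ z.1 ∈ tB hT GX GY ρ σ := by
  obtain ⟨θ, hθ, hθ0⟩ := exists_theta GX GY ρ σ hvX hvY πX hπX πY hπY
  have hex : ∀ z : ↥(tZ hT GX GY ρ σ), ∃ (u' : ↥(GX.U (ρ + 1)) ⊗[k] ↥(GY.U (σ + 1)))
      (w : BT 𝒜 ℬ GX.X GY.X), w ∈ EcB GX GY (ρ + σ + 2) ∧ w ∈ GamT 𝒜 ℬ GX.X GY.X ∧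
        tvG hT GX GY (ρ + σ + 2 + 1) z.1 =
          DD GX GY (ιU GX GY (ρ + 1) (σ + 1) u') + DD GX GY w := by
    intro z
    have hz := (mem_ZcT GX GY ρ σ).1 (tvG_mem_ZcT hT GX GY ρ σ z)
    exact exists_top_rep GX GY ρ σ hvX hvY hz.1 hz.2.1 hz.2.2
  refine ⟨{ toFun := fun z => θ ⟨tvG hT GX GY (ρ + σ + 2 + 1) z.1, tvG_mem_ZcT hT GX GY ρ σ z⟩
            map_add' := ?_
            map_smul' := ?_ }, ?_, ?_⟩
  · intro z z'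
    have : (⟨tvG hT GX GY (ρ + σ + 2 + 1) (z + z').1, tvG_mem_ZcT hT GX GY ρ σ (z + z')⟩ :
        ↥(ZcT GX GY ρ σ)) = ⟨tvG hT GX GY (ρ + σ + 2 + 1) z.1, tvG_mem_ZcT hT GX GY ρ σ z⟩ +
          ⟨tvG hT GX GY (ρ + σ + 2 + 1) z'.1, tvG_mem_ZcT hT GX GY ρ σ z'⟩ :=
      Subtype.ext (map_add (tvG hT GX GY (ρ + σ + 2 + 1)) z.1 z'.1)
    show θ _ = θ _ + θ _
    rw [this, map_add]
  · intro t z
    obtain ⟨u', w, hw, hwΓ, hzw⟩ := hex z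
    have h1 : tvG hT GX GY (ρ + σ + 2 + 1) (t • z).1 =
        DD GX GY (ιU GX GY (ρ + 1) (σ + 1)
          (GrSeg.act k R S ↥(GX.U (ρ + 1)) ↥(GY.U (σ + 1)) (ψ t) u')) +
        DD GX GY (GrSeg.act k R S GX.B.carrier GY.B.carrier (ψ t) w) := by
      rw [← act_ιU, ← act_DD, ← act_DD, ← map_add, ← hzw]
      rfl
    show θ _ = GrSeg.act k R S HX HY (ψ t) (θ _)
    rw [hθ _ _ _ (act_mem_EcB GX GY (ψ t) _ hw) (act_mem_GamT GX GY (ψ t) hwΓ) h1,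
      hθ _ u' w hw hwΓ hzw, act_PiD]
  · intro z u' w hw hwΓ hzw
    exact hθ _ u' w hw hwΓ hzw
  · intro z
    show θ _ = 0 ↔ _
    rw [hθ0, mem_tB_iff]

end Map

end Groth.Agent.Helper20.Seg
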