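import Mathlib
import Groth.Prelude
import Groth.Agent.Lib.Helper20.GrTK7

/-!
# The top local cohomology of a Segre product: the comparison on the total complex (helper20)
-/

set_option autoImplicit false

open DirectSum TensorProduct

namespace Groth.Agent.Helper20.Seg

open Groth.Agent.Helper20.GrInj Groth.Agent.Helper8 Groth.Agent.Helper20.Kun
  Groth.Agent.Helper20.SegFin Groth.Agent.Helper20.KS

universe u

attribute [local instance] gK gK_tower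

section One

variable {k : Type u} [Field k] {R : Type u} [CommRing R] [Algebra k R]
  {𝒜 : ℤ → Submodule k R} [GradedAlgebra 𝒜]
  {M : Type u} [AddCommGroup M] [Module R M] [Module k M] [IsScalarTower k R M]
  {ℳ : ℤ → AddSubgroup M} [DirectSum.Decomposition ℳ] [SetLike.GradedSMul 𝒜 ℳ]
  (G : NRes 𝒜 ℳ)

/-- homogeneous cocycles of the torsion are differentials of homogeneous elements of `U` -/
theorem NRes.exists_U_of_Z (ρ : ℕ) (n : ℤ) (c : ↥(G.Z (ρ + 1 + 1)))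
    (hc : (c : (G.X (ρ + 1 + 1)).carrier) ∈ (G.X (ρ + 1 + 1)).gr n) :
    ∃ a : ↥(G.U (ρ + 1)), (a : (G.X (ρ + 1)).carrier) ∈ (G.X (ρ + 1)).gr n ∧
      G.dU (ρ + 1) a = c := by
  have h1 : (c : (G.X (ρ + 1 + 1)).carrier) ∈ LinearMap.ker (G.d (ρ + 1 + 1)) := c.2.2
  rw [G.exact_succ (ρ + 1)] at h1
  obtain ⟨y, hy⟩ := h1
  have h2 : G.d (ρ + 1) (decompose (G.X (ρ + 1)).gr y n : (G.X (ρ + 1)).carrier) = c.1 := by
    rw [← decompose_map (G.X (ρ + 1)).gr (G.X (ρ + 1 + 1)).gr (G.d_grHom (ρ + 1)) y n, hy,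
      decompose_of_mem_same _ hc]
  have h3 : (decompose (G.X (ρ + 1)).gr y n : (G.X (ρ + 1)).carrier) ∈ G.U (ρ + 1) := by
    rw [G.mem_U, h2]
    exact c.2.1
  exact ⟨⟨_, h3⟩, (decompose (G.X (ρ + 1)).gr y n).2, Subtype.ext h2⟩

end One

section Map

variable {k : Type u} [Field k] {R S T : Type u} [CommRing R] [CommRing S] [CommRing T]
  [Algebra k R] [Algebra k S] [Algebra k T]
  {𝒜 : ℤ → Submodule k R} [GradedAlgebra 𝒜] {ℬ : ℤ → Submodule k S} [GradedAlgebra ℬ]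
  {𝒯 : ℤ → Submodule k T} [GradedAlgebra 𝒯] {ψ : T →ₐ[k] R ⊗[k] S}
  (hT : GrSeg.IsSegreRing 𝒜 ℬ 𝒯 ψ)
  {M : Type u} [AddCommGroup M] [Module R M] [Module k M] [IsScalarTower k R M]
  {ℳ : ℤ → AddSubgroup M} [DirectSum.Decomposition ℳ] [SetLike.GradedSMul 𝒜 ℳ]
  {N : Type u} [AddCommGroup N] [Module S N] [Module k N] [IsScalarTower k S N]
  {𝒩 : ℤ → AddSubgroup N} [DirectSum.Decomposition 𝒩] [SetLike.GradedSMul ℬ 𝒩]
  (GX : NRes 𝒜 ℳ) (GY : NRes ℬ 𝒩) (ρ σ : ℕ)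
  (hvX : ∀ i n, ρ + 1 < i → HV GX.qsp (i, n) = ⊥)
  (hvY : ∀ j n, σ + 1 < j → HV GY.qsp (j, n) = ⊥)
  {HX : Type u} [AddCommGroup HX] [Module R HX] [Module k HX] [IsScalarTower k R HX]
  (πX : ↥(GX.Z (ρ + 1 + 1)) →ₗ[R] HX)
  (hπX : LinearMap.ker πX = (GX.Bd (ρ + 1)).comap (GX.Z (ρ + 1 + 1)).subtype)
  {HY : Type u} [AddCommGroup HY] [Module S HY] [Module k HY] [IsScalarTower k S HY]
  (πY : ↥(GY.Z (σ + 1 + 1)) →ₗ[S] HY)
  (hπY : LinearMap.ker πY = (GY.Bd (σ + 1)).comap (GY.Z (σ + 1 + 1)).subtype)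
  (ℋX : ℤ → AddSubgroup HX)
  (hℋX : ∀ (n : ℤ) (h : HX), h ∈ ℋX n ↔
    ∃ c : ↥(GX.Z (ρ + 1 + 1)), (c : (GX.X (ρ + 1 + 1)).carrier) ∈ (GX.X (ρ + 1 + 1)).gr n ∧
      πX c = h)
  (ℋY : ℤ → AddSubgroup HY)
  (hℋY : ∀ (n : ℤ) (h : HY), h ∈ ℋY n ↔
    ∃ c : ↥(GY.Z (σ + 1 + 1)), (c : (GY.X (σ + 1 + 1)).carrier) ∈ (GY.X (σ + 1 + 1)).gr n ∧
      πY c = h)

/-- the cocycle of the torsion of the total complex defined by two homogeneous elements of `U` -/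
theorem exists_tZ_of_tmul (n : ℤ) (a : ↥(GX.U (ρ + 1)))
    (ha : (a : (GX.X (ρ + 1)).carrier) ∈ (GX.X (ρ + 1)).gr n) (b : ↥(GY.U (σ + 1)))
    (hb : (b : (GY.X (σ + 1)).carrier) ∈ (GY.X (σ + 1)).gr n) :
    ∃ z : ↥(tZ hT GX GY ρ σ), z.1 ∈ (TG hT GX GY (ρ + σ + 2 + 1)).gr n ∧
      tvG hT GX GY (ρ + σ + 2 + 1) z.1 = DD GX GY (ιU GX GY (ρ + 1) (σ + 1) (a ⊗ₜ[k] b)) := by
  have h1 : ιU GX GY (ρ + 1) (σ + 1) (a ⊗ₜ[k] b) ∈ Eq 𝒜 ℬ GX.X GY.X (ρ + σ + 2) n := by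
    rw [ιU_tmul]
    exact tsp_le_E (by omega : (ρ + 1) + (σ + 1) = ρ + σ + 2) n
      (tmul_mem_tsp (dinc_mem_bpc 𝒜 GX.X ha) (dinc_mem_bpc ℬ GY.X hb))
  have h2 : DD GX GY (ιU GX GY (ρ + 1) (σ + 1) (a ⊗ₜ[k] b)) ∈
      Eq 𝒜 ℬ GX.X GY.X (ρ + σ + 2 + 1) n := DD_Eq GX GY (ρ + σ + 2) n ⟨_, h1, rfl⟩
  have h3 : DD GX GY (ιU GX GY (ρ + 1) (σ + 1) (a ⊗ₜ[k] b)) ∈
      totK 𝒜 ℬ GX.X GY.X (ρ + σ + 2 + 1) :=
    le_iSup (fun n => Eq 𝒜 ℬ GX.X GY.X (ρ + σ + 2 + 1) n) n h2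
  let z : (TG hT GX GY (ρ + σ + 2 + 1)).carrier :=
    mkTot 𝒜 ℬ 𝒯 ψ hT GX.X GY.X (ρ + σ + 2 + 1) _ h3
  have hz1 : z ∈ LC.gam (irr 𝒯) (TG hT GX GY (ρ + σ + 2 + 1)).carrier := by
    rw [tvG_mem_GamT_iff]
    exact DD_ιU_mem_GamT GX GY ρ σ _
  have hz2 : z ∈ LinearMap.ker (tD hT GX GY (ρ + σ + 2 + 1)) := by
    rw [LinearMap.mem_ker]
    apply tv_injective 𝒜 ℬ 𝒯 ψ hT GX.X GY.X
    refine (tvG_tD hT GX GY _ _).trans ?_
    rw [map_zero]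
    exact DD_DD GX GY _
  refine ⟨⟨z, Submodule.mem_inf.2 ⟨hz1, hz2⟩⟩, ?_, rfl⟩
  rw [mem_TotG_gr]
  exact h2

include hvX hvY hπX hπY hℋX hℋY in
/-- **the cohomology of the torsion of the total complex in degree `ρ + σ + 3` is the Segre
product of the cohomologies in degrees `ρ + 2` and `σ + 2`** -/
theorem exists_tot_cohomology_map :
    ∃ Φ : (↥(tZ hT GX GY ρ σ) ⧸ (tB hT GX GY ρ σ).comap (tZ hT GX GY ρ σ).subtype) →ₗ[T]
        Amb ψ HX HY,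
      Function.Injective Φ ∧ ∀ n : ℤ,
        Φ '' {w | ∃ z : ↥(tZ hT GX GY ρ σ), z.1 ∈ (TG hT GX GY (ρ + σ + 2 + 1)).gr n ∧
          Submodule.Quotient.mk z = w} = (GrSeg.segrePiece k ℋX ℋY n : Set (HX ⊗[k] HY)) := by
  obtain ⟨Φ0, hΦ, hΦ0⟩ := exists_tot_cocycle_map hT GX GY ρ σ hvX hvY πX hπX πY hπY
  have hex : ∀ z : ↥(tZ hT GX GY ρ σ), ∃ (u' : ↥(GX.U (ρ + 1)) ⊗[k] ↥(GY.U (σ + 1)))
      (w : BT 𝒜 ℬ GX.X GY.X), w ∈ EcB GX GY (ρ + σ + 2) ∧ w ∈ GamT 𝒜 ℬ GX.X GY.X ∧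
        tvG hT GX GY (ρ + σ + 2 + 1) z.1 =
          DD GX GY (ιU GX GY (ρ + 1) (σ + 1) u') + DD GX GY w := by
    intro z
    have hz := (mem_ZcT GX GY ρ σ).1 (tvG_mem_ZcT hT GX GY ρ σ z)
    exact exists_top_rep GX GY ρ σ hvX hvY hz.1 hz.2.1 hz.2.2
  have hle : (tB hT GX GY ρ σ).comap (tZ hT GX GY ρ σ).subtype ≤ LinearMap.ker Φ0 := by
    intro z hz
    rw [LinearMap.mem_ker, hΦ0]
    exact hz
  have hge : LinearMap.ker Φ0 ≤ (tB hT GX GY ρ σ).comap (tZ hT GX GY ρ σ).subtype := by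
    intro z hz
    rw [LinearMap.mem_ker, hΦ0] at hz
    exact hz
  refine ⟨Submodule.liftQ _ Φ0 hle, ?_, ?_⟩
  · rw [← LinearMap.ker_eq_bot]
    exact Submodule.ker_liftQ_eq_bot _ _ _ hge
  · intro n
    apply Set.Subset.antisymm
    · rintro _ ⟨_, ⟨z, hz, rfl⟩, rfl⟩
      obtain ⟨u', w, hw, hwΓ, hzw⟩ := hex z
      show Submodule.liftQ _ Φ0 hle (Submodule.Quotient.mk z) ∈ _
      rw [Submodule.liftQ_apply]
      rw [mem_TotG_gr] at hz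
      have h1 : tvG hT GX GY (ρ + σ + 2 + 1) z.1 =
          DD GX GY (ιU GX GY (ρ + 1) (σ + 1)
            (TensorProduct.map (GX.pU (ρ + 1) n) (GY.pU (σ + 1) n) u')) +
          DD GX GY (dprojB GX GY n w) := by
        rw [ιU_pU, ← dprojB_DD, ← dprojB_DD, ← map_add, ← hzw]
        exact (dproj_E_same 𝒜 ℬ GX.X GY.X hz).symm
      rw [hΦ z _ _ (dprojB_mem_EcB GX GY n _ hw) (dproj_mem_GamT GX GY n hwΓ) h1]
      exact PiD_pU_mem GX GY ρ σ πX πY ℋX hℋX ℋY hℋY n u'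
    · intro x hx
      have hx' : x ∈ GrSeg.segrePiece k ℋX ℋY n := hx
      clear hx
      induction hx' using Submodule.span_induction with
      | mem x hx =>
        obtain ⟨h, hh, h', hh', rfl⟩ := hx
        obtain ⟨c, hc, rfl⟩ := (hℋX n h).1 hh
        obtain ⟨c', hc', rfl⟩ := (hℋY n h').1 hh'
        obtain ⟨a, ha, rfl⟩ := GX.exists_U_of_Z ρ n c hc
        obtain ⟨b, hb, rfl⟩ := GY.exists_U_of_Z σ n c' hc'
        obtain ⟨z, hz, hzu⟩ := exists_tZ_of_tmul hT GX GY ρ σ n a ha b hb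
        refine ⟨Submodule.Quotient.mk z, ⟨z, hz, rfl⟩, ?_⟩
        rw [Submodule.liftQ_apply, hΦ z (a ⊗ₜ[k] b) 0 (zero_mem _) (zero_mem _)
          (by rw [map_zero, add_zero]; exact hzu)]
        rfl
      | zero => exact ⟨0, ⟨0, zero_mem _, rfl⟩, map_zero _⟩
      | add a b ha' hb' ha hb =>
        obtain ⟨_, ⟨z, hz, rfl⟩, hza⟩ := ha
        obtain ⟨_, ⟨w, hw, rfl⟩, hwb⟩ := hb
        refine ⟨Submodule.Quotient.mk (z + w), ⟨z + w, add_mem hz hw, rfl⟩, ?_⟩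
        rw [← hza, ← hwb, ← map_add]
        rfl
      | smul c a ha' ha =>
        obtain ⟨_, ⟨z, hz, rfl⟩, hza⟩ := ha
        refine ⟨Submodule.Quotient.mk (algebraMap k T c • z),
          ⟨algebraMap k T c • z, ?_, rfl⟩, ?_⟩
        · rw [mem_TotG_gr] at hz ⊢
          have h1 : tvG hT GX GY (ρ + σ + 2 + 1) (algebraMap k T c • z).1 =
              c • tvG hT GX GY (ρ + σ + 2 + 1) z.1 := by
            refine (tv_smul 𝒜 ℬ 𝒯 ψ hT GX.X GY.X _ (algebraMap k T c) z.1).trans ?_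
            rw [AlgHom.commutes, Algebra.algebraMap_eq_smul_one, map_smul, LinearMap.smul_apply,
              act_one]
          rw [h1]
          exact Submodule.smul_mem _ c hz
        · rw [← hza]
          show Submodule.liftQ _ Φ0 hle (algebraMap k T c • Submodule.Quotient.mk z) = _
          rw [map_smul]
          exact algebraMap_smul T c _

end Map

end Groth.Agent.Helper20.Seg
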