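import Mathlib
import Groth.Prelude
import Groth.Agent.Lib.Helper20.GrTK8

/-!
# The top local cohomology of a Segre product (helper20)

`H^{r+s-1}_{T_+}(M # N) ≅ H^r_{R_+}(M) # H^s_{S_+}(N)` as graded `T`-modules when `r, s ≥ 2` and the
local cohomology of `M` and `N` vanishes above `r` and `s`.
-/

set_option autoImplicit false

open DirectSum TensorProduct

namespace Groth.Agent.Helper20.Seg

open Groth.Agent.Helper20.GrInj Groth.Agent.Helper8 Groth.Agent.Helper20.Kun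
  Groth.Agent.Helper20.SegFin Groth.Agent.Helper20.KS

universe u

attribute [local instance] gK gK_tower

section OfStar

variable {k : Type u} [Field k] {R : Type u} [CommRing R] [Algebra k R] [IsNoetherianRing R]
  {𝒜 : ℤ → Submodule k R} [GradedAlgebra 𝒜]
  {M : Type u} [AddCommGroup M] [Module R M]
  {ℳ : ℤ → AddSubgroup M} [DirectSum.Decomposition ℳ] [SetLike.GradedSMul 𝒜 ℳ]

/-- a *injective resolution is a resolution by nice modules -/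
noncomputable def NRes.ofStar (EM : GrLC.StarInjRes 𝒜 ℳ) : NRes 𝒜 ℳ where
  X := EM.X
  d := EM.d
  ε := EM.ε
  d_grHom := EM.d_grHom
  ε_grHom := EM.ε_grHom
  ε_injective := EM.ε_injective
  exact_zero := EM.exact_zero
  exact_succ := EM.exact_succ
  nice n := isNice_of_isStarInj 𝒜 (EM.X n) (EM.starInj n)

end OfStar

section Vanish

variable {k : Type u} [Field k] {R : Type u} [CommRing R] [Algebra k R] [IsNoetherianRing R]
  [Nontrivial R]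
  {𝒜 : ℤ → Submodule k R} [GradedAlgebra 𝒜]
  {M : Type u} [AddCommGroup M] [Module R M] [Module k M] [IsScalarTower k R M]
  {ℳ : ℤ → AddSubgroup M} [DirectSum.Decomposition ℳ] [SetLike.GradedSMul 𝒜 ℳ]
  (G : NRes 𝒜 ℳ) (EM : GrLC.StarInjRes 𝒜 ℳ)

/-- the harmonic parts of the quotient vanish where the local cohomology does -/
theorem NRes.HV_qsp_eq_bot (i : ℕ) (n : ℤ) (h : Subsingleton (EM.H (irrH 𝒜) (i + 2))) :
    HV G.qsp (i + 1, n) = ⊥ := by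
  have hG : ∀ q j : ℕ, Subsingleton (LC.H (irrH 𝒜).toIdeal (j + 1) (G.toGRes.X q).carrier) :=
    fun q j => nice_acyclic 𝒜 (G.X q) (G.nice q) j
  obtain ⟨e, -⟩ := exists_Hcomp_equiv_model EM (irrH 𝒜) G.toGRes hG (G.emb (irrH 𝒜) rfl) (i + 2) n
  obtain ⟨e2⟩ := G.nonempty_Hm_succ_equiv (irrH 𝒜) rfl i n
  haveI : Subsingleton ↥(EM.Hcomp (irrH 𝒜) (i + 2) n) :=
    ⟨fun x y => Subtype.ext (Subsingleton.elim _ _)⟩
  haveI : Subsingleton ((G.emb (irrH 𝒜) rfl).Hm (i + 2) n) := e.symm.injective.subsingleton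
  haveI : Subsingleton ↥(HV G.qsp (i + 1, n)) := e2.symm.injective.subsingleton
  rw [eq_bot_iff]
  intro x hx
  have : (⟨x, hx⟩ : ↥(HV G.qsp (i + 1, n))) = 0 := Subsingleton.elim _ _
  exact congrArg Subtype.val this

end Vanish

section Final

variable {k : Type u} [Field k] {R S T : Type u} [CommRing R] [CommRing S] [CommRing T]
  [Algebra k R] [Algebra k S] [Algebra k T]
  [IsNoetherianRing R] [IsNoetherianRing S] [IsNoetherianRing T] [Nontrivial R] [Nontrivial S]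
  {𝒜 : ℤ → Submodule k R} [GradedAlgebra 𝒜] {ℬ : ℤ → Submodule k S} [GradedAlgebra ℬ]
  {𝒯 : ℤ → Submodule k T} [GradedAlgebra 𝒯] {ψ : T →ₐ[k] R ⊗[k] S}
  (hT : GrSeg.IsSegreRing 𝒜 ℬ 𝒯 ψ)
  {M : Type u} [AddCommGroup M] [Module R M] [Module k M] [IsScalarTower k R M]
  {ℳ : ℤ → AddSubgroup M} [DirectSum.Decomposition ℳ] [SetLike.GradedSMul 𝒜 ℳ]
  {N : Type u} [AddCommGroup N] [Module S N] [Module k N] [IsScalarTower k S N]
  {𝒩 : ℤ → AddSubgroup N} [DirectSum.Decomposition 𝒩] [SetLike.GradedSMul ℬ 𝒩]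
  {P : Type u} [AddCommGroup P] [Module T P] [Module k P] [IsScalarTower k T P]
  {𝒬 : ℤ → AddSubgroup P} [DirectSum.Decomposition 𝒬] [SetLike.GradedSMul 𝒯 𝒬]
  {φ : P →ₗ[k] M ⊗[k] N} (hP : GrSeg.IsSegreMod ψ ℳ 𝒩 𝒬 φ)
  (EM : GrLC.StarInjRes 𝒜 ℳ) (mR : HomogeneousIdeal 𝒜) (hmR : mR.toIdeal = irr 𝒜)
  (EN : GrLC.StarInjRes ℬ 𝒩) (mS : HomogeneousIdeal ℬ) (hmS : mS.toIdeal = irr ℬ)
  (EP : GrLC.StarInjRes 𝒯 𝒬) (mT : HomogeneousIdeal 𝒯) (hmT : mT.toIdeal = irr 𝒯)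
  (ρ σ : ℕ)
  (hvM : ∀ q, ρ + 2 < q → Subsingleton (EM.H mR q))
  (hvN : ∀ q, σ + 2 < q → Subsingleton (EN.H mS q))
  {HX : Type u} [AddCommGroup HX] [Module R HX] [Module k HX] [IsScalarTower k R HX]
  (πX : ↥(EM.cocyc mR (ρ + 2)) →ₗ[R] HX)
  (hπX : LinearMap.ker πX = (EM.cobdy mR (ρ + 2)).comap (EM.cocyc mR (ρ + 2)).subtype)
  (ℋX : ℤ → AddSubgroup HX)
  (hℋX : ∀ (n : ℤ) (h : HX), h ∈ ℋX n ↔
    ∃ z : ↥(EM.cocyc mR (ρ + 2)), (z : (EM.X (ρ + 2)).carrier) ∈ (EM.X (ρ + 2)).gr n ∧ πX z = h)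
  {HY : Type u} [AddCommGroup HY] [Module S HY] [Module k HY] [IsScalarTower k S HY]
  (πY : ↥(EN.cocyc mS (σ + 2)) →ₗ[S] HY)
  (hπY : LinearMap.ker πY = (EN.cobdy mS (σ + 2)).comap (EN.cocyc mS (σ + 2)).subtype)
  (ℋY : ℤ → AddSubgroup HY)
  (hℋY : ∀ (n : ℤ) (h : HY), h ∈ ℋY n ↔
    ∃ z : ↥(EN.cocyc mS (σ + 2)), (z : (EN.X (σ + 2)).carrier) ∈ (EN.X (σ + 2)).gr n ∧ πY z = h)

include hT hP hmR hmS hmT hvM hvN hπX hπY hℋX hℋY in
/-- **`H^{r+s-1}_{T_+}(M # N) ≅ H^r_{R_+}(M) # H^s_{S_+}(N)`** for `r = ρ + 2`, `s = σ + 2`, when the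
local cohomology of `M` vanishes above `r` and that of `N` above `s` -/
theorem exists_H_top_seg_map :
    ∃ Φ : EP.H mT (ρ + σ + 3) →ₗ[T] Amb ψ HX HY, Function.Injective Φ ∧ ∀ n : ℤ,
      Φ '' (EP.Hgr mT (ρ + σ + 3) n : Set (EP.H mT (ρ + σ + 3))) =
        (GrSeg.segrePiece k ℋX ℋY n : Set (HX ⊗[k] HY)) := by
  obtain rfl : mT = irrH 𝒯 := HomogeneousIdeal.toIdeal_injective hmT
  obtain rfl : mR = irrH 𝒜 := HomogeneousIdeal.toIdeal_injective hmR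
  obtain rfl : mS = irrH ℬ := HomogeneousIdeal.toIdeal_injective hmS
  let GX : NRes 𝒜 ℳ := NRes.ofStar EM
  let GY : NRes ℬ 𝒩 := NRes.ofStar EN
  let G := totRes hT hP GX GY
  let E' := StarInjRes.toAddR 𝒯 EP 𝒬 (fun _ _ h => h)
  let m' := HomogeneousIdeal.toAddH 𝒯 (irrH 𝒯)
  have hG : ∀ n j : ℕ, Subsingleton (LC.H m'.toIdeal (j + 1) (G.X n).carrier) := fun n j =>
    totG_acyclic 𝒜 ℬ 𝒯 ψ hT GX.X GY.X GX.nice GY.nice n j
  obtain ⟨ψG, hψG⟩ := G.exists_equiv_of_acyclic E' m' hG (ρ + σ + 3)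
  have hvX : ∀ i n, ρ + 1 < i → HV GX.qsp (i, n) = ⊥ := by
    intro i n hi
    obtain ⟨i', rfl⟩ : ∃ i', i = i' + 1 := ⟨i - 1, by omega⟩
    exact GX.HV_qsp_eq_bot EM i' n (hvM (i' + 2) (by omega))
  have hvY : ∀ j n, σ + 1 < j → HV GY.qsp (j, n) = ⊥ := by
    intro j n hj
    obtain ⟨j', rfl⟩ : ∃ j', j = j' + 1 := ⟨j - 1, by omega⟩
    exact GY.HV_qsp_eq_bot EN j' n (hvN (j' + 2) (by omega))
  obtain ⟨Φ, hΦinj, hΦim⟩ := exists_tot_cohomology_map hT GX GY ρ σ hvX hvY πX hπX πY hπY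
    ℋX hℋX ℋY hℋY
  let Φ' : G.toARes.H m'.toIdeal (ρ + σ + 3) →ₗ[T] Amb ψ HX HY := Φ
  refine ⟨Φ' ∘ₗ ψG.symm.toLinearMap, hΦinj.comp ψG.symm.injective, fun n => ?_⟩
  rw [← hΦim n]
  ext x
  constructor
  · rintro ⟨y, hy, rfl⟩
    have hw : ψG.symm y ∈ G.Hgr m' (ρ + σ + 3) n := by
      rw [hψG n, LinearEquiv.apply_symm_apply]
      exact hy
    exact ⟨ψG.symm y, hw, rfl⟩
  · rintro ⟨w, hw, rfl⟩
    have hw' : w ∈ G.Hgr m' (ρ + σ + 3) n := hw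
    refine ⟨ψG w, (hψG n w).1 hw', ?_⟩
    show Φ' (ψG.symm (ψG w)) = Φ w
    rw [LinearEquiv.symm_apply_apply]
    rfl

end Final

end Groth.Agent.Helper20.Seg
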