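import Mathlib
import Groth.Prelude
import Groth.Agent.Lib.Helper20.GrTK9
import Groth.Agent.Lib.Helper20.GrSoc3

/-!
# Socles of Segre products of graded modules (helper20)
-/

set_option autoImplicit false

open DirectSum TensorProduct

namespace Groth.Agent.Helper20.KS

universe u

section Nondeg

variable {k : Type u} [Field k] {X X' N N' : Type u} [AddCommGroup X] [Module k X]
  [AddCommGroup X'] [Module k X'] [AddCommGroup N] [Module k N] [AddCommGroup N'] [Module k N']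

/-- a tensor is zero as soon as its coordinates are -/
theorem exists_crd_ne_zero {κ : Type u} (𝒞 : Module.Basis κ k N) {u : X ⊗[k] N} (hu : u ≠ 0) :
    ∃ i, crd 𝒞 u i ≠ 0 := by
  by_contra hcon
  push Not at hcon
  apply hu
  apply crd_injective 𝒞
  ext i
  rw [hcon i, map_zero, Finsupp.zero_apply]

/-- a separating family of linear maps on the left factor separates tensors -/
theorem exists_rTensor_ne_zero (P : Set (X →ₗ[k] X'))
    (hP : ∀ x : X, x ≠ 0 → ∃ f ∈ P, f x ≠ 0) {u : X ⊗[k] N} (hu : u ≠ 0) :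
    ∃ f ∈ P, f.rTensor N u ≠ 0 := by
  obtain ⟨⟨κ, 𝒞⟩⟩ := Module.Free.exists_basis (R := k) (M := N)
  obtain ⟨i, hi⟩ := exists_crd_ne_zero 𝒞 hu
  obtain ⟨f, hf, hfi⟩ := hP _ hi
  refine ⟨f, hf, fun h0 => hfi ?_⟩
  rw [← crd_rTensor 𝒞 f u i, h0, map_zero, Finsupp.zero_apply]

/-- a separating family of linear maps on the right factor separates tensors -/
theorem exists_lTensor_ne_zero (Q : Set (N →ₗ[k] N'))
    (hQ : ∀ y : N, y ≠ 0 → ∃ g ∈ Q, g y ≠ 0) {u : X ⊗[k] N} (hu : u ≠ 0) :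
    ∃ g ∈ Q, g.lTensor X u ≠ 0 := by
  have hu' : TensorProduct.comm k X N u ≠ 0 := fun h =>
    hu ((TensorProduct.comm k X N).injective (h.trans (map_zero _).symm))
  obtain ⟨g, hg, hgu⟩ := exists_rTensor_ne_zero Q hQ hu'
  refine ⟨g, hg, fun h0 => hgu ?_⟩
  have key : ∀ v : X ⊗[k] N, g.rTensor X (TensorProduct.comm k X N v) =
      TensorProduct.comm k X N' (g.lTensor X v) := by
    intro v
    induction v using TensorProduct.induction_on with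
    | zero => simp only [map_zero]
    | tmul x y => rfl
    | add a b ha hb => simp only [map_add, ha, hb]
  rw [key, h0, map_zero]

/-- two separating families of linear maps separate tensors -/
theorem exists_map_ne_zero (P : Set (X →ₗ[k] X')) (hP : ∀ x : X, x ≠ 0 → ∃ f ∈ P, f x ≠ 0)
    (Q : Set (N →ₗ[k] N')) (hQ : ∀ y : N, y ≠ 0 → ∃ g ∈ Q, g y ≠ 0) {u : X ⊗[k] N}
    (hu : u ≠ 0) : ∃ f ∈ P, ∃ g ∈ Q, TensorProduct.map f g u ≠ 0 := by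
  obtain ⟨f, hf, hfu⟩ := exists_rTensor_ne_zero P hP hu
  obtain ⟨g, hg, hgu⟩ := exists_lTensor_ne_zero Q hQ hfu
  refine ⟨f, hf, g, hg, ?_⟩
  have : TensorProduct.map f g u = g.lTensor X' (f.rTensor N u) := by
    rw [← LinearMap.comp_apply, LinearMap.lTensor_comp_rTensor]
  rw [this]
  exact hgu

/-- over a field, the tensor product of two nonzero vectors is nonzero -/
theorem tmul_ne_zero_of_ne_zero {x : X} (hx : x ≠ 0) {y : N} (hy : y ≠ 0) : x ⊗ₜ[k] y ≠ 0 := by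
  obtain ⟨⟨κ, 𝒞⟩⟩ := Module.Free.exists_basis (R := k) (M := N)
  have h1 : 𝒞.repr y ≠ 0 := fun h => hy (𝒞.repr.injective (h.trans (map_zero _).symm))
  obtain ⟨i, hi⟩ : ∃ i, 𝒞.repr y i ≠ 0 := by
    by_contra hcon
    push Not at hcon
    exact h1 (Finsupp.ext hcon)
  intro h0
  have h2 := crd_tmul 𝒞 x y i
  rw [h0, map_zero, Finsupp.zero_apply] at h2
  exact smul_ne_zero hi hx h2.symm

end Nondeg

end Groth.Agent.Helper20.KS

namespace Groth.Agent.Helper20.Seg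

open Groth.Agent.Helper20.GrInj Groth.Agent.Helper8 Groth.Agent.Helper20.Kun
  Groth.Agent.Helper20.SegFin Groth.Agent.Helper20.KS

universe u

section Abs

variable {k : Type u} [Field k] {R S T : Type u} [CommRing R] [CommRing S] [CommRing T]
  [Algebra k R] [Algebra k S] [Algebra k T]
  {𝒜 : ℤ → Submodule k R} [GradedAlgebra 𝒜] {ℬ : ℤ → Submodule k S} [GradedAlgebra ℬ]
  {𝒯 : ℤ → Submodule k T} [GradedAlgebra 𝒯] {ψ : T →ₐ[k] R ⊗[k] S}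
  (hT : GrSeg.IsSegreRing 𝒜 ℬ 𝒯 ψ)
  {HX : Type u} [AddCommGroup HX] [Module R HX] [Module k HX] [IsScalarTower k R HX]
  (ℋX : ℤ → AddSubgroup HX)
  (hsmX : ∀ (i j : ℤ) (r : R) (w : HX), r ∈ 𝒜 i → w ∈ ℋX j → r • w ∈ ℋX (i + j))
  {HY : Type u} [AddCommGroup HY] [Module S HY] [Module k HY] [IsScalarTower k S HY]
  (ℋY : ℤ → AddSubgroup HY)
  (hsmY : ∀ (i j : ℤ) (r : S) (w : HY), r ∈ ℬ i → w ∈ ℋY j → r • w ∈ ℋY (i + j))
  {W : Type u} [AddCommGroup W] [Module T W] (𝒲 : ℤ → AddSubgroup W)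
  (Φ : W →ₗ[T] Amb ψ HX HY) (hΦ : Function.Injective Φ)
  (hΦim : ∀ n : ℤ, Φ '' (𝒲 n : Set W) = (GrSeg.segrePiece k ℋX ℋY n : Set (HX ⊗[k] HY)))

include hsmX in
theorem smul_mem_of_hsm (c : k) {n : ℤ} {h : HX} (hh : h ∈ ℋX n) : c • h ∈ ℋX n := by
  rw [← algebraMap_smul R c h]
  have := hsmX 0 n _ h (SetLike.algebraMap_mem_graded 𝒜 c) hh
  rwa [zero_add] at this

/-- the pieces as subspaces -/
def pcK (hk : ∀ (c : k) (n : ℤ) (h : HX), h ∈ ℋX n → c • h ∈ ℋX n) (n : ℤ) : Submodule k HX where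
  carrier := ℋX n
  add_mem' := add_mem
  zero_mem' := zero_mem _
  smul_mem' c _ hw := hk c n _ hw

include hΦim in
theorem Φ_mem_piece {n : ℤ} {w : W} (hw : w ∈ 𝒲 n) :
    (Φ w : HX ⊗[k] HY) ∈ GrSeg.segrePiece k ℋX ℋY n := by
  have : Φ w ∈ Φ '' (𝒲 n : Set W) := ⟨w, hw, rfl⟩
  rw [hΦim n] at this
  exact this

include hΦ hΦim in
/-- a piece of the Segre product vanishes as soon as one of the pieces of the factors does -/
theorem piece_eq_bot_seg {n : ℤ} (h : ℋX n = ⊥ ∨ ℋY n = ⊥) : 𝒲 n = ⊥ := by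
  rw [eq_bot_iff]
  intro w hw
  have h1 := Φ_mem_piece ℋX ℋY 𝒲 Φ hΦim hw
  have h2 : GrSeg.segrePiece k ℋX ℋY n ≤ ⊥ := by
    apply Submodule.span_le.2
    rintro _ ⟨a, ha, b, hb, rfl⟩
    rcases h with h | h
    · rw [h, AddSubgroup.mem_bot] at ha
      rw [ha, TensorProduct.zero_tmul]
      exact zero_mem _
    · rw [h, AddSubgroup.mem_bot] at hb
      rw [hb, TensorProduct.tmul_zero]
      exact zero_mem _
  rw [AddSubgroup.mem_bot]
  apply hΦ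
  rw [map_zero]
  exact (Submodule.mem_bot k).1 (h2 h1)

include hT hΦ hΦim hsmX hsmY in
/-- **nondegeneracy**: if elements of degree `e` separate the pieces of degree `j` of the two
factors, elements of degree `e` of `T` separate the piece of degree `j` of the Segre product -/
theorem exists_smul_ne_zero_seg {e j : ℤ}
    (hX : ∀ h ∈ ℋX j, h ≠ 0 → ∃ r ∈ 𝒜 e, r • h ≠ 0)
    (hY : ∀ g ∈ ℋY j, g ≠ 0 → ∃ r ∈ ℬ e, r • g ≠ 0)
    {w : W} (hw : w ∈ 𝒲 j) (hw0 : w ≠ 0) : ∃ t ∈ 𝒯 e, t • w ≠ 0 := by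
  let VX : Submodule k HX := pcK ℋX (fun c n h hh => smul_mem_of_hsm ℋX hsmX c hh) j
  let VY : Submodule k HY := pcK ℋY (fun c n h hh => smul_mem_of_hsm ℋY hsmY c hh) j
  have h1 : (Φ w : HX ⊗[k] HY) ∈ tsp VX VY := Φ_mem_piece ℋX ℋY 𝒲 Φ hΦim hw
  rw [← range_map_subtype] at h1
  obtain ⟨u, hu⟩ := h1
  have hΦw0 : (Φ w : HX ⊗[k] HY) ≠ 0 := fun h => hw0 (hΦ (h.trans (map_zero Φ).symm))
  have hu0 : u ≠ 0 := by
    rintro rfl
    rw [map_zero] at hu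
    exact hΦw0 hu.symm
  obtain ⟨f, ⟨r, hr, rfl⟩, g, ⟨r', hr', rfl⟩, hfg⟩ := exists_map_ne_zero
    {f : ↥VX →ₗ[k] HX | ∃ r ∈ 𝒜 e, f = (Algebra.lsmul k k HX r) ∘ₗ VX.subtype}
    (by
      intro x hx
      have hx0 : (x : HX) ≠ 0 := fun h => hx (Subtype.ext h)
      obtain ⟨r, hr, hrx⟩ := hX x.1 x.2 hx0
      exact ⟨_, ⟨r, hr, rfl⟩, hrx⟩)
    {g : ↥VY →ₗ[k] HY | ∃ r ∈ ℬ e, g = (Algebra.lsmul k k HY r) ∘ₗ VY.subtype}
    (by
      intro y hy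
      have hy0 : (y : HY) ≠ 0 := fun h => hy (Subtype.ext h)
      obtain ⟨r, hr, hry⟩ := hY y.1 y.2 hy0
      exact ⟨_, ⟨r, hr, rfl⟩, hry⟩) hu0
  obtain ⟨t, ht, htψ⟩ := exists_psi_eq_tmul hT hr hr'
  refine ⟨t, ht, fun h0 => hfg ?_⟩
  have h2 : (Φ (t • w) : HX ⊗[k] HY) = GrSeg.act k R S HX HY (ψ t) (Φ w) := by
    rw [map_smul]
    rfl
  rw [h0, map_zero, htψ, act_tmul_eq_map, ← hu, ← LinearMap.comp_apply,
    ← TensorProduct.map_comp] at h2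
  exact h2.symm

include hΦ hΦim in
/-- if the pieces of degree `n` of the two factors are lines, so is the piece of the Segre
product -/
theorem exists_generator_seg {n : ℤ} {h₀ : HX} (hh₀ : h₀ ∈ ℋX n)
    (hX : ∀ h ∈ ℋX n, ∃ c : k, h = c • h₀) {g₀ : HY} (hg₀ : g₀ ∈ ℋY n)
    (hY : ∀ g ∈ ℋY n, ∃ c : k, g = c • g₀) :
    ∃ w₀ ∈ 𝒲 n, (Φ w₀ : HX ⊗[k] HY) = h₀ ⊗ₜ[k] g₀ ∧
      ∀ w ∈ 𝒲 n, ∃ c : k, w = algebraMap k T c • w₀ := by
  have h1 : h₀ ⊗ₜ[k] g₀ ∈ (GrSeg.segrePiece k ℋX ℋY n : Set (HX ⊗[k] HY)) :=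
    Submodule.subset_span ⟨h₀, hh₀, g₀, hg₀, rfl⟩
  rw [← hΦim n] at h1
  obtain ⟨w₀, hw₀, hΦw₀⟩ := h1
  refine ⟨w₀, hw₀, hΦw₀, fun w hw => ?_⟩
  have h2 := Φ_mem_piece ℋX ℋY 𝒲 Φ hΦim hw
  have h3 : GrSeg.segrePiece k ℋX ℋY n ≤ Submodule.span k {h₀ ⊗ₜ[k] g₀} := by
    apply Submodule.span_le.2
    rintro _ ⟨a, ha, b, hb, rfl⟩
    obtain ⟨c, rfl⟩ := hX a ha
    obtain ⟨c', rfl⟩ := hY b hb
    rw [SetLike.mem_coe, TensorProduct.smul_tmul_smul]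
    exact Submodule.smul_mem _ _ (Submodule.mem_span_singleton_self _)
  obtain ⟨c, hc⟩ := Submodule.mem_span_singleton.1 (h3 h2)
  refine ⟨c, hΦ ?_⟩
  rw [map_smul, algebraMap_smul]
  show (Φ w : HX ⊗[k] HY) = c • (Φ w₀ : HX ⊗[k] HY)
  rw [hΦw₀]
  exact hc.symm

end Abs

end Groth.Agent.Helper20.Seg
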