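import Mathlib
import Groth.Prelude
import Groth.Agent.Lib.Helper20.GrCan5
import Groth.Agent.Lib.Helper20.GrSS1

/-!
# The tensor product of two graded duality pairings (helper20)
-/

set_option autoImplicit false

open DirectSum TensorProduct

namespace Groth.Agent.Helper20.Seg

open Groth.Agent.Helper20.GrInj Groth.Agent.Helper20.Kun Groth.Agent.Helper20.KS

universe u

section Tens

variable {k : Type u} [Field k] {R S : Type u} [CommRing R] [CommRing S]
  [Algebra k R] [Algebra k S]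
  {CR : Type u} [AddCommGroup CR] [Module R CR] [Module k CR] [IsScalarTower k R CR]
  {𝒞R : ℤ → AddSubgroup CR}
  {CS : Type u} [AddCommGroup CS] [Module S CS] [Module k CS] [IsScalarTower k S CS]
  {𝒞S : ℤ → AddSubgroup CS}
  {HX : Type u} [AddCommGroup HX] [Module R HX] [Module k HX] [IsScalarTower k R HX]
  {ℋX : ℤ → AddSubgroup HX}
  {HY : Type u} [AddCommGroup HY] [Module S HY] [Module k HY] [IsScalarTower k S HY]
  {ℋY : ℤ → AddSubgroup HY}
  (BR : KPair k R 𝒞R ℋX) (BS : KPair k S 𝒞S ℋY)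

/-- the tensor product of the two bilinear forms -/
noncomputable def bRS : CR ⊗[k] CS →ₗ[k] HX ⊗[k] HY →ₗ[k] k :=
  (TensorProduct.dualDistrib k HX HY) ∘ₗ (TensorProduct.map BR.b BS.b)

theorem bRS_tmul (c : CR) (c' : CS) (h : HX) (h' : HY) :
    bRS BR BS (c ⊗ₜ[k] c') (h ⊗ₜ[k] h') = BR.b c h * BS.b c' h' := rfl

/-- the tensor form is balanced for the action of `R ⊗ S` -/
theorem bRS_act (x : R ⊗[k] S) (u : CR ⊗[k] CS) (v : HX ⊗[k] HY) :
    bRS BR BS (GrSeg.act k R S CR CS x u) v = bRS BR BS u (GrSeg.act k R S HX HY x v) := by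
  induction x using TensorProduct.induction_on with
  | zero => simp only [map_zero, LinearMap.zero_apply]
  | tmul a b =>
    induction u using TensorProduct.induction_on with
    | zero => simp only [map_zero, LinearMap.zero_apply]
    | tmul c c' =>
      induction v using TensorProduct.induction_on with
      | zero => simp only [map_zero]
      | tmul h h' =>
        rw [GrSeg.act_tmul, GrSeg.act_tmul, bRS_tmul, bRS_tmul, BR.bal, BS.bal]
      | add v v' hv hv' => simp only [map_add, hv, hv']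
    | add u u' hu hu' => simp only [map_add, LinearMap.add_apply, hu, hu']
  | add x x' hx hx' => simp only [map_add, LinearMap.add_apply, hx, hx']

variable (hCR : ∀ (a : k) (n : ℤ) (c : CR), c ∈ 𝒞R n → a • c ∈ 𝒞R n)
  (hCS : ∀ (a : k) (n : ℤ) (c : CS), c ∈ 𝒞S n → a • c ∈ 𝒞S n)
  (hHX : ∀ (a : k) (n : ℤ) (h : HX), h ∈ ℋX n → a • h ∈ ℋX n)
  (hHY : ∀ (a : k) (n : ℤ) (h : HY), h ∈ ℋY n → a • h ∈ ℋY n)

/-- **nondegeneracy of the tensor form** on the pieces of degree `j` -/
theorem eq_zero_of_bRS (j : ℤ) {u : CR ⊗[k] CS}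
    (hu : u ∈ tsp (pcK 𝒞R hCR j) (pcK 𝒞S hCS j))
    (hall : ∀ h ∈ ℋX (-j), ∀ h' ∈ ℋY (-j), bRS BR BS u (h ⊗ₜ[k] h') = 0) : u = 0 := by
  by_contra hu0
  rw [← range_map_subtype] at hu
  obtain ⟨u₀, rfl⟩ := hu
  have hu₀ : u₀ ≠ 0 := by
    rintro rfl
    exact hu0 (map_zero _)
  obtain ⟨f, ⟨h, hh, rfl⟩, g, ⟨h', hh', rfl⟩, hfg⟩ := exists_map_ne_zero
    {f : ↥(pcK 𝒞R hCR j) →ₗ[k] k | ∃ h ∈ ℋX (-j), f = (BR.b.flip h) ∘ₗ (pcK 𝒞R hCR j).subtype}
    (by
      intro x hx
      by_contra hcon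
      push Not at hcon
      apply hx
      apply Subtype.ext
      rw [ZeroMemClass.coe_zero]
      apply BR.nondeg j (x : CR) x.2
      intro h hh
      exact hcon _ ⟨h, hh, rfl⟩)
    {g : ↥(pcK 𝒞S hCS j) →ₗ[k] k | ∃ h' ∈ ℋY (-j), g = (BS.b.flip h') ∘ₗ (pcK 𝒞S hCS j).subtype}
    (by
      intro y hy
      by_contra hcon
      push Not at hcon
      apply hy
      apply Subtype.ext
      rw [ZeroMemClass.coe_zero]
      apply BS.nondeg j (y : CS) y.2
      intro h' hh'
      exact hcon _ ⟨h', hh', rfl⟩) hu₀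
  apply hfg
  have key : ∀ w : ↥(pcK 𝒞R hCR j) ⊗[k] ↥(pcK 𝒞S hCS j),
      TensorProduct.lid k k (TensorProduct.map ((BR.b.flip h) ∘ₗ (pcK 𝒞R hCR j).subtype)
        ((BS.b.flip h') ∘ₗ (pcK 𝒞S hCS j).subtype) w) =
      bRS BR BS (TensorProduct.map (pcK 𝒞R hCR j).subtype (pcK 𝒞S hCS j).subtype w)
        (h ⊗ₜ[k] h') := by
    intro w
    induction w using TensorProduct.induction_on with
    | zero => simp only [map_zero, LinearMap.zero_apply]
    | tmul x y =>
      rw [TensorProduct.map_tmul, TensorProduct.map_tmul, TensorProduct.lid_tmul, bRS_tmul]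
      rfl
    | add a b ha hb => simp only [map_add, LinearMap.add_apply, ha, hb]
  apply (TensorProduct.lid k k).injective
  rw [key, map_zero]
  exact hall h hh h' hh'

end Tens

end Groth.Agent.Helper20.Seg
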