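import Mathlib
import Groth.Prelude
import Groth.Agent.Lib.Helper20.GrCan6

/-!
# The tensor product of two graded duality pairings: representability, and the pairing on the
Segre product (helper20)
-/

set_option autoImplicit false

open DirectSum TensorProduct

namespace Groth.Agent.Helper20.Seg

open Groth.Agent.Helper20.GrInj Groth.Agent.Helper20.Kun Groth.Agent.Helper20.KS

universe u

section Tens

variable {k : Type u} [Field k] {R S : Type u} [CommRing R] [CommRing S]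
  [Algebra k R] [Algebra k S]
  {CR : Type u} [AddCommGroup CR] [Module R CR] [Module k CR] [IsScalarTower k R CR]
  {𝒞R : ℤ → AddSubgroup CR}
  {CS : Type u} [AddCommGroup CS] [Module S CS] [Module k CS] [IsScalarTower k S CS]
  {𝒞S : ℤ → AddSubgroup CS}
  {HX : Type u} [AddCommGroup HX] [Module R HX] [Module k HX] [IsScalarTower k R HX]
  {ℋX : ℤ → AddSubgroup HX}
  {HY : Type u} [AddCommGroup HY] [Module S HY] [Module k HY] [IsScalarTower k S HY]
  {ℋY : ℤ → AddSubgroup HY}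
  (BR : KPair k R 𝒞R ℋX) (BS : KPair k S 𝒞S ℋY)
  (hCR : ∀ (a : k) (n : ℤ) (c : CR), c ∈ 𝒞R n → a • c ∈ 𝒞R n)
  (hCS : ∀ (a : k) (n : ℤ) (c : CS), c ∈ 𝒞S n → a • c ∈ 𝒞S n)
  (hHX : ∀ (a : k) (n : ℤ) (h : HX), h ∈ ℋX n → a • h ∈ ℋX n)
  (hHY : ∀ (a : k) (n : ℤ) (h : HY), h ∈ ℋY n → a • h ∈ ℋY n)

/-- the pairing restricted to the pieces of degrees `j` and `-j` -/
noncomputable def KPair.res (j : ℤ) :
    ↥(pcK 𝒞R hCR j) →ₗ[k] Module.Dual k ↥(pcK ℋX hHX (-j)) :=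
  BR.b.compl₁₂ (pcK 𝒞R hCR j).subtype (pcK ℋX hHX (-j)).subtype

theorem KPair.res_apply (j : ℤ) (c : ↥(pcK 𝒞R hCR j)) (h : ↥(pcK ℋX hHX (-j))) :
    BR.res hCR hHX j c h = BR.b (c : CR) (h : HX) := rfl

theorem KPair.res_surjective (j : ℤ) : Function.Surjective (BR.res hCR hHX j) := by
  intro ℓ
  obtain ⟨g, hg⟩ := LinearMap.exists_extend ℓ
  obtain ⟨c, hc, hcg⟩ := BR.repr j g
  refine ⟨⟨c, hc⟩, ?_⟩
  apply LinearMap.ext
  intro h
  rw [KPair.res_apply]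
  show BR.b c (h : HX) = ℓ h
  rw [hcg (h : HX) h.2, ← hg]
  rfl

include BR in
/-- the pieces of the dual side are finite-dimensional when those of `C` are -/
theorem KPair.finite_piece (j : ℤ) [Module.Finite k ↥(pcK 𝒞R hCR j)] :
    Module.Finite k ↥(pcK ℋX hHX (-j)) := by
  haveI : Module.Finite k (Module.Dual k ↥(pcK ℋX hHX (-j))) :=
    Module.Finite.of_surjective (BR.res hCR hHX j) (BR.res_surjective hCR hHX j)
  exact (Module.finite_dual_iff k).1 inferInstance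

theorem bRS_map_subtype (j : ℤ) (u₀ : ↥(pcK 𝒞R hCR j) ⊗[k] ↥(pcK 𝒞S hCS j))
    (v₀ : ↥(pcK ℋX hHX (-j)) ⊗[k] ↥(pcK ℋY hHY (-j))) :
    bRS BR BS (TensorProduct.map (pcK 𝒞R hCR j).subtype (pcK 𝒞S hCS j).subtype u₀)
      (TensorProduct.map (pcK ℋX hHX (-j)).subtype (pcK ℋY hHY (-j)).subtype v₀) =
    TensorProduct.dualDistrib k _ _
      (TensorProduct.map (BR.res hCR hHX j) (BS.res hCS hHY j) u₀) v₀ := by
  induction u₀ using TensorProduct.induction_on with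
  | zero => simp only [map_zero, LinearMap.zero_apply]
  | tmul c c' =>
    induction v₀ using TensorProduct.induction_on with
    | zero => simp only [map_zero]
    | tmul h h' =>
      rw [TensorProduct.map_tmul, TensorProduct.map_tmul, TensorProduct.map_tmul, bRS_tmul,
        TensorProduct.dualDistrib_apply]
      rfl
    | add v v' hv hv' => simp only [map_add, hv, hv']
  | add u u' hu hu' => simp only [map_add, LinearMap.add_apply, hu, hu']

/-- **representability for the tensor form** -/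
theorem exists_bRS_eq (j : ℤ) [Module.Finite k ↥(pcK 𝒞R hCR j)] [Module.Finite k ↥(pcK 𝒞S hCS j)]
    (L : HX ⊗[k] HY →ₗ[k] k) :
    ∃ u ∈ tsp (pcK 𝒞R hCR j) (pcK 𝒞S hCS j),
      ∀ v ∈ tsp (pcK ℋX hHX (-j)) (pcK ℋY hHY (-j)), bRS BR BS u v = L v := by
  haveI := KPair.finite_piece BR hCR hHX j
  haveI := KPair.finite_piece BS hCS hHY j
  let lam : Module.Dual k (↥(pcK ℋX hHX (-j)) ⊗[k] ↥(pcK ℋY hHY (-j))) :=
    L ∘ₗ TensorProduct.map (pcK ℋX hHX (-j)).subtype (pcK ℋY hHY (-j)).subtype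
  obtain ⟨ξ, hξ⟩ := (TensorProduct.dualDistribEquiv k ↥(pcK ℋX hHX (-j))
    ↥(pcK ℋY hHY (-j))).surjective lam
  have hξ' : TensorProduct.dualDistrib k _ _ ξ = lam := hξ
  obtain ⟨u₀, hu₀⟩ := TensorProduct.map_surjective (BR.res_surjective hCR hHX j)
    (BS.res_surjective hCS hHY j) ξ
  refine ⟨TensorProduct.map (pcK 𝒞R hCR j).subtype (pcK 𝒞S hCS j).subtype u₀, ?_, ?_⟩
  · rw [← range_map_subtype]
    exact ⟨u₀, rfl⟩
  · intro v hv
    rw [← range_map_subtype] at hv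
    obtain ⟨v₀, rfl⟩ := hv
    rw [bRS_map_subtype, hu₀, hξ']
    rfl

end Tens

section SegPair

variable {k : Type u} [Field k] {R S T : Type u} [CommRing R] [CommRing S] [CommRing T]
  [Algebra k R] [Algebra k S] [Algebra k T] {ψ : T →ₐ[k] R ⊗[k] S}
  {CR : Type u} [AddCommGroup CR] [Module R CR] [Module k CR] [IsScalarTower k R CR]
  {𝒞R : ℤ → AddSubgroup CR}
  {CS : Type u} [AddCommGroup CS] [Module S CS] [Module k CS] [IsScalarTower k S CS]
  {𝒞S : ℤ → AddSubgroup CS}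
  {HX : Type u} [AddCommGroup HX] [Module R HX] [Module k HX] [IsScalarTower k R HX]
  {ℋX : ℤ → AddSubgroup HX}
  {HY : Type u} [AddCommGroup HY] [Module S HY] [Module k HY] [IsScalarTower k S HY]
  {ℋY : ℤ → AddSubgroup HY}
  (BR : KPair k R 𝒞R ℋX) (BS : KPair k S 𝒞S ℋY)
  (hCR : ∀ (a : k) (n : ℤ) (c : CR), c ∈ 𝒞R n → a • c ∈ 𝒞R n)
  (hCS : ∀ (a : k) (n : ℤ) (c : CS), c ∈ 𝒞S n → a • c ∈ 𝒞S n)
  (hHX : ∀ (a : k) (n : ℤ) (h : HX), h ∈ ℋX n → a • h ∈ ℋX n)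
  (hHY : ∀ (a : k) (n : ℤ) (h : HY), h ∈ ℋY n → a • h ∈ ℋY n)
  (hfinR : ∀ j : ℤ, Module.Finite k ↥(pcK 𝒞R hCR j))
  (hfinS : ∀ j : ℤ, Module.Finite k ↥(pcK 𝒞S hCS j))
  {P : Type u} [AddCommGroup P] [Module T P] [Module k P] [IsScalarTower k T P]
  {𝒬 : ℤ → AddSubgroup P} [DirectSum.Decomposition 𝒬]
  {φ : P →ₗ[k] CR ⊗[k] CS} (hP : GrSeg.IsSegreMod ψ 𝒞R 𝒞S 𝒬 φ)
  {W : Type u} [AddCommGroup W] [Module T W] [Module k W] [IsScalarTower k T W]
  {𝒲 : ℤ → AddSubgroup W}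
  (Φ : W →ₗ[T] Amb ψ HX HY) (hΦ : Function.Injective Φ)
  (hΦim : ∀ n : ℤ, Φ '' (𝒲 n : Set W) = (GrSeg.segrePiece k ℋX ℋY n : Set (HX ⊗[k] HY)))

/-- a `T`-linear map to the ambient tensor product, as a `k`-linear map -/
noncomputable def toK : W →ₗ[k] HX ⊗[k] HY where
  toFun := fun w => Φ w
  map_add' := fun x y => Φ.map_add x y
  map_smul' := by
    intro c x
    show Φ (c • x) = c • (Φ x : Amb ψ HX HY)
    rw [← algebraMap_smul T c x, map_smul, algebraMap_smul]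

theorem toK_apply (w : W) : toK Φ w = (Φ w : HX ⊗[k] HY) := rfl

include hΦ hΦim in
/-- **the duality pairing on a Segre product** -/
noncomputable def KPair.seg : KPair k T 𝒬 𝒲 where
  b := (bRS BR BS).compl₁₂ φ (toK Φ)
  bal := by
    intro t p w
    show bRS BR BS (φ (t • p)) (Φ w : HX ⊗[k] HY) = bRS BR BS (φ p) (Φ (t • w) : HX ⊗[k] HY)
    rw [hP.map_smul, bRS_act, map_smul]
    rfl
  nondeg := by
    intro j p hp hall
    apply hP.injective
    rw [map_zero]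
    have hφp : φ p ∈ tsp (pcK 𝒞R hCR j) (pcK 𝒞S hCS j) := by
      have : φ p ∈ φ '' (𝒬 j : Set P) := ⟨p, hp, rfl⟩
      rw [hP.image_piece j] at this
      exact this
    apply eq_zero_of_bRS BR BS hCR hCS j hφp
    intro h hh h' hh'
    have hm : h ⊗ₜ[k] h' ∈ (GrSeg.segrePiece k ℋX ℋY (-j) : Set (HX ⊗[k] HY)) :=
      Submodule.subset_span ⟨h, hh, h', hh', rfl⟩
    rw [← hΦim (-j)] at hm
    obtain ⟨w, hw, hwe⟩ := hm
    have := hall w hw
    have h2 : bRS BR BS (φ p) (Φ w : HX ⊗[k] HY) = 0 := this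
    rw [hwe] at h2
    exact h2
  repr := by
    intro j ℓ
    haveI := hfinR j
    haveI := hfinS j
    have hinj : Function.Injective (toK Φ) := fun x y hxy => hΦ hxy
    obtain ⟨g, hg⟩ := LinearMap.exists_leftInverse_of_injective (toK Φ)
      (LinearMap.ker_eq_bot.2 hinj)
    obtain ⟨u, hu, huL⟩ := exists_bRS_eq BR BS hCR hCS hHX hHY j (ℓ ∘ₗ g)
    have hu' : u ∈ (GrSeg.segrePiece k 𝒞R 𝒞S j : Set (CR ⊗[k] CS)) := hu
    rw [← hP.image_piece j] at hu'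
    obtain ⟨p, hp, rfl⟩ := hu'
    refine ⟨p, hp, fun w hw => ?_⟩
    have hΦw : (Φ w : HX ⊗[k] HY) ∈ tsp (pcK ℋX hHX (-j)) (pcK ℋY hHY (-j)) := by
      have : Φ w ∈ Φ '' (𝒲 (-j) : Set W) := ⟨w, hw, rfl⟩
      rw [hΦim (-j)] at this
      exact this
    have h1 := huL _ hΦw
    show bRS BR BS (φ p) (Φ w : HX ⊗[k] HY) = ℓ w
    rw [h1, LinearMap.comp_apply]
    have h2 : g (toK Φ w) = w := congrArg (fun f => f w) hg
    rw [← toK_apply, h2]

end SegPair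

end Groth.Agent.Helper20.Seg
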