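import Mathlib

/-!
# Polynomial antidifferences (helper20)
-/

namespace Groth.Agent.Helper20.GrInj

open Polynomial

/-- every rational polynomial of degree `< k` is the backward difference of a polynomial of degree
`< k + 1` -/
theorem exists_antidiff (k : ℕ) : ∀ Q : ℚ[X], Q.degree < k →
    ∃ S : ℚ[X], S.degree < (k + 1 : ℕ) ∧ ∀ x : ℚ, S.eval x - S.eval (x - 1) = Q.eval x := by
  induction k with
  | zero =>
    intro Q hQ
    have : Q = 0 := by
      rw [← Polynomial.degree_eq_bot]
      simpa using hQ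
    subst this
    exact ⟨0, by simp, fun x => by simp⟩
  | succ k ih =>
    intro Q hQ
    set c : ℚ := Q.coeff k with hc
    set T : ℚ[X] := X ^ (k + 1) - (X + C (-1 : ℚ)) ^ (k + 1) with hT
    have hTcoeff : ∀ j, k + 1 ≤ j → T.coeff j = 0 := by
      intro j hj
      rw [hT, coeff_sub, coeff_X_pow, coeff_X_add_C_pow]
      rcases eq_or_lt_of_le hj with h | h
      · subst h; simp
      · rw [if_neg (by omega), Nat.choose_eq_zero_of_lt h]; simp
    have hTk : T.coeff k = (k + 1 : ℚ) := by
      rw [hT, coeff_sub, coeff_X_pow, coeff_X_add_C_pow, if_neg (by omega)]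
      have : k + 1 - k = 1 := by omega
      rw [this, Nat.choose_succ_self_right]
      push_cast; ring
    set Q₁ : ℚ[X] := Q - C (c / (k + 1)) * T with hQ₁
    have hQ₁deg : Q₁.degree < k := by
      rw [degree_lt_iff_coeff_zero]
      intro j hj
      rw [hQ₁, coeff_sub, coeff_C_mul]
      rcases eq_or_lt_of_le hj with h | h
      · subst h
        rw [hTk, ← hc]
        have : (k + 1 : ℚ) ≠ 0 := by positivity
        field_simp
        ring
      · rw [hTcoeff j h, (degree_lt_iff_coeff_zero Q (k + 1)).1 hQ j h]; simp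
    obtain ⟨S₁, hS₁deg, hS₁⟩ := ih Q₁ hQ₁deg
    refine ⟨S₁ + C (c / (k + 1)) * X ^ (k + 1), ?_, fun x => ?_⟩
    · refine lt_of_le_of_lt (degree_add_le _ _) (max_lt ?_ ?_)
      · exact lt_trans hS₁deg (by exact_mod_cast Nat.lt_succ_self (k + 1))
      · refine lt_of_le_of_lt (degree_C_mul_X_pow_le _ _) ?_
        exact_mod_cast Nat.lt_succ_self (k + 1)
    · have h1 := hS₁ x
      have h2 : T.eval x = x ^ (k + 1) - (x - 1) ^ (k + 1) := by
        rw [hT]; simp [sub_eq_add_neg]
      have h3 : Q₁.eval x = Q.eval x - c / (k + 1) * T.eval x := by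
        rw [hQ₁]; simp
      simp only [eval_add, eval_mul, eval_C, eval_pow, eval_X]
      rw [h3, h2] at h1
      linarith

/-- a function on `ℤ` whose backward difference is a polynomial of degree `< k` is a polynomial
of degree `< k + 1` -/
theorem exists_poly_of_diff (f : ℤ → ℚ) (Q : ℚ[X]) (k : ℕ) (hQ : Q.degree < k)
    (h : ∀ n : ℤ, f n - f (n - 1) = Q.eval (n : ℚ)) :
    ∃ S : ℚ[X], S.degree < (k + 1 : ℕ) ∧ ∀ n : ℤ, f n = S.eval (n : ℚ) := by
  obtain ⟨S₀, hS₀deg, hS₀⟩ := exists_antidiff k Q hQ
  set g : ℤ → ℚ := fun n => f n - S₀.eval (n : ℚ) with hg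
  have hstep : ∀ n : ℤ, g n = g (n - 1) := by
    intro n
    have h1 := h n
    have h2 := hS₀ (n : ℚ)
    simp only [hg]
    push_cast
    linarith
  have hconst : ∀ n : ℤ, g n = g 0 := by
    intro n
    induction n using Int.induction_on with
    | zero => rfl
    | succ i ih =>
      have := hstep ((i : ℤ) + 1)
      rw [add_sub_cancel_right] at this
      rw [this, ih]
    | pred i ih =>
      have := hstep (-(i : ℤ))
      rw [← ih, this]
  refine ⟨S₀ + C (g 0), ?_, fun n => ?_⟩
  · refine lt_of_le_of_lt (degree_add_le _ _) (max_lt hS₀deg ?_)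
    refine lt_of_le_of_lt degree_C_le ?_
    exact_mod_cast Nat.succ_pos k
  · have := hconst n
    simp only [hg] at this
    simp only [eval_add, eval_C]
    simp only [hg]
    linarith

end Groth.Agent.Helper20.GrInj
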