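import Mathlib
import Groth.Agent.Lib.Helper20.GrSG5
import Groth.Agent.Lib.Helper20.GrSG4
import Groth.Agent.Lib.Helper20.GrCx3
import Groth.Agent.Lib.Helper20.GrCx4
import Groth.Agent.Lib.Helper20.GrHull2

/-!
# `χ` is independent of the resolution, shifts, and the regular-element step (helper20)
-/

open DirectSum

namespace Groth.Agent.Helper20.GrInj

open Groth.Agent.Helper8

universe u

variable {R : Type u} [CommRing R]
variable {𝒜 : ℤ → AddSubgroup R} [GradedRing 𝒜]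

section Indep

variable {M : Type u} [AddCommGroup M] [Module R M] {ℳ : ℤ → AddSubgroup M}
  [DirectSum.Decomposition ℳ] [SetLike.GradedSMul 𝒜 ℳ]

/-- `χ` does not depend on the resolution -/
theorem chi_indep [IsNoetherianRing R] [IsArtinianRing (GrLC.deg0 𝒜)] [Module.Finite R M]
    (m : HomogeneousIdeal 𝒜) [m.toIdeal.IsMaximal] (d : ℕ) (hd : ringKrullDim R = d)
    (E₁ E₂ : GrLC.StarInjRes 𝒜 ℳ) (n : ℤ) : chi d E₁ m n = chi d E₂ m n := by
  have hΓ : GrLC.gam m.toIdeal PUnit.{u + 1} = ⊤ := by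
    rw [eq_top_iff]; intro x _; exact ⟨0, fun r _ => Subsingleton.elim _ _⟩
  have h := chi_add (ℳ' := ℳ) (ℳ := ℳ) (ℳ'' := zeroGr.{u} ℤ) m d hd LinearMap.id
    (0 : M →ₗ[R] PUnit.{u + 1}) (fun _ _ h => h) (fun _ _ _ => zero_mem _)
    Function.injective_id (by
      rw [LinearMap.range_id, eq_comm, eq_top_iff]
      intro x _
      exact LinearMap.mem_ker.2 rfl)
    (fun x => ⟨0, Subsingleton.elim _ _⟩) E₁ E₂ (starInjRes 𝒜 (zeroGr.{u} ℤ)) n
  rw [chi_eq_zero_of_gam_eq_top d _ m hΓ n, add_zero] at h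
  exact h.symm

theorem chi_shift (d : ℕ) (E : GrLC.StarInjRes 𝒜 ℳ) (m : HomogeneousIdeal 𝒜) (g n : ℤ) :
    chi d (resShift E g) m n = chi d E m (n + g) := by
  unfold chi
  have h1 : plen (𝒜 := 𝒜) (shiftGr ℳ g) n = plen (𝒜 := 𝒜) ℳ (n + g) := by
    unfold plen
    have : GrLC.comp 𝒜 (shiftGr ℳ g) n = GrLC.comp 𝒜 ℳ (n + g) := Submodule.ext (fun _ => Iff.rfl)
    rw [this]
  have h2 : ∀ i, hlen (resShift E g) m i n = hlen E m i (n + g) := by
    intro i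
    unfold hlen
    have : (resShift E g).Hcomp m i n = E.Hcomp m i (n + g) :=
      Submodule.ext (fun x => mem_resShift_Hcomp E g m i n x)
    rw [this]
    rfl
  rw [h1]
  simp only [h2]

end Indep

section Regular

variable {M : Type u} [AddCommGroup M] [Module R M] (ℳ : ℤ → AddSubgroup M)
  [DirectSum.Decomposition ℳ] [SetLike.GradedSMul 𝒜 ℳ]

/-- the submodule `yM` -/
abbrev smulRange (y : R) : Submodule R M := LinearMap.range (LinearMap.lsmul R M y)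

theorem smulRange_isHomogeneous {y : R} {g : ℤ} (hy : y ∈ 𝒜 g) :
    (smulRange (M := M) y).IsHomogeneous ℳ :=
  range_isHomogeneous (shiftGr ℳ (-g)) ℳ (lsmul_isGrHom_shift (𝒜 := 𝒜) (ℳ := ℳ) hy)

/-- **the regular element step**: if `y ∈ R₁` is `M`-regular and `χ_{M/yM}` is a polynomial of
degree `< k`, then `χ_M` is a polynomial of degree `< k + 1`. -/
theorem SG_of_regular [IsNoetherianRing R] [IsArtinianRing (GrLC.deg0 𝒜)] [Module.Finite R M]
    (m : HomogeneousIdeal 𝒜) [m.toIdeal.IsMaximal] (d : ℕ) (hd : ringKrullDim R = d)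
    {y : R} (hy : y ∈ 𝒜 1) (hreg : IsSMulRegular M y) (k : ℕ)
    (hQ : ∃ Q : Polynomial ℚ, Q.degree < k ∧
      ∀ (E : GrLC.StarInjRes 𝒜 (quotGMod ℳ 𝒜 (smulRange (M := M) y)
        (smulRange_isHomogeneous ℳ hy)).gr) (n : ℤ), chi d E m n = Q.eval (n : ℚ)) :
    ∃ S : Polynomial ℚ, S.degree < (k + 1 : ℕ) ∧
      ∀ (E : GrLC.StarInjRes 𝒜 ℳ) (n : ℤ), chi d E m n = S.eval (n : ℚ) := by
  obtain ⟨Q, hQdeg, hQ⟩ := hQ
  set P := smulRange (M := M) y with hP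
  have hPh := smulRange_isHomogeneous (𝒜 := 𝒜) ℳ hy
  set Qm := quotGMod ℳ 𝒜 P hPh with hQm
  haveI : Module.Finite R Qm.carrier :=
    Module.Finite.of_surjective (quotMk 𝒜 ℳ P hPh) (quotMk_surjective 𝒜 ℳ P hPh)
  let E₀ := starInjRes 𝒜 ℳ
  let E'' := starInjRes 𝒜 Qm.gr
  have hdiff : ∀ n : ℤ, chi d E₀ m n - chi d E₀ m (n - 1) = Q.eval (n : ℚ) := by
    intro n
    have h := chi_add (ℳ' := shiftGr ℳ (-1)) (ℳ := ℳ) (ℳ'' := Qm.gr) m d hd
      (LinearMap.lsmul R M y) (quotMk 𝒜 ℳ P hPh)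
      (lsmul_isGrHom_shift (𝒜 := 𝒜) (ℳ := ℳ) hy) (quotMk_grHom 𝒜 ℳ P hPh) hreg
      (quotMk_ker 𝒜 ℳ P hPh).symm (quotMk_surjective 𝒜 ℳ P hPh)
      (resShift E₀ (-1)) E₀ E'' n
    rw [chi_shift, hQ E'' n] at h
    rw [h]
    have : n + -1 = n - 1 := by ring
    rw [this]
    ring
  obtain ⟨S, hSdeg, hS⟩ := exists_poly_of_diff (fun n => chi d E₀ m n) Q k hQdeg hdiff
  refine ⟨S, hSdeg, fun E n => ?_⟩
  rw [chi_indep m d hd E E₀ n]
  exact hS n

end Regular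

end Groth.Agent.Helper20.GrInj
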