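import Mathlib
import Groth.Agent.Lib.Helper20.GrPrime5
import Groth.Agent.Lib.Helper20.GrHull2
import Groth.Agent.Lib.Helper20.GrInj4

/-!
# Graded dévissage: Noetherian induction for finitely generated graded modules (helper20)
-/

open DirectSum

namespace Groth.Agent.Helper20.GrInj

universe u

variable {R : Type u} [CommRing R]
variable {𝒜 : ℤ → AddSubgroup R} [GradedRing 𝒜]

theorem subGMod_finite [IsNoetherianRing R] (Y : GrLC.GMod.{u} 𝒜) [Module.Finite R Y.carrier]
    (N : Submodule R Y.carrier) (hN : N.IsHomogeneous Y.gr) :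
    Module.Finite R (subGMod Y.gr 𝒜 N hN).carrier := by
  haveI : IsNoetherian R Y.carrier := isNoetherian_of_isNoetherianRing_of_finite R Y.carrier
  exact (inferInstance : Module.Finite R ↥N)

theorem quotGMod_finite (Y : GrLC.GMod.{u} 𝒜) [Module.Finite R Y.carrier]
    (N : Submodule R Y.carrier) (hN : N.IsHomogeneous Y.gr) :
    Module.Finite R (quotGMod Y.gr 𝒜 N hN).carrier :=
  Module.Finite.of_surjective (quotMk 𝒜 Y.gr N hN) (quotMk_surjective 𝒜 Y.gr N hN)

/-- **graded dévissage** -/
theorem gmod_induction [IsNoetherianRing R] (Pr : GrLC.GMod.{u} 𝒜 → Prop)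
    (hzero : ∀ Y : GrLC.GMod.{u} 𝒜, Subsingleton Y.carrier → Pr Y)
    (hexact : ∀ (Y' Y Y'' : GrLC.GMod.{u} 𝒜) [Module.Finite R Y'.carrier]
      [Module.Finite R Y.carrier] [Module.Finite R Y''.carrier]
      (α : Y'.carrier →ₗ[R] Y.carrier) (β : Y.carrier →ₗ[R] Y''.carrier),
      GrLC.IsGrHom Y'.gr Y.gr α → GrLC.IsGrHom Y.gr Y''.gr β → Function.Injective α →
      LinearMap.range α = LinearMap.ker β → Function.Surjective β → Pr Y' → Pr Y'' → Pr Y)
    (hprime : ∀ (Y : GrLC.GMod.{u} 𝒜) [Module.Finite R Y.carrier] (g : ℤ) (x : Y.carrier),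
      x ∈ Y.gr g → Submodule.span R {x} = ⊤ → ((R ∙ x).annihilator).IsPrime →
      (∀ (Z : GrLC.GMod.{u} 𝒜) [Module.Finite R Z.carrier] (J : Ideal R),
        (R ∙ x).annihilator < J → (∀ r ∈ J, ∀ z : Z.carrier, r • z = 0) → Pr Z) → Pr Y) :
    ∀ (Y : GrLC.GMod.{u} 𝒜) [Module.Finite R Y.carrier], Pr Y := by
  have claim : ∀ I : Ideal R, ∀ (Y : GrLC.GMod.{u} 𝒜) [Module.Finite R Y.carrier],
      (∀ r ∈ I, ∀ y : Y.carrier, r • y = 0) → Pr Y := by
    intro I
    induction I using WellFoundedGT.induction with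
    | ind I ih =>
      intro Y _ hIY
      haveI : IsNoetherian R Y.carrier := isNoetherian_of_isNoetherianRing_of_finite R Y.carrier
      let S : Set (Submodule R Y.carrier) :=
        {N | ∃ hN : N.IsHomogeneous Y.gr, Pr (subGMod Y.gr 𝒜 N hN)}
      have hbot : (⊥ : Submodule R Y.carrier) ∈ S :=
        ⟨bot_isHomogeneous Y.gr, hzero _ (inferInstanceAs (Subsingleton ↥(⊥ : Submodule R Y.carrier)))⟩
      obtain ⟨N₀, ⟨hN₀h, hN₀P⟩, hN₀max⟩ :=
        (set_has_maximal_iff_noetherian (R := R) (M := Y.carrier)).2 inferInstance S ⟨⊥, hbot⟩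
      by_cases htop : N₀ = ⊤
      · -- `Pr Y` from `Pr (subGMod ⊤)`
        haveI := subGMod_finite Y N₀ hN₀h
        haveI := quotGMod_finite Y N₀ hN₀h
        refine hexact (subGMod Y.gr 𝒜 N₀ hN₀h) Y (quotGMod Y.gr 𝒜 N₀ hN₀h)
          (subVal 𝒜 Y.gr N₀ hN₀h) (quotMk 𝒜 Y.gr N₀ hN₀h) (subVal_grHom 𝒜 Y.gr N₀ hN₀h)
          (quotMk_grHom 𝒜 Y.gr N₀ hN₀h) (subVal_injective 𝒜 Y.gr N₀ hN₀h)
          (by rw [subVal_range, quotMk_ker]) (quotMk_surjective 𝒜 Y.gr N₀ hN₀h) hN₀P ?_
        apply hzero
        constructor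
        intro a b
        obtain ⟨a', rfl⟩ := quotMk_surjective 𝒜 Y.gr N₀ hN₀h a
        obtain ⟨b', rfl⟩ := quotMk_surjective 𝒜 Y.gr N₀ hN₀h b
        rw [← sub_eq_zero, ← map_sub, quotMk_eq_zero_iff, htop]
        trivial
      · exfalso
        -- the quotient `Ȳ = Y / N₀`
        set Yb := quotGMod Y.gr 𝒜 N₀ hN₀h with hYb
        set π := quotMk 𝒜 Y.gr N₀ hN₀h with hπ
        have hπgr := quotMk_grHom 𝒜 Y.gr N₀ hN₀h
        have hπs := quotMk_surjective 𝒜 Y.gr N₀ hN₀h
        haveI : Nontrivial Yb.carrier := by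
          obtain ⟨y, -, hy⟩ := SetLike.exists_of_lt (lt_top_iff_ne_top.2 htop)
          refine ⟨⟨π y, 0, ?_⟩⟩
          rw [Ne, quotMk_eq_zero_iff]
          exact hy
        obtain ⟨g, xb, hxbg, hxb0, hprim⟩ := exists_homog_annihilator_isPrime 𝒜 Yb.gr
        set C : Submodule R Yb.carrier := Submodule.span R {xb} with hC
        have hCh : C.IsHomogeneous Yb.gr := span_singleton_isHomogeneous 𝒜 Yb.gr hxbg
        set N' : Submodule R Y.carrier := C.comap π with hN'
        have hN'h : N'.IsHomogeneous Y.gr := comap_isHomogeneous Y.gr Yb.gr hπgr hCh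
        have hN₀N' : N₀ ≤ N' := by
          intro y hy
          rw [hN', Submodule.mem_comap, (quotMk_eq_zero_iff 𝒜 Y.gr N₀ hN₀h).2 hy]
          exact zero_mem _
        -- the three terms
        let Y1 := subGMod Y.gr 𝒜 N₀ hN₀h
        let Y2 := subGMod Y.gr 𝒜 N' hN'h
        let Y3 := subGMod Yb.gr 𝒜 C hCh
        haveI : Module.Finite R Y1.carrier := subGMod_finite Y N₀ hN₀h
        haveI : Module.Finite R Y2.carrier := subGMod_finite Y N' hN'h
        haveI : Module.Finite R Yb.carrier := quotGMod_finite Y N₀ hN₀h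
        haveI : Module.Finite R Y3.carrier := subGMod_finite Yb C hCh
        let α : Y1.carrier →ₗ[R] Y2.carrier := subLift 𝒜 Y.gr N' hN'h (subVal 𝒜 Y.gr N₀ hN₀h)
          (fun z => hN₀N' (subVal_mem 𝒜 Y.gr N₀ hN₀h z))
        have hαgr : GrLC.IsGrHom Y1.gr Y2.gr α :=
          subLift_grHom 𝒜 Y.gr N' hN'h Y1.gr _ _ (subVal_grHom 𝒜 Y.gr N₀ hN₀h)
        let β : Y2.carrier →ₗ[R] Y3.carrier := subLift 𝒜 Yb.gr C hCh
          (π.comp (subVal 𝒜 Y.gr N' hN'h)) (fun z => subVal_mem 𝒜 Y.gr N' hN'h z)
        have hβgr : GrLC.IsGrHom Y2.gr Y3.gr β :=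
          subLift_grHom 𝒜 Yb.gr C hCh Y2.gr _ _
            (fun j z hz => hπgr j _ (subVal_grHom 𝒜 Y.gr N' hN'h j z hz))
        have hαinj : Function.Injective α := by
          intro a b hab
          apply subVal_injective 𝒜 Y.gr N₀ hN₀h
          have := congrArg (subVal 𝒜 Y.gr N' hN'h) hab
          rwa [subVal_subLift, subVal_subLift] at this
        have hβval : ∀ z, subVal 𝒜 Yb.gr C hCh (β z) = π (subVal 𝒜 Y.gr N' hN'h z) :=
          fun z => rfl
        have hex : LinearMap.range α = LinearMap.ker β := by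
          ext z
          rw [LinearMap.mem_ker]
          constructor
          · rintro ⟨a, rfl⟩
            apply subVal_injective 𝒜 Yb.gr C hCh
            rw [hβval, map_zero, subVal_subLift, quotMk_eq_zero_iff]
            exact subVal_mem 𝒜 Y.gr N₀ hN₀h a
          · intro hz
            have h1 := congrArg (subVal 𝒜 Yb.gr C hCh) hz
            rw [hβval, map_zero, quotMk_eq_zero_iff] at h1
            refine ⟨⟨subVal 𝒜 Y.gr N' hN'h z, h1⟩, ?_⟩
            apply subVal_injective 𝒜 Y.gr N' hN'h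
            rw [subVal_subLift]
            rfl
        have hβs : Function.Surjective β := by
          intro c
          obtain ⟨y, hy⟩ := hπs (subVal 𝒜 Yb.gr C hCh c)
          have hyN' : y ∈ N' := by
            rw [hN', Submodule.mem_comap, hy]
            exact subVal_mem 𝒜 Yb.gr C hCh c
          refine ⟨⟨y, hyN'⟩, ?_⟩
          apply subVal_injective 𝒜 Yb.gr C hCh
          rw [hβval]
          exact hy
        -- `Pr Y3` from the prime case
        have hIp : I ≤ (R ∙ xb).annihilator := by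
          intro r hr
          rw [Submodule.mem_annihilator_span_singleton]
          obtain ⟨y, rfl⟩ := hπs xb
          rw [← map_smul, hIY r hr y, map_zero]
        have hxbC : xb ∈ C := Submodule.mem_span_singleton_self xb
        let x3 : Y3.carrier := ⟨xb, hxbC⟩
        have hann : (R ∙ x3).annihilator = (R ∙ xb).annihilator := by
          ext r
          rw [Submodule.mem_annihilator_span_singleton, Submodule.mem_annihilator_span_singleton]
          constructor
          · intro h
            have := congrArg (subVal 𝒜 Yb.gr C hCh) h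
            rwa [map_smul, map_zero] at this
          · intro h
            apply subVal_injective 𝒜 Yb.gr C hCh
            rw [map_smul, map_zero]
            exact h
        have hspan : Submodule.span R {x3} = ⊤ := by
          rw [eq_top_iff]
          intro c _
          have hc : subVal 𝒜 Yb.gr C hCh c ∈ C := subVal_mem 𝒜 Yb.gr C hCh c
          obtain ⟨r, hr⟩ := Submodule.mem_span_singleton.1 hc
          rw [Submodule.mem_span_singleton]
          refine ⟨r, ?_⟩
          apply subVal_injective 𝒜 Yb.gr C hCh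
          rw [map_smul]
          exact hr
        have hP3 : Pr Y3 := by
          refine hprime Y3 g x3 hxbg hspan (by rw [hann]; exact hprim) ?_
          intro Z _ J hJ hJZ
          rw [hann] at hJ
          exact ih J (lt_of_le_of_lt hIp hJ) Z hJZ
        have hP2 : Pr Y2 := hexact Y1 Y2 Y3 α β hαgr hβgr hαinj hex hβs hN₀P hP3
        -- contradiction with maximality
        obtain ⟨y, hy⟩ := hπs xb
        have hyN' : y ∈ N' := by rw [hN', Submodule.mem_comap, hy]; exact hxbC
        have hyN₀ : y ∉ N₀ := by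
          intro h
          apply hxb0
          rw [← hy, quotMk_eq_zero_iff]
          exact h
        exact hN₀max N' ⟨hN'h, hP2⟩ (lt_of_le_of_ne hN₀N' (fun h => hyN₀ (h ▸ hyN')))
  intro Y _
  exact claim ⊥ Y (fun r hr y => by rw [Ideal.mem_bot.1 hr, zero_smul])

end Groth.Agent.Helper20.GrInj
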