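import Mathlib
import Groth.Agent.Lib.Helper20.GrSG6
import Groth.Agent.Lib.Helper20.GrSG7
import Groth.Agent.Lib.Helper20.GrHt4

/-!
# The Serre–Grothendieck formula: `χ_M` is a polynomial of degree `< dim` (helper20)
-/

open DirectSum

namespace Groth.Agent.Helper20.GrInj

open Groth.Agent.Helper8

universe u

variable {R : Type u} [CommRing R]
variable {𝒜 : ℤ → AddSubgroup R} [GradedRing 𝒜]

section PrimeMax

theorem pos_mem_of_deg_one_mem
    (hstd : Ideal.span (⋃ n ∈ Set.Ioi (0 : ℤ), (𝒜 n : Set R)) =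
      Ideal.span ((𝒜 1 : AddSubgroup R) : Set R))
    (p : Ideal R) (h1 : ∀ r ∈ 𝒜 1, r ∈ p) {k : ℤ} (hk : 0 < k) {r : R} (hr : r ∈ 𝒜 k) : r ∈ p := by
  have h2 : Ideal.span ((𝒜 1 : AddSubgroup R) : Set R) ≤ p := Ideal.span_le.2 (fun r hr => h1 r hr)
  rw [← hstd] at h2
  exact h2 (Ideal.subset_span (Set.mem_biUnion (show k ∈ Set.Ioi (0 : ℤ) from hk) hr))

/-- a homogeneous prime containing all elements of positive degree is the *maximal ideal -/
theorem eq_of_pos_mem [IsNoetherianRing R] [IsArtinianRing (GrLC.deg0 𝒜)]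
    (hpos : ∀ n : ℤ, n < 0 → 𝒜 n = ⊥) (m : HomogeneousIdeal 𝒜) (hm : GrLC.IsStarLocal 𝒜 m)
    (p : Ideal R) [hp : p.IsPrime] (hph : p.IsHomogeneous 𝒜)
    (hpp : ∀ k : ℤ, 0 < k → ∀ r ∈ 𝒜 k, r ∈ p) : p = m.toIdeal := by
  have hpos' : ∀ n : ℤ, n < 0 → ∀ y ∈ 𝒜 n, y = 0 := by
    intro n hn y hy
    rw [hpos n hn] at hy
    exact hy
  have hsub : ∀ x : R, x - (decompose 𝒜 x 0 : R) ∈ p := by
    intro x
    rw [hph.mem_iff]
    intro k
    rw [decompose_sub, DirectSum.sub_apply, AddSubgroupClass.coe_sub]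
    rcases lt_trichotomy k 0 with hk | rfl | hk
    · have h1 : (decompose 𝒜 x k : R) = 0 := hpos' k hk _ (decompose 𝒜 x k).2
      have h2 : (decompose 𝒜 ((decompose 𝒜 x 0 : R)) k : R) = 0 :=
        decompose_of_mem_ne 𝒜 (decompose 𝒜 x 0).2 (by omega)
      rw [h1, h2, sub_zero]
      exact p.zero_mem
    · rw [decompose_of_mem_same 𝒜 (decompose 𝒜 x 0).2, sub_self]
      exact p.zero_mem
    · have h2 : (decompose 𝒜 ((decompose 𝒜 x 0 : R)) k : R) = 0 :=
        decompose_of_mem_ne 𝒜 (decompose 𝒜 x 0).2 (by omega)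
      rw [h2, sub_zero]
      exact hpp k hk _ (decompose 𝒜 x k).2
  -- the contraction to `R₀` is maximal
  let p₀ : Ideal (GrLC.deg0 𝒜) := p.comap (GrLC.deg0 𝒜).subtype
  haveI : p₀.IsPrime := Ideal.comap_isPrime _ _
  haveI hp₀max : p₀.IsMaximal := inferInstance
  have hpmax : p.IsMaximal := by
    rw [Ideal.isMaximal_iff]
    refine ⟨fun h1 => hp.ne_top ((Ideal.eq_top_iff_one _).2 h1), ?_⟩
    intro J x hpJ hxp hxJ
    have hx0p : (decompose 𝒜 x 0 : R) ∉ p := by
      intro h0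
      apply hxp
      have := p.add_mem (hsub x) h0
      rwa [sub_add_cancel] at this
    have hx0J : (decompose 𝒜 x 0 : R) ∈ J := by
      have := J.sub_mem hxJ (hpJ (hsub x))
      rwa [sub_sub_cancel] at this
    let x₀ : GrLC.deg0 𝒜 := ⟨(decompose 𝒜 x 0 : R), (decompose 𝒜 x 0).2⟩
    have hx₀ : x₀ ∉ p₀ := hx0p
    obtain ⟨y, i, hi, hyi⟩ := hp₀max.exists_inv hx₀
    have h1 : (y : R) * (decompose 𝒜 x 0 : R) + (i : R) = 1 := by
      have := congrArg (GrLC.deg0 𝒜).subtype hyi
      simpa using this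
    rw [← h1]
    exact J.add_mem (J.mul_mem_left _ hx0J) (hpJ hi)
  have hle : p ≤ m.toIdeal := by
    have := le_of_isStarLocal m hm ⟨p, hph⟩ (fun h => hp.ne_top (by
      have := congrArg HomogeneousIdeal.toIdeal h
      rwa [HomogeneousIdeal.toIdeal_top] at this))
    exact this
  have hmtop : m.toIdeal ≠ ⊤ := by
    intro h
    exact hm.1.1 (HomogeneousIdeal.toIdeal_injective (by rw [h, HomogeneousIdeal.toIdeal_top]))
  exact hpmax.eq_of_le hmtop hle

end PrimeMax

section Main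

variable [IsNoetherianRing R] [IsArtinianRing (GrLC.deg0 𝒜)]

/-- the inductive property -/
def PrSG (d : ℕ) (m : HomogeneousIdeal 𝒜) (Y : GrLC.GMod.{u} 𝒜) : Prop :=
  ∀ (k : ℕ) (I : Ideal R), (∀ r ∈ I, ∀ y : Y.carrier, r • y = 0) → ringKrullDim (R ⧸ I) ≤ k →
    ∃ Q : Polynomial ℚ, Q.degree < k ∧
      ∀ (E : GrLC.StarInjRes 𝒜 Y.gr) (n : ℤ), chi d E m n = Q.eval (n : ℚ)

theorem PrSG_of_gam_eq_top (d : ℕ) (m : HomogeneousIdeal 𝒜) (Y : GrLC.GMod.{u} 𝒜)
    (hΓ : GrLC.gam m.toIdeal Y.carrier = ⊤) : PrSG d m Y := by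
  intro k I _ _
  refine ⟨0, ?_, fun E n => ?_⟩
  · rw [Polynomial.degree_zero]; exact WithBot.bot_lt_coe _
  · rw [chi_eq_zero_of_gam_eq_top d E m hΓ n]; simp

/-- **Serre–Grothendieck, polynomial form**: for every finitely generated graded module `Y` over a
standard graded *local ring with Artinian `R₀`, killed by `I` with `dim R/I ≤ k`, the function
`χ_Y` is a polynomial of degree `< k`. -/
theorem PrSG_all (hpos : ∀ n : ℤ, n < 0 → 𝒜 n = ⊥)
    (hstd : Ideal.span (⋃ n ∈ Set.Ioi (0 : ℤ), (𝒜 n : Set R)) =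
      Ideal.span ((𝒜 1 : AddSubgroup R) : Set R))
    (m : HomogeneousIdeal 𝒜) (hm : GrLC.IsStarLocal 𝒜 m) (d : ℕ) (hd : ringKrullDim R = d)
    (Y : GrLC.GMod.{u} 𝒜) [Module.Finite R Y.carrier] : PrSG d m Y := by
  haveI hmmax : m.toIdeal.IsMaximal := isMaximal_of_isStarLocal hpos m hm
  refine gmod_induction (PrSG d m) ?_ ?_ ?_ Y
  · -- zero
    intro Y hY
    apply PrSG_of_gam_eq_top
    rw [eq_top_iff]
    intro y _
    exact ⟨0, fun r _ => Subsingleton.elim _ _⟩
  · -- exact
    intro Y' Y Y'' _ _ _ α β hαgr hβgr hα hex hβ h' h'' k I hIY hIk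
    obtain ⟨Q', hQ'deg, hQ'⟩ := h' k I (fun r hr y => hα (by rw [map_smul, hIY r hr, map_zero])) hIk
    obtain ⟨Q'', hQ''deg, hQ''⟩ := h'' k I (fun r hr y => by
      obtain ⟨y', rfl⟩ := hβ y
      rw [← map_smul, hIY r hr, map_zero]) hIk
    refine ⟨Q' + Q'', lt_of_le_of_lt (Polynomial.degree_add_le _ _) (max_lt hQ'deg hQ''deg),
      fun E n => ?_⟩
    rw [chi_add m d hd α β hαgr hβgr hα hex hβ (starInjRes 𝒜 Y'.gr) E (starInjRes 𝒜 Y''.gr) n,
      hQ', hQ'', Polynomial.eval_add]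
  · -- prime
    intro Y _ g x hxg hspan hprime ih k I hIY hIk
    set p := (R ∙ x).annihilator with hp
    haveI := hprime
    have hph : p.IsHomogeneous 𝒜 := annihilator_span_singleton_isHomogeneous 𝒜 Y.gr hxg
    have hpx : ∀ r : R, r ∈ p ↔ r • x = 0 := fun r => Submodule.mem_annihilator_span_singleton _ _
    have hgen : ∀ y : Y.carrier, ∃ r : R, r • x = y := by
      intro y
      have : y ∈ Submodule.span R {x} := by rw [hspan]; trivial
      exact Submodule.mem_span_singleton.1 this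
    have hIp : I ≤ p := fun r hr => (hpx r).2 (hIY r hr x)
    by_cases h1 : ∀ r ∈ 𝒜 1, r ∈ p
    · -- `p = m`, `Y` is killed by `m`
      have hpm : p = m.toIdeal :=
        eq_of_pos_mem hpos m hm p hph (fun k hk r hr => pos_mem_of_deg_one_mem hstd p h1 hk hr)
      have hΓ : GrLC.gam m.toIdeal Y.carrier = ⊤ := by
        rw [eq_top_iff]
        intro y _
        refine ⟨1, fun r hr => ?_⟩
        rw [pow_one, ← hpm] at hr
        obtain ⟨s, rfl⟩ := hgen y
        rw [smul_comm, (hpx r).1 hr, smul_zero]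
      exact PrSG_of_gam_eq_top d m Y hΓ k I hIY hIk
    · push Not at h1
      obtain ⟨y, hy1, hyp⟩ := h1
      -- `y` is regular on `Y`
      have hreg : IsSMulRegular Y.carrier y := by
        intro a b hab
        obtain ⟨r, rfl⟩ := hgen a
        obtain ⟨s, rfl⟩ := hgen b
        have h0 : (y * (r - s)) • x = 0 := by
          rw [mul_smul, sub_smul, smul_sub]
          exact sub_eq_zero.2 hab
        have h2 : y * (r - s) ∈ p := (hpx _).2 h0
        rcases hprime.mem_or_mem h2 with h3 | h3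
        · exact absurd h3 hyp
        · have := (hpx _).1 h3
          rw [sub_smul] at this
          exact sub_eq_zero.1 this
      set J : Ideal R := p ⊔ Ideal.span {y} with hJ
      have hpJ : p < J := by
        refine lt_of_le_of_ne le_sup_left ?_
        intro h
        apply hyp
        rw [h]
        exact Ideal.mem_sup_right (Ideal.mem_span_singleton_self y)
      have hym : y ∈ m.toIdeal := pos_mem_of_isCoatom hpos m hm.1 one_pos hy1
      have hpm : p ≤ m.toIdeal := by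
        have := le_of_isStarLocal m hm ⟨p, hph⟩ (fun h => hprime.ne_top (by
          have := congrArg HomogeneousIdeal.toIdeal h
          rwa [HomogeneousIdeal.toIdeal_top] at this))
        exact this
      have hJm : J ≤ m.toIdeal := sup_le hpm ((Ideal.span_singleton_le_iff_mem _).2 hym)
      have hJtop : J ≠ ⊤ := fun h => hmmax.ne_top (top_le_iff.1 (h ▸ hJm))
      -- dimensions
      have hdim1 : ringKrullDim (R ⧸ J) + 1 ≤ ringKrullDim (R ⧸ p) := by
        haveI : IsDomain (R ⧸ p) := Ideal.Quotient.isDomain p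
        refine ringKrullDim_succ_le_of_surjective (Ideal.Quotient.factor hpJ.le)
          (Ideal.Quotient.factor_surjective hpJ.le) (r := Ideal.Quotient.mk p y) ?_ ?_
        · rw [mem_nonZeroDivisors_iff_ne_zero]
          intro h0
          exact hyp (Ideal.Quotient.eq_zero_iff_mem.1 h0)
        · rw [Ideal.Quotient.factor_mk, Ideal.Quotient.eq_zero_iff_mem]
          exact Ideal.mem_sup_right (Ideal.mem_span_singleton_self y)
      have hdim2 : ringKrullDim (R ⧸ p) ≤ ringKrullDim (R ⧸ I) :=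
        ringKrullDim_le_of_surjective (Ideal.Quotient.factor hIp)
          (Ideal.Quotient.factor_surjective hIp)
      haveI : Nontrivial (R ⧸ J) := Ideal.Quotient.nontrivial_iff.2 hJtop
      have hdim0 : (0 : WithBot ℕ∞) ≤ ringKrullDim (R ⧸ J) := ringKrullDim_nonneg_of_nontrivial
      have hk1 : ringKrullDim (R ⧸ J) + 1 ≤ k := hdim1.trans (hdim2.trans hIk)
      obtain ⟨e, he⟩ : ∃ e : ℕ∞, ringKrullDim (R ⧸ J) = e := by
        induction hx : ringKrullDim (R ⧸ J) with
        | bot => rw [hx] at hdim0; simp at hdim0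
        | coe e => exact ⟨e, rfl⟩
      rw [he] at hk1
      have hk1' : e + 1 ≤ (k : ℕ∞) := by exact_mod_cast hk1
      obtain ⟨k', rfl⟩ : ∃ k', k = k' + 1 := by
        cases k with
        | zero => exfalso; simp at hk1'
        | succ k' => exact ⟨k', rfl⟩
      have hk' : ringKrullDim (R ⧸ J) ≤ k' := by
        rw [he]
        push_cast at hk1'
        have := (WithTop.add_le_add_iff_right (ENat.one_ne_top)).1 hk1'
        exact_mod_cast this
      -- the quotient `Z = Y / yY`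
      have hPh := smulRange_isHomogeneous (𝒜 := 𝒜) Y.gr hy1
      set Z := quotGMod Y.gr 𝒜 (smulRange (M := Y.carrier) y) hPh with hZ
      haveI : Module.Finite R Z.carrier := quotGMod_finite Y _ hPh
      have hJZ : ∀ r ∈ J, ∀ z : Z.carrier, r • z = 0 := by
        intro r hr z
        obtain ⟨w, rfl⟩ := quotMk_surjective 𝒜 Y.gr _ hPh z
        rw [← map_smul, quotMk_eq_zero_iff]
        obtain ⟨a, ha, b, hb, rfl⟩ := Submodule.mem_sup.1 hr
        obtain ⟨c, rfl⟩ := Ideal.mem_span_singleton'.1 hb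
        obtain ⟨s, rfl⟩ := hgen w
        have ha0 : a • s • x = 0 := by rw [smul_comm, (hpx a).1 ha, smul_zero]
        rw [add_smul, ha0, zero_add]
        refine ⟨c • s • x, ?_⟩
        simp only [LinearMap.lsmul_apply]
        rw [smul_smul, smul_smul, smul_smul, mul_comm y c]
      obtain ⟨Q, hQdeg, hQ⟩ := ih Z J hpJ hJZ k' J hJZ hk'
      exact SG_of_regular Y.gr m d hd hy1 hreg k' ⟨Q, hQdeg, hQ⟩

end Main

end Groth.Agent.Helper20.GrInj
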