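import Mathlib
import Groth.Agent.Lib.Helper20.GrSG8

/-!
# The Serre–Grothendieck formula (helper20)
-/

open DirectSum

namespace Groth.Agent.Helper20.GrInj

open Groth.Agent.Helper8

universe u

variable {R : Type u} [CommRing R]
variable {𝒜 : ℤ → AddSubgroup R} [GradedRing 𝒜]
variable {M : Type u} [AddCommGroup M] [Module R M] {ℳ : ℤ → AddSubgroup M}
  [DirectSum.Decomposition ℳ] [SetLike.GradedSMul 𝒜 ℳ]

/-- `χ_M` is a polynomial of degree `< dim R` -/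
theorem exists_chi_poly [IsNoetherianRing R] [IsArtinianRing (GrLC.deg0 𝒜)]
    (hpos : ∀ n : ℤ, n < 0 → 𝒜 n = ⊥)
    (hstd : Ideal.span (⋃ n ∈ Set.Ioi (0 : ℤ), (𝒜 n : Set R)) =
      Ideal.span ((𝒜 1 : AddSubgroup R) : Set R))
    (m : HomogeneousIdeal 𝒜) (hm : GrLC.IsStarLocal 𝒜 m) (d : ℕ) (hd : ringKrullDim R = d)
    [Module.Finite R M] :
    ∃ Q : Polynomial ℚ, Q.degree < d ∧
      ∀ (E : GrLC.StarInjRes 𝒜 ℳ) (n : ℤ), chi d E m n = Q.eval (n : ℚ) := by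
  haveI : Module.Finite R (GrLC.GMod.of 𝒜 M ℳ).carrier := ‹Module.Finite R M›
  have key := PrSG_all hpos hstd m hm d hd (GrLC.GMod.of 𝒜 M ℳ) d ⊥
    (fun r hr y => by rw [Ideal.mem_bot.1 hr, zero_smul])
    (by rw [ringKrullDim_eq_of_ringEquiv (RingEquiv.quotientBot R), hd])
  exact key

/-- vanishing of all `H^i_m(M)_n`, `i ≤ d`, in large degrees -/
theorem exists_hlen_eq_zero [IsNoetherianRing R] (hpos : ∀ n : ℤ, n < 0 → 𝒜 n = ⊥)
    (m : HomogeneousIdeal 𝒜) [m.toIdeal.IsMaximal] [Module.Finite R M]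
    (E : GrLC.StarInjRes 𝒜 ℳ) (d : ℕ) :
    ∃ N : ℤ, ∀ n : ℤ, N ≤ n → ∀ i ∈ Finset.range (d + 1), hlen E m i n = 0 := by
  induction d with
  | zero =>
    haveI : IsArtinian R (E.H m 0) := H_isArtinian_of_isMaximal E m 0
    obtain ⟨N, hN⟩ := exists_Hcomp_eq_bot_of_isArtinian hpos E m 0
    refine ⟨N, fun n hn i hi => ?_⟩
    have : i = 0 := by simpa using hi
    subst this
    unfold hlen
    rw [hN n hn]
    exact Module.length_eq_zero
  | succ d ih =>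
    obtain ⟨N₁, hN₁⟩ := ih
    haveI : IsArtinian R (E.H m (d + 1)) := H_isArtinian_of_isMaximal E m (d + 1)
    obtain ⟨N₂, hN₂⟩ := exists_Hcomp_eq_bot_of_isArtinian hpos E m (d + 1)
    refine ⟨max N₁ N₂, fun n hn i hi => ?_⟩
    rw [Finset.mem_range] at hi
    rcases Nat.lt_succ_iff_lt_or_eq.1 hi with h | h
    · exact hN₁ n (le_trans (le_max_left _ _) hn) i (Finset.mem_range.2 h)
    · subst h
      unfold hlen
      rw [hN₂ n (le_trans (le_max_right _ _) hn)]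
      exact Module.length_eq_zero

/-- **The Serre–Grothendieck formula.** -/
theorem serre_grothendieck [IsNoetherianRing R] [IsArtinianRing (GrLC.deg0 𝒜)]
    (hpos : ∀ n : ℤ, n < 0 → 𝒜 n = ⊥)
    (hstd : Ideal.span (⋃ n ∈ Set.Ioi (0 : ℤ), (𝒜 n : Set R)) =
      Ideal.span ((𝒜 1 : AddSubgroup R) : Set R))
    (m : HomogeneousIdeal 𝒜) (hm : GrLC.IsStarLocal 𝒜 m) (d : ℕ) (hd : ringKrullDim R = d)
    [Module.Finite R M] (E : GrLC.StarInjRes 𝒜 ℳ) (P : Polynomial ℚ)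
    (hP : ∃ N : ℤ, ∀ n : ℤ, N ≤ n → P.eval (n : ℚ) = ((plen (𝒜 := 𝒜) ℳ n).toNat : ℚ)) :
    P.degree < d ∧ ∀ n : ℤ, ((plen (𝒜 := 𝒜) ℳ n).toNat : ℚ) - P.eval (n : ℚ) =
      ∑ i ∈ Finset.range (d + 1), (-1 : ℚ) ^ i * ((hlen E m i n).toNat : ℚ) := by
  haveI hmmax : m.toIdeal.IsMaximal := isMaximal_of_isStarLocal hpos m hm
  obtain ⟨Q, hQdeg, hQ⟩ := exists_chi_poly (ℳ := ℳ) hpos hstd m hm d hd
  obtain ⟨N, hN⟩ := hP
  obtain ⟨N₁, hN₁⟩ := exists_hlen_eq_zero hpos m E d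
  have hQP : Q = P := by
    apply Polynomial.eq_of_infinite_eval_eq
    have hsub : (fun n : ℤ => (n : ℚ)) '' Set.Ici (max N N₁) ⊆
        {x | Polynomial.eval x Q = Polynomial.eval x P} := by
      rintro _ ⟨n, hn, rfl⟩
      have hn' : max N N₁ ≤ n := hn
      show Q.eval (n : ℚ) = P.eval (n : ℚ)
      rw [← hQ E n, hN n (le_trans (le_max_left _ _) hn')]
      unfold chi
      have : ∀ i ∈ Finset.range (d + 1), (-1 : ℚ) ^ i * ((hlen E m i n).toNat : ℚ) = 0 := by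
        intro i hi
        rw [hN₁ n (le_trans (le_max_right _ _) hn') i hi]; simp
      rw [Finset.sum_eq_zero this, sub_zero]
    refine Set.Infinite.mono hsub ?_
    exact (Set.Ici_infinite _).image (fun a _ b _ h => by exact_mod_cast h)
  subst hQP
  refine ⟨hQdeg, fun n => ?_⟩
  rw [← hQ E n]
  unfold chi
  ring

end Groth.Agent.Helper20.GrInj
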