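import Mathlib
import Groth.Agent.Lib.Helper20.GrSG9
import Groth.Agent.Lib.Lead.Depth16
import Groth.Agent.Lib.Helper8.LCDepth

/-!
# Cohen–Macaulay *local rings: vanishing of `H^i_m(R)` below the dimension; the top local
cohomology and the Hilbert function (helper20)
-/

open DirectSum

namespace Groth.Agent.Helper20.GrInj

open Groth.Agent.Helper8

universe u

variable {R : Type u} [CommRing R]
variable {𝒜 : ℤ → AddSubgroup R} [GradedRing 𝒜]

/-- **(★)** for a Cohen–Macaulay positively graded *local ring, `H^i_m(R) = 0` for `i < dim R`. -/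
theorem H_subsingleton_of_CM [LocCoh.IsCohenMacaulayRing R]
    (hpos : ∀ n : ℤ, n < 0 → 𝒜 n = ⊥) (m : HomogeneousIdeal 𝒜) (hm : GrLC.IsStarLocal 𝒜 m)
    (d : ℕ) (hd : ringKrullDim R = d) (I : GrLC.StarInjRes 𝒜 𝒜) (i : ℕ) (hi : i < d) :
    Subsingleton (I.H m i) := by
  haveI hmmax : m.toIdeal.IsMaximal := isMaximal_of_isStarLocal hpos m hm
  have hht : m.toIdeal.height = d := by
    have h1 := ringKrullDim_eq_height_of_isStarLocal m hm hmmax
    rw [hd] at h1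
    exact_mod_cast h1.symm
  have hdepth : LocCoh.idealDepth m.toIdeal R = d := by
    rw [← hht]
    exact (Groth.Agent.Lead.Depth.isCohenMacaulayRing_iff_idealDepth_eq_height.1 inferInstance)
      m.toIdeal hmmax.ne_top
  have h2 := (LC.le_idealDepth_iff_H' m.toIdeal d R).1 (le_of_eq hdepth.symm) i hi
  obtain ⟨e⟩ := nonempty_H_equiv_LC I m i
  exact e.toEquiv.subsingleton

theorem hlen_eq_zero_of_subsingleton {M : Type u} [AddCommGroup M] [Module R M]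
    {ℳ : ℤ → AddSubgroup M} [DirectSum.Decomposition ℳ] [SetLike.GradedSMul 𝒜 ℳ]
    (E : GrLC.StarInjRes 𝒜 ℳ) (a : HomogeneousIdeal 𝒜) (i : ℕ) (n : ℤ)
    [Subsingleton (E.H a i)] : hlen E a i n = 0 := by
  unfold hlen
  rw [Module.length_eq_zero_iff]
  constructor
  rintro ⟨x, _⟩ ⟨y, _⟩
  exact Subtype.ext (Subsingleton.elim _ _)

theorem hlen_eq_zero_iff {M : Type u} [AddCommGroup M] [Module R M]
    {ℳ : ℤ → AddSubgroup M} [DirectSum.Decomposition ℳ] [SetLike.GradedSMul 𝒜 ℳ]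
    (E : GrLC.StarInjRes 𝒜 ℳ) (a : HomogeneousIdeal 𝒜) (i : ℕ) (n : ℤ) :
    hlen E a i n = 0 ↔ E.Hgr a i n = ⊥ := by
  unfold hlen
  rw [Module.length_eq_zero_iff]
  constructor
  · intro h
    rw [eq_bot_iff]
    intro x hx
    have : (⟨x, hx⟩ : E.Hcomp a i n) = 0 := Subsingleton.elim _ _
    exact congrArg Subtype.val this
  · intro h
    constructor
    rintro ⟨x, hx⟩ ⟨y, hy⟩
    have hx' : x ∈ E.Hgr a i n := hx
    have hy' : y ∈ E.Hgr a i n := hy
    rw [h] at hx' hy'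
    apply Subtype.ext
    show x = y
    rw [AddSubgroup.mem_bot.1 hx', AddSubgroup.mem_bot.1 hy']

/-- for a Cohen–Macaulay ring only the top local cohomology contributes -/
theorem serre_grothendieck_CM [LocCoh.IsCohenMacaulayRing R] [IsArtinianRing (GrLC.deg0 𝒜)]
    (hpos : ∀ n : ℤ, n < 0 → 𝒜 n = ⊥)
    (hstd : Ideal.span (⋃ n ∈ Set.Ioi (0 : ℤ), (𝒜 n : Set R)) =
      Ideal.span ((𝒜 1 : AddSubgroup R) : Set R))
    (m : HomogeneousIdeal 𝒜) (hm : GrLC.IsStarLocal 𝒜 m) (d : ℕ) (hd : ringKrullDim R = d)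
    (I : GrLC.StarInjRes 𝒜 𝒜) (P : Polynomial ℚ)
    (hP : ∃ N : ℤ, ∀ n : ℤ, N ≤ n → P.eval (n : ℚ) = ((plen (𝒜 := 𝒜) 𝒜 n).toNat : ℚ)) :
    P.degree < d ∧ ∀ n : ℤ, ((plen (𝒜 := 𝒜) 𝒜 n).toNat : ℚ) - P.eval (n : ℚ) =
      (-1 : ℚ) ^ d * ((hlen I m d n).toNat : ℚ) := by
  obtain ⟨hdeg, hsg⟩ := serre_grothendieck hpos hstd m hm d hd I P hP
  refine ⟨hdeg, fun n => ?_⟩
  rw [hsg n, Finset.sum_range_succ]
  have : ∀ i ∈ Finset.range d, (-1 : ℚ) ^ i * ((hlen I m i n).toNat : ℚ) = 0 := by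
    intro i hi
    haveI := H_subsingleton_of_CM hpos m hm d hd I i (Finset.mem_range.1 hi)
    rw [hlen_eq_zero_of_subsingleton]; simp
  rw [Finset.sum_eq_zero this, zero_add]

/-- the Hilbert function differs from the Hilbert polynomial exactly in the degrees where the top
local cohomology is nonzero -/
theorem eval_ne_iff_Hgr_ne_bot [LocCoh.IsCohenMacaulayRing R] [IsArtinianRing (GrLC.deg0 𝒜)]
    (hpos : ∀ n : ℤ, n < 0 → 𝒜 n = ⊥)
    (hstd : Ideal.span (⋃ n ∈ Set.Ioi (0 : ℤ), (𝒜 n : Set R)) =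
      Ideal.span ((𝒜 1 : AddSubgroup R) : Set R))
    (m : HomogeneousIdeal 𝒜) (hm : GrLC.IsStarLocal 𝒜 m) (d : ℕ) (hd : ringKrullDim R = d)
    (I : GrLC.StarInjRes 𝒜 𝒜) (P : Polynomial ℚ)
    (hP : ∃ N : ℤ, ∀ n : ℤ, N ≤ n → P.eval (n : ℚ) = ((plen (𝒜 := 𝒜) 𝒜 n).toNat : ℚ))
    (n : ℤ) : P.eval (n : ℚ) ≠ ((plen (𝒜 := 𝒜) 𝒜 n).toNat : ℚ) ↔ I.Hgr m d n ≠ ⊥ := by
  haveI hmmax : m.toIdeal.IsMaximal := isMaximal_of_isStarLocal hpos m hm
  obtain ⟨-, h⟩ := serre_grothendieck_CM hpos hstd m hm d hd I P hP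
  have hn := h n
  rw [not_iff_not, ← hlen_eq_zero_iff]
  constructor
  · intro he
    rw [he, sub_self] at hn
    have h1 : ((hlen I m d n).toNat : ℚ) = 0 := by
      have := hn.symm
      rcases mul_eq_zero.1 this with h2 | h2
      · exact absurd h2 (pow_ne_zero _ (by norm_num))
      · exact h2
    have h2 : (hlen I m d n).toNat = 0 := by exact_mod_cast h1
    rcases ENat.toNat_eq_zero.1 h2 with h3 | h3
    · exact h3
    · exact absurd h3 (hlen_ne_top I m d n)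
  · intro h0
    rw [h0] at hn
    simp only [ENat.toNat_zero, Nat.cast_zero, mul_zero] at hn
    exact (sub_eq_zero.1 hn).symm

end Groth.Agent.Helper20.GrInj
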