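import Mathlib
import Groth.Agent.Lib.Helper20.GrSeg26

/-!
# Arithmetic of the Künneth formula and conversions for the ring case (helper20)
-/

open DirectSum TensorProduct

namespace Groth.Agent.Helper20.Seg

open Groth.Agent.Helper20.GrInj Groth.Agent.Helper8 Groth.Agent.Helper20.Kun

universe u

theorem segre_arith (a b h h' : ℕ → ℕ) (m n' : ℕ) (ha0 : a 0 = 0) (ha1 : a 1 = 0) (hb0 : b 0 = 0)
    (hb1 : b 1 = 0) (h0 : h 0 = m) (hs : ∀ i, h (i + 1) = a (i + 2)) (h0' : h' 0 = n')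
    (hs' : ∀ i, h' (i + 1) = b (i + 2)) (q : ℕ) :
    ∑ i ∈ Finset.range (q + 2), h i * h' (q + 1 - i) =
      m * b (q + 2) + a (q + 2) * n' +
        ∑ i ∈ Finset.range (q + 2 + 2), a i * b (q + 2 + 1 - i) := by
  have hR : ∑ i ∈ Finset.range (q + 2 + 2), a i * b (q + 2 + 1 - i) =
      ∑ i ∈ Finset.range (q + 2), a (i + 1) * b (q + 2 - i) := by
    rw [Finset.sum_range_succ', ha0, zero_mul, add_zero, Finset.sum_range_succ]
    have : q + 2 + 1 - (q + 2 + 1) = 0 := by omega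
    rw [this, hb0, mul_zero, add_zero]
    refine Finset.sum_congr rfl fun i _ => ?_
    congr 2
    omega
  rw [hR]
  have hL : ∀ i ∈ Finset.range (q + 2), h i * h' (q + 1 - i) =
      a (i + 1) * b (q + 2 - i) + ((if i = 0 then m * b (q + 2) else 0) +
        (if i = q + 1 then a (q + 2) * n' else 0)) := by
    intro i hi
    rw [Finset.mem_range] at hi
    rcases Nat.eq_zero_or_pos i with rfl | hpos
    · rw [h0, ha1, zero_mul, zero_add, if_pos rfl, if_neg (by omega), add_zero, Nat.sub_zero, hs']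
    · obtain ⟨j, rfl⟩ : ∃ j, i = j + 1 := ⟨i - 1, by omega⟩
      rw [if_neg (by omega), zero_add, hs]
      by_cases hj : j = q
      · subst hj
        rw [if_pos rfl]
        have e1 : j + 1 - (j + 1) = 0 := by omega
        have e2 : j + 2 - (j + 1) = 1 := by omega
        rw [e1, e2, h0', hb1, mul_zero, zero_add]
      · rw [if_neg (by omega), add_zero]
        have e1 : q + 1 - (j + 1) = (q - j - 1) + 1 := by omega
        have e2 : q + 2 - (j + 1) = (q - j - 1) + 2 := by omega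
        rw [e1, e2, hs']
  rw [Finset.sum_congr rfl hL, Finset.sum_add_distrib, Finset.sum_add_distrib,
    Finset.sum_ite_eq' (Finset.range (q + 2)) 0, Finset.sum_ite_eq' (Finset.range (q + 2)) (q + 1),
    if_pos (by simp), if_pos (by simp)]
  ring

/-- the final formula from the master formula, under the depth assumptions -/
theorem segre_formula (a b t h h' : ℕ → ℕ) (ρ ρ' m n' : ℕ) (ha0 : a 0 = 0) (ha1 : a 1 = 0)
    (hb0 : b 0 = 0) (hb1 : b 1 = 0)
    (h1 : a 0 + ρ = m) (h2 : a 1 + ρ = h 0) (h3 : ∀ i, a (i + 2) = h (i + 1))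
    (h4 : b 0 + ρ' = n') (h5 : b 1 + ρ' = h' 0) (h6 : ∀ i, b (i + 2) = h' (i + 1))
    (h7 : t 0 + ρ * ρ' = m * n') (h8 : t 1 + ρ * ρ' = h 0 * h' 0)
    (h9 : ∀ q, t (q + 2) = ∑ i : Fin (q + 2), h (i : ℕ) * h' (q + 1 - (i : ℕ))) (q : ℕ) :
    t q = m * b q + a q * n' + ∑ i ∈ Finset.range (q + 2), a i * b (q + 1 - i) := by
  rw [ha0, zero_add] at h1
  rw [ha1, zero_add] at h2
  rw [hb0, zero_add] at h4
  rw [hb1, zero_add] at h5
  subst h1 h4
  have hh0 : h 0 = ρ := h2.symm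
  have hh0' : h' 0 = ρ' := h5.symm
  rw [hh0, hh0'] at h8
  have ht0 : t 0 = 0 := by omega
  have ht1 : t 1 = 0 := by omega
  match q with
  | 0 =>
    rw [ht0, hb0, ha0, Finset.sum_range_succ, Finset.sum_range_succ, Finset.sum_range_zero, ha0,
      ha1]
    simp
  | 1 =>
    rw [ht1, hb1, ha1, Finset.sum_range_succ, Finset.sum_range_succ, Finset.sum_range_succ,
      Finset.sum_range_zero, ha0, ha1]
    have : 1 + 1 - 2 = 0 := rfl
    rw [this, hb0]
    simp
  | q + 2 =>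
    rw [h9 q, Fin.sum_univ_eq_sum_range (fun i => h i * h' (q + 1 - i)) (q + 2)]
    exact segre_arith a b h h' ρ ρ' ha0 ha1 hb0 hb1 hh0 (fun i => (h3 i).symm) hh0'
      (fun i => (h6 i).symm) q

section Conv

variable {ι : Type} [AddCommGroup ι] [DecidableEq ι]
variable {R : Type u} [CommRing R] {σ : Type u} [SetLike σ R] [AddSubgroupClass σ R]
variable (𝒜 : ι → σ) [GradedRing 𝒜]
variable {M : Type u} [AddCommGroup M] [Module R M] {τ : Type u} [SetLike τ M]
  [AddSubgroupClass τ M] {ℳ : ι → τ} [DirectSum.Decomposition ℳ] [SetLike.GradedSMul 𝒜 ℳ]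

/-- a *injective resolution with the grading of the module converted -/
def StarInjRes.toAddM (E : GrLC.StarInjRes 𝒜 ℳ) (ℳ' : ι → AddSubgroup M)
    [DirectSum.Decomposition ℳ'] [SetLike.GradedSMul 𝒜 ℳ']
    (h : ∀ (i : ι) (x : M), x ∈ ℳ' i → x ∈ ℳ i) : GrLC.StarInjRes 𝒜 ℳ' where
  X := E.X
  d := E.d
  ε := E.ε
  d_grHom := E.d_grHom
  ε_grHom := fun g m hm => E.ε_grHom g m (h g m hm)
  ε_injective := E.ε_injective
  exact_zero := E.exact_zero
  exact_succ := E.exact_succ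
  starInj := E.starInj

theorem StarInjRes.toAddM_Hcomp (E : GrLC.StarInjRes 𝒜 ℳ) (ℳ' : ι → AddSubgroup M)
    [DirectSum.Decomposition ℳ'] [SetLike.GradedSMul 𝒜 ℳ']
    (h : ∀ (i : ι) (x : M), x ∈ ℳ' i → x ∈ ℳ i) (a : HomogeneousIdeal 𝒜) (i : ℕ) (g : ι) :
    (StarInjRes.toAddM 𝒜 E ℳ' h).Hcomp a i g = E.Hcomp a i g := rfl

end Conv

section RingCase

variable {k : Type u} [Field k] {R S T : Type u} [CommRing R] [CommRing S] [CommRing T]
  [Algebra k R] [Algebra k S] [Algebra k T]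
  (𝒜 : ℤ → Submodule k R) [GradedAlgebra 𝒜] (ℬ : ℤ → Submodule k S) [GradedAlgebra ℬ]
  (𝒯 : ℤ → Submodule k T) [GradedAlgebra 𝒯] (ψ : T →ₐ[k] R ⊗[k] S)

instance gradedSMul_toAdd : SetLike.GradedSMul 𝒜 (toAdd 𝒜) where
  smul_mem := fun {_ _ _ _} hi hj => SetLike.GradedMul.mul_mem hi hj

theorem act_eq_mul (x y : R ⊗[k] S) : GrSeg.act k R S R S x y = x * y := by
  induction x using TensorProduct.induction_on with
  | zero => simp
  | tmul a b =>
    induction y using TensorProduct.induction_on with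
    | zero => simp
    | tmul a' b' =>
      rw [GrSeg.act_tmul, Algebra.TensorProduct.tmul_mul_tmul, smul_eq_mul, smul_eq_mul]
    | add y y' hy hy' => rw [map_add, hy, hy', mul_add]
  | add x x' hx hx' => rw [map_add, LinearMap.add_apply, hx, hx', add_mul]

variable {𝒜 ℬ 𝒯 ψ}

theorem isSegreMod_ring (hT : GrSeg.IsSegreRing 𝒜 ℬ 𝒯 ψ) :
    GrSeg.IsSegreMod ψ (toAdd 𝒜) (toAdd ℬ) (toAdd 𝒯) ψ.toLinearMap where
  injective := hT.1
  image_piece n := by
    have h := hT.2 n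
    ext x
    constructor
    · rintro ⟨t, ht, rfl⟩
      have : ψ t ∈ (𝒯 n).map ψ.toLinearMap := ⟨t, ht, rfl⟩
      rw [h] at this
      exact this
    · intro hx
      have : x ∈ GrSeg.segrePiece k 𝒜 ℬ n := hx
      rw [← h] at this
      obtain ⟨t, ht, rfl⟩ := this
      exact ⟨t, ht, rfl⟩
  map_smul t p := by
    show ψ (t * p) = _
    rw [map_mul, act_eq_mul]
    rfl

theorem finrank_comp_ring [Nontrivial R] (h0 : 𝒜 0 = Submodule.span k {(1 : R)}) (d : ℤ) :
    Module.finrank (GrLC.deg0 𝒜) (GrLC.comp 𝒜 (toAdd 𝒜) d) = Module.finrank k (𝒜 d) := by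
  rw [finrank_comp_eq 𝒜 (toAdd 𝒜) h0 d]
  have : pieceK 𝒜 (toAdd 𝒜) d = 𝒜 d := by
    ext x
    exact Iff.rfl
  rw [this]

end RingCase

end Groth.Agent.Helper20.Seg
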