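import Mathlib
import Groth.Agent.Lib.Helper20.GrSeg27
import Groth.Agent.Lib.Helper20.GrMat5

/-!
# Dimensions of the pieces of a *canonical module (helper20)
-/

open DirectSum

namespace Groth.Agent.Helper20.GrInj

universe u

section Can

variable {R : Type u} [CommRing R] [IsNoetherianRing R] {𝒜 : ℤ → AddSubgroup R} [GradedRing 𝒜]
variable (hpos : ∀ n : ℤ, n < 0 → 𝒜 n = ⊥) (h0 : IsField (GrLC.deg0 𝒜)) (m : HomogeneousIdeal 𝒜)
  (hmsp : m.toIdeal = Ideal.span (⋃ n ∈ Set.Ioi (0 : ℤ), (𝒜 n : Set R)))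
variable {E' : Type u} [AddCommGroup E'] [Module R E'] {𝓔 : ℤ → AddSubgroup E'}
  [DirectSum.Decomposition 𝓔] [SetLike.GradedSMul 𝒜 𝓔]
  (e : (R ⧸ m.toIdeal) →ₗ[R] E') (he : GrLC.IsStarInjHull 𝒜 (GrLC.quotGr 𝒜 m) 𝓔 e)
variable {C : Type u} [AddCommGroup C] [Module R C] {𝒞 : ℤ → AddSubgroup C}
  [DirectSum.Decomposition 𝒞] [SetLike.GradedSMul 𝒜 𝒞]

include hpos h0 hmsp he in
/-- graded Matlis duality on dimensions: `M_j` and `*Hom(M, E')_{-j}` have the same dimension -/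
theorem finrank_comp_eq_finrank_homDeg [IsNoetherian R C] (j : ℤ) :
    Module.finrank (GrLC.deg0 𝒜) (GrLC.comp 𝒜 𝒞 j) =
      Module.finrank (GrLC.deg0 𝒜) (GrLC.homDeg 𝒜 𝒞 𝓔 (-j)) := by
  letI : Field ↥(GrLC.deg0 𝒜) := h0.toField
  haveI : IsNoetherian (GrLC.deg0 𝒜) (GrLC.comp 𝒜 𝒞 j) := comp_isNoetherian (𝒜 := 𝒜) (ℳ := 𝒞) j
  haveI : FiniteDimensional ↥(GrLC.deg0 𝒜) ↥(GrLC.comp 𝒜 𝒞 j) := Module.IsNoetherian.finite _ _
  haveI := LinearMap.IsPerfPair.of_injective (matPair_injective (ℳ := 𝒞) hpos h0 m hmsp e he j)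
    (matPair_flip_injective (ℳ := 𝒞) hpos h0 m hmsp e he j)
  have e1 := (matPair (ℳ := 𝒞) hpos h0 m hmsp e he j).toPerfPair
  rw [e1.finrank_eq, Subspace.dual_finrank_eq]

include hpos h0 hmsp he in
/-- **the pieces of a *canonical module are dual to those of the top local cohomology** -/
theorem finrank_comp_canonical (n : ℕ) (I : GrLC.StarInjRes 𝒜 𝒜)
    (hC : GrLC.IsStarCanonical 𝒜 𝒞 𝓔 m n I) (j : ℤ) :
    Module.finrank (GrLC.deg0 𝒜) (GrLC.comp 𝒜 𝒞 j) =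
      Module.finrank (GrLC.deg0 𝒜) (I.Hcomp m n (-j)) := by
  obtain ⟨hfin, φC, hφC⟩ := hC
  haveI : IsNoetherian R C := isNoetherian_of_isNoetherianRing_of_finite R C
  letI := HgrDec I m n
  rw [finrank_comp_eq_finrank_homDeg hpos h0 m hmsp e he j]
  have hsymm : ∀ {h : I.H m n}, h ∈ I.Hgr m n (-j) → GrLC.IsGrHomDeg 𝒞 𝓔 (φC.symm h) (-j) :=
    fun hh => symm_isGrHomDeg (I.Hgr m n) φC hφC hh
  let ε : ↥(GrLC.homDeg 𝒜 𝒞 𝓔 (-j)) ≃ₗ[GrLC.deg0 𝒜] ↥(I.Hcomp m n (-j)) :=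
    { toFun := fun f => ⟨φC f.1, hφC (-j) f.1 f.2⟩
      invFun := fun h => ⟨φC.symm h.1, hsymm h.2⟩
      left_inv := fun f => Subtype.ext (φC.symm_apply_apply f.1)
      right_inv := fun h => Subtype.ext (φC.apply_symm_apply h.1)
      map_add' := fun f g => Subtype.ext (map_add φC f.1 g.1)
      map_smul' := fun s f => Subtype.ext (map_smul φC (s : R) f.1) }
  exact ε.finrank_eq

end Can

end Groth.Agent.Helper20.GrInj
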