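import Mathlib
import Groth.Agent.Lib.Helper20.GrSeg28
import Groth.Agent.Lib.Helper8.LCTop

/-!
# Vanishing above the dimension and the top local cohomology of a Segre product (helper20)
-/

open DirectSum TensorProduct

namespace Groth.Agent.Helper20.GrInj

open Groth.Agent.Helper8

universe u

section Vanish

variable {k : Type u} [Field k] {A : Type u} [CommRing A] [Algebra k A] [IsNoetherianRing A]
  {𝒜 : ℤ → Submodule k A} [GradedAlgebra 𝒜]
  {M : Type u} [AddCommGroup M] [Module A M] {ℳ : ℤ → AddSubgroup M}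
  [DirectSum.Decomposition ℳ] [SetLike.GradedSMul 𝒜 ℳ]
  (E : GrLC.StarInjRes 𝒜 ℳ) (m : HomogeneousIdeal 𝒜)

/-- the graded local cohomology computed from a resolution is the ungraded one -/
theorem nonempty_H_equiv_LC' (q : ℕ) : Nonempty (E.H m q ≃ₗ[A] LC.H m.toIdeal q M) :=
  nonempty_H_equiv_LC (StarInjRes.toAddR 𝒜 E ℳ (fun _ _ h => h)) (HomogeneousIdeal.toAddH 𝒜 m) q

theorem Hcomp_eq_bot_of_subsingleton (q : ℕ) (d : ℤ) (h : Subsingleton (LC.H m.toIdeal q M)) :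
    E.Hcomp m q d = ⊥ := by
  obtain ⟨e⟩ := nonempty_H_equiv_LC' E m q
  haveI : Subsingleton (E.H m q) := e.toEquiv.subsingleton
  rw [eq_bot_iff]
  intro x _
  rw [Submodule.mem_bot]
  exact Subsingleton.elim _ _

/-- vanishing above the dimension of the ring -/
theorem Hcomp_eq_bot_of_dim_lt (r : ℕ) (hr : ringKrullDim A = r) (q : ℕ) (hq : r < q) (d : ℤ) :
    E.Hcomp m q d = ⊥ :=
  Hcomp_eq_bot_of_subsingleton E m q d
    (LC.H_subsingleton_of_ringKrullDim_lt m.toIdeal r hr M q hq)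

theorem finrank_Hcomp_of_dim_lt [Nontrivial A] (r : ℕ) (hr : ringKrullDim A = r) (q : ℕ) (hq : r < q) (d : ℤ) :
    Module.finrank (GrLC.deg0 𝒜) (E.Hcomp m q d) = 0 := by
  rw [Hcomp_eq_bot_of_dim_lt E m r hr q hq d]
  exact finrank_bot _ _

end Vanish

end Groth.Agent.Helper20.GrInj

namespace Groth.Agent.Helper20.Seg

/-- the top term of the Künneth formula -/
theorem segre_top_arith (a b t h h' : ℕ → ℕ) (r s : ℕ) (h2r : 2 ≤ r) (h2s : 2 ≤ s)
    (har : ∀ q, r < q → a q = 0) (hbs : ∀ q, s < q → b q = 0)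
    (h3 : ∀ i, a (i + 2) = h (i + 1)) (h6 : ∀ i, b (i + 2) = h' (i + 1))
    (h9 : ∀ q, t (q + 2) = ∑ i : Fin (q + 2), h (i : ℕ) * h' (q + 1 - (i : ℕ))) :
    t (r + s - 1) = a r * b s := by
  obtain ⟨r', rfl⟩ : ∃ r', r = r' + 2 := ⟨r - 2, by omega⟩
  obtain ⟨s', rfl⟩ : ∃ s', s = s' + 2 := ⟨s - 2, by omega⟩
  have e1 : r' + 2 + (s' + 2) - 1 = (r' + s' + 1) + 2 := by omega
  rw [e1, h9, Fin.sum_univ_eq_sum_range (fun i => h i * h' (r' + s' + 1 + 1 - i)) (r' + s' + 1 + 2),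
    Finset.sum_eq_single (r' + 1)]
  · have e2 : r' + s' + 1 + 1 - (r' + 1) = s' + 1 := by omega
    rw [e2, ← h3, ← h6]
  · intro i hi hne
    rw [Finset.mem_range] at hi
    rcases Nat.eq_zero_or_pos i with rfl | hpos
    · have e3 : r' + s' + 1 + 1 - 0 = (r' + s') + 1 + 1 := by omega
      rw [e3, ← h6, hbs _ (by omega), mul_zero]
    · obtain ⟨j, rfl⟩ : ∃ j, i = j + 1 := ⟨i - 1, by omega⟩
      rw [← h3]
      by_cases hj : j + 2 > r' + 2
      · rw [har _ hj, zero_mul]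
      · have hj' : j < r' := by omega
        obtain ⟨l, hl⟩ : ∃ l, r' + s' + 1 + 1 - (j + 1) = l + 1 := ⟨r' + s' - j, by omega⟩
        rw [hl, ← h6, hbs _ (by omega), mul_zero]
  · intro hn
    exact absurd (Finset.mem_range.2 (by omega)) hn

end Groth.Agent.Helper20.Seg
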