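import Mathlib
import Groth.Agent.Lib.Helper20.GrSeg29

/-!
# Dimensions of the pieces of a *canonical module over a graded algebra (helper20)
-/

open DirectSum

namespace Groth.Agent.Helper20.GrInj

universe u

section Can

variable {k : Type u} [Field k] {A : Type u} [CommRing A] [Algebra k A] [Nontrivial A]
  {𝒜 : ℤ → Submodule k A} [GradedAlgebra 𝒜]

theorem isField_deg0 (h0 : 𝒜 0 = Submodule.span k {(1 : A)}) : IsField (GrLC.deg0 𝒜) where
  exists_pair_ne := ⟨0, 1, fun h => zero_ne_one (congrArg Subtype.val h)⟩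
  mul_comm := mul_comm
  mul_inv_cancel := by
    intro a ha
    obtain ⟨c, rfl⟩ := (c0_bijective 𝒜 h0).2 a
    have hc : c ≠ 0 := by
      rintro rfl
      apply ha
      apply Subtype.ext
      show algebraMap k A 0 = 0
      rw [map_zero]
    refine ⟨c0 𝒜 c⁻¹, Subtype.ext ?_⟩
    show algebraMap k A c * algebraMap k A c⁻¹ = 1
    rw [← map_mul, mul_inv_cancel₀ hc, map_one]

theorem ringKrullDim_nontrivial {B : Type u} [CommRing B] {r : ℕ} (hr : ringKrullDim B = r) :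
    Nontrivial B := by
  by_contra h
  rw [not_nontrivial_iff_subsingleton] at h
  rw [ringKrullDim_eq_bot_of_subsingleton] at hr
  exact WithBot.bot_ne_coe hr

variable [IsNoetherianRing A]

/-- **the pieces of a *canonical module are dual to those of the top local cohomology** (for a
graded algebra over a field) -/
theorem finrank_comp_canonical' (hpos : ∀ n : ℤ, n < 0 → 𝒜 n = ⊥)
    (h0 : 𝒜 0 = Submodule.span k {(1 : A)}) (m : HomogeneousIdeal 𝒜)
    (hm : m.toIdeal = Ideal.span (⋃ n ∈ Set.Ioi (0 : ℤ), (𝒜 n : Set A)))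
    {E' : Type u} [AddCommGroup E'] [Module A E'] {𝓔 : ℤ → AddSubgroup E'}
    [DirectSum.Decomposition 𝓔] [SetLike.GradedSMul 𝒜 𝓔]
    (e : (A ⧸ m.toIdeal) →ₗ[A] E') (he : GrLC.IsStarInjHull 𝒜 (GrLC.quotGr 𝒜 m) 𝓔 e)
    {C : Type u} [AddCommGroup C] [Module A C] {𝒞 : ℤ → AddSubgroup C}
    [DirectSum.Decomposition 𝒞] [SetLike.GradedSMul 𝒜 𝒞]
    (n : ℕ) (I : GrLC.StarInjRes 𝒜 𝒜) (hC : GrLC.IsStarCanonical 𝒜 𝒞 𝓔 m n I) (j : ℤ) :
    Module.finrank (GrLC.deg0 𝒜) (GrLC.comp 𝒜 𝒞 j) =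
      Module.finrank (GrLC.deg0 𝒜) (I.Hcomp m n (-j)) := by
  have hpos' : ∀ n : ℤ, n < 0 → toAdd 𝒜 n = ⊥ := by
    intro n hn
    ext x
    show x ∈ 𝒜 n ↔ x ∈ (⊥ : AddSubgroup A)
    rw [hpos n hn]
    rfl
  have h0' : IsField (GrLC.deg0 (toAdd 𝒜)) := isField_deg0 h0
  exact finrank_comp_canonical hpos' h0' (HomogeneousIdeal.toAddH 𝒜 m) hm e
    (isStarInjHull_toAdd 𝒜 𝓔 m e he) n (StarInjRes.toAddR 𝒜 I (toAdd 𝒜) (fun _ _ h => h))
    (isStarCanonical_toAdd 𝒜 𝓔 𝒞 m n I hC) j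

end Can

end Groth.Agent.Helper20.GrInj
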