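import Mathlib
import Groth.Agent.Lib.Helper20.GrSeg30

/-!
# The top local cohomology of a Segre product of rings (helper20)
-/

open DirectSum TensorProduct

namespace Groth.Agent.Helper20.Seg

open Groth.Agent.Helper20.GrInj Groth.Agent.Helper8 Groth.Agent.Helper20.Kun

universe u

section Pos

variable {k : Type u} [Field k] {R S T : Type u} [CommRing R] [CommRing S] [CommRing T]
  [Algebra k R] [Algebra k S] [Algebra k T]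
  {𝒜 : ℤ → Submodule k R} [GradedAlgebra 𝒜] {ℬ : ℤ → Submodule k S} [GradedAlgebra ℬ]
  {𝒯 : ℤ → Submodule k T} [GradedAlgebra 𝒯] {ψ : T →ₐ[k] R ⊗[k] S}
  (hT : GrSeg.IsSegreRing 𝒜 ℬ 𝒯 ψ)

include hT in
theorem segre_hpos (hposR : ∀ n : ℤ, n < 0 → 𝒜 n = ⊥) : ∀ n : ℤ, n < 0 → 𝒯 n = ⊥ := by
  intro n hn
  rw [eq_bot_iff]
  intro t ht
  have h1 : ψ t ∈ (𝒯 n).map ψ.toLinearMap := ⟨t, ht, rfl⟩
  rw [hT.2 n] at h1
  have h2 : ψ t = 0 := by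
    have : GrSeg.segrePiece k 𝒜 ℬ n ≤ ⊥ := by
      apply Submodule.span_le.2
      rintro _ ⟨a, ha, b, _, rfl⟩
      rw [hposR n hn] at ha
      rw [(Submodule.mem_bot k).1 ha, TensorProduct.zero_tmul]
      exact zero_mem _
    exact (Submodule.mem_bot k).1 (this h1)
  rw [Submodule.mem_bot]
  exact hT.1 (h2.trans (map_zero ψ).symm)

end Pos

/-- the top local cohomology of the Segre product of two graded rings of dimension at least two -/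
theorem segre_top_ring (k : Type u) [Field k] (R : Type u) [CommRing R] [Algebra k R] (𝒜 : ℤ → Submodule k R) [GradedAlgebra 𝒜] (hposR : ∀ n : ℤ, n < 0 → 𝒜 n = ⊥) (h0R : 𝒜 0 = Submodule.span k {(1 : R)}) [Algebra.FiniteType k R] (S : Type u) [CommRing S] [Algebra k S] (ℬ : ℤ → Submodule k S) [GradedAlgebra ℬ] (hposS : ∀ n : ℤ, n < 0 → ℬ n = ⊥) (h0S : ℬ 0 = Submodule.span k {(1 : S)}) [Algebra.FiniteType k S] (T : Type u) [CommRing T] [Algebra k T] (𝒯 : ℤ → Submodule k T) [GradedAlgebra 𝒯] (ψ : T →ₐ[k] TensorProduct k R S) (hψ : Function.Injective ψ) (hdegT : ∀ n : ℤ, (𝒯 n).map ψ.toLinearMap = Submodule.span k {x : TensorProduct k R S | ∃ a ∈ 𝒜 n, ∃ b ∈ ℬ n, x = a ⊗ₜ[k] b}) (mR : HomogeneousIdeal 𝒜) (hmR : mR.toIdeal = Ideal.span (⋃ n ∈ Set.Ioi (0 : ℤ), (𝒜 n : Set R))) (I : GrLC.StarInjRes 𝒜 𝒜) (mS : HomogeneousIdeal ℬ) (hmS : mS.toIdeal =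 Ideal.span (⋃ n ∈ Set.Ioi (0 : ℤ), (ℬ n : Set S))) (J : GrLC.StarInjRes ℬ ℬ) (mT : HomogeneousIdeal 𝒯) (hmT : mT.toIdeal = Ideal.span (⋃ n ∈ Set.Ioi (0 : ℤ), (𝒯 n : Set T))) (IT : GrLC.StarInjRes 𝒯 𝒯) (r s : ℕ) (hr : ringKrullDim R = r) (hs : ringKrullDim S = s) (h2r : 2 ≤ r) (h2s : 2 ≤ s) (n : ℤ) [Nontrivial R] [Nontrivial S] : Module.finrank (GrLC.deg0 𝒯) (IT.Hcomp mT (r + s - 1) n) = Module.finrank (GrLC.deg0 𝒜) (I.Hcomp mR r n) * Module.finrank (GrLC.deg0 ℬ) (J.Hcomp mS s n) := by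
  have hT : GrSeg.IsSegreRing 𝒜 ℬ 𝒯 ψ := ⟨hψ, hdegT⟩
  haveI : IsNoetherianRing R := Algebra.FiniteType.isNoetherianRing k R
  haveI : IsNoetherianRing S := Algebra.FiniteType.isNoetherianRing k S
  obtain ⟨ρ, ρ', h, h', h1, h2, h3, h4, h5, h6, h7, h8, h9⟩ :=
    segre_dims k R 𝒜 hposR h0R S ℬ hposS h0S T 𝒯 ψ hT mR hmR mS hmS mT hmT
      R (toAdd 𝒜) (StarInjRes.toAddM 𝒜 I (toAdd 𝒜) (fun _ _ h => h))
      S (toAdd ℬ) (StarInjRes.toAddM ℬ J (toAdd ℬ) (fun _ _ h => h))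
      T (toAdd 𝒯) ψ.toLinearMap (isSegreMod_ring hT)
      (StarInjRes.toAddM 𝒯 IT (toAdd 𝒯) (fun _ _ h => h)) n
  have h3' : ∀ i, Module.finrank (GrLC.deg0 𝒜) (I.Hcomp mR (i + 2) n) = h (i + 1) := h3
  have h6' : ∀ i, Module.finrank (GrLC.deg0 ℬ) (J.Hcomp mS (i + 2) n) = h' (i + 1) := h6
  have h9' : ∀ q, Module.finrank (GrLC.deg0 𝒯) (IT.Hcomp mT (q + 2) n) =
        ∑ i : Fin (q + 2), h (i : ℕ) * h' (q + 1 - (i : ℕ)) := h9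
  obtain ⟨a, ha⟩ : ∃ a : ℕ → ℕ, ∀ q, a q = Module.finrank (GrLC.deg0 𝒜) (I.Hcomp mR q n) :=
    ⟨_, fun _ => rfl⟩
  obtain ⟨b, hb⟩ : ∃ b : ℕ → ℕ, ∀ q, b q = Module.finrank (GrLC.deg0 ℬ) (J.Hcomp mS q n) :=
    ⟨_, fun _ => rfl⟩
  obtain ⟨t, ht⟩ : ∃ t : ℕ → ℕ, ∀ q, t q = Module.finrank (GrLC.deg0 𝒯) (IT.Hcomp mT q n) :=
    ⟨_, fun _ => rfl⟩
  rw [← ht, ← ha, ← hb]
  apply segre_top_arith a b t h h' r s h2r h2s
  · intro q hq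
    rw [ha]
    exact finrank_Hcomp_of_dim_lt (StarInjRes.toAddM 𝒜 I (toAdd 𝒜) (fun _ _ h => h)) mR r hr q hq n
  · intro q hq
    rw [hb]
    exact finrank_Hcomp_of_dim_lt (StarInjRes.toAddM ℬ J (toAdd ℬ) (fun _ _ h => h)) mS s hs q hq n
  · intro i
    rw [ha]
    exact h3' i
  · intro i
    rw [hb]
    exact h6' i
  · intro q
    rw [ht]
    exact h9' q

end Groth.Agent.Helper20.Seg
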