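import Mathlib
import Groth.Agent.Lib.Helper20.GrArt3
import Groth.Agent.Lib.Helper8.LCTop

/-!
# Top graded local cohomology of a standard graded ring (helper20)
-/

open DirectSum

namespace Groth.Agent.Helper20.GrInj

open Groth.Agent.Helper8

universe u

section Avoid

variable {R : Type u} [CommRing R]

/-- in a Noetherian ring of dimension `r ≥ 1`, a maximal ideal contains an element avoiding all
minimal primes of maximal dimension -/
theorem exists_mem_notMem_top_minimalPrimes [IsNoetherianRing R] (m : Ideal R) [hm : m.IsMaximal]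
    (r : ℕ) (h1 : 1 ≤ r) :
    ∃ f ∈ m, ∀ p ∈ minimalPrimes R, ringKrullDim (R ⧸ p) = r → f ∉ p := by
  classical
  have hfin : (minimalPrimes R).Finite := minimalPrimes.finite_of_isNoetherianRing R
  let S : Finset (Ideal R) := hfin.toFinset.filter (fun p => ringKrullDim (R ⧸ p) = r)
  by_contra hcon
  push Not at hcon
  have hsub : (m : Set R) ⊆ ⋃ p ∈ (S : Set (Ideal R)), ((id p : Ideal R) : Set R) := by
    intro f hf
    obtain ⟨p, hp, hpd, hfp⟩ := hcon f hf
    refine Set.mem_biUnion (x := p) ?_ hfp
    simp only [S, Finset.coe_filter, Set.Finite.mem_toFinset, Set.mem_ofPred_eq]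
    exact ⟨hp, hpd⟩
  have hprime : ∀ p ∈ S, p ≠ (⊥ : Ideal R) → p ≠ (⊥ : Ideal R) → (id p : Ideal R).IsPrime := by
    intro p hp _ _
    simp only [S, Finset.mem_filter, Set.Finite.mem_toFinset] at hp
    exact hp.1.1.1
  obtain ⟨p, hpS, hmp⟩ := (Ideal.subset_union_prime (s := S) (f := id) ⊥ ⊥ hprime).1 hsub
  simp only [S, Finset.mem_filter, Set.Finite.mem_toFinset] at hpS
  have hpprime : p.IsPrime := hpS.1.1.1
  have hmp' : m = p := hm.eq_of_le hpprime.ne_top hmp
  have hdim : ringKrullDim (R ⧸ p) = r := hpS.2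
  rw [← hmp'] at hdim
  letI := Ideal.Quotient.field m
  rw [ringKrullDim_eq_zero_of_field] at hdim
  have : (0 : ℕ) = r := by exact_mod_cast hdim
  omega

end Avoid

section Top

variable {R : Type u} [CommRing R] {𝒜 : ℤ → AddSubgroup R} [GradedRing 𝒜]
variable {M : Type u} [AddCommGroup M] [Module R M] {ℳ : ℤ → AddSubgroup M}
  [DirectSum.Decomposition ℳ] [SetLike.GradedSMul 𝒜 ℳ]

/-- multiplication by a suitable element of the maximal ideal is surjective on the top graded
local cohomology -/
theorem exists_smul_surjective_H_top [IsNoetherianRing R] [Module.Finite R M]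
    (E : GrLC.StarInjRes 𝒜 ℳ) (m : HomogeneousIdeal 𝒜) [m.toIdeal.IsMaximal] (r : ℕ)
    (hr : ringKrullDim R = r) (h1 : 1 ≤ r) :
    ∃ f ∈ m.toIdeal, Function.Surjective (fun x : E.H m r => f • x) := by
  obtain ⟨f, hfm, hf⟩ := exists_mem_notMem_top_minimalPrimes m.toIdeal r h1
  refine ⟨f, hfm, ?_⟩
  obtain ⟨e⟩ := nonempty_H_equiv_LC E m r
  have hs := LC.smul_surjective_H_top m.toIdeal r hr f hf M
  intro y
  obtain ⟨x, hx⟩ := hs (e y)
  refine ⟨e.symm x, ?_⟩
  show f • e.symm x = y
  rw [← map_smul]
  apply e.injective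
  rw [LinearEquiv.apply_symm_apply]
  exact hx

/-- if multiplication by an element of the ideal generated by degree one is surjective, then a
vanishing piece forces the next piece to vanish -/
theorem Hcomp_succ_eq_bot_of_smul_surjective (E : GrLC.StarInjRes 𝒜 ℳ) (a : HomogeneousIdeal 𝒜)
    (i : ℕ) {f : R} (hf : f ∈ Ideal.span ((𝒜 1 : AddSubgroup R) : Set R))
    (hs : Function.Surjective (fun x : E.H a i => f • x)) (n : ℤ) (hn : E.Hcomp a i n = ⊥) :
    E.Hcomp a i (n + 1) = ⊥ := by
  letI := (Hgr_isInternal E a i).chooseDecomposition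
  letI := Hgr_gradedSMul E a i
  have hn' : ∀ v : E.H a i, (decompose (E.Hgr a i) v n : E.H a i) = 0 := by
    intro v
    have h : (decompose (E.Hgr a i) v n : E.H a i) ∈ E.Hcomp a i n := (decompose (E.Hgr a i) v n).2
    rw [hn] at h
    exact h
  have key : ∀ g ∈ Ideal.span ((𝒜 1 : AddSubgroup R) : Set R), ∀ v : E.H a i,
      (decompose (E.Hgr a i) (g • v) (n + 1) : E.H a i) = 0 := by
    intro g hg
    induction hg using Submodule.span_induction with
    | mem x hx =>
      intro v
      have := decompose_smul_of_mem 𝒜 (E.Hgr a i) (h := 1) (r := x) hx v n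
      rw [add_comm 1 n] at this
      rw [this, hn' v, smul_zero]
    | zero =>
      intro v
      rw [zero_smul, decompose_zero, DirectSum.zero_apply, ZeroMemClass.coe_zero]
    | add x y _ _ hx hy =>
      intro v
      rw [add_smul, decompose_add, DirectSum.add_apply, AddMemClass.coe_add, hx v, hy v, add_zero]
    | smul c x _ hx =>
      intro v
      rw [smul_eq_mul, mul_comm, mul_smul]
      exact hx (c • v)
  rw [eq_bot_iff]
  intro w hw
  obtain ⟨v, rfl⟩ := hs w
  have hw' : f • v ∈ E.Hgr a i (n + 1) := hw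
  have := key f hf v
  rw [decompose_of_mem_same (E.Hgr a i) hw'] at this
  exact (Submodule.mem_bot _).2 this

end Top

end Groth.Agent.Helper20.GrInj
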