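import Mathlib
import Groth.Prelude
import Groth.Agent.Lib.Helper20.GrVer2
import Groth.Agent.Lib.Helper20.GrSeg9

/-!
# The Veronese subring `R^(q)` of a ℤ-graded ring, concretely (helper20)
-/

open DirectSum

namespace Groth.Agent.Helper20.GrVC

open Groth.Agent.Helper20.GrInj

universe u

variable {R : Type u} [CommRing R] (𝒜 : ℤ → AddSubgroup R) [GradedRing 𝒜] (q : ℕ)

theorem verProj_mul_of_fixed {x : R} (hx : verProj 𝒜 q x = x) (y : R) :
    verProj 𝒜 q (x * y) = x * verProj 𝒜 q y := by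
  refine verProj_induction 𝒜 q (P := fun x => ∀ y, verProj 𝒜 q (x * y) = x * verProj 𝒜 q y)
    ?_ ?_ ?_ x hx y
  · intro y; rw [zero_mul, map_zero, zero_mul]
  · intro j x hx y
    exact verProj_smul_of_mem 𝒜 𝒜 q hx y
  · intro a b ha hb y
    rw [add_mul, map_add, ha, hb, add_mul]

/-- the Veronese subring -/
def verSub : Subring R where
  carrier := {x | verProj 𝒜 q x = x}
  mul_mem' := by
    intro a b ha hb
    have ha' : verProj 𝒜 q a = a := ha
    have hb' : verProj 𝒜 q b = b := hb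
    show verProj 𝒜 q (a * b) = a * b
    rw [verProj_mul_of_fixed 𝒜 q ha', hb']
  one_mem' := by
    show verProj 𝒜 q 1 = 1
    apply verProj_of_mem_mul 𝒜 q (j := 0)
    rw [zero_mul]
    exact SetLike.GradedOne.one_mem
  add_mem' := by
    intro a b ha hb
    have ha' : verProj 𝒜 q a = a := ha
    have hb' : verProj 𝒜 q b = b := hb
    show verProj 𝒜 q (a + b) = a + b
    rw [map_add, ha', hb']
  zero_mem' := map_zero _
  neg_mem' := by
    intro a ha
    have ha' : verProj 𝒜 q a = a := ha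
    show verProj 𝒜 q (-a) = -a
    rw [map_neg, ha']

theorem mem_verSub_iff {x : R} : x ∈ verSub 𝒜 q ↔ verProj 𝒜 q x = x := Iff.rfl

theorem mem_verSub_of_mem {j : ℤ} {x : R} (hx : x ∈ 𝒜 (j * q)) : x ∈ verSub 𝒜 q :=
  verProj_of_mem_mul 𝒜 q hx

/-- the grading of the Veronese subring -/
def verGr : ℤ → AddSubgroup (verSub 𝒜 q) := fun j =>
  (𝒜 (j * q)).comap (verSub 𝒜 q).subtype.toAddMonoidHom

theorem mem_verGr {j : ℤ} {x : verSub 𝒜 q} : x ∈ verGr 𝒜 q j ↔ (x : R) ∈ 𝒜 (j * q) := Iff.rfl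

instance verGr_gradedMonoid : SetLike.GradedMonoid (verGr 𝒜 q) where
  one_mem := by
    show ((1 : verSub 𝒜 q) : R) ∈ 𝒜 (0 * q)
    rw [zero_mul]
    exact SetLike.GradedOne.one_mem
  mul_mem := by
    intro i j x y hx hy
    show ((x * y : verSub 𝒜 q) : R) ∈ 𝒜 ((i + j) * q)
    rw [add_mul]
    exact SetLike.GradedMul.mul_mem hx hy

omit [GradedRing 𝒜] in
theorem eq_zero_of_sum_eq_zero [GradedRing 𝒜] {ι : Type*} [DecidableEq ι] (f : ι → ℤ)
    (hf : Function.Injective f)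
    (s : Finset ι) (x : ι → R) (hx : ∀ i, x i ∈ 𝒜 (f i)) (hsum : ∑ i ∈ s, x i = 0) :
    ∀ i ∈ s, x i = 0 := by
  intro i hi
  have h2 := congrArg (GradedRing.proj 𝒜 (f i)) hsum
  rw [map_sum, map_zero, Finset.sum_eq_single i] at h2
  · rwa [GradedRing.proj_apply, decompose_of_mem_same 𝒜 (hx i)] at h2
  · intro j _ hji
    rw [GradedRing.proj_apply, decompose_of_mem_ne 𝒜 (hx j) (fun h => hji (hf h))]
  · intro h; exact absurd hi h

theorem verGr_isInternal [NeZero q] : DirectSum.IsInternal (verGr 𝒜 q) := by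
  classical
  apply isInternal_of_iSup
  · rintro ⟨x, hx⟩
    have key : ∀ x : R, verProj 𝒜 q x = x →
        ∃ hx : x ∈ verSub 𝒜 q, (⟨x, hx⟩ : verSub 𝒜 q) ∈ ⨆ j, verGr 𝒜 q j := by
      intro x hx
      refine verProj_induction 𝒜 q (P := fun x => ∃ hx : x ∈ verSub 𝒜 q,
        (⟨x, hx⟩ : verSub 𝒜 q) ∈ ⨆ j, verGr 𝒜 q j) ?_ ?_ ?_ x hx
      · exact ⟨zero_mem _, zero_mem _⟩
      · intro j x hxj
        exact ⟨mem_verSub_of_mem 𝒜 q hxj, AddSubgroup.mem_iSup_of_mem j hxj⟩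
      · rintro a b ⟨ha, ha'⟩ ⟨hb, hb'⟩
        exact ⟨add_mem ha hb, add_mem ha' hb'⟩
    obtain ⟨_, h⟩ := key x hx
    exact h
  · intro s c hc hsum i hi
    have h1 : ∑ i ∈ s, ((c i : verSub 𝒜 q) : R) = 0 := by
      have := congrArg (verSub 𝒜 q).subtype hsum
      rwa [map_sum, map_zero] at this
    have hinj : Function.Injective (fun j : ℤ => j * (q : ℤ)) := by
      intro a b hab
      exact mul_right_cancel₀ (by exact_mod_cast (NeZero.ne q)) hab
    have := eq_zero_of_sum_eq_zero 𝒜 (fun j : ℤ => j * (q : ℤ)) hinj s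
      (fun i => ((c i : verSub 𝒜 q) : R)) (fun i => hc i) h1 i hi
    exact Subtype.ext this

noncomputable instance verGr_decomposition [NeZero q] : DirectSum.Decomposition (verGr 𝒜 q) :=
  (verGr_isInternal 𝒜 q).chooseDecomposition

noncomputable instance verGr_gradedRing [NeZero q] : GradedRing (verGr 𝒜 q) :=
  { verGr_gradedMonoid 𝒜 q, verGr_decomposition 𝒜 q with }

/-- the inclusion of the Veronese subring -/
def incl : verSub 𝒜 q →+* R := (verSub 𝒜 q).subtype

theorem incl_injective : Function.Injective (incl 𝒜 q) := Subtype.val_injective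

theorem map_verGr (j : ℤ) : (verGr 𝒜 q j).map (incl 𝒜 q : verSub 𝒜 q →+ R) = 𝒜 (j * q) := by
  ext x
  constructor
  · rintro ⟨y, hy, rfl⟩
    exact hy
  · intro hx
    exact ⟨⟨x, mem_verSub_of_mem 𝒜 q hx⟩, hx, rfl⟩

theorem verGr_eq_bot_of_neg [NeZero q] (hpos : ∀ n : ℤ, n < 0 → 𝒜 n = ⊥) (j : ℤ) (hj : j < 0) :
    verGr 𝒜 q j = ⊥ := by
  rw [eq_bot_iff]
  intro x hx
  rw [mem_verGr, hpos (j * q) (mul_neg_of_neg_of_pos hj (by exact_mod_cast Nat.pos_of_ne_zero (NeZero.ne q)))] at hx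
  rw [AddSubgroup.mem_bot] at hx ⊢
  exact Subtype.ext hx

/-- the retraction onto the Veronese subring -/
noncomputable def retr' : R →+ verSub 𝒜 q where
  toFun x := ⟨verProj 𝒜 q x, verProj_idem 𝒜 q x⟩
  map_zero' := Subtype.ext (map_zero _)
  map_add' a b := Subtype.ext (map_add _ a b)

theorem retr'_incl (x : verSub 𝒜 q) : retr' 𝒜 q (incl 𝒜 q x) = x := Subtype.ext x.2

theorem retr'_mul (x : verSub 𝒜 q) (y : R) : retr' 𝒜 q (incl 𝒜 q x * y) = x * retr' 𝒜 q y :=
  Subtype.ext (verProj_mul_of_fixed 𝒜 q x.2 y)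

theorem comap_map_incl (I : Ideal (verSub 𝒜 q)) : (I.map (incl 𝒜 q)).comap (incl 𝒜 q) = I := by
  apply le_antisymm
  · intro x hx
    rw [Ideal.mem_comap] at hx
    have key : ∀ z ∈ I.map (incl 𝒜 q), ∀ r : R, retr' 𝒜 q (r * z) ∈ I := by
      intro z hz
      refine Submodule.span_induction ?_ ?_ ?_ ?_ hz
      · rintro _ ⟨a, ha, rfl⟩ r
        rw [mul_comm, retr'_mul]
        exact I.mul_mem_right _ ha
      · intro r
        rw [mul_zero, map_zero]; exact zero_mem _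
      · intro a b _ _ ha hb r
        rw [mul_add, map_add]; exact add_mem (ha r) (hb r)
      · intro s a _ ha r
        rw [smul_eq_mul, ← mul_assoc]
        exact ha (r * s)
    have := key _ hx 1
    rwa [one_mul, retr'_incl] at this
  · exact Ideal.le_comap_map

end Groth.Agent.Helper20.GrVC
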