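import Mathlib
import Groth.Agent.Lib.Helper20.GrSG10

/-!
# The a-invariant of a standard graded Cohen–Macaulay ring is at least `-dim` (helper20)
-/

open DirectSum

namespace Groth.Agent.Helper20.GrInj

open Groth.Agent.Helper8

universe u

variable {R : Type u} [CommRing R]
variable {𝒜 : ℤ → AddSubgroup R} [GradedRing 𝒜]

/-- existence of the Hilbert polynomial, of degree `< dim R` -/
theorem exists_hilbertPoly [IsNoetherianRing R] [IsArtinianRing (GrLC.deg0 𝒜)]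
    (hpos : ∀ n : ℤ, n < 0 → 𝒜 n = ⊥)
    (hstd : Ideal.span (⋃ n ∈ Set.Ioi (0 : ℤ), (𝒜 n : Set R)) =
      Ideal.span ((𝒜 1 : AddSubgroup R) : Set R))
    (m : HomogeneousIdeal 𝒜) (hm : GrLC.IsStarLocal 𝒜 m) (d : ℕ) (hd : ringKrullDim R = d)
    {M : Type u} [AddCommGroup M] [Module R M] (ℳ : ℤ → AddSubgroup M)
    [DirectSum.Decomposition ℳ] [SetLike.GradedSMul 𝒜 ℳ] [Module.Finite R M] :
    ∃ P : Polynomial ℚ, P.degree < d ∧
      ∃ N : ℤ, ∀ n : ℤ, N ≤ n → P.eval (n : ℚ) = ((plen (𝒜 := 𝒜) ℳ n).toNat : ℚ) := by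
  haveI hmmax : m.toIdeal.IsMaximal := isMaximal_of_isStarLocal hpos m hm
  obtain ⟨Q, hQdeg, hQ⟩ := exists_chi_poly (ℳ := ℳ) hpos hstd m hm d hd
  let E := starInjRes 𝒜 ℳ
  obtain ⟨N₁, hN₁⟩ := exists_hlen_eq_zero hpos m E d
  refine ⟨Q, hQdeg, N₁, fun n hn => ?_⟩
  rw [← hQ E n]
  unfold chi
  have : ∀ i ∈ Finset.range (d + 1), (-1 : ℚ) ^ i * ((hlen E m i n).toNat : ℚ) = 0 := by
    intro i hi
    rw [hN₁ n hn i hi]; simp
  rw [Finset.sum_eq_zero this, sub_zero]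

theorem plen_self_neg (hpos : ∀ n : ℤ, n < 0 → 𝒜 n = ⊥) {n : ℤ} (hn : n < 0) :
    plen (𝒜 := 𝒜) 𝒜 n = 0 := by
  unfold plen
  rw [Module.length_eq_zero_iff]
  constructor
  rintro ⟨x, hx⟩ ⟨y, hy⟩
  have hx' : x ∈ 𝒜 n := hx
  have hy' : y ∈ 𝒜 n := hy
  rw [hpos n hn] at hx' hy'
  apply Subtype.ext
  show x = y
  rw [AddSubgroup.mem_bot.1 hx', AddSubgroup.mem_bot.1 hy']

theorem plen_self_zero_ne [Nontrivial R] : plen (𝒜 := 𝒜) 𝒜 0 ≠ 0 := by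
  unfold plen
  rw [Ne, Module.length_eq_zero_iff]
  intro h
  have h1 : (1 : R) ∈ 𝒜 0 := SetLike.GradedOne.one_mem
  have : (⟨1, h1⟩ : GrLC.comp 𝒜 𝒜 0) = ⟨0, zero_mem _⟩ :=
    Subsingleton.elim _ _
  exact one_ne_zero (congrArg Subtype.val this)

/-- **`a(R) ≥ -dim R`** for a standard graded Cohen–Macaulay *local ring with Artinian `R₀`. -/
theorem neg_dim_le_endDeg [LocCoh.IsCohenMacaulayRing R] [IsArtinianRing (GrLC.deg0 𝒜)]
    (hpos : ∀ n : ℤ, n < 0 → 𝒜 n = ⊥)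
    (hstd : Ideal.span (⋃ n ∈ Set.Ioi (0 : ℤ), (𝒜 n : Set R)) =
      Ideal.span ((𝒜 1 : AddSubgroup R) : Set R))
    (m : HomogeneousIdeal 𝒜) (hm : GrLC.IsStarLocal 𝒜 m) (d : ℕ) (hd : ringKrullDim R = d)
    (I : GrLC.StarInjRes 𝒜 𝒜) :
    (((-(d : ℤ) : ℤ) : WithTop ℤ) : WithBot (WithTop ℤ)) ≤ GrLC.endDeg (I.Hgr m d) := by
  haveI hmmax : m.toIdeal.IsMaximal := isMaximal_of_isStarLocal hpos m hm
  haveI : Nontrivial R := by
    by_contra h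
    rw [not_nontrivial_iff_subsingleton] at h
    exact hmmax.ne_top (Subsingleton.elim _ _)
  obtain ⟨P, hPdeg, hP⟩ := exists_hilbertPoly hpos hstd m hm d hd 𝒜
  by_contra hlt
  have hbot : ∀ n : ℤ, -(d : ℤ) ≤ n → I.Hgr m d n = ⊥ := by
    intro n hn
    by_contra hne
    apply hlt
    have h1 : (((n : ℤ) : WithTop ℤ) : WithBot (WithTop ℤ)) ≤ GrLC.endDeg (I.Hgr m d) :=
      le_iSup₂ (f := fun (n : ℤ) (_ : I.Hgr m d n ≠ ⊥) =>
        ((n : WithTop ℤ) : WithBot (WithTop ℤ))) n hne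
    exact le_trans (WithBot.coe_le_coe.2 (WithTop.coe_le_coe.2 hn)) h1
  have heq : ∀ n : ℤ, -(d : ℤ) ≤ n → P.eval (n : ℚ) = ((plen (𝒜 := 𝒜) 𝒜 n).toNat : ℚ) := by
    intro n hn
    by_contra hne
    exact (eval_ne_iff_Hgr_ne_bot hpos hstd m hm d hd I P hP n).1 hne (hbot n hn)
  have hP0 : P ≠ 0 := by
    intro h0
    have h1 := heq 0 (by omega)
    rw [h0] at h1
    simp only [Polynomial.eval_zero] at h1
    have h2 : (plen (𝒜 := 𝒜) 𝒜 0).toNat = 0 := by exact_mod_cast h1.symm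
    rcases ENat.toNat_eq_zero.1 h2 with h3 | h3
    · exact plen_self_zero_ne h3
    · exact plen_ne_top (ℳ := 𝒜) 0 h3
  apply hP0
  refine Polynomial.eq_zero_of_natDegree_lt_card_of_eval_eq_zero P
    (f := fun j : Fin d => (((-((j : ℕ) : ℤ) - 1 : ℤ)) : ℚ)) ?_ ?_ ?_
  · intro a b hab
    have hab' : (((-((a : ℕ) : ℤ) - 1 : ℤ)) : ℚ) = (((-((b : ℕ) : ℤ) - 1 : ℤ)) : ℚ) := hab
    have : (-((a : ℕ) : ℤ) - 1 : ℤ) = (-((b : ℕ) : ℤ) - 1 : ℤ) := by exact_mod_cast hab'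
    apply Fin.ext
    omega
  · intro j
    have hj := j.2
    rw [heq _ (by omega), plen_self_neg hpos (by omega)]
    simp
  · rw [Fintype.card_fin, Polynomial.natDegree_lt_iff_degree_lt hP0]
    exact hPdeg

end Groth.Agent.Helper20.GrInj
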