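import Mathlib
import Groth.Prelude
import Groth.Agent.Lib.Helper20.GrVC1
import Groth.Agent.Lib.Helper7.IntDim
import Groth.Agent.Lib.Helper23.APoly6

/-!
# Properties of the concrete Veronese subring (helper20)
-/

open DirectSum

namespace Groth.Agent.Helper20.GrVC

open Groth.Agent.Helper20.GrInj

universe u

variable {R : Type u} [CommRing R] (𝒜 : ℤ → AddSubgroup R) [GradedRing 𝒜] (q : ℕ)

instance isNoetherianRing_ver [IsNoetherianRing R] : IsNoetherianRing (verSub 𝒜 q) := by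
  rw [isNoetherianRing_iff, isNoetherian_iff']
  have hsm : StrictMono (fun I : Ideal (verSub 𝒜 q) => I.map (incl 𝒜 q)) := by
    intro I J hIJ
    refine lt_of_le_of_ne (Ideal.map_mono hIJ.le) ?_
    intro h
    have := congrArg (Ideal.comap (incl 𝒜 q)) h
    rw [comap_map_incl, comap_map_incl] at this
    exact hIJ.ne this
  exact hsm.wellFoundedGT

theorem isIntegral_ver [NeZero q] : Algebra.IsIntegral (verSub 𝒜 q) R := by
  refine ⟨fun x => ?_⟩
  induction x using DirectSum.Decomposition.inductionOn 𝒜 with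
  | zero => exact isIntegral_zero
  | add a b ha hb => exact ha.add hb
  | homogeneous m =>
    rename_i n
    apply IsIntegral.of_pow (Nat.pos_of_ne_zero (NeZero.ne q))
    have h1 : (m : R) ^ q ∈ 𝒜 (n * q) := by
      have := SetLike.pow_mem_graded q m.2
      rwa [nsmul_eq_mul, mul_comm] at this
    have h2 : (m : R) ^ q = algebraMap (verSub 𝒜 q) R ⟨(m : R) ^ q, mem_verSub_of_mem 𝒜 q h1⟩ := rfl
    rw [h2]
    exact isIntegral_algebraMap

theorem ringKrullDim_ver [NeZero q] : ringKrullDim (verSub 𝒜 q) = ringKrullDim R := by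
  haveI := isIntegral_ver 𝒜 q
  exact (Groth.Agent.Helper7.IntDim.ringKrullDim_eq_of_isIntegral_of_injective
    (A := verSub 𝒜 q) (B := R) Subtype.val_injective).symm

theorem isField_deg0_ver [NeZero q] (h0 : IsField (GrLC.deg0 𝒜)) :
    IsField (GrLC.deg0 (verGr 𝒜 q)) := by
  haveI : Nontrivial R := by
    obtain ⟨a, b, hab⟩ := h0.exists_pair_ne
    exact ⟨⟨a, b, fun h => hab (Subtype.ext h)⟩⟩
  refine ⟨⟨0, 1, ?_⟩, mul_comm, ?_⟩
  · intro h
    have h1 := congrArg (fun z : GrLC.deg0 (verGr 𝒜 q) => ((z : verSub 𝒜 q) : R)) h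
    exact zero_ne_one h1
  · intro a ha
    have hmem : ((a : verSub 𝒜 q) : R) ∈ 𝒜 0 := by
      have := a.2
      have h2 : (a : verSub 𝒜 q) ∈ verGr 𝒜 q 0 := this
      rw [mem_verGr, zero_mul] at h2
      exact h2
    have hne : (⟨((a : verSub 𝒜 q) : R), hmem⟩ : GrLC.deg0 𝒜) ≠ 0 := by
      intro h
      apply ha
      apply Subtype.ext
      apply Subtype.ext
      exact congrArg (fun z : GrLC.deg0 𝒜 => (z : R)) h
    obtain ⟨b, hb⟩ := h0.mul_inv_cancel hne
    have hbmem : (b : R) ∈ 𝒜 (0 * q) := by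
      rw [zero_mul]
      exact b.2
    refine ⟨⟨⟨(b : R), mem_verSub_of_mem 𝒜 q hbmem⟩, hbmem⟩, ?_⟩
    apply Subtype.ext
    apply Subtype.ext
    exact congrArg (fun z : GrLC.deg0 𝒜 => (z : R)) hb

end Groth.Agent.Helper20.GrVC
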