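import Mathlib
import Groth.Prelude
import Groth.Agent.Lib.Helper20.GrVC2
import Groth.Agent.Lib.Helper20.GrVer10
import Groth.Agent.Lib.Helper20.GrHt4
import Groth.Agent.Lib.Helper20.GrCoind4
import Groth.Agent.Lib.Helper8.LCGNV2

/-!
# Nonvanishing of the top graded local cohomology in degrees divisible by `q` (helper20)
-/

open DirectSum

namespace Groth.Agent.Helper20.GrVC

open Groth.Agent.Helper20.GrInj Groth.Agent.Helper8

universe u

section General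

variable {R : Type u} [CommRing R] {𝒜 : ℤ → AddSubgroup R} [GradedRing 𝒜]
variable {M : Type u} [AddCommGroup M] [Module R M] {ℳ : ℤ → AddSubgroup M}
  [DirectSum.Decomposition ℳ] [SetLike.GradedSMul 𝒜 ℳ]

theorem exists_Hcomp_ne_bot (E : GrLC.StarInjRes 𝒜 ℳ) (a : HomogeneousIdeal 𝒜) (i : ℕ)
    [Nontrivial (E.H a i)] : ∃ n : ℤ, E.Hcomp a i n ≠ ⊥ := by
  classical
  by_contra hcon
  push Not at hcon
  letI := (Hgr_isInternal E a i).chooseDecomposition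
  have hz : ∀ x : E.H a i, x = 0 := by
    intro x
    rw [← DirectSum.sum_support_decompose (E.Hgr a i) x]
    apply Finset.sum_eq_zero
    intro n _
    have h1 : (decompose (E.Hgr a i) x n : E.H a i) ∈ E.Hcomp a i n :=
      (decompose (E.Hgr a i) x n).2
    rw [hcon n] at h1
    exact (Submodule.mem_bot _).1 h1
  obtain ⟨x, y, hxy⟩ := exists_pair_ne (E.H a i)
  exact hxy ((hz x).trans (hz y).symm)

end General

variable {R : Type u} [CommRing R] (𝒜 : ℤ → AddSubgroup R) [GradedRing 𝒜] (q : ℕ)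

/-- the concrete Veronese subring as a Veronese presentation -/
def verRing [NeZero q] : VerRing 𝒜 (verGr 𝒜 q) where
  φ := incl 𝒜 q
  q := q
  hq := Nat.pos_of_ne_zero (NeZero.ne q)
  inj := incl_injective 𝒜 q
  h1 := fun _ _ hr' => hr'
  h2 := fun _ r hr => ⟨⟨r, mem_verSub_of_mem 𝒜 q hr⟩, hr, rfl⟩

/-- the inclusion as a semilinear map -/
def inclSL [NeZero q] : verSub 𝒜 q →ₛₗ[(verRing 𝒜 q).φ] R where
  toFun := incl 𝒜 q
  map_add' := map_add _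
  map_smul' := fun r x => map_mul (incl 𝒜 q) r x

theorem exists_Hcomp_mul_ne_bot [IsNoetherianRing R] [NeZero q]
    (hpos : ∀ n : ℤ, n < 0 → 𝒜 n = ⊥)
    (h0 : IsField (GrLC.deg0 𝒜)) (m : HomogeneousIdeal 𝒜)
    (hmsp : m.toIdeal = Ideal.span (⋃ n ∈ Set.Ioi (0 : ℤ), (𝒜 n : Set R)))
    (I : GrLC.StarInjRes 𝒜 𝒜) (r : ℕ) (hr : ringKrullDim R = r) :
    ∃ j : ℤ, I.Hcomp m r (j * q) ≠ ⊥ := by
  have hpos' := verGr_eq_bot_of_neg 𝒜 q hpos
  have h0' := isField_deg0_ver 𝒜 q h0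
  haveI : Nontrivial (verSub 𝒜 q) := by
    obtain ⟨a, b, hab⟩ := h0'.exists_pair_ne
    exact ⟨⟨a, b, fun h => hab (Subtype.ext h)⟩⟩
  have hm' := Groth.Agent.Helper23.APoly.isStarLocal_irrel (verGr 𝒜 q) hpos' h0'
  have hmax' := isMaximal_of_isStarLocal hpos' _ hm'
  have hdim : ringKrullDim (verSub 𝒜 q) = r := by rw [ringKrullDim_ver, hr]
  have hht : (Groth.Agent.Helper23.APoly.irrel (verGr 𝒜 q)).toIdeal.height = r := by
    have h1 := ringKrullDim_eq_height_of_isStarLocal _ hm' hmax'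
    rw [hdim] at h1
    exact_mod_cast h1.symm
  let F := starInjRes (verGr 𝒜 q) (verGr 𝒜 q)
  haveI := LC.nontrivial_H_height (Groth.Agent.Helper23.APoly.irrel (verGr 𝒜 q)).toIdeal r hht
  obtain ⟨e⟩ := nonempty_H_equiv_LC F (Groth.Agent.Helper23.APoly.irrel (verGr 𝒜 q)) r
  haveI : Nontrivial (F.H (Groth.Agent.Helper23.APoly.irrel (verGr 𝒜 q)) r) :=
    e.toEquiv.nontrivial
  obtain ⟨j, hj⟩ := exists_Hcomp_ne_bot F (Groth.Agent.Helper23.APoly.irrel (verGr 𝒜 q)) r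
  refine ⟨j, ?_⟩
  have hle : (Groth.Agent.Helper23.APoly.irrel (verGr 𝒜 q)).toIdeal.map (verRing 𝒜 q).φ ≤
      m.toIdeal := by
    rw [hmsp, Groth.Agent.Helper23.APoly.irrel_toIdeal]
    exact map_irrelevant_le 𝒜 (verGr 𝒜 q) (verRing 𝒜 q).φ q (verRing 𝒜 q).hq (verRing 𝒜 q).h1
  have hrad : m.toIdeal ≤
      ((Groth.Agent.Helper23.APoly.irrel (verGr 𝒜 q)).toIdeal.map (verRing 𝒜 q).φ).radical := by
    rw [hmsp, Groth.Agent.Helper23.APoly.irrel_toIdeal]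
    exact irrelevant_le_radical_map 𝒜 (verGr 𝒜 q) (verRing 𝒜 q).φ q (verRing 𝒜 q).h2
  obtain ⟨ε, _⟩ := exists_addEquiv_Hcomp_veronese (verRing 𝒜 q) (inclSL 𝒜 q)
    (incl_injective 𝒜 q) (verRing 𝒜 q).h1 (verRing 𝒜 q).h2 I F m
    (Groth.Agent.Helper23.APoly.irrel (verGr 𝒜 q)) hle hrad r j
  intro hbot
  apply hj
  rw [eq_bot_iff]
  intro x hx
  have h1 : (ε ⟨x, hx⟩ : I.H m r) ∈ I.Hcomp m r (j * q) := (ε ⟨x, hx⟩).2
  rw [hbot, Submodule.mem_bot] at h1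
  have h2 : ε ⟨x, hx⟩ = 0 := Subtype.ext h1
  have h3 : (⟨x, hx⟩ : F.Hcomp (Groth.Agent.Helper23.APoly.irrel (verGr 𝒜 q)) r j) = 0 := by
    rw [← ε.symm_apply_apply ⟨x, hx⟩, h2, map_zero]
  rw [Submodule.mem_bot]
  exact congrArg Subtype.val h3

end Groth.Agent.Helper20.GrVC
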