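import Mathlib
import Groth.Prelude
import Groth.Agent.Lib.Helper20.GrVC3
import Groth.Agent.Lib.Helper20.GrTop1
import Groth.Agent.Lib.Helper20.GrHt3
import Groth.Agent.Lib.Helper23.APoly6

/-!
# Graded prime avoidance for ℤ-graded rings and periodic nonvanishing of the top local
cohomology (helper20)
-/

open DirectSum

namespace Groth.Agent.Helper20.GrVC

open Groth.Agent.Helper20.GrInj Groth.Agent.Helper8 Groth.Agent.Helper23.APoly

universe u

variable {R : Type u} [CommRing R] (𝒜 : ℤ → AddSubgroup R) [GradedRing 𝒜]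

/-- a homogeneous ideal not contained in an ideal `q` has a homogeneous element outside `q` -/
theorem exists_homogeneous_notMem {J q : Ideal R} (hJ : J.IsHomogeneous 𝒜) (h : ¬ J ≤ q) :
    ∃ (y : R) (d : ℤ), y ∈ 𝒜 d ∧ y ∈ J ∧ y ∉ q := by
  classical
  obtain ⟨a, haJ, haq⟩ := Set.not_subset.mp h
  by_contra hcon
  push Not at hcon
  apply haq
  rw [← DirectSum.sum_support_decompose 𝒜 a]
  refine Ideal.sum_mem _ (fun i _ => ?_)
  exact hcon _ i (SetLike.coe_mem _) (hJ i haJ)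

/-- a nonzero homogeneous element of the irrelevant ideal has positive degree -/
theorem pos_of_mem_irrel (hpos : ∀ n : ℤ, n < 0 → 𝒜 n = ⊥) {y : R} {d : ℤ} (hy : y ∈ 𝒜 d)
    (hirr : y ∈ (irrel 𝒜).toIdeal) (hy0 : y ≠ 0) : 0 < d := by
  rcases lt_trichotomy d 0 with h | h | h
  · exfalso
    rw [hpos d h, AddSubgroup.mem_bot] at hy
    exact hy0 hy
  · exfalso
    subst h
    have h1 := decompose_zero_of_mem_irrel 𝒜 hpos hirr
    rw [decompose_of_mem_same 𝒜 hy] at h1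
    exact hy0 h1
  · exact h

theorem pow_mem_natCast_mul {x : R} {d : ℕ} (hx : x ∈ 𝒜 (d : ℤ)) (e : ℕ) :
    x ^ e ∈ 𝒜 ((d * e : ℕ) : ℤ) := by
  have := SetLike.pow_mem_graded e hx
  rwa [nsmul_eq_mul, ← Nat.cast_mul, mul_comm] at this

/-- graded prime avoidance in a positively ℤ-graded ring -/
theorem graded_prime_avoidance (hpos : ∀ n : ℤ, n < 0 → 𝒜 n = ⊥) (T : Finset (Ideal R))
    (hT : ∀ q ∈ T, q.IsPrime ∧ q.IsHomogeneous 𝒜)
    (h : ∀ q ∈ T, ¬ (irrel 𝒜).toIdeal ≤ q) :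
    ∃ (x : R) (d : ℕ), 0 < d ∧ x ∈ 𝒜 (d : ℤ) ∧ x ∈ (irrel 𝒜).toIdeal ∧ ∀ q ∈ T, x ∉ q := by
  classical
  suffices H : ∀ n : ℕ, ∀ T : Finset (Ideal R), (∀ q ∈ T, q.IsPrime ∧ q.IsHomogeneous 𝒜) →
      (∀ q ∈ T, ¬ (irrel 𝒜).toIdeal ≤ q) → T.card = n →
      ∃ (x : R) (d : ℕ), 0 < d ∧ x ∈ 𝒜 (d : ℤ) ∧ x ∈ (irrel 𝒜).toIdeal ∧ ∀ q ∈ T, x ∉ q from
    H _ T hT h rfl
  clear hT h T
  intro n
  induction n using Nat.strong_induction_on with
  | _ n ih =>
  intro T hT h hn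
  rcases T.eq_empty_or_nonempty with rfl | hne
  · exact ⟨0, 1, Nat.one_pos, zero_mem _, zero_mem _, by simp⟩
  by_cases hchain : ∃ q ∈ T, ∃ q' ∈ T, q ≠ q' ∧ q ≤ q'
  · obtain ⟨q, hq, q', hq', hne', hle⟩ := hchain
    obtain ⟨x, d, hd, hx, hxI, hxT⟩ := ih (T.erase q).card (by
      rw [← hn]; exact Finset.card_erase_lt_of_mem hq) (T.erase q)
      (fun a ha => hT a (Finset.mem_of_mem_erase ha))
      (fun a ha => h a (Finset.mem_of_mem_erase ha)) rfl
    refine ⟨x, d, hd, hx, hxI, ?_⟩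
    intro a ha hxa
    by_cases haq : a = q
    · subst haq
      exact hxT q' (Finset.mem_erase.mpr ⟨hne'.symm, hq'⟩) (hle hxa)
    · exact hxT a (Finset.mem_erase.mpr ⟨haq, ha⟩) hxa
  · push Not at hchain
    obtain ⟨q, hq⟩ := hne
    obtain ⟨x, d, hd, hx, hxI, hxT⟩ := ih (T.erase q).card (by
      rw [← hn]; exact Finset.card_erase_lt_of_mem hq) (T.erase q)
      (fun a ha => hT a (Finset.mem_of_mem_erase ha))
      (fun a ha => h a (Finset.mem_of_mem_erase ha)) rfl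
    by_cases hxq : x ∉ q
    · refine ⟨x, d, hd, hx, hxI, ?_⟩
      intro a ha
      by_cases haq : a = q
      · subst haq; exact hxq
      · exact hxT a (Finset.mem_erase.mpr ⟨haq, ha⟩)
    · push Not at hxq
      haveI hqp : q.IsPrime := (hT q hq).1
      let J : Ideal R := (irrel 𝒜).toIdeal * ∏ a ∈ T.erase q, a
      have hJh : J.IsHomogeneous 𝒜 := by
        refine (irrel 𝒜).isHomogeneous.mul ?_
        refine Finset.prod_induction _ (fun K : Ideal R => K.IsHomogeneous 𝒜)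
          (fun _ _ ha hb => ha.mul hb) ?_ (fun a ha => (hT a (Finset.mem_of_mem_erase ha)).2)
        rw [Ideal.one_eq_top]
        exact Ideal.IsHomogeneous.top 𝒜
      have hJq : ¬ J ≤ q := by
        intro hle
        rcases (Ideal.IsPrime.mul_le hqp).mp hle with h1 | h1
        · exact h q hq h1
        · obtain ⟨a, ha, haq⟩ := (Ideal.IsPrime.prod_le hqp).mp h1
          have ha' := Finset.mem_erase.mp ha
          exact hchain a ha'.2 q hq ha'.1 haq
      obtain ⟨y, e, hy, hyJ, hyq⟩ := exists_homogeneous_notMem 𝒜 hJh hJq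
      have hyI : y ∈ (irrel 𝒜).toIdeal :=
        (Ideal.mul_le_left : (irrel 𝒜).toIdeal * (∏ a ∈ T.erase q, a) ≤ (irrel 𝒜).toIdeal) hyJ
      have hyT : ∀ a ∈ T.erase q, y ∈ a := by
        intro a ha
        have : J ≤ a := (Ideal.mul_le_right :
          (irrel 𝒜).toIdeal * (∏ a ∈ T.erase q, a) ≤ _).trans
            (Ideal.prod_le_inf.trans (Finset.inf_le ha))
        exact this hyJ
      have he : 0 < e := pos_of_mem_irrel 𝒜 hpos hy hyI (fun h0 => hyq (h0 ▸ zero_mem _))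
      obtain ⟨e', rfl⟩ : ∃ e' : ℕ, e = (e' : ℤ) := ⟨e.toNat, by omega⟩
      have he' : 0 < e' := by exact_mod_cast he
      refine ⟨x ^ e' + y ^ d, d * e', Nat.mul_pos hd he', ?_, ?_, ?_⟩
      · refine add_mem (pow_mem_natCast_mul 𝒜 hx e') ?_
        have := pow_mem_natCast_mul 𝒜 hy d
        rwa [mul_comm] at this
      · exact add_mem (Ideal.pow_mem_of_mem _ hxI e' he') (Ideal.pow_mem_of_mem _ hyI d hd)
      · intro a ha hmem
        by_cases haq : a = q
        · subst haq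
          have h1 : x ^ e' ∈ a := Ideal.pow_mem_of_mem _ hxq e' he'
          have h2 : y ^ d ∈ a := (Ideal.add_mem_iff_right _ h1).mp hmem
          exact hyq (hqp.mem_of_pow_mem d h2)
        · have ha' : a ∈ T.erase q := Finset.mem_erase.mpr ⟨haq, ha⟩
          haveI hap : a.IsPrime := (hT a ha).1
          have h1 : y ^ d ∈ a := Ideal.pow_mem_of_mem _ (hyT a ha') d hd
          have h2 : x ^ e' ∈ a := (Ideal.add_mem_iff_left _ h1).mp hmem
          exact hxT a ha' (hap.mem_of_pow_mem e' h2)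

/-- a homogeneous element of positive degree avoiding the minimal primes of maximal dimension -/
theorem exists_homogeneous_notMem_top_minimalPrimes [IsNoetherianRing R]
    (hpos : ∀ n : ℤ, n < 0 → 𝒜 n = ⊥) (m : HomogeneousIdeal 𝒜) [hm : m.toIdeal.IsMaximal]
    (hmsp : m.toIdeal = Ideal.span (⋃ n ∈ Set.Ioi (0 : ℤ), (𝒜 n : Set R)))
    (r : ℕ) (h1 : 1 ≤ r) :
    ∃ (x : R) (d : ℕ), 0 < d ∧ x ∈ 𝒜 (d : ℤ) ∧
      ∀ p ∈ minimalPrimes R, ringKrullDim (R ⧸ p) = r → x ∉ p := by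
  classical
  have hfin : (minimalPrimes R).Finite := minimalPrimes.finite_of_isNoetherianRing R
  let S : Finset (Ideal R) := hfin.toFinset.filter (fun p => ringKrullDim (R ⧸ p) = r)
  have hirr : (irrel 𝒜).toIdeal = m.toIdeal := by rw [hmsp]; rfl
  have hS1 : ∀ q ∈ S, q.IsPrime ∧ q.IsHomogeneous 𝒜 := by
    intro q hq
    simp only [S, Finset.mem_filter, Set.Finite.mem_toFinset] at hq
    exact ⟨hq.1.1.1, isHomogeneous_of_mem_minimalPrimes (Ideal.IsHomogeneous.bot 𝒜) hq.1⟩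
  have hS2 : ∀ q ∈ S, ¬ (irrel 𝒜).toIdeal ≤ q := by
    intro p hpS hmp
    simp only [S, Finset.mem_filter, Set.Finite.mem_toFinset] at hpS
    have hpprime : p.IsPrime := hpS.1.1.1
    rw [hirr] at hmp
    have hmp' : m.toIdeal = p := hm.eq_of_le hpprime.ne_top hmp
    have hdim : ringKrullDim (R ⧸ p) = r := hpS.2
    rw [← hmp'] at hdim
    letI := Ideal.Quotient.field m.toIdeal
    rw [ringKrullDim_eq_zero_of_field] at hdim
    have : (0 : ℕ) = r := by exact_mod_cast hdim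
    omega
  obtain ⟨x, d, hd, hx, _, hxS⟩ := graded_prime_avoidance 𝒜 hpos S hS1 hS2
  refine ⟨x, d, hd, hx, ?_⟩
  intro p hp hpd
  apply hxS
  simp only [S, Finset.mem_filter, Set.Finite.mem_toFinset]
  exact ⟨hp, hpd⟩

variable {𝒜}
variable {M : Type u} [AddCommGroup M] [Module R M] {ℳ : ℤ → AddSubgroup M}
  [DirectSum.Decomposition ℳ] [SetLike.GradedSMul 𝒜 ℳ]

/-- if multiplication by a homogeneous element of degree `e` is surjective, then a
vanishing piece forces the piece `e` higher to vanish -/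
theorem Hcomp_add_eq_bot_of_smul_surjective (E : GrLC.StarInjRes 𝒜 ℳ) (a : HomogeneousIdeal 𝒜)
    (i : ℕ) {f : R} {e : ℤ} (hf : f ∈ 𝒜 e)
    (hs : Function.Surjective (fun x : E.H a i => f • x)) (n : ℤ) (hn : E.Hcomp a i n = ⊥) :
    E.Hcomp a i (e + n) = ⊥ := by
  letI := (Hgr_isInternal E a i).chooseDecomposition
  letI := Hgr_gradedSMul E a i
  have hn' : ∀ v : E.H a i, (decompose (E.Hgr a i) v n : E.H a i) = 0 := by
    intro v
    have h : (decompose (E.Hgr a i) v n : E.H a i) ∈ E.Hcomp a i n := (decompose (E.Hgr a i) v n).2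
    rw [hn] at h
    exact h
  rw [eq_bot_iff]
  intro w hw
  obtain ⟨v, rfl⟩ := hs w
  have hw' : f • v ∈ E.Hgr a i (e + n) := hw
  have := decompose_smul_of_mem 𝒜 (E.Hgr a i) (h := e) (r := f) hf v n
  rw [decompose_of_mem_same (E.Hgr a i) hw', hn' v, smul_zero] at this
  exact (Submodule.mem_bot _).2 this

/-- **periodic nonvanishing of the top local cohomology**: for a positively graded Noetherian ring
over a field, of dimension `r ≥ 1`, there is `e > 0` with `H^r_m(R)_{je} ≠ 0` for all `j ≪ 0` -/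
theorem exists_period [IsNoetherianRing R] (hpos : ∀ n : ℤ, n < 0 → 𝒜 n = ⊥)
    (h0 : IsField (GrLC.deg0 𝒜)) (m : HomogeneousIdeal 𝒜) (hm : GrLC.IsStarLocal 𝒜 m)
    (hmsp : m.toIdeal = Ideal.span (⋃ n ∈ Set.Ioi (0 : ℤ), (𝒜 n : Set R)))
    (I : GrLC.StarInjRes 𝒜 𝒜) (r : ℕ) (hr : ringKrullDim R = r) (h1 : 1 ≤ r) :
    ∃ (e : ℕ) (j₀ : ℤ), 0 < e ∧ ∀ j : ℤ, j ≤ j₀ → I.Hcomp m r (j * e) ≠ ⊥ := by
  haveI hmax : m.toIdeal.IsMaximal := isMaximal_of_isStarLocal hpos m hm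
  obtain ⟨x, e, he, hx, hxp⟩ := exists_homogeneous_notMem_top_minimalPrimes 𝒜 hpos m hmsp r h1
  have hs : Function.Surjective (fun y : I.H m r => x • y) := by
    obtain ⟨ε⟩ := nonempty_H_equiv_LC I m r
    have hs := LC.smul_surjective_H_top m.toIdeal r hr x hxp R
    intro y
    obtain ⟨z, hz⟩ := hs (ε y)
    refine ⟨ε.symm z, ?_⟩
    show x • ε.symm z = y
    rw [← map_smul]
    apply ε.injective
    rw [LinearEquiv.apply_symm_apply]
    exact hz
  haveI : NeZero e := ⟨by omega⟩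
  obtain ⟨j₀, hj₀⟩ := exists_Hcomp_mul_ne_bot 𝒜 e hpos h0 m hmsp I r hr
  refine ⟨e, j₀, he, ?_⟩
  intro j hj
  obtain ⟨k, rfl⟩ : ∃ k : ℕ, j = j₀ - k := ⟨(j₀ - j).toNat, by omega⟩
  clear hj
  induction k with
  | zero => simpa using hj₀
  | succ k ih =>
    intro hbot
    apply ih
    have := Hcomp_add_eq_bot_of_smul_surjective I m r hx hs _ hbot
    have e1 : (e : ℤ) + (j₀ - ((k + 1 : ℕ) : ℤ)) * e = (j₀ - (k : ℤ)) * e := by
      push_cast
      ring
    rwa [e1] at this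

end Groth.Agent.Helper20.GrVC
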