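import Mathlib
import Groth.Prelude
import Groth.Agent.Lib.Helper20.GrSeg31
import Groth.Agent.Lib.Helper20.GrVC4

/-!
# A common degree in which the top local cohomologies of two graded algebras are nonzero
(helper20)
-/

open DirectSum

namespace Groth.Agent.Helper20.GrInj

universe u

section Period

variable {k : Type u} [Field k] {A : Type u} [CommRing A] [Algebra k A] [IsNoetherianRing A]
  {𝒜 : ℤ → Submodule k A} [GradedAlgebra 𝒜]

theorem toAdd_eq_bot_of_neg (hpos : ∀ n : ℤ, n < 0 → 𝒜 n = ⊥) :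
    ∀ n : ℤ, n < 0 → toAdd 𝒜 n = ⊥ := by
  intro n hn
  ext x
  show x ∈ 𝒜 n ↔ x ∈ (⊥ : AddSubgroup A)
  rw [hpos n hn]
  rfl

theorem isStarLocal_toAddH [Nontrivial A] (hpos : ∀ n : ℤ, n < 0 → 𝒜 n = ⊥)
    (h0 : 𝒜 0 = Submodule.span k {(1 : A)}) (m : HomogeneousIdeal 𝒜)
    (hm : m.toIdeal = Ideal.span (⋃ n ∈ Set.Ioi (0 : ℤ), (𝒜 n : Set A))) :
    GrLC.IsStarLocal (toAdd 𝒜) (HomogeneousIdeal.toAddH 𝒜 m) := by
  have h := Groth.Agent.Helper23.APoly.isStarLocal_irrel (toAdd 𝒜) (toAdd_eq_bot_of_neg hpos)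
    (isField_deg0 h0)
  have he : HomogeneousIdeal.toAddH 𝒜 m = Groth.Agent.Helper23.APoly.irrel (toAdd 𝒜) := by
    apply HomogeneousIdeal.toIdeal_injective
    rw [HomogeneousIdeal.toAddH_toIdeal, hm]
    rfl
  rw [he]
  exact h

/-- **periodic nonvanishing of the top local cohomology** of a graded algebra over a field -/
theorem exists_period' (hpos : ∀ n : ℤ, n < 0 → 𝒜 n = ⊥)
    (h0 : 𝒜 0 = Submodule.span k {(1 : A)}) (m : HomogeneousIdeal 𝒜)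
    (hm : m.toIdeal = Ideal.span (⋃ n ∈ Set.Ioi (0 : ℤ), (𝒜 n : Set A)))
    (I : GrLC.StarInjRes 𝒜 𝒜) (r : ℕ) (hr : ringKrullDim A = r) (h1 : 1 ≤ r) :
    ∃ (e : ℕ) (j₀ : ℤ), 0 < e ∧ ∀ j : ℤ, j ≤ j₀ → I.Hcomp m r (j * e) ≠ ⊥ := by
  haveI : Nontrivial A := ringKrullDim_nontrivial hr
  exact Groth.Agent.Helper20.GrVC.exists_period (toAdd_eq_bot_of_neg hpos) (isField_deg0 h0)
    (HomogeneousIdeal.toAddH 𝒜 m) (isStarLocal_toAddH hpos h0 m hm) hm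
    (StarInjRes.toAddR 𝒜 I (toAdd 𝒜) (fun _ _ h => h)) r hr h1

end Period

section Common

variable {k : Type u} [Field k] {A : Type u} [CommRing A] [Algebra k A] [IsNoetherianRing A]
  {𝒜 : ℤ → Submodule k A} [GradedAlgebra 𝒜]
  {B : Type u} [CommRing B] [Algebra k B] [IsNoetherianRing B]
  {ℬ : ℤ → Submodule k B} [GradedAlgebra ℬ]

/-- **a common degree** in which both top local cohomologies are nonzero -/
theorem exists_common_degree (hposA : ∀ n : ℤ, n < 0 → 𝒜 n = ⊥)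
    (h0A : 𝒜 0 = Submodule.span k {(1 : A)}) (mA : HomogeneousIdeal 𝒜)
    (hmA : mA.toIdeal = Ideal.span (⋃ n ∈ Set.Ioi (0 : ℤ), (𝒜 n : Set A)))
    (I : GrLC.StarInjRes 𝒜 𝒜) (r : ℕ) (hr : ringKrullDim A = r) (h1r : 1 ≤ r)
    (hposB : ∀ n : ℤ, n < 0 → ℬ n = ⊥)
    (h0B : ℬ 0 = Submodule.span k {(1 : B)}) (mB : HomogeneousIdeal ℬ)
    (hmB : mB.toIdeal = Ideal.span (⋃ n ∈ Set.Ioi (0 : ℤ), (ℬ n : Set B)))
    (J : GrLC.StarInjRes ℬ ℬ) (s : ℕ) (hs : ringKrullDim B = s) (h1s : 1 ≤ s) :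
    ∃ d : ℤ, I.Hcomp mA r d ≠ ⊥ ∧ J.Hcomp mB s d ≠ ⊥ := by
  obtain ⟨e, j₀, he, h⟩ := exists_period' hposA h0A mA hmA I r hr h1r
  obtain ⟨e', j₀', he', h'⟩ := exists_period' hposB h0B mB hmB J s hs h1s
  let N : ℤ := max 0 (max (-j₀) (-j₀'))
  have hN0 : 0 ≤ N := le_max_left _ _
  have hN1 : -j₀ ≤ N := le_trans (le_max_left _ _) (le_max_right _ _)
  have hN2 : -j₀' ≤ N := le_trans (le_max_right _ _) (le_max_right _ _)
  have heZ : (1 : ℤ) ≤ e := by exact_mod_cast he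
  have he'Z : (1 : ℤ) ≤ e' := by exact_mod_cast he'
  refine ⟨-(N * e * e'), ?_, ?_⟩
  · have := h (-(N * e')) (by nlinarith)
    have e1 : -(N * e') * (e : ℤ) = -(N * e * e') := by ring
    rwa [e1] at this
  · have := h' (-(N * e)) (by nlinarith)
    have e1 : -(N * e) * (e' : ℤ) = -(N * e * e') := by ring
    rwa [e1] at this

end Common

end Groth.Agent.Helper20.GrInj
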