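import Mathlib
import Groth.Prelude
import Groth.Agent.Lib.Helper20.GrSeg32

/-!
# The dimension of a Segre product (helper20)
-/

open DirectSum TensorProduct

namespace Groth.Agent.Helper20.GrInj

open Groth.Agent.Helper8

universe u

section Util

variable {ι : Type} [AddCommGroup ι] [DecidableEq ι]
variable {R : Type u} [CommRing R] {σ : Type u} [SetLike σ R] [AddSubgroupClass σ R]
variable (𝒜 : ι → σ) [GradedRing 𝒜]

/-- a *injective resolution of the ring over itself, for a grading by sub-objects -/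
noncomputable def starRes [SetLike.GradedSMul 𝒜 (toAdd 𝒜)] : GrLC.StarInjRes 𝒜 𝒜 where
  X := (starInjRes 𝒜 (toAdd 𝒜)).X
  d := (starInjRes 𝒜 (toAdd 𝒜)).d
  ε := (starInjRes 𝒜 (toAdd 𝒜)).ε
  d_grHom := (starInjRes 𝒜 (toAdd 𝒜)).d_grHom
  ε_grHom := fun g m hm => (starInjRes 𝒜 (toAdd 𝒜)).ε_grHom g m hm
  ε_injective := (starInjRes 𝒜 (toAdd 𝒜)).ε_injective
  exact_zero := (starInjRes 𝒜 (toAdd 𝒜)).exact_zero
  exact_succ := (starInjRes 𝒜 (toAdd 𝒜)).exact_succ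
  starInj := (starInjRes 𝒜 (toAdd 𝒜)).starInj

end Util

section UtilZ

variable {R : Type u} [CommRing R] {σ : Type u} [SetLike σ R] [AddSubgroupClass σ R]
variable (𝒜 : ℤ → σ) [GradedRing 𝒜]

/-- the irrelevant ideal -/
def irrelK : HomogeneousIdeal 𝒜 :=
  ⟨Ideal.span (⋃ n ∈ Set.Ioi (0 : ℤ), (𝒜 n : Set R)), Ideal.homogeneous_span 𝒜 _ (by
    intro x hx
    simp only [Set.mem_iUnion] at hx
    obtain ⟨n, _, hxn⟩ := hx
    exact ⟨n, hxn⟩)⟩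

theorem irrelK_toIdeal :
    (irrelK 𝒜).toIdeal = Ideal.span (⋃ n ∈ Set.Ioi (0 : ℤ), (𝒜 n : Set R)) := rfl

end UtilZ

section Fin

variable {k : Type u} [Field k] {A : Type u} [CommRing A] [Algebra k A] [Nontrivial A]
  [IsNoetherianRing A]
  {𝒜 : ℤ → Submodule k A} [GradedAlgebra 𝒜]
  {M : Type u} [AddCommGroup M] [Module A M] {ℳ : ℤ → AddSubgroup M}
  [DirectSum.Decomposition ℳ] [SetLike.GradedSMul 𝒜 ℳ]
  (E : GrLC.StarInjRes 𝒜 ℳ) (m : HomogeneousIdeal 𝒜)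

theorem Hcomp_eq_bot_iff_finrank [Module.Finite A M] (hpos : ∀ n : ℤ, n < 0 → 𝒜 n = ⊥)
    (h0 : 𝒜 0 = Submodule.span k {(1 : A)})
    (hm : m.toIdeal = Ideal.span (⋃ n ∈ Set.Ioi (0 : ℤ), (𝒜 n : Set A))) (q : ℕ) (n : ℤ) :
    E.Hcomp m q n = ⊥ ↔ Module.finrank (GrLC.deg0 𝒜) (E.Hcomp m q n) = 0 := by
  constructor
  · intro h
    rw [h]
    exact finrank_bot _ _
  · intro h
    haveI := Hcomp_finite E m hpos hm q n
    letI : Field ↥(GrLC.deg0 𝒜) := (isField_deg0 h0).toField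
    exact Submodule.finrank_eq_zero.1 h

end Fin

end Groth.Agent.Helper20.GrInj

namespace Groth.Agent.Helper20.Seg

open Groth.Agent.Helper20.GrInj Groth.Agent.Helper8

universe u

/-- vanishing above `r + s - 1` -/
theorem segre_above_arith (a b t h h' : ℕ → ℕ) (r s : ℕ) (h1r : 1 ≤ r) (h1s : 1 ≤ s)
    (har : ∀ q, r < q → a q = 0) (hbs : ∀ q, s < q → b q = 0)
    (h3 : ∀ i, a (i + 2) = h (i + 1)) (h6 : ∀ i, b (i + 2) = h' (i + 1))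
    (h9 : ∀ q, t (q + 2) = ∑ i : Fin (q + 2), h (i : ℕ) * h' (q + 1 - (i : ℕ)))
    (Q : ℕ) (hQ : r + s ≤ Q) : t Q = 0 := by
  obtain ⟨q, rfl⟩ : ∃ q, Q = q + 2 := ⟨Q - 2, by omega⟩
  rw [h9]
  apply Finset.sum_eq_zero
  intro i _
  by_cases hi : (i : ℕ) < r
  · obtain ⟨j, hj⟩ : ∃ j, q + 1 - (i : ℕ) = j + 1 := ⟨q + 1 - (i : ℕ) - 1, by omega⟩
    rw [hj, ← h6, hbs _ (by omega), mul_zero]
  · obtain ⟨j, hj⟩ : ∃ j, (i : ℕ) = j + 1 := ⟨(i : ℕ) - 1, by omega⟩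
    rw [hj, ← h3, har _ (by omega), zero_mul]

/-- the top term -/
theorem segre_top_le_arith (a b t h h' : ℕ → ℕ) (ρ ρ' : ℕ) (r s : ℕ) (h1r : 1 ≤ r) (h1s : 1 ≤ s)
    (h2 : a 1 + ρ = h 0) (h3 : ∀ i, a (i + 2) = h (i + 1))
    (h5 : b 1 + ρ' = h' 0) (h6 : ∀ i, b (i + 2) = h' (i + 1))
    (h8 : t 1 + ρ * ρ' = h 0 * h' 0)
    (h9 : ∀ q, t (q + 2) = ∑ i : Fin (q + 2), h (i : ℕ) * h' (q + 1 - (i : ℕ))) :
    a r * b s ≤ t (r + s - 1) := by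
  have hA : a r ≤ h (r - 1) := by
    rcases Nat.lt_or_ge r 2 with hr | hr
    · obtain rfl : r = 1 := by omega
      show a 1 ≤ h 0
      omega
    · obtain ⟨r', rfl⟩ : ∃ r', r = r' + 2 := ⟨r - 2, by omega⟩
      rw [h3]
      exact le_of_eq rfl
  have hB : b s ≤ h' (s - 1) := by
    rcases Nat.lt_or_ge s 2 with hs | hs
    · obtain rfl : s = 1 := by omega
      show b 1 ≤ h' 0
      omega
    · obtain ⟨s', rfl⟩ : ∃ s', s = s' + 2 := ⟨s - 2, by omega⟩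
      rw [h6]
      exact le_of_eq rfl
  rcases Nat.lt_or_ge (r + s) 3 with hrs | hrs
  · obtain rfl : r = 1 := by omega
    obtain rfl : s = 1 := by omega
    show a 1 * b 1 ≤ t 1
    rw [← h2, ← h5] at h8
    nlinarith
  refine le_trans (Nat.mul_le_mul hA hB) ?_
  obtain ⟨q, hq⟩ : ∃ q, r + s - 1 = q + 2 := ⟨r + s - 3, by omega⟩
  rw [hq, h9]
  have hmem : (⟨r - 1, by omega⟩ : Fin (q + 2)) ∈ Finset.univ := Finset.mem_univ _
  have := Finset.single_le_sum (f := fun i : Fin (q + 2) => h (i : ℕ) * h' (q + 1 - (i : ℕ)))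
    (fun i _ => Nat.zero_le _) hmem
  have e1 : q + 1 - (r - 1) = s - 1 := by omega
  simp only [e1] at this
  exact this

/-- **the dimension of a Segre product** -/
theorem ringKrullDim_segre (k : Type u) [Field k] (R : Type u) [CommRing R] [Algebra k R] (𝒜 : ℤ → Submodule k R) [GradedAlgebra 𝒜] (hposR : ∀ n : ℤ, n < 0 → 𝒜 n = ⊥) (h0R : 𝒜 0 = Submodule.span k {(1 : R)}) [Algebra.FiniteType k R] (S : Type u) [CommRing S] [Algebra k S] (ℬ : ℤ → Submodule k S) [GradedAlgebra ℬ] (hposS : ∀ n : ℤ, n < 0 → ℬ n = ⊥) (h0S : ℬ 0 = Submodule.span k {(1 : S)}) [Algebra.FiniteType k S] (T : Type u) [CommRing T] [Algebra k T] (𝒯 : ℤ → Submodule k T) [GradedAlgebra 𝒯] (ψ : T →ₐ[k] TensorProduct k R S) (hψ : Function.Injective ψ) (hdegT : ∀ n : ℤ, (𝒯 n).map ψ.toLinearMap = Submodule.span k {x : TensorProduct k R S | ∃ a ∈ 𝒜 n, ∃ b ∈ ℬ n, x = a ⊗ₜ[k] b}) (r s : ℕ) (hr : ringKrullDim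 R = r) (hs : ringKrullDim S = s) (h1r : 1 ≤ r) (h1s : 1 ≤ s) : ringKrullDim T = ((r + s - 1 : ℕ) : WithBot ℕ∞) := by
  have hT : GrSeg.IsSegreRing 𝒜 ℬ 𝒯 ψ := ⟨hψ, hdegT⟩
  haveI : IsNoetherianRing R := Algebra.FiniteType.isNoetherianRing k R
  haveI : IsNoetherianRing S := Algebra.FiniteType.isNoetherianRing k S
  haveI : IsNoetherianRing T := Groth.Agent.Helper27.Segre.isNoetherianRing 𝒜 ℬ 𝒯 ψ hT.2 hT.1
  haveI : Nontrivial R := ringKrullDim_nontrivial hr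
  haveI : Nontrivial S := ringKrullDim_nontrivial hs
  haveI : Nontrivial T := segre_nontrivial hT
  have hposT := segre_hpos hT hposR
  have h0T := segre_h0 hT h0R h0S
  -- the data
  let mR := irrelK 𝒜
  let mS := irrelK ℬ
  let mT := irrelK 𝒯
  have hmR : mR.toIdeal = Ideal.span (⋃ n ∈ Set.Ioi (0 : ℤ), (𝒜 n : Set R)) := rfl
  have hmS : mS.toIdeal = Ideal.span (⋃ n ∈ Set.Ioi (0 : ℤ), (ℬ n : Set S)) := rfl
  have hmT : mT.toIdeal = Ideal.span (⋃ n ∈ Set.Ioi (0 : ℤ), (𝒯 n : Set T)) := rfl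
  let I := starRes 𝒜
  let J := starRes ℬ
  let IT := starRes 𝒯
  -- the dimension of `T` is a natural number
  have hTloc := isStarLocal_toAddH hposT h0T mT hmT
  have hTmax : mT.toIdeal.IsMaximal := isMaximal_of_isStarLocal (toAdd_eq_bot_of_neg hposT) _ hTloc
  have hdimT : ringKrullDim T = mT.toIdeal.height :=
    ringKrullDim_eq_height_of_isStarLocal (HomogeneousIdeal.toAddH 𝒯 mT) hTloc hTmax
  haveI := hTmax.isPrime
  obtain ⟨D, hD⟩ := ENat.ne_top_iff_exists.mp (Ideal.height_ne_top (I := mT.toIdeal)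
    (Ideal.IsPrime.ne_top inferInstance))
  have hdimT' : ringKrullDim T = (D : ℕ) := by rw [hdimT, ← hD]; rfl
  -- the master formula in each degree
  have master : ∀ n : ℤ, ∃ (ρ ρ' : ℕ) (h h' : ℕ → ℕ),
      Module.finrank (GrLC.deg0 𝒜) (I.Hcomp mR 1 n) + ρ = h 0 ∧
      (∀ i, Module.finrank (GrLC.deg0 𝒜) (I.Hcomp mR (i + 2) n) = h (i + 1)) ∧
      Module.finrank (GrLC.deg0 ℬ) (J.Hcomp mS 1 n) + ρ' = h' 0 ∧
      (∀ i, Module.finrank (GrLC.deg0 ℬ) (J.Hcomp mS (i + 2) n) = h' (i + 1)) ∧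
      Module.finrank (GrLC.deg0 𝒯) (IT.Hcomp mT 1 n) + ρ * ρ' = h 0 * h' 0 ∧
      ∀ q, Module.finrank (GrLC.deg0 𝒯) (IT.Hcomp mT (q + 2) n) =
        ∑ i : Fin (q + 2), h (i : ℕ) * h' (q + 1 - (i : ℕ)) := by
    intro n
    obtain ⟨ρ, ρ', h, h', h1, h2, h3, h4, h5, h6, h7, h8, h9⟩ :=
      segre_dims k R 𝒜 hposR h0R S ℬ hposS h0S T 𝒯 ψ hT mR hmR mS hmS mT hmT
        R (toAdd 𝒜) (StarInjRes.toAddM 𝒜 I (toAdd 𝒜) (fun _ _ h => h))
        S (toAdd ℬ) (StarInjRes.toAddM ℬ J (toAdd ℬ) (fun _ _ h => h))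
        T (toAdd 𝒯) ψ.toLinearMap (isSegreMod_ring hT)
        (StarInjRes.toAddM 𝒯 IT (toAdd 𝒯) (fun _ _ h => h)) n
    exact ⟨ρ, ρ', h, h', h2, h3, h5, h6, h8, h9⟩
  -- the finranks as functions
  have hvanR : ∀ (q : ℕ) (n : ℤ), r < q →
      Module.finrank (GrLC.deg0 𝒜) (I.Hcomp mR q n) = 0 := fun q n hq =>
    finrank_Hcomp_of_dim_lt (StarInjRes.toAddM 𝒜 I (toAdd 𝒜) (fun _ _ h => h)) mR r hr q hq n
  have hvanS : ∀ (q : ℕ) (n : ℤ), s < q →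
      Module.finrank (GrLC.deg0 ℬ) (J.Hcomp mS q n) = 0 := fun q n hq =>
    finrank_Hcomp_of_dim_lt (StarInjRes.toAddM ℬ J (toAdd ℬ) (fun _ _ h => h)) mS s hs q hq n
  have hbotT : ∀ (q : ℕ) (n : ℤ), IT.Hcomp mT q n = ⊥ ↔
      Module.finrank (GrLC.deg0 𝒯) (IT.Hcomp mT q n) = 0 := fun q n =>
    Hcomp_eq_bot_iff_finrank (StarInjRes.toAddM 𝒯 IT (toAdd 𝒯) (fun _ _ h => h)) mT hposT h0T hmT
      q n
  have hbotR : ∀ (q : ℕ) (n : ℤ), I.Hcomp mR q n = ⊥ ↔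
      Module.finrank (GrLC.deg0 𝒜) (I.Hcomp mR q n) = 0 := fun q n =>
    Hcomp_eq_bot_iff_finrank (StarInjRes.toAddM 𝒜 I (toAdd 𝒜) (fun _ _ h => h)) mR hposR h0R hmR
      q n
  have hbotS : ∀ (q : ℕ) (n : ℤ), J.Hcomp mS q n = ⊥ ↔
      Module.finrank (GrLC.deg0 ℬ) (J.Hcomp mS q n) = 0 := fun q n =>
    Hcomp_eq_bot_iff_finrank (StarInjRes.toAddM ℬ J (toAdd ℬ) (fun _ _ h => h)) mS hposS h0S hmS
      q n
  -- upper bound
  have hupper : D ≤ r + s - 1 := by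
    by_contra hcon
    push Not at hcon
    haveI : Nontrivial (LC.H (HomogeneousIdeal.toAddH 𝒯 mT).toIdeal D T) :=
      LC.nontrivial_H_height mT.toIdeal D hD.symm
    obtain ⟨e⟩ := nonempty_H_equiv_LC (StarInjRes.toAddR 𝒯 (StarInjRes.toAddM 𝒯 IT (toAdd 𝒯)
      (fun _ _ h => h)) (toAdd 𝒯) (fun _ _ h => h)) (HomogeneousIdeal.toAddH 𝒯 mT) D
    haveI : Nontrivial ((StarInjRes.toAddR 𝒯 (StarInjRes.toAddM 𝒯 IT (toAdd 𝒯)
      (fun _ _ h => h)) (toAdd 𝒯) (fun _ _ h => h)).H (HomogeneousIdeal.toAddH 𝒯 mT) D) :=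
      e.toEquiv.nontrivial
    obtain ⟨n, hn⟩ := Groth.Agent.Helper20.GrVC.exists_Hcomp_ne_bot
      (StarInjRes.toAddR 𝒯 (StarInjRes.toAddM 𝒯 IT (toAdd 𝒯) (fun _ _ h => h)) (toAdd 𝒯)
        (fun _ _ h => h)) (HomogeneousIdeal.toAddH 𝒯 mT) D
    apply hn
    show IT.Hcomp mT D n = ⊥
    rw [hbotT]
    obtain ⟨ρ, ρ', h, h', h2, h3, h5, h6, h8, h9⟩ := master n
    obtain ⟨a, ha⟩ : ∃ a : ℕ → ℕ, ∀ q, a q = Module.finrank (GrLC.deg0 𝒜) (I.Hcomp mR q n) :=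
      ⟨_, fun _ => rfl⟩
    obtain ⟨b, hb⟩ : ∃ b : ℕ → ℕ, ∀ q, b q = Module.finrank (GrLC.deg0 ℬ) (J.Hcomp mS q n) :=
      ⟨_, fun _ => rfl⟩
    obtain ⟨t, ht⟩ : ∃ t : ℕ → ℕ, ∀ q, t q = Module.finrank (GrLC.deg0 𝒯) (IT.Hcomp mT q n) :=
      ⟨_, fun _ => rfl⟩
    rw [← ht]
    apply segre_above_arith a b t h h' r s h1r h1s
    · intro q hq; rw [ha]; exact hvanR q n hq
    · intro q hq; rw [hb]; exact hvanS q n hq
    · intro i; rw [ha]; exact h3 i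
    · intro i; rw [hb]; exact h6 i
    · intro q; rw [ht]; exact h9 q
    · omega
  -- lower bound
  have hlower : r + s - 1 ≤ D := by
    by_contra hcon
    push Not at hcon
    obtain ⟨n, hnR, hnS⟩ := exists_common_degree hposR h0R mR hmR I r hr h1r hposS h0S mS hmS J s
      hs h1s
    have hvan : IT.Hcomp mT (r + s - 1) n = ⊥ :=
      Hcomp_eq_bot_of_dim_lt (StarInjRes.toAddM 𝒯 IT (toAdd 𝒯) (fun _ _ h => h)) mT D hdimT'
        (r + s - 1) hcon n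
    rw [hbotT] at hvan
    rw [Ne, hbotR] at hnR
    rw [Ne, hbotS] at hnS
    obtain ⟨ρ, ρ', h, h', h2, h3, h5, h6, h8, h9⟩ := master n
    obtain ⟨a, ha⟩ : ∃ a : ℕ → ℕ, ∀ q, a q = Module.finrank (GrLC.deg0 𝒜) (I.Hcomp mR q n) :=
      ⟨_, fun _ => rfl⟩
    obtain ⟨b, hb⟩ : ∃ b : ℕ → ℕ, ∀ q, b q = Module.finrank (GrLC.deg0 ℬ) (J.Hcomp mS q n) :=
      ⟨_, fun _ => rfl⟩
    obtain ⟨t, ht⟩ : ∃ t : ℕ → ℕ, ∀ q, t q = Module.finrank (GrLC.deg0 𝒯) (IT.Hcomp mT q n) :=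
      ⟨_, fun _ => rfl⟩
    rw [← ht] at hvan
    rw [← ha] at hnR
    rw [← hb] at hnS
    have hle := segre_top_le_arith a b t h h' ρ ρ' r s h1r h1s
      (by rw [ha]; exact h2) (fun i => by rw [ha]; exact h3 i)
      (by rw [hb]; exact h5) (fun i => by rw [hb]; exact h6 i)
      (by rw [ht]; exact h8) (fun q => by rw [ht]; exact h9 q)
    rw [hvan] at hle
    have : a r * b s = 0 := Nat.le_zero.1 hle
    rcases Nat.mul_eq_zero.1 this with h | h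
    · exact hnR h
    · exact hnS h
  rw [hdimT']
  have : D = r + s - 1 := le_antisymm hupper hlower
  rw [this]

end Groth.Agent.Helper20.Seg
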