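import Mathlib
import Groth.Prelude
import Groth.Agent.Lib.Helper20.RE3

/-!
# A Noetherian ℤ-graded ring is Cohen–Macaulay as soon as its localization at a prime containing
all homogeneous primes is (helper20)
-/

set_option autoImplicit false

open IsLocalRing LocCoh

namespace Groth.Agent.Helper20.RE

universe u

open Groth.Agent.Lead.Depth Groth.Agent.Helper20.GorFlat

variable {R : Type u} [CommRing R]

/-- localizations of a Cohen–Macaulay localization: if `R_m` is Cohen–Macaulay and `q ≤ m`, then
`R_q` is Cohen–Macaulay -/
theorem cm_localization_of_le [IsNoetherianRing R] (m q : Ideal R) [m.IsPrime] [q.IsPrime]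
    (hqm : q ≤ m)
    (hG : LocCoh.IsCohenMacaulayLocalRing (Localization.AtPrime m)) :
    LocCoh.IsCohenMacaulayLocalRing (Localization.AtPrime q) := by
  have hdisj : Disjoint (m.primeCompl : Set R) (q : Set R) := by
    rw [Set.disjoint_left]
    intro x hx hxq
    exact hx (hqm hxq)
  haveI hprime : (q.map (algebraMap R (Localization.AtPrime m))).IsPrime :=
    IsLocalization.isPrime_of_isPrime_disjoint m.primeCompl _ q inferInstance hdisj
  have hcomap : (q.map (algebraMap R (Localization.AtPrime m))).comap
      (algebraMap R (Localization.AtPrime m)) = q :=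
    IsLocalization.under_map_of_isPrime_disjoint m.primeCompl _ inferInstance hdisj
  set P := q.map (algebraMap R (Localization.AtPrime m)) with hP
  have hM : LocCoh.IsCohenMacaulayModule (Localization.AtPrime m) (Localization.AtPrime m) :=
    hG.supportDim_eq_depth
  have hsupp : Module.support (Localization.AtPrime m) (Localization.AtPrime m) = Set.univ := by
    rw [Module.support_of_algebra]
    have : RingHom.ker (algebraMap (Localization.AtPrime m) (Localization.AtPrime m)) = ⊥ := by
      rw [RingHom.ker_eq_bot_iff_eq_zero]
      intro x hx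
      exact hx
    rw [this]
    simp
  have h1 := Groth.Agent.Lead.Cat.isCohenMacaulayModule_localizedModule hM hsupp P
  haveI : LocCoh.IsCohenMacaulayLocalRing (Localization.AtPrime P) := by
    refine { supportDim_eq_depth := ?_ }
    rw [← depth_localizedModule_self, Module.supportDim_self_eq_ringKrullDim,
      IsLocalization.AtPrime.ringKrullDim_eq_height P, ← supportDim_localizedModule_self]
    exact h1
  have e := IsLocalization.localizationLocalizationAtPrimeIsoLocalization m.primeCompl P
  haveI hcp : (P.comap (algebraMap R (Localization.AtPrime m))).IsPrime := Ideal.comap_isPrime _ _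
  exact cm_localization_congr hcomap (isCohenMacaulayLocalRing_of_ringEquiv e.symm.toRingEquiv)

variable (𝒜 : ℤ → AddSubgroup R) [GradedRing 𝒜]

/-- **the Cohen–Macaulay property at a prime follows from that at its homogeneous core** -/
theorem cm_of_cm_homogeneousCore [IsNoetherianRing R] (p : Ideal R) [p.IsPrime]
    [hc : (p.homogeneousCore 𝒜).toIdeal.IsPrime]
    (hG : LocCoh.IsCohenMacaulayLocalRing (Localization.AtPrime (p.homogeneousCore 𝒜).toIdeal)) :
    LocCoh.IsCohenMacaulayLocalRing (Localization.AtPrime p) := by
  have hle : (p.homogeneousCore 𝒜).toIdeal ≤ p := Ideal.toIdeal_homogeneousCore_le 𝒜 p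
  haveI : (p.map (Ideal.Quotient.mk (p.homogeneousCore 𝒜).toIdeal)).IsPrime :=
    Ideal.map_isPrime_of_surjective Ideal.Quotient.mk_surjective (by rw [Ideal.mk_ker]; exact hle)
  have hfin : (p.map (Ideal.Quotient.mk (p.homogeneousCore 𝒜).toIdeal)).height ≠ ⊤ :=
    Ideal.height_ne_top (Ideal.IsPrime.ne_top inferInstance)
  obtain ⟨d, hd⟩ := ENat.ne_top_iff_exists.mp hfin
  have h1 := Groth.Agent.Helper20.GA.depth_eq_depth_core_add R 𝒜 R p 𝒜 d hd.symm
  haveI : Nontrivial (LocalizedModule p.primeCompl R) := by
    have e := (IsLocalizedModule.linearEquiv p.primeCompl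
      (LocalizedModule.mkLinearMap p.primeCompl R) (Algebra.linearMap R (Localization.AtPrime p)))
    exact e.toEquiv.nontrivial
  have h2 := Groth.Agent.Helper20.GA.supportDim_eq_supportDim_core_add R 𝒜 R p 𝒜 d hd.symm
    inferInstance
  rw [isCohenMacaulayLocalRing_iff] at hG ⊢
  rw [depth_localizedModule_self] at h1
  rw [supportDim_localizedModule_self, supportDim_localizedModule_self,
    ← IsLocalization.AtPrime.ringKrullDim_eq_height p (Localization.AtPrime p),
    ← IsLocalization.AtPrime.ringKrullDim_eq_height (p.homogeneousCore 𝒜).toIdeal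
      (Localization.AtPrime (p.homogeneousCore 𝒜).toIdeal)] at h2
  rw [h2, h1, hG, depth_localizedModule_self]
  push_cast
  rfl

/-- **a Noetherian ℤ-graded ring in which every homogeneous prime lies in a prime `m` with `R_m`
Cohen–Macaulay is a Cohen–Macaulay ring** -/
theorem isCohenMacaulayRing_of_localization [IsNoetherianRing R] (m : Ideal R) [m.IsPrime]
    (hle : ∀ q : Ideal R, q.IsPrime → q.IsHomogeneous 𝒜 → q ≤ m)
    (hG : LocCoh.IsCohenMacaulayLocalRing (Localization.AtPrime m)) :
    LocCoh.IsCohenMacaulayRing R := by
  refine { isCohenMacaulayLocalRing_localization := fun p _ => ?_ }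
  haveI hq : (p.homogeneousCore 𝒜).toIdeal.IsPrime := Ideal.IsPrime.homogeneousCore inferInstance
  have h1 := cm_localization_of_le m (p.homogeneousCore 𝒜).toIdeal
    (hle _ hq (p.homogeneousCore 𝒜).isHomogeneous) hG
  exact cm_of_cm_homogeneousCore 𝒜 p h1

end Groth.Agent.Helper20.RE
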