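import Mathlib
import Groth.Prelude
import Groth.Agent.Lib.Helper20.GrSeg33
import Groth.Agent.Lib.Helper20.GrSG10
import Groth.Agent.Lib.Helper20.RE4
import Groth.Agent.Lib.Lead.Depth16
import Groth.Agent.Lib.Helper8.LCDepth

/-!
# A graded algebra over a field is Cohen–Macaulay iff its local cohomology vanishes below the
dimension (helper20)
-/

open DirectSum TensorProduct

namespace Groth.Agent.Helper20.GrInj

open Groth.Agent.Helper8

universe u

section AddVersion

variable {R : Type u} [CommRing R] [IsNoetherianRing R] {𝒜 : ℤ → AddSubgroup R} [GradedRing 𝒜]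

/-- a *local Noetherian ℤ-graded ring `(R, m)` with `R_m` Cohen–Macaulay is Cohen–Macaulay -/
theorem isCohenMacaulayRing_of_isStarLocal (m : HomogeneousIdeal 𝒜)
    (hm : GrLC.IsStarLocal 𝒜 m) [m.toIdeal.IsPrime]
    (hG : LocCoh.IsCohenMacaulayLocalRing (Localization.AtPrime m.toIdeal)) :
    LocCoh.IsCohenMacaulayRing R := by
  refine Groth.Agent.Helper20.RE.isCohenMacaulayRing_of_localization 𝒜 m.toIdeal ?_ hG
  intro q hq hqh
  have := le_of_isStarLocal m hm ⟨q, hqh⟩ (by
    intro h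
    apply hq.ne_top
    have := congrArg HomogeneousIdeal.toIdeal h
    rwa [HomogeneousIdeal.toIdeal_top] at this)
  exact this

/-- the graded Cohen–Macaulay criterion, for gradings by additive subgroups -/
theorem isCohenMacaulayRing_of_H_subsingleton (hpos : ∀ n : ℤ, n < 0 → 𝒜 n = ⊥)
    (m : HomogeneousIdeal 𝒜) (hm : GrLC.IsStarLocal 𝒜 m) (D : ℕ) (hD : ringKrullDim R = D)
    (I : GrLC.StarInjRes 𝒜 𝒜) (hvan : ∀ q, q < D → Subsingleton (I.H m q)) :
    LocCoh.IsCohenMacaulayRing R := by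
  haveI hmmax : m.toIdeal.IsMaximal := isMaximal_of_isStarLocal hpos m hm
  haveI := hmmax.isPrime
  have hht : m.toIdeal.height = D := by
    have h1 := ringKrullDim_eq_height_of_isStarLocal m hm hmmax
    rw [hD] at h1
    exact_mod_cast h1.symm
  have hLC : ∀ q, q < D → Subsingleton (LC.H m.toIdeal q R) := by
    intro q hq
    obtain ⟨e⟩ := nonempty_H_equiv_LC I m q
    haveI := hvan q hq
    exact e.symm.toEquiv.subsingleton
  have hdepth : (D : ℕ∞) ≤ LocCoh.idealDepth m.toIdeal R :=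
    (LC.le_idealDepth_iff_H' m.toIdeal D R).2 hLC
  have h1 := Groth.Agent.Lead.Depth.idealDepth_self_le_depth_localization m.toIdeal m.toIdeal le_rfl
  have h2 := Groth.Agent.Lead.Depth.depth_self_le_ringKrullDim (R := Localization.AtPrime m.toIdeal)
  apply isCohenMacaulayRing_of_isStarLocal m hm
  refine { supportDim_eq_depth := ?_ }
  rw [Module.supportDim_self_eq_ringKrullDim]
  apply le_antisymm
  · rw [IsLocalization.AtPrime.ringKrullDim_eq_height m.toIdeal, hht]
    have := hdepth.trans h1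
    exact_mod_cast this
  · exact h2

end AddVersion

section Alg

variable {k : Type u} [Field k] {A : Type u} [CommRing A] [Algebra k A] [IsNoetherianRing A]
  {𝒜 : ℤ → Submodule k A} [GradedAlgebra 𝒜]

/-- **the graded Cohen–Macaulay criterion** for a graded algebra over a field -/
theorem isCohenMacaulayRing_iff_Hcomp (hpos : ∀ n : ℤ, n < 0 → 𝒜 n = ⊥)
    (h0 : 𝒜 0 = Submodule.span k {(1 : A)}) (m : HomogeneousIdeal 𝒜)
    (hm : m.toIdeal = Ideal.span (⋃ n ∈ Set.Ioi (0 : ℤ), (𝒜 n : Set A)))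
    (I : GrLC.StarInjRes 𝒜 𝒜) (D : ℕ) (hD : ringKrullDim A = D) :
    LocCoh.IsCohenMacaulayRing A ↔ ∀ q, q < D → ∀ n : ℤ, I.Hcomp m q n = ⊥ := by
  haveI : Nontrivial A := ringKrullDim_nontrivial hD
  have hpos' := toAdd_eq_bot_of_neg hpos
  have hloc := isStarLocal_toAddH hpos h0 m hm
  constructor
  · intro hCM q hq n
    haveI := H_subsingleton_of_CM hpos' (HomogeneousIdeal.toAddH 𝒜 m) hloc D hD
      (StarInjRes.toAddR 𝒜 I (toAdd 𝒜) (fun _ _ h => h)) q hq
    rw [eq_bot_iff]
    intro x _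
    rw [Submodule.mem_bot]
    exact Subsingleton.elim (α := (StarInjRes.toAddR 𝒜 I (toAdd 𝒜) (fun _ _ h => h)).H
      (HomogeneousIdeal.toAddH 𝒜 m) q) _ _
  · intro hvan
    apply isCohenMacaulayRing_of_H_subsingleton hpos' (HomogeneousIdeal.toAddH 𝒜 m) hloc D hD
      (StarInjRes.toAddR 𝒜 I (toAdd 𝒜) (fun _ _ h => h))
    intro q hq
    by_contra hcon
    rw [not_subsingleton_iff_nontrivial] at hcon
    obtain ⟨n, hn⟩ := Groth.Agent.Helper20.GrVC.exists_Hcomp_ne_bot
      (StarInjRes.toAddR 𝒜 I (toAdd 𝒜) (fun _ _ h => h)) (HomogeneousIdeal.toAddH 𝒜 m) q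
    apply hn
    exact hvan q hq n

end Alg

end Groth.Agent.Helper20.GrInj
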