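import Mathlib
import Groth.Prelude
import Groth.Agent.Lib.Helper20.GrSeg34

/-!
# The local cohomology of a Segre product of Cohen–Macaulay rings (arithmetic) (helper20)
-/

open DirectSum TensorProduct

namespace Groth.Agent.Helper20.Seg

universe u

/-- the closed formula when both factors are Cohen–Macaulay -/
theorem segre_cm_arith (a b t h h' : ℕ → ℕ) (ρ ρ' m n' r s : ℕ) (h1r : 1 ≤ r) (h1s : 1 ≤ s)
    (har : ∀ q, q ≠ r → a q = 0) (hbs : ∀ q, q ≠ s → b q = 0)
    (h1 : a 0 + ρ = m) (h2 : a 1 + ρ = h 0) (h3 : ∀ i, a (i + 2) = h (i + 1))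
    (h4 : b 0 + ρ' = n') (h5 : b 1 + ρ' = h' 0) (h6 : ∀ i, b (i + 2) = h' (i + 1))
    (h7 : t 0 + ρ * ρ' = m * n') (h8 : t 1 + ρ * ρ' = h 0 * h' 0)
    (h9 : ∀ q, t (q + 2) = ∑ i : Fin (q + 2), h (i : ℕ) * h' (q + 1 - (i : ℕ))) (Q : ℕ) :
    t Q = m * b Q + a Q * n' + (if Q + 1 = r + s then a r * b s else 0) := by
  have ha0 : a 0 = 0 := har 0 (by omega)
  have hb0 : b 0 = 0 := hbs 0 (by omega)
  rw [ha0, zero_add] at h1
  rw [hb0, zero_add] at h4
  subst h1 h4
  have hh : ∀ i, h (i + 1) = if i + 2 = r then a r else 0 := by
    intro i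
    rw [← h3]
    split_ifs with hi
    · rw [hi]
    · exact har _ hi
  have hh' : ∀ i, h' (i + 1) = if i + 2 = s then b s else 0 := by
    intro i
    rw [← h6]
    split_ifs with hi
    · rw [hi]
    · exact hbs _ hi
  match Q with
  | 0 =>
    rw [ha0, hb0, if_neg (by omega)]
    have : t 0 = 0 := by omega
    rw [this]
    simp
  | 1 =>
    by_cases hr1 : r = 1
    · subst hr1
      by_cases hs1 : s = 1
      · subst hs1
        rw [if_pos rfl]
        rw [← h2, ← h5] at h8
        nlinarith
      · rw [if_neg (by omega)]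
        have hb1 : b 1 = 0 := hbs 1 (by omega)
        rw [hb1, zero_add] at h5
        rw [← h2, ← h5] at h8
        rw [hb1]
        nlinarith
    · have ha1 : a 1 = 0 := har 1 (by omega)
      rw [ha1, zero_add] at h2
      by_cases hs1 : s = 1
      · subst hs1
        rw [if_neg (by omega), ha1]
        rw [← h2, ← h5] at h8
        nlinarith
      · have hb1 : b 1 = 0 := hbs 1 (by omega)
        rw [hb1, zero_add] at h5
        rw [if_neg (by omega), ha1, hb1]
        rw [← h2, ← h5] at h8
        have : t 1 = 0 := by omega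
        rw [this]
        simp
  | q + 2 =>
    rw [h9 q, Fin.sum_univ_eq_sum_range (fun i => h i * h' (q + 1 - i)) (q + 2)]
    have hq1 : h' (q + 1) = b (q + 2) := (h6 q).symm
    by_cases hr1 : r = 1
    · -- only `i = 0` contributes
      subst hr1
      rw [Finset.sum_eq_single 0]
      · rw [Nat.sub_zero, hq1, ← h2, har (q + 2) (by omega), zero_mul, add_zero]
        by_cases hqs : q + 2 = s
        · rw [if_pos (by omega), ← hqs]
          ring
        · rw [if_neg (by omega), hbs _ hqs]
          ring
      · intro i _ hi0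
        obtain ⟨j, rfl⟩ : ∃ j, i = j + 1 := ⟨i - 1, by omega⟩
        rw [hh, if_neg (by omega), zero_mul]
      · intro h0
        exact absurd (Finset.mem_range.2 (by omega)) h0
    · have ha1 : a 1 = 0 := har 1 (by omega)
      rw [ha1, zero_add] at h2
      by_cases hrq : r ≤ q + 2
      · -- `i = 0` and `i = r - 1` contribute
        obtain ⟨r', rfl⟩ : ∃ r', r = r' + 2 := ⟨r - 2, by omega⟩
        rw [Finset.sum_eq_add 0 (r' + 1) (by omega)]
        · rw [Nat.sub_zero, hq1, ← h2, hh, if_pos rfl]
          by_cases hrq' : r' + 2 = q + 2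
          · have hr'q : r' = q := by omega
            subst hr'q
            have e1 : r' + 1 - (r' + 1) = 0 := by omega
            rw [e1, ← h5]
            by_cases hs1 : s = 1
            · subst hs1
              rw [if_pos (by omega)]
              ring
            · rw [if_neg (by omega), hbs 1 (by omega)]
              ring
          · obtain ⟨j, hj⟩ : ∃ j, q + 1 - (r' + 1) = j + 1 := ⟨q - r' - 1, by omega⟩
            rw [hj, hh', har (q + 2) (by omega), zero_mul, add_zero]
            by_cases hjs : j + 2 = s
            · rw [if_pos hjs, if_pos (by omega)]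
            · rw [if_neg hjs, if_neg (by omega)]
              ring
        · intro i _ hi
          obtain ⟨j, rfl⟩ : ∃ j, i = j + 1 := ⟨i - 1, by omega⟩
          rw [hh, if_neg (by omega), zero_mul]
        · intro h0
          exact absurd (Finset.mem_range.2 (by omega)) h0
        · intro h0
          exact absurd (Finset.mem_range.2 (by omega)) h0
      · -- only `i = 0` contributes
        rw [Finset.sum_eq_single 0]
        · rw [Nat.sub_zero, hq1, ← h2, har (q + 2) (by omega), zero_mul, add_zero,
            if_neg (by omega), add_zero]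
        · intro i hi hi0
          rw [Finset.mem_range] at hi
          obtain ⟨j, rfl⟩ : ∃ j, i = j + 1 := ⟨i - 1, by omega⟩
          rw [hh, if_neg (by omega), zero_mul]
        · intro h0
          exact absurd (Finset.mem_range.2 (by omega)) h0

end Groth.Agent.Helper20.Seg
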