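import Mathlib
import Groth.Prelude
import Groth.Agent.Lib.Helper20.GrSeg35

/-!
# Cohen–Macaulayness of a Segre product of Cohen–Macaulay rings (helper20)
-/

open DirectSum TensorProduct

namespace Groth.Agent.Helper20.Seg

open Groth.Agent.Helper20.GrInj Groth.Agent.Helper8

universe u

/-- **Cohen–Macaulayness of the Segre product** of two Cohen–Macaulay graded rings of positive
dimensions -/
theorem segre_cm_iff (k : Type u) [Field k] (R : Type u) [CommRing R] [Algebra k R] (𝒜 : ℤ → Submodule k R) [GradedAlgebra 𝒜] (hposR : ∀ n : ℤ, n < 0 → 𝒜 n = ⊥) (h0R : 𝒜 0 = Submodule.span k {(1 : R)}) [Algebra.FiniteType k R] (S : Type u) [CommRing S] [Algebra k S] (ℬ : ℤ → Submodule k S) [GradedAlgebra ℬ] (hposS : ∀ n : ℤ, n < 0 → ℬ n = ⊥) (h0S : ℬ 0 = Submodule.span k {(1 : S)}) [Algebra.FiniteType k S] (T : Type u) [CommRing T] [Algebra k T] (𝒯 : ℤ → Submodule k T) [GradedAlgebra 𝒯] (ψ : T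 →ₐ[k] TensorProduct k R S) (hψ : Function.Injective ψ) (hdegT : ∀ n : ℤ, (𝒯 n).map ψ.toLinearMap = Submodule.span k {x : TensorProduct k R S | ∃ a ∈ 𝒜 n, ∃ b ∈ ℬ n, x = a ⊗ₜ[k] b}) [LocCoh.IsCohenMacaulayRing R] [LocCoh.IsCohenMacaulayRing S] (mR : HomogeneousIdeal 𝒜) (hmR : mR.toIdeal = Ideal.span (⋃ n ∈ Set.Ioi (0 : ℤ), (𝒜 n : Set R))) (I : GrLC.StarInjRes 𝒜 𝒜) (mS : HomogeneousIdeal ℬ) (hmS : mS.toIdeal = Ideal.span (⋃ n ∈ Set.Ioi (0 : ℤ), (ℬ n : Set S))) (J : GrLC.StarInjRes ℬ ℬ) (r s : ℕ) (hr : ringKrullDim R = r) (hs : ringKrullDim S = s) (h1r : 1 ≤ r) (h1s : 1 ≤ s) :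
    LocCoh.IsCohenMacaulayRing T ↔
      (2 ≤ r → ∀ n : ℤ, 𝒜 n = ⊥ ∨ J.Hcomp mS s n = ⊥) ∧
      (2 ≤ s → ∀ n : ℤ, I.Hcomp mR r n = ⊥ ∨ ℬ n = ⊥) := by
  have hT : GrSeg.IsSegreRing 𝒜 ℬ 𝒯 ψ := ⟨hψ, hdegT⟩
  haveI : IsNoetherianRing R := Algebra.FiniteType.isNoetherianRing k R
  haveI : IsNoetherianRing S := Algebra.FiniteType.isNoetherianRing k S
  haveI : IsNoetherianRing T := Groth.Agent.Helper27.Segre.isNoetherianRing 𝒜 ℬ 𝒯 ψ hT.2 hT.1
  haveI : Nontrivial R := ringKrullDim_nontrivial hr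
  haveI : Nontrivial S := ringKrullDim_nontrivial hs
  haveI : Nontrivial T := segre_nontrivial hT
  have hposT := segre_hpos hT hposR
  have h0T := segre_h0 hT h0R h0S
  let mT := irrelK 𝒯
  have hmT : mT.toIdeal = Ideal.span (⋃ n ∈ Set.Ioi (0 : ℤ), (𝒯 n : Set T)) := rfl
  let IT := starRes 𝒯
  have hdimT : ringKrullDim T = ((r + s - 1 : ℕ) : WithBot ℕ∞) :=
    ringKrullDim_segre k R 𝒜 hposR h0R S ℬ hposS h0S T 𝒯 ψ hψ hdegT r s hr hs h1r h1s
  have critT := isCohenMacaulayRing_iff_Hcomp hposT h0T mT hmT IT (r + s - 1) hdimT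
  have critR := (isCohenMacaulayRing_iff_Hcomp hposR h0R mR hmR I r hr).1 inferInstance
  have critS := (isCohenMacaulayRing_iff_Hcomp hposS h0S mS hmS J s hs).1 inferInstance
  have hbotT : ∀ (q : ℕ) (n : ℤ), IT.Hcomp mT q n = ⊥ ↔
      Module.finrank (GrLC.deg0 𝒯) (IT.Hcomp mT q n) = 0 := fun q n =>
    Hcomp_eq_bot_iff_finrank (StarInjRes.toAddM 𝒯 IT (toAdd 𝒯) (fun _ _ h => h)) mT hposT h0T hmT
      q n
  have hbotR : ∀ (q : ℕ) (n : ℤ), I.Hcomp mR q n = ⊥ ↔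
      Module.finrank (GrLC.deg0 𝒜) (I.Hcomp mR q n) = 0 := fun q n =>
    Hcomp_eq_bot_iff_finrank (StarInjRes.toAddM 𝒜 I (toAdd 𝒜) (fun _ _ h => h)) mR hposR h0R hmR
      q n
  have hbotS : ∀ (q : ℕ) (n : ℤ), J.Hcomp mS q n = ⊥ ↔
      Module.finrank (GrLC.deg0 ℬ) (J.Hcomp mS q n) = 0 := fun q n =>
    Hcomp_eq_bot_iff_finrank (StarInjRes.toAddM ℬ J (toAdd ℬ) (fun _ _ h => h)) mS hposS h0S hmS
      q n
  have hbotA : ∀ n : ℤ, 𝒜 n = ⊥ ↔ Module.finrank k (𝒜 n) = 0 := by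
    intro n
    haveI := Groth.Agent.Helper29.GrFin.ring_piece_finite 𝒜 hposR h0R n
    exact Submodule.finrank_eq_zero.symm
  have hbotB : ∀ n : ℤ, ℬ n = ⊥ ↔ Module.finrank k (ℬ n) = 0 := by
    intro n
    haveI := Groth.Agent.Helper29.GrFin.ring_piece_finite ℬ hposS h0S n
    exact Submodule.finrank_eq_zero.symm
  have hvanR : ∀ (q : ℕ) (n : ℤ), q ≠ r →
      Module.finrank (GrLC.deg0 𝒜) (I.Hcomp mR q n) = 0 := by
    intro q n hq
    rcases Nat.lt_or_ge q r with h | h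
    · rw [← hbotR]
      exact critR q h n
    · exact finrank_Hcomp_of_dim_lt (StarInjRes.toAddM 𝒜 I (toAdd 𝒜) (fun _ _ h => h)) mR r hr q
        (by omega) n
  have hvanS : ∀ (q : ℕ) (n : ℤ), q ≠ s →
      Module.finrank (GrLC.deg0 ℬ) (J.Hcomp mS q n) = 0 := by
    intro q n hq
    rcases Nat.lt_or_ge q s with h | h
    · rw [← hbotS]
      exact critS q h n
    · exact finrank_Hcomp_of_dim_lt (StarInjRes.toAddM ℬ J (toAdd ℬ) (fun _ _ h => h)) mS s hs q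
        (by omega) n
  -- the closed formula
  have formula : ∀ (Q : ℕ) (n : ℤ), Module.finrank (GrLC.deg0 𝒯) (IT.Hcomp mT Q n) =
      Module.finrank k (𝒜 n) * Module.finrank (GrLC.deg0 ℬ) (J.Hcomp mS Q n) +
      Module.finrank (GrLC.deg0 𝒜) (I.Hcomp mR Q n) * Module.finrank k (ℬ n) +
      (if Q + 1 = r + s then Module.finrank (GrLC.deg0 𝒜) (I.Hcomp mR r n) *
        Module.finrank (GrLC.deg0 ℬ) (J.Hcomp mS s n) else 0) := by
    intro Q n
    obtain ⟨ρ, ρ', h, h', h1, h2, h3, h4, h5, h6, h7, h8, h9⟩ :=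
      segre_dims k R 𝒜 hposR h0R S ℬ hposS h0S T 𝒯 ψ hT mR hmR mS hmS mT hmT
        R (toAdd 𝒜) (StarInjRes.toAddM 𝒜 I (toAdd 𝒜) (fun _ _ h => h))
        S (toAdd ℬ) (StarInjRes.toAddM ℬ J (toAdd ℬ) (fun _ _ h => h))
        T (toAdd 𝒯) ψ.toLinearMap (isSegreMod_ring hT)
        (StarInjRes.toAddM 𝒯 IT (toAdd 𝒯) (fun _ _ h => h)) n
    rw [finrank_comp_ring h0R] at h1 h7
    rw [finrank_comp_ring h0S] at h4 h7
    have h1' : Module.finrank (GrLC.deg0 𝒜) (I.Hcomp mR 0 n) + ρ = Module.finrank k (𝒜 n) := h1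
    have h2' : Module.finrank (GrLC.deg0 𝒜) (I.Hcomp mR 1 n) + ρ = h 0 := h2
    have h3' : ∀ i, Module.finrank (GrLC.deg0 𝒜) (I.Hcomp mR (i + 2) n) = h (i + 1) := h3
    have h4' : Module.finrank (GrLC.deg0 ℬ) (J.Hcomp mS 0 n) + ρ' = Module.finrank k (ℬ n) := h4
    have h5' : Module.finrank (GrLC.deg0 ℬ) (J.Hcomp mS 1 n) + ρ' = h' 0 := h5
    have h6' : ∀ i, Module.finrank (GrLC.deg0 ℬ) (J.Hcomp mS (i + 2) n) = h' (i + 1) := h6
    have h7' : Module.finrank (GrLC.deg0 𝒯) (IT.Hcomp mT 0 n) + ρ * ρ' =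
        Module.finrank k (𝒜 n) * Module.finrank k (ℬ n) := h7
    have h8' : Module.finrank (GrLC.deg0 𝒯) (IT.Hcomp mT 1 n) + ρ * ρ' = h 0 * h' 0 := h8
    have h9' : ∀ q, Module.finrank (GrLC.deg0 𝒯) (IT.Hcomp mT (q + 2) n) =
        ∑ i : Fin (q + 2), h (i : ℕ) * h' (q + 1 - (i : ℕ)) := h9
    obtain ⟨a, ha⟩ : ∃ a : ℕ → ℕ, ∀ q, a q = Module.finrank (GrLC.deg0 𝒜) (I.Hcomp mR q n) :=
      ⟨_, fun _ => rfl⟩
    obtain ⟨b, hb⟩ : ∃ b : ℕ → ℕ, ∀ q, b q = Module.finrank (GrLC.deg0 ℬ) (J.Hcomp mS q n) :=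
      ⟨_, fun _ => rfl⟩
    obtain ⟨t, ht⟩ : ∃ t : ℕ → ℕ, ∀ q, t q = Module.finrank (GrLC.deg0 𝒯) (IT.Hcomp mT q n) :=
      ⟨_, fun _ => rfl⟩
    rw [← ht, ← ha, ← ha, ← hb, ← hb]
    apply segre_cm_arith a b t h h' ρ ρ' _ _ r s h1r h1s
    · intro q hq; rw [ha]; exact hvanR q n hq
    · intro q hq; rw [hb]; exact hvanS q n hq
    · rw [ha]; exact h1'
    · rw [ha]; exact h2'
    · intro i; rw [ha]; exact h3' i
    · rw [hb]; exact h4'
    · rw [hb]; exact h5'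
    · intro i; rw [hb]; exact h6' i
    · rw [ht]; exact h7'
    · rw [ht]; exact h8'
    · intro q; rw [ht]; exact h9' q
  rw [critT]
  constructor
  · intro hCM
    constructor
    · intro h2r n
      have h1 := (hbotT s n).1 (hCM s (by omega) n)
      rw [formula s n, if_neg (by omega)] at h1
      have h2 : Module.finrank k (𝒜 n) * Module.finrank (GrLC.deg0 ℬ) (J.Hcomp mS s n) = 0 := by
        omega
      rcases Nat.mul_eq_zero.1 h2 with h | h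
      · exact Or.inl ((hbotA n).2 h)
      · exact Or.inr ((hbotS s n).2 h)
    · intro h2s n
      have h1 := (hbotT r n).1 (hCM r (by omega) n)
      rw [formula r n, if_neg (by omega)] at h1
      have h2 : Module.finrank (GrLC.deg0 𝒜) (I.Hcomp mR r n) * Module.finrank k (ℬ n) = 0 := by
        omega
      rcases Nat.mul_eq_zero.1 h2 with h | h
      · exact Or.inl ((hbotR r n).2 h)
      · exact Or.inr ((hbotB n).2 h)
  · rintro ⟨hc1, hc2⟩ Q hQ n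
    rw [hbotT, formula Q n, if_neg (by omega)]
    have e1 : Module.finrank k (𝒜 n) * Module.finrank (GrLC.deg0 ℬ) (J.Hcomp mS Q n) = 0 := by
      by_cases hQs : Q = s
      · subst hQs
        rcases hc1 (by omega) n with h | h
        · rw [(hbotA n).1 h, zero_mul]
        · rw [(hbotS Q n).1 h, mul_zero]
      · rw [hvanS Q n hQs, mul_zero]
    have e2 : Module.finrank (GrLC.deg0 𝒜) (I.Hcomp mR Q n) * Module.finrank k (ℬ n) = 0 := by
      by_cases hQr : Q = r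
      · subst hQr
        rcases hc2 (by omega) n with h | h
        · rw [(hbotR Q n).1 h, zero_mul]
        · rw [(hbotB n).1 h, mul_zero]
      · rw [hvanR Q n hQr, zero_mul]
    rw [e1, e2]

end Groth.Agent.Helper20.Seg
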