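import Mathlib
import Groth.Prelude
import Groth.Agent.Lib.Helper20.GrSS1
import Groth.Agent.Lib.Helper20.GrSeg36

/-!
# The socle of the Segre product of two graded modules with one-dimensional socles in the same
degree (helper20)
-/

set_option autoImplicit false

open DirectSum TensorProduct

namespace Groth.Agent.Helper20.GrInj

universe u

section Top

variable {R : Type u} [CommRing R] {𝒜 : ℤ → AddSubgroup R} [GradedRing 𝒜]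
  (hpos : ∀ n : ℤ, n < 0 → 𝒜 n = ⊥) (m : HomogeneousIdeal 𝒜)
  (hmsp : m.toIdeal = Ideal.span (⋃ n ∈ Set.Ioi (0 : ℤ), (𝒜 n : Set R)))
  {W : Type u} [AddCommGroup W] [Module R W] {𝒲 : ℤ → AddSubgroup W}
  (hsm : ∀ (i j : ℤ) (r : R) (w : W), r ∈ 𝒜 i → w ∈ 𝒲 j → r • w ∈ 𝒲 (i + j))

include hpos hmsp hsm in
/-- the top piece of a graded module lies in the socle -/
theorem smul_eq_zero_of_top {a : ℤ} (htop : ∀ j, a < j → 𝒲 j = ⊥) {w : W} (hw : w ∈ 𝒲 a) :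
    ∀ r ∈ m.toIdeal, r • w = 0 := by
  apply smul_eq_zero_of_homog m w
  intro l r hr hra
  rcases lt_trichotomy l 0 with hl | hl | hl
  · rw [hpos l hl, AddSubgroup.mem_bot] at hr
    rw [hr, zero_smul]
  · subst hl
    rw [eq_zero_of_mem_irrelevant_of_mem_zero hpos m hmsp hr hra, zero_smul]
  · have h1 := hsm l a r w hr hw
    rw [htop (l + a) (by omega), AddSubgroup.mem_bot] at h1
    exact h1

end Top

end Groth.Agent.Helper20.GrInj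

namespace Groth.Agent.Helper20.Seg

open Groth.Agent.Helper20.GrInj Groth.Agent.Helper8 Groth.Agent.Helper20.Kun
  Groth.Agent.Helper20.SegFin Groth.Agent.Helper20.KS

universe u

section Soc

variable {k : Type u} [Field k] {R S T : Type u} [CommRing R] [CommRing S] [CommRing T]
  [Algebra k R] [Algebra k S] [Algebra k T]
  {𝒜 : ℤ → Submodule k R} [GradedAlgebra 𝒜] {ℬ : ℤ → Submodule k S} [GradedAlgebra ℬ]
  {𝒯 : ℤ → Submodule k T} [GradedAlgebra 𝒯] {ψ : T →ₐ[k] R ⊗[k] S}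
  (hT : GrSeg.IsSegreRing 𝒜 ℬ 𝒯 ψ)
  (hposR : ∀ n : ℤ, n < 0 → 𝒜 n = ⊥) (hposS : ∀ n : ℤ, n < 0 → ℬ n = ⊥)
  (h0R : 𝒜 0 = Submodule.span k {(1 : R)}) (h0S : ℬ 0 = Submodule.span k {(1 : S)})
  (mR' : HomogeneousIdeal (toAdd 𝒜))
  (hmR' : mR'.toIdeal = Ideal.span (⋃ n ∈ Set.Ioi (0 : ℤ), (toAdd 𝒜 n : Set R)))
  (mS' : HomogeneousIdeal (toAdd ℬ))
  (hmS' : mS'.toIdeal = Ideal.span (⋃ n ∈ Set.Ioi (0 : ℤ), (toAdd ℬ n : Set S)))
  (mT' : HomogeneousIdeal (toAdd 𝒯))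
  (hmT' : mT'.toIdeal = Ideal.span (⋃ n ∈ Set.Ioi (0 : ℤ), (toAdd 𝒯 n : Set T)))
  {HX : Type u} [AddCommGroup HX] [Module R HX] [Module k HX] [IsScalarTower k R HX]
  (ℋX : ℤ → AddSubgroup HX)
  (hsmX : ∀ (i j : ℤ) (r : R) (w : HX), r ∈ 𝒜 i → w ∈ ℋX j → r • w ∈ ℋX (i + j))
  (htorX : ∀ w : HX, ∃ n : ℕ, ∀ r ∈ mR'.toIdeal ^ n, r • w = 0)
  {HY : Type u} [AddCommGroup HY] [Module S HY] [Module k HY] [IsScalarTower k S HY]
  (ℋY : ℤ → AddSubgroup HY)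
  (hsmY : ∀ (i j : ℤ) (r : S) (w : HY), r ∈ ℬ i → w ∈ ℋY j → r • w ∈ ℋY (i + j))
  (htorY : ∀ w : HY, ∃ n : ℕ, ∀ r ∈ mS'.toIdeal ^ n, r • w = 0)
  {W : Type u} [AddCommGroup W] [Module T W] (𝒲 : ℤ → AddSubgroup W)
  (hsmW : ∀ (i j : ℤ) (t : T) (w : W), t ∈ 𝒯 i → w ∈ 𝒲 j → t • w ∈ 𝒲 (i + j))
  (Φ : W →ₗ[T] Amb ψ HX HY) (hΦ : Function.Injective Φ)
  (hΦim : ∀ n : ℤ, Φ '' (𝒲 n : Set W) = (GrSeg.segrePiece k ℋX ℋY n : Set (HX ⊗[k] HY)))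

theorem toAdd_eq_bot_of_neg' {A : Type u} [CommRing A] [Algebra k A] {𝒜 : ℤ → Submodule k A}
    (hpos : ∀ n : ℤ, n < 0 → 𝒜 n = ⊥) : ∀ n : ℤ, n < 0 → toAdd 𝒜 n = ⊥ := by
  intro n hn
  ext x
  show x ∈ 𝒜 n ↔ x ∈ (⊥ : AddSubgroup A)
  rw [hpos n hn]
  rfl

omit [GradedAlgebra 𝒜] in
include h0R in
theorem exists_smul_eq_of_mem_zero {c : R} (hc : c ∈ 𝒜 0) (h : HX) : ∃ c' : k, c • h = c' • h := by
  rw [h0R] at hc
  obtain ⟨c', rfl⟩ := Submodule.mem_span_singleton.1 hc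
  exact ⟨c', by rw [smul_assoc, one_smul]⟩

include hT hposR hposS h0R h0S hmR' hmS' hmT' hsmX htorX hsmY htorY hsmW hΦ hΦim in
/-- **the socle of the Segre product of two graded modules with one-dimensional socles in the same
degree `a` is one-dimensional, in degree `a`** -/
theorem isSocAt_seg {a : ℤ} (hsX : IsSocAt (toAdd 𝒜) mR'.toIdeal ℋX a)
    (hsY : IsSocAt (toAdd ℬ) mS'.toIdeal ℋY a) : IsSocAt (toAdd 𝒯) mT'.toIdeal 𝒲 a := by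
  have hposR' := toAdd_eq_bot_of_neg' hposR
  have hposS' := toAdd_eq_bot_of_neg' hposS
  have hposT' := toAdd_eq_bot_of_neg' (segre_hpos hT hposR)
  have htopX : ∀ j, a < j → ℋX j = ⊥ := fun j hj =>
    eq_bot_of_isSocAt_of_lt mR' hsmX hposR' htorX hsX hj
  have htopY : ∀ j, a < j → ℋY j = ⊥ := fun j hj =>
    eq_bot_of_isSocAt_of_lt mS' hsmY hposS' htorY hsY hj
  have htopW : ∀ j, a < j → 𝒲 j = ⊥ := fun j hj =>
    piece_eq_bot_seg ℋX ℋY 𝒲 Φ hΦ hΦim (Or.inl (htopX j hj))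
  have hallX : ∀ h ∈ ℋX a, ∀ r ∈ mR'.toIdeal, r • h = 0 := fun h hh =>
    smul_eq_zero_of_top hposR' mR' hmR' hsmX htopX hh
  have hallY : ∀ h ∈ ℋY a, ∀ r ∈ mS'.toIdeal, r • h = 0 := fun h hh =>
    smul_eq_zero_of_top hposS' mS' hmS' hsmY htopY hh
  have hallW : ∀ w ∈ 𝒲 a, ∀ t ∈ mT'.toIdeal, t • w = 0 := fun w hw =>
    smul_eq_zero_of_top hposT' mT' hmT' hsmW htopW hw
  refine ⟨?_, ?_⟩
  · intro j w hw hw0 hwsoc
    have hXj : ℋX j ≠ ⊥ := by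
      intro h
      rw [piece_eq_bot_seg ℋX ℋY 𝒲 Φ hΦ hΦim (Or.inl h), AddSubgroup.mem_bot] at hw
      exact hw0 hw
    obtain ⟨h, hh, hh0⟩ : ∃ h ∈ ℋX j, h ≠ 0 := by
      by_contra hcon
      push Not at hcon
      apply hXj
      rw [eq_bot_iff]
      intro x hx
      exact AddSubgroup.mem_bot.2 (hcon x hx)
    have hja : j ≤ a := (exists_smul_ne_zero_of_isSocAt mR' hsmX hposR' htorX hsX hh hh0).1
    by_contra hne
    have hlt : j < a := lt_of_le_of_ne hja hne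
    obtain ⟨t, ht, htw⟩ := exists_smul_ne_zero_seg hT ℋX hsmX ℋY hsmY 𝒲 Φ hΦ hΦim (e := a - j)
      (fun h hh hh0 => (exists_smul_ne_zero_of_isSocAt mR' hsmX hposR' htorX hsX hh hh0).2)
      (fun h hh hh0 => (exists_smul_ne_zero_of_isSocAt mS' hsmY hposS' htorY hsY hh hh0).2)
      hw hw0
    apply htw
    apply hwsoc
    rw [hmT']
    apply Ideal.subset_span
    rw [Set.mem_iUnion₂]
    exact ⟨a - j, by rw [Set.mem_Ioi]; omega, ht⟩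
  · obtain ⟨-, h₀, hh₀, hh₀0, -, hgenX⟩ := hsX
    obtain ⟨-, g₀, hg₀, hg₀0, -, hgenY⟩ := hsY
    have hX' : ∀ h ∈ ℋX a, ∃ c : k, h = c • h₀ := by
      intro h hh
      obtain ⟨c, hc, rfl⟩ := hgenX h hh (hallX h hh)
      exact exists_smul_eq_of_mem_zero h0R hc h₀
    have hY' : ∀ h ∈ ℋY a, ∃ c : k, h = c • g₀ := by
      intro h hh
      obtain ⟨c, hc, rfl⟩ := hgenY h hh (hallY h hh)
      exact exists_smul_eq_of_mem_zero h0S hc g₀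
    obtain ⟨w₀, hw₀, hΦw₀, hgenW⟩ := exists_generator_seg ℋX ℋY 𝒲 Φ hΦ hΦim hh₀ hX' hg₀ hY'
    refine ⟨w₀, hw₀, ?_, hallW w₀ hw₀, fun w hw _ => ?_⟩
    · rintro rfl
      rw [map_zero] at hΦw₀
      exact tmul_ne_zero_of_ne_zero hh₀0 hg₀0 hΦw₀.symm
    · obtain ⟨c, rfl⟩ := hgenW w hw
      exact ⟨algebraMap k T c, SetLike.algebraMap_mem_graded 𝒯 c, rfl⟩

end Soc

end Groth.Agent.Helper20.Seg
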