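import Mathlib
import Groth.Prelude
import Groth.Agent.Lib.Helper20.GrSS2
import Groth.Agent.Lib.Helper20.GrTK9
import Groth.Agent.Lib.Helper20.GorVer1
import Groth.Agent.Lib.Helper20.GrSeg36

/-!
# The Segre product of two Gorenstein graded rings with the same `a`-invariant (helper20)
-/

set_option autoImplicit false

open DirectSum TensorProduct

namespace Groth.Agent.Helper20.Seg

open Groth.Agent.Helper20.GrInj Groth.Agent.Helper8 Groth.Agent.Helper20.Kun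
  Groth.Agent.Helper20.SegFin Groth.Agent.Helper20.KS Groth.Agent.Helper20.GorBr

universe u

section KMod

variable (k : Type u) [Field k] {R : Type u} [CommRing R] [Algebra k R]

/-- the `k`-structure of a module over a `k`-algebra -/
@[reducible] noncomputable def kMod (H : Type u) [AddCommGroup H] [Module R H] : Module k H :=
  Module.compHom H (algebraMap k R)

theorem kMod_tower (H : Type u) [AddCommGroup H] [Module R H] :
    @IsScalarTower k R H _ _ (kMod k (R := R) H).toSMul :=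
  letI := kMod k (R := R) H
  ⟨fun c r x => by
    show (c • r) • x = algebraMap k R c • (r • x)
    rw [Algebra.smul_def, mul_smul]⟩

end KMod

section GorData

variable {k : Type u} [Field k] {A : Type u} [CommRing A] [Algebra k A] [IsNoetherianRing A]
  {𝒜 : ℤ → Submodule k A} [GradedAlgebra 𝒜]

theorem toAddH_toIdeal_eq (m : HomogeneousIdeal 𝒜)
    (hm : m.toIdeal = Ideal.span (⋃ n ∈ Set.Ioi (0 : ℤ), (𝒜 n : Set A))) :
    (HomogeneousIdeal.toAddH 𝒜 m).toIdeal =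
      Ideal.span (⋃ n ∈ Set.Ioi (0 : ℤ), (toAdd 𝒜 n : Set A)) := by
  rw [HomogeneousIdeal.toAddH_toIdeal, hm]
  rfl

theorem hgr_smul_mem (m : HomogeneousIdeal 𝒜) (I : GrLC.StarInjRes 𝒜 𝒜) (r : ℕ) :
    ∀ (i j : ℤ) (x : A) (w : I.H m r), x ∈ 𝒜 i → w ∈ I.Hgr m r j → x • w ∈ I.Hgr m r (i + j) := by
  intro i j x w hx hw
  have := (Hgr_gradedSMul (StarInjRes.toAddR 𝒜 I (toAdd 𝒜) (fun _ _ h => h))
    (HomogeneousIdeal.toAddH 𝒜 m) r).smul_mem (i := i) (j := j) (ai := x) (bj := w) hx hw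
  rw [vadd_eq_add] at this
  exact this

/-- the data of a Gorenstein graded ring over a field: vanishing of the local cohomology outside
the dimension, the one-dimensional socle of the top local cohomology in degree `a(R)`, and
faithfulness -/
theorem gor_soc_data [LocCoh.IsGorensteinRing A] (hpos : ∀ n : ℤ, n < 0 → 𝒜 n = ⊥)
    (h0 : 𝒜 0 = Submodule.span k {(1 : A)}) (m : HomogeneousIdeal 𝒜)
    (hm : m.toIdeal = Ideal.span (⋃ n ∈ Set.Ioi (0 : ℤ), (𝒜 n : Set A)))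
    (I : GrLC.StarInjRes 𝒜 𝒜) (r : ℕ) (hr : ringKrullDim A = r) :
    (∀ i : ℕ, i ≠ r → Subsingleton (I.H m i)) ∧ ∃ a : ℤ,
      IsSocAt (toAdd 𝒜) (HomogeneousIdeal.toAddH 𝒜 m).toIdeal (I.Hgr m r) a ∧
      GrLC.endDeg (I.Hgr m r) = ((a : WithTop ℤ) : WithBot (WithTop ℤ)) ∧
      (∀ (i : ℤ) (x : A), x ∈ 𝒜 i → x ≠ 0 → ∃ h ∈ I.Hgr m r (a - i), x • h ≠ 0) := by
  haveI : Nontrivial A := ringKrullDim_nontrivial hr
  have hpos' := toAdd_eq_bot_of_neg hpos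
  have h0' := isField_deg0 h0
  let m' := HomogeneousIdeal.toAddH 𝒜 m
  have hloc := isStarLocal_toAddH hpos h0 m hm
  have hmsp' := toAddH_toIdeal_eq m hm
  let I' := StarInjRes.toAddR 𝒜 I (toAdd 𝒜) (fun _ _ h => h)
  obtain ⟨hvan, s, hs, hB⟩ := exists_isSocAt_of_isGorensteinRing hpos' h0' m' hloc hmsp' r hr I'
  refine ⟨hvan, s, hs, ?_, hB⟩
  have hsm := hgr_smul_mem m I r
  have htor := exists_pow_smul_H_eq_zero I' m' r
  have htop : ∀ j, s < j → I.Hgr m r j = ⊥ := fun j hj =>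
    eq_bot_of_isSocAt_of_lt (𝒜 := toAdd 𝒜) m' hsm hpos' htor hs hj
  obtain ⟨-, w₀, hw₀, hw₀0, -, -⟩ := hs
  have hne : I.Hgr m r s ≠ ⊥ := by
    intro h
    have hw₀' : w₀ ∈ I.Hgr m r s := hw₀
    rw [h] at hw₀'
    exact hw₀0 ((AddSubgroup.mem_bot (G := I.H m r)).1 hw₀')
  exact endDeg_eq_of_top hne htop

end GorData

section Main

/-- **the Segre product of two Gorenstein graded rings of dimensions `≥ 2` with the same
`a`-invariant is Gorenstein as soon as it is Cohen–Macaulay** -/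
theorem isGorensteinRing_segre (k : Type u) [Field k] (R : Type u) [CommRing R] [Algebra k R]
    (𝒜 : ℤ → Submodule k R) [GradedAlgebra 𝒜] (hposR : ∀ n : ℤ, n < 0 → 𝒜 n = ⊥)
    (h0R : 𝒜 0 = Submodule.span k {(1 : R)}) [Algebra.FiniteType k R] (S : Type u) [CommRing S]
    [Algebra k S] (ℬ : ℤ → Submodule k S) [GradedAlgebra ℬ] (hposS : ∀ n : ℤ, n < 0 → ℬ n = ⊥)
    (h0S : ℬ 0 = Submodule.span k {(1 : S)}) [Algebra.FiniteType k S] (T : Type u) [CommRing T]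
    [Algebra k T] (𝒯 : ℤ → Submodule k T) [GradedAlgebra 𝒯] (ψ : T →ₐ[k] TensorProduct k R S)
    (hψ : Function.Injective ψ)
    (hdegT : ∀ n : ℤ, (𝒯 n).map ψ.toLinearMap =
      Submodule.span k {x : TensorProduct k R S | ∃ a ∈ 𝒜 n, ∃ b ∈ ℬ n, x = a ⊗ₜ[k] b})
    [LocCoh.IsGorensteinRing R] [LocCoh.IsGorensteinRing S] (mR : HomogeneousIdeal 𝒜)
    (hmR : mR.toIdeal = Ideal.span (⋃ n ∈ Set.Ioi (0 : ℤ), (𝒜 n : Set R)))
    (I : GrLC.StarInjRes 𝒜 𝒜) (mS : HomogeneousIdeal ℬ)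
    (hmS : mS.toIdeal = Ideal.span (⋃ n ∈ Set.Ioi (0 : ℤ), (ℬ n : Set S)))
    (J : GrLC.StarInjRes ℬ ℬ) (r s : ℕ) (hr : ringKrullDim R = r) (hs : ringKrullDim S = s)
    (h2r : 2 ≤ r) (h2s : 2 ≤ s)
    (haeq : GrLC.endDeg (I.Hgr mR r) = GrLC.endDeg (J.Hgr mS s))
    [LocCoh.IsCohenMacaulayRing T] : LocCoh.IsGorensteinRing T := by
  have hT : GrSeg.IsSegreRing 𝒜 ℬ 𝒯 ψ := ⟨hψ, hdegT⟩
  haveI : IsNoetherianRing R := Algebra.FiniteType.isNoetherianRing k R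
  haveI : IsNoetherianRing S := Algebra.FiniteType.isNoetherianRing k S
  haveI : IsNoetherianRing T := Groth.Agent.Helper27.Segre.isNoetherianRing 𝒜 ℬ 𝒯 ψ hT.2 hT.1
  haveI : Nontrivial R := ringKrullDim_nontrivial hr
  haveI : Nontrivial S := ringKrullDim_nontrivial hs
  haveI : Nontrivial T := segre_nontrivial hT
  have hposT := segre_hpos hT hposR
  have h0T := segre_h0 hT h0R h0S
  have hdimT : ringKrullDim T = ((r + s - 1 : ℕ) : WithBot ℕ∞) :=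
    ringKrullDim_segre k R 𝒜 hposR h0R S ℬ hposS h0S T 𝒯 ψ hψ hdegT r s hr hs (by omega)
      (by omega)
  obtain ⟨ρ, rfl⟩ : ∃ ρ, r = ρ + 2 := ⟨r - 2, by omega⟩
  obtain ⟨σ, rfl⟩ : ∃ σ, s = σ + 2 := ⟨s - 2, by omega⟩
  have e1 : ρ + 2 + (σ + 2) - 1 = ρ + σ + 3 := by omega
  rw [e1] at hdimT
  let mT := irrelK 𝒯
  have hmT : mT.toIdeal = Ideal.span (⋃ n ∈ Set.Ioi (0 : ℤ), (𝒯 n : Set T)) := rfl
  let IT := starRes 𝒯
  obtain ⟨hvanR, a, hsR, haR, -⟩ := gor_soc_data hposR h0R mR hmR I (ρ + 2) hr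
  obtain ⟨hvanS, b, hsS, haS, -⟩ := gor_soc_data hposS h0S mS hmS J (σ + 2) hs
  have hab : a = b := by
    rw [haR, haS] at haeq
    exact_mod_cast haeq
  subst hab
  -- the Künneth isomorphism in the top degree
  let EM := StarInjRes.toAddM 𝒜 I (toAdd 𝒜) (fun _ _ h => h)
  let EN := StarInjRes.toAddM ℬ J (toAdd ℬ) (fun _ _ h => h)
  let EP := StarInjRes.toAddM 𝒯 IT (toAdd 𝒯) (fun _ _ h => h)
  letI modX := kMod k (R := R) (EM.H mR (ρ + 2))
  haveI towX := kMod_tower k (R := R) (EM.H mR (ρ + 2))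
  letI modY := kMod k (R := S) (EN.H mS (σ + 2))
  haveI towY := kMod_tower k (R := S) (EN.H mS (σ + 2))
  obtain ⟨Φ, hΦ, hΦim⟩ := exists_H_top_seg_map hT (isSegreMod_ring hT) EM mR hmR EN mS hmS EP mT
    hmT ρ σ (fun q hq => hvanR q (by omega)) (fun q hq => hvanS q (by omega))
    (HX := EM.H mR (ρ + 2)) (EM.toH mR (ρ + 2)) (Submodule.ker_mkQ _) (EM.Hgr mR (ρ + 2))
    (fun _ _ => Iff.rfl)
    (HY := EN.H mS (σ + 2)) (EN.toH mS (σ + 2)) (Submodule.ker_mkQ _) (EN.Hgr mS (σ + 2))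
    (fun _ _ => Iff.rfl)
  -- the socle
  let mR' := HomogeneousIdeal.toAddH 𝒜 mR
  let mS' := HomogeneousIdeal.toAddH ℬ mS
  let mT' := HomogeneousIdeal.toAddH 𝒯 mT
  let I' := StarInjRes.toAddR 𝒜 I (toAdd 𝒜) (fun _ _ h => h)
  let J' := StarInjRes.toAddR ℬ J (toAdd ℬ) (fun _ _ h => h)
  let IT' := StarInjRes.toAddR 𝒯 IT (toAdd 𝒯) (fun _ _ h => h)
  have hsocT : IsSocAt (toAdd 𝒯) mT'.toIdeal (IT'.Hgr mT' (ρ + σ + 3)) a :=
    isSocAt_seg hT hposR hposS h0R h0S mR' (toAddH_toIdeal_eq mR hmR) mS'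
      (toAddH_toIdeal_eq mS hmS) mT' (toAddH_toIdeal_eq mT hmT)
      (EM.Hgr mR (ρ + 2)) (hgr_smul_mem mR I (ρ + 2)) (exists_pow_smul_H_eq_zero I' mR' (ρ + 2))
      (EN.Hgr mS (σ + 2)) (hgr_smul_mem mS J (σ + 2)) (exists_pow_smul_H_eq_zero J' mS' (σ + 2))
      (EP.Hgr mT (ρ + σ + 3)) (hgr_smul_mem mT IT (ρ + σ + 3)) Φ hΦ hΦim hsR hsS
  have hposT' := toAdd_eq_bot_of_neg hposT
  have hlocT := isStarLocal_toAddH hposT h0T mT hmT
  refine isGorensteinRing_of_isSocAt hposT' mT' hlocT (ρ + σ + 3) IT' ?_ hsocT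
  intro i hi
  rcases Nat.lt_or_ge i (ρ + σ + 3) with h | h
  · exact H_subsingleton_of_CM hposT' mT' hlocT (ρ + σ + 3) hdimT IT' i h
  · obtain ⟨e⟩ := nonempty_H_equiv_LC IT' mT' i
    haveI := LC.H_subsingleton_of_ringKrullDim_lt mT'.toIdeal (ρ + σ + 3) hdimT T i (by omega)
    exact e.toEquiv.subsingleton

end Main

end Groth.Agent.Helper20.Seg
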