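import Mathlib
import Groth.Prelude
import Groth.Agent.Lib.Helper20.GrCan7
import Groth.Agent.Lib.Helper20.GrSS3
import Groth.Agent.Lib.Helper20.GrSM2

/-!
# The canonical module of a Segre product (helper20)

`K_{R # S} ≅ K_R # K_S` for graded algebras of dimensions `≥ 2` over a field.
-/

set_option autoImplicit false

open DirectSum TensorProduct

namespace Groth.Agent.Helper20.Seg

open Groth.Agent.Helper20.GrInj Groth.Agent.Helper8 Groth.Agent.Helper20.Kun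
  Groth.Agent.Helper20.SegFin Groth.Agent.Helper20.KS

universe u

section PieceFin

variable {k : Type u} [Field k] {R : Type u} [CommRing R] [Algebra k R]
  (𝒜 : ℤ → Submodule k R) [GradedAlgebra 𝒜]
  {C : Type u} [AddCommGroup C] [Module R C] [Module k C] [IsScalarTower k R C]
  (𝒞 : ℤ → AddSubgroup C) [DirectSum.Decomposition 𝒞] [SetLike.GradedSMul 𝒜 𝒞]

theorem pcK_finite [Algebra.FiniteType k R] (hpos : ∀ n : ℤ, n < 0 → 𝒜 n = ⊥)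
    (h0 : 𝒜 0 = Submodule.span k {(1 : R)}) [Module.Finite R C]
    (hk : ∀ (c : k) (n : ℤ) (h : C), h ∈ 𝒞 n → c • h ∈ 𝒞 n) (j : ℤ) :
    Module.Finite k ↥(pcK 𝒞 hk j) := by
  haveI := Groth.Agent.Helper29.GrFin.module_piece_finite 𝒜 𝒞 hpos h0 j
  have he : pcK 𝒞 hk j = Groth.Agent.Helper29.GrFin.pieceK 𝒜 𝒞 j :=
    Submodule.ext (fun _ => Iff.rfl)
  rw [he]
  infer_instance

end PieceFin

section Main

/-- **the Segre product of *canonical modules is a *canonical module of the Segre product** -/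
theorem isStarCanonical_segre (k : Type u) [Field k] (R : Type u) [CommRing R] [Algebra k R]
    (𝒜 : ℤ → Submodule k R) [GradedAlgebra 𝒜] (hposR : ∀ n : ℤ, n < 0 → 𝒜 n = ⊥)
    (h0R : 𝒜 0 = Submodule.span k {(1 : R)}) [Algebra.FiniteType k R] (S : Type u) [CommRing S]
    [Algebra k S] (ℬ : ℤ → Submodule k S) [GradedAlgebra ℬ] (hposS : ∀ n : ℤ, n < 0 → ℬ n = ⊥)
    (h0S : ℬ 0 = Submodule.span k {(1 : S)}) [Algebra.FiniteType k S] (T : Type u) [CommRing T]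
    [Algebra k T] (𝒯 : ℤ → Submodule k T) [GradedAlgebra 𝒯] (ψ : T →ₐ[k] TensorProduct k R S)
    (hT : GrSeg.IsSegreRing 𝒜 ℬ 𝒯 ψ) (mR : HomogeneousIdeal 𝒜)
    (hmR : mR.toIdeal = Ideal.span (⋃ n ∈ Set.Ioi (0 : ℤ), (𝒜 n : Set R)))
    (I : GrLC.StarInjRes 𝒜 𝒜) (mS : HomogeneousIdeal ℬ)
    (hmS : mS.toIdeal = Ideal.span (⋃ n ∈ Set.Ioi (0 : ℤ), (ℬ n : Set S)))
    (J : GrLC.StarInjRes ℬ ℬ) (mT : HomogeneousIdeal 𝒯)
    (hmT : mT.toIdeal = Ideal.span (⋃ n ∈ Set.Ioi (0 : ℤ), (𝒯 n : Set T)))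
    (IT : GrLC.StarInjRes 𝒯 𝒯) (r s : ℕ) (hr : ringKrullDim R = r) (hs : ringKrullDim S = s)
    (h2r : 2 ≤ r) (h2s : 2 ≤ s) (ER : Type u) [AddCommGroup ER] [Module R ER]
    (𝓔R : ℤ → AddSubgroup ER) [DirectSum.Decomposition 𝓔R] [SetLike.GradedSMul 𝒜 𝓔R]
    (eR : (R ⧸ mR.toIdeal) →ₗ[R] ER) (heR : GrLC.IsStarInjHull 𝒜 (GrLC.quotGr 𝒜 mR) 𝓔R eR)
    (CR : Type u) [AddCommGroup CR] [Module R CR] [Module k CR] [IsScalarTower k R CR]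
    (𝒞R : ℤ → AddSubgroup CR) [DirectSum.Decomposition 𝒞R] [SetLike.GradedSMul 𝒜 𝒞R]
    (hCR : GrLC.IsStarCanonical 𝒜 𝒞R 𝓔R mR r I) (ES : Type u) [AddCommGroup ES] [Module S ES]
    (𝓔S : ℤ → AddSubgroup ES) [DirectSum.Decomposition 𝓔S] [SetLike.GradedSMul ℬ 𝓔S]
    (eS : (S ⧸ mS.toIdeal) →ₗ[S] ES) (heS : GrLC.IsStarInjHull ℬ (GrLC.quotGr ℬ mS) 𝓔S eS)
    (CS : Type u) [AddCommGroup CS] [Module S CS] [Module k CS] [IsScalarTower k S CS]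
    (𝒞S : ℤ → AddSubgroup CS) [DirectSum.Decomposition 𝒞S] [SetLike.GradedSMul ℬ 𝒞S]
    (hCS : GrLC.IsStarCanonical ℬ 𝒞S 𝓔S mS s J) (ET : Type u) [AddCommGroup ET] [Module T ET]
    (𝓔T : ℤ → AddSubgroup ET) [DirectSum.Decomposition 𝓔T] [SetLike.GradedSMul 𝒯 𝓔T]
    (eT : (T ⧸ mT.toIdeal) →ₗ[T] ET) (heT : GrLC.IsStarInjHull 𝒯 (GrLC.quotGr 𝒯 mT) 𝓔T eT)
    (P : Type u) [AddCommGroup P] [Module T P] [Module k P] [IsScalarTower k T P]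
    (𝒬 : ℤ → AddSubgroup P) [DirectSum.Decomposition 𝒬] [SetLike.GradedSMul 𝒯 𝒬]
    (φ : P →ₗ[k] TensorProduct k CR CS) (hP : GrSeg.IsSegreMod ψ 𝒞R 𝒞S 𝒬 φ) :
    GrLC.IsStarCanonical 𝒯 𝒬 𝓔T mT (r + s - 1) IT := by
  haveI : IsNoetherianRing R := Algebra.FiniteType.isNoetherianRing k R
  haveI : IsNoetherianRing S := Algebra.FiniteType.isNoetherianRing k S
  haveI : IsNoetherianRing T := Groth.Agent.Helper27.Segre.isNoetherianRing 𝒜 ℬ 𝒯 ψ hT.2 hT.1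
  haveI : Nontrivial R := ringKrullDim_nontrivial hr
  haveI : Nontrivial S := ringKrullDim_nontrivial hs
  haveI : Nontrivial T := segre_nontrivial hT
  have hposT := segre_hpos hT hposR
  have h0T := segre_h0 hT h0R h0S
  haveI hfinCR : Module.Finite R CR := hCR.1
  haveI hfinCS : Module.Finite S CS := hCS.1
  haveI hfinP : Module.Finite T P := finite_of_isSegreMod hT hP
  obtain ⟨ρ, rfl⟩ : ∃ ρ, r = ρ + 2 := ⟨r - 2, by omega⟩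
  obtain ⟨σ, rfl⟩ : ∃ σ, s = σ + 2 := ⟨s - 2, by omega⟩
  have e1 : ρ + 2 + (σ + 2) - 1 = ρ + σ + 3 := by omega
  rw [e1]
  -- the converted data
  let mR' := HomogeneousIdeal.toAddH 𝒜 mR
  let mS' := HomogeneousIdeal.toAddH ℬ mS
  let mT' := HomogeneousIdeal.toAddH 𝒯 mT
  let I' := StarInjRes.toAddR 𝒜 I (toAdd 𝒜) (fun _ _ h => h)
  let J' := StarInjRes.toAddR ℬ J (toAdd ℬ) (fun _ _ h => h)
  let IT' := StarInjRes.toAddR 𝒯 IT (toAdd 𝒯) (fun _ _ h => h)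
  let EM := StarInjRes.toAddM 𝒜 I (toAdd 𝒜) (fun _ _ h => h)
  let EN := StarInjRes.toAddM ℬ J (toAdd ℬ) (fun _ _ h => h)
  let EP := StarInjRes.toAddM 𝒯 IT (toAdd 𝒯) (fun _ _ h => h)
  letI modX := kMod k (R := R) (EM.H mR (ρ + 2))
  haveI towX := kMod_tower k (R := R) (EM.H mR (ρ + 2))
  letI modY := kMod k (R := S) (EN.H mS (σ + 2))
  haveI towY := kMod_tower k (R := S) (EN.H mS (σ + 2))
  letI modW := kMod k (R := T) (EP.H mT (ρ + σ + 3))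
  haveI towW := kMod_tower k (R := T) (EP.H mT (ρ + σ + 3))
  -- the duality pairings of the factors
  obtain ⟨PR⟩ : Nonempty (GrPairing (toAdd 𝒜) 𝒞R (EM.Hgr mR (ρ + 2))) :=
    exists_grPairing_of_isStarCanonical (toAdd_eq_bot_of_neg hposR) (isField_deg0 h0R) mR'
      (toAddH_toIdeal_eq mR hmR) eR (isStarInjHull_toAdd 𝒜 𝓔R mR eR heR) (ρ + 2) I'
      (isStarCanonical_toAdd 𝒜 𝓔R 𝒞R mR (ρ + 2) I hCR)
  obtain ⟨PS⟩ : Nonempty (GrPairing (toAdd ℬ) 𝒞S (EN.Hgr mS (σ + 2))) :=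
    exists_grPairing_of_isStarCanonical (toAdd_eq_bot_of_neg hposS) (isField_deg0 h0S) mS'
      (toAddH_toIdeal_eq mS hmS) eS (isStarInjHull_toAdd ℬ 𝓔S mS eS heS) (σ + 2) J'
      (isStarCanonical_toAdd ℬ 𝓔S 𝒞S mS (σ + 2) J hCS)
  let BR : KPair k R 𝒞R (EM.Hgr mR (ρ + 2)) := KPair.ofGrPairing h0R PR
  let BS : KPair k S 𝒞S (EN.Hgr mS (σ + 2)) := KPair.ofGrPairing h0S PS
  -- vanishing above the dimension
  have hvanR : ∀ q, ρ + 2 < q → Subsingleton (EM.H mR q) := by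
    intro q hq
    obtain ⟨e⟩ := nonempty_H_equiv_LC I' mR' q
    haveI := LC.H_subsingleton_of_ringKrullDim_lt mR'.toIdeal (ρ + 2) hr R q hq
    exact e.toEquiv.subsingleton
  have hvanS : ∀ q, σ + 2 < q → Subsingleton (EN.H mS q) := by
    intro q hq
    obtain ⟨e⟩ := nonempty_H_equiv_LC J' mS' q
    haveI := LC.H_subsingleton_of_ringKrullDim_lt mS'.toIdeal (σ + 2) hs S q hq
    exact e.toEquiv.subsingleton
  -- the Künneth isomorphism in the top degree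
  obtain ⟨Φ, hΦ, hΦim⟩ := exists_H_top_seg_map hT (isSegreMod_ring hT) EM mR hmR EN mS hmS EP mT
    hmT ρ σ hvanR hvanS
    (HX := EM.H mR (ρ + 2)) (EM.toH mR (ρ + 2)) (Submodule.ker_mkQ _) (EM.Hgr mR (ρ + 2))
    (fun _ _ => Iff.rfl)
    (HY := EN.H mS (σ + 2)) (EN.toH mS (σ + 2)) (Submodule.ker_mkQ _) (EN.Hgr mS (σ + 2))
    (fun _ _ => Iff.rfl)
  -- stability of the pieces under the scalars
  have hkCR : ∀ (a : k) (n : ℤ) (c : CR), c ∈ 𝒞R n → a • c ∈ 𝒞R n :=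
    fun a n c hc => smul_mem_piece 𝒜 𝒞R a hc
  have hkCS : ∀ (a : k) (n : ℤ) (c : CS), c ∈ 𝒞S n → a • c ∈ 𝒞S n :=
    fun a n c hc => smul_mem_piece ℬ 𝒞S a hc
  have hkHX : ∀ (a : k) (n : ℤ) (h : EM.H mR (ρ + 2)), h ∈ EM.Hgr mR (ρ + 2) n →
      a • h ∈ EM.Hgr mR (ρ + 2) n :=
    fun a n h hh => smul_mem_of_hsm (EM.Hgr mR (ρ + 2)) (hgr_smul_mem mR I (ρ + 2)) a hh
  have hkHY : ∀ (a : k) (n : ℤ) (h : EN.H mS (σ + 2)), h ∈ EN.Hgr mS (σ + 2) n →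
      a • h ∈ EN.Hgr mS (σ + 2) n :=
    fun a n h hh => smul_mem_of_hsm (EN.Hgr mS (σ + 2)) (hgr_smul_mem mS J (σ + 2)) a hh
  have hkW : ∀ (a : k) (n : ℤ) (w : EP.H mT (ρ + σ + 3)), w ∈ EP.Hgr mT (ρ + σ + 3) n →
      a • w ∈ EP.Hgr mT (ρ + σ + 3) n :=
    fun a n h hh => smul_mem_of_hsm (EP.Hgr mT (ρ + σ + 3)) (hgr_smul_mem mT IT (ρ + σ + 3)) a hh
  -- the pairing on the Segre product
  let BT : KPair k T 𝒬 (EP.Hgr mT (ρ + σ + 3)) :=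
    KPair.seg BR BS hkCR hkCS hkHX hkHY
      (fun j => pcK_finite 𝒜 𝒞R hposR h0R hkCR j) (fun j => pcK_finite ℬ 𝒞S hposS h0S hkCS j)
      hP Φ hΦ hΦim
  let PT : GrPairing (toAdd 𝒯) 𝒬 (IT'.Hgr mT' (ρ + σ + 3)) := BT.toGrPairing h0T hkW
  obtain ⟨-, φT, hφT⟩ := isStarCanonical_of_grPairing (toAdd_eq_bot_of_neg hposT)
    (isField_deg0 h0T) mT' (toAddH_toIdeal_eq mT hmT) eT (isStarInjHull_toAdd 𝒯 𝓔T mT eT heT)
    (ρ + σ + 3) IT' PT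
  exact ⟨hfinP, φT, fun d f hf => hφT d f hf⟩

end Main

end Groth.Agent.Helper20.Seg
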