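import Mathlib
import Groth.Agent.Lib.Helper20.GrBass7

/-!
# Vanishing of `Ext` from the residue field descends from a larger prime (helper20)

If `Ext^j` into `M_q` vanishes over `R_q` then `Ext^j_{R_p}(k(p), M_p) = 0` for every prime
`p ≤ q`.
-/

set_option autoImplicit false

open IsLocalRing CategoryTheory TensorProduct

namespace Groth.Agent.Helper20.GrCanFin

open Groth.Agent.Helper8 Groth.Agent.Helper8.LC Groth.Agent.Helper8.Canon
  Groth.Agent.Helper8.ExtLoc Groth.Agent.Helper20.GrBass

universe u

variable {R : Type u} [CommRing R] [IsNoetherianRing R]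

/-- if `Ext^j_{R_q}(-, M_q) = 0` then `Ext^j_{R_p}(k(p), M_p) = 0` for `p ≤ q` -/
theorem ext_localized_subsingleton_of_le (p q : Ideal R) [p.IsPrime] [q.IsPrime] (hpq : p ≤ q)
    (M : Type u) [AddCommGroup M] [Module R M] (j : ℕ)
    (h : ∀ Y : ModuleCat.{u} (Localization.AtPrime q), Subsingleton (Abelian.Ext.{u} Y
      (ModuleCat.of (Localization.AtPrime q) (LocalizedModule q.primeCompl M)) j)) :
    Subsingleton (Abelian.Ext.{u}
      (ModuleCat.of (Localization.AtPrime p) (ResidueField (Localization.AtPrime p)))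
      (ModuleCat.of (Localization.AtPrime p) (LocalizedModule p.primeCompl M)) j) := by
  -- `W = Ext^j_R(R/p, M)`
  obtain ⟨eq⟩ := ExtBC.ext_baseChange (A := R) (B := Localization.AtPrime q) M j (R ⧸ p)
  obtain ⟨ep⟩ := ExtBC.ext_baseChange (A := R) (B := Localization.AtPrime p) M j (R ⧸ p)
  -- vanishing at `q`
  have h1 : Subsingleton (Abelian.Ext.{u}
      (ModuleCat.of (Localization.AtPrime q) ((Localization.AtPrime q) ⊗[R] (R ⧸ p)))
      (ModuleCat.of (Localization.AtPrime q) ((Localization.AtPrime q) ⊗[R] M)) j) :=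
    (extCongrRight _ (LocalizedModule.equivTensorProduct q.primeCompl M) j).symm.toEquiv.subsingleton
  have h2 : Subsingleton ((Localization.AtPrime q) ⊗[R]
      Abelian.Ext.{u} (ModuleCat.of R (R ⧸ p)) (ModuleCat.of R M) j) := eq.toEquiv.subsingleton
  have h3 : Subsingleton (LocalizedModule q.primeCompl
      (Abelian.Ext.{u} (ModuleCat.of R (R ⧸ p)) (ModuleCat.of R M) j)) :=
    (LocalizedModule.equivTensorProduct q.primeCompl _).toEquiv.subsingleton
  -- descend to `p`
  have h4 : Subsingleton (LocalizedModule p.primeCompl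
      (Abelian.Ext.{u} (ModuleCat.of R (R ⧸ p)) (ModuleCat.of R M) j)) := by
    rw [← not_nontrivial_iff_subsingleton]
    intro hnt
    have hp : (⟨p, inferInstance⟩ : PrimeSpectrum R) ∈ Module.support R
        (Abelian.Ext.{u} (ModuleCat.of R (R ⧸ p)) (ModuleCat.of R M) j) :=
      Module.mem_support_iff.2 hnt
    have hq : (⟨q, inferInstance⟩ : PrimeSpectrum R) ∈ Module.support R
        (Abelian.Ext.{u} (ModuleCat.of R (R ⧸ p)) (ModuleCat.of R M) j) :=
      Module.mem_support_mono (p := ⟨p, inferInstance⟩) (q := ⟨q, inferInstance⟩) hpq hp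
    have := Module.mem_support_iff.1 hq
    exact not_subsingleton _ h3
  have h5 : Subsingleton ((Localization.AtPrime p) ⊗[R]
      Abelian.Ext.{u} (ModuleCat.of R (R ⧸ p)) (ModuleCat.of R M) j) :=
    (LocalizedModule.equivTensorProduct p.primeCompl _).symm.toEquiv.subsingleton
  have h6 := ep.symm.toEquiv.subsingleton
  have h7 := (extCongrLeft (residueEquivTensor p)
    (ModuleCat.of (Localization.AtPrime p) ((Localization.AtPrime p) ⊗[R] M))
    j).symm.toEquiv.subsingleton
  exact (extCongrRight (ModuleCat.of (Localization.AtPrime p)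
      (ResidueField (Localization.AtPrime p)))
    (LocalizedModule.equivTensorProduct p.primeCompl M) j).toEquiv.subsingleton

/-- the corresponding vanishing of Bass numbers -/
theorem bassNum_eq_zero_of_le (p q : Ideal R) [p.IsPrime] [q.IsPrime] (hpq : p ≤ q)
    (M : Type u) [AddCommGroup M] [Module R M] (j : ℕ)
    (h : ∀ Y : ModuleCat.{u} (Localization.AtPrime q), Subsingleton (Abelian.Ext.{u} Y
      (ModuleCat.of (Localization.AtPrime q) (LocalizedModule q.primeCompl M)) j)) :
    GrLC.bassNum p M j = 0 := by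
  haveI := ext_localized_subsingleton_of_le p q hpq M j h
  unfold GrLC.bassNum GrLC.bassNumLocal
  rw [Module.length_eq_zero_iff]
  infer_instance

end Groth.Agent.Helper20.GrCanFin
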