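import Mathlib
import Groth.Agent.Lib.Helper20.GrHull5

/-!
# Twisted modules: the right adjoint of the forgetful functor from graded modules (helper20)

For a `ℤ`-graded ring `R` and an `R`-module `N`:
* `Gf 𝒜 N` is `N[t, t⁻¹] = ℤ →₀ N` with the action `a ⋆ (x tᵐ) = (a x) t^{k+m}` for `a ∈ R_k`;
* `Tw 𝒜 W` is `ℤ → W` with the action `(a ⋆ w)(n) = a • w(n - k)` for `a ∈ R_k`.
-/

open DirectSum

namespace Groth.Agent.Helper20.GrTw

universe u v

variable {R : Type u} [CommRing R] (𝒜 : ℤ → AddSubgroup R) [GradedRing 𝒜]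

section Pieces

variable {P : Type v} [AddCommGroup P]

/-- additive map `R → End P` assembled from its values on homogeneous pieces -/
noncomputable def pieceAdd (act : ∀ k, 𝒜 k →+ (P →+ P)) : R →+ (P →+ P) :=
  (DirectSum.toAddMonoid act).comp (DirectSum.decomposeAddEquiv 𝒜).toAddMonoidHom

theorem pieceAdd_of_mem (act : ∀ k, 𝒜 k →+ (P →+ P)) {k : ℤ} {a : R} (ha : a ∈ 𝒜 k) :
    pieceAdd 𝒜 act a = act k ⟨a, ha⟩ := by
  unfold pieceAdd
  rw [AddMonoidHom.comp_apply]
  show DirectSum.toAddMonoid act (DirectSum.decompose 𝒜 a) = _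
  rw [DirectSum.decompose_of_mem 𝒜 ha, DirectSum.toAddMonoid_of]

theorem pieceAdd_mul (act : ∀ k, 𝒜 k →+ (P →+ P))
    (hmul : ∀ (i j : ℤ) (a : 𝒜 i) (b : 𝒜 j) (w : P),
      act (i + j) ⟨(a : R) * b, SetLike.mul_mem_graded a.2 b.2⟩ w = act i a (act j b w))
    (a b : R) (w : P) :
    pieceAdd 𝒜 act (a * b) w = pieceAdd 𝒜 act a (pieceAdd 𝒜 act b w) := by
  induction a using DirectSum.Decomposition.inductionOn 𝒜 with
  | zero => rw [zero_mul, map_zero, AddMonoidHom.zero_apply, AddMonoidHom.zero_apply]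
  | @homogeneous i a =>
    induction b using DirectSum.Decomposition.inductionOn 𝒜 with
    | zero => rw [mul_zero, map_zero, AddMonoidHom.zero_apply, map_zero]
    | @homogeneous j b =>
      rw [pieceAdd_of_mem 𝒜 act (SetLike.mul_mem_graded a.2 b.2), hmul,
        pieceAdd_of_mem 𝒜 act a.2, pieceAdd_of_mem 𝒜 act b.2]
    | add b b' hb hb' =>
      rw [mul_add, map_add, map_add, AddMonoidHom.add_apply, AddMonoidHom.add_apply, map_add,
        hb, hb']
  | add a a' ha ha' =>
    rw [add_mul, map_add, map_add, AddMonoidHom.add_apply, AddMonoidHom.add_apply, ha, ha']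

/-- module structure on `P` assembled from the action of the homogeneous pieces -/
@[reducible] noncomputable def pieceModule (act : ∀ k, 𝒜 k →+ (P →+ P))
    (h1 : ∀ w : P, act 0 ⟨1, SetLike.one_mem_graded 𝒜⟩ w = w)
    (hmul : ∀ (i j : ℤ) (a : 𝒜 i) (b : 𝒜 j) (w : P),
      act (i + j) ⟨(a : R) * b, SetLike.mul_mem_graded a.2 b.2⟩ w = act i a (act j b w)) :
    Module R P where
  smul a w := pieceAdd 𝒜 act a w
  one_smul w := by
    show pieceAdd 𝒜 act 1 w = w
    rw [pieceAdd_of_mem 𝒜 act (SetLike.one_mem_graded 𝒜), h1]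
  mul_smul a b w := pieceAdd_mul 𝒜 act hmul a b w
  smul_zero a := map_zero _
  smul_add a w w' := map_add _ _ _
  add_smul a b w := by
    show pieceAdd 𝒜 act (a + b) w = pieceAdd 𝒜 act a w + pieceAdd 𝒜 act b w
    rw [map_add, AddMonoidHom.add_apply]
  zero_smul w := by
    show pieceAdd 𝒜 act 0 w = 0
    rw [map_zero, AddMonoidHom.zero_apply]

end Pieces

/-! ## The module `Tw 𝒜 W` of all functions -/

/-- `ℤ → W` with the twisted action -/
def Tw (_𝒜 : ℤ → AddSubgroup R) (W : Type v) : Type v := ℤ → W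

section Tw

variable (W : Type v) [AddCommGroup W] [Module R W]

noncomputable instance : AddCommGroup (Tw 𝒜 W) := inferInstanceAs (AddCommGroup (ℤ → W))

/-- the action of a homogeneous element on `ℤ → W` -/
def twAct (k : ℤ) : 𝒜 k →+ (Tw 𝒜 W →+ Tw 𝒜 W) where
  toFun a :=
    { toFun := fun w n => (a : R) • w (n - k)
      map_zero' := by
        funext n
        show (a : R) • (0 : W) = 0
        rw [smul_zero]
      map_add' := fun w w' => by
        funext n
        show (a : R) • (w (n - k) + w' (n - k)) = (a : R) • w (n - k) + (a : R) • w' (n - k)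
        rw [smul_add] }
  map_zero' := by
    apply AddMonoidHom.ext
    intro w
    funext n
    show ((0 : 𝒜 k) : R) • w (n - k) = 0
    rw [ZeroMemClass.coe_zero, zero_smul]
  map_add' a b := by
    apply AddMonoidHom.ext
    intro w
    funext n
    show ((a + b : 𝒜 k) : R) • w (n - k) = (a : R) • w (n - k) + (b : R) • w (n - k)
    rw [AddMemClass.coe_add, add_smul]

theorem twAct_apply (k : ℤ) (a : 𝒜 k) (w : Tw 𝒜 W) (n : ℤ) :
    twAct 𝒜 W k a w n = (a : R) • w (n - k) := rfl

noncomputable instance : Module R (Tw 𝒜 W) :=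
  pieceModule 𝒜 (twAct 𝒜 W)
    (by
      intro w
      funext n
      rw [twAct_apply]
      show (1 : R) • w (n - 0) = w n
      rw [one_smul, sub_zero])
    (by
      intro i j a b w
      funext n
      rw [twAct_apply, twAct_apply, twAct_apply, mul_smul, sub_sub, add_comm i j])

theorem Tw.smul_def (a : R) (w : Tw 𝒜 W) : a • w = pieceAdd 𝒜 (twAct 𝒜 W) a w := rfl

theorem Tw.smul_apply_of_mem {k : ℤ} {a : R} (ha : a ∈ 𝒜 k) (w : Tw 𝒜 W) (n : ℤ) :
    (a • w) n = a • w (n - k) := by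
  rw [Tw.smul_def, pieceAdd_of_mem 𝒜 _ ha]
  rfl

theorem Tw.add_apply (w w' : Tw 𝒜 W) (n : ℤ) : (w + w') n = w n + w' n := rfl

theorem Tw.zero_apply (n : ℤ) : (0 : Tw 𝒜 W) n = 0 := rfl

theorem Tw.sub_apply (w w' : Tw 𝒜 W) (n : ℤ) : (w - w') n = w n - w' n := rfl

theorem Tw.ext {w w' : Tw 𝒜 W} (h : ∀ n, w n = w' n) : w = w' := funext h

end Tw

end Groth.Agent.Helper20.GrTw
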