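import Mathlib
import Groth.Agent.Lib.Helper20.GrTw1

/-!
# The graded module `N[t, t⁻¹]` with the twisted action (helper20)
-/

open DirectSum

namespace Groth.Agent.Helper20.GrTw

universe u v

variable {R : Type u} [CommRing R] (𝒜 : ℤ → AddSubgroup R) [GradedRing 𝒜]

/-- `ℤ →₀ N` with the twisted action -/
def Gf (_𝒜 : ℤ → AddSubgroup R) (N : Type v) [AddCommGroup N] : Type v := ℤ →₀ N

section Gf

variable (N : Type v) [AddCommGroup N] [Module R N]

noncomputable instance : AddCommGroup (Gf 𝒜 N) := inferInstanceAs (AddCommGroup (ℤ →₀ N))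

/-- monomials `x tᵐ` -/
noncomputable def gsingle (m : ℤ) : N →+ Gf 𝒜 N := Finsupp.singleAddHom m

variable {𝒜 N} in
/-- the coefficient of `tⁿ` -/
def Gf.coeff (y : Gf 𝒜 N) (n : ℤ) : N := (show ℤ →₀ N from y) n

theorem coeff_gsingle (m : ℤ) (x : N) (n : ℤ) :
    (gsingle 𝒜 N m x).coeff n = if m = n then x else 0 := by
  show (Finsupp.single m x) n = _
  rw [Finsupp.single_apply]

theorem Gf.coeff_add (y y' : Gf 𝒜 N) (n : ℤ) : (y + y').coeff n = y.coeff n + y'.coeff n := rfl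

theorem Gf.coeff_zero (n : ℤ) : (0 : Gf 𝒜 N).coeff n = 0 := rfl

variable {𝒜 N} in
theorem Gf.ext {y y' : Gf 𝒜 N} (h : ∀ n, y.coeff n = y'.coeff n) : y = y' :=
  Finsupp.ext h

/-- additive maps out of `Gf` agreeing on monomials are equal -/
theorem Gf.addHom_ext {P : Type*} [AddZeroClass P] {f g : Gf 𝒜 N →+ P}
    (h : ∀ m x, f (gsingle 𝒜 N m x) = g (gsingle 𝒜 N m x)) : f = g :=
  Finsupp.addHom_ext h

/-- the action of a homogeneous element, as a function of the element of `R` -/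
noncomputable def gfActFun (k : ℤ) (a : R) : Gf 𝒜 N →+ Gf 𝒜 N :=
  Finsupp.liftAddHom (fun m => (gsingle 𝒜 N (k + m)).comp (smulAddHom R N a))

theorem gfActFun_single (k : ℤ) (a : R) (m : ℤ) (x : N) :
    gfActFun 𝒜 N k a (gsingle 𝒜 N m x) = gsingle 𝒜 N (k + m) (a • x) := by
  show Finsupp.liftAddHom _ (Finsupp.single m x) = _
  rw [Finsupp.liftAddHom_apply_single]
  rfl

/-- the action of a homogeneous element -/
noncomputable def gfAct (k : ℤ) : 𝒜 k →+ (Gf 𝒜 N →+ Gf 𝒜 N) where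
  toFun a := gfActFun 𝒜 N k (a : R)
  map_zero' := by
    apply Gf.addHom_ext
    intro m x
    rw [gfActFun_single, ZeroMemClass.coe_zero, zero_smul, map_zero, AddMonoidHom.zero_apply]
  map_add' a b := by
    apply Gf.addHom_ext
    intro m x
    rw [AddMonoidHom.add_apply, gfActFun_single, gfActFun_single, gfActFun_single,
      AddMemClass.coe_add, add_smul, map_add]

theorem gfAct_single (k : ℤ) (a : 𝒜 k) (m : ℤ) (x : N) :
    gfAct 𝒜 N k a (gsingle 𝒜 N m x) = gsingle 𝒜 N (k + m) ((a : R) • x) :=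
  gfActFun_single 𝒜 N k a m x

noncomputable instance : Module R (Gf 𝒜 N) :=
  pieceModule 𝒜 (gfAct 𝒜 N)
    (by
      intro w
      have : gfAct 𝒜 N 0 ⟨1, SetLike.one_mem_graded 𝒜⟩ = AddMonoidHom.id _ := by
        apply Gf.addHom_ext
        intro m x
        rw [gfAct_single, AddMonoidHom.id_apply, zero_add, one_smul]
      rw [this, AddMonoidHom.id_apply])
    (by
      intro i j a b w
      have : gfAct 𝒜 N (i + j) ⟨(a : R) * b, SetLike.mul_mem_graded a.2 b.2⟩ =
          (gfAct 𝒜 N i a).comp (gfAct 𝒜 N j b) := by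
        apply Gf.addHom_ext
        intro m x
        rw [gfAct_single, AddMonoidHom.comp_apply, gfAct_single, gfAct_single, mul_smul,
          add_assoc]
      rw [this, AddMonoidHom.comp_apply])

theorem Gf.smul_def (a : R) (w : Gf 𝒜 N) : a • w = pieceAdd 𝒜 (gfAct 𝒜 N) a w := rfl

theorem Gf.smul_single_of_mem {k : ℤ} {a : R} (ha : a ∈ 𝒜 k) (m : ℤ) (x : N) :
    a • gsingle 𝒜 N m x = gsingle 𝒜 N (k + m) (a • x) := by
  rw [Gf.smul_def, pieceAdd_of_mem 𝒜 _ ha, gfAct_single]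

/-- induction principle -/
theorem Gf.induction {p : Gf 𝒜 N → Prop} (h0 : p 0) (hadd : ∀ y y', p y → p y' → p (y + y'))
    (hsingle : ∀ m x, p (gsingle 𝒜 N m x)) (y : Gf 𝒜 N) : p y :=
  Finsupp.induction_linear y h0 hadd hsingle

/-! ### the grading -/

/-- the piece of degree `m`: the monomials `x tᵐ` -/
noncomputable def gfGr (m : ℤ) : AddSubgroup (Gf 𝒜 N) := (gsingle 𝒜 N m).range

theorem gsingle_mem (m : ℤ) (x : N) : gsingle 𝒜 N m x ∈ gfGr 𝒜 N m := ⟨x, rfl⟩

/-- the decomposition map -/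
noncomputable def gfDecomposeHom : Gf 𝒜 N →+ ⨁ m, gfGr 𝒜 N m :=
  Finsupp.liftAddHom (fun m => (DirectSum.of (fun m => gfGr 𝒜 N m) m).comp
    ((gsingle 𝒜 N m).rangeRestrict))

theorem gfDecomposeHom_single (m : ℤ) (x : N) :
    gfDecomposeHom 𝒜 N (gsingle 𝒜 N m x) =
      DirectSum.of (fun m => gfGr 𝒜 N m) m ⟨gsingle 𝒜 N m x, gsingle_mem 𝒜 N m x⟩ := by
  show Finsupp.liftAddHom _ (Finsupp.single m x) = _
  rw [Finsupp.liftAddHom_apply_single]
  rfl

noncomputable instance : DirectSum.Decomposition (gfGr 𝒜 N) :=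
  DirectSum.Decomposition.ofAddHom _ (gfDecomposeHom 𝒜 N)
    (by
      apply Gf.addHom_ext
      intro m x
      rw [AddMonoidHom.comp_apply, gfDecomposeHom_single, DirectSum.coeAddMonoidHom_of,
        AddMonoidHom.id_apply])
    (by
      apply DirectSum.addHom_ext
      intro m y
      obtain ⟨x, hx⟩ := y.2
      have hy : y = ⟨gsingle 𝒜 N m x, gsingle_mem 𝒜 N m x⟩ := Subtype.ext hx.symm
      rw [AddMonoidHom.comp_apply, DirectSum.coeAddMonoidHom_of, AddMonoidHom.id_apply, hy,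
        gfDecomposeHom_single])

instance : SetLike.GradedSMul 𝒜 (gfGr 𝒜 N) :=
  ⟨fun {i j} {a} {y} ha hy => by
    obtain ⟨x, rfl⟩ := hy
    rw [Gf.smul_single_of_mem 𝒜 N ha, vadd_eq_add]
    exact gsingle_mem 𝒜 N _ _⟩

end Gf

end Groth.Agent.Helper20.GrTw
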