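import Mathlib
import Groth.Agent.Lib.Helper20.GrTw2

/-!
# The unit `X → X[t, t⁻¹]`, functoriality of `Gf`, and injectivity of `Tw 𝒜 W` (helper20)
-/

open DirectSum

namespace Groth.Agent.Helper20.GrTw

universe u v

variable {R : Type u} [CommRing R] (𝒜 : ℤ → AddSubgroup R) [GradedRing 𝒜]

/-- to check linearity of an additive map it suffices to check homogeneous scalars -/
theorem map_smul_of_homogeneous {A B : Type*} [AddCommGroup A] [Module R A] [AddCommGroup B]
    [Module R B] (φ : A →+ B)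
    (h : ∀ (k : ℤ) (a : R), a ∈ 𝒜 k → ∀ x : A, φ (a • x) = a • φ x) (a : R) (x : A) :
    φ (a • x) = a • φ x := by
  induction a using DirectSum.Decomposition.inductionOn 𝒜 with
  | zero => rw [zero_smul, zero_smul, map_zero]
  | @homogeneous k a => exact h k a a.2 x
  | add a a' ha ha' => rw [add_smul, add_smul, map_add, ha, ha']

section Eta

variable {X : Type u} [AddCommGroup X] [Module R X] (ℳ : ℤ → AddSubgroup X)
  [DirectSum.Decomposition ℳ] [SetLike.GradedSMul 𝒜 ℳ]
  {N : Type u} [AddCommGroup N] [Module R N] (j : X →ₗ[R] N)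

/-- the unit map, additively -/
noncomputable def etaAdd : X →+ Gf 𝒜 N :=
  (DirectSum.toAddMonoid
    (fun m => (gsingle 𝒜 N m).comp (j.toAddMonoidHom.comp (ℳ m).subtype))).comp
    (DirectSum.decomposeAddEquiv ℳ).toAddMonoidHom

theorem etaAdd_of_mem {m : ℤ} {x : X} (hx : x ∈ ℳ m) :
    etaAdd 𝒜 ℳ j x = gsingle 𝒜 N m (j x) := by
  unfold etaAdd
  rw [AddMonoidHom.comp_apply]
  show DirectSum.toAddMonoid _ (DirectSum.decompose ℳ x) = _
  rw [DirectSum.decompose_of_mem ℳ hx, DirectSum.toAddMonoid_of]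
  rfl

/-- the unit map `x ↦ ∑ j(x_m) tᵐ` -/
noncomputable def eta : X →ₗ[R] Gf 𝒜 N where
  toFun := etaAdd 𝒜 ℳ j
  map_add' := map_add _
  map_smul' := by
    intro a x
    rw [RingHom.id_apply]
    refine map_smul_of_homogeneous 𝒜 (etaAdd 𝒜 ℳ j) ?_ a x
    intro k a ha x
    induction x using DirectSum.Decomposition.inductionOn ℳ with
    | zero => rw [smul_zero, map_zero, smul_zero]
    | @homogeneous m x =>
      have hm : a • (x : X) ∈ ℳ (k + m) := by
        have := SetLike.GradedSMul.smul_mem (A := 𝒜) (B := ℳ) ha x.2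
        rwa [vadd_eq_add] at this
      rw [etaAdd_of_mem 𝒜 ℳ j hm, etaAdd_of_mem 𝒜 ℳ j x.2, Gf.smul_single_of_mem 𝒜 N ha,
        map_smul]
    | add x x' hx hx' => rw [smul_add, map_add, map_add, smul_add, hx, hx']

theorem eta_of_mem {m : ℤ} {x : X} (hx : x ∈ ℳ m) :
    eta 𝒜 ℳ j x = gsingle 𝒜 N m (j x) := etaAdd_of_mem 𝒜 ℳ j hx

theorem eta_isGrHom : GrLC.IsGrHom ℳ (gfGr 𝒜 N) (eta 𝒜 ℳ j) := by
  intro m x hx
  rw [eta_of_mem 𝒜 ℳ j hx]
  exact gsingle_mem 𝒜 N m _

theorem eta_coeff (x : X) (n : ℤ) :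
    (eta 𝒜 ℳ j x).coeff n = j (DirectSum.decompose ℳ x n : X) := by
  induction x using DirectSum.Decomposition.inductionOn ℳ with
  | zero => rw [map_zero, Gf.coeff_zero, DirectSum.decompose_zero, DirectSum.zero_apply,
      ZeroMemClass.coe_zero, map_zero]
  | @homogeneous m x =>
    rw [eta_of_mem 𝒜 ℳ j x.2, coeff_gsingle]
    by_cases h : m = n
    · subst h
      rw [if_pos rfl, DirectSum.decompose_of_mem_same ℳ x.2]
    · rw [if_neg h, DirectSum.decompose_of_mem_ne ℳ x.2 h, map_zero]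
  | add x x' hx hx' =>
    rw [map_add, Gf.coeff_add, hx, hx', DirectSum.decompose_add, DirectSum.add_apply,
      AddMemClass.coe_add, map_add]

theorem eta_injective (hj : Function.Injective j) : Function.Injective (eta 𝒜 ℳ j) := by
  rw [← LinearMap.ker_eq_bot, LinearMap.ker_eq_bot']
  intro x hx
  have h0 : ∀ n, (DirectSum.decompose ℳ x n : X) = 0 := by
    intro n
    apply hj
    rw [← eta_coeff 𝒜 ℳ j x n, hx, map_zero, Gf.coeff_zero]
  have : DirectSum.decompose ℳ x = 0 := by
    apply DFinsupp.ext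
    intro n
    apply Subtype.ext
    rw [h0 n]
    rfl
  have h2 := congrArg (DirectSum.decompose ℳ).symm this
  rwa [Equiv.symm_apply_apply, DirectSum.decompose_symm_zero] at h2

end Eta

section Functor

variable {X Y : Type v} [AddCommGroup X] [Module R X] [AddCommGroup Y] [Module R Y]
  (f : X →ₗ[R] Y)

/-- functoriality of `Gf` -/
noncomputable def gfMap : Gf 𝒜 X →ₗ[R] Gf 𝒜 Y where
  toFun := Finsupp.mapRange.addMonoidHom f.toAddMonoidHom
  map_add' := map_add _
  map_smul' := by
    intro a y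
    rw [RingHom.id_apply]
    refine map_smul_of_homogeneous 𝒜
      (show Gf 𝒜 X →+ Gf 𝒜 Y from Finsupp.mapRange.addMonoidHom f.toAddMonoidHom) ?_ a y
    intro k a ha y
    induction y using Gf.induction 𝒜 X with
    | h0 => rw [smul_zero, map_zero, smul_zero]
    | hadd y y' hy hy' => rw [smul_add, map_add, map_add, smul_add, hy, hy']
    | hsingle m x =>
      rw [Gf.smul_single_of_mem 𝒜 X ha]
      show Finsupp.mapRange f.toAddMonoidHom (map_zero _) (Finsupp.single (k + m) (a • x)) =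
        a • (show Gf 𝒜 Y from Finsupp.mapRange f.toAddMonoidHom (map_zero _) (Finsupp.single m x))
      rw [Finsupp.mapRange_single, Finsupp.mapRange_single]
      show gsingle 𝒜 Y (k + m) (f (a • x)) = a • gsingle 𝒜 Y m (f x)
      rw [Gf.smul_single_of_mem 𝒜 Y ha, map_smul]

theorem gfMap_single (m : ℤ) (x : X) :
    gfMap 𝒜 f (gsingle 𝒜 X m x) = gsingle 𝒜 Y m (f x) := by
  show Finsupp.mapRange f.toAddMonoidHom (map_zero _) (Finsupp.single m x) = _
  rw [Finsupp.mapRange_single]
  rfl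

theorem gfMap_injective (hf : Function.Injective f) : Function.Injective (gfMap 𝒜 f) :=
  Finsupp.mapRange_injective f.toAddMonoidHom (map_zero _) hf

end Functor

end Groth.Agent.Helper20.GrTw
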