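import Mathlib
import Groth.Agent.Lib.Helper20.GrTw3

/-!
# `Tw 𝒜 W` is injective when `W` is (helper20)

`Hom_R(N, Tw 𝒜 W) = Hom_R(Gf 𝒜 N, W)` and `Gf 𝒜` is exact.
-/

open DirectSum

namespace Groth.Agent.Helper20.GrTw

universe u v

variable {R : Type u} [CommRing R] (𝒜 : ℤ → AddSubgroup R) [GradedRing 𝒜]

section Adj

variable {W : Type v} [AddCommGroup W] [Module R W]
  {X Y : Type v} [AddCommGroup X] [Module R X] [AddCommGroup Y] [Module R Y]

/-- evaluation at `m`, additively -/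
def twEval (m : ℤ) : Tw 𝒜 W →+ W where
  toFun w := w m
  map_zero' := rfl
  map_add' _ _ := rfl

omit [GradedRing 𝒜] [Module R W] in
theorem twEval_apply (m : ℤ) (w : Tw 𝒜 W) : twEval 𝒜 m w = w m := rfl

/-- the adjoint of a map `X → Tw 𝒜 W`, additively -/
noncomputable def adjAdd (g : X →ₗ[R] Tw 𝒜 W) : Gf 𝒜 X →+ W :=
  Finsupp.liftAddHom (fun m => (twEval 𝒜 m).comp g.toAddMonoidHom)

theorem adjAdd_single (g : X →ₗ[R] Tw 𝒜 W) (m : ℤ) (x : X) :
    adjAdd 𝒜 g (gsingle 𝒜 X m x) = g x m := by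
  show Finsupp.liftAddHom _ (Finsupp.single m x) = _
  rw [Finsupp.liftAddHom_apply_single]
  rfl

/-- the adjoint of a map `X → Tw 𝒜 W` -/
noncomputable def adj (g : X →ₗ[R] Tw 𝒜 W) : Gf 𝒜 X →ₗ[R] W where
  toFun := adjAdd 𝒜 g
  map_add' := map_add _
  map_smul' := by
    intro a y
    rw [RingHom.id_apply]
    refine map_smul_of_homogeneous 𝒜 (adjAdd 𝒜 g) ?_ a y
    intro k a ha y
    induction y using Gf.induction 𝒜 X with
    | h0 => rw [smul_zero, map_zero, smul_zero]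
    | hadd y y' hy hy' => rw [smul_add, map_add, map_add, smul_add, hy, hy']
    | hsingle m x =>
      rw [Gf.smul_single_of_mem 𝒜 X ha, adjAdd_single, adjAdd_single, map_smul,
        Tw.smul_apply_of_mem 𝒜 W ha, add_sub_cancel_left]

theorem adj_single (g : X →ₗ[R] Tw 𝒜 W) (m : ℤ) (x : X) :
    adj 𝒜 g (gsingle 𝒜 X m x) = g x m := adjAdd_single 𝒜 g m x

/-- the map `Y → Tw 𝒜 W` adjoint to `ψ : Gf 𝒜 Y → W` -/
noncomputable def coadj (ψ : Gf 𝒜 Y →ₗ[R] W) : Y →ₗ[R] Tw 𝒜 W where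
  toFun y := fun m => ψ (gsingle 𝒜 Y m y)
  map_add' y y' := by
    apply Tw.ext
    intro m
    rw [Tw.add_apply]
    show ψ (gsingle 𝒜 Y m (y + y')) = _
    rw [map_add, map_add]
  map_smul' := by
    intro a y
    rw [RingHom.id_apply]
    let φ : Y →+ Tw 𝒜 W :=
      { toFun := fun y => (fun m => ψ (gsingle 𝒜 Y m y) : Tw 𝒜 W)
        map_zero' := by
          apply Tw.ext
          intro m
          show ψ (gsingle 𝒜 Y m 0) = 0
          rw [map_zero, map_zero]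
        map_add' := fun y y' => by
          apply Tw.ext
          intro m
          rw [Tw.add_apply]
          show ψ (gsingle 𝒜 Y m (y + y')) = _
          rw [map_add, map_add] }
    refine map_smul_of_homogeneous 𝒜 φ ?_ a y
    intro k a ha y
    apply Tw.ext
    intro m
    rw [Tw.smul_apply_of_mem 𝒜 W ha]
    show ψ (gsingle 𝒜 Y m (a • y)) = a • ψ (gsingle 𝒜 Y (m - k) y)
    rw [← map_smul, Gf.smul_single_of_mem 𝒜 Y ha, add_sub_cancel]

theorem coadj_apply (ψ : Gf 𝒜 Y →ₗ[R] W) (y : Y) (m : ℤ) :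
    coadj 𝒜 ψ y m = ψ (gsingle 𝒜 Y m y) := rfl

end Adj

/-- **`Tw 𝒜 W` is an injective module when `W` is.** -/
theorem tw_injective (W : Type v) [AddCommGroup W] [Module R W] [hW : Module.Injective R W] :
    Module.Injective R (Tw 𝒜 W) := by
  constructor
  intro X Y _ _ _ _ f hf g
  obtain ⟨ψ, hψ⟩ := hW.out (gfMap 𝒜 f) (gfMap_injective 𝒜 f hf) (adj 𝒜 g)
  refine ⟨coadj 𝒜 ψ, fun x => ?_⟩
  apply Tw.ext
  intro m
  rw [coadj_apply, ← gfMap_single, hψ, adj_single]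

end Groth.Agent.Helper20.GrTw
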