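import Mathlib
import Groth.Agent.Lib.Helper20.GrTw4
import Groth.Agent.Lib.Helper8.LCBasic

/-!
# The short exact sequence `0 → E[t,t⁻¹] → Tw(E^(ℤ)) → Tw(E^(ℤ)) → 0` (helper20)
-/

open DirectSum

namespace Groth.Agent.Helper20.GrTw

universe u v

variable {R : Type u} [CommRing R] (𝒜 : ℤ → AddSubgroup R) [GradedRing 𝒜]
variable (E : Type v) [AddCommGroup E] [Module R E]

/-- the shift by `n` on `ℤ →₀ E`: `e t^j ↦ e t^{j-n}` -/
noncomputable def shiftL (n : ℤ) : (ℤ →₀ E) ≃ₗ[R] (ℤ →₀ E) :=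
  Finsupp.domLCongr (Equiv.subRight n)

theorem shiftL_single (n j : ℤ) (e : E) :
    shiftL (R := R) E n (Finsupp.single j e) = Finsupp.single (j - n) e := by
  unfold shiftL
  rw [Finsupp.domLCongr_single]
  rfl

theorem shiftL_zero (v : ℤ →₀ E) : shiftL (R := R) E 0 v = v := by
  induction v using Finsupp.induction_linear with
  | zero => rw [map_zero]
  | add v v' hv hv' => rw [map_add, hv, hv']
  | single j e => rw [shiftL_single, sub_zero]

theorem shiftL_shiftL (n n' : ℤ) (v : ℤ →₀ E) :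
    shiftL (R := R) E n (shiftL (R := R) E n' v) = shiftL (R := R) E (n' + n) v := by
  induction v using Finsupp.induction_linear with
  | zero => rw [map_zero, map_zero, map_zero]
  | add v v' hv hv' => rw [map_add, map_add, map_add, hv, hv']
  | single j e => rw [shiftL_single, shiftL_single, shiftL_single, sub_sub]

/-- the embedding `ι`, additively -/
noncomputable def iotaAdd : Gf 𝒜 E →+ Tw 𝒜 (ℤ →₀ E) where
  toFun y := fun n => shiftL (R := R) E n (show ℤ →₀ E from y)
  map_zero' := by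
    apply Tw.ext
    intro n
    show shiftL (R := R) E n 0 = 0
    rw [map_zero]
  map_add' y y' := by
    apply Tw.ext
    intro n
    show shiftL (R := R) E n ((show ℤ →₀ E from y) + (show ℤ →₀ E from y')) = _
    rw [map_add]
    rfl

theorem iotaAdd_single (m : ℤ) (e : E) (n : ℤ) :
    iotaAdd 𝒜 E (gsingle 𝒜 E m e) n = Finsupp.single (m - n) e := by
  show shiftL (R := R) E n (Finsupp.single m e) = _
  rw [shiftL_single]

/-- the embedding `ι : E[t,t⁻¹] → Tw(E^(ℤ))`, `ι(y)(n) = t^{-n} y` -/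
noncomputable def iota : Gf 𝒜 E →ₗ[R] Tw 𝒜 (ℤ →₀ E) where
  toFun := iotaAdd 𝒜 E
  map_add' := map_add _
  map_smul' := by
    intro a y
    rw [RingHom.id_apply]
    refine map_smul_of_homogeneous 𝒜 (iotaAdd 𝒜 E) ?_ a y
    intro k a ha y
    induction y using Gf.induction 𝒜 E with
    | h0 => rw [smul_zero, map_zero, smul_zero]
    | hadd y y' hy hy' => rw [smul_add, map_add, map_add, smul_add, hy, hy']
    | hsingle m e =>
      apply Tw.ext
      intro n
      rw [Gf.smul_single_of_mem 𝒜 E ha, Tw.smul_apply_of_mem 𝒜 _ ha, iotaAdd_single,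
        iotaAdd_single, Finsupp.smul_single]
      congr 1
      ring

theorem iota_apply (y : Gf 𝒜 E) (n : ℤ) :
    iota 𝒜 E y n = shiftL (R := R) E n (show ℤ →₀ E from y) := rfl

theorem iota_injective : Function.Injective (iota 𝒜 E) := by
  intro y y' h
  have h0 := congrFun h 0
  rw [iota_apply, iota_apply, shiftL_zero, shiftL_zero] at h0
  exact h0

/-- the map `δ(w)(n) = t⁻¹ w(n) - w(n+1)` -/
noncomputable def delta : Tw 𝒜 (ℤ →₀ E) →ₗ[R] Tw 𝒜 (ℤ →₀ E) where
  toFun w := fun n => shiftL (R := R) E 1 (w n) - w (n + 1)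
  map_add' w w' := by
    apply Tw.ext
    intro n
    rw [Tw.add_apply]
    show shiftL (R := R) E 1 (w n + w' n) - (w (n + 1) + w' (n + 1)) =
      (shiftL (R := R) E 1 (w n) - w (n + 1)) + (shiftL (R := R) E 1 (w' n) - w' (n + 1))
    rw [map_add]
    abel
  map_smul' := by
    intro a w
    rw [RingHom.id_apply]
    let φ : Tw 𝒜 (ℤ →₀ E) →+ Tw 𝒜 (ℤ →₀ E) :=
      { toFun := fun w => (fun n => shiftL (R := R) E 1 (w n) - w (n + 1) : Tw 𝒜 (ℤ →₀ E))
        map_zero' := by
          apply Tw.ext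
          intro n
          show shiftL (R := R) E 1 0 - 0 = 0
          rw [map_zero, sub_zero]
        map_add' := fun w w' => by
          apply Tw.ext
          intro n
          rw [Tw.add_apply]
          show shiftL (R := R) E 1 (w n + w' n) - (w (n + 1) + w' (n + 1)) =
            (shiftL (R := R) E 1 (w n) - w (n + 1)) + (shiftL (R := R) E 1 (w' n) - w' (n + 1))
          rw [map_add]
          abel }
    refine map_smul_of_homogeneous 𝒜 φ ?_ a w
    intro k a ha w
    apply Tw.ext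
    intro n
    rw [Tw.smul_apply_of_mem 𝒜 _ ha]
    show shiftL (R := R) E 1 ((a • w) n) - (a • w) (n + 1) =
      a • (shiftL (R := R) E 1 (w (n - k)) - w (n - k + 1))
    rw [Tw.smul_apply_of_mem 𝒜 _ ha, Tw.smul_apply_of_mem 𝒜 _ ha, map_smul, smul_sub,
      show n + 1 - k = n - k + 1 by ring]

theorem delta_apply (w : Tw 𝒜 (ℤ →₀ E)) (n : ℤ) :
    delta 𝒜 E w n = shiftL (R := R) E 1 (w n) - w (n + 1) := rfl

theorem delta_iota (y : Gf 𝒜 E) : delta 𝒜 E (iota 𝒜 E y) = 0 := by
  apply Tw.ext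
  intro n
  rw [delta_apply, iota_apply, iota_apply, shiftL_shiftL, sub_self]
  rfl

theorem shiftL_eq_of_step (w : ℤ → (ℤ →₀ E))
    (hstep : ∀ n, w (n + 1) = shiftL (R := R) E 1 (w n)) (n : ℤ) :
    shiftL (R := R) E n (w 0) = w n := by
  induction n using Int.induction_on with
  | zero => rw [shiftL_zero]
  | succ i ih =>
    rw [hstep, ← ih, shiftL_shiftL]
  | pred i ih =>
    apply (shiftL (R := R) E 1).injective
    rw [shiftL_shiftL, ← hstep, sub_add_cancel, ih]

theorem exists_iota_eq_of_delta_eq_zero (w : Tw 𝒜 (ℤ →₀ E)) (hw : delta 𝒜 E w = 0) :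
    ∃ y : Gf 𝒜 E, iota 𝒜 E y = w := by
  have hstep : ∀ n, w (n + 1) = shiftL (R := R) E 1 (w n) := by
    intro n
    have := congrFun hw n
    rw [delta_apply] at this
    exact (sub_eq_zero.1 this).symm
  refine ⟨(show Gf 𝒜 E from w 0), ?_⟩
  apply Tw.ext
  intro n
  rw [iota_apply]
  exact shiftL_eq_of_step E w hstep n

section Surj

variable (g : Tw 𝒜 (ℤ →₀ E))

/-- the solution on the nonnegative side -/
noncomputable def solPos : ℕ → (ℤ →₀ E)
  | 0 => 0
  | (n + 1) => shiftL (R := R) E 1 (solPos n) - g (n : ℤ)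

/-- the solution on the negative side -/
noncomputable def solNeg : ℕ → (ℤ →₀ E)
  | 0 => 0
  | (n + 1) => (shiftL (R := R) E 1).symm (solNeg n + g (-((n : ℤ) + 1)))

/-- the solution of `δ w = g` -/
noncomputable def sol : Tw 𝒜 (ℤ →₀ E) :=
  fun z => if 0 ≤ z then solPos 𝒜 E g z.toNat else solNeg 𝒜 E g (-z).toNat

theorem sol_natCast (n : ℕ) : sol 𝒜 E g (n : ℤ) = solPos 𝒜 E g n := by
  unfold sol
  rw [if_pos (Int.natCast_nonneg n), Int.toNat_natCast]

theorem sol_neg_natCast (n : ℕ) : sol 𝒜 E g (-(n : ℤ)) = solNeg 𝒜 E g n := by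
  rcases Nat.eq_zero_or_pos n with rfl | hn
  · rw [Nat.cast_zero, neg_zero]
    have := sol_natCast 𝒜 E g 0
    rw [Nat.cast_zero] at this
    rw [this]
    rfl
  · unfold sol
    have : ¬ (0 : ℤ) ≤ -(n : ℤ) := by
      have : (0 : ℤ) < n := by exact_mod_cast hn
      omega
    rw [if_neg this, neg_neg, Int.toNat_natCast]

theorem delta_sol : delta 𝒜 E (sol 𝒜 E g) = g := by
  apply Tw.ext
  intro z
  rw [delta_apply]
  obtain ⟨n, rfl | rfl⟩ := Int.eq_nat_or_neg z
  · have h1 : ((n : ℤ) + 1) = ((n + 1 : ℕ) : ℤ) := by push_cast; rfl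
    rw [h1, sol_natCast, sol_natCast]
    show _ - (shiftL (R := R) E 1 (solPos 𝒜 E g n) - g (n : ℤ)) = _
    abel
  · rcases Nat.eq_zero_or_pos n with rfl | hn
    · rw [Nat.cast_zero, neg_zero]
      have h0 := sol_natCast 𝒜 E g 0
      have h1 := sol_natCast 𝒜 E g 1
      rw [Nat.cast_zero] at h0
      rw [Nat.cast_one] at h1
      rw [zero_add, h0, h1]
      show shiftL (R := R) E 1 0 - (shiftL (R := R) E 1 0 - g ((0 : ℕ) : ℤ)) = _
      rw [Nat.cast_zero]
      abel
    · obtain ⟨k, rfl⟩ : ∃ k, n = k + 1 := ⟨n - 1, by omega⟩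
      have h1 : -(((k + 1 : ℕ) : ℤ)) + 1 = -((k : ℕ) : ℤ) := by push_cast; ring
      rw [h1, sol_neg_natCast, sol_neg_natCast]
      show shiftL (R := R) E 1 ((shiftL (R := R) E 1).symm
        (solNeg 𝒜 E g k + g (-((k : ℤ) + 1)))) - _ = _
      rw [LinearEquiv.apply_symm_apply]
      have h2 : -(((k + 1 : ℕ) : ℤ)) = -((k : ℤ) + 1) := by push_cast; ring
      rw [h2]
      abel

end Surj

/-- **the short exact sequence `0 → E[t,t⁻¹] → Tw(E^(ℤ)) → Tw(E^(ℤ)) → 0`** -/
theorem isSES_iota_delta {E : Type u} [AddCommGroup E] [Module R E] :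
    Groth.Agent.Helper8.LC.IsSES (iota 𝒜 E) (delta 𝒜 E) where
  inj := iota_injective 𝒜 E
  exact := by
    intro w
    constructor
    · intro hw
      obtain ⟨y, hy⟩ := exists_iota_eq_of_delta_eq_zero 𝒜 E w hw
      exact ⟨y, hy⟩
    · rintro ⟨y, rfl⟩
      exact delta_iota 𝒜 E y
  surj := fun g => ⟨sol 𝒜 E g, delta_sol 𝒜 E g⟩

end Groth.Agent.Helper20.GrTw
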