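import Mathlib
import Groth.Agent.Lib.Helper20.GrTw5
import Groth.Agent.Lib.Helper1.InjHullIndec

/-!
# A *injective module over a Noetherian `ℤ`-graded ring has injective dimension `≤ 1` (helper20)
-/

open DirectSum CategoryTheory

namespace Groth.Agent.Helper20.GrTw

universe u

variable {R : Type u} [CommRing R] (𝒜 : ℤ → AddSubgroup R) [GradedRing 𝒜]

/-- over a Noetherian ring `E^(ℤ)` is injective when `E` is -/
theorem finsupp_int_injective [IsNoetherianRing R] (E : Type u) [AddCommGroup E] [Module R E]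
    (hE : Module.Injective R E) : Module.Injective R (ℤ →₀ E) := by
  let e3 : (ℤ →₀ E) ≃ₗ[R] (ULift.{u} ℤ →₀ E) := Finsupp.domLCongr Equiv.ulift.symm
  let e4 : (ULift.{u} ℤ →₀ E) ≃ₗ[R] DirectSum (ULift.{u} ℤ) (fun _ => E) :=
    finsuppLEquivDirectSum R E (ULift.{u} ℤ)
  have h := Groth.Agent.Helper1.injective_directSum (R := R) (ι := ULift.{u} ℤ) (fun _ => E)
    (fun _ => hE)
  exact Groth.Agent.Helper1.injective_of_linearEquiv (e3.trans e4).symm h

/-- `E[t,t⁻¹]` with the twisted action has injective dimension `≤ 1` when `E` is injective -/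
theorem gf_hasInjectiveDimensionLT_two [IsNoetherianRing R] (E : Type u) [AddCommGroup E]
    [Module R E] (hE : Module.Injective R E) :
    HasInjectiveDimensionLT (ModuleCat.of R (Gf 𝒜 E)) 2 := by
  haveI : Module.Injective R (ℤ →₀ E) := finsupp_int_injective E hE
  haveI : Module.Injective R (Tw 𝒜 (ℤ →₀ E)) := tw_injective 𝒜 (ℤ →₀ E)
  haveI hinj : Injective (ModuleCat.of R (Tw 𝒜 (ℤ →₀ E))) :=
    Module.injective_object_of_injective_module R _
  have hS := (isSES_iota_delta 𝒜 (E := E)).shortExact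
  have h3 : HasInjectiveDimensionLT (isSES_iota_delta 𝒜 (E := E)).sc.X₃ 1 := by
    show HasInjectiveDimensionLT (ModuleCat.of R (Tw 𝒜 (ℤ →₀ E))) 1
    infer_instance
  have h2 : HasInjectiveDimensionLT (isSES_iota_delta 𝒜 (E := E)).sc.X₂ (1 + 1) := by
    show HasInjectiveDimensionLT (ModuleCat.of R (Tw 𝒜 (ℤ →₀ E))) (1 + 1)
    infer_instance
  exact hS.hasInjectiveDimensionLT_X₁ 1 h3 h2

/-- **A *injective graded module over a Noetherian `ℤ`-graded ring has injective dimension at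
most one as an ordinary module.** -/
theorem hasInjectiveDimensionLT_two_of_isStarInj [IsNoetherianRing R] {X : Type u}
    [AddCommGroup X] [Module R X] (ℳ : ℤ → AddSubgroup X) [DirectSum.Decomposition ℳ]
    [SetLike.GradedSMul 𝒜 ℳ] (hM : GrLC.IsStarInj 𝒜 ℳ) :
    HasInjectiveDimensionLT (ModuleCat.of R X) 2 := by
  obtain ⟨E, _, _, j, hE, hj⟩ := Groth.Agent.Helper1.exists_injective_embedding (R := R) X
  obtain ⟨h, -, hh⟩ : ∃ h : Gf 𝒜 E →ₗ[R] X, GrLC.IsGrHom (gfGr 𝒜 E) ℳ h ∧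
      h ∘ₗ eta 𝒜 ℳ j = LinearMap.id :=
    hM (GrLC.GMod.of 𝒜 X ℳ) (GrLC.GMod.of 𝒜 (Gf 𝒜 E) (gfGr 𝒜 E))
      (eta 𝒜 ℳ j) (eta_isGrHom 𝒜 ℳ j) (eta_injective 𝒜 ℳ j hj) LinearMap.id
      (fun _ _ hx => hx)
  haveI := gf_hasInjectiveDimensionLT_two 𝒜 E hE
  let r : Retract (ModuleCat.of R X) (ModuleCat.of R (Gf 𝒜 E)) :=
    { i := ModuleCat.ofHom (eta 𝒜 ℳ j)
      r := ModuleCat.ofHom h
      retract := by
        apply ModuleCat.hom_ext
        apply LinearMap.ext
        intro x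
        exact LinearMap.congr_fun hh x }
  exact r.hasInjectiveDimensionLT 2

end Groth.Agent.Helper20.GrTw
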