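import Mathlib
import Groth.Agent.Lib.Helper20.GrCanFin1
import Groth.Agent.Lib.Helper20.GrGor3
import Groth.Agent.Lib.Helper20.GrGor1
import Groth.Agent.Lib.Helper20.GrTw6
import Groth.Agent.Lib.Helper20.GrExt4

/-!
# Finite injective dimension from vanishing of Bass numbers at homogeneous primes (helper20)
-/

set_option autoImplicit false

open DirectSum IsLocalRing CategoryTheory

namespace Groth.Agent.Helper20.GrCanFin

open Groth.Agent.Helper20.GrInj Groth.Agent.Helper20.GrBass Groth.Agent.Helper8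

universe u

variable {R : Type u} [CommRing R] [IsNoetherianRing R]
variable (𝒜 : ℤ → AddSubgroup R) [GradedRing 𝒜]

section Assoc

variable {X : Type u} [AddCommGroup X] [Module R X] (𝒳 : ℤ → AddSubgroup X)
  [DirectSum.Decomposition 𝒳] [SetLike.GradedSMul 𝒜 𝒳]

include 𝒳 in
/-- a nonzero graded module has a nonzero Bass number `μ_0` at some homogeneous prime -/
theorem exists_bassNum_zero_ne_zero [Nontrivial X] :
    ∃ (p : HomogeneousIdeal 𝒜) (_ : p.toIdeal.IsPrime), GrLC.bassNum p.toIdeal X 0 ≠ 0 := by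
  obtain ⟨g, v, hv, hv0, hprime⟩ := exists_homog_annihilator_isPrime 𝒜 𝒳
  have hhom : ((Submodule.span R {v}).annihilator).IsHomogeneous 𝒜 :=
    annihilator_span_singleton_isHomogeneous 𝒜 𝒳 hv
  let p : HomogeneousIdeal 𝒜 := ⟨_, hhom⟩
  haveI hp : p.toIdeal.IsPrime := hprime
  refine ⟨p, hp, ?_⟩
  have hann : ∀ r : R, r • v = 0 ↔ r ∈ p.toIdeal := by
    intro r
    exact (Submodule.mem_annihilator_span_singleton v r).symm
  obtain ⟨h1, h2⟩ := mk_mem_socle_of_ann 𝒜 p hann
  rw [bassNum_zero, Ne, Module.length_eq_zero_iff]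
  intro hsub
  apply h2
  have := hsub.elim (⟨_, h1⟩ : socle (Localization.AtPrime p.toIdeal)
    (LocalizedModule p.toIdeal.primeCompl X)) 0
  exact congrArg Subtype.val this

end Assoc

section Res

variable {M : Type u} [AddCommGroup M] [Module R M] (ℳ : ℤ → AddSubgroup M)
  [DirectSum.Decomposition ℳ] [SetLike.GradedSMul 𝒜 ℳ]

/-- if all Bass numbers `μ_j(p, M)` at homogeneous primes vanish then the `j`-th term of the
minimal *injective resolution vanishes -/
theorem minRes_X_subsingleton (j : ℕ)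
    (h : ∀ (p : HomogeneousIdeal 𝒜) [p.toIdeal.IsPrime], GrLC.bassNum p.toIdeal M j = 0) :
    Subsingleton ((minRes 𝒜 ℳ).X j).carrier := by
  by_contra hns
  rw [not_subsingleton_iff_nontrivial] at hns
  obtain ⟨p, hp, hne⟩ := exists_bassNum_zero_ne_zero 𝒜 ((minRes 𝒜 ℳ).X j).gr
  apply hne
  rw [← bassNum_eq_bassNum_zero_X (minRes 𝒜 ℳ) (minRes_min0 𝒜 ℳ) (minRes_min 𝒜 ℳ) p j]
  exact h p

variable {𝒜 ℳ}

/-- climbing down the cocycles of a *injective resolution -/
theorem hasInjectiveDimensionLT_ZZ_zero (E : GrLC.StarInjRes 𝒜 ℳ) :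
    ∀ (j t : ℕ), 1 ≤ t → HasInjectiveDimensionLT (ModuleCat.of R ↥(ZZ E j)) t →
      HasInjectiveDimensionLT (ModuleCat.of R ↥(ZZ E 0)) (t + j) := by
  intro j
  induction j with
  | zero => intro t _ h; exact h
  | succ j ih =>
    intro t ht h
    have hS := (isSES_dZ E j).shortExact
    have h2 : HasInjectiveDimensionLT (isSES_dZ E j).sc.X₂ (t + 1) := by
      show HasInjectiveDimensionLT (ModuleCat.of R (E.X j).carrier) (t + 1)
      haveI := Groth.Agent.Helper20.GrTw.hasInjectiveDimensionLT_two_of_isStarInj 𝒜 (E.X j).gr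
        (E.starInj j)
      exact hasInjectiveDimensionLT_of_ge _ 2 (t + 1) (by omega)
    have h1 := hS.hasInjectiveDimensionLT_X₁ t h h2
    have := ih (t + 1) (by omega) h1
    have e : t + 1 + j = t + (j + 1) := by omega
    rw [e] at this
    exact this

/-- if the term `X^{n+1}` of a *injective resolution of `M` vanishes then `M` has injective
dimension at most `n + 1` -/
theorem hasInjectiveDimensionLT_of_X_subsingleton (E : GrLC.StarInjRes 𝒜 ℳ) (n : ℕ)
    (h : Subsingleton (E.X (n + 1)).carrier) :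
    HasInjectiveDimensionLT (ModuleCat.of R M) (n + 2) := by
  have h0 : HasInjectiveDimensionLT (ModuleCat.of R ↥(ZZ E (n + 1))) 1 := by
    haveI : Subsingleton ↥(ZZ E (n + 1)) :=
      ⟨fun a b => Subtype.ext (Subsingleton.elim _ _)⟩
    have hz : Limits.IsZero (ModuleCat.of R ↥(ZZ E (n + 1))) :=
      ModuleCat.isZero_of_subsingleton _
    haveI := hz.hasInjectiveDimensionLT_zero
    exact hasInjectiveDimensionLT_of_ge _ 0 1 (by omega)
  have h1 := hasInjectiveDimensionLT_ZZ_zero E (n + 1) 1 le_rfl h0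
  have e : 1 + (n + 1) = n + 2 := by omega
  rw [e] at h1
  let i : ModuleCat.of R ↥(ZZ E 0) ≅ ModuleCat.of R M := (equivZs E).symm.toModuleIso
  haveI := h1
  exact hasInjectiveDimensionLT_of_iso i (n + 2)

end Res

end Groth.Agent.Helper20.GrCanFin
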