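import Mathlib
import Groth.Agent.Lib.Helper20.GrCanFin2
import Groth.Agent.Lib.Helper20.GrLocHull4
import Groth.Agent.Lib.Helper20.GrHt4
import Groth.Agent.Lib.Helper8.Canon10

/-!
# A *canonical module is Cohen–Macaulay at the *maximal ideal and has finite injective dimension
(helper20)
-/

set_option autoImplicit false

open DirectSum IsLocalRing CategoryTheory

namespace Groth.Agent.Helper20.GrCanFin

open Groth.Agent.Helper20.GrInj Groth.Agent.Helper20.GrBass Groth.Agent.Helper8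
  Groth.Agent.Helper20.GrLocHull

universe u

theorem starCanonical_cm_and_finite_injdim (R : Type u) [CommRing R]
    [LocCoh.IsCohenMacaulayRing R] (𝒜 : ℤ → AddSubgroup R) [GradedRing 𝒜]
    (m : HomogeneousIdeal 𝒜) (hm : GrLC.IsStarLocal 𝒜 m) [hmax : m.toIdeal.IsMaximal] (n : ℕ)
    (hn : ringKrullDim R = n) (I : GrLC.StarInjRes 𝒜 𝒜) (E' : Type u) [AddCommGroup E']
    [Module R E'] (𝓔 : ℤ → AddSubgroup E') [DirectSum.Decomposition 𝓔]
    [SetLike.GradedSMul 𝒜 𝓔] (e : (R ⧸ m.toIdeal) →ₗ[R] E')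
    (he : GrLC.IsStarInjHull 𝒜 (GrLC.quotGr 𝒜 m) 𝓔 e) (C : Type u) [AddCommGroup C]
    [Module R C] (𝒞 : ℤ → AddSubgroup C) [DirectSum.Decomposition 𝒞]
    [SetLike.GradedSMul 𝒜 𝒞] (hC : GrLC.IsStarCanonical 𝒜 𝒞 𝓔 m n I) :
    LocCoh.IsCohenMacaulayModule (Localization.AtPrime m.toIdeal)
        (LocalizedModule m.toIdeal.primeCompl C) ∧
      ∃ N : ℕ, CategoryTheory.HasInjectiveDimensionLT (ModuleCat.of R C) N := by
  haveI hmp : m.toIdeal.IsPrime := hmax.isPrime
  haveI hCMloc : LocCoh.IsCohenMacaulayLocalRing (Localization.AtPrime m.toIdeal) :=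
    LocCoh.IsCohenMacaulayRing.isCohenMacaulayLocalRing_localization m.toIdeal
  have hdim : ringKrullDim (Localization.AtPrime m.toIdeal) = n := by
    rw [IsLocalization.AtPrime.ringKrullDim_eq_height m.toIdeal (Localization.AtPrime m.toIdeal),
      ← ringKrullDim_eq_height_of_isStarLocal m hm hmax, hn]
  obtain ⟨E₀, _, _, f, hf⟩ := Groth.Agent.Helper1.exists_injectiveHull
    (R := Localization.AtPrime m.toIdeal) (ResidueField (Localization.AtPrime m.toIdeal))
  obtain ⟨eK⟩ := nonempty_hom_localized_equiv_H 𝒜 m 𝓔 n I e he C 𝒞 hC E₀ f hf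
  haveI : Module.Finite R C := hC.1
  refine ⟨Canon.isCohenMacaulayModule_canon hdim hf eK, n + 2, ?_⟩
  haveI hinj : HasInjectiveDimensionLT (ModuleCat.of (Localization.AtPrime m.toIdeal)
      (LocalizedModule m.toIdeal.primeCompl C)) (n + 1) :=
    Canon.hasInjectiveDimensionLT_canon hdim hf eK
  have hbass : ∀ (p : HomogeneousIdeal 𝒜) [p.toIdeal.IsPrime],
      GrLC.bassNum p.toIdeal C (n + 1) = 0 := by
    intro p hp
    have hle : p.toIdeal ≤ m.toIdeal := le_of_isStarLocal m hm p (fun h => hp.ne_top (by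
      rw [h, HomogeneousIdeal.toIdeal_top]))
    exact bassNum_eq_zero_of_le p.toIdeal m.toIdeal hle C (n + 1)
      (fun Y => HasInjectiveDimensionLT.subsingleton _ (n + 1) (n + 1) le_rfl Y)
  have hsub := minRes_X_subsingleton 𝒜 𝒞 (n + 1) hbass
  exact hasInjectiveDimensionLT_of_X_subsingleton (minRes 𝒜 𝒞) n hsub

end Groth.Agent.Helper20.GrCanFin
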