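import Mathlib
import Groth.Agent.Lib.Helper20.GrCx8

/-!
# Additive structure on chain maps of *injective resolutions (helper20)
-/

open DirectSum

namespace Groth.Agent.Helper20.GrInj

universe u

variable {ι : Type} [AddCommGroup ι] [DecidableEq ι]
variable {R : Type u} [CommRing R]
variable {σ : Type u} [SetLike σ R] [AddSubgroupClass σ R] {𝒜 : ι → σ} [GradedRing 𝒜]
variable {M : Type u} [AddCommGroup M] [Module R M] {ℳ : ι → AddSubgroup M}
  [DirectSum.Decomposition ℳ] [SetLike.GradedSMul 𝒜 ℳ]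
variable {N : Type u} [AddCommGroup N] [Module R N] {𝒩 : ι → AddSubgroup N}
  [DirectSum.Decomposition 𝒩] [SetLike.GradedSMul 𝒜 𝒩]
variable {L : Type u} [AddCommGroup L] [Module R L] {𝓛 : ι → AddSubgroup L}
  [DirectSum.Decomposition 𝓛] [SetLike.GradedSMul 𝒜 𝓛]

namespace ChMap

variable {E : GrLC.StarInjRes 𝒜 ℳ} {F : GrLC.StarInjRes 𝒜 𝒩} {G : GrLC.StarInjRes 𝒜 𝓛}

/-- the zero chain map -/
def zero (E : GrLC.StarInjRes 𝒜 ℳ) (F : GrLC.StarInjRes 𝒜 𝒩) : ChMap E F where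
  f := fun _ => 0
  comm := fun n x => by rw [LinearMap.zero_apply, LinearMap.zero_apply, map_zero]

/-- the sum of two chain maps -/
def add (c c' : ChMap E F) : ChMap E F where
  f := fun n => c.f n + c'.f n
  comm := fun n x => by
    rw [LinearMap.add_apply, LinearMap.add_apply, map_add, c.comm, c'.comm]

theorem zero_isGr : (ChMap.zero E F).IsGr := fun _ _ _ _ => zero_mem _

theorem zero_lifts : (ChMap.zero E F).Lifts (0 : M →ₗ[R] N) := fun m => by
  show (0 : (E.X 0).carrier →ₗ[R] (F.X 0).carrier) (E.ε m) = F.ε ((0 : M →ₗ[R] N) m)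
  rw [LinearMap.zero_apply, LinearMap.zero_apply, map_zero]

theorem add_isGr {c c' : ChMap E F} (h : c.IsGr) (h' : c'.IsGr) : (c.add c').IsGr :=
  fun n g x hx => add_mem (h n g x hx) (h' n g x hx)

theorem add_lifts {c c' : ChMap E F} {φ φ' : M →ₗ[R] N} (h : c.Lifts φ) (h' : c'.Lifts φ') :
    (c.add c').Lifts (φ + φ') := fun m => by
  show (c.f 0 + c'.f 0) (E.ε m) = F.ε ((φ + φ') m)
  rw [LinearMap.add_apply, LinearMap.add_apply, h m, h' m, map_add]

theorem Hmap_zero (a : HomogeneousIdeal 𝒜) (i : ℕ) (x : E.H a i) :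
    (ChMap.zero E F).Hmap a i x = 0 := by
  obtain ⟨z, rfl⟩ := toH_surjective E a i x
  rw [Hmap_toH]
  have : (ChMap.zero E F).cocycMap a i z = 0 := Subtype.ext rfl
  rw [this, map_zero]

theorem Hmap_add (c c' : ChMap E F) (a : HomogeneousIdeal 𝒜) (i : ℕ) (x : E.H a i) :
    (c.add c').Hmap a i x = c.Hmap a i x + c'.Hmap a i x := by
  obtain ⟨z, rfl⟩ := toH_surjective E a i x
  rw [Hmap_toH, Hmap_toH, Hmap_toH, ← map_add]
  congr 1

end ChMap

/-- functoriality on cohomology for arbitrary homogeneous lifts -/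
theorem Hmap_comp_of_lifts {E : GrLC.StarInjRes 𝒜 ℳ} {F : GrLC.StarInjRes 𝒜 𝒩}
    {G : GrLC.StarInjRes 𝒜 𝓛} {φ : M →ₗ[R] N} {ψ : N →ₗ[R] L} {χ : M →ₗ[R] L}
    (hχ : χ = ψ ∘ₗ φ)
    (c : ChMap E F) (hc : c.IsGr) (hl : c.Lifts φ) (c' : ChMap F G) (hc' : c'.IsGr)
    (hl' : c'.Lifts ψ) (c'' : ChMap E G) (hc'' : c''.IsGr) (hl'' : c''.Lifts χ)
    (a : HomogeneousIdeal 𝒜) (i : ℕ) (x : E.H a i) :
    c''.Hmap a i x = c'.Hmap a i (c.Hmap a i x) := by
  rw [← ChMap.Hmap_comp]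
  subst hχ
  exact Hmap_eq_of_lifts c'' (c'.comp c) hc'' (ChMap.comp_isGr hc' hc) (ψ ∘ₗ φ) hl''
    (ChMap.comp_lifts hl' hl) a i x

/-- a homogeneous lift of the identity of a resolution to itself is the identity on cohomology -/
theorem Hmap_eq_self_of_lifts_id {E : GrLC.StarInjRes 𝒜 ℳ} (c : ChMap E E) (hc : c.IsGr)
    (hl : c.Lifts LinearMap.id) (a : HomogeneousIdeal 𝒜) (i : ℕ) (x : E.H a i) :
    c.Hmap a i x = x := by
  rw [Hmap_eq_of_lifts c (ChMap.id E) hc (ChMap.id_isGr E) LinearMap.id hl (ChMap.id_lifts E) a i x,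
    ChMap.Hmap_id]

/-- a homogeneous lift of the zero map is zero on cohomology -/
theorem Hmap_eq_zero_of_lifts_zero {E : GrLC.StarInjRes 𝒜 ℳ} {F : GrLC.StarInjRes 𝒜 𝒩}
    (c : ChMap E F) (hc : c.IsGr) (hl : c.Lifts (0 : M →ₗ[R] N)) (a : HomogeneousIdeal 𝒜) (i : ℕ)
    (x : E.H a i) : c.Hmap a i x = 0 := by
  rw [Hmap_eq_of_lifts c (ChMap.zero E F) hc ChMap.zero_isGr 0 hl ChMap.zero_lifts a i x,
    ChMap.Hmap_zero]

/-- the cohomology of a resolution of a module on which the identity is zero vanishes -/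
theorem H_subsingleton_of_subsingleton [Subsingleton M] (E : GrLC.StarInjRes 𝒜 ℳ)
    (a : HomogeneousIdeal 𝒜) (i : ℕ) : Subsingleton (E.H a i) := by
  constructor
  intro x y
  have h0 : (LinearMap.id : M →ₗ[R] M) = 0 := by
    ext m
    exact Subsingleton.elim _ _
  have hid : (ChMap.id E).Lifts (0 : M →ₗ[R] M) := by
    rw [← h0]
    exact ChMap.id_lifts E
  have hx := Hmap_eq_zero_of_lifts_zero (ChMap.id E) (ChMap.id_isGr E) hid a i x
  have hy := Hmap_eq_zero_of_lifts_zero (ChMap.id E) (ChMap.id_isGr E) hid a i y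
  rw [ChMap.Hmap_id] at hx hy
  rw [hx, hy]

end Groth.Agent.Helper20.GrInj
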