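import Mathlib
import Groth.Agent.Lib.Helper20.GrCup1

/-!
# Multiplication maps `H^i_a(R) → H^i_a(M)` induced by homogeneous elements of `M` (helper20)
-/

open DirectSum

namespace Groth.Agent.Helper20.GrInj

universe u

variable {ι : Type} [AddCommGroup ι] [DecidableEq ι]
variable {R : Type u} [CommRing R] {𝒜 : ι → AddSubgroup R} [GradedRing 𝒜]
variable {M : Type u} [AddCommGroup M] [Module R M] {ℳ : ι → AddSubgroup M}
  [DirectSum.Decomposition ℳ] [SetLike.GradedSMul 𝒜 ℳ]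
variable {N : Type u} [AddCommGroup N] [Module R N] {𝒩 : ι → AddSubgroup N}
  [DirectSum.Decomposition 𝒩] [SetLike.GradedSMul 𝒜 𝒩]

omit [DecidableEq ι] [DirectSum.Decomposition ℳ] in
/-- `r ↦ r • x` is homogeneous `R(-j) → M` for `x` of degree `j` -/
theorem toSpanSingleton_isGrHom {j : ι} {x : M} (hx : x ∈ ℳ j) :
    GrLC.IsGrHom (shiftGr 𝒜 (-j)) ℳ (LinearMap.toSpanSingleton R M x) := by
  intro l r hr
  have := SetLike.GradedSMul.smul_mem (A := 𝒜) (B := ℳ) hr hx
  rw [vadd_eq_add, neg_add_cancel_right] at this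
  exact this

variable (I : GrLC.StarInjRes 𝒜 𝒜) (EM : GrLC.StarInjRes 𝒜 ℳ) (EN : GrLC.StarInjRes 𝒜 𝒩)
  (a : HomogeneousIdeal 𝒜) (i : ℕ)

/-- the map `H^i_a(R) → H^i_a(M)` induced by `r ↦ r • x`, for `x` homogeneous of degree `j` -/
noncomputable def cupH (j : ι) (x : M) (hx : x ∈ ℳ j) : I.H a i →ₗ[R] EM.H a i :=
  (liftCh (resShift I (-j)) EM (LinearMap.toSpanSingleton R M x)
    (toSpanSingleton_isGrHom hx)).Hmap a i

/-- `cupH` is computed by any homogeneous lift -/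
theorem cupH_eq_of_lifts {j : ι} {x : M} (hx : x ∈ ℳ j) (c : ChMap (resShift I (-j)) EM)
    (hc : c.IsGr) (hl : c.Lifts (LinearMap.toSpanSingleton R M x)) (ξ : I.H a i) :
    cupH I EM a i j x hx ξ = c.Hmap a i ξ :=
  Hmap_eq_of_lifts _ c (liftCh_isGr _ _ _ _) hc (LinearMap.toSpanSingleton R M x)
    (liftCh_lifts _ _ _ _) hl a i ξ

theorem cupH_zero (j : ι) (ξ : I.H a i) : cupH I EM a i j 0 (zero_mem _) ξ = 0 := by
  have hl : (ChMap.zero (resShift I (-j)) EM).Lifts (LinearMap.toSpanSingleton R M 0) := by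
    have : LinearMap.toSpanSingleton R M 0 = 0 := by
      ext
      simp
    rw [this]
    exact ChMap.zero_lifts
  rw [cupH_eq_of_lifts I EM a i (zero_mem _) _ ChMap.zero_isGr hl]
  exact ChMap.Hmap_zero a i ξ

theorem cupH_add {j : ι} {x y : M} (hx : x ∈ ℳ j) (hy : y ∈ ℳ j) (ξ : I.H a i) :
    cupH I EM a i j (x + y) (add_mem hx hy) ξ =
      cupH I EM a i j x hx ξ + cupH I EM a i j y hy ξ := by
  let cx := liftCh (resShift I (-j)) EM (LinearMap.toSpanSingleton R M x)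
    (toSpanSingleton_isGrHom hx)
  let cy := liftCh (resShift I (-j)) EM (LinearMap.toSpanSingleton R M y)
    (toSpanSingleton_isGrHom hy)
  have hl : (cx.add cy).Lifts (LinearMap.toSpanSingleton R M (x + y)) := by
    have : LinearMap.toSpanSingleton R M (x + y) =
        LinearMap.toSpanSingleton R M x + LinearMap.toSpanSingleton R M y := by
      ext
      simp
    rw [this]
    exact ChMap.add_lifts (liftCh_lifts _ _ _ _) (liftCh_lifts _ _ _ _)
  rw [cupH_eq_of_lifts I EM a i (add_mem hx hy) (cx.add cy)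
    (ChMap.add_isGr (liftCh_isGr _ _ _ _) (liftCh_isGr _ _ _ _)) hl]
  exact ChMap.Hmap_add cx cy a i ξ

/-- precomposition of a chain map out of a shift of `I` with the multiplication by `r` -/
noncomputable def smulPre {j : ι} (c : ChMap (resShift I (-j)) EM) (e : ι) (r : R) :
    ChMap (resShift I (-(e + j))) EM where
  f := fun n => (c.f n) ∘ₗ (LinearMap.lsmul R (I.X n).carrier r)
  comm := fun n y => by
    show EM.d n (c.f n (r • y)) = c.f (n + 1) (r • I.d n y)
    rw [c.comm, ← map_smul]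
    rfl

theorem smulPre_isGr {j : ι} {c : ChMap (resShift I (-j)) EM} (hc : c.IsGr) {e : ι} {r : R}
    (hr : r ∈ 𝒜 e) : (smulPre I EM c e r).IsGr := by
  intro n l y hy
  apply hc n l
  have hy' : y ∈ (I.X n).gr (l + -(e + j)) := hy
  have := (I.X n).gsmul.smul_mem hr hy'
  rw [vadd_eq_add] at this
  have e1 : e + (l + -(e + j)) = l + -j := by abel
  rw [e1] at this
  exact this

theorem smulPre_lifts {j : ι} {c : ChMap (resShift I (-j)) EM} {x : M}
    (hl : c.Lifts (LinearMap.toSpanSingleton R M x)) (e : ι) (r : R) :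
    (smulPre I EM c e r).Lifts (LinearMap.toSpanSingleton R M (r • x)) := by
  intro s
  show c.f 0 (r • I.ε s) = EM.ε (LinearMap.toSpanSingleton R M (r • x) s)
  rw [← map_smul]
  have := hl (r • s)
  have h2 : c.f 0 (I.ε (r • s)) = EM.ε (LinearMap.toSpanSingleton R M x (r • s)) := this
  rw [h2, LinearMap.toSpanSingleton_apply, LinearMap.toSpanSingleton_apply, smul_eq_mul,
    mul_comm, mul_smul]

theorem smulPre_Hmap {j : ι} (c : ChMap (resShift I (-j)) EM) (e : ι) (r : R) (ξ : I.H a i) :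
    (smulPre I EM c e r).Hmap a i ξ = c.Hmap a i (r • ξ) := by
  obtain ⟨z, rfl⟩ := ChMap.toH_surjective I a i ξ
  have h1 : r • I.toH a i z = I.toH a i (r • z) := (map_smul _ _ _).symm
  rw [h1]
  rfl

theorem cupH_smul {e j : ι} {r : R} (hr : r ∈ 𝒜 e) {x : M} (hx : x ∈ ℳ j) (hrx : r • x ∈ ℳ (e + j))
    (ξ : I.H a i) : cupH I EM a i (e + j) (r • x) hrx ξ = cupH I EM a i j x hx (r • ξ) := by
  rw [cupH_eq_of_lifts I EM a i hrx (smulPre I EM _ e r)
    (smulPre_isGr I EM (liftCh_isGr _ _ _ (toSpanSingleton_isGrHom hx)) hr)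
    (smulPre_lifts I EM (liftCh_lifts _ _ _ (toSpanSingleton_isGrHom hx)) e r), smulPre_Hmap]
  rfl

/-- naturality -/
theorem cupH_natural {φ : M →ₗ[R] N} (hφ : GrLC.IsGrHom ℳ 𝒩 φ) (cφ : ChMap EM EN) (hc : cφ.IsGr)
    (hl : cφ.Lifts φ) {j : ι} {x : M} (hx : x ∈ ℳ j) (ξ : I.H a i) :
    cφ.Hmap a i (cupH I EM a i j x hx ξ) = cupH I EN a i j (φ x) (hφ j x hx) ξ := by
  let cx := liftCh (resShift I (-j)) EM (LinearMap.toSpanSingleton R M x)
    (toSpanSingleton_isGrHom hx)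
  have hl' : (cφ.comp cx).Lifts (LinearMap.toSpanSingleton R N (φ x)) := by
    have : LinearMap.toSpanSingleton R N (φ x) = φ ∘ₗ LinearMap.toSpanSingleton R M x := by
      ext
      simp
    rw [this]
    exact ChMap.comp_lifts hl (liftCh_lifts _ _ _ _)
  rw [cupH_eq_of_lifts I EN a i (hφ j x hx) (cφ.comp cx)
    (ChMap.comp_isGr hc (liftCh_isGr _ _ _ _)) hl', ChMap.Hmap_comp]
  rfl

/-- `cupH` is homogeneous of degree `j` -/
theorem cupH_mem {j : ι} {x : M} (hx : x ∈ ℳ j) {l : ι} {ξ : I.H a i} (hξ : ξ ∈ I.Hgr a i l) :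
    cupH I EM a i j x hx ξ ∈ EM.Hgr a i (l + j) := by
  apply ChMap.Hmap_isGr (liftCh_isGr (resShift I (-j)) EM _ (toSpanSingleton_isGrHom hx)) a i (l + j)
  show ξ ∈ I.Hcomp a i (l + j + -j)
  rw [add_neg_cancel_right]
  exact hξ

end Groth.Agent.Helper20.GrInj
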