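import Mathlib
import Groth.Agent.Lib.Helper20.GrCup2

/-!
# The multiplication map `M ⊗ H^i_a(R) → H^i_a(M)` (helper20)
-/

open DirectSum TensorProduct

namespace Groth.Agent.Helper20.GrInj

universe u

variable {ι : Type} [AddCommGroup ι] [DecidableEq ι]
variable {R : Type u} [CommRing R] {𝒜 : ι → AddSubgroup R} [GradedRing 𝒜]
variable {M : Type u} [AddCommGroup M] [Module R M] {ℳ : ι → AddSubgroup M}
  [DirectSum.Decomposition ℳ] [SetLike.GradedSMul 𝒜 ℳ]
variable {N : Type u} [AddCommGroup N] [Module R N] {𝒩 : ι → AddSubgroup N}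
  [DirectSum.Decomposition 𝒩] [SetLike.GradedSMul 𝒜 𝒩]
variable (I : GrLC.StarInjRes 𝒜 𝒜) (EM : GrLC.StarInjRes 𝒜 ℳ) (EN : GrLC.StarInjRes 𝒜 𝒩)
  (a : HomogeneousIdeal 𝒜) (i : ℕ)

/-- `cupH` on the piece of degree `j`, as an additive map -/
noncomputable def cupHom (j : ι) : ↥(ℳ j) →+ (I.H a i →ₗ[R] EM.H a i) where
  toFun := fun x => cupH I EM a i j x x.2
  map_zero' := by
    apply LinearMap.ext
    intro ξ
    exact cupH_zero I EM a i j ξ
  map_add' := by
    intro x y
    apply LinearMap.ext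
    intro ξ
    exact cupH_add I EM a i x.2 y.2 ξ

/-- the multiplication map, additive in the element of `M` -/
noncomputable def cupAdd : M →+ (I.H a i →ₗ[R] EM.H a i) :=
  (DirectSum.toAddMonoid (fun j : ι => cupHom I EM a i j)).comp
    (decomposeAddEquiv ℳ).toAddMonoidHom

theorem cupAdd_of_mem {j : ι} {x : M} (hx : x ∈ ℳ j) :
    cupAdd I EM a i x = cupH I EM a i j x hx := by
  unfold cupAdd
  rw [AddMonoidHom.comp_apply]
  have : (decomposeAddEquiv ℳ).toAddMonoidHom x = DirectSum.of (fun i => ↥(ℳ i)) j ⟨x, hx⟩ :=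
    decompose_of_mem ℳ hx
  rw [this, DirectSum.toAddMonoid_of]
  rfl

theorem cupAdd_smul (r : R) (x : M) (ξ : I.H a i) :
    cupAdd I EM a i (r • x) ξ = cupAdd I EM a i x (r • ξ) := by
  induction x using DirectSum.Decomposition.inductionOn ℳ with
  | zero => rw [smul_zero, map_zero, LinearMap.zero_apply, LinearMap.zero_apply]
  | @homogeneous j x =>
    induction r using DirectSum.Decomposition.inductionOn 𝒜 with
    | zero => rw [zero_smul, map_zero, LinearMap.zero_apply, zero_smul, map_zero]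
    | @homogeneous e r =>
      have hrx : (r : R) • (x : M) ∈ ℳ (e + j) := by
        have := SetLike.GradedSMul.smul_mem (A := 𝒜) (B := ℳ) r.2 x.2
        rwa [vadd_eq_add] at this
      rw [cupAdd_of_mem I EM a i hrx, cupAdd_of_mem I EM a i x.2]
      exact cupH_smul I EM a i r.2 x.2 hrx ξ
    | add r r' hr hr' =>
      rw [add_smul, map_add, LinearMap.add_apply, hr, hr', add_smul, map_add]
  | add x y hx hy =>
    rw [smul_add, map_add, LinearMap.add_apply, hx, hy, map_add, LinearMap.add_apply]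

/-- the multiplication map as a bilinear map -/
noncomputable def cupLin : M →ₗ[R] I.H a i →ₗ[R] EM.H a i where
  toFun := cupAdd I EM a i
  map_add' := map_add _
  map_smul' := by
    intro r x
    apply LinearMap.ext
    intro ξ
    rw [RingHom.id_apply, LinearMap.smul_apply, cupAdd_smul, map_smul]

/-- **the multiplication map** `M ⊗_R H^i_a(R) → H^i_a(M)` -/
noncomputable def cupT : M ⊗[R] I.H a i →ₗ[R] EM.H a i :=
  TensorProduct.lift (cupLin I EM a i)

theorem cupT_tmul (x : M) (ξ : I.H a i) : cupT I EM a i (x ⊗ₜ[R] ξ) = cupAdd I EM a i x ξ := rfl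

theorem cupT_tmul_of_mem {j : ι} {x : M} (hx : x ∈ ℳ j) (ξ : I.H a i) :
    cupT I EM a i (x ⊗ₜ[R] ξ) = cupH I EM a i j x hx ξ := by
  rw [cupT_tmul, cupAdd_of_mem I EM a i hx]

/-- naturality of the multiplication map -/
theorem cupT_natural {φ : M →ₗ[R] N} (hφ : GrLC.IsGrHom ℳ 𝒩 φ) (cφ : ChMap EM EN) (hc : cφ.IsGr)
    (hl : cφ.Lifts φ) (t : M ⊗[R] I.H a i) :
    cφ.Hmap a i (cupT I EM a i t) = cupT I EN a i (φ.rTensor (I.H a i) t) := by
  induction t using TensorProduct.induction_on with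
  | zero => rw [map_zero, map_zero, map_zero, map_zero]
  | tmul x ξ =>
    rw [LinearMap.rTensor_tmul]
    induction x using DirectSum.Decomposition.inductionOn ℳ with
    | zero => rw [TensorProduct.zero_tmul, map_zero, map_zero, map_zero, TensorProduct.zero_tmul,
        map_zero]
    | @homogeneous j x =>
      rw [cupT_tmul_of_mem I EM a i x.2, cupT_tmul_of_mem I EN a i (hφ j x x.2)]
      exact cupH_natural I EM EN a i hφ cφ hc hl x.2 ξ
    | add x y hx hy =>
      rw [TensorProduct.add_tmul, map_add, map_add, hx, hy, map_add, TensorProduct.add_tmul,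
        map_add]
  | add s t hs ht => rw [map_add, map_add, hs, ht, map_add, map_add]

/-- the multiplication map is homogeneous -/
theorem cupT_tmul_mem {j l : ι} {x : M} (hx : x ∈ ℳ j) {ξ : I.H a i} (hξ : ξ ∈ I.Hgr a i l) :
    cupT I EM a i (x ⊗ₜ[R] ξ) ∈ EM.Hgr a i (l + j) := by
  rw [cupT_tmul_of_mem I EM a i hx]
  exact cupH_mem I EM a i hx hξ

end Groth.Agent.Helper20.GrInj
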