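import Mathlib
import Groth.Agent.Lib.Helper20.GrCup3
import Groth.Agent.Lib.Helper20.GrCoind4

/-!
# The multiplication map `M ⊗ H^i_a(R) → H^i_a(M)` is bijective for free graded modules (helper20)
-/

open DirectSum TensorProduct

namespace Groth.Agent.Helper20.GrInj

universe u

variable {ι : Type} [AddCommGroup ι] [DecidableEq ι]
variable {R : Type u} [CommRing R] {𝒜 : ι → AddSubgroup R} [GradedRing 𝒜]
variable {M : Type u} [AddCommGroup M] [Module R M] {ℳ : ι → AddSubgroup M}
  [DirectSum.Decomposition ℳ] [SetLike.GradedSMul 𝒜 ℳ]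
variable {N : Type u} [AddCommGroup N] [Module R N] {𝒩 : ι → AddSubgroup N}
  [DirectSum.Decomposition 𝒩] [SetLike.GradedSMul 𝒜 𝒩]
variable (I : GrLC.StarInjRes 𝒜 𝒜) (a : HomogeneousIdeal 𝒜) (i : ℕ)

/-- the multiplication map of a graded module is bijective, for every resolution -/
def CupBij (Y : GrLC.GMod.{u} 𝒜) : Prop :=
  ∀ E : GrLC.StarInjRes 𝒜 Y.gr, Function.Bijective (cupT I E a i)

/-- the multiplication map of a graded module is surjective, for every resolution -/
def CupSurj (Y : GrLC.GMod.{u} 𝒜) : Prop :=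
  ∀ E : GrLC.StarInjRes 𝒜 Y.gr, Function.Surjective (cupT I E a i)

/-- comparison of the multiplication maps of two resolutions -/
theorem cupT_compare (E E' : GrLC.StarInjRes 𝒜 ℳ) :
    ∃ ψ : E.H a i →ₗ[R] E'.H a i, Function.Bijective ψ ∧
      ∀ t, ψ (cupT I E a i t) = cupT I E' a i t := by
  have hid : GrLC.IsGrHom ℳ ℳ (LinearMap.id : M →ₗ[R] M) := fun _ _ h => h
  let c := liftCh E E' LinearMap.id hid
  have hc : c.IsGr := liftCh_isGr E E' _ hid
  have hl : c.Lifts LinearMap.id := liftCh_lifts E E' _ hid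
  refine ⟨c.Hmap a i, Hmap_bijective_of_equiv E E' (LinearEquiv.refl R M) hid c hc hl a i, ?_⟩
  intro t
  rw [cupT_natural I E E' a i hid c hc hl t, LinearMap.rTensor_id, LinearMap.id_apply]

theorem bijective_of_bijective (E E' : GrLC.StarInjRes 𝒜 ℳ)
    (h : Function.Bijective (cupT I E a i)) : Function.Bijective (cupT I E' a i) := by
  obtain ⟨ψ, hψ, hc⟩ := cupT_compare I a i E E'
  have : (cupT I E' a i : M ⊗[R] I.H a i → E'.H a i) = ψ ∘ (cupT I E a i) := by
    ext t
    exact (hc t).symm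
  rw [this]
  exact hψ.comp h

section Base

/-- the graded module `R(-d)` -/
noncomputable def freeSh (d : ι) : GrLC.GMod.{u} 𝒜 := GrLC.GMod.of 𝒜 R (shiftGr 𝒜 (-d))

theorem cupT_resShift (d : ι) (s : R) (ξ : I.H a i) :
    cupT I (resShift I (-d)) a i (s ⊗ₜ[R] ξ) = s • ξ := by
  have h1 : (1 : R) ∈ shiftGr 𝒜 (-d) d := by
    show (1 : R) ∈ 𝒜 (d + -d)
    rw [add_neg_cancel]
    exact SetLike.GradedOne.one_mem
  have h2 : s ⊗ₜ[R] ξ = (1 : R) ⊗ₜ[R] (s • ξ) := by
    rw [← TensorProduct.smul_tmul, smul_eq_mul, mul_one]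
  rw [h2, cupT_tmul_of_mem I (resShift I (-d)) a i h1]
  have hl : (ChMap.id (resShift I (-d))).Lifts (LinearMap.toSpanSingleton R R 1) := by
    have : LinearMap.toSpanSingleton R R 1 = LinearMap.id := by
      ext
      simp
    rw [this]
    exact ChMap.id_lifts _
  rw [cupH_eq_of_lifts I (resShift I (-d)) a i h1 (ChMap.id _) (ChMap.id_isGr _) hl,
    ChMap.Hmap_id]

theorem cupBij_freeSh (d : ι) : CupBij I a i (freeSh (𝒜 := 𝒜) d) := by
  intro E
  apply bijective_of_bijective I a i (resShift I (-d)) E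
  have key : ∀ t : R ⊗[R] I.H a i,
      (cupT I (resShift I (-d)) a i t : I.H a i) = TensorProduct.lid R (I.H a i) t := by
    intro t
    induction t using TensorProduct.induction_on with
    | zero => exact (map_zero _).trans (map_zero _).symm
    | tmul s ξ => exact (cupT_resShift I a i d s ξ).trans (TensorProduct.lid_tmul _ _).symm
    | add s t hs ht =>
      exact (map_add _ s t).trans ((congrArg₂ (· + ·) hs ht).trans (map_add _ s t).symm)
  constructor
  · intro s t hst
    apply (TensorProduct.lid R (I.H a i)).injective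
    rw [← key s, ← key t]
    exact hst
  · intro η
    refine ⟨(TensorProduct.lid R (I.H a i)).symm η, ?_⟩
    exact (key _).trans (LinearEquiv.apply_symm_apply _ _)

end Base

section Zero

theorem cupBij_of_subsingleton (Y : GrLC.GMod.{u} 𝒜) [Subsingleton Y.carrier] :
    CupBij I a i Y := by
  intro E
  haveI : Subsingleton (E.H a i) := H_subsingleton_of_subsingleton E a i
  haveI : Subsingleton (Y.carrier ⊗[R] I.H a i) := by
    constructor
    intro s t
    have key : ∀ u : Y.carrier ⊗[R] I.H a i, u = 0 := by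
      intro u
      induction u using TensorProduct.induction_on with
      | zero => rfl
      | tmul x ξ => rw [Subsingleton.elim x 0, TensorProduct.zero_tmul]
      | add s t hs ht => rw [hs, ht, add_zero]
    rw [key s, key t]
  exact ⟨fun _ _ _ => Subsingleton.elim _ _, fun y => ⟨0, Subsingleton.elim _ _⟩⟩

end Zero

section Prod

variable {Y A B : GrLC.GMod.{u} 𝒜}

theorem cupBij_of_biprod (inl : A.carrier →ₗ[R] Y.carrier) (inr : B.carrier →ₗ[R] Y.carrier)
    (fst : Y.carrier →ₗ[R] A.carrier) (snd : Y.carrier →ₗ[R] B.carrier)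
    (hinl : GrLC.IsGrHom A.gr Y.gr inl) (hinr : GrLC.IsGrHom B.gr Y.gr inr)
    (hfst : GrLC.IsGrHom Y.gr A.gr fst) (hsnd : GrLC.IsGrHom Y.gr B.gr snd)
    (hsum : inl ∘ₗ fst + inr ∘ₗ snd = LinearMap.id)
    (hA : CupBij I a i A) (hB : CupBij I a i B) : CupBij I a i Y := by
  intro E
  let EA := starInjRes 𝒜 A.gr
  let EB := starInjRes 𝒜 B.gr
  let cιA : ChMap EA E := liftCh EA E _ hinl
  let cιB : ChMap EB E := liftCh EB E _ hinr
  let cpA : ChMap E EA := liftCh E EA _ hfst
  let cpB : ChMap E EB := liftCh E EB _ hsnd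
  have gιA : cιA.IsGr := liftCh_isGr EA E _ hinl
  have gιB : cιB.IsGr := liftCh_isGr EB E _ hinr
  have gpA : cpA.IsGr := liftCh_isGr E EA _ hfst
  have gpB : cpB.IsGr := liftCh_isGr E EB _ hsnd
  have lιA : cιA.Lifts inl := liftCh_lifts EA E _ hinl
  have lιB : cιB.Lifts inr := liftCh_lifts EB E _ hinr
  have lpA : cpA.Lifts fst := liftCh_lifts E EA _ hfst
  have lpB : cpB.Lifts snd := liftCh_lifts E EB _ hsnd
  have hid : ∀ η : E.H a i, cιA.Hmap a i (cpA.Hmap a i η) + cιB.Hmap a i (cpB.Hmap a i η) = η := by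
    intro η
    have hl : ((cιA.comp cpA).add (cιB.comp cpB)).Lifts
        (LinearMap.id : Y.carrier →ₗ[R] Y.carrier) := by
      rw [← hsum]
      exact ChMap.add_lifts (ChMap.comp_lifts lιA lpA) (ChMap.comp_lifts lιB lpB)
    have := Hmap_eq_self_of_lifts_id ((cιA.comp cpA).add (cιB.comp cpB))
      (ChMap.add_isGr (ChMap.comp_isGr gιA gpA) (ChMap.comp_isGr gιB gpB)) hl a i η
    rw [ChMap.Hmap_add, ChMap.Hmap_comp, ChMap.Hmap_comp] at this
    exact this
  constructor
  · rw [injective_iff_map_eq_zero]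
    intro t ht
    have h1 : fst.rTensor (I.H a i) t = 0 := by
      apply (hA EA).1
      rw [map_zero, ← cupT_natural I E EA a i hfst cpA gpA lpA t, ht, map_zero]
    have h2 : snd.rTensor (I.H a i) t = 0 := by
      apply (hB EB).1
      rw [map_zero, ← cupT_natural I E EB a i hsnd cpB gpB lpB t, ht, map_zero]
    have h3 : t = (LinearMap.id : Y.carrier →ₗ[R] Y.carrier).rTensor (I.H a i) t := by
      rw [LinearMap.rTensor_id, LinearMap.id_apply]
    rw [h3, ← hsum, LinearMap.rTensor_add, LinearMap.add_apply, LinearMap.rTensor_comp,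
      LinearMap.rTensor_comp, LinearMap.comp_apply, LinearMap.comp_apply, h1, h2, map_zero,
      map_zero, add_zero]
  · intro η
    obtain ⟨tA, htA⟩ := (hA EA).2 (cpA.Hmap a i η)
    obtain ⟨tB, htB⟩ := (hB EB).2 (cpB.Hmap a i η)
    refine ⟨inl.rTensor (I.H a i) tA + inr.rTensor (I.H a i) tB, ?_⟩
    rw [map_add, ← cupT_natural I EA E a i hinl cιA gιA lιA tA,
      ← cupT_natural I EB E a i hinr cιB gιB lιB tB, htA, htB]
    exact hid η

theorem cupBij_prod (A B : GrLC.GMod.{u} 𝒜) (hA : CupBij I a i A) (hB : CupBij I a i B) :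
    CupBij I a i (prodGMod 𝒜 A B) :=
  cupBij_of_biprod I a i (Y := prodGMod 𝒜 A B) (LinearMap.inl R A.carrier B.carrier)
    (LinearMap.inr R A.carrier B.carrier) (LinearMap.fst R A.carrier B.carrier)
    (LinearMap.snd R A.carrier B.carrier)
    (fun g x hx => ⟨hx, zero_mem _⟩) (fun g x hx => ⟨zero_mem _, hx⟩)
    (fun g x hx => hx.1) (fun g x hx => hx.2)
    (by
      apply LinearMap.ext
      rintro ⟨x, y⟩
      show ((x, (0 : B.carrier)) : A.carrier × B.carrier) + ((0 : A.carrier), y) = (x, y)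
      rw [Prod.mk_add_mk, add_zero, zero_add]) hA hB

end Prod

end Groth.Agent.Helper20.GrInj
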