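import Mathlib
import Groth.Agent.Lib.Helper20.GrCup4

/-!
# Graded free covers on which the multiplication map is bijective (helper20)
-/

open DirectSum TensorProduct

namespace Groth.Agent.Helper20.GrInj

universe u

variable {ι : Type} [AddCommGroup ι] [DecidableEq ι]
variable {R : Type u} [CommRing R] {𝒜 : ι → AddSubgroup R} [GradedRing 𝒜]
variable {M : Type u} [AddCommGroup M] [Module R M] (ℳ : ι → AddSubgroup M)
  [DirectSum.Decomposition ℳ] [SetLike.GradedSMul 𝒜 ℳ]
variable (I : GrLC.StarInjRes 𝒜 𝒜) (a : HomogeneousIdeal 𝒜) (i : ℕ)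

theorem exists_cup_cover_of_list (l : List M) (hl : ∀ m ∈ l, ∃ d, m ∈ ℳ d) :
    ∃ (F : GrLC.GMod.{u} 𝒜) (π : F.carrier →ₗ[R] M), Module.Finite R F.carrier ∧
      GrLC.IsGrHom F.gr ℳ π ∧ LinearMap.range π = Submodule.span R {m | m ∈ l} ∧
      CupBij I a i F := by
  induction l with
  | nil =>
    refine ⟨zeroGMod 𝒜, 0, ?_, fun _ _ _ => zero_mem _, ?_, ?_⟩
    · show Module.Finite R PUnit.{u + 1}
      infer_instance
    · have : {m : M | m ∈ ([] : List M)} = ∅ := by ext x; simp
      rw [this, Submodule.span_empty, LinearMap.range_zero]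
    · haveI : Subsingleton (zeroGMod 𝒜).carrier := (inferInstance : Subsingleton PUnit.{u + 1})
      exact cupBij_of_subsingleton I a i (zeroGMod 𝒜)
  | cons m l ih =>
    obtain ⟨F, π, hfin, hgr, hrange, hcup⟩ := ih (fun x hx => hl x (List.mem_cons_of_mem m hx))
    obtain ⟨d, hd⟩ := hl m List.mem_cons_self
    refine ⟨prodGMod 𝒜 (freeSh (𝒜 := 𝒜) d) F, (LinearMap.toSpanSingleton R M m).coprod π,
      ?_, ?_, ?_, ?_⟩
    · show Module.Finite R (R × F.carrier)
      infer_instance
    · rintro j ⟨r, f⟩ ⟨hr, hf⟩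
      have hr' : (show R from r) ∈ 𝒜 (j + -d) := hr
      show (show R from r) • m + π f ∈ ℳ j
      refine add_mem ?_ (hgr j f hf)
      have := SetLike.GradedSMul.smul_mem (A := 𝒜) (B := ℳ) hr' hd
      rwa [vadd_eq_add, neg_add_cancel_right] at this
    · have hset : {x : M | x ∈ m :: l} = {m} ∪ {x | x ∈ l} := by
        ext x
        simp only [List.mem_cons, Set.mem_ofPred_eq, Set.mem_union, Set.mem_singleton_iff]
      rw [hset, Submodule.span_union, ← hrange]
      show LinearMap.range ((LinearMap.toSpanSingleton R M m).coprod π) = _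
      rw [LinearMap.range_coprod, LinearMap.range_toSpanSingleton]
    · exact cupBij_prod I a i _ F (cupBij_freeSh I a i d) hcup

/-- **graded free cover** on which the multiplication map is bijective -/
theorem exists_cup_cover [Module.Finite R M] :
    ∃ (F : GrLC.GMod.{u} 𝒜) (π : F.carrier →ₗ[R] M), Module.Finite R F.carrier ∧
      GrLC.IsGrHom F.gr ℳ π ∧ Function.Surjective π ∧ CupBij I a i F := by
  classical
  obtain ⟨s, hs⟩ := (Module.finite_def.1 ‹Module.Finite R M› : (⊤ : Submodule R M).FG)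
  let T : Finset M := s.biUnion (fun g => (decompose ℳ g).support.image
    (fun j => (decompose ℳ g j : M)))
  obtain ⟨F, π, hfin, hgr, hrange, hcup⟩ := exists_cup_cover_of_list ℳ I a i T.toList (by
    intro m hm
    rw [Finset.mem_toList, Finset.mem_biUnion] at hm
    obtain ⟨g, _, hm⟩ := hm
    rw [Finset.mem_image] at hm
    obtain ⟨j, _, rfl⟩ := hm
    exact ⟨j, (decompose ℳ g j).2⟩)
  refine ⟨F, π, hfin, hgr, ?_, hcup⟩
  rw [← LinearMap.range_eq_top, hrange, eq_top_iff, ← hs, Submodule.span_le]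
  intro g hg
  rw [← sum_support_decompose ℳ g]
  apply Submodule.sum_mem
  intro j hj
  apply Submodule.subset_span
  show _ ∈ T.toList
  rw [Finset.mem_toList, Finset.mem_biUnion]
  exact ⟨g, hg, Finset.mem_image_of_mem _ hj⟩

end Groth.Agent.Helper20.GrInj
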