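import Mathlib
import Groth.Agent.Lib.Helper20.GrCup5
import Groth.Agent.Lib.Helper20.GrSG3
import Groth.Agent.Lib.Helper20.GrSG7

/-!
# `M ⊗_R H^n_a(R) ≅ H^n_a(M)` in the top degree `n = dim R` (helper20)
-/

open DirectSum TensorProduct

namespace Groth.Agent.Helper20.GrInj

universe u

variable {R : Type u} [CommRing R] [IsNoetherianRing R] {𝒜 : ℤ → AddSubgroup R} [GradedRing 𝒜]
variable {M : Type u} [AddCommGroup M] [Module R M] {ℳ : ℤ → AddSubgroup M}
  [DirectSum.Decomposition ℳ] [SetLike.GradedSMul 𝒜 ℳ]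
variable (I : GrLC.StarInjRes 𝒜 𝒜) (a : HomogeneousIdeal 𝒜) (n : ℕ) (hn : ringKrullDim R = n)

include hn in
/-- a homogeneous surjection induces a surjection on the top local cohomology -/
theorem Hmap_top_surjective {N : Type u} [AddCommGroup N] [Module R N] {𝒩 : ℤ → AddSubgroup N}
    [DirectSum.Decomposition 𝒩] [SetLike.GradedSMul 𝒜 𝒩]
    (β : M →ₗ[R] N) (hβ : Function.Surjective β) (hβg : GrLC.IsGrHom ℳ 𝒩 β)
    (E : GrLC.StarInjRes 𝒜 ℳ) (Ē : GrLC.StarInjRes 𝒜 𝒩) (B : ChMap E Ē) (hBgr : B.IsGr)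
    (hB : B.Lifts β) : Function.Surjective (B.Hmap a n) := by
  have hKhom : (LinearMap.ker β).IsHomogeneous ℳ := ker_isHomogeneous ℳ 𝒩 hβg
  let EK := starInjRes 𝒜 (subGMod ℳ 𝒜 (LinearMap.ker β) hKhom).gr
  have hex : LinearMap.range (subVal 𝒜 ℳ (LinearMap.ker β) hKhom) = LinearMap.ker β :=
    subVal_range 𝒜 ℳ (LinearMap.ker β) hKhom
  let A := liftCh EK E (subVal 𝒜 ℳ (LinearMap.ker β) hKhom)
    (subVal_grHom 𝒜 ℳ (LinearMap.ker β) hKhom)
  obtain ⟨_, _, δ, _, hδ1, _⟩ := exists_les EK E Ē (subVal 𝒜 ℳ (LinearMap.ker β) hKhom) β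
    (subVal_grHom 𝒜 ℳ (LinearMap.ker β) hKhom) (subVal_injective 𝒜 ℳ (LinearMap.ker β) hKhom) hex hβ
    A (liftCh_isGr _ _ _ _) (liftCh_lifts _ _ _ _) B hBgr hB a
  haveI : Subsingleton (EK.H a (n + 1)) :=
    H_subsingleton_of_dim_lt EK a n hn (n + 1) (Nat.lt_succ_self n)
  intro η
  have : η ∈ LinearMap.ker (δ n) := by
    rw [LinearMap.mem_ker]
    exact Subsingleton.elim _ _
  rw [← hδ1 n] at this
  exact this

include hn in
/-- the multiplication map is surjective in the top degree -/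
theorem cupT_top_surjective [Module.Finite R M] (EM : GrLC.StarInjRes 𝒜 ℳ) :
    Function.Surjective (cupT I EM a n) := by
  obtain ⟨F, π, _, hπg, hπ, hF⟩ := exists_cup_cover ℳ I a n
  let EF := starInjRes 𝒜 F.gr
  let B := liftCh EF EM π hπg
  have hBgr : B.IsGr := liftCh_isGr EF EM π hπg
  have hB : B.Lifts π := liftCh_lifts EF EM π hπg
  intro η
  obtain ⟨η', rfl⟩ := Hmap_top_surjective a n hn π hπ hπg EF EM B hBgr hB η
  obtain ⟨t, rfl⟩ := (hF EF).2 η'
  exact ⟨π.rTensor (I.H a n) t, (cupT_natural I EF EM a n hπg B hBgr hB t).symm⟩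

include hn in
/-- **top local cohomology commutes with tensor products**: `M ⊗_R H^n_a(R) ≅ H^n_a(M)` for a
finitely generated graded module over a Noetherian graded ring of dimension `n` -/
theorem cupT_top_bijective [Module.Finite R M] (EM : GrLC.StarInjRes 𝒜 ℳ) :
    Function.Bijective (cupT I EM a n) := by
  refine ⟨?_, cupT_top_surjective I a n hn EM⟩
  obtain ⟨F, π, hFfin, hπg, hπ, hF⟩ := exists_cup_cover ℳ I a n
  let EF := starInjRes 𝒜 F.gr
  let B := liftCh EF EM π hπg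
  have hBgr : B.IsGr := liftCh_isGr EF EM π hπg
  have hB : B.Lifts π := liftCh_lifts EF EM π hπg
  have hKhom : (LinearMap.ker π).IsHomogeneous F.gr := ker_isHomogeneous F.gr ℳ hπg
  let Z := subGMod F.gr 𝒜 (LinearMap.ker π) hKhom
  let EZ := starInjRes 𝒜 Z.gr
  let ιZ := subVal 𝒜 F.gr (LinearMap.ker π) hKhom
  have hιg : GrLC.IsGrHom Z.gr F.gr ιZ := subVal_grHom 𝒜 F.gr (LinearMap.ker π) hKhom
  have hex : LinearMap.range ιZ = LinearMap.ker π := subVal_range 𝒜 F.gr (LinearMap.ker π) hKhom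
  let A := liftCh EZ EF ιZ hιg
  have hAgr : A.IsGr := liftCh_isGr EZ EF ιZ hιg
  have hA : A.Lifts ιZ := liftCh_lifts EZ EF ιZ hιg
  obtain ⟨_, hmid, _⟩ := exists_les EZ EF EM ιZ π hιg
    (subVal_injective 𝒜 F.gr (LinearMap.ker π) hKhom) hex hπ A hAgr hA B hBgr hB a
  haveI : Module.Finite R Z.carrier := subGMod_finite F (LinearMap.ker π) hKhom
  have hZ : Function.Surjective (cupT I EZ a n) := cupT_top_surjective I a n hn EZ
  rw [injective_iff_map_eq_zero]
  intro t ht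
  obtain ⟨t', rfl⟩ := LinearMap.rTensor_surjective (I.H a n) hπ t
  have h1 : cupT I EF a n t' ∈ LinearMap.ker (B.Hmap a n) := by
    rw [LinearMap.mem_ker, cupT_natural I EF EM a n hπg B hBgr hB t', ht]
  rw [← hmid n] at h1
  obtain ⟨ζ, hζ⟩ := h1
  obtain ⟨s, rfl⟩ := hZ ζ
  rw [cupT_natural I EZ EF a n hιg A hAgr hA s] at hζ
  have h2 : ιZ.rTensor (I.H a n) s = t' := (hF EF).1 hζ
  rw [← h2, ← LinearMap.comp_apply, ← LinearMap.rTensor_comp]
  have h3 : π ∘ₗ ιZ = 0 := by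
    apply LinearMap.ext
    intro z
    have : ιZ z ∈ LinearMap.ker π := subVal_mem 𝒜 F.gr (LinearMap.ker π) hKhom z
    exact this
  rw [h3, LinearMap.rTensor_zero, LinearMap.zero_apply]

end Groth.Agent.Helper20.GrInj
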