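import Mathlib
import Groth.Prelude
import Groth.Agent.Lib.Helper20.GrExt1

/-!
# Graded duals: injectivity of the pairing and representability of functionals supported in one
degree (helper20)
-/

set_option autoImplicit false

open DirectSum

namespace Groth.Agent.Helper20.GDual

universe u

section Basic

variable {k : Type u} [Field k] {R : Type u} [CommRing R] [Algebra k R]
  {H : Type u} [AddCommGroup H] [Module R H] [Module k H] [IsScalarTower k R H]
  {ℋ : ℤ → AddSubgroup H} [DirectSum.Decomposition ℋ]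
  {K : Type u} [AddCommGroup K] [Module R K] [Module k K] [IsScalarTower k R K]
  {𝒦 : ℤ → AddSubgroup K} [DirectSum.Decomposition 𝒦]
  {βK : K →ₗ[k] H →ₗ[k] k} (hK : GrSeg.IsGDual R ℋ 𝒦 βK)

/-- two additive maps agreeing on homogeneous elements agree -/
theorem eq_of_forall_homog {A : Type*} [AddCommGroup A] (f g : H →+ A)
    (h : ∀ (l : ℤ) (ξ : H), ξ ∈ ℋ l → f ξ = g ξ) (ξ : H) : f ξ = g ξ := by
  induction ξ using DirectSum.Decomposition.inductionOn ℋ with
  | zero => rw [map_zero, map_zero]
  | @homogeneous l ξ => exact h l ξ ξ.2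
  | add a b ha hb => rw [map_add, map_add, ha, hb]

include hK in
/-- the pairing of a graded dual is injective -/
theorem pairing_injective : Function.Injective βK := by
  classical
  rw [injective_iff_map_eq_zero]
  intro κ hκ
  have hall : ∀ d : ℤ, (decompose 𝒦 κ d : K) = 0 := by
    intro d
    apply hK.eq_zero d _ (decompose 𝒦 κ d).2
    intro ξ hξ
    have h1 : βK κ ξ = 0 := by rw [hκ, LinearMap.zero_apply]
    rw [← sum_support_decompose 𝒦 κ, map_sum, LinearMap.sum_apply] at h1
    rw [← h1]
    symm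
    apply Finset.sum_eq_single d
    · intro d' _ hd'
      exact hK.vanish d' _ (decompose 𝒦 κ d').2 (-d) (fun h => hd' (neg_injective h).symm) ξ hξ
    · intro hd
      rw [DFinsupp.notMem_support_iff] at hd
      rw [hd, ZeroMemClass.coe_zero, map_zero, LinearMap.zero_apply]
  rw [← sum_support_decompose 𝒦 κ]
  exact Finset.sum_eq_zero (fun d _ => hall d)

include hK in
/-- a functional supported in the degree `-d` is represented by an element of degree `d` -/
theorem exists_of_supported (d : ℤ) (lam : H →ₗ[k] k)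
    (hlam : ∀ l : ℤ, l ≠ -d → ∀ ξ ∈ ℋ l, lam ξ = 0) : ∃ κ ∈ 𝒦 d, βK κ = lam := by
  obtain ⟨κ, hκ, hκl⟩ := hK.exists_eq d lam
  refine ⟨κ, hκ, ?_⟩
  apply LinearMap.ext
  intro ξ
  apply eq_of_forall_homog (ℋ := ℋ) (βK κ).toAddMonoidHom lam.toAddMonoidHom
  intro l ξ hξ
  show βK κ ξ = lam ξ
  by_cases hl : l = -d
  · subst hl
    exact hκl ξ hξ
  · rw [hK.vanish d κ hκ l hl ξ hξ, hlam l hl ξ hξ]

end Basic

end Groth.Agent.Helper20.GDual
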