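import Mathlib
import Groth.Prelude
import Groth.Agent.Lib.Helper20.GrCup7

/-!
# Abstract top-degree graded local duality (helper20)

Given a bijective graded "cup product" `M ⊗[R] H → HM`, the graded dual of `HM` is `Hom_R(M, K)` for
`K` the graded dual of `H`.
-/

set_option autoImplicit false

open DirectSum TensorProduct

namespace Groth.Agent.Helper20.GDual

universe u

section Duality

variable {k : Type u} [Field k] {R : Type u} [CommRing R] [Algebra k R]
  (𝒜 : ℤ → Submodule k R) [GradedAlgebra 𝒜]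
  {H : Type u} [AddCommGroup H] [Module R H] [Module k H] [IsScalarTower k R H]
  {ℋ : ℤ → AddSubgroup H} [DirectSum.Decomposition ℋ]
  {HM : Type u} [AddCommGroup HM] [Module R HM] [Module k HM] [IsScalarTower k R HM]
  {ℋM : ℤ → AddSubgroup HM} [DirectSum.Decomposition ℋM]
  {K : Type u} [AddCommGroup K] [Module R K] [Module k K] [IsScalarTower k R K]
  {𝒦 : ℤ → AddSubgroup K} [DirectSum.Decomposition 𝒦] [SetLike.GradedSMul 𝒜 𝒦]
  {βK : K →ₗ[k] H →ₗ[k] k} (hK : GrSeg.IsGDual R ℋ 𝒦 βK)
  {D : Type u} [AddCommGroup D] [Module R D] [Module k D] [IsScalarTower k R D]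
  {𝒟 : ℤ → AddSubgroup D} [DirectSum.Decomposition 𝒟]
  {βD : D →ₗ[k] HM →ₗ[k] k} (hD : GrSeg.IsGDual R ℋM 𝒟 βD)
  {M : Type u} [AddCommGroup M] [Module R M]
  {ℳ : ℤ → AddSubgroup M} [DirectSum.Decomposition ℳ] [SetLike.GradedSMul 𝒜 ℳ]
  (cup : M ⊗[R] H →ₗ[R] HM)

/-- the functional `ξ ↦ βD δ (x ∪ ξ)` -/
noncomputable def Tfun (βD : D →ₗ[k] HM →ₗ[k] k) (cup : M ⊗[R] H →ₗ[R] HM) (δ : D) (x : M) :
    H →ₗ[k] k where
  toFun ξ := βD δ (cup (x ⊗ₜ[R] ξ))
  map_add' ξ ξ' := by rw [TensorProduct.tmul_add, map_add, map_add]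
  map_smul' c ξ := by
    rw [← algebraMap_smul R c ξ, TensorProduct.tmul_smul, map_smul, algebraMap_smul, map_smul]
    rfl

theorem Tfun_apply (δ : D) (x : M) (ξ : H) : Tfun βD cup δ x ξ = βD δ (cup (x ⊗ₜ[R] ξ)) := rfl

theorem Tfun_add_left (δ δ' : D) (x : M) :
    Tfun βD cup (δ + δ') x = Tfun βD cup δ x + Tfun βD cup δ' x := by
  apply LinearMap.ext
  intro ξ
  rw [LinearMap.add_apply, Tfun_apply, Tfun_apply, Tfun_apply, map_add, LinearMap.add_apply]

theorem Tfun_zero_left (x : M) : Tfun βD cup 0 x = 0 := by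
  apply LinearMap.ext
  intro ξ
  rw [Tfun_apply, map_zero, LinearMap.zero_apply, LinearMap.zero_apply]

theorem Tfun_add_right (δ : D) (x x' : M) :
    Tfun βD cup δ (x + x') = Tfun βD cup δ x + Tfun βD cup δ x' := by
  apply LinearMap.ext
  intro ξ
  rw [LinearMap.add_apply, Tfun_apply, Tfun_apply, Tfun_apply, TensorProduct.add_tmul, map_add,
    map_add]

theorem Tfun_zero_right (δ : D) : Tfun βD cup δ (0 : M) = 0 := by
  apply LinearMap.ext
  intro ξ
  rw [Tfun_apply, TensorProduct.zero_tmul, map_zero, map_zero, LinearMap.zero_apply]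

theorem Tfun_smul_right (δ : D) (r : R) (x : M) (ξ : H) :
    Tfun βD cup δ (r • x) ξ = Tfun βD cup δ x (r • ξ) := by
  rw [Tfun_apply, Tfun_apply, TensorProduct.tmul_smul, TensorProduct.smul_tmul']

include hD in
theorem Tfun_smul_left (δ : D) (r : R) (x : M) (ξ : H) :
    Tfun βD cup (r • δ) x ξ = Tfun βD cup δ x (r • ξ) := by
  rw [Tfun_apply, Tfun_apply, hD.map_smul, TensorProduct.tmul_smul, cup.map_smul]

variable (hcupgr : ∀ (j l : ℤ) (x : M) (ξ : H), x ∈ ℳ j → ξ ∈ ℋ l → cup (x ⊗ₜ[R] ξ) ∈ ℋM (l + j))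

include hK hD hcupgr in
/-- on homogeneous elements the functional is represented in the right degree -/
theorem exists_rep_homog (d j : ℤ) (δ : D) (hδ : δ ∈ 𝒟 d) (x : M) (hx : x ∈ ℳ j) :
    ∃ κ ∈ 𝒦 (j + d), βK κ = Tfun βD cup δ x := by
  apply exists_of_supported hK (j + d) (Tfun βD cup δ x)
  intro l hl ξ hξ
  rw [Tfun_apply]
  apply hD.vanish d δ hδ (l + j) _ _ (hcupgr j l x ξ hx hξ)
  intro h
  apply hl
  omega

include hK hD hcupgr in
theorem exists_rep (δ : D) (x : M) : ∃ κ : K, βK κ = Tfun βD cup δ x := by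
  classical
  induction δ using DirectSum.Decomposition.inductionOn 𝒟 with
  | zero => exact ⟨0, by rw [map_zero, Tfun_zero_left]⟩
  | @homogeneous d δ =>
    induction x using DirectSum.Decomposition.inductionOn ℳ with
    | zero => exact ⟨0, by rw [map_zero, Tfun_zero_right]⟩
    | @homogeneous j x =>
      obtain ⟨κ, _, h⟩ := exists_rep_homog hK hD cup hcupgr d j δ δ.2 x x.2
      exact ⟨κ, h⟩
    | add a b ha hb =>
      obtain ⟨κ, h⟩ := ha
      obtain ⟨κ', h'⟩ := hb
      exact ⟨κ + κ', by rw [map_add, h, h', Tfun_add_right]⟩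
  | add a b ha hb =>
    obtain ⟨κ, h⟩ := ha
    obtain ⟨κ', h'⟩ := hb
    exact ⟨κ + κ', by rw [map_add, h, h', Tfun_add_left]⟩

/-- the underlying function of the duality map -/
noncomputable def eps0 (h : ∀ (δ : D) (x : M), ∃ κ : K, βK κ = Tfun βD cup δ x) (δ : D) (x : M) : K :=
  (h δ x).choose

theorem eps0_spec (h : ∀ (δ : D) (x : M), ∃ κ : K, βK κ = Tfun βD cup δ x) (δ : D) (x : M) :
    βK (eps0 cup h δ x) = Tfun βD cup δ x :=
  (h δ x).choose_spec

include hK in
/-- the duality map for fixed `δ` -/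
noncomputable def eps1 (h : ∀ (δ : D) (x : M), ∃ κ : K, βK κ = Tfun βD cup δ x) (δ : D) :
    M →ₗ[R] K where
  toFun := eps0 cup h δ
  map_add' x y := by
    apply pairing_injective hK
    rw [map_add, eps0_spec, eps0_spec, eps0_spec, Tfun_add_right]
  map_smul' r x := by
    apply pairing_injective hK
    apply LinearMap.ext
    intro ξ
    rw [RingHom.id_apply, hK.map_smul, eps0_spec, eps0_spec, Tfun_smul_right]

theorem eps1_apply (h : ∀ (δ : D) (x : M), ∃ κ : K, βK κ = Tfun βD cup δ x) (δ : D) (x : M) :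
    eps1 hK cup h δ x = eps0 cup h δ x := rfl

include hD in
/-- the duality map -/
noncomputable def eps (h : ∀ (δ : D) (x : M), ∃ κ : K, βK κ = Tfun βD cup δ x) :
    D →ₗ[R] (M →ₗ[R] K) where
  toFun := eps1 hK cup h
  map_add' δ δ' := by
    apply LinearMap.ext
    intro x
    apply pairing_injective hK
    rw [LinearMap.add_apply, map_add, eps1_apply, eps1_apply, eps1_apply, eps0_spec, eps0_spec,
      eps0_spec, Tfun_add_left]
  map_smul' r δ := by
    apply LinearMap.ext
    intro x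
    apply pairing_injective hK
    apply LinearMap.ext
    intro ξ
    rw [RingHom.id_apply, LinearMap.smul_apply, hK.map_smul, eps1_apply, eps1_apply, eps0_spec,
      eps0_spec, Tfun_smul_left hD]

theorem eps_spec (h : ∀ (δ : D) (x : M), ∃ κ : K, βK κ = Tfun βD cup δ x) (δ : D) (x : M) (ξ : H) :
    βK (eps hK hD cup h δ x) ξ = βD δ (cup (x ⊗ₜ[R] ξ)) := by
  show βK (eps0 cup h δ x) ξ = _
  rw [eps0_spec, Tfun_apply]


variable (hrep : ∀ (δ : D) (x : M), ∃ κ : K, βK κ = Tfun βD cup δ x)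

include hcupgr in
/-- the duality map is graded -/
theorem eps_graded (d : ℤ) (δ : D) (hδ : δ ∈ 𝒟 d) :
    GrLC.IsGrHomDeg ℳ 𝒦 (eps hK hD cup hrep δ) d := by
  intro j x hx
  obtain ⟨κ, hκ, h⟩ := exists_rep_homog hK hD cup hcupgr d j δ hδ x hx
  have : eps hK hD cup hrep δ x = κ := by
    apply pairing_injective hK
    apply LinearMap.ext
    intro ξ
    rw [eps_spec, h, Tfun_apply]
  rw [this]
  exact hκ

/-- the duality map is injective when the cup product is surjective -/
theorem eps_injective (hsurj : Function.Surjective cup) :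
    Function.Injective (eps hK hD cup hrep) := by
  rw [injective_iff_map_eq_zero]
  intro δ hδ
  apply pairing_injective hD
  rw [map_zero]
  apply LinearMap.ext
  intro y
  obtain ⟨t, rfl⟩ := hsurj y
  rw [LinearMap.zero_apply]
  induction t using TensorProduct.induction_on with
  | zero => rw [map_zero, map_zero]
  | tmul x ξ =>
    rw [← eps_spec hK hD cup hrep, hδ, LinearMap.zero_apply, map_zero, LinearMap.zero_apply]
  | add a b ha hb => rw [map_add, map_add, ha, hb, add_zero]

/-- the biadditive form `(x, ξ) ↦ βK (f x) ξ` on the tensor product -/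
noncomputable def Lf (f : M →ₗ[R] K) : M ⊗[R] H →+ k :=
  TensorProduct.liftAddHom
    { toFun := fun x => (βK (f x)).toAddMonoidHom
      map_zero' := by
        apply AddMonoidHom.ext
        intro ξ
        show βK (f 0) ξ = 0
        rw [map_zero, map_zero, LinearMap.zero_apply]
      map_add' := fun x y => by
        apply AddMonoidHom.ext
        intro ξ
        show βK (f (x + y)) ξ = βK (f x) ξ + βK (f y) ξ
        rw [map_add, map_add, LinearMap.add_apply] }
    (fun r x ξ => by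
      show βK (f (r • x)) ξ = βK (f x) (r • ξ)
      rw [map_smul, hK.map_smul])

theorem Lf_tmul (f : M →ₗ[R] K) (x : M) (ξ : H) : Lf hK f (x ⊗ₜ[R] ξ) = βK (f x) ξ := rfl

theorem Lf_smul (f : M →ₗ[R] K) (c : k) (t : M ⊗[R] H) :
    Lf hK f (algebraMap k R c • t) = c • Lf hK f t := by
  induction t using TensorProduct.induction_on with
  | zero => rw [smul_zero, map_zero, smul_zero]
  | tmul x ξ =>
    rw [TensorProduct.smul_tmul', Lf_tmul, Lf_tmul, map_smul, algebraMap_smul, map_smul,
      LinearMap.smul_apply]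
  | add a b ha hb => rw [smul_add, map_add, map_add, ha, hb, smul_add]

/-- the functional on `HM` induced by `f` through the inverse of the cup product -/
noncomputable def lamf (hbij : Function.Bijective cup) (f : M →ₗ[R] K) : HM →ₗ[k] k where
  toFun y := Lf hK f ((LinearEquiv.ofBijective cup hbij).symm y)
  map_add' y y' := by rw [map_add, map_add]
  map_smul' c y := by
    rw [← algebraMap_smul R c y, map_smul, Lf_smul]
    rfl

theorem lamf_cup (hbij : Function.Bijective cup) (f : M →ₗ[R] K) (x : M) (ξ : H) :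
    lamf hK cup hbij f (cup (x ⊗ₜ[R] ξ)) = βK (f x) ξ := by
  show Lf hK f ((LinearEquiv.ofBijective cup hbij).symm (cup (x ⊗ₜ[R] ξ))) = _
  have : (LinearEquiv.ofBijective cup hbij).symm (cup (x ⊗ₜ[R] ξ)) = x ⊗ₜ[R] ξ := by
    apply (LinearEquiv.ofBijective cup hbij).injective
    rw [LinearEquiv.apply_symm_apply]
    rfl
  rw [this, Lf_tmul]

include hcupgr in
/-- homogeneous maps are in the range of the duality map -/
theorem mem_range_eps_of_homog (hbij : Function.Bijective cup) (d : ℤ) (f : M →ₗ[R] K)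
    (hf : GrLC.IsGrHomDeg ℳ 𝒦 f d) : f ∈ LinearMap.range (eps hK hD cup hrep) := by
  classical
  obtain ⟨δ, hδ, hδl⟩ := hD.exists_eq d (lamf hK cup hbij f)
  refine ⟨δ, ?_⟩
  apply LinearMap.ext
  intro x
  apply pairing_injective hK
  apply LinearMap.ext
  intro ξ
  rw [eps_spec]
  -- reduce to homogeneous ξ
  apply eq_of_forall_homog (ℋ := ℋ)
    ((βD δ).toAddMonoidHom.comp ((cup.toAddMonoidHom).comp
      ((TensorProduct.mk R M H x).toAddMonoidHom))) (βK (f x)).toAddMonoidHom
  intro l ξ hξ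
  show βD δ (cup (x ⊗ₜ[R] ξ)) = βK (f x) ξ
  -- reduce to homogeneous x
  apply eq_of_forall_homog (ℋ := ℳ)
    ((βD δ).toAddMonoidHom.comp ((cup.toAddMonoidHom).comp
      (((TensorProduct.mk R M H).flip ξ).toAddMonoidHom)))
    (((βK.flip ξ).toAddMonoidHom).comp f.toAddMonoidHom)
  intro j x hx
  show βD δ (cup (x ⊗ₜ[R] ξ)) = βK (f x) ξ
  by_cases hlj : l + j = -d
  · have hmem : cup (x ⊗ₜ[R] ξ) ∈ ℋM (-d) := by
      rw [← hlj]
      exact hcupgr j l x ξ hx hξ
    rw [hδl _ hmem, lamf_cup]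
  · rw [hD.vanish d δ hδ (l + j) hlj _ (hcupgr j l x ξ hx hξ)]
    symm
    apply hK.vanish (j + d) (f x) (hf j x hx) l _ ξ hξ
    intro h
    apply hlj
    omega

include 𝒜 hcupgr in
/-- the duality map is surjective when `M` is finitely generated and the cup product bijective -/
theorem eps_surjective [Module.Finite R M] (hbij : Function.Bijective cup) :
    Function.Surjective (eps hK hD cup hrep) := by
  intro f
  obtain ⟨S, hS⟩ := Groth.Agent.Helper20.GrInj.exists_eq_sum_homComp 𝒜 ℳ 𝒦 f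
  have hmem : f ∈ LinearMap.range (eps hK hD cup hrep) := by
    rw [hS]
    apply Submodule.sum_mem
    intro d _
    apply mem_range_eps_of_homog hK hD cup hcupgr hrep hbij d
    exact Groth.Agent.Helper20.GrInj.homComp_grHom 𝒜 ℳ 𝒦 f d
  exact hmem

include hK hD hcupgr in
/-- **Abstract top-degree graded local duality**: if the graded cup product `M ⊗[R] H → HM` is
bijective then the graded dual of `HM` is `Hom_R(M, K)`, `K` the graded dual of `H`. -/
theorem exists_dual_equiv [Module.Finite R M] (hbij : Function.Bijective cup) :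
    ∃ ε : D ≃ₗ[R] (M →ₗ[R] K),
      GrLC.IsGrHom 𝒟 (fun d : ℤ => (GrLC.homDeg 𝒜 ℳ 𝒦 d).toAddSubgroup) ε.toLinearMap := by
  have hrep := exists_rep hK hD cup hcupgr
  refine ⟨LinearEquiv.ofBijective (eps hK hD cup hrep)
    ⟨eps_injective hK hD cup hrep hbij.2, eps_surjective 𝒜 hK hD cup hcupgr hrep hbij⟩, ?_⟩
  intro d δ hδ
  exact eps_graded hK hD cup hcupgr hrep d δ hδ

end Duality

end Groth.Agent.Helper20.GDual
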