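import Mathlib
import Groth.Prelude
import Groth.Agent.Lib.Helper20.GrCup6
import Groth.Agent.Lib.Helper20.GrCup8
import Groth.Agent.Lib.Helper20.GrConv2

/-!
# Top-degree graded local duality `(H^n_m(M))^* ≅ Hom_R(M, K_R)` (helper20)
-/

set_option autoImplicit false

open DirectSum TensorProduct

namespace Groth.Agent.Helper20.GDual

open Groth.Agent.Helper20.GrInj

universe u

theorem exists_gradedDual_H_top_equiv (k : Type u) [Field k] (R : Type u) [CommRing R] [Algebra k R]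
    (𝒜 : ℤ → Submodule k R) [GradedAlgebra 𝒜] [Algebra.FiniteType k R] (mR : HomogeneousIdeal 𝒜)
    (n : ℕ) (hn : ringKrullDim R = n) (I : GrLC.StarInjRes 𝒜 𝒜) [Module k (I.H mR n)]
    [IsScalarTower k R (I.H mR n)] [DirectSum.Decomposition (I.Hgr mR n)] (K : Type u)
    [AddCommGroup K] [Module R K] [Module k K] [IsScalarTower k R K] (𝒦 : ℤ → AddSubgroup K)
    [DirectSum.Decomposition 𝒦] [SetLike.GradedSMul 𝒜 𝒦] (βK : K →ₗ[k] I.H mR n →ₗ[k] k)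
    (hK : GrSeg.IsGDual R (I.Hgr mR n) 𝒦 βK) (M : Type u) [AddCommGroup M] [Module R M]
    (ℳ : ℤ → AddSubgroup M) [DirectSum.Decomposition ℳ]
    [SetLike.GradedSMul 𝒜 ℳ] [Module.Finite R M] (EM : GrLC.StarInjRes 𝒜 ℳ)
    [Module k (EM.H mR n)] [IsScalarTower k R (EM.H mR n)]
    [DirectSum.Decomposition (EM.Hgr mR n)] (D : Type u) [AddCommGroup D] [Module R D] [Module k D]
    [IsScalarTower k R D] (𝒟 : ℤ → AddSubgroup D) [DirectSum.Decomposition 𝒟]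
    (βD : D →ₗ[k] EM.H mR n →ₗ[k] k)
    (hD : GrSeg.IsGDual R (EM.Hgr mR n) 𝒟 βD) :
    ∃ ε : D ≃ₗ[R] (M →ₗ[R] K),
      GrLC.IsGrHom 𝒟 (fun d : ℤ => (GrLC.homDeg 𝒜 ℳ 𝒦 d).toAddSubgroup) ε.toLinearMap := by
  haveI : IsNoetherianRing R := Algebra.FiniteType.isNoetherianRing k R
  let a := HomogeneousIdeal.toAddH 𝒜 mR
  let I' := StarInjRes.toAddR 𝒜 I (toAdd 𝒜) (fun _ _ h => h)
  let EM' := StarInjRes.toAddR 𝒜 EM ℳ (fun _ _ h => h)
  let cup : M ⊗[R] I.H mR n →ₗ[R] EM.H mR n := cupT I' EM' a n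
  have hbij : Function.Bijective cup := cupT_top_bijective I' a n hn EM'
  have hgr : ∀ (j l : ℤ) (x : M) (ξ : I.H mR n), x ∈ ℳ j → ξ ∈ I.Hgr mR n l →
      cup (x ⊗ₜ[R] ξ) ∈ EM.Hgr mR n (l + j) := by
    intro j l x ξ hx hξ
    exact cupT_tmul_mem I' EM' a n hx hξ
  exact exists_dual_equiv 𝒜 hK hD cup hgr hbij

end Groth.Agent.Helper20.GDual
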