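import Mathlib
import Groth.Prelude
import Groth.Agent.Lib.Helper20.GorType4

/-!
# Towards the converse Gorenstein criteria for Veronese subrings and Segre products:
general lemmas (helper20)
-/

set_option autoImplicit false

open DirectSum

namespace Groth.Agent.Helper20.GrDual

open Groth.Agent.Helper20.GrInj Groth.Agent.Helper8 Groth.Agent.Helper20.GorBr
  Groth.Agent.Helper20.GorType

universe u

section RegPair

variable {R : Type u} [CommRing R]

/-- **`Hom(J, R) = R` for an ideal containing a regular sequence of length two**, in a form which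
avoids linear maps on ideals: `ρ` is defined on a generating set `S` of `J` and is "linear" in the
sense that `z ρ(t) = t ρ(z)` for `z, t ∈ S` -/
theorem exists_mul_eq_of_regular_pair (S : Set R) (ρ : R → R)
    (hρ : ∀ z ∈ S, ∀ t ∈ S, z * ρ t = t * ρ z) {x y : R} (hx : x ∈ Ideal.span S)
    (hy : y ∈ Ideal.span S) (hxreg : ∀ r : R, x * r = 0 → r = 0)
    (hyreg : ∀ r : R, (∃ s, y * r = x * s) → ∃ s, r = x * s) :
    ∃ r₀ : R, ∀ t ∈ S, ρ t = r₀ * t := by
  have key : ∀ z ∈ Ideal.span S, ∃ ρz : R, ∀ t ∈ S, ρz * t = z * ρ t := by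
    intro z hz
    induction hz using Submodule.span_induction with
    | mem z hz => exact ⟨ρ z, fun t ht => by rw [mul_comm, hρ z hz t ht]⟩
    | zero => exact ⟨0, fun t _ => by rw [zero_mul, zero_mul]⟩
    | add z z' _ _ hz hz' =>
      obtain ⟨a, ha⟩ := hz
      obtain ⟨b, hb⟩ := hz'
      exact ⟨a + b, fun t ht => by rw [add_mul, add_mul, ha t ht, hb t ht]⟩
    | smul c z _ hz =>
      obtain ⟨a, ha⟩ := hz
      exact ⟨c * a, fun t ht => by rw [smul_eq_mul, mul_assoc, ha t ht, mul_assoc]⟩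
  obtain ⟨ρx, hρx⟩ := key x hx
  have key2 : ∀ z ∈ Ideal.span S, ∃ ρz : R, ρx * z = x * ρz := by
    intro z hz
    induction hz using Submodule.span_induction with
    | mem z hz => exact ⟨ρ z, hρx z hz⟩
    | zero => exact ⟨0, by rw [mul_zero, mul_zero]⟩
    | add z z' _ _ hz hz' =>
      obtain ⟨a, ha⟩ := hz
      obtain ⟨b, hb⟩ := hz'
      exact ⟨a + b, by rw [mul_add, mul_add, ha, hb]⟩
    | smul c z _ hz =>
      obtain ⟨a, ha⟩ := hz
      exact ⟨c * a, by rw [smul_eq_mul, mul_left_comm, ha, mul_left_comm]⟩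
  obtain ⟨ρy, hρy⟩ := key2 y hy
  obtain ⟨r₀, hr₀⟩ := hyreg ρx ⟨ρy, by rw [mul_comm, hρy]⟩
  refine ⟨r₀, fun t ht => ?_⟩
  have h1 : x * (ρ t - r₀ * t) = 0 := by
    rw [mul_sub, ← hρx t ht, hr₀]
    ring
  exact sub_eq_zero.1 (hxreg _ h1)

/-- indexed version of `exists_mul_eq_of_regular_pair` -/
theorem exists_mul_eq_of_regular_pair' {ι : Type*} (g : ι → R) (ρ : ι → R)
    (hρ : ∀ a b : ι, g a * ρ b = g b * ρ a) {x y : R} (hx : x ∈ Ideal.span (Set.range g))
    (hy : y ∈ Ideal.span (Set.range g)) (hxreg : ∀ r : R, x * r = 0 → r = 0)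
    (hyreg : ∀ r : R, (∃ s, y * r = x * s) → ∃ s, r = x * s) :
    ∃ r₀ : R, ∀ a : ι, ρ a = r₀ * g a := by
  have key : ∀ z ∈ Ideal.span (Set.range g), ∃ ρz : R, ∀ a : ι, ρz * g a = z * ρ a := by
    intro z hz
    induction hz using Submodule.span_induction with
    | mem z hz =>
      obtain ⟨b, rfl⟩ := hz
      exact ⟨ρ b, fun a => by rw [mul_comm, hρ a b]⟩
    | zero => exact ⟨0, fun a => by rw [zero_mul, zero_mul]⟩
    | add z z' _ _ hz hz' =>
      obtain ⟨u, hu⟩ := hz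
      obtain ⟨v, hv⟩ := hz'
      exact ⟨u + v, fun a => by rw [add_mul, add_mul, hu a, hv a]⟩
    | smul c z _ hz =>
      obtain ⟨u, hu⟩ := hz
      exact ⟨c * u, fun a => by rw [smul_eq_mul, mul_assoc, hu a, mul_assoc]⟩
  obtain ⟨ρx, hρx⟩ := key x hx
  have key2 : ∀ z ∈ Ideal.span (Set.range g), ∃ ρz : R, ρx * z = x * ρz := by
    intro z hz
    induction hz using Submodule.span_induction with
    | mem z hz =>
      obtain ⟨b, rfl⟩ := hz
      exact ⟨ρ b, hρx b⟩
    | zero => exact ⟨0, by rw [mul_zero, mul_zero]⟩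
    | add z z' _ _ hz hz' =>
      obtain ⟨u, hu⟩ := hz
      obtain ⟨v, hv⟩ := hz'
      exact ⟨u + v, by rw [mul_add, mul_add, hu, hv]⟩
    | smul c z _ hz =>
      obtain ⟨u, hu⟩ := hz
      exact ⟨c * u, by rw [smul_eq_mul, mul_left_comm, hu, mul_left_comm]⟩
  obtain ⟨ρy, hρy⟩ := key2 y hy
  obtain ⟨r₀, hr₀⟩ := hyreg ρx ⟨ρy, by rw [mul_comm, hρy]⟩
  refine ⟨r₀, fun a => ?_⟩
  have h1 : x * (ρ a - r₀ * g a) = 0 := by
    rw [mul_sub, ← hρx a, hr₀]
    ring
  exact sub_eq_zero.1 (hxreg _ h1)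

end RegPair

section Std

variable {R : Type u} [CommRing R] {𝒜 : ℤ → AddSubgroup R} [GradedRing 𝒜]
variable (hstd : Ideal.span (⋃ n ∈ Set.Ioi (0 : ℤ), (𝒜 n : Set R)) =
    Ideal.span ((𝒜 1 : AddSubgroup R) : Set R))

include hstd in
/-- in a standard graded ring, `R_{i+e}` is spanned by the products `R_i R_e` -/
theorem mem_closure_mul : ∀ (e : ℕ) (i : ℤ), 0 ≤ i → ∀ x ∈ 𝒜 (i + (e : ℤ)),
    x ∈ AddSubgroup.closure {z : R | ∃ u ∈ 𝒜 i, ∃ y ∈ 𝒜 (e : ℤ), z = u * y} := by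
  intro e
  induction e with
  | zero =>
    intro i _ x hx
    rw [Nat.cast_zero, add_zero] at hx
    refine AddSubgroup.subset_closure ⟨x, hx, 1, ?_, (mul_one x).symm⟩
    rw [Nat.cast_zero]
    exact SetLike.GradedOne.one_mem
  | succ e ih =>
    intro i hi x hx
    have hdeg : i + ((e + 1 : ℕ) : ℤ) = (i + (e : ℤ)) + 1 := by push_cast; ring
    rw [hdeg] at hx
    have h1 := mem_closure_products hstd (show 0 ≤ i + (e : ℤ) by omega) hx
    refine AddSubgroup.closure_induction (p := fun z _ => z ∈ AddSubgroup.closure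
      {z : R | ∃ u ∈ 𝒜 i, ∃ y ∈ 𝒜 ((e + 1 : ℕ) : ℤ), z = u * y}) ?_ ?_ ?_ ?_ h1
    · rintro z ⟨u', hu', y₁, hy₁, rfl⟩
      have h2 := ih i hi u' hu'
      refine AddSubgroup.closure_induction (p := fun v _ => v * y₁ ∈ AddSubgroup.closure
        {z : R | ∃ u ∈ 𝒜 i, ∃ y ∈ 𝒜 ((e + 1 : ℕ) : ℤ), z = u * y}) ?_ ?_ ?_ ?_ h2
      · rintro v ⟨u, hu, y, hy, rfl⟩
        refine AddSubgroup.subset_closure ⟨u, hu, y * y₁, ?_, mul_assoc u y y₁⟩
        have := SetLike.mul_mem_graded (A := 𝒜) hy hy₁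
        rwa [show ((e : ℤ) + 1) = ((e + 1 : ℕ) : ℤ) by push_cast; ring] at this
      · rw [zero_mul]
        exact zero_mem _
      · intro v v' _ _ hv hv'
        rw [add_mul]
        exact add_mem hv hv'
      · intro v _ hv
        rw [neg_mul]
        exact neg_mem hv
    · exact zero_mem _
    · intro z z' _ _ hz hz'
      exact add_mem hz hz'
    · intro z _ hz
      exact neg_mem hz

end Std

end Groth.Agent.Helper20.GrDual
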