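import Mathlib
import Groth.Prelude
import Groth.Agent.Lib.Helper20.GrDual1

/-!
# Perfect pairings between the pieces of a graded ring and of a graded module (helper20)
-/

set_option autoImplicit false

open DirectSum

namespace Groth.Agent.Helper20.GrDual

open Groth.Agent.Helper20.GrInj Groth.Agent.Helper8 Groth.Agent.Helper20.GorBr
  Groth.Agent.Helper20.GorType

universe u

section PP

variable {R : Type u} [CommRing R] [IsNoetherianRing R] {𝒜 : ℤ → AddSubgroup R} [GradedRing 𝒜]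
variable (h0 : IsField (GrLC.deg0 𝒜))
variable {X : Type u} [AddCommGroup X] [Module R X] {𝒳 : ℤ → AddSubgroup X}
  [SetLike.GradedSMul 𝒜 𝒳]
  (hsm : ∀ (i j : ℤ) (r : R) (w : X), r ∈ 𝒜 i → w ∈ 𝒳 j → r • w ∈ 𝒳 (i + j))
  (c : ℤ) (ξ : X) (hξ : ξ ∈ 𝒳 c) (hξ0 : ξ ≠ 0) (hξgen : ∀ x ∈ 𝒳 c, ∃ a ∈ 𝒜 0, x = a • ξ)

include h0 hsm hξ hξ0 hξgen in
/-- if the pairing `R_d × X_{c-d} → X_c` into the line `X_c` is nondegenerate on both sides,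
every `R_0`-linear map `X_{c-d} → X_c` is multiplication by an element of `R_d` -/
theorem exists_smul_eq_of_map (d : ℤ)
    (H2 : ∀ x ∈ 𝒳 (c - d), x ≠ 0 → ∃ r ∈ 𝒜 d, r • x ≠ 0)
    (H3 : ∀ r ∈ 𝒜 d, r ≠ 0 → ∃ x ∈ 𝒳 (c - d), r • x ≠ 0)
    (φ : X → X)
    (hφadd : ∀ x ∈ 𝒳 (c - d), ∀ x' ∈ 𝒳 (c - d), φ (x + x') = φ x + φ x')
    (hφsm : ∀ a ∈ 𝒜 0, ∀ x ∈ 𝒳 (c - d), φ (a • x) = a • φ x)
    (hφmem : ∀ x ∈ 𝒳 (c - d), φ x ∈ 𝒳 c) :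
    ∃ r ∈ 𝒜 d, ∀ x ∈ 𝒳 (c - d), φ x = r • x := by
  classical
  letI : Field ↥(GrLC.deg0 𝒜) := h0.toField
  haveI : IsNoetherian (GrLC.deg0 𝒜) (GrLC.comp 𝒜 𝒜 d) := comp_isNoetherian (𝒜 := 𝒜) (ℳ := 𝒜) d
  haveI : Module.Finite ↥(GrLC.deg0 𝒜) ↥(GrLC.comp 𝒜 𝒜 d) := Module.IsNoetherian.finite _ _
  -- the top piece is a line
  have hL : Module.finrank (GrLC.deg0 𝒜) (GrLC.comp 𝒜 𝒳 c) = 1 := by
    refine finrank_eq_one (⟨ξ, hξ⟩ : GrLC.comp 𝒜 𝒳 c) (fun h => hξ0 (congrArg Subtype.val h)) ?_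
    intro w
    obtain ⟨a, ha, haw⟩ := hξgen w.1 w.2
    exact ⟨⟨a, ha⟩, Subtype.ext haw.symm⟩
  haveI : Module.Finite ↥(GrLC.deg0 𝒜) ↥(GrLC.comp 𝒜 𝒳 c) :=
    Module.finite_of_finrank_pos (by rw [hL]; exact Nat.one_pos)
  -- the pairing
  have hmemB : ∀ (r : GrLC.comp 𝒜 𝒜 d) (h : GrLC.comp 𝒜 𝒳 (c - d)),
      (r : R) • (h : X) ∈ GrLC.comp 𝒜 𝒳 c := by
    intro r h
    have := hsm d (c - d) r.1 h.1 r.2 h.2
    rwa [show d + (c - d) = c by ring] at this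
  let B : ↥(GrLC.comp 𝒜 𝒜 d) →ₗ[GrLC.deg0 𝒜] ↥(GrLC.comp 𝒜 𝒳 (c - d)) →ₗ[GrLC.deg0 𝒜]
      ↥(GrLC.comp 𝒜 𝒳 c) :=
    LinearMap.mk₂ (GrLC.deg0 𝒜) (fun r h => ⟨(r : R) • (h : X), hmemB r h⟩)
      (fun r r' h => Subtype.ext (add_smul (r : R) (r' : R) (h : X)))
      (fun a r h => Subtype.ext (by
        show ((a : R) * (r : R)) • (h : X) = (a : R) • ((r : R) • (h : X))
        rw [mul_smul]))
      (fun r h h' => Subtype.ext (smul_add (r : R) (h : X) (h' : X)))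
      (fun a r h => Subtype.ext (by
        show (r : R) • ((a : R) • (h : X)) = (a : R) • ((r : R) • (h : X))
        rw [smul_comm]))
  have hB1 : Function.Injective B := by
    rw [injective_iff_map_eq_zero]
    intro r hr
    by_contra hne
    have hr0 : (r : R) ≠ 0 := fun h => hne (Subtype.ext h)
    obtain ⟨h, hh, hrh⟩ := H3 r.1 r.2 hr0
    apply hrh
    have := congrArg (fun f => ((f ⟨h, hh⟩ : GrLC.comp 𝒜 𝒳 c) : X)) hr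
    exact this
  have hB2 : Function.Injective B.flip := by
    rw [injective_iff_map_eq_zero]
    intro h hh
    by_contra hne
    have hh0 : (h : X) ≠ 0 := fun h' => hne (Subtype.ext h')
    obtain ⟨r, hr, hrh⟩ := H2 h.1 h.2 hh0
    apply hrh
    have := congrArg (fun f => ((f ⟨r, hr⟩ : GrLC.comp 𝒜 𝒳 c) : X)) hh
    exact this
  haveI : Module.Finite ↥(GrLC.deg0 𝒜) ↥(GrLC.comp 𝒜 𝒳 (c - d)) :=
    Module.Finite.of_injective B.flip hB2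
  have hfin := finrank_eq_of_pairing hL B hB1 hB2
  have hfin2 : Module.finrank (GrLC.deg0 𝒜) (GrLC.comp 𝒜 𝒜 d) =
      Module.finrank (GrLC.deg0 𝒜)
        (↥(GrLC.comp 𝒜 𝒳 (c - d)) →ₗ[GrLC.deg0 𝒜] ↥(GrLC.comp 𝒜 𝒳 c)) := by
    rw [Module.finrank_linearMap, hL, mul_one, hfin]
  have hsurj : Function.Surjective B := by
    have h1 := @LinearMap.injective_iff_surjective_of_finrank_eq_finrank (GrLC.deg0 𝒜)
      (GrLC.comp 𝒜 𝒜 d) _ _ _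
      (↥(GrLC.comp 𝒜 𝒳 (c - d)) →ₗ[GrLC.deg0 𝒜] ↥(GrLC.comp 𝒜 𝒳 c)) _ _ _ _ hfin2 B
    exact h1.1 hB1
  let φ' : ↥(GrLC.comp 𝒜 𝒳 (c - d)) →ₗ[GrLC.deg0 𝒜] ↥(GrLC.comp 𝒜 𝒳 c) :=
    { toFun := fun v => ⟨φ v.1, hφmem v.1 v.2⟩
      map_add' := fun v v' => Subtype.ext (hφadd v.1 v.2 v'.1 v'.2)
      map_smul' := fun a v => Subtype.ext (hφsm a.1 a.2 v.1 v.2) }
  obtain ⟨r, hr⟩ := hsurj φ'
  refine ⟨r.1, r.2, fun x hx => ?_⟩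
  have := congrArg (fun f => ((f ⟨x, hx⟩ : GrLC.comp 𝒜 𝒳 c) : X)) hr
  exact this.symm

end PP

end Groth.Agent.Helper20.GrDual
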