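import Mathlib
import Groth.Prelude
import Groth.Agent.Lib.Helper20.GrDual2

/-!
# Functionals on the pieces of the top local cohomology of a standard graded ring of depth two
are multiplications (helper20)
-/

set_option autoImplicit false

open DirectSum

namespace Groth.Agent.Helper20.GrDual

open Groth.Agent.Helper20.GrInj Groth.Agent.Helper8 Groth.Agent.Helper20.GorBr
  Groth.Agent.Helper20.GorType

universe u

section Main

variable {R : Type u} [CommRing R] [IsNoetherianRing R] {𝒜 : ℤ → AddSubgroup R} [GradedRing 𝒜]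
variable (h0 : IsField (GrLC.deg0 𝒜))
  (hstd : Ideal.span (⋃ n ∈ Set.Ioi (0 : ℤ), (𝒜 n : Set R)) =
    Ideal.span ((𝒜 1 : AddSubgroup R) : Set R))
  (hdepth : ∀ N : ℤ, ∃ x y : R, x ∈ Ideal.span (⋃ i ∈ Set.Ici N, (𝒜 i : Set R)) ∧
    y ∈ Ideal.span (⋃ i ∈ Set.Ici N, (𝒜 i : Set R)) ∧ (∀ r : R, x * r = 0 → r = 0) ∧
    (∀ r : R, (∃ s, y * r = x * s) → ∃ s, r = x * s))
variable {X : Type u} [AddCommGroup X] [Module R X] {𝒳 : ℤ → AddSubgroup X}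
  [SetLike.GradedSMul 𝒜 𝒳]
  (hsm : ∀ (i j : ℤ) (r : R) (w : X), r ∈ 𝒜 i → w ∈ 𝒳 j → r • w ∈ 𝒳 (i + j))
  (hdiv : ∀ (j : ℤ) (x : X), x ∈ 𝒳 j →
    x ∈ AddSubgroup.closure {z : X | ∃ r ∈ 𝒜 1, ∃ y ∈ 𝒳 (j - 1), z = r • y})
  (q : ℕ) (hq : 0 < q) (c : ℤ)
  (ξ : X) (hξ : ξ ∈ 𝒳 c) (hξ0 : ξ ≠ 0) (hξgen : ∀ x ∈ 𝒳 c, ∃ a ∈ 𝒜 0, x = a • ξ)
  (H2 : ∀ (d : ℤ), 0 ≤ d → (q : ℤ) ∣ d → ∀ x ∈ 𝒳 (c - d), x ≠ 0 → ∃ r ∈ 𝒜 d, r • x ≠ 0)
  (H3 : ∀ (d : ℤ), 0 ≤ d → (q : ℤ) ∣ d → ∀ r ∈ 𝒜 d, r ≠ 0 → ∃ x ∈ 𝒳 (c - d), r • x ≠ 0)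

include hsm hdiv in
theorem hdiv_pow : ∀ (i : ℕ) (j : ℤ) (x : X), x ∈ 𝒳 j →
    x ∈ AddSubgroup.closure {z : X | ∃ r ∈ 𝒜 (i : ℤ), ∃ y ∈ 𝒳 (j - i), z = r • y} := by
  intro i
  induction i with
  | zero =>
    intro j x hx
    refine AddSubgroup.subset_closure ⟨1, ?_, x, ?_, (one_smul R x).symm⟩
    · rw [Nat.cast_zero]
      exact SetLike.GradedOne.one_mem
    · rwa [Nat.cast_zero, sub_zero]
  | succ i ih =>
    intro j x hx
    refine AddSubgroup.closure_induction (p := fun z _ => z ∈ AddSubgroup.closure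
      {z : X | ∃ r ∈ 𝒜 ((i + 1 : ℕ) : ℤ), ∃ y ∈ 𝒳 (j - ((i + 1 : ℕ) : ℤ)), z = r • y})
      ?_ ?_ ?_ ?_ (hdiv j x hx)
    · rintro z ⟨r, hr, y, hy, rfl⟩
      refine AddSubgroup.closure_induction (p := fun v _ => r • v ∈ AddSubgroup.closure
        {z : X | ∃ r ∈ 𝒜 ((i + 1 : ℕ) : ℤ), ∃ y ∈ 𝒳 (j - ((i + 1 : ℕ) : ℤ)), z = r • y})
        ?_ ?_ ?_ ?_ (ih (j - 1) y hy)
      · rintro v ⟨r', hr', y', hy', rfl⟩
        refine AddSubgroup.subset_closure ⟨r * r', ?_, y', ?_, (mul_smul r r' y').symm⟩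
        · have := SetLike.mul_mem_graded (A := 𝒜) hr hr'
          rwa [show (1 : ℤ) + (i : ℤ) = ((i + 1 : ℕ) : ℤ) by push_cast; ring] at this
        · rwa [show j - ((i + 1 : ℕ) : ℤ) = j - 1 - (i : ℤ) by push_cast; ring]
      · rw [smul_zero]
        exact zero_mem _
      · intro v v' _ _ hv hv'
        rw [smul_add]
        exact add_mem hv hv'
      · intro v _ hv
        rw [smul_neg]
        exact neg_mem hv
    · exact zero_mem _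
    · intro z z' _ _ hz hz'
      exact add_mem hz hz'
    · intro z _ hz
      exact neg_mem hz

include hstd hdepth hq H3 in
/-- an element of `R_D` killing, after multiplication by `R_e`, the pieces `X_{c-D-e}` for all
`e` with `q ∣ D + e`, vanishes -/
theorem eq_zero_of_forall_smul {D : ℤ} (hD : 0 ≤ D) {δ : R} (hδ : δ ∈ 𝒜 D)
    (h : ∀ e : ℤ, 0 ≤ e → (q : ℤ) ∣ D + e → ∀ y ∈ 𝒜 e, ∀ x ∈ 𝒳 (c - (D + e)),
      (y * δ) • x = 0) : δ = 0 := by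
  -- `y δ = 0` for `y` homogeneous of degree `e` in the right class
  have h1 : ∀ e : ℤ, 0 ≤ e → (q : ℤ) ∣ D + e → ∀ y ∈ 𝒜 e, y * δ = 0 := by
    intro e he hqe y hy
    by_contra hne
    have hmem : y * δ ∈ 𝒜 (D + e) := by
      have := SetLike.mul_mem_graded (A := 𝒜) hy hδ
      rwa [add_comm] at this
    obtain ⟨x, hx, hxne⟩ := H3 (D + e) (by omega) hqe (y * δ) hmem hne
    exact hxne (h e he hqe y hy x hx)
  -- a degree in the right class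
  obtain ⟨e₁, he₁, hqe₁⟩ : ∃ e₁ : ℤ, 0 ≤ e₁ ∧ (q : ℤ) ∣ D + e₁ := by
    have hqpos : (0 : ℤ) < (q : ℤ) := by exact_mod_cast hq
    refine ⟨(-D) % (q : ℤ), Int.emod_nonneg _ (by omega), ?_⟩
    have := Int.emod_emod_of_dvd (-D) (dvd_refl (q : ℤ))
    have h2 : (q : ℤ) ∣ (-D) % (q : ℤ) - (-D) := by
      have := Int.emod_def (-D) (q : ℤ)
      rw [this]
      exact ⟨-((-D) / (q : ℤ)), by ring⟩
    have h3 : D + (-D) % (q : ℤ) = (-D) % (q : ℤ) - (-D) := by ring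
    rw [h3]
    exact h2
  -- all homogeneous elements of degree `≥ e₁` kill `δ`
  have h2 : ∀ i : ℤ, e₁ ≤ i → ∀ y ∈ 𝒜 i, y * δ = 0 := by
    intro i hi y hy
    obtain ⟨e', he'⟩ : ∃ e' : ℕ, (e' : ℤ) = e₁ := ⟨e₁.toNat, Int.toNat_of_nonneg he₁⟩
    have hy' : y ∈ 𝒜 ((i - e₁) + (e' : ℤ)) := by
      rw [he']
      rwa [sub_add_cancel]
    have hcl := mem_closure_mul hstd e' (i - e₁) (by omega) y hy'
    refine AddSubgroup.closure_induction (p := fun z _ => z * δ = 0) ?_ ?_ ?_ ?_ hcl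
    · rintro z ⟨u, -, y₁, hy₁, rfl⟩
      rw [he'] at hy₁
      rw [mul_assoc, h1 e₁ he₁ hqe₁ y₁ hy₁, mul_zero]
    · exact zero_mul δ
    · intro z z' _ _ hz hz'
      rw [add_mul, hz, hz', add_zero]
    · intro z _ hz
      rw [neg_mul, hz, neg_zero]
  have h3 : ∀ z ∈ Ideal.span (⋃ i ∈ Set.Ici e₁, (𝒜 i : Set R)), z * δ = 0 := by
    intro z hz
    induction hz using Submodule.span_induction with
    | mem z hz =>
      rw [Set.mem_iUnion₂] at hz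
      obtain ⟨i, hi, hzi⟩ := hz
      exact h2 i hi z hzi
    | zero => exact zero_mul δ
    | add z z' _ _ hz hz' => rw [add_mul, hz, hz', add_zero]
    | smul a z _ hz => rw [smul_eq_mul, mul_assoc, hz, mul_zero]
  obtain ⟨x₀, -, hx₀, -, hx₀reg, -⟩ := hdepth e₁
  exact hx₀reg δ (h3 x₀ hx₀)

/-- the defining property of `ρ(t)` for `t` homogeneous of degree `i` -/
def RhoProp (𝒜 : ℤ → AddSubgroup R) (𝒳 : ℤ → AddSubgroup X) (q : ℕ) (c j : ℤ) (w : X → X)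
    (i : ℤ) (t ρ : R) : Prop :=
  ∀ e : ℤ, 0 ≤ e → (q : ℤ) ∣ c - j + i + e → ∀ y ∈ 𝒜 e, ∀ x ∈ 𝒳 (c - (c - j + i + e)),
    w (y • t • x) = (y * ρ) • x

section W

variable (j : ℤ) (w : X → X)
  (hwadd : ∀ x ∈ 𝒳 j, ∀ x' ∈ 𝒳 j, w (x + x') = w x + w x')
  (hwsm : ∀ a ∈ 𝒜 0, ∀ x ∈ 𝒳 j, w (a • x) = a • w x)
  (hwmem : ∀ x ∈ 𝒳 j, w x ∈ 𝒳 c)

include hwadd in
theorem w_zero : w 0 = 0 := by
  have h := hwadd 0 (zero_mem _) 0 (zero_mem _)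
  rw [add_zero] at h
  exact left_eq_add.1 h

include hwadd in
theorem w_neg (x : X) (hx : x ∈ 𝒳 j) : w (-x) = -w x := by
  have h := hwadd x hx (-x) (neg_mem hx)
  rw [add_neg_cancel, w_zero j w hwadd] at h
  exact (neg_eq_of_add_eq_zero_right h.symm).symm

include hsm in
theorem smul_smul_mem {i e : ℤ} {t y : R} (ht : t ∈ 𝒜 i) (hy : y ∈ 𝒜 e) {x : X}
    (hx : x ∈ 𝒳 (c - (c - j + i + e))) : y • t • x ∈ 𝒳 j := by
  have h1 := hsm i _ t x ht hx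
  have h2 := hsm e _ y _ hy h1
  rwa [show e + (i + (c - (c - j + i + e))) = j by ring] at h2

include hstd hdepth hq H3 in
theorem rhoProp_unique {i : ℤ} (hi : 0 ≤ c - j + i) {t ρ ρ' : R} (hρ : ρ ∈ 𝒜 (c - j + i))
    (hρ' : ρ' ∈ 𝒜 (c - j + i)) (h : RhoProp 𝒜 𝒳 q c j w i t ρ)
    (h' : RhoProp 𝒜 𝒳 q c j w i t ρ') : ρ = ρ' := by
  have := eq_zero_of_forall_smul hstd hdepth q hq c H3 hi (sub_mem hρ hρ') (by
    intro e he hqe y hy x hx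
    rw [mul_sub, sub_smul, ← h e he hqe y hy x hx, ← h' e he hqe y hy x hx, sub_self])
  exact sub_eq_zero.1 this

include h0 hsm hξ hξ0 hξgen H2 H3 hwadd hwsm hwmem in
theorem exists_f (d : ℤ) (hd : 0 ≤ d) (hqd : (q : ℤ) ∣ d) (z : R) (hz : z ∈ 𝒜 (d - c + j)) :
    ∃ f ∈ 𝒜 d, ∀ x ∈ 𝒳 (c - d), w (z • x) = f • x := by
  have hzx : ∀ x ∈ 𝒳 (c - d), z • x ∈ 𝒳 j := fun x hx => by
    have := hsm _ _ z x hz hx
    rwa [show d - c + j + (c - d) = j by ring] at this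
  refine exists_smul_eq_of_map h0 hsm c ξ hξ hξ0 hξgen d (H2 d hd hqd) (H3 d hd hqd)
    (fun x => w (z • x)) ?_ ?_ ?_
  · intro x hx x' hx'
    show w (z • (x + x')) = w (z • x) + w (z • x')
    rw [smul_add]
    exact hwadd _ (hzx x hx) _ (hzx x' hx')
  · intro a ha x hx
    show w (z • a • x) = a • w (z • x)
    rw [smul_comm]
    exact hwsm a ha _ (hzx x hx)
  · intro x hx
    exact hwmem _ (hzx x hx)

include hsm in
theorem rhoProp_mul {l e₀ : ℤ} {u y₀ f : R} (hy₀ : y₀ ∈ 𝒜 e₀)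
    (hf : ∀ x ∈ 𝒳 (c - (c - j + l)), w (u • x) = f • x) :
    RhoProp 𝒜 𝒳 q c j w (l + e₀) (u * y₀) (y₀ * f) := by
  intro e he hqe y hy x hx
  have h1 : y • (u * y₀) • x = u • (y * y₀) • x := by
    rw [smul_smul, smul_smul]
    congr 1
    ring
  have h2 : (y * y₀) • x ∈ 𝒳 (c - (c - j + l)) := by
    have := hsm (e + e₀) _ (y * y₀) x (SetLike.mul_mem_graded hy hy₀) hx
    rwa [show e + e₀ + (c - (c - j + (l + e₀) + e)) = c - (c - j + l) by ring] at this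
  rw [h1, hf _ h2, smul_smul]
  congr 1
  ring

include hsm hwadd in
theorem rhoProp_zero (i : ℤ) : RhoProp 𝒜 𝒳 q c j w i 0 0 := by
  intro e he hqe y hy x hx
  rw [zero_smul, smul_zero, mul_zero, zero_smul]
  exact w_zero j w hwadd

include hsm hwadd in
theorem rhoProp_add {i : ℤ} {t t' ρ ρ' : R} (ht : t ∈ 𝒜 i) (ht' : t' ∈ 𝒜 i)
    (h : RhoProp 𝒜 𝒳 q c j w i t ρ) (h' : RhoProp 𝒜 𝒳 q c j w i t' ρ') :
    RhoProp 𝒜 𝒳 q c j w i (t + t') (ρ + ρ') := by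
  intro e he hqe y hy x hx
  rw [add_smul, smul_add, hwadd _ (smul_smul_mem hsm c j ht hy hx) _
    (smul_smul_mem hsm c j ht' hy hx), h e he hqe y hy x hx, h' e he hqe y hy x hx, mul_add,
    add_smul]

include hsm hwadd in
theorem rhoProp_neg {i : ℤ} {t ρ : R} (ht : t ∈ 𝒜 i)
    (h : RhoProp 𝒜 𝒳 q c j w i t ρ) : RhoProp 𝒜 𝒳 q c j w i (-t) (-ρ) := by
  intro e he hqe y hy x hx
  rw [neg_smul, smul_neg, w_neg j w hwadd _ (smul_smul_mem hsm c j ht hy hx),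
    h e he hqe y hy x hx, mul_neg, neg_smul]

include h0 hstd hsm hq hξ hξ0 hξgen H2 H3 hwadd hwsm hwmem in
/-- existence of `ρ(t)` for `t` homogeneous of large degree -/
theorem exists_rho {i : ℤ} (hi1 : (q : ℤ) ≤ i) (hi2 : j - c + (q : ℤ) ≤ i) {t : R}
    (ht : t ∈ 𝒜 i) : ∃ ρ ∈ 𝒜 (c - j + i), RhoProp 𝒜 𝒳 q c j w i t ρ := by
  have hqpos : (0 : ℤ) < (q : ℤ) := by exact_mod_cast hq
  set e₀ : ℤ := (c - j + i) % (q : ℤ) with he₀
  have he₀0 : 0 ≤ e₀ := Int.emod_nonneg _ (by omega)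
  have he₀q : e₀ < (q : ℤ) := Int.emod_lt_of_pos _ hqpos
  set l : ℤ := i - e₀ with hl
  have hl0 : 0 ≤ l := by omega
  have hil : i = l + e₀ := by omega
  have hd0 : 0 ≤ c - j + l := by omega
  have hqd : (q : ℤ) ∣ c - j + l := by
    have h1 : c - j + l = c - j + i - (c - j + i) % (q : ℤ) := by omega
    rw [h1, Int.emod_def]
    exact ⟨(c - j + i) / (q : ℤ), by ring⟩
  obtain ⟨e', he'⟩ : ∃ e' : ℕ, (e' : ℤ) = e₀ := ⟨e₀.toNat, Int.toNat_of_nonneg he₀0⟩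
  have ht' : t ∈ 𝒜 (l + (e' : ℤ)) := by
    rw [he', ← hil]
    exact ht
  have hcl := mem_closure_mul hstd e' l hl0 t ht'
  have key : t ∈ 𝒜 i ∧ ∃ ρ ∈ 𝒜 (c - j + i), RhoProp 𝒜 𝒳 q c j w i t ρ := by
    refine AddSubgroup.closure_induction (p := fun t _ => t ∈ 𝒜 i ∧
      ∃ ρ ∈ 𝒜 (c - j + i), RhoProp 𝒜 𝒳 q c j w i t ρ) ?_ ?_ ?_ ?_ hcl
    · rintro _ ⟨u, hu, y₀, hy₀, rfl⟩
      rw [he'] at hy₀
      have hu' : u ∈ 𝒜 (c - j + l - c + j) := by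
        rwa [show c - j + l - c + j = l by ring]
      obtain ⟨f, hf, hfx⟩ := exists_f h0 hsm q c ξ hξ hξ0 hξgen H2 H3 j w hwadd hwsm hwmem
        (c - j + l) hd0 hqd u hu'
      refine ⟨?_, y₀ * f, ?_, ?_⟩
      · rw [hil]
        exact SetLike.mul_mem_graded hu hy₀
      · have := SetLike.mul_mem_graded (A := 𝒜) hy₀ hf
        rwa [show e₀ + (c - j + l) = c - j + i by omega] at this
      · have := rhoProp_mul (q := q) hsm c j w hy₀ hfx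
        rwa [← hil] at this
    · exact ⟨zero_mem _, 0, zero_mem _, rhoProp_zero hsm q c j w hwadd i⟩
    · rintro t₁ t₂ _ _ ⟨ht₁, ρ₁, hρ₁, h₁⟩ ⟨ht₂, ρ₂, hρ₂, h₂⟩
      exact ⟨add_mem ht₁ ht₂, ρ₁ + ρ₂, add_mem hρ₁ hρ₂, rhoProp_add hsm q c j w hwadd ht₁ ht₂ h₁ h₂⟩
    · rintro t₁ _ ⟨ht₁, ρ₁, hρ₁, h₁⟩
      exact ⟨neg_mem ht₁, -ρ₁, neg_mem hρ₁, rhoProp_neg hsm q c j w hwadd ht₁ h₁⟩
  exact key.2

include hsm in
/-- `RhoProp` is compatible with multiplication by homogeneous elements -/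
theorem rhoProp_mul_left {i i' : ℤ} (hi : 0 ≤ i) {t t' ρ' : R} (ht : t ∈ 𝒜 i)
    (h' : RhoProp 𝒜 𝒳 q c j w i' t' ρ') :
    RhoProp 𝒜 𝒳 q c j w (i + i') (t * t') (t * ρ') := by
  intro e he hqe y hy x hx
  have h1 : y • (t * t') • x = (y * t) • t' • x := by
    rw [smul_smul, smul_smul, mul_assoc]
  have h2 : (q : ℤ) ∣ c - j + i' + (e + i) := by
    rwa [show c - j + i' + (e + i) = c - j + (i + i') + e by ring]
  have hx' : x ∈ 𝒳 (c - (c - j + i' + (e + i))) := by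
    rwa [show c - (c - j + i' + (e + i)) = c - (c - j + (i + i') + e) by ring]
  rw [h1, h' (e + i) (by omega) h2 (y * t) (SetLike.mul_mem_graded hy ht) x hx', mul_assoc]

include h0 hstd hdepth hsm hdiv hq hξ hξ0 hξgen H2 H3 hwadd hwsm hwmem in
/-- **every `R_0`-linear map `X_j → X_c` is multiplication by an element of `R_{c-j}`** -/
theorem exists_smul_eq_of_functional :
    ∃ ρ₀ ∈ 𝒜 (c - j), ∀ x ∈ 𝒳 j, w x = ρ₀ • x := by
  classical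
  have hqpos : (0 : ℤ) < (q : ℤ) := by exact_mod_cast hq
  set N : ℤ := max (q : ℤ) (j - c + (q : ℤ)) with hN
  have hN1 : (q : ℤ) ≤ N := le_max_left _ _
  have hN2 : j - c + (q : ℤ) ≤ N := le_max_right _ _
  let ι := Σ i : {i : ℤ // N ≤ i}, ↥(𝒜 i.1)
  let g : ι → R := fun a => (a.2 : R)
  have hex : ∀ a : ι, ∃ ρ ∈ 𝒜 (c - j + a.1.1), RhoProp 𝒜 𝒳 q c j w a.1.1 (g a) ρ := fun a =>
    exists_rho h0 hstd hsm q hq c ξ hξ hξ0 hξgen H2 H3 j w hwadd hwsm hwmem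
      (le_trans hN1 a.1.2) (le_trans hN2 a.1.2) a.2.2
  choose ρ hρmem hρP using hex
  have hsymm : ∀ a b : ι, g a * ρ b = g b * ρ a := by
    intro a b
    have ha0 : 0 ≤ a.1.1 := by have := a.1.2; omega
    have hb0 : 0 ≤ b.1.1 := by have := b.1.2; omega
    have ha1 : j - c + (q : ℤ) ≤ a.1.1 := le_trans hN2 a.1.2
    have h1 := rhoProp_mul_left (q := q) hsm c j w ha0 a.2.2 (hρP b)
    have h2 := rhoProp_mul_left (q := q) hsm c j w hb0 b.2.2 (hρP a)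
    rw [add_comm b.1.1 a.1.1, mul_comm (b.2 : R) (g a)] at h2
    have m1 : g a * ρ b ∈ 𝒜 (c - j + (a.1.1 + b.1.1)) := by
      have := SetLike.mul_mem_graded (A := 𝒜) a.2.2 (hρmem b)
      rwa [show a.1.1 + (c - j + b.1.1) = c - j + (a.1.1 + b.1.1) by ring] at this
    have m2 : g b * ρ a ∈ 𝒜 (c - j + (a.1.1 + b.1.1)) := by
      have := SetLike.mul_mem_graded (A := 𝒜) b.2.2 (hρmem a)
      rwa [show b.1.1 + (c - j + a.1.1) = c - j + (a.1.1 + b.1.1) by ring] at this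
    exact rhoProp_unique hstd hdepth q hq c H3 j w (i := a.1.1 + b.1.1) (by omega) m1 m2 h1 h2
  obtain ⟨x₀, y₀, hx₀, hy₀, hxreg, hyreg⟩ := hdepth N
  have hsub : Ideal.span (⋃ i ∈ Set.Ici N, (𝒜 i : Set R)) ≤ Ideal.span (Set.range g) := by
    apply Ideal.span_mono
    intro z hz
    rw [Set.mem_iUnion₂] at hz
    obtain ⟨i, hi, hzi⟩ := hz
    exact ⟨⟨⟨i, hi⟩, ⟨z, hzi⟩⟩, rfl⟩
  obtain ⟨r₀, hr₀⟩ := exists_mul_eq_of_regular_pair' g ρ hsymm (hsub hx₀) (hsub hy₀) hxreg hyreg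
  refine ⟨(decompose 𝒜 r₀ (c - j) : R), (decompose 𝒜 r₀ (c - j)).2, ?_⟩
  have hρ₀ : ∀ a : ι, ρ a = (decompose 𝒜 r₀ (c - j) : R) * g a := by
    intro a
    have h1 := DirectSum.coe_decompose_mul_add_of_right_mem 𝒜 (i := c - j) (a := r₀) a.2.2
    rw [← h1, ← hr₀ a, decompose_of_mem_same 𝒜 (hρmem a)]
  -- a suitable degree
  obtain ⟨i₁, hi₁N, hqi₁⟩ : ∃ i₁ : ℤ, N ≤ i₁ ∧ (q : ℤ) ∣ c - j + i₁ := by
    refine ⟨N + (-(c - j + N)) % (q : ℤ), ?_, ?_⟩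
    · have := Int.emod_nonneg (-(c - j + N)) (by omega : (q : ℤ) ≠ 0)
      omega
    · have h1 : c - j + (N + (-(c - j + N)) % (q : ℤ)) =
          (-(c - j + N)) % (q : ℤ) - (-(c - j + N)) := by ring
      rw [h1, Int.emod_def]
      exact ⟨-((-(c - j + N)) / (q : ℤ)), by ring⟩
  have hi₁0 : 0 ≤ i₁ := by omega
  obtain ⟨i', hi'⟩ : ∃ i' : ℕ, (i' : ℤ) = i₁ := ⟨i₁.toNat, Int.toNat_of_nonneg hi₁0⟩
  intro x hx
  have hcl := hdiv_pow hsm hdiv i' j x hx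
  have key : x ∈ 𝒳 j ∧ w x = (decompose 𝒜 r₀ (c - j) : R) • x := by
    refine AddSubgroup.closure_induction (p := fun z _ => z ∈ 𝒳 j ∧
      w z = (decompose 𝒜 r₀ (c - j) : R) • z) ?_ ?_ ?_ ?_ hcl
    · rintro _ ⟨r, hr, y, hy, rfl⟩
      rw [hi'] at hr hy
      have hmem : r • y ∈ 𝒳 j := by
        have := hsm _ _ r y hr hy
        rwa [show i₁ + (j - i₁) = j by ring] at this
      refine ⟨hmem, ?_⟩
      have hy' : y ∈ 𝒳 (c - (c - j + i₁ + 0)) := by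
        rwa [show c - (c - j + i₁ + 0) = j - i₁ by ring]
      have h1 := hρP ⟨⟨i₁, hi₁N⟩, ⟨r, hr⟩⟩ 0 le_rfl (by rwa [add_zero])
        1 SetLike.GradedOne.one_mem y hy'
      rw [one_smul, one_mul, hρ₀] at h1
      rw [h1, mul_smul]
    · refine ⟨zero_mem _, ?_⟩
      rw [w_zero j w hwadd, smul_zero]
    · rintro z z' _ _ ⟨hz, hwz⟩ ⟨hz', hwz'⟩
      refine ⟨add_mem hz hz', ?_⟩
      rw [hwadd z hz z' hz', hwz, hwz', smul_add]
    · rintro z _ ⟨hz, hwz⟩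
      refine ⟨neg_mem hz, ?_⟩
      rw [w_neg j w hwadd z hz, hwz, smul_neg]
  exact key.2

end W

end Main

end Groth.Agent.Helper20.GrDual
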