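import Mathlib
import Groth.Prelude
import Groth.Agent.Lib.Helper20.GrDual3
import Groth.Agent.Lib.Helper20.GrSS2

/-!
# A converse Gorenstein criterion: partial duality on the top local cohomology (helper20)
-/

set_option autoImplicit false

open DirectSum

namespace Groth.Agent.Helper20.GrDual

open Groth.Agent.Helper20.GrInj Groth.Agent.Helper8 Groth.Agent.Helper20.GorBr
  Groth.Agent.Helper20.GorType

universe u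

section Cor

variable {R : Type u} [CommRing R] [IsNoetherianRing R] {𝒜 : ℤ → AddSubgroup R} [GradedRing 𝒜]
variable (hpos : ∀ n : ℤ, n < 0 → 𝒜 n = ⊥) (h0 : IsField (GrLC.deg0 𝒜))
  (m : HomogeneousIdeal 𝒜)
  (hmsp : m.toIdeal = Ideal.span (⋃ n ∈ Set.Ioi (0 : ℤ), (𝒜 n : Set R)))
  (hstd : Ideal.span (⋃ n ∈ Set.Ioi (0 : ℤ), (𝒜 n : Set R)) =
    Ideal.span ((𝒜 1 : AddSubgroup R) : Set R))
  (hdepth : ∀ N : ℤ, ∃ x y : R, x ∈ Ideal.span (⋃ i ∈ Set.Ici N, (𝒜 i : Set R)) ∧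
    y ∈ Ideal.span (⋃ i ∈ Set.Ici N, (𝒜 i : Set R)) ∧ (∀ r : R, x * r = 0 → r = 0) ∧
    (∀ r : R, (∃ s, y * r = x * s) → ∃ s, r = x * s))
variable {X : Type u} [AddCommGroup X] [Module R X] {𝒳 : ℤ → AddSubgroup X}
  [SetLike.GradedSMul 𝒜 𝒳]
  (hsm : ∀ (i j : ℤ) (r : R) (w : X), r ∈ 𝒜 i → w ∈ 𝒳 j → r • w ∈ 𝒳 (i + j))
  (hdiv : ∀ (j : ℤ) (x : X), x ∈ 𝒳 j →
    x ∈ AddSubgroup.closure {z : X | ∃ r ∈ 𝒜 1, ∃ y ∈ 𝒳 (j - 1), z = r • y})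
  (q : ℕ) (hq : 0 < q) (c : ℤ)
  (ξ : X) (hξ : ξ ∈ 𝒳 c) (hξ0 : ξ ≠ 0) (hξgen : ∀ x ∈ 𝒳 c, ∃ a ∈ 𝒜 0, x = a • ξ)
  (H2 : ∀ (d : ℤ), 0 ≤ d → (q : ℤ) ∣ d → ∀ x ∈ 𝒳 (c - d), x ≠ 0 → ∃ r ∈ 𝒜 d, r • x ≠ 0)
  (H3 : ∀ (d : ℤ), 0 ≤ d → (q : ℤ) ∣ d → ∀ r ∈ 𝒜 d, r ≠ 0 → ∃ x ∈ 𝒳 (c - d), r • x ≠ 0)

include h0 hstd hdepth hsm hdiv hq hξ hξ0 hξgen H2 H3 in
/-- **full nondegeneracy**: a nonzero element of degree `j` is not killed by `R_{c-j}` -/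
theorem exists_smul_ne_zero_of_partial (j : ℤ) (x : X) (hx : x ∈ 𝒳 j) (hx0 : x ≠ 0) :
    ∃ ρ₀ ∈ 𝒜 (c - j), ρ₀ • x ≠ 0 := by
  classical
  letI : Field ↥(GrLC.deg0 𝒜) := h0.toField
  have hx0' : (⟨x, hx⟩ : GrLC.comp 𝒜 𝒳 j) ≠ 0 := fun h => hx0 (congrArg Subtype.val h)
  obtain ⟨f, hf⟩ : ∃ f : Module.Dual (GrLC.deg0 𝒜) (GrLC.comp 𝒜 𝒳 j), f ⟨x, hx⟩ ≠ 0 := by
    by_contra hcon
    push Not at hcon
    exact hx0' ((Module.forall_dual_apply_eq_zero_iff (GrLC.deg0 𝒜) _).1 hcon)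
  let w : X → X := fun z => if hz : z ∈ 𝒳 j then ((f ⟨z, hz⟩ : GrLC.deg0 𝒜) : R) • ξ else 0
  have hw : ∀ (z : X) (hz : z ∈ 𝒳 j), w z = ((f ⟨z, hz⟩ : GrLC.deg0 𝒜) : R) • ξ := fun z hz =>
    dif_pos hz
  obtain ⟨ρ₀, hρ₀, hρ₀w⟩ := exists_smul_eq_of_functional h0 hstd hdepth hsm hdiv q hq c ξ hξ hξ0
    hξgen H2 H3 j w
    (by
      intro z hz z' hz'
      rw [hw z hz, hw z' hz', hw (z + z') (add_mem hz hz'), ← add_smul]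
      congr 1
      have : (⟨z + z', add_mem hz hz'⟩ : GrLC.comp 𝒜 𝒳 j) = ⟨z, hz⟩ + ⟨z', hz'⟩ := rfl
      rw [this, map_add]
      rfl)
    (by
      intro a ha z hz
      have hmem : a • z ∈ 𝒳 j := by
        have := hsm 0 j a z ha hz
        rwa [zero_add] at this
      rw [hw z hz, hw (a • z) hmem, smul_smul]
      congr 1
      have : (⟨a • z, hmem⟩ : GrLC.comp 𝒜 𝒳 j) = (⟨a, ha⟩ : GrLC.deg0 𝒜) • ⟨z, hz⟩ := rfl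
      rw [this, map_smul]
      rfl)
    (by
      intro z hz
      rw [hw z hz]
      have := hsm 0 c _ ξ (f ⟨z, hz⟩ : GrLC.deg0 𝒜).2 hξ
      rwa [zero_add] at this)
  refine ⟨ρ₀, hρ₀, fun h => ?_⟩
  have h1 := hρ₀w x hx
  rw [h, hw x hx] at h1
  -- `f x` is a unit of the field `R_0`
  obtain ⟨u, hu⟩ := h0.mul_inv_cancel hf
  apply hξ0
  have h2 : ((u : GrLC.deg0 𝒜) : R) • (((f ⟨x, hx⟩ : GrLC.deg0 𝒜) : R) • ξ) = ξ := by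
    rw [smul_smul]
    have : ((u : GrLC.deg0 𝒜) : R) * ((f ⟨x, hx⟩ : GrLC.deg0 𝒜) : R) = 1 := by
      rw [mul_comm]
      exact congrArg Subtype.val hu
    rw [this, one_smul]
  rw [← h2, h1, smul_zero]

include hpos h0 hmsp hstd hdepth hsm hdiv hq hξ hξ0 hξgen H2 H3 in
/-- **the socle is the line `X_c`** -/
theorem isSocAt_of_partial : IsSocAt 𝒜 m.toIdeal 𝒳 c := by
  have hnd := exists_smul_ne_zero_of_partial h0 hstd hdepth hsm hdiv q hq c ξ hξ hξ0 hξgen H2 H3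
  have htop : ∀ j, c < j → 𝒳 j = ⊥ := by
    intro j hj
    rw [eq_bot_iff]
    intro x hx
    rw [AddSubgroup.mem_bot]
    by_contra hx0
    obtain ⟨ρ₀, hρ₀, hne⟩ := hnd j x hx hx0
    rw [hpos (c - j) (by omega), AddSubgroup.mem_bot] at hρ₀
    rw [hρ₀, zero_smul] at hne
    exact hne rfl
  refine ⟨?_, ξ, hξ, hξ0, smul_eq_zero_of_top hpos m hmsp hsm htop hξ, fun x hx _ => hξgen x hx⟩
  intro j x hx hx0 hsoc
  obtain ⟨ρ₀, hρ₀, hne⟩ := hnd j x hx hx0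
  by_contra hjc
  rcases lt_or_gt_of_ne hjc with h | h
  · apply hne
    apply hsoc
    rw [hmsp]
    apply Ideal.subset_span
    rw [Set.mem_iUnion₂]
    exact ⟨c - j, by rw [Set.mem_Ioi]; omega, hρ₀⟩
  · rw [htop j h, AddSubgroup.mem_bot] at hx
    exact hx0 hx

end Cor

end Groth.Agent.Helper20.GrDual
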