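import Mathlib
import Groth.Prelude
import Groth.Agent.Lib.Helper20.GrDual4
import Groth.Agent.Lib.Helper20.GrSG10
import Groth.Agent.Lib.Helper20.GorVer1
import Groth.Agent.Lib.Helper8.LCRad

/-!
# The converse Gorenstein criterion for the top local cohomology of a standard graded
Cohen–Macaulay ring of dimension at least two (helper20)
-/

set_option autoImplicit false

open DirectSum

namespace Groth.Agent.Helper20.GrDual

open Groth.Agent.Helper20.GrInj Groth.Agent.Helper8 Groth.Agent.Helper20.GorBr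
  Groth.Agent.Helper20.GorType

universe u

section RegPairCM

variable {R : Type u} [CommRing R] {𝒜 : ℤ → AddSubgroup R} [GradedRing 𝒜]

/-- **a regular sequence of length two in high degrees** of a Cohen–Macaulay positively graded
*local ring of dimension at least two -/
theorem exists_regular_pair [LocCoh.IsCohenMacaulayRing R]
    (hpos : ∀ n : ℤ, n < 0 → 𝒜 n = ⊥) (m : HomogeneousIdeal 𝒜) (hm : GrLC.IsStarLocal 𝒜 m)
    (hmsp : m.toIdeal = Ideal.span (⋃ n ∈ Set.Ioi (0 : ℤ), (𝒜 n : Set R)))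
    (n : ℕ) (hn : ringKrullDim R = n) (h2 : 2 ≤ n) (N : ℤ) :
    ∃ x y : R, x ∈ Ideal.span (⋃ i ∈ Set.Ici N, (𝒜 i : Set R)) ∧
      y ∈ Ideal.span (⋃ i ∈ Set.Ici N, (𝒜 i : Set R)) ∧ (∀ r : R, x * r = 0 → r = 0) ∧
      (∀ r : R, (∃ s, y * r = x * s) → ∃ s, r = x * s) := by
  haveI hmmax : m.toIdeal.IsMaximal := isMaximal_of_isStarLocal hpos m hm
  set N' : ℤ := max N 1 with hN'
  have hN'1 : 1 ≤ N' := le_max_right _ _
  have hN'N : N ≤ N' := le_max_left _ _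
  set J : Ideal R := Ideal.span (⋃ i ∈ Set.Ici N', (𝒜 i : Set R)) with hJ
  have hJN : J ≤ Ideal.span (⋃ i ∈ Set.Ici N, (𝒜 i : Set R)) := by
    apply Ideal.span_mono
    intro z hz
    rw [Set.mem_iUnion₂] at hz ⊢
    obtain ⟨i, hi, hzi⟩ := hz
    exact ⟨i, le_trans hN'N hi, hzi⟩
  have hJm : J ≤ m.toIdeal := by
    rw [hmsp]
    apply Ideal.span_mono
    intro z hz
    rw [Set.mem_iUnion₂] at hz ⊢
    obtain ⟨i, hi, hzi⟩ := hz
    exact ⟨i, by rw [Set.mem_Ioi]; rw [Set.mem_Ici] at hi; omega, hzi⟩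
  have hmJ : m.toIdeal ≤ J.radical := by
    rw [hmsp, Ideal.span_le]
    intro z hz
    rw [Set.mem_iUnion₂] at hz
    obtain ⟨i, hi, hzi⟩ := hz
    rw [Set.mem_Ioi] at hi
    refine ⟨N'.toNat, Ideal.subset_span ?_⟩
    rw [Set.mem_iUnion₂]
    refine ⟨N'.toNat • i, ?_, SetLike.pow_mem_graded _ hzi⟩
    rw [Set.mem_Ici, nsmul_eq_mul, Int.toNat_of_nonneg (by omega)]
    nlinarith
  have hrad : J.radical = m.toIdeal.radical :=
    le_antisymm (Ideal.radical_mono hJm) (Ideal.radical_le_radical_iff.2 hmJ)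
  have hht : m.toIdeal.height = n := by
    have h1 := ringKrullDim_eq_height_of_isStarLocal m hm hmmax
    rw [hn] at h1
    exact_mod_cast h1.symm
  have hdepth : LocCoh.idealDepth m.toIdeal R = n := by
    rw [← hht]
    exact (Groth.Agent.Lead.Depth.isCohenMacaulayRing_iff_idealDepth_eq_height.1 inferInstance)
      m.toIdeal hmmax.ne_top
  have h2m : ((2 : ℕ) : ℕ∞) ≤ LocCoh.idealDepth m.toIdeal R := by
    rw [hdepth]
    exact_mod_cast h2
  have h2J : ((2 : ℕ) : ℕ∞) ≤ LocCoh.idealDepth J R :=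
    (LC.le_idealDepth_iff_H' J 2 R).2 (fun i hi => LC.H_subsingleton_of_radical_eq hrad i R
      ((LC.le_idealDepth_iff_H' m.toIdeal 2 R).1 h2m i hi))
  have htop : J • (⊤ : Submodule R R) ≠ ⊤ := by
    intro h
    apply hmmax.ne_top
    rw [eq_top_iff]
    refine le_trans ?_ hJm
    rw [← h]
    intro z hz
    exact Submodule.smul_le.2 (fun r hr s _ => J.mul_mem_right s hr) hz
  obtain ⟨rs, hlen, hreg, hmem⟩ := (Groth.Agent.Lead.Depth.le_idealDepth_iff J R htop 2).1 h2J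
  obtain ⟨x, y, rfl⟩ := List.length_eq_two.1 hlen
  rw [RingTheory.Sequence.isWeaklyRegular_cons_iff, RingTheory.Sequence.isWeaklyRegular_cons_iff]
    at hreg
  obtain ⟨hxreg, hyreg, -⟩ := hreg
  refine ⟨x, y, hJN (hmem x (by simp)), hJN (hmem y (by simp)), ?_, ?_⟩
  · intro r hr
    exact hxreg.right_eq_zero_of_smul hr
  · rintro r ⟨s, hs⟩
    have h1 : y • (Submodule.Quotient.mk r : QuotSMulTop x R) = 0 := by
      rw [← Submodule.Quotient.mk_smul, Submodule.Quotient.mk_eq_zero, smul_eq_mul, hs]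
      exact Submodule.smul_mem_pointwise_smul s x ⊤ Submodule.mem_top
    have h2 := hyreg.right_eq_zero_of_smul h1
    rw [Submodule.Quotient.mk_eq_zero, Submodule.mem_smul_pointwise_iff_exists] at h2
    obtain ⟨s', -, hs'⟩ := h2
    exact ⟨s', hs'.symm⟩

end RegPairCM

section Top

variable {R : Type u} [CommRing R] [IsNoetherianRing R] {𝒜 : ℤ → AddSubgroup R} [GradedRing 𝒜]
variable (hpos : ∀ n : ℤ, n < 0 → 𝒜 n = ⊥) (m : HomogeneousIdeal 𝒜)
  (hmsp : m.toIdeal = Ideal.span (⋃ n ∈ Set.Ioi (0 : ℤ), (𝒜 n : Set R)))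
  (hstd : Ideal.span (⋃ n ∈ Set.Ioi (0 : ℤ), (𝒜 n : Set R)) =
    Ideal.span ((𝒜 1 : AddSubgroup R) : Set R))

include hpos hmsp in
/-- a homogeneous nonzerodivisor of positive degree, given some nonzerodivisor in `R_+` -/
theorem exists_homog_nzd (hreg : ∃ x ∈ m.toIdeal, ∀ r : R, x * r = 0 → r = 0) :
    ∃ (g : ℤ) (x : R), 0 < g ∧ x ∈ 𝒜 g ∧ x ∈ nonZeroDivisors R := by
  obtain ⟨x₀, hx₀m, hx₀⟩ := hreg
  have hpow : ∀ (k : ℕ) (r : R), x₀ ^ k * r = 0 → r = 0 := by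
    intro k
    induction k with
    | zero =>
      intro r hr
      rwa [pow_zero, one_mul] at hr
    | succ k ih =>
      intro r hr
      rw [pow_succ, mul_assoc] at hr
      exact hx₀ r (ih _ hr)
  obtain ⟨g, x, hg, hx, -, hxreg⟩ := exists_homog_regular 𝒜 𝒜
    (fun n hn x hx => by
      rw [hpos n hn] at hx
      exact AddSubgroup.mem_bot.1 hx) m
    (fun n hn x hx => by
      rw [hmsp]
      apply Ideal.subset_span
      rw [Set.mem_iUnion₂]
      exact ⟨n, hn, hx⟩)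
    (fun q hq => by
      rw [hmsp, Ideal.span_le]
      intro x hx
      rw [Set.mem_iUnion₂] at hx
      obtain ⟨n, hn, hxn⟩ := hx
      exact hq n hn x hxn)
    (fun r hr => by
      obtain ⟨k, hk⟩ := hr
      exact hpow k r (hk _ (Ideal.pow_mem_pow hx₀m k)))
  refine ⟨g, x, hg, hx, ?_⟩
  rw [mem_nonZeroDivisors_iff]
  refine ⟨fun z hz => hxreg z hz, fun z hz => hxreg z ?_⟩
  rw [smul_eq_mul, mul_comm]
  exact hz

include hstd in
/-- **`H^n_m(R) = R_1 H^n_m(R)`**, degree by degree, for a standard graded ring with a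
homogeneous nonzerodivisor of positive degree -/
theorem hgr_div (n : ℕ) (hn : ringKrullDim R = n) (I : GrLC.StarInjRes 𝒜 𝒜)
    {g : ℤ} {x₀ : R} (hg : 0 < g) (hx₀ : x₀ ∈ 𝒜 g) (hreg : x₀ ∈ nonZeroDivisors R)
    (j : ℤ) (w : I.H m n) (hw : w ∈ I.Hgr m n j) :
    w ∈ AddSubgroup.closure {z : I.H m n | ∃ r ∈ 𝒜 1, ∃ y ∈ I.Hgr m n (j - 1), z = r • y} := by
  obtain ⟨v, hv, hxv⟩ := exists_smul_eq_of_mem_Hgr m n hn I hx₀ hreg hw
  have hx₀' : x₀ ∈ 𝒜 ((g - 1) + 1) := by rwa [sub_add_cancel]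
  have hcl := mem_closure_products hstd (show 0 ≤ g - 1 by omega) hx₀'
  rw [← hxv]
  refine AddSubgroup.closure_induction (p := fun z _ => z • v ∈ AddSubgroup.closure
    {z : I.H m n | ∃ r ∈ 𝒜 1, ∃ y ∈ I.Hgr m n (j - 1), z = r • y}) ?_ ?_ ?_ ?_ hcl
  · rintro _ ⟨u, hu, y, hy, rfl⟩
    refine AddSubgroup.subset_closure ⟨y, hy, u • v, ?_, ?_⟩
    · have := (Hgr_gradedSMul I m n).smul_mem hu hv
      rw [vadd_eq_add] at this
      rwa [show g - 1 + (j - g) = j - 1 by ring] at this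
    · rw [mul_comm, mul_smul]
  · rw [zero_smul]
    exact zero_mem _
  · intro z z' _ _ hz hz'
    rw [add_smul]
    exact add_mem hz hz'
  · intro z _ hz
    rw [neg_smul]
    exact neg_mem hz

end Top

section Final

variable {R : Type u} [CommRing R] [IsNoetherianRing R] [LocCoh.IsCohenMacaulayRing R]
  {𝒜 : ℤ → AddSubgroup R} [GradedRing 𝒜]
variable (hpos : ∀ n : ℤ, n < 0 → 𝒜 n = ⊥) (h0 : IsField (GrLC.deg0 𝒜))
  (m : HomogeneousIdeal 𝒜) (hm : GrLC.IsStarLocal 𝒜 m)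
  (hmsp : m.toIdeal = Ideal.span (⋃ n ∈ Set.Ioi (0 : ℤ), (𝒜 n : Set R)))
  (hstd : Ideal.span (⋃ n ∈ Set.Ioi (0 : ℤ), (𝒜 n : Set R)) =
    Ideal.span ((𝒜 1 : AddSubgroup R) : Set R))
  (n : ℕ) (hn : ringKrullDim R = n) (h2 : 2 ≤ n) (I : GrLC.StarInjRes 𝒜 𝒜)
  (q : ℕ) (hq : 0 < q) (c : ℤ)
  (ξ : I.H m n) (hξ : ξ ∈ I.Hgr m n c) (hξ0 : ξ ≠ 0)
  (hξgen : ∀ x ∈ I.Hgr m n c, ∃ a ∈ 𝒜 0, x = a • ξ)
  (H2 : ∀ (d : ℤ), 0 ≤ d → (q : ℤ) ∣ d → ∀ x ∈ I.Hgr m n (c - d), x ≠ 0 →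
    ∃ r ∈ 𝒜 d, r • x ≠ 0)
  (H3 : ∀ (d : ℤ), 0 ≤ d → (q : ℤ) ∣ d → ∀ r ∈ 𝒜 d, r ≠ 0 →
    ∃ x ∈ I.Hgr m n (c - d), r • x ≠ 0)

include hpos h0 hm hmsp hstd hn h2 hq hξ hξ0 hξgen H2 H3 in
/-- **partial duality implies full duality**: for a standard graded Cohen–Macaulay ring of
dimension at least two, if `H^n_m(R)_c` is a line and the pairings `R_d × H^n_m(R)_{c-d} →
H^n_m(R)_c` are perfect for all `d ≥ 0` divisible by `q`, then the socle of `H^n_m(R)` is the line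
`H^n_m(R)_c` -/
theorem isSocAt_H_of_partial : IsSocAt 𝒜 m.toIdeal (I.Hgr m n) c := by
  haveI := Hgr_gradedSMul I m n
  have hdepth := exists_regular_pair hpos m hm hmsp n hn h2
  have hsm : ∀ (i j : ℤ) (r : R) (w : I.H m n), r ∈ 𝒜 i → w ∈ I.Hgr m n j →
      r • w ∈ I.Hgr m n (i + j) := by
    intro i j r w hr hw
    have := (Hgr_gradedSMul I m n).smul_mem hr hw
    rwa [vadd_eq_add] at this
  obtain ⟨x₁, -, hx₁, -, hx₁reg, -⟩ := hdepth 1
  have hx₁m : x₁ ∈ m.toIdeal := by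
    rw [hmsp]
    refine Ideal.span_mono ?_ hx₁
    intro z hz
    rw [Set.mem_iUnion₂] at hz ⊢
    obtain ⟨i, hi, hzi⟩ := hz
    exact ⟨i, by rw [Set.mem_Ioi]; rw [Set.mem_Ici] at hi; omega, hzi⟩
  obtain ⟨g, x₀, hg, hx₀, hx₀reg⟩ := exists_homog_nzd hpos m hmsp ⟨x₁, hx₁m, hx₁reg⟩
  exact isSocAt_of_partial hpos h0 m hmsp hstd hdepth hsm
    (hgr_div m hstd n hn I hg hx₀ hx₀reg) q hq c ξ hξ hξ0 hξgen H2 H3

include hpos h0 hm hmsp hstd hn h2 hq hξ hξ0 hξgen H2 H3 in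
/-- the resulting Gorenstein criterion -/
theorem isGorensteinRing_of_partial :
    LocCoh.IsGorensteinRing R ∧
      GrLC.endDeg (I.Hgr m n) = ((c : WithTop ℤ) : WithBot (WithTop ℤ)) := by
  have hsoc := isSocAt_H_of_partial hpos h0 m hm hmsp hstd n hn h2 I q hq c ξ hξ hξ0 hξgen H2 H3
  have hsm : ∀ (i j : ℤ) (r : R) (w : I.H m n), r ∈ 𝒜 i → w ∈ I.Hgr m n j →
      r • w ∈ I.Hgr m n (i + j) := by
    intro i j r w hr hw
    have := (Hgr_gradedSMul I m n).smul_mem hr hw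
    rwa [vadd_eq_add] at this
  refine ⟨isGorensteinRing_of_isSocAt hpos m hm n I ?_ hsoc, ?_⟩
  · intro i hi
    rcases Nat.lt_or_ge i n with h | h
    · exact H_subsingleton_of_CM hpos m hm n hn I i h
    · obtain ⟨e⟩ := nonempty_H_equiv_LC I m i
      haveI := LC.H_subsingleton_of_ringKrullDim_lt m.toIdeal n hn R i (by omega)
      exact e.toEquiv.subsingleton
  · have htor := exists_pow_smul_H_eq_zero I m n
    have htop : ∀ j, c < j → I.Hgr m n j = ⊥ := fun j hj =>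
      eq_bot_of_isSocAt_of_lt m hsm hpos htor hsoc hj
    have hne : I.Hgr m n c ≠ ⊥ := by
      intro h
      rw [h] at hξ
      exact hξ0 (AddSubgroup.mem_bot.1 hξ)
    exact endDeg_eq_of_top hne htop

end Final

end Groth.Agent.Helper20.GrDual
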