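import Mathlib
import Groth.Prelude
import Groth.Agent.Lib.Helper20.GrDual5
import Groth.Agent.Lib.Helper20.GorVer3

/-!
# If a Veronese subring of a standard graded Cohen–Macaulay ring of dimension at least two is
Gorenstein, so is the ring (helper20)
-/

set_option autoImplicit false

open DirectSum

namespace Groth.Agent.Helper20.GrDual

open Groth.Agent.Helper20.GrInj Groth.Agent.Helper8 Groth.Agent.Helper20.GorBr
  Groth.Agent.Helper20.GorType

universe u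

section Ver

variable {R : Type u} [CommRing R] [IsNoetherianRing R] [LocCoh.IsCohenMacaulayRing R]
  {R' : Type u} [CommRing R']
variable {𝒜 : ℤ → AddSubgroup R} [GradedRing 𝒜] {𝒜' : ℤ → AddSubgroup R'} [GradedRing 𝒜']
variable (hpos : ∀ n : ℤ, n < 0 → 𝒜 n = ⊥) (h0 : IsField (GrLC.deg0 𝒜)) (m : HomogeneousIdeal 𝒜)
  (hm : GrLC.IsStarLocal 𝒜 m)
  (hmsp : m.toIdeal = Ideal.span (⋃ n ∈ Set.Ioi (0 : ℤ), (𝒜 n : Set R)))
  (hstd : Ideal.span (⋃ n ∈ Set.Ioi (0 : ℤ), (𝒜 n : Set R)) =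
    Ideal.span ((𝒜 1 : AddSubgroup R) : Set R))
  (n : ℕ) (hn : ringKrullDim R = n) (h2 : 2 ≤ n) (I : GrLC.StarInjRes 𝒜 𝒜)

include hpos h0 hm hmsp hstd hn h2 in
/-- **if the Veronese subring `R^(q)` of a standard graded Cohen–Macaulay ring `R` of dimension
at least two is Gorenstein, then `R` is Gorenstein and `q ∣ a(R)`** -/
theorem isGorensteinRing_of_veronese_gorenstein (V : VerRing 𝒜 𝒜')
    [hG' : LocCoh.IsGorensteinRing R'] :
    LocCoh.IsGorensteinRing R ∧ ∃ a : ℤ,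
      GrLC.endDeg (I.Hgr m n) = ((a : WithTop ℤ) : WithBot (WithTop ℤ)) ∧ (V.q : ℤ) ∣ a := by
  classical
  haveI : IsNoetherianRing R' := isNoetherianRing_of_veronese 𝒜 𝒜' V.φ V.q V.inj V.h1 V.h2
  have hpos' : ∀ j : ℤ, j < 0 → 𝒜' j = ⊥ := V.eq_bot_of_neg hpos
  have h0' : IsField (GrLC.deg0 𝒜') := V.isField_deg0 h0
  have hm' := isStarLocal_irr hpos' h0'
  have hm'sp := irr_toIdeal 𝒜'
  let F : GrLC.StarInjRes 𝒜' 𝒜' := starInjRes 𝒜' 𝒜'
  have hle : (irr 𝒜').toIdeal.map V.φ ≤ m.toIdeal := by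
    rw [hmsp, hm'sp]
    exact map_irrelevant_le 𝒜 𝒜' V.φ V.q V.hq V.h1
  have hrad : m.toIdeal ≤ ((irr 𝒜').toIdeal.map V.φ).radical := by
    rw [hmsp, hm'sp]
    exact irrelevant_le_radical_map 𝒜 𝒜' V.φ V.q V.h2
  have hvan : ∀ i : ℕ, i ≠ n → Subsingleton (I.H m i) := by
    intro i hi
    rcases Nat.lt_or_ge i n with h | h
    · exact H_subsingleton_of_CM hpos m hm n hn I i h
    · obtain ⟨e⟩ := nonempty_H_equiv_LC I m i
      haveI := LC.H_subsingleton_of_ringKrullDim_lt m.toIdeal n hn R i (by omega)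
      exact e.toEquiv.subsingleton
  -- the dimension of `R'`
  haveI hmax' : (irr 𝒜').toIdeal.IsMaximal := isMaximal_of_isStarLocal hpos' _ hm'
  have hdim' := ringKrullDim_eq_height_of_isStarLocal (irr 𝒜') hm' hmax'
  obtain ⟨n', hn'⟩ := ENat.ne_top_iff_exists.1
    (Ideal.height_ne_top (I := (irr 𝒜').toIdeal) hmax'.ne_top)
  rw [← hn'] at hdim'
  obtain ⟨-, s', hs', hB'⟩ := exists_isSocAt_of_isGorensteinRing hpos' h0' (irr 𝒜') hm' hm'sp n'
    hdim' F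
  have hnn : n' = n := by
    by_contra hne
    obtain ⟨-, w₀', hw₀', hw₀'0, -, -⟩ := hs'
    obtain ⟨Λ, -, -, hΛ3⟩ := exists_semilinear_H_veronese V V.φLin V.inj V.h1 V.h2 I F m (irr 𝒜')
      hle hrad n'
    haveI := hvan n' hne
    exact hw₀'0 (hΛ3 s' w₀' hw₀' (Subsingleton.elim _ _))
  subst hnn
  obtain ⟨Λ, hΛ1, hΛ2, hΛ3⟩ := exists_semilinear_H_veronese V V.φLin V.inj V.h1 V.h2 I F m
    (irr 𝒜') hle hrad n'
  have hsm' : ∀ (i j : ℤ) (r : R') (w : F.H (irr 𝒜') n'), r ∈ 𝒜' i →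
      w ∈ F.Hgr (irr 𝒜') n' j → r • w ∈ F.Hgr (irr 𝒜') n' (i + j) := by
    intro i j r w hr hw
    have := (Hgr_gradedSMul F (irr 𝒜') n').smul_mem hr hw
    rwa [vadd_eq_add] at this
  have hΛsmul : ∀ (r' : R') (w : F.H (irr 𝒜') n'), Λ (r' • w) = V.φ r' • Λ w :=
    fun r' w => Λ.map_smulₛₗ r' w
  have htor' := exists_pow_smul_H_eq_zero F (irr 𝒜') n'
  have htop' : ∀ j, s' < j → F.Hgr (irr 𝒜') n' j = ⊥ := fun j hj =>
    eq_bot_of_isSocAt_of_lt (irr 𝒜') hsm' hpos' htor' hs' hj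
  have hall' : ∀ w ∈ F.Hgr (irr 𝒜') n' s', ∀ r ∈ (irr 𝒜').toIdeal, r • w = 0 := fun w hw =>
    smul_eq_zero_of_top hpos' (irr 𝒜') hm'sp hsm' htop' hw
  have hs'' := hs'
  obtain ⟨-, w₀', hw₀', hw₀'0, -, hgen'⟩ := hs'
  have hqpos : (0 : ℤ) < (V.q : ℤ) := by exact_mod_cast V.hq
  have key := isGorensteinRing_of_partial hpos h0 m hm hmsp hstd n' hn h2 I V.q V.hq
    (s' * (V.q : ℤ)) (Λ w₀') (hΛ1 s' w₀' hw₀') (fun h => hw₀'0 (hΛ3 s' w₀' hw₀' h))
    (by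
      intro x hx
      obtain ⟨w, hw, rfl⟩ := hΛ2 s' x hx
      obtain ⟨c', hc', rfl⟩ := hgen' w hw (hall' w hw)
      refine ⟨V.φ c', ?_, hΛsmul c' w₀'⟩
      have := V.h1 0 c' hc'
      rwa [zero_mul] at this)
    (by
      intro d hd hqd x hx hx0
      obtain ⟨d', rfl⟩ := hqd
      have hd'0 : 0 ≤ d' := by
        by_contra hneg
        push Not at hneg
        have : (V.q : ℤ) * d' < 0 := mul_neg_of_pos_of_neg hqpos hneg
        omega
      rw [show s' * (V.q : ℤ) - (V.q : ℤ) * d' = (s' - d') * (V.q : ℤ) by ring] at hx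
      obtain ⟨w, hw, rfl⟩ := hΛ2 (s' - d') x hx
      have hw0 : w ≠ 0 := by
        rintro rfl
        exact hx0 (map_zero Λ)
      obtain ⟨-, r', hr', hr'w⟩ := exists_smul_ne_zero_of_isSocAt (irr 𝒜') hsm' hpos' htor' hs''
        hw hw0
      rw [show s' - (s' - d') = d' by ring] at hr'
      refine ⟨V.φ r', ?_, ?_⟩
      · have := V.h1 d' r' hr'
        rwa [mul_comm] at this
      · rw [← hΛsmul]
        intro h
        exact hr'w (hΛ3 (d' + (s' - d')) _ (hsm' d' (s' - d') r' w hr' hw) h))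
    (by
      intro d hd hqd r hr hr0
      obtain ⟨d', rfl⟩ := hqd
      rw [mul_comm] at hr
      obtain ⟨r', hr', rfl⟩ := V.h2 d' r hr
      have hr'0 : r' ≠ 0 := by
        rintro rfl
        exact hr0 (map_zero V.φ)
      obtain ⟨h, hh, hrh⟩ := hB' d' r' hr' hr'0
      refine ⟨Λ h, ?_, ?_⟩
      · have := hΛ1 (s' - d') h hh
        rwa [show (s' - d') * (V.q : ℤ) = s' * (V.q : ℤ) - (V.q : ℤ) * d' by ring] at this
      · rw [← hΛsmul]
        intro h'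
        exact hrh (hΛ3 (d' + (s' - d')) _ (hsm' d' (s' - d') r' h hr' hh) h'))
  exact ⟨key.1, s' * (V.q : ℤ), key.2, ⟨s', mul_comm _ _⟩⟩

end Ver

end Groth.Agent.Helper20.GrDual
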