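import Mathlib
import Groth.Prelude
import Groth.Agent.Lib.Helper20.GrSS3
import Groth.Agent.Lib.Helper20.GorType4

/-!
# The type of the Segre product of two standard graded Gorenstein rings (helper20)
-/

set_option autoImplicit false

open DirectSum TensorProduct

namespace Groth.Agent.Helper20.Seg

open Groth.Agent.Helper20.GrInj Groth.Agent.Helper8 Groth.Agent.Helper20.Kun
  Groth.Agent.Helper20.SegFin Groth.Agent.Helper20.KS Groth.Agent.Helper20.GorBr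
  Groth.Agent.Helper20.GorType

universe u

section Dec

variable {W : Type u} [AddCommGroup W] {𝒲 : ℤ → AddSubgroup W} [DirectSum.Decomposition 𝒲]

theorem mem_of_decompose_eq_zero {w : W} {b : ℤ}
    (hcomp : ∀ j, j ≠ b → (decompose 𝒲 w j : W) = 0) : w ∈ 𝒲 b := by
  classical
  have hws : w = (decompose 𝒲 w b : W) := by
    conv_lhs => rw [← sum_support_decompose 𝒲 w]
    by_cases hmem : b ∈ (decompose 𝒲 w).support
    · rw [Finset.sum_eq_single_of_mem b hmem]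
      intro j _ hj
      exact hcomp j hj
    · rw [DFinsupp.notMem_support_iff] at hmem
      rw [hmem, ZeroMemClass.coe_zero]
      apply Finset.sum_eq_zero
      intro j hj
      by_cases hjs : j = b
      · subst hjs
        rw [hmem, ZeroMemClass.coe_zero]
      · exact hcomp j hjs
  rw [hws]
  exact (decompose 𝒲 w b).2

end Dec

section SocPiece

variable {k : Type u} [Field k] {R S T : Type u} [CommRing R] [CommRing S] [CommRing T]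
  [Algebra k R] [Algebra k S] [Algebra k T]
  {𝒜 : ℤ → Submodule k R} [GradedAlgebra 𝒜] {ℬ : ℤ → Submodule k S} [GradedAlgebra ℬ]
  {𝒯 : ℤ → Submodule k T} [GradedAlgebra 𝒯] {ψ : T →ₐ[k] R ⊗[k] S}
  (hT : GrSeg.IsSegreRing 𝒜 ℬ 𝒯 ψ)
  (hposR : ∀ n : ℤ, n < 0 → 𝒜 n = ⊥) (hposS : ∀ n : ℤ, n < 0 → ℬ n = ⊥)
  (hstdR : Ideal.span (⋃ n ∈ Set.Ioi (0 : ℤ), (𝒜 n : Set R)) =
    Ideal.span ((𝒜 1 : Submodule k R) : Set R))
  (hstdS : Ideal.span (⋃ n ∈ Set.Ioi (0 : ℤ), (ℬ n : Set S)) =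
    Ideal.span ((ℬ 1 : Submodule k S) : Set S))
  (mR' : HomogeneousIdeal (toAdd 𝒜))
  (mS' : HomogeneousIdeal (toAdd ℬ))
  (mT' : HomogeneousIdeal (toAdd 𝒯))
  (hmT' : mT'.toIdeal = Ideal.span (⋃ n ∈ Set.Ioi (0 : ℤ), (toAdd 𝒯 n : Set T)))
  {HX : Type u} [AddCommGroup HX] [Module R HX] [Module k HX] [IsScalarTower k R HX]
  (ℋX : ℤ → AddSubgroup HX)
  (hsmX : ∀ (i j : ℤ) (r : R) (w : HX), r ∈ 𝒜 i → w ∈ ℋX j → r • w ∈ ℋX (i + j))
  (htorX : ∀ w : HX, ∃ n : ℕ, ∀ r ∈ mR'.toIdeal ^ n, r • w = 0)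
  {HY : Type u} [AddCommGroup HY] [Module S HY] [Module k HY] [IsScalarTower k S HY]
  (ℋY : ℤ → AddSubgroup HY)
  (hsmY : ∀ (i j : ℤ) (r : S) (w : HY), r ∈ ℬ i → w ∈ ℋY j → r • w ∈ ℋY (i + j))
  (htorY : ∀ w : HY, ∃ n : ℕ, ∀ r ∈ mS'.toIdeal ^ n, r • w = 0)
  {W : Type u} [AddCommGroup W] [Module T W] (𝒲 : ℤ → AddSubgroup W)
  [DirectSum.Decomposition 𝒲] [SetLike.GradedSMul (toAdd 𝒯) 𝒲]
  (hsmW : ∀ (i j : ℤ) (t : T) (w : W), t ∈ 𝒯 i → w ∈ 𝒲 j → t • w ∈ 𝒲 (i + j))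
  (Φ : W →ₗ[T] Amb ψ HX HY) (hΦ : Function.Injective Φ)
  (hΦim : ∀ n : ℤ, Φ '' (𝒲 n : Set W) = (GrSeg.segrePiece k ℋX ℋY n : Set (HX ⊗[k] HY)))

include hT hposR hposS hstdR hstdS hmT' hsmX htorX hsmY htorY hsmW hΦ hΦim in
/-- **the socle of the Segre product of two graded modules over standard graded rings, with
one-dimensional socles in degrees `a ≥ b`, is the piece of degree `b`** -/
theorem socle_eq_piece_seg {a b : ℤ} (hab : b ≤ a)
    (hsX : IsSocAt (toAdd 𝒜) mR'.toIdeal ℋX a) (hsY : IsSocAt (toAdd ℬ) mS'.toIdeal ℋY b)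
    (w : W) : (∀ t ∈ mT'.toIdeal, t • w = 0) ↔ w ∈ 𝒲 b := by
  have hposR' := toAdd_eq_bot_of_neg' hposR
  have hposS' := toAdd_eq_bot_of_neg' hposS
  have hposT' := toAdd_eq_bot_of_neg' (segre_hpos hT hposR)
  have htopY : ∀ j, b < j → ℋY j = ⊥ := fun j hj =>
    eq_bot_of_isSocAt_of_lt mS' hsmY hposS' htorY hsY hj
  have htopW : ∀ j, b < j → 𝒲 j = ⊥ := fun j hj =>
    piece_eq_bot_seg ℋX ℋY 𝒲 Φ hΦ hΦim (Or.inr (htopY j hj))
  constructor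
  · intro hw
    apply mem_of_decompose_eq_zero
    intro j hj
    by_contra hne
    have hwj : (decompose 𝒲 w j : W) ∈ 𝒲 j := (decompose 𝒲 w j).2
    have hsocj := smul_decompose_eq_zero (𝒲 := 𝒲) mT' hw j
    have hYj : ℋY j ≠ ⊥ := by
      intro h
      have h1 := piece_eq_bot_seg ℋX ℋY 𝒲 Φ hΦ hΦim (Or.inr h)
      have h2 : ∀ x ∈ 𝒲 j, x = 0 := fun x hx => by
        rw [h1] at hx
        exact AddSubgroup.mem_bot.1 hx
      exact hne (h2 _ hwj)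
    obtain ⟨g, hg, hg0⟩ : ∃ g ∈ ℋY j, g ≠ 0 := by
      by_contra hcon
      push Not at hcon
      apply hYj
      rw [eq_bot_iff]
      intro x hx
      exact AddSubgroup.mem_bot.2 (hcon x hx)
    have hjb : j ≤ b := (exists_smul_ne_zero_of_isSocAt mS' hsmY hposS' htorY hsY hg hg0).1
    have hlt : j < b := lt_of_le_of_ne hjb hj
    obtain ⟨t, ht, htw⟩ := exists_smul_ne_zero_seg hT ℋX hsmX ℋY hsmY 𝒲 Φ hΦ hΦim (e := 1)
      (fun h hh hh0 => by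
        obtain ⟨-, x, hx, hxh⟩ := exists_smul_ne_zero_of_isSocAt mR' hsmX hposR' htorX hsX hh hh0
        obtain ⟨e', he'⟩ : ∃ e' : ℕ, a - j = 1 + (e' : ℤ) := ⟨(a - j - 1).toNat, by omega⟩
        rw [he'] at hx
        exact exists_smul_ne_zero_of_std (𝒜 := toAdd 𝒜) hstdR h 1 (by norm_num) e' x hx hxh)
      (fun h hh hh0 => by
        obtain ⟨-, x, hx, hxh⟩ := exists_smul_ne_zero_of_isSocAt mS' hsmY hposS' htorY hsY hh hh0
        obtain ⟨e', he'⟩ : ∃ e' : ℕ, b - j = 1 + (e' : ℤ) := ⟨(b - j - 1).toNat, by omega⟩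
        rw [he'] at hx
        exact exists_smul_ne_zero_of_std (𝒜 := toAdd ℬ) hstdS h 1 (by norm_num) e' x hx hxh)
      hwj hne
    apply htw
    apply hsocj
    rw [hmT']
    apply Ideal.subset_span
    rw [Set.mem_iUnion₂]
    exact ⟨1, by rw [Set.mem_Ioi]; norm_num, ht⟩
  · intro hw
    exact smul_eq_zero_of_top hposT' mT' hmT' hsmW htopW hw

end SocPiece

section Main

/-- **the type of the Segre product of two standard graded Gorenstein rings** of dimensions `≥ 2`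
with `a`-invariants `a ≥ b` is `dim_k R_{a-b}` -/
theorem bassNum_segre (k : Type u) [Field k] (R : Type u) [CommRing R] [Algebra k R]
    (𝒜 : ℤ → Submodule k R) [GradedAlgebra 𝒜] (hposR : ∀ n : ℤ, n < 0 → 𝒜 n = ⊥)
    (h0R : 𝒜 0 = Submodule.span k {(1 : R)}) [Algebra.FiniteType k R] (S : Type u) [CommRing S]
    [Algebra k S] (ℬ : ℤ → Submodule k S) [GradedAlgebra ℬ] (hposS : ∀ n : ℤ, n < 0 → ℬ n = ⊥)
    (h0S : ℬ 0 = Submodule.span k {(1 : S)}) [Algebra.FiniteType k S] (T : Type u) [CommRing T]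
    [Algebra k T] (𝒯 : ℤ → Submodule k T) [GradedAlgebra 𝒯] (ψ : T →ₐ[k] TensorProduct k R S)
    (hψ : Function.Injective ψ)
    (hdegT : ∀ n : ℤ, (𝒯 n).map ψ.toLinearMap =
      Submodule.span k {x : TensorProduct k R S | ∃ a ∈ 𝒜 n, ∃ b ∈ ℬ n, x = a ⊗ₜ[k] b})
    [LocCoh.IsGorensteinRing R] [LocCoh.IsGorensteinRing S] (mR : HomogeneousIdeal 𝒜)
    (hmR : mR.toIdeal = Ideal.span (⋃ n ∈ Set.Ioi (0 : ℤ), (𝒜 n : Set R)))
    (hstdR : Ideal.span (⋃ n ∈ Set.Ioi (0 : ℤ), (𝒜 n : Set R)) =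
      Ideal.span ((𝒜 1 : Submodule k R) : Set R))
    (I : GrLC.StarInjRes 𝒜 𝒜) (mS : HomogeneousIdeal ℬ)
    (hmS : mS.toIdeal = Ideal.span (⋃ n ∈ Set.Ioi (0 : ℤ), (ℬ n : Set S)))
    (hstdS : Ideal.span (⋃ n ∈ Set.Ioi (0 : ℤ), (ℬ n : Set S)) =
      Ideal.span ((ℬ 1 : Submodule k S) : Set S))
    (J : GrLC.StarInjRes ℬ ℬ) (r s : ℕ) (hr : ringKrullDim R = r) (hs : ringKrullDim S = s)
    (h2r : 2 ≤ r) (h2s : 2 ≤ s) (a b : ℤ)
    (ha : GrLC.endDeg (I.Hgr mR r) = ((a : WithTop ℤ) : WithBot (WithTop ℤ)))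
    (hb : GrLC.endDeg (J.Hgr mS s) = ((b : WithTop ℤ) : WithBot (WithTop ℤ))) (hab : b ≤ a)
    [LocCoh.IsCohenMacaulayRing T] (mT : HomogeneousIdeal 𝒯) [mT.toIdeal.IsMaximal]
    (hmT : mT.toIdeal = Ideal.span (⋃ n ∈ Set.Ioi (0 : ℤ), (𝒯 n : Set T))) :
    GrLC.bassNum mT.toIdeal T (r + s - 1) = (Module.finrank k (𝒜 (a - b)) : ℕ∞) := by
  have hT : GrSeg.IsSegreRing 𝒜 ℬ 𝒯 ψ := ⟨hψ, hdegT⟩
  haveI : IsNoetherianRing R := Algebra.FiniteType.isNoetherianRing k R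
  haveI : IsNoetherianRing S := Algebra.FiniteType.isNoetherianRing k S
  haveI : IsNoetherianRing T := Groth.Agent.Helper27.Segre.isNoetherianRing 𝒜 ℬ 𝒯 ψ hT.2 hT.1
  haveI : Nontrivial R := ringKrullDim_nontrivial hr
  haveI : Nontrivial S := ringKrullDim_nontrivial hs
  haveI : Nontrivial T := segre_nontrivial hT
  have hposT := segre_hpos hT hposR
  have h0T := segre_h0 hT h0R h0S
  have hdimT : ringKrullDim T = ((r + s - 1 : ℕ) : WithBot ℕ∞) :=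
    ringKrullDim_segre k R 𝒜 hposR h0R S ℬ hposS h0S T 𝒯 ψ hψ hdegT r s hr hs (by omega)
      (by omega)
  let IT := starRes 𝒯
  have htopfin := segre_top_ring k R 𝒜 hposR h0R S ℬ hposS h0S T 𝒯 ψ hψ hdegT mR hmR I mS hmS J
    mT hmT IT r s hr hs h2r h2s b
  obtain ⟨ρ, rfl⟩ : ∃ ρ, r = ρ + 2 := ⟨r - 2, by omega⟩
  obtain ⟨σ, rfl⟩ : ∃ σ, s = σ + 2 := ⟨s - 2, by omega⟩
  have e1 : ρ + 2 + (σ + 2) - 1 = ρ + σ + 3 := by omega
  rw [e1] at hdimT htopfin ⊢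
  obtain ⟨hvanR, a', hsR, haR, hBR⟩ := gor_soc_data hposR h0R mR hmR I (ρ + 2) hr
  obtain ⟨hvanS, b', hsS, haS, hBS⟩ := gor_soc_data hposS h0S mS hmS J (σ + 2) hs
  obtain rfl : a = a' := by
    rw [haR] at ha
    exact_mod_cast ha.symm
  obtain rfl : b = b' := by
    rw [haS] at hb
    exact_mod_cast hb.symm
  -- the Künneth isomorphism in the top degree
  let EM := StarInjRes.toAddM 𝒜 I (toAdd 𝒜) (fun _ _ h => h)
  let EN := StarInjRes.toAddM ℬ J (toAdd ℬ) (fun _ _ h => h)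
  let EP := StarInjRes.toAddM 𝒯 IT (toAdd 𝒯) (fun _ _ h => h)
  letI modX := kMod k (R := R) (EM.H mR (ρ + 2))
  haveI towX := kMod_tower k (R := R) (EM.H mR (ρ + 2))
  letI modY := kMod k (R := S) (EN.H mS (σ + 2))
  haveI towY := kMod_tower k (R := S) (EN.H mS (σ + 2))
  obtain ⟨Φ, hΦ, hΦim⟩ := exists_H_top_seg_map hT (isSegreMod_ring hT) EM mR hmR EN mS hmS EP mT
    hmT ρ σ (fun q hq => hvanR q (by omega)) (fun q hq => hvanS q (by omega))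
    (HX := EM.H mR (ρ + 2)) (EM.toH mR (ρ + 2)) (Submodule.ker_mkQ _) (EM.Hgr mR (ρ + 2))
    (fun _ _ => Iff.rfl)
    (HY := EN.H mS (σ + 2)) (EN.toH mS (σ + 2)) (Submodule.ker_mkQ _) (EN.Hgr mS (σ + 2))
    (fun _ _ => Iff.rfl)
  -- the socle
  let mR' := HomogeneousIdeal.toAddH 𝒜 mR
  let mS' := HomogeneousIdeal.toAddH ℬ mS
  let mT' := HomogeneousIdeal.toAddH 𝒯 mT
  let I' := StarInjRes.toAddR 𝒜 I (toAdd 𝒜) (fun _ _ h => h)
  let J' := StarInjRes.toAddR ℬ J (toAdd ℬ) (fun _ _ h => h)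
  let IT' := StarInjRes.toAddR 𝒯 IT (toAdd 𝒯) (fun _ _ h => h)
  letI := HgrDec IT' mT' (ρ + σ + 3)
  letI := Hgr_gradedSMul IT' mT' (ρ + σ + 3)
  have hsocT : ∀ w : IT'.H mT' (ρ + σ + 3), (∀ t ∈ mT'.toIdeal, t • w = 0) ↔
      w ∈ IT'.Hgr mT' (ρ + σ + 3) b :=
    socle_eq_piece_seg hT hposR hposS hstdR hstdS mR' mS' mT' (toAddH_toIdeal_eq mT hmT)
      (EM.Hgr mR (ρ + 2)) (hgr_smul_mem mR I (ρ + 2)) (exists_pow_smul_H_eq_zero I' mR' (ρ + 2))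
      (EN.Hgr mS (σ + 2)) (hgr_smul_mem mS J (σ + 2)) (exists_pow_smul_H_eq_zero J' mS' (σ + 2))
      (IT'.Hgr mT' (ρ + σ + 3)) (hgr_smul_mem mT IT (ρ + σ + 3)) Φ hΦ hΦim hab hsR hsS
  have hposT' := toAdd_eq_bot_of_neg hposT
  have hlocT := isStarLocal_toAddH hposT h0T mT hmT
  have hvanT : ∀ i : ℕ, i ≠ ρ + σ + 3 → Subsingleton (IT'.H mT' i) := by
    intro i hi
    rcases Nat.lt_or_ge i (ρ + σ + 3) with h | h
    · exact H_subsingleton_of_CM hposT' mT' hlocT (ρ + σ + 3) hdimT IT' i h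
    · obtain ⟨e⟩ := nonempty_H_equiv_LC IT' mT' i
      haveI := LC.H_subsingleton_of_ringKrullDim_lt mT'.toIdeal (ρ + σ + 3) hdimT T i (by omega)
      exact e.toEquiv.subsingleton
  haveI : mT'.toIdeal.IsMaximal := by
    rw [HomogeneousIdeal.toAddH_toIdeal]
    infer_instance
  have hbass := bassNum_eq_finrank_of_socle hposT' (isField_deg0 h0T) mT'
    (toAddH_toIdeal_eq mT hmT) (ρ + σ + 3) IT' hvanT b hsocT
  have hbass' : GrLC.bassNum mT.toIdeal T (ρ + σ + 3) =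
      (Module.finrank (GrLC.deg0 𝒯) (IT.Hcomp mT (ρ + σ + 3) b) : ℕ∞) := hbass
  rw [hbass', htopfin]
  -- the dimensions of the factors
  haveI : mR'.toIdeal.IsMaximal := isMaximal_of_isStarLocal (toAdd_eq_bot_of_neg hposR) mR'
    (isStarLocal_toAddH hposR h0R mR hmR)
  haveI : mS'.toIdeal.IsMaximal := isMaximal_of_isStarLocal (toAdd_eq_bot_of_neg hposS) mS'
    (isStarLocal_toAddH hposS h0S mS hmS)
  have hfR := finrank_Hcomp_eq_finrank_comp (toAdd_eq_bot_of_neg hposR) (isField_deg0 h0R) mR'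
    (toAddH_toIdeal_eq mR hmR) (ρ + 2) I' hsR hBR (a - b)
  have hfS := finrank_Hcomp_eq_finrank_comp (toAdd_eq_bot_of_neg hposS) (isField_deg0 h0S) mS'
    (toAddH_toIdeal_eq mS hmS) (σ + 2) J' hsS hBS 0
  have e2 : a - (a - b) = b := by ring
  rw [e2] at hfR
  rw [sub_zero] at hfS
  have hfR' : Module.finrank (GrLC.deg0 𝒜) (I.Hcomp mR (ρ + 2) b) =
      Module.finrank (GrLC.deg0 𝒜) (GrLC.comp 𝒜 (toAdd 𝒜) (a - b)) := hfR
  have hfS' : Module.finrank (GrLC.deg0 ℬ) (J.Hcomp mS (σ + 2) b) =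
      Module.finrank (GrLC.deg0 ℬ) (GrLC.comp ℬ (toAdd ℬ) 0) := hfS
  rw [hfR', hfS', finrank_comp_ring h0R, finrank_comp_ring h0S, h0S,
    finrank_span_singleton one_ne_zero, mul_one]

end Main

end Groth.Agent.Helper20.Seg
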