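import Mathlib
import Groth.Prelude.Def_GrSyz
import Groth.Agent.Lib.Helper20.GrKos7

open DirectSum

namespace Groth.Agent.Helper20.GrInj

universe u

variable {k : Type u} [Field k] {σ : Type}

theorem stdGr_eq_zero_of_neg (n : ℤ) (hn : n < 0)
    (x : MvPolynomial σ k) (hx : x ∈ GrSyz.stdGr k σ n) : x = 0 := by
  rw [GrSyz.mem_stdGr_iff] at hx
  ext d
  rw [MvPolynomial.coeff_zero]
  by_contra hd
  have hw := hx hd
  have hnn : (0 : ℤ) ≤ Finsupp.weight (fun _ : σ => (1 : ℤ)) d := by
    rw [Finsupp.weight_apply]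
    exact Finset.sum_nonneg (fun i _ => by positivity)
  omega

/-- the irrelevant ideal of the standard graded polynomial ring is generated in degree one -/
theorem irrel_stdGr_eq_span :
    (GrSyz.irrel (GrSyz.stdGr k σ)).toIdeal =
      Ideal.span ((GrSyz.stdGr k σ 1 : Submodule k (MvPolynomial σ k)) : Set (MvPolynomial σ k)) := by
  classical
  apply le_antisymm
  · show Ideal.span {r : MvPolynomial σ k | ∃ n : ℤ, 0 < n ∧ r ∈ GrSyz.stdGr k σ n} ≤ _
    rw [Ideal.span_le]
    rintro p ⟨n, hn, hp⟩
    rw [GrSyz.mem_stdGr_iff] at hp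
    rw [← MvPolynomial.support_sum_monomial_coeff p]
    apply Ideal.sum_mem
    intro d hd
    have hcoeff : MvPolynomial.coeff d p ≠ 0 := MvPolynomial.mem_support_iff.1 hd
    have hw : Finsupp.weight (fun _ : σ => (1 : ℤ)) d = n := hp hcoeff
    -- some variable occurs in the monomial
    obtain ⟨i, hi⟩ : ∃ i, d i ≠ 0 := by
      by_contra hcon
      push Not at hcon
      have : d = 0 := Finsupp.ext hcon
      rw [this, map_zero] at hw
      omega
    have hdi : d = (d - Finsupp.single i 1) + Finsupp.single i 1 := by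
      ext j
      by_cases hj : j = i
      · subst hj
        simp only [Finsupp.coe_add, Finsupp.coe_tsub, Pi.add_apply, Pi.sub_apply,
          Finsupp.single_eq_same]
        omega
      · simp [Finsupp.single_eq_of_ne hj]
    have hmon : MvPolynomial.monomial d (MvPolynomial.coeff d p) =
        MvPolynomial.monomial (d - Finsupp.single i 1) (MvPolynomial.coeff d p) *
          MvPolynomial.X i := by
      rw [MvPolynomial.X, MvPolynomial.monomial_mul, mul_one, ← hdi]
    rw [hmon]
    apply Ideal.mul_mem_left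
    apply Ideal.subset_span
    show MvPolynomial.X i ∈ GrSyz.stdGr k σ 1
    rw [GrSyz.mem_stdGr_iff]
    exact MvPolynomial.isWeightedHomogeneous_X k _ i
  · rw [Ideal.span_le]
    intro p hp
    show p ∈ Ideal.span {r : MvPolynomial σ k | ∃ n : ℤ, 0 < n ∧ r ∈ GrSyz.stdGr k σ n}
    exact Ideal.subset_span ⟨1, one_pos, hp⟩

end Groth.Agent.Helper20.GrInj
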