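import Mathlib
import Groth.Prelude
import Groth.Agent.Lib.Helper20.GrSeg36
import Groth.Agent.Lib.Helper20.GorVer2
import Groth.Agent.Lib.Helper23.KDim4

/-!
# Standard graded Cohen–Macaulay rings: nonvanishing pieces, negative `a`-invariant (helper20)
-/

open DirectSum TensorProduct

namespace Groth.Agent.Helper20.GrInj

open Groth.Agent.Helper8

universe u

section EndDeg

variable {R : Type u} [CommRing R]
variable {σ : Type u} [SetLike σ R] [AddSubgroupClass σ R] {𝒜 : ℤ → σ} [GradedRing 𝒜]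
variable {M : Type u} [AddCommGroup M] [Module R M] {τ : Type u} [SetLike τ M]
  [AddSubgroupClass τ M] {ℳ : ℤ → τ} [DirectSum.Decomposition ℳ] [SetLike.GradedSMul 𝒜 ℳ]

theorem Hgr_eq_bot_iff' (E : GrLC.StarInjRes 𝒜 ℳ) (a : HomogeneousIdeal 𝒜) (i : ℕ) (n : ℤ) :
    E.Hgr a i n = ⊥ ↔ E.Hcomp a i n = ⊥ := by
  constructor
  · intro h
    rw [eq_bot_iff]
    intro w hw
    have : w ∈ E.Hgr a i n := hw
    rw [h] at this
    exact this
  · intro h
    rw [eq_bot_iff]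
    intro w hw
    have : w ∈ E.Hcomp a i n := hw
    rw [h] at this
    exact this

theorem lt_zero_iff_le_neg_one (x : WithBot (WithTop ℤ)) :
    x < 0 ↔ x ≤ (((-1 : ℤ) : WithTop ℤ) : WithBot (WithTop ℤ)) := by
  induction x using WithBot.recBotCoe with
  | bot => simp
  | coe y =>
    induction y using WithTop.recTopCoe with
    | top =>
      constructor
      · intro h
        exact absurd h (by
          rw [← WithBot.coe_zero, WithBot.coe_lt_coe]
          exact not_top_lt)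
      · intro h
        rw [WithBot.coe_le_coe] at h
        exact absurd h (by simp)
    | coe z =>
      rw [← WithBot.coe_zero, WithBot.coe_lt_coe, WithBot.coe_le_coe, ← WithTop.coe_zero,
        WithTop.coe_lt_coe, WithTop.coe_le_coe]
      omega

theorem endDeg_Hgr_lt_zero_iff (E : GrLC.StarInjRes 𝒜 ℳ) (a : HomogeneousIdeal 𝒜) (i : ℕ) :
    GrLC.endDeg (E.Hgr a i) < 0 ↔ ∀ n : ℤ, 0 ≤ n → E.Hcomp a i n = ⊥ := by
  rw [lt_zero_iff_le_neg_one, endDeg_le_coe_iff]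
  constructor
  · intro h n hn
    exact (Hgr_eq_bot_iff' E a i n).1 (h n (by omega))
  · intro h n hn
    exact (Hgr_eq_bot_iff' E a i n).2 (h n (by omega))

end EndDeg

section Std

variable {k : Type u} [Field k] {A : Type u} [CommRing A] [Algebra k A] [IsNoetherianRing A]
  {𝒜 : ℤ → Submodule k A} [GradedAlgebra 𝒜]

/-- a standard graded Cohen–Macaulay ring of positive dimension has no vanishing piece in
nonnegative degrees -/
theorem piece_ne_bot_of_std [LocCoh.IsCohenMacaulayRing A] (hpos : ∀ n : ℤ, n < 0 → 𝒜 n = ⊥)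
    (h0 : 𝒜 0 = Submodule.span k {(1 : A)})
    (hstd : Ideal.span (⋃ n ∈ Set.Ioi (0 : ℤ), (𝒜 n : Set A)) =
      Ideal.span ((𝒜 1 : Submodule k A) : Set A))
    (r : ℕ) (hr : ringKrullDim A = r) (h1 : 1 ≤ r) (n : ℤ) (hn : 0 ≤ n) : 𝒜 n ≠ ⊥ := by
  haveI : Nontrivial A := ringKrullDim_nontrivial hr
  have hpos' := toAdd_eq_bot_of_neg hpos
  let m := irrelK 𝒜
  have hm : m.toIdeal = Ideal.span (⋃ n ∈ Set.Ioi (0 : ℤ), (𝒜 n : Set A)) := rfl
  have hloc := isStarLocal_toAddH hpos h0 m hm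
  let I := starRes 𝒜
  haveI := H_subsingleton_of_CM hpos' (HomogeneousIdeal.toAddH 𝒜 m) hloc r hr
    (StarInjRes.toAddR 𝒜 I (toAdd 𝒜) (fun _ _ h => h)) 0 (by omega)
  have hΓ : GrLC.gam (HomogeneousIdeal.toAddH 𝒜 m).toIdeal A = ⊥ := by
    rw [eq_bot_iff]
    intro z hz
    rw [Submodule.mem_bot]
    exact Groth.Agent.Helper23.KDim.gam_eq_zero_of_H_zero
      (StarInjRes.toAddR 𝒜 I (toAdd 𝒜) (fun _ _ h => h)) (HomogeneousIdeal.toAddH 𝒜 m)
      (fun w => Subsingleton.elim _ _) z hz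
  obtain ⟨t, rfl⟩ : ∃ t : ℕ, n = (t : ℤ) := ⟨n.toNat, by omega⟩
  obtain ⟨s, hs, hs1⟩ := Groth.Agent.Helper20.GorBr.exists_mul_ne_zero_of_gam_eq_bot
    (𝒜 := toAdd 𝒜) (HomogeneousIdeal.toAddH 𝒜 m) hm hstd hΓ (one_ne_zero (α := A)) t
  intro hbot
  have hs' : s ∈ 𝒜 (t : ℤ) := hs
  rw [hbot, Submodule.mem_bot] at hs'
  apply hs1
  rw [hs', zero_mul]

end Std

end Groth.Agent.Helper20.GrInj

namespace Groth.Agent.Helper20.Seg

open Groth.Agent.Helper20.GrInj Groth.Agent.Helper8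

universe u

/-- Cohen–Macaulayness of the Segre product of two standard graded Cohen–Macaulay rings of
dimension at least two -/
theorem segre_cm_iff_aInvariants (k : Type u) [Field k] (R : Type u) [CommRing R] [Algebra k R] (𝒜 : ℤ → Submodule k R) [GradedAlgebra 𝒜] (hposR : ∀ n : ℤ, n < 0 → 𝒜 n = ⊥) (h0R : 𝒜 0 = Submodule.span k {(1 : R)}) [Algebra.FiniteType k R] (S : Type u) [CommRing S] [Algebra k S] (ℬ : ℤ → Submodule k S) [GradedAlgebra ℬ] (hposS : ∀ n : ℤ, n < 0 → ℬ n = ⊥) (h0S : ℬ 0 = Submodule.span k {(1 : S)}) [Algebra.FiniteType k S] (T : Type u) [CommRing T] [Algebra k T] (𝒯 : ℤ → Submodule k T) [GradedAlgebra 𝒯] (ψ : T →ₐ[k] TensorProduct k R S) (hψ : Function.Injective ψ) (hdegT : ∀ n : ℤ, (𝒯 n).map ψ.toLinearMap = Submodule.span k {x : TensorProduct k R S | ∃ a ∈ 𝒜 n, ∃ b ∈ ℬ n, x = a ⊗ₜ[k] b}) [LocCoh.IsCohenMacaulayRing R] [LocCoh.IsCohenMacaulayRing S] (mR : HomogeneousIdeal 𝒜) (hmR : mR.toIdeal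 = Ideal.span (⋃ n ∈ Set.Ioi (0 : ℤ), (𝒜 n : Set R))) (hstdR : Ideal.span (⋃ n ∈ Set.Ioi (0 : ℤ), (𝒜 n : Set R)) = Ideal.span ((𝒜 1 : Submodule k R) : Set R)) (I : GrLC.StarInjRes 𝒜 𝒜) (mS : HomogeneousIdeal ℬ) (hmS : mS.toIdeal = Ideal.span (⋃ n ∈ Set.Ioi (0 : ℤ), (ℬ n : Set S))) (hstdS : Ideal.span (⋃ n ∈ Set.Ioi (0 : ℤ), (ℬ n : Set S)) = Ideal.span ((ℬ 1 : Submodule k S) : Set S)) (J : GrLC.StarInjRes ℬ ℬ) (r s : ℕ) (hr : ringKrullDim R = r) (hs : ringKrullDim S = s) (h2r : 2 ≤ r) (h2s : 2 ≤ s) : LocCoh.IsCohenMacaulayRing T ↔ GrLC.endDeg (I.Hgr mR r) < 0 ∧ GrLC.endDeg (J.Hgr mS s) < 0 := by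
  haveI : IsNoetherianRing R := Algebra.FiniteType.isNoetherianRing k R
  haveI : IsNoetherianRing S := Algebra.FiniteType.isNoetherianRing k S
  have key := segre_cm_iff k R 𝒜 hposR h0R S ℬ hposS h0S T 𝒯 ψ hψ hdegT mR hmR I mS hmS J r s hr hs
    (by omega) (by omega)
  rw [key, endDeg_Hgr_lt_zero_iff, endDeg_Hgr_lt_zero_iff]
  constructor
  · rintro ⟨h1, h2⟩
    constructor
    · intro n hn
      rcases h2 h2s n with h | h
      · exact h
      · exact absurd h (piece_ne_bot_of_std hposS h0S hstdS s hs (by omega) n hn)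
    · intro n hn
      rcases h1 h2r n with h | h
      · exact absurd h (piece_ne_bot_of_std hposR h0R hstdR r hr (by omega) n hn)
      · exact h
  · rintro ⟨h1, h2⟩
    constructor
    · intro _ n
      rcases lt_or_ge n 0 with hn | hn
      · exact Or.inl (hposR n hn)
      · exact Or.inr (h2 n hn)
    · intro _ n
      rcases lt_or_ge n 0 with hn | hn
      · exact Or.inr (hposS n hn)
      · exact Or.inl (h1 n hn)

end Groth.Agent.Helper20.Seg
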