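import Mathlib
import Groth.Prelude
import Groth.Agent.Lib.Helper20.GrDual5
import Groth.Agent.Lib.Helper20.GrSS4
import Groth.Agent.Lib.Helper20.GrSeg37
import Groth.Agent.Lib.Lead.Bass3

/-!
# If the Segre product of two standard graded Cohen–Macaulay rings of dimension at least two is
Gorenstein, so are the factors, with equal `a`-invariants (helper20)
-/

set_option autoImplicit false

open DirectSum TensorProduct

namespace Groth.Agent.Helper20.Seg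

open Groth.Agent.Helper20.GrInj Groth.Agent.Helper8 Groth.Agent.Helper20.Kun
  Groth.Agent.Helper20.SegFin Groth.Agent.Helper20.KS Groth.Agent.Helper20.GorBr
  Groth.Agent.Helper20.GorType Groth.Agent.Helper20.GrDual

universe u

section Abs

variable {k : Type u} [Field k] {R S T : Type u} [CommRing R] [CommRing S] [CommRing T]
  [Algebra k R] [Algebra k S] [Algebra k T]
  {𝒜 : ℤ → Submodule k R} [GradedAlgebra 𝒜] {ℬ : ℤ → Submodule k S} [GradedAlgebra ℬ]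
  {𝒯 : ℤ → Submodule k T} [GradedAlgebra 𝒯] {ψ : T →ₐ[k] R ⊗[k] S}
  (hT : GrSeg.IsSegreRing 𝒜 ℬ 𝒯 ψ)
  {HX : Type u} [AddCommGroup HX] [Module R HX] [Module k HX] [IsScalarTower k R HX]
  (ℋX : ℤ → AddSubgroup HX)
  {HY : Type u} [AddCommGroup HY] [Module S HY] [Module k HY] [IsScalarTower k S HY]
  (ℋY : ℤ → AddSubgroup HY)
  {W : Type u} [AddCommGroup W] [Module T W] (𝒲 : ℤ → AddSubgroup W)
  (Φ : W →ₗ[T] Amb ψ HX HY) (hΦ : Function.Injective Φ)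
  (hΦim : ∀ n : ℤ, Φ '' (𝒲 n : Set W) = (GrSeg.segrePiece k ℋX ℋY n : Set (HX ⊗[k] HY)))

include hT hΦ in
/-- if `t ∈ T_d` does not kill the element `x # y`, some element of `R_d` does not kill `x` and
some element of `S_d` does not kill `y` -/
theorem exists_smul_ne_zero_of_seg {d : ℤ} {t : T} (ht : t ∈ 𝒯 d) {w : W} {x : HX} {y : HY}
    (hw : (Φ w : HX ⊗[k] HY) = x ⊗ₜ[k] y) (htw : t • w ≠ 0) :
    (∃ a ∈ 𝒜 d, a • x ≠ 0) ∧ ∃ b ∈ ℬ d, b • y ≠ 0 := by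
  have hψt : ψ t ∈ GrSeg.segrePiece k 𝒜 ℬ d := by
    rw [← hT.2 d]
    exact ⟨t, ht, rfl⟩
  have h2 : (Φ (t • w) : HX ⊗[k] HY) = GrSeg.act k R S HX HY (ψ t) (x ⊗ₜ[k] y) := by
    rw [map_smul, ← hw]
    rfl
  have hne : GrSeg.act k R S HX HY (ψ t) (x ⊗ₜ[k] y) ≠ 0 := by
    rw [← h2]
    intro h
    exact htw (hΦ (h.trans (map_zero Φ).symm))
  constructor
  · by_contra hcon
    push Not at hcon
    apply hne
    have key : ∀ z ∈ GrSeg.segrePiece k 𝒜 ℬ d,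
        GrSeg.act k R S HX HY z (x ⊗ₜ[k] y) = 0 := by
      intro z hz
      unfold GrSeg.segrePiece at hz
      induction hz using Submodule.span_induction with
      | mem z hz =>
        obtain ⟨a, ha, b, -, rfl⟩ := hz
        rw [GrSeg.act_tmul, hcon a ha, TensorProduct.zero_tmul]
      | zero => rw [map_zero, LinearMap.zero_apply]
      | add z z' _ _ hz hz' => rw [map_add, LinearMap.add_apply, hz, hz', add_zero]
      | smul c z _ hz => rw [map_smul, LinearMap.smul_apply, hz, smul_zero]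
    exact key _ hψt
  · by_contra hcon
    push Not at hcon
    apply hne
    have key : ∀ z ∈ GrSeg.segrePiece k 𝒜 ℬ d,
        GrSeg.act k R S HX HY z (x ⊗ₜ[k] y) = 0 := by
      intro z hz
      unfold GrSeg.segrePiece at hz
      induction hz using Submodule.span_induction with
      | mem z hz =>
        obtain ⟨a, -, b, hb, rfl⟩ := hz
        rw [GrSeg.act_tmul, hcon b hb, TensorProduct.tmul_zero]
      | zero => rw [map_zero, LinearMap.zero_apply]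
      | add z z' _ _ hz hz' => rw [map_add, LinearMap.add_apply, hz, hz', add_zero]
      | smul c z _ hz => rw [map_smul, LinearMap.smul_apply, hz, smul_zero]
    exact key _ hψt

include hΦ hΦim in
/-- if `t = r # s` does not kill `h ∈ W_n`, then `r` does not kill `X_n` and `s` does not kill
`Y_n` -/
theorem exists_smul_ne_zero_of_tmul_seg {n : ℤ} {t : T} {r : R} {s : S}
    (ht : ψ t = r ⊗ₜ[k] s) {h : W} (hh : h ∈ 𝒲 n) (hth : t • h ≠ 0) :
    (∃ x ∈ ℋX n, r • x ≠ 0) ∧ ∃ y ∈ ℋY n, s • y ≠ 0 := by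
  have h1 := Φ_mem_piece ℋX ℋY 𝒲 Φ hΦim hh
  have h2 : (Φ (t • h) : HX ⊗[k] HY) = GrSeg.act k R S HX HY (r ⊗ₜ[k] s) (Φ h) := by
    rw [map_smul, ← ht]
    rfl
  have hne : GrSeg.act k R S HX HY (r ⊗ₜ[k] s) (Φ h) ≠ 0 := by
    rw [← h2]
    intro h'
    exact hth (hΦ (h'.trans (map_zero Φ).symm))
  constructor
  · by_contra hcon
    push Not at hcon
    apply hne
    have key : ∀ z ∈ GrSeg.segrePiece k ℋX ℋY n,
        GrSeg.act k R S HX HY (r ⊗ₜ[k] s) z = 0 := by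
      intro z hz
      unfold GrSeg.segrePiece at hz
      induction hz using Submodule.span_induction with
      | mem z hz =>
        obtain ⟨a, ha, b, -, rfl⟩ := hz
        rw [GrSeg.act_tmul, hcon a ha, TensorProduct.zero_tmul]
      | zero => rw [map_zero]
      | add z z' _ _ hz hz' => rw [map_add, hz, hz', add_zero]
      | smul c z _ hz => rw [map_smul, hz, smul_zero]
    exact key _ h1
  · by_contra hcon
    push Not at hcon
    apply hne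
    have key : ∀ z ∈ GrSeg.segrePiece k ℋX ℋY n,
        GrSeg.act k R S HX HY (r ⊗ₜ[k] s) z = 0 := by
      intro z hz
      unfold GrSeg.segrePiece at hz
      induction hz using Submodule.span_induction with
      | mem z hz =>
        obtain ⟨a, -, b, hb, rfl⟩ := hz
        rw [GrSeg.act_tmul, hcon b hb, TensorProduct.tmul_zero]
      | zero => rw [map_zero]
      | add z z' _ _ hz hz' => rw [map_add, hz, hz', add_zero]
      | smul c z _ hz => rw [map_smul, hz, smul_zero]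
    exact key _ h1

include hΦ hΦim in
/-- if the piece `W_c` of the Segre product is a line, so are `X_c` and `Y_c` -/
theorem exists_generators_of_line {c : ℤ} {w₀ : W} (hw₀0 : w₀ ≠ 0) (hw₀ : w₀ ∈ 𝒲 c)
    (hline : ∀ w ∈ 𝒲 c, ∃ l : k, w = algebraMap k T l • w₀) :
    (∃ x₁ ∈ ℋX c, x₁ ≠ 0 ∧ ∀ x ∈ ℋX c, ∃ l : k, x = l • x₁) ∧
      ∃ y₁ ∈ ℋY c, y₁ ≠ 0 ∧ ∀ y ∈ ℋY c, ∃ l : k, y = l • y₁ := by
  have hWne : 𝒲 c ≠ ⊥ := by
    intro h
    rw [h] at hw₀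
    exact hw₀0 (AddSubgroup.mem_bot.1 hw₀)
  have hXne : ℋX c ≠ ⊥ := fun h => hWne (piece_eq_bot_seg ℋX ℋY 𝒲 Φ hΦ hΦim (Or.inl h))
  have hYne : ℋY c ≠ ⊥ := fun h => hWne (piece_eq_bot_seg ℋX ℋY 𝒲 Φ hΦ hΦim (Or.inr h))
  obtain ⟨x₁, hx₁, hx₁0⟩ : ∃ x₁ ∈ ℋX c, x₁ ≠ 0 := by
    by_contra hcon
    push Not at hcon
    apply hXne
    rw [eq_bot_iff]
    intro x hx
    exact AddSubgroup.mem_bot.2 (hcon x hx)
  obtain ⟨y₁, hy₁, hy₁0⟩ : ∃ y₁ ∈ ℋY c, y₁ ≠ 0 := by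
    by_contra hcon
    push Not at hcon
    apply hYne
    rw [eq_bot_iff]
    intro y hy
    exact AddSubgroup.mem_bot.2 (hcon y hy)
  -- preimages of pure tensors
  obtain ⟨u₀, hu₀⟩ : ∃ u₀ : HX ⊗[k] HY, u₀ = Φ w₀ := ⟨_, rfl⟩
  have hpre : ∀ x ∈ ℋX c, ∀ y ∈ ℋY c, ∃ l : k, x ⊗ₜ[k] y = l • u₀ := by
    intro x hx y hy
    have h1 : x ⊗ₜ[k] y ∈ (GrSeg.segrePiece k ℋX ℋY c : Set (HX ⊗[k] HY)) :=
      Submodule.subset_span ⟨x, hx, y, hy, rfl⟩
    rw [← hΦim c] at h1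
    obtain ⟨w, hw, hΦw⟩ := h1
    obtain ⟨l, rfl⟩ := hline w hw
    refine ⟨l, ?_⟩
    rw [← hΦw, map_smul, algebraMap_smul, hu₀]
    rfl
  obtain ⟨l₁, hl₁⟩ := hpre x₁ hx₁ y₁ hy₁
  have hx₁y₁ : x₁ ⊗ₜ[k] y₁ ≠ 0 := tmul_ne_zero_of_ne_zero hx₁0 hy₁0
  have hl₁0 : l₁ ≠ 0 := by
    rintro rfl
    rw [zero_smul] at hl₁
    exact hx₁y₁ hl₁
  have hΦw₀ : u₀ = l₁⁻¹ • (x₁ ⊗ₜ[k] y₁) := by
    rw [hl₁, smul_smul, inv_mul_cancel₀ hl₁0, one_smul]
  refine ⟨⟨x₁, hx₁, hx₁0, fun x hx => ?_⟩, ⟨y₁, hy₁, hy₁0, fun y hy => ?_⟩⟩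
  · obtain ⟨l, hl⟩ := hpre x hx y₁ hy₁
    refine ⟨l * l₁⁻¹, ?_⟩
    by_contra hne
    have h2 : (x - (l * l₁⁻¹) • x₁) ⊗ₜ[k] y₁ = 0 := by
      rw [TensorProduct.sub_tmul, hl, hΦw₀, smul_smul, TensorProduct.smul_tmul', sub_self]
    exact tmul_ne_zero_of_ne_zero (sub_ne_zero.2 hne) hy₁0 h2
  · obtain ⟨l, hl⟩ := hpre x₁ hx₁ y hy
    refine ⟨l * l₁⁻¹, ?_⟩
    by_contra hne
    have h2 : x₁ ⊗ₜ[k] (y - (l * l₁⁻¹) • y₁) = 0 := by
      rw [TensorProduct.tmul_sub, hl, hΦw₀, smul_smul, TensorProduct.tmul_smul, sub_self]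
    exact tmul_ne_zero_of_ne_zero hx₁0 (sub_ne_zero.2 hne) h2

end Abs

end Groth.Agent.Helper20.Seg
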