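import Mathlib
import Groth.Prelude
import Groth.Agent.Lib.Helper20.GrDual7

/-!
# If the Segre product of two standard graded Cohen–Macaulay rings of dimension at least two is
Gorenstein, so are the factors, with equal negative `a`-invariants: the main theorem (helper20)
-/

set_option autoImplicit false

open DirectSum TensorProduct

namespace Groth.Agent.Helper20.GrDual

open Groth.Agent.Helper20.GrInj Groth.Agent.Helper8 Groth.Agent.Helper20.GorBr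
  Groth.Agent.Helper20.GorType

universe u

section Div

variable {R : Type u} [CommRing R] [IsNoetherianRing R] [LocCoh.IsCohenMacaulayRing R]
  {𝒜 : ℤ → AddSubgroup R} [GradedRing 𝒜]
variable (hpos : ∀ n : ℤ, n < 0 → 𝒜 n = ⊥)
  (m : HomogeneousIdeal 𝒜) (hm : GrLC.IsStarLocal 𝒜 m)
  (hmsp : m.toIdeal = Ideal.span (⋃ n ∈ Set.Ioi (0 : ℤ), (𝒜 n : Set R)))
  (hstd : Ideal.span (⋃ n ∈ Set.Ioi (0 : ℤ), (𝒜 n : Set R)) =
    Ideal.span ((𝒜 1 : AddSubgroup R) : Set R))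
  (n : ℕ) (hn : ringKrullDim R = n) (h2 : 2 ≤ n) (I : GrLC.StarInjRes 𝒜 𝒜)

include hpos hm hmsp hstd hn h2 in
/-- `H^n_m(R)_j = R_1 H^n_m(R)_{j-1}` for a standard graded Cohen–Macaulay ring -/
theorem hgr_div_CM (j : ℤ) (w : I.H m n) (hw : w ∈ I.Hgr m n j) :
    w ∈ AddSubgroup.closure {z : I.H m n | ∃ r ∈ 𝒜 1, ∃ y ∈ I.Hgr m n (j - 1), z = r • y} := by
  obtain ⟨x₁, -, hx₁, -, hx₁reg, -⟩ := exists_regular_pair hpos m hm hmsp n hn h2 1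
  have hx₁m : x₁ ∈ m.toIdeal := by
    rw [hmsp]
    refine Ideal.span_mono ?_ hx₁
    intro z hz
    rw [Set.mem_iUnion₂] at hz ⊢
    obtain ⟨i, hi, hzi⟩ := hz
    exact ⟨i, by rw [Set.mem_Ioi]; rw [Set.mem_Ici] at hi; omega, hzi⟩
  obtain ⟨g, x₀, hg, hx₀, hx₀reg⟩ := exists_homog_nzd hpos m hmsp ⟨x₁, hx₁m, hx₁reg⟩
  exact hgr_div m hstd n hn I hg hx₀ hx₀reg j w hw

include hpos hm hmsp hstd hn h2 in
/-- the pieces of `H^n_m(R)` below a nonzero piece are nonzero -/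
theorem exists_ne_zero_below {c : ℤ} {x₁ : I.H m n} (hx₁ : x₁ ∈ I.Hgr m n c) (hx₁0 : x₁ ≠ 0) :
    ∀ d : ℕ, ∃ x ∈ I.Hgr m n (c - d), x ≠ 0 := by
  intro d
  induction d with
  | zero => exact ⟨x₁, by rwa [Nat.cast_zero, sub_zero], hx₁0⟩
  | succ d ih =>
    obtain ⟨x, hx, hx0⟩ := ih
    by_contra hcon
    push Not at hcon
    apply hx0
    have hcl := hgr_div_CM hpos m hm hmsp hstd n hn h2 I (c - d) x hx
    refine AddSubgroup.closure_induction (p := fun z _ => z = 0) ?_ rfl ?_ ?_ hcl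
    · rintro _ ⟨r, -, y, hy, rfl⟩
      rw [show c - (d : ℤ) - 1 = c - ((d + 1 : ℕ) : ℤ) by push_cast; ring] at hy
      rw [hcon y hy, smul_zero]
    · intro z z' _ _ hz hz'
      rw [hz, hz', add_zero]
    · intro z _ hz
      rw [hz, neg_zero]

end Div

end Groth.Agent.Helper20.GrDual

namespace Groth.Agent.Helper20.Seg

open Groth.Agent.Helper20.GrInj Groth.Agent.Helper8 Groth.Agent.Helper20.Kun
  Groth.Agent.Helper20.SegFin Groth.Agent.Helper20.KS Groth.Agent.Helper20.GorBr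
  Groth.Agent.Helper20.GorType Groth.Agent.Helper20.GrDual

universe u

/-- **if the Segre product of two standard graded Cohen–Macaulay rings of dimensions at least two
is Gorenstein, then both factors are Gorenstein, with equal negative `a`-invariants** -/
theorem segre_gorenstein_converse (k : Type u) [Field k] (R : Type u) [CommRing R] [Algebra k R]
    (𝒜 : ℤ → Submodule k R) [GradedAlgebra 𝒜] (hposR : ∀ n : ℤ, n < 0 → 𝒜 n = ⊥)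
    (h0R : 𝒜 0 = Submodule.span k {(1 : R)}) [Algebra.FiniteType k R] (S : Type u) [CommRing S]
    [Algebra k S] (ℬ : ℤ → Submodule k S) [GradedAlgebra ℬ] (hposS : ∀ n : ℤ, n < 0 → ℬ n = ⊥)
    (h0S : ℬ 0 = Submodule.span k {(1 : S)}) [Algebra.FiniteType k S] (T : Type u) [CommRing T]
    [Algebra k T] (𝒯 : ℤ → Submodule k T) [GradedAlgebra 𝒯] (ψ : T →ₐ[k] TensorProduct k R S)
    (hψ : Function.Injective ψ)
    (hdegT : ∀ n : ℤ, (𝒯 n).map ψ.toLinearMap =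
      Submodule.span k {x : TensorProduct k R S | ∃ a ∈ 𝒜 n, ∃ b ∈ ℬ n, x = a ⊗ₜ[k] b})
    [LocCoh.IsCohenMacaulayRing R] [LocCoh.IsCohenMacaulayRing S] (mR : HomogeneousIdeal 𝒜)
    (hmR : mR.toIdeal = Ideal.span (⋃ n ∈ Set.Ioi (0 : ℤ), (𝒜 n : Set R)))
    (hstdR : Ideal.span (⋃ n ∈ Set.Ioi (0 : ℤ), (𝒜 n : Set R)) =
      Ideal.span ((𝒜 1 : Submodule k R) : Set R))
    (I : GrLC.StarInjRes 𝒜 𝒜) (mS : HomogeneousIdeal ℬ)
    (hmS : mS.toIdeal = Ideal.span (⋃ n ∈ Set.Ioi (0 : ℤ), (ℬ n : Set S)))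
    (hstdS : Ideal.span (⋃ n ∈ Set.Ioi (0 : ℤ), (ℬ n : Set S)) =
      Ideal.span ((ℬ 1 : Submodule k S) : Set S))
    (J : GrLC.StarInjRes ℬ ℬ) (r s : ℕ) (hr : ringKrullDim R = r) (hs : ringKrullDim S = s)
    (h2r : 2 ≤ r) (h2s : 2 ≤ s) [hGT : LocCoh.IsGorensteinRing T] :
    LocCoh.IsGorensteinRing R ∧ LocCoh.IsGorensteinRing S ∧
      GrLC.endDeg (I.Hgr mR r) = GrLC.endDeg (J.Hgr mS s) ∧ GrLC.endDeg (I.Hgr mR r) < 0 := by
  have hT : GrSeg.IsSegreRing 𝒜 ℬ 𝒯 ψ := ⟨hψ, hdegT⟩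
  haveI : IsNoetherianRing R := Algebra.FiniteType.isNoetherianRing k R
  haveI : IsNoetherianRing S := Algebra.FiniteType.isNoetherianRing k S
  haveI : IsNoetherianRing T := Groth.Agent.Helper27.Segre.isNoetherianRing 𝒜 ℬ 𝒯 ψ hT.2 hT.1
  haveI : Nontrivial R := ringKrullDim_nontrivial hr
  haveI : Nontrivial S := ringKrullDim_nontrivial hs
  haveI : Nontrivial T := segre_nontrivial hT
  have hposT := segre_hpos hT hposR
  have h0T := segre_h0 hT h0R h0S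
  have hdimT : ringKrullDim T = ((r + s - 1 : ℕ) : WithBot ℕ∞) :=
    ringKrullDim_segre k R 𝒜 hposR h0R S ℬ hposS h0S T 𝒯 ψ hψ hdegT r s hr hs (by omega)
      (by omega)
  haveI hCMT : LocCoh.IsCohenMacaulayRing T :=
    ⟨fun p _ =>
      haveI := hGT.isGorensteinLocalRing_localization p
      Groth.Agent.Lead.Depth.isCohenMacaulayLocalRing_of_isGorensteinLocalRing _⟩
  have hneg := (segre_cm_iff_aInvariants k R 𝒜 hposR h0R S ℬ hposS h0S T 𝒯 ψ hψ hdegT mR hmR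
    hstdR I mS hmS hstdS J r s hr hs h2r h2s).1 hCMT
  have hSne : ∀ d : ℤ, 0 ≤ d → ∃ b ∈ ℬ d, b ≠ 0 := fun d hd =>
    Submodule.exists_mem_ne_zero_of_ne_bot
      (piece_ne_bot_of_std hposS h0S hstdS s hs (by omega) d hd)
  have hRne : ∀ d : ℤ, 0 ≤ d → ∃ a ∈ 𝒜 d, a ≠ 0 := fun d hd =>
    Submodule.exists_mem_ne_zero_of_ne_bot
      (piece_ne_bot_of_std hposR h0R hstdR r hr (by omega) d hd)
  obtain ⟨ρ, rfl⟩ : ∃ ρ, r = ρ + 2 := ⟨r - 2, by omega⟩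
  obtain ⟨σ, rfl⟩ : ∃ σ, s = σ + 2 := ⟨s - 2, by omega⟩
  have e1 : ρ + 2 + (σ + 2) - 1 = ρ + σ + 3 := by omega
  rw [e1] at hdimT
  let mT := irrelK 𝒯
  have hmT : mT.toIdeal = Ideal.span (⋃ n ∈ Set.Ioi (0 : ℤ), (𝒯 n : Set T)) := rfl
  let IT := starRes 𝒯
  let mR' := HomogeneousIdeal.toAddH 𝒜 mR
  let mS' := HomogeneousIdeal.toAddH ℬ mS
  let mT' := HomogeneousIdeal.toAddH 𝒯 mT
  let I' := StarInjRes.toAddR 𝒜 I (toAdd 𝒜) (fun _ _ h => h)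
  let J' := StarInjRes.toAddR ℬ J (toAdd ℬ) (fun _ _ h => h)
  let IT' := StarInjRes.toAddR 𝒯 IT (toAdd 𝒯) (fun _ _ h => h)
  have hvanR : ∀ q, ρ + 2 < q → Subsingleton (I.H mR q) := by
    intro q hq
    obtain ⟨e⟩ := nonempty_H_equiv_LC I' mR' q
    haveI := LC.H_subsingleton_of_ringKrullDim_lt mR'.toIdeal (ρ + 2) hr R q hq
    exact e.toEquiv.subsingleton
  have hvanS : ∀ q, σ + 2 < q → Subsingleton (J.H mS q) := by
    intro q hq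
    obtain ⟨e⟩ := nonempty_H_equiv_LC J' mS' q
    haveI := LC.H_subsingleton_of_ringKrullDim_lt mS'.toIdeal (σ + 2) hs S q hq
    exact e.toEquiv.subsingleton
  -- the Künneth isomorphism in the top degree
  let EM := StarInjRes.toAddM 𝒜 I (toAdd 𝒜) (fun _ _ h => h)
  let EN := StarInjRes.toAddM ℬ J (toAdd ℬ) (fun _ _ h => h)
  let EP := StarInjRes.toAddM 𝒯 IT (toAdd 𝒯) (fun _ _ h => h)
  letI modX := kMod k (R := R) (EM.H mR (ρ + 2))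
  haveI towX := kMod_tower k (R := R) (EM.H mR (ρ + 2))
  letI modY := kMod k (R := S) (EN.H mS (σ + 2))
  haveI towY := kMod_tower k (R := S) (EN.H mS (σ + 2))
  obtain ⟨Φ, hΦ, hΦim⟩ := exists_H_top_seg_map hT (isSegreMod_ring hT) EM mR hmR EN mS hmS EP mT
    hmT ρ σ hvanR hvanS
    (HX := EM.H mR (ρ + 2)) (EM.toH mR (ρ + 2)) (Submodule.ker_mkQ _) (EM.Hgr mR (ρ + 2))
    (fun _ _ => Iff.rfl)
    (HY := EN.H mS (σ + 2)) (EN.toH mS (σ + 2)) (Submodule.ker_mkQ _) (EN.Hgr mS (σ + 2))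
    (fun _ _ => Iff.rfl)
  -- the data of the Gorenstein ring `T`
  obtain ⟨-, c, hsocT, -, hBT⟩ := gor_soc_data hposT h0T mT hmT IT (ρ + σ + 3) hdimT
  have hposR' := toAdd_eq_bot_of_neg hposR
  have hposS' := toAdd_eq_bot_of_neg hposS
  have hposT' := toAdd_eq_bot_of_neg hposT
  have hsmW := hgr_smul_mem mT IT (ρ + σ + 3)
  have htorW := exists_pow_smul_H_eq_zero IT' mT' (ρ + σ + 3)
  have htopW : ∀ j, c < j → IT.Hgr mT (ρ + σ + 3) j = ⊥ := fun j hj =>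
    eq_bot_of_isSocAt_of_lt (𝒜 := toAdd 𝒯) mT' hsmW hposT' htorW hsocT hj
  have hallW : ∀ w ∈ IT.Hgr mT (ρ + σ + 3) c, ∀ t ∈ mT'.toIdeal, t • w = 0 := fun w hw =>
    smul_eq_zero_of_top (𝒜 := toAdd 𝒯) hposT' mT' (toAddH_toIdeal_eq mT hmT) hsmW htopW hw
  have hsocT' := hsocT
  obtain ⟨-, w₀, hw₀, hw₀0, -, hgenW⟩ := hsocT
  have hline : ∀ w ∈ EP.Hgr mT (ρ + σ + 3) c, ∃ l : k, w = algebraMap k T l • w₀ := by
    intro w hw
    obtain ⟨a, ha, rfl⟩ := hgenW w hw (hallW w hw)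
    have ha' : a ∈ 𝒯 0 := ha
    rw [h0T] at ha'
    obtain ⟨l, rfl⟩ := Submodule.mem_span_singleton.1 ha'
    exact ⟨l, by rw [Algebra.algebraMap_eq_smul_one]⟩
  obtain ⟨⟨x₁, hx₁, hx₁0, hgenX⟩, ⟨y₁, hy₁, hy₁0, hgenY⟩⟩ :=
    exists_generators_of_line (EM.Hgr mR (ρ + 2)) (EN.Hgr mS (σ + 2)) (EP.Hgr mT (ρ + σ + 3)) Φ hΦ
      hΦim hw₀0 hw₀ hline
  have hlocR := isStarLocal_toAddH hposR h0R mR hmR
  have hlocS := isStarLocal_toAddH hposS h0S mS hmS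
  have hXne := exists_ne_zero_below (𝒜 := toAdd 𝒜) hposR' mR' hlocR (toAddH_toIdeal_eq mR hmR)
    hstdR (ρ + 2) hr h2r I' hx₁ hx₁0
  have hYne := exists_ne_zero_below (𝒜 := toAdd ℬ) hposS' mS' hlocS (toAddH_toIdeal_eq mS hmS)
    hstdS (σ + 2) hs h2s J' hy₁ hy₁0
  have hXne' : ∀ d : ℤ, 0 ≤ d → ∃ x ∈ EM.Hgr mR (ρ + 2) (c - d), x ≠ 0 := by
    intro d hd
    obtain ⟨d', rfl⟩ : ∃ d' : ℕ, (d' : ℤ) = d := ⟨d.toNat, Int.toNat_of_nonneg hd⟩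
    exact hXne d'
  have hYne' : ∀ d : ℤ, 0 ≤ d → ∃ y ∈ EN.Hgr mS (σ + 2) (c - d), y ≠ 0 := by
    intro d hd
    obtain ⟨d', rfl⟩ : ∃ d' : ℕ, (d' : ℤ) = d := ⟨d.toNat, Int.toNat_of_nonneg hd⟩
    exact hYne d'
  -- nondegeneracy
  have hnd : ∀ d : ℤ, 0 ≤ d → ∀ x ∈ EM.Hgr mR (ρ + 2) (c - d), x ≠ 0 →
      ∀ y ∈ EN.Hgr mS (σ + 2) (c - d), y ≠ 0 →
      (∃ a ∈ 𝒜 d, a • x ≠ 0) ∧ ∃ b ∈ ℬ d, b • y ≠ 0 := by
    intro d hd x hx hx0 y hy hy0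
    have h1 : x ⊗ₜ[k] y ∈ (GrSeg.segrePiece k (EM.Hgr mR (ρ + 2)) (EN.Hgr mS (σ + 2)) (c - d) :
        Set (EM.H mR (ρ + 2) ⊗[k] EN.H mS (σ + 2))) :=
      Submodule.subset_span ⟨x, hx, y, hy, rfl⟩
    rw [← hΦim (c - d)] at h1
    obtain ⟨w, hw, hΦw⟩ := h1
    have hw0 : w ≠ 0 := by
      rintro rfl
      rw [map_zero] at hΦw
      exact tmul_ne_zero_of_ne_zero hx0 hy0 hΦw.symm
    obtain ⟨-, t, ht, htw⟩ := exists_smul_ne_zero_of_isSocAt (𝒜 := toAdd 𝒯) mT' hsmW hposT' htorW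
      hsocT' hw hw0
    have ht' : t ∈ 𝒯 d := by
      have : t ∈ toAdd 𝒯 (c - (c - d)) := ht
      rwa [show c - (c - d) = d by ring] at this
    exact exists_smul_ne_zero_of_seg hT Φ hΦ ht' hΦw htw
  -- faithfulness
  have hfaith : ∀ d : ℤ, 0 ≤ d → ∀ a ∈ 𝒜 d, a ≠ 0 → ∀ b ∈ ℬ d, b ≠ 0 →
      (∃ x ∈ EM.Hgr mR (ρ + 2) (c - d), a • x ≠ 0) ∧
        ∃ y ∈ EN.Hgr mS (σ + 2) (c - d), b • y ≠ 0 := by
    intro d hd a ha ha0 b hb hb0
    obtain ⟨t, ht, htψ⟩ := exists_psi_eq_tmul hT ha hb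
    have ht0 : t ≠ 0 := by
      rintro rfl
      rw [map_zero] at htψ
      exact tmul_ne_zero_of_ne_zero ha0 hb0 htψ.symm
    obtain ⟨h, hh, hth⟩ := hBT d t ht ht0
    exact exists_smul_ne_zero_of_tmul_seg (EM.Hgr mR (ρ + 2)) (EN.Hgr mS (σ + 2))
      (EP.Hgr mT (ρ + σ + 3)) Φ hΦ hΦim htψ hh hth
  have keyR := isGorensteinRing_of_partial (𝒜 := toAdd 𝒜) hposR' (isField_deg0 h0R) mR' hlocR
    (toAddH_toIdeal_eq mR hmR) hstdR (ρ + 2) hr h2r I' 1 Nat.one_pos c x₁ hx₁ hx₁0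
    (by
      intro x hx
      obtain ⟨l, rfl⟩ := hgenX x hx
      exact ⟨algebraMap k R l, SetLike.algebraMap_mem_graded 𝒜 l, (algebraMap_smul R l x₁).symm⟩)
    (by
      intro d hd _ x hx hx0
      obtain ⟨y, hy, hy0⟩ := hYne' d hd
      exact (hnd d hd x hx hx0 y hy hy0).1)
    (by
      intro d hd _ a ha ha0
      obtain ⟨b, hb, hb0⟩ := hSne d hd
      exact (hfaith d hd a ha ha0 b hb hb0).1)
  have keyS := isGorensteinRing_of_partial (𝒜 := toAdd ℬ) hposS' (isField_deg0 h0S) mS' hlocS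
    (toAddH_toIdeal_eq mS hmS) hstdS (σ + 2) hs h2s J' 1 Nat.one_pos c y₁ hy₁ hy₁0
    (by
      intro y hy
      obtain ⟨l, rfl⟩ := hgenY y hy
      exact ⟨algebraMap k S l, SetLike.algebraMap_mem_graded ℬ l, (algebraMap_smul S l y₁).symm⟩)
    (by
      intro d hd _ y hy hy0
      obtain ⟨x, hx, hx0⟩ := hXne' d hd
      exact (hnd d hd x hx hx0 y hy hy0).2)
    (by
      intro d hd _ b hb hb0
      obtain ⟨a, ha, ha0⟩ := hRne d hd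
      exact (hfaith d hd a ha ha0 b hb hb0).2)
  exact ⟨keyR.1, keyS.1, keyR.2.trans keyS.2.symm, hneg.1⟩

end Groth.Agent.Helper20.Seg
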