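import Mathlib
import Groth.Prelude
import Groth.Agent.Lib.Helper27.GrSectC
import Groth.Agent.Lib.Helper20.NatInt
import Groth.Agent.Lib.Helper7.Graded

/-!
# The grading of the section ring of a point divisor (helper20)
-/

set_option autoImplicit false

open DirectSum

namespace Groth.Agent.Helper20.GrKz

open FunFld Polynomial W4c6gradedringsgw Groth.Agent.Helper27.GrSect

universe u

variable {k K : Type u} [Field k] [Field K] [Algebra k K]

/-- the degree-`n` piece of the section ring -/
def grN (P : Place k K) (n : ℕ) : Submodule k (RP P) where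
  carrier := {p | ∀ m, m ≠ n → (p : K[X]).coeff m = 0}
  add_mem' := by
    intro a b ha hb m hm
    show ((a : K[X]) + (b : K[X])).coeff m = 0
    rw [coeff_add, ha m hm, hb m hm, add_zero]
  zero_mem' := by
    intro m _
    show (0 : K[X]).coeff m = 0
    exact coeff_zero m
  smul_mem' := by
    intro c a ha m hm
    show (c • (a : K[X])).coeff m = 0
    rw [coeff_smul, ha m hm, smul_zero]

theorem mem_grN (P : Place k K) (n : ℕ) (p : RP P) :
    p ∈ grN P n ↔ ∀ m, m ≠ n → (p : K[X]).coeff m = 0 := Iff.rfl

theorem eq_monomial_of_mem_grN {P : Place k K} {n : ℕ} {p : RP P} (hp : p ∈ grN P n) :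
    (p : K[X]) = monomial n ((p : K[X]).coeff n) := by
  ext m
  rw [coeff_monomial]
  split_ifs with h
  · subst h; rfl
  · exact hp m (Ne.symm h)

/-- the degree-`n` component -/
noncomputable def compN (P : Place k K) (n : ℕ) (p : RP P) : RP P :=
  mono P n ((p : K[X]).coeff n) (coeff_mem P p n)

theorem compN_coe (P : Place k K) (n : ℕ) (p : RP P) :
    ((compN P n p : RP P) : K[X]) = monomial n ((p : K[X]).coeff n) := rfl

theorem compN_mem (P : Place k K) (n : ℕ) (p : RP P) : compN P n p ∈ grN P n := by
  intro m hm
  rw [compN_coe, coeff_monomial, if_neg (Ne.symm hm)]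

theorem compN_of_mem {P : Place k K} {n : ℕ} {p : RP P} (hp : p ∈ grN P n) :
    compN P n p = p := by
  apply Subtype.ext
  rw [compN_coe]
  exact (eq_monomial_of_mem_grN hp).symm

theorem compN_of_mem_ne {P : Place k K} {n m : ℕ} {p : RP P} (hp : p ∈ grN P n) (hm : m ≠ n) :
    compN P m p = 0 := by
  apply Subtype.ext
  rw [compN_coe, hp m hm, monomial_zero_right]
  rfl

theorem compN_add (P : Place k K) (n : ℕ) (p q : RP P) :
    compN P n (p + q) = compN P n p + compN P n q := by
  apply Subtype.ext
  show monomial n (((p : K[X]) + (q : K[X])).coeff n) =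
    monomial n ((p : K[X]).coeff n) + monomial n ((q : K[X]).coeff n)
  rw [coeff_add, map_add]

theorem compN_zero (P : Place k K) (n : ℕ) : compN P n 0 = 0 := by
  apply Subtype.ext
  show monomial n ((0 : K[X]).coeff n) = 0
  rw [coeff_zero, monomial_zero_right]

theorem compN_sum (P : Place k K) (n : ℕ) {ι : Type*} (s : Finset ι) (f : ι → RP P) :
    compN P n (∑ i ∈ s, f i) = ∑ i ∈ s, compN P n (f i) := by
  classical
  induction s using Finset.induction_on with
  | empty => simp [compN_zero]
  | insert a s ha ih => rw [Finset.sum_insert ha, Finset.sum_insert ha, compN_add, ih]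

theorem sum_compN (P : Place k K) (p : RP P) :
    ∑ n ∈ (p : K[X]).support, compN P n p = p := by
  apply Subtype.ext
  rw [AddSubmonoidClass.coe_finsetSum]
  simp only [compN_coe]
  conv_rhs => rw [← sum_monomial_eq (p : K[X]), Polynomial.sum_def]

instance grN_gradedMonoid (P : Place k K) : SetLike.GradedMonoid (grN P) where
  one_mem := by
    intro m hm
    show (1 : K[X]).coeff m = 0
    rw [coeff_one, if_neg hm]
  mul_mem := by
    intro i j a b ha hb m hm
    show ((a : K[X]) * (b : K[X])).coeff m = 0
    rw [eq_monomial_of_mem_grN ha, eq_monomial_of_mem_grN hb, monomial_mul_monomial,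
      coeff_monomial, if_neg (Ne.symm hm)]

/-- the decomposition map -/
noncomputable def decN (P : Place k K) (p : RP P) : ⨁ n, grN P n :=
  ∑ n ∈ (p : K[X]).support, DirectSum.of (fun n => grN P n) n ⟨compN P n p, compN_mem P n p⟩

theorem decN_apply (P : Place k K) (p : RP P) (n : ℕ) :
    ((decN P p) n : RP P) = compN P n p := by
  classical
  unfold decN
  rw [DFinsupp.finsetSum_apply, AddSubmonoidClass.coe_finsetSum]
  by_cases hn : n ∈ (p : K[X]).support
  · rw [Finset.sum_eq_single n]
    · rw [DirectSum.of_eq_same]
    · intro m _ hmn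
      rw [DirectSum.of_eq_of_ne _ _ _ (Ne.symm hmn)]
      rfl
    · intro h; exact absurd hn h
  · rw [Finset.sum_eq_zero]
    · have : (p : K[X]).coeff n = 0 := Polynomial.notMem_support_iff.1 hn
      apply Subtype.ext
      rw [compN_coe, this, monomial_zero_right]
      rfl
    · intro m hm
      have hmn : m ≠ n := fun h => hn (h ▸ hm)
      rw [DirectSum.of_eq_of_ne _ _ _ (Ne.symm hmn)]
      rfl

noncomputable instance grN_decomposition (P : Place k K) : DirectSum.Decomposition (grN P) where
  decompose' := decN P
  left_inv := by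
    intro p
    unfold decN
    rw [map_sum]
    simp only [DirectSum.coeAddMonoidHom_of]
    exact sum_compN P p
  right_inv := by
    classical
    intro x
    apply DFinsupp.ext
    intro n
    apply Subtype.ext
    rw [decN_apply]
    rw [DirectSum.coeAddMonoidHom_eq_dfinsuppSum, DFinsupp.sum, compN_sum]
    by_cases hn : n ∈ x.support
    · rw [Finset.sum_eq_single n]
      · exact compN_of_mem (x n).2
      · intro m _ hmn
        exact compN_of_mem_ne (x m).2 (Ne.symm hmn)
      · intro h; exact absurd hn h
    · rw [Finset.sum_eq_zero]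
      · have : x n = 0 := DFinsupp.notMem_support_iff.1 hn
        rw [this]; rfl
      · intro m hm
        have hmn : m ≠ n := fun h => hn (h ▸ hm)
        exact compN_of_mem_ne (x m).2 (Ne.symm hmn)

noncomputable instance grN_gradedAlgebra (P : Place k K) : GradedAlgebra (grN P) :=
  { grN_gradedMonoid P, grN_decomposition P with }

theorem decompose_grN (P : Place k K) (p : RP P) (n : ℕ) :
    ((DirectSum.decompose (grN P) p) n : RP P) = compN P n p :=
  decN_apply P p n

/-- the irrelevant ideal is helper27's `irr` -/
theorem irrelevant_eq (P : Place k K) :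
    (HomogeneousIdeal.irrelevant (grN P)).toIdeal = irr P := by
  ext p
  rw [HomogeneousIdeal.mem_iff, HomogeneousIdeal.mem_irrelevant_iff, GradedRing.proj_apply,
    decompose_grN, mem_irr]
  constructor
  · intro h
    have := congrArg (fun q : RP P => (q : K[X]).coeff 0) h
    simpa [compN_coe] using this
  · intro h
    apply Subtype.ext
    rw [compN_coe, h, monomial_zero_right]
    rfl

end Groth.Agent.Helper20.GrKz
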