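import Mathlib
import Groth.Prelude
import Groth.Agent.Lib.Helper20.GrKz1
import Groth.Agent.Lib.Helper20.GorVer1
import Groth.Agent.Lib.Helper20.GrArt3
import Groth.Agent.Lib.Helper20.Lau5
import Groth.Agent.Lib.Helper20.RE3

/-!
# The section ring of a point divisor is Noetherian and *local (helper20)
-/

set_option autoImplicit false

open DirectSum

namespace Groth.Agent.Helper20.GrKz

open FunFld Polynomial W4c6gradedringsgw Groth.Agent.Helper27.GrSect

universe u

variable {k K : Type u} [Field k] [Field K] [Algebra k K]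

/-- degree-zero elements are constants -/
theorem exists_const_of_mem_grN_zero (hK : IsFunctionField k K) {P : Place k K} {p : RP P}
    (hp : p ∈ grN P 0) : ∃ c : k, p = algebraMap k (RP P) c := by
  have h1 := coeff_mem P p 0
  rw [Nat.cast_zero, Finsupp.single_zero, mem_L_zero_iff hK] at h1
  obtain ⟨c, hc⟩ := h1
  refine ⟨c, ?_⟩
  apply Subtype.ext
  rw [eq_monomial_of_mem_grN hp, ← hc]
  show monomial 0 (algebraMap k K c) = algebraMap k K[X] c
  rw [Polynomial.algebraMap_apply, monomial_zero_left]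

theorem algebraMap_mem_grN_zero (P : Place k K) (c : k) : algebraMap k (RP P) c ∈ grN P 0 := by
  intro m hm
  show (algebraMap k K[X] c).coeff m = 0
  rw [Polynomial.algebraMap_apply, coeff_C, if_neg hm]

theorem isNoetherianRing_RP (hK : IsFunctionField k K) {P : Place k K} (hP : P.deg = 1) :
    IsNoetherianRing (RP P) := by
  have hfg : (HomogeneousIdeal.irrelevant (grN P)).toIdeal.FG := by
    rw [irrelevant_eq, irr_eq_span hK hP]
    exact ⟨(genSet_finite hK hP).toFinset, by simp⟩
  haveI : Algebra.FiniteType (grN P 0) (RP P) :=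
    (Groth.Agent.Helper7.Graded.irrelevant_fg_iff_finiteType (grN P)).1 hfg
  have hsurj : Function.Surjective (algebraMap k (grN P 0)) := by
    intro x
    obtain ⟨c, hc⟩ := exists_const_of_mem_grN_zero hK x.2
    refine ⟨c, ?_⟩
    apply Subtype.ext
    rw [hc]
    rfl
  haveI : IsNoetherianRing (grN P 0) :=
    isNoetherianRing_of_surjective k _ (algebraMap k (grN P 0)) hsurj
  exact Algebra.FiniteType.isNoetherianRing (grN P 0) (RP P)

/-- the `ℤ`-grading of the section ring -/
noncomputable abbrev grZ (P : Place k K) : ℤ → AddSubgroup (RP P) := NatInt.intGr (grN P)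

theorem grZ_neg (P : Place k K) : ∀ n : ℤ, n < 0 → grZ P n = ⊥ := by
  intro n hn
  rw [eq_bot_iff]
  intro x hx
  rw [AddSubgroup.mem_bot]
  exact (NatInt.mem_intGr_of_neg (grN P) hn).1 hx

theorem mem_grZ_zero (P : Place k K) (x : RP P) : x ∈ grZ P 0 ↔ x ∈ grN P 0 := by
  have := NatInt.mem_intGr_natCast (grN P) (n := 0) (x := x)
  rwa [Nat.cast_zero] at this

theorem isField_deg0 (hK : IsFunctionField k K) (P : Place k K) :
    IsField (GrLC.deg0 (grZ P)) := by
  refine { exists_pair_ne := ⟨0, 1, zero_ne_one⟩, mul_comm := mul_comm, mul_inv_cancel := ?_ }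
  intro a ha
  have ha0 : (a : RP P) ∈ grN P 0 := (mem_grZ_zero P _).1 a.2
  obtain ⟨c, hc⟩ := exists_const_of_mem_grN_zero hK ha0
  have hc0 : c ≠ 0 := by
    rintro rfl
    apply ha
    apply Subtype.ext
    rw [hc, map_zero]
    rfl
  refine ⟨⟨algebraMap k (RP P) c⁻¹, (mem_grZ_zero P _).2 (algebraMap_mem_grN_zero P _)⟩, ?_⟩
  apply Subtype.ext
  show (a : RP P) * algebraMap k (RP P) c⁻¹ = 1
  rw [hc, ← map_mul, mul_inv_cancel₀ hc0, map_one]

theorem isStarLocal_grZ (hK : IsFunctionField k K) (P : Place k K) :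
    GrLC.IsStarLocal (grZ P) (GorBr.irr (grZ P)) :=
  GorBr.isStarLocal_irr (grZ_neg P) (isField_deg0 hK P)

theorem irrZ_eq (P : Place k K) : (GorBr.irr (grZ P)).toIdeal = irr P := by
  apply le_antisymm
  · rw [GorBr.irr_toIdeal, Ideal.span_le]
    intro x hx
    simp only [Set.mem_iUnion, Set.mem_Ioi, SetLike.mem_coe, exists_prop] at hx
    obtain ⟨n, hn, hxn⟩ := hx
    obtain ⟨m, rfl⟩ := Int.eq_ofNat_of_zero_le hn.le
    have hxm : x ∈ grN P m := (NatInt.mem_intGr_natCast (grN P)).1 hxn
    rw [SetLike.mem_coe, mem_irr]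
    apply hxm 0
    intro h
    rw [← h] at hn
    simp at hn
  · intro p hp
    rw [mem_irr] at hp
    rw [← sum_compN P p]
    refine Ideal.sum_mem _ fun n hn => ?_
    have hn0 : n ≠ 0 := by
      rintro rfl
      exact (Polynomial.mem_support_iff.1 hn) hp
    rw [GorBr.irr_toIdeal]
    apply Ideal.subset_span
    simp only [Set.mem_iUnion, Set.mem_Ioi, SetLike.mem_coe, exists_prop]
    refine ⟨(n : ℤ), by exact_mod_cast Nat.pos_of_ne_zero hn0, ?_⟩
    exact (NatInt.mem_intGr_natCast (grN P)).2 (compN_mem P n p)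

instance irr_isPrime (P : Place k K) : (irr P).IsPrime := RingHom.ker_isPrime _

theorem irr_isMaximal (hK : IsFunctionField k K) (P : Place k K) : (irr P).IsMaximal := by
  rw [← irrZ_eq]
  exact GrInj.isMaximal_of_isStarLocal (grZ_neg P) _ (isStarLocal_grZ hK P)

/-- the section ring is Gorenstein as soon as its localization at the irrelevant ideal is -/
theorem isGorensteinRing_RP_of_localization (hK : IsFunctionField k K) {P : Place k K}
    (hP : P.deg = 1) (hG : LocCoh.IsGorensteinLocalRing (Localization.AtPrime (irr P))) :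
    LocCoh.IsGorensteinRing (RP P) := by
  haveI := isNoetherianRing_RP hK hP
  haveI : (GorBr.irr (grZ P)).toIdeal.IsPrime := by
    rw [irrZ_eq]; infer_instance
  refine Lau.isGorensteinRing_of_isStarLocal (grZ P) (GorBr.irr (grZ P)) (isStarLocal_grZ hK P) ?_
  exact RE.gorenstein_localization_congr (irrZ_eq P).symm hG

end Groth.Agent.Helper20.GrKz
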