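import Mathlib
import Groth.Prelude
import Groth.Agent.Lib.Helper20.RE3
import Groth.Agent.Lib.Helper20.GorFlat3

/-!
# Gorenstein localizations and two successive quotients by regular elements (helper20)
-/

set_option autoImplicit false

namespace Groth.Agent.Helper20.GrKz

open Groth.Agent.Helper20.GorFlat

universe u

section Glue

theorem map_isMaximal_of_surjective {B S : Type u} [CommRing B] [CommRing S] (f : B →+* S)
    (hf : Function.Surjective f) (M : Ideal B) [hM : M.IsMaximal] (hker : RingHom.ker f ≤ M) :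
    (M.map f).IsMaximal := by
  rcases Ideal.map_eq_top_or_isMaximal_of_surjective f hf hM with h | h
  · exfalso
    have h1 := Ideal.comap_map_of_surjective f hf M
    rw [h, Ideal.comap_top] at h1
    have h2 : M ⊔ Ideal.comap f ⊥ = M := sup_eq_left.2 hker
    rw [h2] at h1
    exact hM.ne_top h1.symm
  · exact h

variable {B : Type u} [CommRing B] [IsNoetherianRing B]

/-- a local ring is Gorenstein iff its localization at the maximal ideal is -/
theorem gor_atPrime_iff_of_isLocalRing {A : Type u} [CommRing A] [IsLocalRing A] (Q : Ideal A)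
    [hQ : Q.IsMaximal] [Q.IsPrime] :
    LocCoh.IsGorensteinLocalRing (Localization.AtPrime Q) ↔ LocCoh.IsGorensteinLocalRing A := by
  have hmax : Q = IsLocalRing.maximalIdeal A := IsLocalRing.eq_maximalIdeal hQ
  have hunits : Q.primeCompl ≤ IsUnit.submonoid A := by
    intro x hx
    have hx' : x ∉ IsLocalRing.maximalIdeal A := by
      rw [← hmax]; exact hx
    exact IsLocalRing.notMem_maximalIdeal.mp hx'
  let e : A ≃ₐ[A] Localization.AtPrime Q := IsLocalization.atUnits A _ hunits
  exact ⟨fun h => isGorensteinLocalRing_of_ringEquiv e.symm.toRingEquiv,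
    fun h => isGorensteinLocalRing_of_ringEquiv e.toRingEquiv⟩

theorem gor_localization_iff_of_isLocalRing_quotient (M : Ideal B) [hM : M.IsMaximal] (t : B)
    (ht : t ∈ nonZeroDivisors B) (htM : t ∈ M) (s : B ⧸ Ideal.span {t})
    (hs : s ∈ nonZeroDivisors (B ⧸ Ideal.span {t}))
    (hsM : s ∈ M.map (Ideal.Quotient.mk (Ideal.span {t})))
    [IsLocalRing ((B ⧸ Ideal.span {t}) ⧸ Ideal.span {s})] :
    LocCoh.IsGorensteinLocalRing (Localization.AtPrime M) ↔
      LocCoh.IsGorensteinLocalRing ((B ⧸ Ideal.span {t}) ⧸ Ideal.span {s}) := by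
  haveI hM1 : (M.map (Ideal.Quotient.mk (Ideal.span {t}))).IsMaximal :=
    map_isMaximal_of_surjective _ Ideal.Quotient.mk_surjective M (by
      rw [Ideal.mk_ker, Ideal.span_singleton_le_iff_mem]; exact htM)
  haveI : (M.map (Ideal.Quotient.mk (Ideal.span {t}))).IsPrime := hM1.isPrime
  haveI hM2 : ((M.map (Ideal.Quotient.mk (Ideal.span {t}))).map
      (Ideal.Quotient.mk (Ideal.span {s}))).IsMaximal :=
    map_isMaximal_of_surjective _ Ideal.Quotient.mk_surjective _ (by
      rw [Ideal.mk_ker, Ideal.span_singleton_le_iff_mem]; exact hsM)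
  haveI : ((M.map (Ideal.Quotient.mk (Ideal.span {t}))).map
      (Ideal.Quotient.mk (Ideal.span {s}))).IsPrime := hM2.isPrime
  have e1 := RE.gorenstein_quotient_localization_iff t ht M htM
  have e2 := RE.gorenstein_quotient_localization_iff s hs
    (M.map (Ideal.Quotient.mk (Ideal.span {t}))) hsM
  rw [← e1, ← e2]
  exact gor_atPrime_iff_of_isLocalRing _

theorem gor_localization_iff_of_surjective {S : Type u} [CommRing S] (M : Ideal B)
    [hM : M.IsMaximal] (t : B) (ht : t ∈ nonZeroDivisors B) (htM : t ∈ M) (φ : B →+* S)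
    (hφ : Function.Surjective φ) (hker : RingHom.ker φ = Ideal.span {t}) (x : S)
    (hx : x ∈ nonZeroDivisors S) (hxM : ∃ b ∈ M, φ b = x) [IsLocalRing (S ⧸ Ideal.span {x})] :
    LocCoh.IsGorensteinLocalRing (Localization.AtPrime M) ↔
      LocCoh.IsGorensteinLocalRing (S ⧸ Ideal.span {x}) := by
  let iso : (B ⧸ Ideal.span {t}) ≃+* S :=
    (Ideal.quotEquivOfEq hker.symm).trans (RingHom.quotientKerEquivOfSurjective hφ)
  have hiso : ∀ b : B, iso (Ideal.Quotient.mk (Ideal.span {t}) b) = φ b := fun b => rfl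
  obtain ⟨b₀, hb₀M, hb₀⟩ := hxM
  have hs : Ideal.Quotient.mk (Ideal.span {t}) b₀ ∈ nonZeroDivisors (B ⧸ Ideal.span {t}) := by
    apply mem_nonZeroDivisors_of_injective (f := iso) iso.injective
    rw [hiso, hb₀]
    exact hx
  have hsM : Ideal.Quotient.mk (Ideal.span {t}) b₀ ∈
      M.map (Ideal.Quotient.mk (Ideal.span {t})) := Ideal.mem_map_of_mem _ hb₀M
  let e2 : ((B ⧸ Ideal.span {t}) ⧸ Ideal.span {Ideal.Quotient.mk (Ideal.span {t}) b₀}) ≃+*
      (S ⧸ Ideal.span {x}) :=
    Ideal.quotientEquiv _ _ iso (by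
      rw [Ideal.map_span, Set.image_singleton]
      show Ideal.span {x} = Ideal.span {iso (Ideal.Quotient.mk (Ideal.span {t}) b₀)}
      rw [hiso, hb₀])
  haveI : IsLocalRing ((B ⧸ Ideal.span {t}) ⧸
      Ideal.span {Ideal.Quotient.mk (Ideal.span {t}) b₀}) := e2.symm.isLocalRing
  rw [gor_localization_iff_of_isLocalRing_quotient M t ht htM _ hs hsM]
  exact ⟨fun h => isGorensteinLocalRing_of_ringEquiv e2,
    fun h => isGorensteinLocalRing_of_ringEquiv e2.symm⟩

end Glue

end Groth.Agent.Helper20.GrKz
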