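import Mathlib
import Groth.Prelude
import Groth.Agent.Lib.Helper27.GrSectB

/-!
# The semigroup ring of a numerical semigroup and its Artinian reduction (helper20)
-/

set_option autoImplicit false

namespace Groth.Agent.Helper20.GrKz

open Polynomial

universe u

variable (k : Type u) [Field k] (H : AddSubmonoid ℕ)

/-- the semigroup ring `k[H]` as a subalgebra of `k[X]` -/
def SH : Subalgebra k k[X] where
  carrier := {f | ∀ n, f.coeff n ≠ 0 → n ∈ H}
  mul_mem' := by
    intro f g hf hg n hn
    rw [coeff_mul] at hn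
    obtain ⟨x, hx, hx0⟩ := Finset.exists_ne_zero_of_sum_ne_zero hn
    have h1 : f.coeff x.1 ≠ 0 := left_ne_zero_of_mul hx0
    have h2 : g.coeff x.2 ≠ 0 := right_ne_zero_of_mul hx0
    have hx' : x.1 + x.2 = n := Finset.HasAntidiagonal.mem_antidiagonal.1 hx
    rw [← hx']
    exact H.add_mem (hf _ h1) (hg _ h2)
  add_mem' := by
    intro f g hf hg n hn
    rw [coeff_add] at hn
    by_cases h1 : f.coeff n = 0
    · rw [h1, zero_add] at hn
      exact hg n hn
    · exact hf n h1
  algebraMap_mem' := by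
    intro c n hn
    rw [Polynomial.algebraMap_apply, coeff_C] at hn
    split_ifs at hn with h
    · rw [h]; exact H.zero_mem
    · exact absurd rfl hn

variable {k H}

theorem mem_SH (f : k[X]) : f ∈ SH k H ↔ ∀ n, f.coeff n ≠ 0 → n ∈ H := Iff.rfl

theorem coeff_ne_zero_mem (f : SH k H) {n : ℕ} (hn : (f : k[X]).coeff n ≠ 0) : n ∈ H :=
  f.2 n hn

theorem monomial_mem_SH {n : ℕ} (hn : n ∈ H) (c : k) : monomial n c ∈ SH k H := by
  intro m hm
  rw [coeff_monomial] at hm
  split_ifs at hm with h
  · rw [← h]; exact hn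
  · exact absurd rfl hm

theorem X_pow_mem_SH {n : ℕ} (hn : n ∈ H) : (X : k[X]) ^ n ∈ SH k H := by
  rw [X_pow_eq_monomial]
  exact monomial_mem_SH hn 1

variable (k H) in
theorem range_psi : (Groth.Agent.Helper27.GrSect.psi k H).range = SH k H := by
  apply le_antisymm
  · rintro _ ⟨f, rfl⟩
    change Groth.Agent.Helper27.GrSect.psi k H f ∈ _
    induction f using AddMonoidAlgebra.induction_linear with
    | zero => rw [map_zero]; exact zero_mem _
    | add x y hx hy => rw [map_add]; exact add_mem hx hy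
    | single h c =>
      rw [Groth.Agent.Helper27.GrSect.psi_single]
      exact monomial_mem_SH h.2 c
  · intro f hf
    rw [← Polynomial.sum_monomial_eq f]
    refine Subalgebra.sum_mem _ fun n hn => ?_
    have hne : f.coeff n ≠ 0 := Polynomial.mem_support_iff.1 hn
    exact ⟨AddMonoidAlgebra.single ⟨n, hf n hne⟩ (f.coeff n),
      Groth.Agent.Helper27.GrSect.psi_single _ _ _⟩

/-- the element `X ^ e` of the semigroup ring -/
noncomputable def xe {e : ℕ} (he : e ∈ H) : SH k H := ⟨X ^ e, X_pow_mem_SH he⟩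

theorem xe_coe {e : ℕ} (he : e ∈ H) : ((xe he : SH k H) : k[X]) = X ^ e := rfl

/-- `n ∈ e + H` -/
def Zt (H : AddSubmonoid ℕ) (e n : ℕ) : Prop := e ≤ n ∧ n - e ∈ H

theorem mem_span_xe_iff {e : ℕ} (he : e ∈ H) (f : SH k H) :
    f ∈ Ideal.span {(xe he : SH k H)} ↔ ∀ n, (f : k[X]).coeff n ≠ 0 → Zt H e n := by
  constructor
  · intro hf n hn
    obtain ⟨g, hg⟩ := Ideal.mem_span_singleton'.1 hf
    have h1 : (f : k[X]) = (g : k[X]) * X ^ e := by
      rw [← hg]; rfl
    rw [h1, coeff_mul_X_pow'] at hn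
    split_ifs at hn with h
    · exact ⟨h, g.2 _ hn⟩
    · exact absurd rfl hn
  · intro hf
    have hdvd : (X : k[X]) ^ e ∣ (f : k[X]) := by
      rw [X_pow_dvd_iff]
      intro d hd
      by_contra hne
      exact absurd (hf d hne).1 (not_le.2 hd)
    obtain ⟨q, hq⟩ := hdvd
    have hqS : q ∈ SH k H := by
      intro m hm
      have h1 : (f : k[X]).coeff (m + e) = q.coeff m := by
        rw [hq, coeff_X_pow_mul]
      have h2 := (hf (m + e) (by rw [h1]; exact hm)).2
      rwa [Nat.add_sub_cancel] at h2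
    rw [Ideal.mem_span_singleton']
    refine ⟨⟨q, hqS⟩, ?_⟩
    apply Subtype.ext
    show q * X ^ e = (f : k[X])
    rw [hq, mul_comm]

variable (k H) in
/-- the Artinian reduction `k[H] / (X ^ e)` -/
abbrev AH {e : ℕ} (he : e ∈ H) : Type u := (SH k H) ⧸ Ideal.span {(xe he : SH k H)}

/-- the constant coefficient on the semigroup ring -/
noncomputable def eps₀ : SH k H →+* k := Polynomial.constantCoeff.comp (SH k H).val.toRingHom

theorem eps₀_apply (f : SH k H) : eps₀ f = (f : k[X]).coeff 0 := rfl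

/-- the constant coefficient on the Artinian reduction -/
noncomputable def eps {e : ℕ} (he : e ∈ H) (he0 : 0 < e) : AH k H he →+* k :=
  Ideal.Quotient.lift _ eps₀ (by
    intro a ha
    rw [eps₀_apply]
    by_contra hne
    have := ((mem_span_xe_iff he a).1 ha 0 hne).1
    omega)

theorem eps_mk {e : ℕ} (he : e ∈ H) (he0 : 0 < e) (f : SH k H) :
    eps he he0 (Ideal.Quotient.mk _ f) = (f : k[X]).coeff 0 := rfl

theorem eps_algebraMap {e : ℕ} (he : e ∈ H) (he0 : 0 < e) (c : k) :
    eps he he0 (algebraMap k (AH k H he) c) = c := by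
  have : algebraMap k (AH k H he) c = Ideal.Quotient.mk _ (algebraMap k (SH k H) c) := rfl
  rw [this, eps_mk]
  show (algebraMap k k[X] c).coeff 0 = c
  rw [Polynomial.algebraMap_apply, coeff_C_zero]
  rfl

section Cofinite

variable {e : ℕ} (he : e ∈ H) (he0 : 0 < e) {c : ℕ} (hc : ∀ n, c ≤ n → n ∈ H)

include hc in
theorem isNilpotent_of_eps_eq_zero (a : AH k H he) (ha : eps he he0 a = 0) : IsNilpotent a := by
  obtain ⟨f, rfl⟩ := Ideal.Quotient.mk_surjective a
  rw [eps_mk] at ha
  refine ⟨c + e, ?_⟩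
  rw [← map_pow, Ideal.Quotient.eq_zero_iff_mem, mem_span_xe_iff]
  intro n hn
  have hdvd : (X : k[X]) ∣ (f : k[X]) := by
    rw [X_dvd_iff]; exact ha
  have hdvd2 : (X : k[X]) ^ (c + e) ∣ ((f ^ (c + e) : SH k H) : k[X]) := by
    rw [SubmonoidClass.coe_pow]
    exact pow_dvd_pow_of_dvd hdvd _
  rw [X_pow_dvd_iff] at hdvd2
  have hle : c + e ≤ n := by
    by_contra h
    exact hn (hdvd2 n (not_le.1 h))
  exact ⟨by omega, hc _ (by omega)⟩

include hc in
theorem isUnit_of_eps_ne_zero (a : AH k H he) (ha : eps he he0 a ≠ 0) : IsUnit a := by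
  have h1 : a = algebraMap k (AH k H he) (eps he he0 a) +
      (a - algebraMap k (AH k H he) (eps he he0 a)) := by ring
  rw [h1]
  apply IsNilpotent.isUnit_add_left_of_commute
  · apply isNilpotent_of_eps_eq_zero he he0 hc
    rw [map_sub, eps_algebraMap, sub_self]
  · exact (IsUnit.mk0 _ ha).map (algebraMap k (AH k H he))
  · exact Commute.all (a - algebraMap k (AH k H he) (eps he he0 a))
      (algebraMap k (AH k H he) (eps he he0 a))

include he0 in
theorem nontrivial_AH : Nontrivial (AH k H he) := by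
  refine ⟨⟨0, 1, fun h => ?_⟩⟩
  have := congrArg (eps he he0) h
  rw [map_zero, map_one] at this
  exact zero_ne_one this

include he0 hc in
theorem isNilpotent_iff_not_isUnit (a : AH k H he) : IsNilpotent a ↔ ¬ IsUnit a := by
  haveI : Nontrivial (AH k H he) := nontrivial_AH he he0
  constructor
  · intro h hu
    exact hu.not_isNilpotent h
  · intro h
    apply isNilpotent_of_eps_eq_zero he he0 hc
    by_contra hne
    exact h (isUnit_of_eps_ne_zero he he0 hc a hne)

include he0 hc in
theorem isLocalRing_AH : IsLocalRing (AH k H he) :=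
  (((Ring.krullDimLE_zero_and_isLocalRing_tfae (AH k H he)).out 0 2 rfl rfl).2
    (isNilpotent_iff_not_isUnit he he0 hc)).2

include he0 hc in
theorem krullDimLE_AH : Ring.KrullDimLE 0 (AH k H he) :=
  (((Ring.krullDimLE_zero_and_isLocalRing_tfae (AH k H he)).out 0 2 rfl rfl).2
    (isNilpotent_iff_not_isUnit he he0 hc)).1

include he0 hc in
theorem ringKrullDim_AH : ringKrullDim (AH k H he) = 0 := by
  haveI : Nontrivial (AH k H he) := nontrivial_AH he he0
  exact ringKrullDimZero_iff_ringKrullDim_eq_zero.1 (krullDimLE_AH he he0 hc)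

include he0 hc in
theorem mem_maximalIdeal_iff [IsLocalRing (AH k H he)] (a : AH k H he) :
    a ∈ IsLocalRing.maximalIdeal (AH k H he) ↔ eps he he0 a = 0 := by
  rw [IsLocalRing.mem_maximalIdeal, mem_nonunits_iff]
  constructor
  · intro h
    by_contra hne
    exact h (isUnit_of_eps_ne_zero he he0 hc a hne)
  · intro h hu
    have := hu.map (eps he he0)
    rw [h] at this
    exact not_isUnit_zero this

end Cofinite

end Groth.Agent.Helper20.GrKz
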