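import Mathlib
import Groth.Prelude
import Groth.Agent.Lib.Helper20.GrKz4
import Groth.Agent.Lib.Helper12.GorArt

/-!
# The socle of the Artinian reduction of a numerical semigroup ring (helper20)
-/

set_option autoImplicit false

namespace Groth.Agent.Helper20.GrKz

open Polynomial IsLocalRing Groth.Agent.Helper12.GorFlatLoc

universe u

/-- socle type: `n + h ∈ e + H` for all positive `h ∈ H` -/
def Tt (H : AddSubmonoid ℕ) (e n : ℕ) : Prop := ∀ h ∈ H, 0 < h → Zt H e (n + h)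

/-- the maximal elements of the Apéry set of `H` with respect to `e` -/
def MaxAp (H : AddSubmonoid ℕ) (e : ℕ) : Set ℕ := {w | w ∈ H ∧ Tt H e w ∧ ¬ Zt H e w}

variable {k : Type u} [Field k] {H : AddSubmonoid ℕ} {e : ℕ} (he : e ∈ H) (he0 : 0 < e) {c : ℕ}
  (hc : ∀ n, c ≤ n → n ∈ H)

theorem mk_eq_zero_iff (f : SH k H) :
    (Ideal.Quotient.mk (Ideal.span {(xe he : SH k H)}) f = 0) ↔
      ∀ n, (f : k[X]).coeff n ≠ 0 → Zt H e n := by
  rw [Ideal.Quotient.eq_zero_iff_mem, mem_span_xe_iff]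

include he0 hc in
theorem mk_mem_soc_iff [IsLocalRing (AH k H he)] (f : SH k H) :
    Ideal.Quotient.mk (Ideal.span {(xe he : SH k H)}) f ∈ soc (AH k H he) (AH k H he) ↔
      ∀ n, (f : k[X]).coeff n ≠ 0 → Tt H e n := by
  rw [Submodule.mem_torsionBySet_iff]
  constructor
  · intro h n hn h' hh' hpos
    have hm : Ideal.Quotient.mk (Ideal.span {(xe he : SH k H)}) (xe hh') ∈
        maximalIdeal (AH k H he) := by
      rw [mem_maximalIdeal_iff he he0 hc, eps_mk, xe_coe, coeff_X_pow, if_neg (by omega)]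
    have h1 := h ⟨_, hm⟩
    rw [smul_eq_mul, ← map_mul, mk_eq_zero_iff] at h1
    apply h1 (n + h')
    show ((X : k[X]) ^ h' * (f : k[X])).coeff (n + h') ≠ 0
    rw [coeff_X_pow_mul]
    exact hn
  · rintro h ⟨m, hm⟩
    obtain ⟨g, rfl⟩ := Ideal.Quotient.mk_surjective m
    rw [SetLike.mem_coe, mem_maximalIdeal_iff he he0 hc, eps_mk] at hm
    rw [smul_eq_mul, ← map_mul, mk_eq_zero_iff]
    intro n hn
    have hn' : ((g : k[X]) * (f : k[X])).coeff n ≠ 0 := hn
    rw [coeff_mul] at hn'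
    obtain ⟨x, hx, hx0⟩ := Finset.exists_ne_zero_of_sum_ne_zero hn'
    have h1 : (g : k[X]).coeff x.1 ≠ 0 := left_ne_zero_of_mul hx0
    have h2 : (f : k[X]).coeff x.2 ≠ 0 := right_ne_zero_of_mul hx0
    have hx' : x.1 + x.2 = n := Finset.HasAntidiagonal.mem_antidiagonal.1 hx
    have hpos : 0 < x.1 := by
      rcases Nat.eq_zero_or_pos x.1 with h0 | h0
      · rw [h0] at h1
        exact absurd hm h1
      · exact h0
    have := h x.2 h2 x.1 (g.2 _ h1) hpos
    rwa [add_comm, hx'] at this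

theorem coeff_xe {w : ℕ} (hw : w ∈ H) (n : ℕ) :
    ((xe hw : SH k H) : k[X]).coeff n = if n = w then 1 else 0 := by
  rw [xe_coe, coeff_X_pow]

theorem mk_xe_eq_zero_iff {w : ℕ} (hw : w ∈ H) :
    (Ideal.Quotient.mk (Ideal.span {(xe he : SH k H)}) (xe hw) = 0) ↔ Zt H e w := by
  rw [mk_eq_zero_iff]
  constructor
  · intro h
    apply h w
    rw [coeff_xe, if_pos rfl]
    exact one_ne_zero
  · intro h n hn
    rw [coeff_xe] at hn
    split_ifs at hn with h'
    · rw [h']; exact h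
    · exact absurd rfl hn

include he0 hc in
theorem mk_xe_mem_soc_iff [IsLocalRing (AH k H he)] {w : ℕ} (hw : w ∈ H) :
    Ideal.Quotient.mk (Ideal.span {(xe he : SH k H)}) (xe hw) ∈ soc (AH k H he) (AH k H he) ↔
      Tt H e w := by
  rw [mk_mem_soc_iff he he0 hc]
  constructor
  · intro h
    apply h w
    rw [coeff_xe, if_pos rfl]
    exact one_ne_zero
  · intro h n hn
    rw [coeff_xe] at hn
    split_ifs at hn with h'
    · rw [h']; exact h
    · exact absurd rfl hn

include he0 hc in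
/-- if `w` is the only maximal Apéry element, the socle is spanned by `X ^ w` -/
theorem eq_smul_of_mem_soc [IsLocalRing (AH k H he)] {w : ℕ} (hw : w ∈ H)
    (huniq : ∀ n ∈ MaxAp H e, n = w) (a : AH k H he) (ha : a ∈ soc (AH k H he) (AH k H he)) :
    ∃ r : k, a = algebraMap k (AH k H he) r *
      Ideal.Quotient.mk (Ideal.span {(xe he : SH k H)}) (xe hw) := by
  obtain ⟨f, rfl⟩ := Ideal.Quotient.mk_surjective a
  rw [mk_mem_soc_iff he he0 hc] at ha
  refine ⟨(f : k[X]).coeff w, ?_⟩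
  have h1 : algebraMap k (AH k H he) ((f : k[X]).coeff w) =
      Ideal.Quotient.mk _ (algebraMap k (SH k H) ((f : k[X]).coeff w)) := rfl
  rw [h1, ← map_mul, ← sub_eq_zero, ← map_sub, mk_eq_zero_iff]
  intro n hn
  have hn' : ((f : k[X]) - algebraMap k k[X] ((f : k[X]).coeff w) * X ^ w).coeff n ≠ 0 := hn
  rw [coeff_sub, Polynomial.algebraMap_apply, coeff_C_mul, coeff_X_pow] at hn'
  have hnw : n ≠ w := by
    rintro rfl
    apply hn'
    rw [if_pos rfl, mul_one]
    exact sub_self _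
  rw [if_neg hnw, mul_zero, sub_zero] at hn'
  by_contra hZ
  exact hnw (huniq n ⟨f.2 n hn', ha n hn', hZ⟩)

include he0 hc in
theorem isSimpleModule_soc_iff [IsLocalRing (AH k H he)] :
    IsSimpleModule (AH k H he) (soc (AH k H he) (AH k H he)) ↔ ∃! w, w ∈ MaxAp H e := by
  constructor
  · intro hsimp
    have hnt : Nontrivial (soc (AH k H he) (AH k H he)) := hsimp.nontrivial
    obtain ⟨⟨a, ha⟩, ha0⟩ := exists_ne (0 : soc (AH k H he) (AH k H he))
    have ha0' : a ≠ 0 := fun h => ha0 (Subtype.ext h)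
    obtain ⟨f, rfl⟩ := Ideal.Quotient.mk_surjective a
    rw [Ne, mk_eq_zero_iff] at ha0'
    push Not at ha0'
    obtain ⟨w, hw0, hwZ⟩ := ha0'
    rw [mk_mem_soc_iff he he0 hc] at ha
    have hwM : w ∈ MaxAp H e := ⟨f.2 w hw0, ha w hw0, hwZ⟩
    refine ⟨w, hwM, ?_⟩
    intro w' hw'
    by_contra hne
    -- the two socle elements `X ^ w` and `X ^ w'`
    have hx : Ideal.Quotient.mk (Ideal.span {(xe he : SH k H)}) (xe hwM.1) ∈
        soc (AH k H he) (AH k H he) := (mk_xe_mem_soc_iff he he0 hc hwM.1).2 hwM.2.1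
    have hy : Ideal.Quotient.mk (Ideal.span {(xe he : SH k H)}) (xe hw'.1) ∈
        soc (AH k H he) (AH k H he) := (mk_xe_mem_soc_iff he he0 hc hw'.1).2 hw'.2.1
    have hx0 : (⟨_, hx⟩ : soc (AH k H he) (AH k H he)) ≠ 0 := by
      intro h
      have := congrArg Subtype.val h
      exact hwM.2.2 ((mk_xe_eq_zero_iff he hwM.1).1 this)
    obtain ⟨r, hr⟩ := (isSimpleModule_iff_toSpanSingleton_surjective.1 hsimp).2 _ hx0 ⟨_, hy⟩
    have hr' : r * Ideal.Quotient.mk (Ideal.span {(xe he : SH k H)}) (xe hwM.1) =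
        Ideal.Quotient.mk (Ideal.span {(xe he : SH k H)}) (xe hw'.1) := congrArg Subtype.val hr
    have hm : r - algebraMap k (AH k H he) (eps he he0 r) ∈ maximalIdeal (AH k H he) := by
      rw [mem_maximalIdeal_iff he he0 hc, map_sub, eps_algebraMap, sub_self]
    have hkill := (Submodule.mem_torsionBySet_iff _ _).1 hx ⟨_, hm⟩
    rw [smul_eq_mul, sub_mul, sub_eq_zero] at hkill
    rw [hkill] at hr'
    have h1 : algebraMap k (AH k H he) (eps he he0 r) =
        Ideal.Quotient.mk _ (algebraMap k (SH k H) (eps he he0 r)) := rfl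
    rw [h1, ← map_mul, ← sub_eq_zero, ← map_sub, mk_eq_zero_iff] at hr'
    apply hw'.2.2
    apply hr' w'
    show (algebraMap k k[X] (eps he he0 r) * X ^ w - X ^ w').coeff w' ≠ 0
    rw [coeff_sub, Polynomial.algebraMap_apply, coeff_C_mul, coeff_X_pow, coeff_X_pow,
      if_neg hne, if_pos rfl, mul_zero, zero_sub]
    exact neg_ne_zero.2 one_ne_zero
  · rintro ⟨w, hwM, huniq⟩
    have hx : Ideal.Quotient.mk (Ideal.span {(xe he : SH k H)}) (xe hwM.1) ∈
        soc (AH k H he) (AH k H he) := (mk_xe_mem_soc_iff he he0 hc hwM.1).2 hwM.2.1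
    have hx0 : Ideal.Quotient.mk (Ideal.span {(xe he : SH k H)}) (xe hwM.1) ≠ 0 := fun h =>
      hwM.2.2 ((mk_xe_eq_zero_iff he hwM.1).1 h)
    rw [isSimpleModule_iff_toSpanSingleton_surjective]
    refine ⟨⟨⟨⟨_, hx⟩, 0, fun h => hx0 (congrArg Subtype.val h)⟩⟩, ?_⟩
    rintro ⟨a, ha⟩ ha0 ⟨b, hb⟩
    obtain ⟨ra, hra⟩ := eq_smul_of_mem_soc he he0 hc hwM.1 huniq a ha
    obtain ⟨rb, hrb⟩ := eq_smul_of_mem_soc he he0 hc hwM.1 huniq b hb
    have hra0 : ra ≠ 0 := by
      rintro rfl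
      apply ha0
      apply Subtype.ext
      show a = 0
      rw [hra, map_zero, zero_mul]
    refine ⟨algebraMap k (AH k H he) (rb * ra⁻¹), ?_⟩
    apply Subtype.ext
    show algebraMap k (AH k H he) (rb * ra⁻¹) * a = b
    rw [hra, hrb, ← mul_assoc, ← map_mul, mul_assoc, inv_mul_cancel₀ hra0, mul_one]

include he0 hc in
/-- **Kunz**: the Artinian reduction of a numerical semigroup ring is Gorenstein iff the Apéry set
has a unique maximal element -/
theorem gor_AH_iff [IsNoetherianRing (AH k H he)] :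
    LocCoh.IsGorensteinLocalRing (AH k H he) ↔ ∃! w, w ∈ MaxAp H e := by
  haveI := isLocalRing_AH (k := k) he he0 hc
  rw [gorenstein_iff_of_dim_zero (AH k H he) (ringKrullDim_AH he he0 hc),
    Module.length_eq_one_iff]
  exact isSimpleModule_soc_iff he he0 hc

end Groth.Agent.Helper20.GrKz
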