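import Mathlib
import Groth.Prelude
import Groth.Agent.Lib.Helper20.GrKz5

/-!
# A numerical semigroup is symmetric iff its Apéry set has a unique maximal element (helper20)
-/

set_option autoImplicit false

namespace Groth.Agent.Helper20.GrKz

open W4c6gradedringsgw

/-- membership of an integer in a submonoid of `ℕ` -/
def InH (H : AddSubmonoid ℕ) (x : ℤ) : Prop := ∃ h ∈ (H : Set ℕ), (h : ℤ) = x

/-- the pseudo-Frobenius numbers -/
def PF (H : AddSubmonoid ℕ) : Set ℤ := {g | ¬ InH H g ∧ ∀ h ∈ H, 0 < h → InH H (g + h)}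

variable {H : AddSubmonoid ℕ}

theorem inH_natCast {n : ℕ} : InH H (n : ℤ) ↔ n ∈ H := by
  constructor
  · rintro ⟨h, hh, e⟩
    have : h = n := by exact_mod_cast e
    rw [← this]; exact hh
  · intro h; exact ⟨n, h, rfl⟩

theorem not_inH_of_neg {x : ℤ} (hx : x < 0) : ¬ InH H x := by
  rintro ⟨h, -, e⟩
  have : (0 : ℤ) ≤ (h : ℤ) := Int.natCast_nonneg h
  omega

theorem inH_add {x y : ℤ} (hx : InH H x) (hy : InH H y) : InH H (x + y) := by
  obtain ⟨a, ha, rfl⟩ := hx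
  obtain ⟨b, hb, rfl⟩ := hy
  exact ⟨a + b, H.add_mem ha hb, by push_cast; ring⟩

theorem Zt_iff {e n : ℕ} : Zt H e n ↔ InH H ((n : ℤ) - e) := by
  constructor
  · rintro ⟨h1, h2⟩
    exact ⟨n - e, h2, by rw [Nat.cast_sub h1]⟩
  · rintro ⟨h, hh, e'⟩
    have h1 : n = h + e := by omega
    refine ⟨by omega, ?_⟩
    have : n - e = h := by omega
    rw [this]; exact hh

theorem Tt_iff {e n : ℕ} : Tt H e n ↔ ∀ h ∈ H, 0 < h → InH H ((n : ℤ) - e + h) := by
  unfold Tt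
  refine forall_congr' fun h => forall_congr' fun _ => forall_congr' fun _ => ?_
  rw [Zt_iff]
  have : ((n + h : ℕ) : ℤ) - e = (n : ℤ) - e + h := by push_cast; ring
  rw [this]

theorem mem_MaxAp_iff {e w : ℕ} : w ∈ MaxAp H e ↔ w ∈ H ∧ ((w : ℤ) - e) ∈ PF H := by
  unfold MaxAp PF
  simp only [Set.mem_setOf_eq]
  rw [Tt_iff, Zt_iff]
  tauto

theorem existsUnique_MaxAp_iff {e : ℕ} (he : e ∈ H) (he0 : 0 < e) :
    (∃! w, w ∈ MaxAp H e) ↔ ∃! g, g ∈ PF H := by
  constructor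
  · rintro ⟨w, hw, huniq⟩
    rw [mem_MaxAp_iff] at hw
    refine ⟨(w : ℤ) - e, hw.2, ?_⟩
    intro g' hg'
    obtain ⟨w', hw'H, hw'⟩ := hg'.2 e he he0
    have h1 : w' ∈ MaxAp H e := by
      rw [mem_MaxAp_iff]
      refine ⟨hw'H, ?_⟩
      have : (w' : ℤ) - e = g' := by omega
      rw [this]; exact hg'
    have := huniq w' h1
    omega
  · rintro ⟨g, hg, huniq⟩
    obtain ⟨w, hwH, hw⟩ := hg.2 e he he0
    refine ⟨w, ?_, ?_⟩
    · show w ∈ MaxAp H e
      rw [mem_MaxAp_iff]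
      refine ⟨hwH, ?_⟩
      have : (w : ℤ) - e = g := by omega
      rw [this]; exact hg
    · intro w' hw'
      have hw'' : w' ∈ MaxAp H e := hw'
      rw [mem_MaxAp_iff] at hw''
      have := huniq _ hw''.2
      omega

theorem exists_add_mem_PF {c : ℕ} (hc : ∀ n, c ≤ n → n ∈ H) {x : ℤ} (hx : ¬ InH H x) :
    ∃ h₀ ∈ H, x + (h₀ : ℤ) ∈ PF H := by
  classical
  have hbdd : ∃ b : ℤ, ∀ z : ℤ, (¬ InH H z ∧ ∃ h ∈ H, z = x + (h : ℤ)) → z ≤ b := by
    refine ⟨c, ?_⟩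
    rintro z ⟨hz, -⟩
    by_contra hlt
    apply hz
    have hz0 : 0 ≤ z := by
      have : (0 : ℤ) ≤ (c : ℤ) := Int.natCast_nonneg c
      omega
    obtain ⟨m, rfl⟩ := Int.eq_ofNat_of_zero_le hz0
    exact inH_natCast.2 (hc m (by omega))
  have hinh : ∃ z : ℤ, ¬ InH H z ∧ ∃ h ∈ H, z = x + (h : ℤ) :=
    ⟨x, hx, 0, H.zero_mem, by simp⟩
  obtain ⟨y, ⟨hy, h₀, hh₀, rfl⟩, hmax⟩ := Int.exists_greatest_of_bdd hbdd hinh
  refine ⟨h₀, hh₀, hy, ?_⟩
  intro h hh hpos
  by_contra hn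
  have := hmax (x + h₀ + h) ⟨hn, h₀ + h, H.add_mem hh₀ hh, by push_cast; ring⟩
  omega

theorem existsUnique_PF_iff {c : ℕ} (hc : ∀ n, c ≤ n → n ∈ H) :
    (∃! g, g ∈ PF H) ↔ IsSymmetric (H : Set ℕ) := by
  constructor
  · rintro ⟨d, hd, huniq⟩
    refine ⟨d, fun n => ?_⟩
    show InH H n ↔ ¬ InH H (d - n)
    constructor
    · intro h1 h2
      apply hd.1
      have := inH_add h1 h2
      rwa [add_sub_cancel] at this
    · intro h1
      by_contra h2
      obtain ⟨h₀, hh₀, hPF⟩ := exists_add_mem_PF hc h2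
      have := huniq _ hPF
      apply h1
      refine ⟨h₀, hh₀, ?_⟩
      omega
  · rintro ⟨d, hd⟩
    have hd' : ∀ n : ℤ, InH H n ↔ ¬ InH H (d - n) := hd
    have h0 : InH H 0 := ⟨0, H.zero_mem, rfl⟩
    have hdn : ¬ InH H d := by
      have := (hd' 0).1 h0
      rwa [sub_zero] at this
    refine ⟨d, ⟨hdn, ?_⟩, ?_⟩
    · intro h hh hpos
      rw [hd']
      apply not_inH_of_neg
      have : (0 : ℤ) < (h : ℤ) := by exact_mod_cast hpos
      omega
    · intro g hg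
      have h1 : InH H (d - g) := by
        rw [hd']
        have : d - (d - g) = g := by ring
        rw [this]
        exact hg.1
      obtain ⟨h₀, hh₀, e⟩ := h1
      rcases Nat.eq_zero_or_pos h₀ with h | h
      · rw [h] at e
        simp at e
        omega
      · exfalso
        apply hdn
        have := hg.2 h₀ hh₀ h
        have e2 : g + (h₀ : ℤ) = d := by omega
        rwa [e2] at this

/-- **the Apéry set has a unique maximal element iff the semigroup is symmetric** -/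
theorem existsUnique_MaxAp_iff_isSymmetric {e : ℕ} (he : e ∈ H) (he0 : 0 < e) {c : ℕ}
    (hc : ∀ n, c ≤ n → n ∈ H) : (∃! w, w ∈ MaxAp H e) ↔ IsSymmetric (H : Set ℕ) :=
  (existsUnique_MaxAp_iff he he0).trans (existsUnique_PF_iff hc)

end Groth.Agent.Helper20.GrKz
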