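import Mathlib
import Groth.Prelude
import Groth.Agent.Lib.Helper20.GrKz2
import Groth.Agent.Lib.Helper20.GrKz3
import Groth.Agent.Lib.Helper20.GrKz6
import Groth.Agent.Lib.Helper16.FF.AlgClosed

/-!
# The section ring of a point divisor is Gorenstein iff the Weierstrass semigroup is symmetric
(helper20)
-/

set_option autoImplicit false

namespace Groth.Agent.Helper20.GrKz

open FunFld Polynomial W4c6gradedringsgw Groth.Agent.Helper27.GrSect Groth.Agent.Helper16.FF

universe u

variable {k K : Type u} [Field k] [Field K] [Algebra k K]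

theorem mem_closure_poleOrders_iff (hK : IsFunctionField k K) {P : Place k K} (hP : P.deg = 1)
    (n : ℕ) : n ∈ AddSubmonoid.closure (poleOrders P) ↔ n ∈ poleOrders P := by
  rw [← SetLike.mem_coe, closure_poleOrders hK hP]

theorem gorenstein_RP_iff (hK : IsFunctionField k K) (hg : 1 ≤ genus k K) {P : Place k K}
    (hP : P.deg = 1) :
    LocCoh.IsGorensteinRing (RP P) ↔ IsSymmetric (poleOrders P) := by
  have hg' : 0 < genus k K := hg
  haveI := isNoetherianRing_RP hK hP
  haveI hmax := irr_isMaximal hK P
  obtain ⟨π, hπ⟩ := Place.exists_uniformizer P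
  -- the semigroup
  set H : AddSubmonoid ℕ := AddSubmonoid.closure (poleOrders P) with hH
  have hc : ∀ n, 2 * genus k K ≤ n → n ∈ H := by
    intro n hn
    rw [hH, mem_closure_poleOrders_iff hK hP]
    exact mem_poleOrders_of_large hK hP hn (by omega)
  have he : 2 * genus k K ∈ H := hc _ le_rfl
  have he0 : 0 < 2 * genus k K := by omega
  -- the degree one element
  have ht : ((Xel P : RP P) : K[X]) = C (1 : K) * X := by
    rw [Xel_coe, map_one, one_mul]
  have ht0 : Xel P ≠ 0 := by
    intro h
    have := congrArg (fun q : RP P => (q : K[X])) h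
    simp only [Xel_coe] at this
    exact X_ne_zero this
  have htM : Xel P ∈ irr P := by
    rw [mem_irr, Xel_coe, coeff_X_zero]
  have hker := ker_phi hK hg' hP hπ (Xel P) 1 one_ne_zero ht
  have hrange : (phi hK hP hπ).range = SH k H := by
    rw [range_phi hK hP hπ, range_psi]
  -- the surjection onto the semigroup ring
  have hmem : ∀ b : RP P, phi hK hP hπ b ∈ SH k H := by
    intro b
    rw [← hrange]
    exact ⟨b, rfl⟩
  let φ : RP P →+* SH k H := ((phi hK hP hπ).codRestrict (SH k H) hmem).toRingHom
  have hφ_apply : ∀ b : RP P, ((φ b : SH k H) : k[X]) = phi hK hP hπ b := fun b => rfl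
  have hφ : Function.Surjective φ := by
    rintro ⟨f, hf⟩
    rw [← hrange] at hf
    obtain ⟨b, hb⟩ := hf
    exact ⟨b, Subtype.ext hb⟩
  have hkerφ : RingHom.ker φ = Ideal.span {Xel P} := by
    rw [← hker]
    ext b
    rw [RingHom.mem_ker, RingHom.mem_ker]
    constructor
    · intro h
      have := congrArg (fun q : SH k H => (q : k[X])) h
      simpa [hφ_apply] using this
    · intro h
      apply Subtype.ext
      rw [hφ_apply]
      exact h
  haveI : IsNoetherianRing (SH k H) := isNoetherianRing_of_surjective _ _ φ hφ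
  -- the second regular element
  have hx0 : (xe he : SH k H) ≠ 0 := by
    intro h
    have := congrArg (fun q : SH k H => (q : k[X])) h
    simp only [xe_coe] at this
    exact (pow_ne_zero _ X_ne_zero) this
  have hxM : ∃ b ∈ irr P, φ b = xe he := by
    obtain ⟨b, hb⟩ := hφ (xe he)
    refine ⟨b, ?_, hb⟩
    have h1 : (phi hK hP hπ b).coeff 0 = 0 := by
      rw [← hφ_apply, hb, xe_coe, coeff_X_pow, if_neg (by omega)]
    rw [phi_coeff, pow_zero, one_mul] at h1
    have h2 := coeff_mem P b 0
    rw [Nat.cast_zero, Finsupp.single_zero, mem_L_zero_iff hK] at h2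
    obtain ⟨d, hd⟩ := h2
    rw [← hd, res_algebraMap] at h1
    rw [mem_irr, ← hd, h1, map_zero]
  haveI : IsLocalRing ((SH k H) ⧸ Ideal.span {(xe he : SH k H)}) :=
    isLocalRing_AH (k := k) he he0 hc
  have key := gor_localization_iff_of_surjective (irr P) (Xel P)
    (mem_nonZeroDivisors_of_ne_zero ht0) htM φ hφ hkerφ (xe he)
    (mem_nonZeroDivisors_of_ne_zero hx0) hxM
  have hsym : (∃! w, w ∈ MaxAp H (2 * genus k K)) ↔ IsSymmetric (poleOrders P) := by
    rw [existsUnique_MaxAp_iff_isSymmetric he he0 hc, hH, closure_poleOrders hK hP]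
  rw [← hsym, ← gor_AH_iff (k := k) he he0 hc, ← key]
  constructor
  · intro hB
    exact hB.isGorensteinLocalRing_localization (irr P)
  · intro hG
    exact isGorensteinRing_RP_of_localization hK hP hG

end Groth.Agent.Helper20.GrKz
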