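import Mathlib
import Groth.Agent.Lib.Helper20.GrCan2

/-!
# Graded forms and the maps representing them through a graded duality pairing (helper20)

A graded form `D × H → R_0` (biadditive, balanced over `R`, `R_0`-linear) is represented, through a
graded duality pairing `C × H → R_0`, by a unique homogeneous `R`-linear map `D → C`.
-/

set_option autoImplicit false

open DirectSum

namespace Groth.Agent.Helper20.GrInj

universe u

/-- a graded form `D × H → R_0`: biadditive, balanced over `R`, and `R_0`-linear -/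
structure GrForm {R : Type u} [CommRing R] (𝒜 : ℤ → AddSubgroup R) [GradedRing 𝒜]
    (D : Type u) [AddCommGroup D] [Module R D] (H : Type u) [AddCommGroup H] [Module R H] where
  /-- the form -/
  b : D → H → R
  mem : ∀ d h, b d h ∈ 𝒜 0
  add_left : ∀ d d' h, b (d + d') h = b d h + b d' h
  add_right : ∀ d h h', b d (h + h') = b d h + b d h'
  smul_left : ∀ (r : R) d h, b (r • d) h = b d (r • h)
  smul_right : ∀ s ∈ 𝒜 0, ∀ d h, b d (s • h) = s * b d h

section Basic

variable {R : Type u} [CommRing R] {𝒜 : ℤ → AddSubgroup R} [GradedRing 𝒜]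
variable {C : Type u} [AddCommGroup C] [Module R C] {𝒞 : ℤ → AddSubgroup C}
variable {H : Type u} [AddCommGroup H] [Module R H] {ℋ : ℤ → AddSubgroup H}
variable {D : Type u} [AddCommGroup D] [Module R D]

/-- the form underlying a pairing -/
def GrPairing.toForm (P : GrPairing 𝒜 𝒞 ℋ) : GrForm 𝒜 C H where
  b := P.β
  mem := P.mem
  add_left := P.add_left
  add_right := P.add_right
  smul_left := P.smul_left
  smul_right := P.smul_right

namespace GrForm

variable (B : GrForm 𝒜 D H)

theorem zero_left (h : H) : B.b 0 h = 0 := by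
  have := B.add_left 0 0 h
  rw [add_zero] at this
  exact left_eq_add.1 this

theorem zero_right (d : D) : B.b d 0 = 0 := by
  have := B.add_right d 0 0
  rw [add_zero] at this
  exact left_eq_add.1 this

theorem neg_left (d : D) (h : H) : B.b (-d) h = -B.b d h := by
  have := B.add_left (-d) d h
  rw [neg_add_cancel, B.zero_left] at this
  exact eq_neg_of_add_eq_zero_left this.symm

theorem sub_left (d d' : D) (h : H) : B.b (d - d') h = B.b d h - B.b d' h := by
  rw [sub_eq_add_neg, B.add_left, B.neg_left, sub_eq_add_neg]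

theorem neg_right (d : D) (h : H) : B.b d (-h) = -B.b d h := by
  have := B.add_right d (-h) h
  rw [neg_add_cancel, B.zero_right] at this
  exact eq_neg_of_add_eq_zero_left this.symm

theorem sub_right (d : D) (h h' : H) : B.b d (h - h') = B.b d h - B.b d h' := by
  rw [sub_eq_add_neg, B.add_right, B.neg_right, sub_eq_add_neg]

theorem sum_left {ι : Type*} (s : Finset ι) (f : ι → D) (h : H) :
    B.b (∑ i ∈ s, f i) h = ∑ i ∈ s, B.b (f i) h := by
  classical
  induction s using Finset.induction_on with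
  | empty => rw [Finset.sum_empty, Finset.sum_empty, B.zero_left]
  | insert a s ha ih => rw [Finset.sum_insert ha, Finset.sum_insert ha, B.add_left, ih]

theorem sum_right {ι : Type*} (s : Finset ι) (d : D) (f : ι → H) :
    B.b d (∑ i ∈ s, f i) = ∑ i ∈ s, B.b d (f i) := by
  classical
  induction s using Finset.induction_on with
  | empty => rw [Finset.sum_empty, Finset.sum_empty, B.zero_right]
  | insert a s ha ih => rw [Finset.sum_insert ha, Finset.sum_insert ha, B.add_right, ih]

/-- the form as an additive map in the second variable -/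
def rightHom (d : D) : H →+ R where
  toFun := B.b d
  map_zero' := B.zero_right d
  map_add' := B.add_right d

/-- the form as an additive map in the first variable -/
def leftHom (h : H) : D →+ R where
  toFun := fun d => B.b d h
  map_zero' := B.zero_left h
  map_add' := fun d d' => B.add_left d d' h

end GrForm

theorem GrPairing.zero_left (P : GrPairing 𝒜 𝒞 ℋ) (h : H) : P.β 0 h = 0 := P.toForm.zero_left h

theorem GrPairing.sub_left (P : GrPairing 𝒜 𝒞 ℋ) (c c' : C) (h : H) :
    P.β (c - c') h = P.β c h - P.β c' h := P.toForm.sub_left c c' h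

theorem GrPairing.sum_left (P : GrPairing 𝒜 𝒞 ℋ) {ι : Type*} (s : Finset ι) (f : ι → C) (h : H) :
    P.β (∑ i ∈ s, f i) h = ∑ i ∈ s, P.β (f i) h := P.toForm.sum_left s f h

theorem GrPairing.sum_right (P : GrPairing 𝒜 𝒞 ℋ) {ι : Type*} (s : Finset ι) (c : C)
    (f : ι → H) : P.β c (∑ i ∈ s, f i) = ∑ i ∈ s, P.β c (f i) := P.toForm.sum_right s c f

end Basic

section Rep

variable {R : Type u} [CommRing R] {𝒜 : ℤ → AddSubgroup R} [GradedRing 𝒜]
variable {C : Type u} [AddCommGroup C] [Module R C] {𝒞 : ℤ → AddSubgroup C}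
  [DirectSum.Decomposition 𝒞] [SetLike.GradedSMul 𝒜 𝒞]
variable {H : Type u} [AddCommGroup H] [Module R H] {ℋ : ℤ → AddSubgroup H}
  [SetLike.GradedSMul 𝒜 ℋ]
variable {D : Type u} [AddCommGroup D] [Module R D] {𝒟 : ℤ → AddSubgroup D}
  [DirectSum.Decomposition 𝒟] [SetLike.GradedSMul 𝒜 𝒟]
variable (P : GrPairing 𝒜 𝒞 ℋ) (B : GrForm 𝒜 D H)

namespace GrForm

omit [DirectSum.Decomposition 𝒞] [SetLike.GradedSMul 𝒜 𝒞] [SetLike.GradedSMul 𝒜 ℋ] in
theorem exists_rep (j : ℤ) (d : D) : ∃ c ∈ 𝒞 j, ∀ h ∈ ℋ (-j), P.β c h = B.b d h :=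
  P.repr j (B.b d) (fun h _ => B.mem d h) (fun h _ h' _ => B.add_right d h h')
    (fun s hs h _ => B.smul_right s hs d h)

omit [DirectSum.Decomposition 𝒞] [SetLike.GradedSMul 𝒜 𝒞] [SetLike.GradedSMul 𝒜 ℋ] in
theorem rep_unique {j : ℤ} {c c' : C} (hc : c ∈ 𝒞 j) (hc' : c' ∈ 𝒞 j)
    (h : ∀ h ∈ ℋ (-j), P.β c h = P.β c' h) : c = c' := by
  rw [← sub_eq_zero]
  apply P.nondeg j (c - c') (sub_mem hc hc')
  intro x hx
  rw [P.sub_left c c' x]
  exact sub_eq_zero.2 (h x hx)

/-- the element of `C_j` representing `B.b d` on `H_{-j}` -/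
noncomputable def repFun (j : ℤ) (d : D) : C := (exists_rep P B j d).choose

omit [DirectSum.Decomposition 𝒞] [SetLike.GradedSMul 𝒜 𝒞] [SetLike.GradedSMul 𝒜 ℋ] in
theorem repFun_mem (j : ℤ) (d : D) : repFun P B j d ∈ 𝒞 j := (exists_rep P B j d).choose_spec.1

omit [DirectSum.Decomposition 𝒞] [SetLike.GradedSMul 𝒜 𝒞] [SetLike.GradedSMul 𝒜 ℋ] in
theorem repFun_spec (j : ℤ) (d : D) {h : H} (hh : h ∈ ℋ (-j)) :
    P.β (repFun P B j d) h = B.b d h := (exists_rep P B j d).choose_spec.2 h hh

omit [DirectSum.Decomposition 𝒞] [SetLike.GradedSMul 𝒜 𝒞] [SetLike.GradedSMul 𝒜 ℋ] in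
theorem repFun_unique (j : ℤ) (d : D) {c : C} (hc : c ∈ 𝒞 j)
    (h : ∀ h ∈ ℋ (-j), P.β c h = B.b d h) : repFun P B j d = c :=
  rep_unique P (repFun_mem P B j d) hc
    (fun x hx => (repFun_spec P B j d hx).trans (h x hx).symm)

/-- the representing map on the piece of degree `j` -/
noncomputable def repHom (j : ℤ) : ↥(𝒟 j) →+ C where
  toFun d := repFun P B j (d : D)
  map_zero' := by
    apply repFun_unique P B j _ (zero_mem _)
    intro h _
    rw [ZeroMemClass.coe_zero, B.zero_left, P.zero_left]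
  map_add' d d' := by
    apply repFun_unique P B j _ (add_mem (repFun_mem P B j _) (repFun_mem P B j _))
    intro h hh
    rw [P.add_left, repFun_spec P B j _ hh, repFun_spec P B j _ hh, AddMemClass.coe_add,
      B.add_left]

/-- the representing map, additive -/
noncomputable def repAdd : D →+ C :=
  (DirectSum.toAddMonoid (fun j : ℤ => repHom (𝒟 := 𝒟) P B j)).comp
    (decomposeAddEquiv 𝒟).toAddMonoidHom

omit [DirectSum.Decomposition 𝒞] [SetLike.GradedSMul 𝒜 𝒞] [SetLike.GradedSMul 𝒜 ℋ]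
  [SetLike.GradedSMul 𝒜 𝒟] in
theorem repAdd_of_mem {j : ℤ} {d : D} (hd : d ∈ 𝒟 j) :
    repAdd (𝒟 := 𝒟) P B d = repFun P B j d := by
  unfold repAdd
  rw [AddMonoidHom.comp_apply]
  have : (decomposeAddEquiv 𝒟).toAddMonoidHom d = DirectSum.of (fun i => ↥(𝒟 i)) j ⟨d, hd⟩ :=
    decompose_of_mem 𝒟 hd
  rw [this, DirectSum.toAddMonoid_of]
  rfl

omit [DirectSum.Decomposition 𝒞] [SetLike.GradedSMul 𝒜 𝒞] [SetLike.GradedSMul 𝒜 ℋ]
  [SetLike.GradedSMul 𝒜 𝒟] in
theorem repAdd_mem {j : ℤ} {d : D} (hd : d ∈ 𝒟 j) : repAdd (𝒟 := 𝒟) P B d ∈ 𝒞 j := by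
  rw [repAdd_of_mem P B hd]
  exact repFun_mem P B j d

omit [DirectSum.Decomposition 𝒞] in
theorem repAdd_smul (r : R) (d : D) :
    repAdd (𝒟 := 𝒟) P B (r • d) = r • repAdd (𝒟 := 𝒟) P B d := by
  induction d using DirectSum.Decomposition.inductionOn 𝒟 with
  | zero => rw [smul_zero, map_zero, smul_zero]
  | @homogeneous j d =>
    induction r using DirectSum.Decomposition.inductionOn 𝒜 with
    | zero => rw [zero_smul, map_zero, zero_smul]
    | @homogeneous i r =>
      have hrd : (r : R) • (d : D) ∈ 𝒟 (i + j) := by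
        have := SetLike.GradedSMul.smul_mem (A := 𝒜) (B := 𝒟) r.2 d.2
        rwa [vadd_eq_add] at this
      rw [repAdd_of_mem P B hrd, repAdd_of_mem P B d.2]
      apply repFun_unique P B (i + j)
      · have := SetLike.GradedSMul.smul_mem (A := 𝒜) (B := 𝒞) r.2 (repFun_mem P B j (d : D))
        rwa [vadd_eq_add] at this
      · intro h hh
        have hrh : (r : R) • h ∈ ℋ (-j) := by
          have := SetLike.GradedSMul.smul_mem (A := 𝒜) (B := ℋ) r.2 hh
          rw [vadd_eq_add] at this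
          have e1 : i + -(i + j) = -j := by ring
          rwa [e1] at this
        rw [P.smul_left, repFun_spec P B j _ hrh, B.smul_left]
    | add r r' hr hr' => rw [add_smul, map_add, hr, hr', add_smul]
  | add a b ha hb => rw [smul_add, map_add, ha, hb, map_add, smul_add]

/-- **the representing map** `D → C` of a graded form through a graded duality pairing -/
noncomputable def rep : D →ₗ[R] C where
  toFun := repAdd (𝒟 := 𝒟) P B
  map_add' := map_add _
  map_smul' := repAdd_smul P B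

omit [DirectSum.Decomposition 𝒞] in
theorem rep_mem {j : ℤ} {d : D} (hd : d ∈ 𝒟 j) : rep (𝒟 := 𝒟) P B d ∈ 𝒞 j :=
  repAdd_mem P B hd

omit [DirectSum.Decomposition 𝒞] in
theorem rep_spec {j : ℤ} {d : D} (hd : d ∈ 𝒟 j) {h : H} (hh : h ∈ ℋ (-j)) :
    P.β (rep (𝒟 := 𝒟) P B d) h = B.b d h := by
  show P.β (repAdd (𝒟 := 𝒟) P B d) h = _
  rw [repAdd_of_mem P B hd, repFun_spec P B j d hh]

omit [DirectSum.Decomposition 𝒞] in
theorem rep_unique' {j : ℤ} {d : D} (hd : d ∈ 𝒟 j) {c : C} (hc : c ∈ 𝒞 j)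
    (h : ∀ h ∈ ℋ (-j), P.β c h = B.b d h) : rep (𝒟 := 𝒟) P B d = c := by
  show repAdd (𝒟 := 𝒟) P B d = c
  rw [repAdd_of_mem P B hd]
  exact repFun_unique P B j d hc h

omit [DirectSum.Decomposition 𝒞] in
theorem rep_eq_zero_iff {j : ℤ} {d : D} (hd : d ∈ 𝒟 j) :
    rep (𝒟 := 𝒟) P B d = 0 ↔ ∀ h ∈ ℋ (-j), B.b d h = 0 := by
  constructor
  · intro h0 h hh
    rw [← rep_spec P B hd hh, h0, P.zero_left]
  · intro h0
    apply rep_unique' P B hd (zero_mem _)
    intro h hh
    rw [P.zero_left, h0 h hh]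

theorem rep_isGrHom : GrLC.IsGrHom 𝒟 𝒞 (rep (𝒟 := 𝒟) P B) := fun _ _ hd => rep_mem P B hd

/-- the representing map commutes with the projections onto the pieces -/
theorem decompose_rep (d : D) (j : ℤ) :
    (decompose 𝒞 (rep (𝒟 := 𝒟) P B d) j : C) = rep (𝒟 := 𝒟) P B (decompose 𝒟 d j : D) := by
  induction d using DirectSum.Decomposition.inductionOn 𝒟 with
  | zero =>
    rw [map_zero, decompose_zero, decompose_zero, DirectSum.zero_apply, DirectSum.zero_apply,
      ZeroMemClass.coe_zero, ZeroMemClass.coe_zero, map_zero]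
  | @homogeneous i d =>
    by_cases hi : i = j
    · subst hi
      rw [decompose_of_mem_same 𝒞 (rep_mem P B d.2), decompose_of_mem_same 𝒟 d.2]
    · rw [decompose_of_mem_ne 𝒞 (rep_mem P B d.2) hi, decompose_of_mem_ne 𝒟 d.2 hi, map_zero]
  | add a b ha hb =>
    rw [map_add, decompose_add, decompose_add, DirectSum.add_apply, DirectSum.add_apply,
      AddMemClass.coe_add, AddMemClass.coe_add, ha, hb, map_add]

theorem rep_eq_zero_iff' (d : D) :
    rep (𝒟 := 𝒟) P B d = 0 ↔ ∀ j : ℤ, rep (𝒟 := 𝒟) P B (decompose 𝒟 d j : D) = 0 := by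
  classical
  constructor
  · intro h0 j
    rw [← decompose_rep, h0, decompose_zero, DirectSum.zero_apply, ZeroMemClass.coe_zero]
  · intro h0
    rw [← sum_support_decompose 𝒟 d, map_sum]
    exact Finset.sum_eq_zero (fun j _ => h0 j)

/-- the representing map is surjective as soon as every functional `P.β c` on a piece is of the
form `B.b d` -/
theorem rep_surjective
    (h : ∀ (j : ℤ) (c : C), c ∈ 𝒞 j → ∃ d ∈ 𝒟 j, ∀ x ∈ ℋ (-j), B.b d x = P.β c x) :
    Function.Surjective (rep (𝒟 := 𝒟) P B) := by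
  intro c
  induction c using DirectSum.Decomposition.inductionOn 𝒞 with
  | zero => exact ⟨0, map_zero _⟩
  | @homogeneous j c =>
    obtain ⟨d, hd, hdc⟩ := h j c c.2
    refine ⟨d, rep_unique' P B hd c.2 (fun x hx => (hdc x hx).symm)⟩
  | add a b ha hb =>
    obtain ⟨d, rfl⟩ := ha
    obtain ⟨d', rfl⟩ := hb
    exact ⟨d + d', map_add _ _ _⟩

end GrForm

end Rep

end Groth.Agent.Helper20.GrInj
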