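import Mathlib
import Groth.Agent.Lib.Helper20.GrLD1
import Groth.Agent.Lib.Helper20.GrAcyc3

/-!
# The graded dual of a kernel is the cokernel of the dual map; uniqueness of graded duals (helper20)
-/

set_option autoImplicit false

open DirectSum

namespace Groth.Agent.Helper20.GrInj

universe u

section Strict

variable {R : Type u} [CommRing R]
variable {K : Type u} [AddCommGroup K] [Module R K] {ℋK : ℤ → AddSubgroup K}
  [DirectSum.Decomposition ℋK]
variable {A : Type u} [AddCommGroup A] [Module R A] {ℋA : ℤ → AddSubgroup A}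
  [DirectSum.Decomposition ℋA]

/-- an injective homogeneous map reflects degrees -/
theorem mem_of_map_mem_of_injective {θ : K →ₗ[R] A} (hθ : GrLC.IsGrHom ℋK ℋA θ)
    (hinj : Function.Injective θ) {j : ℤ} {κ : K} (h : θ κ ∈ ℋA j) : κ ∈ ℋK j := by
  classical
  have hcomp : ∀ i, i ≠ j → (decompose ℋK κ i : K) = 0 := by
    intro i hi
    apply hinj
    rw [map_zero, ← decompose_map ℋK ℋA hθ, decompose_of_mem_ne ℋA h (Ne.symm hi)]
  have : κ = (decompose ℋK κ j : K) := by
    conv_lhs => rw [← sum_support_decompose ℋK κ]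
    apply Finset.sum_eq_single j
    · intro i _ hi
      exact hcomp i hi
    · intro hj
      rw [DFinsupp.notMem_support_iff] at hj
      rw [hj, ZeroMemClass.coe_zero]
  rw [this]
  exact (decompose ℋK κ j).2

end Strict

section DualKer

variable {R : Type u} [CommRing R] {𝒜 : ℤ → AddSubgroup R} [GradedRing 𝒜]
variable (h0 : IsField (GrLC.deg0 𝒜))
variable {A : Type u} [AddCommGroup A] [Module R A] {ℋA : ℤ → AddSubgroup A}
  [DirectSum.Decomposition ℋA] [SetLike.GradedSMul 𝒜 ℋA]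
variable {DA : Type u} [AddCommGroup DA] [Module R DA] {𝒟A : ℤ → AddSubgroup DA}
  [DirectSum.Decomposition 𝒟A] [SetLike.GradedSMul 𝒜 𝒟A]
variable (PA : GrPairing 𝒜 𝒟A ℋA)
variable {K : Type u} [AddCommGroup K] [Module R K] {ℋK : ℤ → AddSubgroup K}
  [DirectSum.Decomposition ℋK] [SetLike.GradedSMul 𝒜 ℋK]
variable {C : Type u} [AddCommGroup C] [Module R C] {𝒞 : ℤ → AddSubgroup C}
  [DirectSum.Decomposition 𝒞] [SetLike.GradedSMul 𝒜 𝒞]
variable (PK : GrPairing 𝒜 𝒞 ℋK)
variable (θ : K →ₗ[R] A) (hθ : GrLC.IsGrHom ℋK ℋA θ)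

/-- the form `(f, κ) ↦ ⟨f, θ κ⟩` -/
def pullForm : GrForm 𝒜 DA K where
  b f κ := PA.β f (θ κ)
  mem f κ := PA.mem _ _
  add_left f f' κ := PA.add_left _ _ _
  add_right f κ κ' := by rw [map_add, PA.add_right]
  smul_left r f κ := by rw [PA.smul_left, map_smul]
  smul_right s hs f κ := by rw [map_smul, PA.smul_right s hs]

omit [DirectSum.Decomposition ℋA] [SetLike.GradedSMul 𝒜 ℋA] [DirectSum.Decomposition 𝒟A]
  [SetLike.GradedSMul 𝒜 𝒟A] in
theorem pullForm_b (f : DA) (κ : K) : (pullForm PA θ).b f κ = PA.β f (θ κ) := rfl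

/-- the map `DA → C` dual to `θ : K → A` -/
noncomputable def dualMap : DA →ₗ[R] C := GrForm.rep (𝒟 := 𝒟A) PK (pullForm PA θ)

omit [DirectSum.Decomposition ℋA] [DirectSum.Decomposition 𝒞] [DirectSum.Decomposition ℋK] in
theorem dualMap_spec {j : ℤ} {f : DA} (hf : f ∈ 𝒟A j) {κ : K} (hκ : κ ∈ ℋK (-j)) :
    PK.β (dualMap PA PK θ f) κ = PA.β f (θ κ) :=
  GrForm.rep_spec PK (pullForm PA θ) hf hκ

omit [DirectSum.Decomposition ℋA] [DirectSum.Decomposition ℋK] in
theorem dualMap_isGrHom : GrLC.IsGrHom 𝒟A 𝒞 (dualMap PA PK θ) :=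
  GrForm.rep_isGrHom PK (pullForm PA θ)

omit [DirectSum.Decomposition ℋA] [DirectSum.Decomposition ℋK] in
/-- the kernel of the dual map -/
theorem dualMap_eq_zero_iff (f : DA) :
    dualMap PA PK θ f = 0 ↔
      ∀ (j : ℤ) (κ : K), κ ∈ ℋK (-j) → PA.β (decompose 𝒟A f j : DA) (θ κ) = 0 := by
  unfold dualMap
  rw [GrForm.rep_eq_zero_iff']
  constructor
  · intro h j κ hκ
    exact (GrForm.rep_eq_zero_iff PK (pullForm PA θ) (decompose 𝒟A f j).2).1 (h j) κ hκ
  · intro h j
    exact (GrForm.rep_eq_zero_iff PK (pullForm PA θ) (decompose 𝒟A f j).2).2 (fun κ hκ => h j κ hκ)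

include h0 hθ in
/-- the dual of an injective homogeneous map is surjective -/
theorem dualMap_surjective (hinj : Function.Injective θ) :
    Function.Surjective (dualMap PA PK θ) := by
  letI : Field ↥(GrLC.deg0 𝒜) := h0.toField
  apply GrForm.rep_surjective
  intro j c hc
  -- the functional on `K_{-j}`
  let lam := PK.bil j ⟨c, hc⟩
  let θj := compMap (𝒜 := 𝒜) ℋK ℋA θ hθ (-j)
  have hθj : Function.Injective θj := by
    intro x y hxy
    apply Subtype.ext
    apply hinj
    exact congrArg Subtype.val hxy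
  obtain ⟨ρ, hρ⟩ := LinearMap.exists_leftInverse_of_injective θj (LinearMap.ker_eq_bot.2 hθj)
  obtain ⟨f, hf⟩ := PA.bil_surjective j (lam ∘ₗ ρ)
  refine ⟨(f : DA), f.2, ?_⟩
  intro κ hκ
  show PA.β (f : DA) (θ κ) = PK.β c κ
  have h1 : ((PA.bil j f (θj ⟨κ, hκ⟩) : GrLC.deg0 𝒜) : R) = PA.β (f : DA) (θ κ) := rfl
  rw [← h1, hf, LinearMap.comp_apply]
  have h2 : ρ (θj ⟨κ, hκ⟩) = ⟨κ, hκ⟩ := congrArg (fun g => g ⟨κ, hκ⟩) hρ
  rw [h2]
  rfl

end DualKer

section Main

variable {R : Type u} [CommRing R] {𝒜 : ℤ → AddSubgroup R} [GradedRing 𝒜]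
variable (h0 : IsField (GrLC.deg0 𝒜))
variable {A : Type u} [AddCommGroup A] [Module R A] {ℋA : ℤ → AddSubgroup A}
  [DirectSum.Decomposition ℋA] [SetLike.GradedSMul 𝒜 ℋA]
variable {DA : Type u} [AddCommGroup DA] [Module R DA] {𝒟A : ℤ → AddSubgroup DA}
  [DirectSum.Decomposition 𝒟A] [SetLike.GradedSMul 𝒜 𝒟A]
variable (PA : GrPairing 𝒜 𝒟A ℋA)
variable {Bm : Type u} [AddCommGroup Bm] [Module R Bm] {ℋB : ℤ → AddSubgroup Bm}
  [DirectSum.Decomposition ℋB] [SetLike.GradedSMul 𝒜 ℋB]
variable {DB : Type u} [AddCommGroup DB] [Module R DB] {𝒟B : ℤ → AddSubgroup DB}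
  [DirectSum.Decomposition 𝒟B] [SetLike.GradedSMul 𝒜 𝒟B]
variable (PB : GrPairing 𝒜 𝒟B ℋB)
variable {K : Type u} [AddCommGroup K] [Module R K] {ℋK : ℤ → AddSubgroup K}
  [DirectSum.Decomposition ℋK] [SetLike.GradedSMul 𝒜 ℋK]
variable {C : Type u} [AddCommGroup C] [Module R C] {𝒞 : ℤ → AddSubgroup C}
  [DirectSum.Decomposition 𝒞] [SetLike.GradedSMul 𝒜 𝒞]
variable (PK : GrPairing 𝒜 𝒞 ℋK)

include h0 PA PK in
/-- **uniqueness of graded duals**: two graded duals of isomorphic graded modules are isomorphic -/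
theorem nonempty_equiv_of_pairings (θ : K →ₗ[R] A) (hθ : GrLC.IsGrHom ℋK ℋA θ)
    (hbij : Function.Bijective θ) : Nonempty (C ≃ₗ[R] DA) := by
  classical
  have hsurj := dualMap_surjective h0 PA PK θ hθ hbij.1
  have hinj : Function.Injective (dualMap PA PK θ) := by
    rw [injective_iff_map_eq_zero]
    intro f hf
    rw [dualMap_eq_zero_iff] at hf
    have hall : ∀ j, (decompose 𝒟A f j : DA) = 0 := by
      intro j
      apply PA.nondeg j _ (decompose 𝒟A f j).2
      intro a ha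
      obtain ⟨κ, rfl⟩ := hbij.2 a
      exact hf j κ (mem_of_map_mem_of_injective hθ hbij.1 ha)
    rw [← sum_support_decompose 𝒟A f]
    exact Finset.sum_eq_zero (fun j _ => hall j)
  exact ⟨(LinearEquiv.ofBijective (dualMap PA PK θ) ⟨hinj, hsurj⟩).symm⟩

include h0 PK in
/-- **the graded dual of a kernel is the cokernel of the dual map** -/
theorem nonempty_equiv_coker_of_pairings (u : A →ₗ[R] Bm) (hu : GrLC.IsGrHom ℋA ℋB u)
    (u' : DB →ₗ[R] DA) (hu' : GrLC.IsGrHom 𝒟B 𝒟A u')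
    (hadj : ∀ (g : DB) (a : A), PA.β (u' g) a = PB.β g (u a))
    (θ : K →ₗ[R] A) (hθ : GrLC.IsGrHom ℋK ℋA θ) (hinj : Function.Injective θ)
    (hrange : LinearMap.range θ = LinearMap.ker u) :
    Nonempty (C ≃ₗ[R] (DA ⧸ LinearMap.range u')) := by
  classical
  letI : Field ↥(GrLC.deg0 𝒜) := h0.toField
  have hsurj := dualMap_surjective h0 PA PK θ hθ hinj
  have hker : LinearMap.ker (dualMap PA PK θ) = LinearMap.range u' := by
    apply le_antisymm
    · intro f hf
      rw [LinearMap.mem_ker, dualMap_eq_zero_iff] at hf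
      have hall : ∀ j, (decompose 𝒟A f j : DA) ∈ LinearMap.range u' := by
        intro j
        -- the functional `⟨f_j, -⟩` on `A_{-j}` vanishes on the kernel of `u`
        let φ := PA.bil j (decompose 𝒟A f j)
        let uj := compMap (𝒜 := 𝒜) ℋA ℋB u hu (-j)
        have hφ : φ ∈ (LinearMap.ker uj).dualAnnihilator := by
          rw [Submodule.mem_dualAnnihilator]
          intro a ha
          have ha' : u (a : A) = 0 := congrArg Subtype.val (LinearMap.mem_ker.1 ha)
          have ha'' : (a : A) ∈ LinearMap.range θ := by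
            rw [hrange]
            exact ha'
          obtain ⟨κ, hκ⟩ := ha''
          have hκmem : κ ∈ ℋK (-j) := by
            apply mem_of_map_mem_of_injective hθ hinj
            rw [hκ]
            exact a.2
          apply Subtype.ext
          show PA.β (decompose 𝒟A f j : DA) (a : A) = 0
          rw [← hκ]
          exact hf j κ hκmem
        rw [← LinearMap.range_dualMap_eq_dualAnnihilator_ker] at hφ
        obtain ⟨ψ, hψ⟩ := hφ
        obtain ⟨g, hg⟩ := PB.bil_surjective j ψ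
        refine ⟨(g : DB), ?_⟩
        apply GrForm.rep_unique PA (hu' j _ g.2) (decompose 𝒟A f j).2
        intro a ha
        rw [hadj]
        have h1 : ((PB.bil j g (uj ⟨a, ha⟩) : GrLC.deg0 𝒜) : R) = PB.β (g : DB) (u a) := rfl
        rw [← h1, hg]
        have h2 : ψ (uj ⟨a, ha⟩) = φ ⟨a, ha⟩ := by
          rw [← hψ]
          rfl
        rw [h2]
        rfl
      rw [← sum_support_decompose 𝒟A f]
      exact Submodule.sum_mem _ (fun j _ => hall j)
    · rintro _ ⟨g, rfl⟩
      rw [LinearMap.mem_ker, dualMap_eq_zero_iff]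
      intro j κ hκ
      rw [decompose_map 𝒟B 𝒟A hu', hadj]
      have : u (θ κ) = 0 := by
        have : θ κ ∈ LinearMap.ker u := by
          rw [← hrange]
          exact ⟨κ, rfl⟩
        exact this
      rw [this, PB.zero_right]
  exact ⟨((LinearMap.quotKerEquivOfSurjective (dualMap PA PK θ) hsurj).symm).trans
    (Submodule.quotEquivOfEq _ _ hker)⟩

end Main

end Groth.Agent.Helper20.GrInj
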