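import Mathlib
import Groth.Agent.Lib.Helper20.GrLD1
import Groth.Agent.Lib.Helper20.GrCan1
import Groth.Agent.Lib.Helper20.GrShift
import Groth.Agent.Lib.Helper20.GrInj3

/-!
# The graded duality pairing between `Hom_R(M, C)` and `M ⊗_R H` (helper20)

Given a graded duality pairing `C × H → R_0`, a finitely generated graded module `M` and a bijective
graded "multiplication" `M ⊗_R H → HM`, the graded module `Hom_R(M, C)` is in graded duality
with `HM`.
-/

set_option autoImplicit false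

open DirectSum TensorProduct

namespace Groth.Agent.Helper20.GrInj

universe u

section TopPairing

variable {R : Type u} [CommRing R] {𝒜 : ℤ → AddSubgroup R} [GradedRing 𝒜]
variable {C : Type u} [AddCommGroup C] [Module R C] {𝒞 : ℤ → AddSubgroup C}
  [DirectSum.Decomposition 𝒞] [SetLike.GradedSMul 𝒜 𝒞]
variable {H : Type u} [AddCommGroup H] [Module R H] {ℋ : ℤ → AddSubgroup H}
  [DirectSum.Decomposition ℋ] [SetLike.GradedSMul 𝒜 ℋ]
variable (P : GrPairing 𝒜 𝒞 ℋ)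
variable {M : Type u} [AddCommGroup M] [Module R M] {ℳ : ℤ → AddSubgroup M}
  [DirectSum.Decomposition ℳ] [SetLike.GradedSMul 𝒜 ℳ]
variable {HM : Type u} [AddCommGroup HM] [Module R HM] {ℋM : ℤ → AddSubgroup HM}
  [DirectSum.Decomposition ℋM] [SetLike.GradedSMul 𝒜 ℋM]
variable (cup : M ⊗[R] H →ₗ[R] HM)

/-- two additive maps agreeing on homogeneous elements agree -/
theorem addHom_ext_homog {X : Type u} [AddCommGroup X] (𝒳 : ℤ → AddSubgroup X)
    [DirectSum.Decomposition 𝒳] {Y : Type*} [AddCommGroup Y] (f g : X →+ Y)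
    (h : ∀ (l : ℤ) (x : X), x ∈ 𝒳 l → f x = g x) (x : X) : f x = g x := by
  induction x using DirectSum.Decomposition.inductionOn 𝒳 with
  | zero => rw [map_zero, map_zero]
  | @homogeneous l x => exact h l x x.2
  | add a b ha hb => rw [map_add, map_add, ha, hb]

omit [DirectSum.Decomposition 𝒞] [SetLike.GradedSMul 𝒜 𝒞] [DirectSum.Decomposition ℋ]
  [SetLike.GradedSMul 𝒜 ℋ] in
/-- the biadditive form `(x, ξ) ↦ ⟨f x, ξ⟩` on the tensor product -/
noncomputable def LfR (f : M →ₗ[R] C) : M ⊗[R] H →+ R :=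
  TensorProduct.liftAddHom
    { toFun := fun x => P.toForm.rightHom (f x)
      map_zero' := by
        apply AddMonoidHom.ext
        intro ξ
        show P.β (f 0) ξ = 0
        rw [map_zero, P.zero_left]
      map_add' := fun x y => by
        apply AddMonoidHom.ext
        intro ξ
        show P.β (f (x + y)) ξ = P.β (f x) ξ + P.β (f y) ξ
        rw [map_add, P.add_left] }
    (fun r x ξ => by
      show P.β (f (r • x)) ξ = P.β (f x) (r • ξ)
      rw [map_smul, P.smul_left])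

omit [DirectSum.Decomposition 𝒞] [SetLike.GradedSMul 𝒜 𝒞] [DirectSum.Decomposition ℋ]
  [SetLike.GradedSMul 𝒜 ℋ] in
theorem LfR_tmul (f : M →ₗ[R] C) (x : M) (ξ : H) : LfR P f (x ⊗ₜ[R] ξ) = P.β (f x) ξ := rfl

omit [DirectSum.Decomposition 𝒞] [SetLike.GradedSMul 𝒜 𝒞] [DirectSum.Decomposition ℋ]
  [SetLike.GradedSMul 𝒜 ℋ] in
theorem LfR_mem (f : M →ₗ[R] C) (t : M ⊗[R] H) : LfR P f t ∈ 𝒜 0 := by
  induction t using TensorProduct.induction_on with
  | zero => rw [map_zero]; exact zero_mem _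
  | tmul x ξ => exact P.mem _ _
  | add a b ha hb => rw [map_add]; exact add_mem ha hb

omit [DirectSum.Decomposition 𝒞] [SetLike.GradedSMul 𝒜 𝒞] [DirectSum.Decomposition ℋ]
  [SetLike.GradedSMul 𝒜 ℋ] in
theorem LfR_add_left (f g : M →ₗ[R] C) (t : M ⊗[R] H) :
    LfR P (f + g) t = LfR P f t + LfR P g t := by
  induction t using TensorProduct.induction_on with
  | zero => rw [map_zero, map_zero, map_zero, add_zero]
  | tmul x ξ => rw [LfR_tmul, LfR_tmul, LfR_tmul, LinearMap.add_apply, P.add_left]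
  | add a b ha hb => rw [map_add, map_add, map_add, ha, hb]; abel

omit [DirectSum.Decomposition 𝒞] [SetLike.GradedSMul 𝒜 𝒞] [DirectSum.Decomposition ℋ]
  [SetLike.GradedSMul 𝒜 ℋ] in
theorem LfR_smul_left (r : R) (f : M →ₗ[R] C) (t : M ⊗[R] H) :
    LfR P (r • f) t = LfR P f (r • t) := by
  induction t using TensorProduct.induction_on with
  | zero => rw [smul_zero, map_zero, map_zero]
  | tmul x ξ =>
    rw [TensorProduct.smul_tmul', LfR_tmul, LfR_tmul, LinearMap.smul_apply, map_smul]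
  | add a b ha hb => rw [smul_add, map_add, map_add, ha, hb]

omit [DirectSum.Decomposition 𝒞] [SetLike.GradedSMul 𝒜 𝒞] [DirectSum.Decomposition ℋ]
  [SetLike.GradedSMul 𝒜 ℋ] in
theorem LfR_smul_right {s : R} (hs : s ∈ 𝒜 0) (f : M →ₗ[R] C) (t : M ⊗[R] H) :
    LfR P f (s • t) = s * LfR P f t := by
  induction t using TensorProduct.induction_on with
  | zero => rw [smul_zero, map_zero, mul_zero]
  | tmul x ξ =>
    rw [← TensorProduct.tmul_smul, LfR_tmul, LfR_tmul, P.smul_right s hs]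
  | add a b ha hb => rw [smul_add, map_add, map_add, ha, hb, mul_add]

variable (hbij : Function.Bijective cup)
  (hcupgr : ∀ (j l : ℤ) (x : M) (ξ : H), x ∈ ℳ j → ξ ∈ ℋ l → cup (x ⊗ₜ[R] ξ) ∈ ℋM (l + j))

/-- the form on `Hom_R(M, C) × HM` -/
noncomputable def cupForm : GrForm 𝒜 (M →ₗ[R] C) HM where
  b f η := LfR P f ((LinearEquiv.ofBijective cup hbij).symm η)
  mem f η := LfR_mem P f _
  add_left f g η := LfR_add_left P f g _
  add_right f η η' := by rw [map_add, map_add]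
  smul_left r f η := by rw [LfR_smul_left, LinearEquiv.map_smul]
  smul_right s hs f η := by rw [LinearEquiv.map_smul, LfR_smul_right P hs]

omit [DirectSum.Decomposition 𝒞] [SetLike.GradedSMul 𝒜 𝒞] [DirectSum.Decomposition ℋ]
  [SetLike.GradedSMul 𝒜 ℋ] [DirectSum.Decomposition ℳ] [SetLike.GradedSMul 𝒜 ℳ]
  [DirectSum.Decomposition ℋM] [SetLike.GradedSMul 𝒜 ℋM] in
theorem cupForm_cup (f : M →ₗ[R] C) (t : M ⊗[R] H) :
    (cupForm P cup hbij).b f (cup t) = LfR P f t := by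
  show LfR P f ((LinearEquiv.ofBijective cup hbij).symm (cup t)) = _
  have : (LinearEquiv.ofBijective cup hbij).symm (cup t) = t := by
    apply (LinearEquiv.ofBijective cup hbij).injective
    rw [LinearEquiv.apply_symm_apply]
    rfl
  rw [this]

omit [DirectSum.Decomposition 𝒞] [SetLike.GradedSMul 𝒜 𝒞] [DirectSum.Decomposition ℋ]
  [SetLike.GradedSMul 𝒜 ℋ] [DirectSum.Decomposition ℳ] [SetLike.GradedSMul 𝒜 ℳ]
  [DirectSum.Decomposition ℋM] [SetLike.GradedSMul 𝒜 ℋM] in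
theorem cupForm_tmul (f : M →ₗ[R] C) (x : M) (ξ : H) :
    (cupForm P cup hbij).b f (cup (x ⊗ₜ[R] ξ)) = P.β (f x) ξ := by
  rw [cupForm_cup, LfR_tmul]

include hcupgr in
omit [DirectSum.Decomposition 𝒞] [DirectSum.Decomposition ℋ] [SetLike.GradedSMul 𝒜 ℋ]
  [SetLike.GradedSMul 𝒜 ℳ] [DirectSum.Decomposition ℋM] [SetLike.GradedSMul 𝒜 ℋM]
  [SetLike.GradedSMul 𝒜 𝒞] in
/-- non-degeneracy of the form -/
theorem cupForm_nondeg (j : ℤ) (f : M →ₗ[R] C) (hf : GrLC.IsGrHomDeg ℳ 𝒞 f j)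
    (h : ∀ η ∈ ℋM (-j), (cupForm P cup hbij).b f η = 0) : f = 0 := by
  apply eq_zero_of_forall_homog ℳ
  intro i x hx
  apply P.nondeg (i + j) (f x) (hf i x hx)
  intro ξ hξ
  rw [← cupForm_tmul P cup hbij]
  apply h
  have := hcupgr i (-(i + j)) x ξ hx hξ
  have e1 : -(i + j) + i = -j := by ring
  rwa [e1] at this


/-- the projection of a functional on the piece of degree `-j` of `HM`, as an additive map -/
noncomputable def projL (j : ℤ) (ℓ : HM → R)
    (hadd : ∀ η ∈ ℋM (-j), ∀ η' ∈ ℋM (-j), ℓ (η + η') = ℓ η + ℓ η') : HM →+ R where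
  toFun η := ℓ (decompose ℋM η (-j) : HM)
  map_zero' := by
    have h := hadd 0 (zero_mem _) 0 (zero_mem _)
    rw [add_zero] at h
    rw [decompose_zero, DirectSum.zero_apply, ZeroMemClass.coe_zero]
    exact left_eq_add.1 h
  map_add' η η' := by
    rw [decompose_add, DirectSum.add_apply, AddMemClass.coe_add]
    exact hadd _ (decompose ℋM η (-j)).2 _ (decompose ℋM η' (-j)).2

omit [SetLike.GradedSMul 𝒜 ℋM] in
theorem projL_apply (j : ℤ) (ℓ : HM → R)
    (hadd : ∀ η ∈ ℋM (-j), ∀ η' ∈ ℋM (-j), ℓ (η + η') = ℓ η + ℓ η') (η : HM) :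
    projL j ℓ hadd η = ℓ (decompose ℋM η (-j) : HM) := rfl

omit [SetLike.GradedSMul 𝒜 ℋM] in
theorem projL_of_mem (j : ℤ) (ℓ : HM → R)
    (hadd : ∀ η ∈ ℋM (-j), ∀ η' ∈ ℋM (-j), ℓ (η + η') = ℓ η + ℓ η') {η : HM} (hη : η ∈ ℋM (-j)) :
    projL j ℓ hadd η = ℓ η := by
  rw [projL_apply, decompose_of_mem_same ℋM hη]

omit [SetLike.GradedSMul 𝒜 ℋM] in
theorem projL_of_mem_ne (j : ℤ) (ℓ : HM → R)
    (hadd : ∀ η ∈ ℋM (-j), ∀ η' ∈ ℋM (-j), ℓ (η + η') = ℓ η + ℓ η') {l : ℤ} {η : HM}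
    (hη : η ∈ ℋM l) (hl : l ≠ -j) : projL j ℓ hadd η = 0 := by
  rw [projL_apply, decompose_of_mem_ne ℋM hη hl]
  have := (projL j ℓ hadd).map_zero
  rw [projL_apply, decompose_zero, DirectSum.zero_apply, ZeroMemClass.coe_zero] at this
  exact this

/-- the form `(x, ξ) ↦ ℓ (x ∪ ξ)_{-j}` on `M × H` -/
noncomputable def pullL (j : ℤ) (ℓ : HM → R) (hmem : ∀ η ∈ ℋM (-j), ℓ η ∈ 𝒜 0)
    (hadd : ∀ η ∈ ℋM (-j), ∀ η' ∈ ℋM (-j), ℓ (η + η') = ℓ η + ℓ η')
    (hsm : ∀ s ∈ 𝒜 0, ∀ η ∈ ℋM (-j), ℓ (s • η) = s * ℓ η) : GrForm 𝒜 M H where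
  b x ξ := projL j ℓ hadd (cup (x ⊗ₜ[R] ξ))
  mem x ξ := hmem _ (decompose ℋM (cup (x ⊗ₜ[R] ξ)) (-j)).2
  add_left x x' ξ := by rw [TensorProduct.add_tmul, map_add, map_add]
  add_right x ξ ξ' := by rw [TensorProduct.tmul_add, map_add, map_add]
  smul_left r x ξ := by rw [TensorProduct.smul_tmul]
  smul_right s hs x ξ := by
    rw [TensorProduct.tmul_smul, LinearMap.map_smul, projL_apply, projL_apply]
    have h1 := decompose_smul_of_mem 𝒜 ℋM hs (cup (x ⊗ₜ[R] ξ)) (-j)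
    rw [zero_add] at h1
    rw [h1]
    exact hsm s hs _ (decompose ℋM (cup (x ⊗ₜ[R] ξ)) (-j)).2

variable (horth : ∀ (i l : ℤ) (c : C) (ξ : H), c ∈ 𝒞 i → ξ ∈ ℋ l → l + i ≠ 0 → P.β c ξ = 0)

include horth hcupgr in
/-- representability for the form on `Hom_R(M, C) × HM` -/
theorem cupForm_repr (j : ℤ) (ℓ : HM → R) (hmem : ∀ η ∈ ℋM (-j), ℓ η ∈ 𝒜 0)
    (hadd : ∀ η ∈ ℋM (-j), ∀ η' ∈ ℋM (-j), ℓ (η + η') = ℓ η + ℓ η')
    (hsm : ∀ s ∈ 𝒜 0, ∀ η ∈ ℋM (-j), ℓ (s • η) = s * ℓ η) :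
    ∃ f : M →ₗ[R] C, GrLC.IsGrHomDeg ℳ 𝒞 f j ∧
      ∀ η ∈ ℋM (-j), (cupForm P cup hbij).b f η = ℓ η := by
  classical
  letI dec := (shiftGr_isInternal ℳ (-j)).chooseDecomposition
  letI gsm := shiftGr_gradedSMul 𝒜 ℳ (-j)
  let Bl := pullL (𝒜 := 𝒜) cup j ℓ hmem hadd hsm
  let f := GrForm.rep (𝒟 := shiftGr ℳ (-j)) P Bl
  have hfdeg : GrLC.IsGrHomDeg ℳ 𝒞 f j := by
    intro i x hx
    apply GrForm.rep_mem (𝒟 := shiftGr ℳ (-j)) P Bl
    show x ∈ ℳ (i + j + -j)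
    rwa [add_neg_cancel_right]
  have hspec : ∀ (i : ℤ) (x : M), x ∈ ℳ i → ∀ ξ ∈ ℋ (-(i + j)), P.β (f x) ξ = Bl.b x ξ := by
    intro i x hx ξ hξ
    apply GrForm.rep_spec (𝒟 := shiftGr ℳ (-j)) P Bl (j := i + j) _ hξ
    show x ∈ ℳ (i + j + -j)
    rwa [add_neg_cancel_right]
  -- the key identity on pure tensors
  have hkey : ∀ (x : M) (ξ : H), P.β (f x) ξ = Bl.b x ξ := by
    intro x ξ
    apply addHom_ext_homog ℋ (P.toForm.rightHom (f x)) (Bl.rightHom x)
    intro l ξ hξ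
    show P.β (f x) ξ = Bl.b x ξ
    apply addHom_ext_homog ℳ ((P.toForm.leftHom ξ).comp f.toAddMonoidHom) (Bl.leftHom ξ)
    intro i x hx
    show P.β (f x) ξ = Bl.b x ξ
    by_cases hl : l = -(i + j)
    · subst hl
      exact hspec i x hx ξ hξ
    · rw [horth (i + j) l (f x) ξ (hfdeg i x hx) hξ (by intro h; apply hl; omega)]
      symm
      apply projL_of_mem_ne j ℓ hadd (hcupgr i l x ξ hx hξ)
      intro h
      apply hl
      omega
  have hall : ∀ t : M ⊗[R] H, LfR P f t = projL j ℓ hadd (cup t) := by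
    intro t
    induction t using TensorProduct.induction_on with
    | zero => rw [map_zero, map_zero, map_zero]
    | tmul x ξ => exact hkey x ξ
    | add a b ha hb => rw [map_add, map_add, map_add, ha, hb]
  refine ⟨f, hfdeg, ?_⟩
  intro η hη
  obtain ⟨t, rfl⟩ := hbij.2 η
  rw [cupForm_cup, hall, projL_of_mem j ℓ hadd hη]

/-- **the graded duality pairing between `Hom_R(M, C)` and `HM ≅ M ⊗_R H`** -/
noncomputable def homCupPairing : GrPairing 𝒜 (homGr (𝒜 := 𝒜) ℳ 𝒞) ℋM where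
  β := (cupForm P cup hbij).b
  mem := (cupForm P cup hbij).mem
  add_left := (cupForm P cup hbij).add_left
  add_right := (cupForm P cup hbij).add_right
  smul_left := (cupForm P cup hbij).smul_left
  smul_right := (cupForm P cup hbij).smul_right
  nondeg j f hf h := cupForm_nondeg P cup hbij hcupgr j f hf h
  repr j ℓ hmem hadd hsm := by
    obtain ⟨f, hf, hfl⟩ := cupForm_repr P cup hbij hcupgr horth j ℓ hmem hadd hsm
    exact ⟨f, hf, hfl⟩

theorem homCupPairing_tmul (f : M →ₗ[R] C) (x : M) (ξ : H) :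
    (homCupPairing P cup hbij hcupgr horth).β f (cup (x ⊗ₜ[R] ξ)) = P.β (f x) ξ :=
  cupForm_tmul P cup hbij f x ξ

end TopPairing

end Groth.Agent.Helper20.GrInj
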