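import Mathlib
import Groth.Agent.Lib.Helper20.GrLD2
import Groth.Agent.Lib.Helper20.GrLD3
import Groth.Agent.Lib.Helper20.GrCup6

/-!
# Auxiliary constructions for graded local duality (helper20)

Graded free covers with a prescribed property; naturality of the form `(x, ξ) ↦ ⟨f x, ξ⟩`;
transport of a graded duality pairing along a homogeneous isomorphism.
-/

set_option autoImplicit false

open DirectSum TensorProduct

namespace Groth.Agent.Helper20.GrInj

universe u

section Cover

variable {ι : Type} [AddCommGroup ι] [DecidableEq ι]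
variable {R : Type u} [CommRing R] {𝒜 : ι → AddSubgroup R} [GradedRing 𝒜]
variable {M : Type u} [AddCommGroup M] [Module R M] (ℳ : ι → AddSubgroup M)
  [DirectSum.Decomposition ℳ] [SetLike.GradedSMul 𝒜 ℳ]

theorem exists_cover_of_list (Q : GrLC.GMod.{u} 𝒜 → Prop) (hQ0 : Q (zeroGMod 𝒜))
    (hQ1 : ∀ d : ι, Q (freeSh (𝒜 := 𝒜) d))
    (hQ2 : ∀ A B : GrLC.GMod.{u} 𝒜, Q A → Q B → Q (prodGMod 𝒜 A B))
    (l : List M) (hl : ∀ m ∈ l, ∃ d, m ∈ ℳ d) :
    ∃ (F : GrLC.GMod.{u} 𝒜) (π : F.carrier →ₗ[R] M), Module.Finite R F.carrier ∧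
      GrLC.IsGrHom F.gr ℳ π ∧ LinearMap.range π = Submodule.span R {m | m ∈ l} ∧ Q F := by
  induction l with
  | nil =>
    refine ⟨zeroGMod 𝒜, 0, ?_, fun _ _ _ => zero_mem _, ?_, hQ0⟩
    · show Module.Finite R PUnit.{u + 1}
      infer_instance
    · have : {m : M | m ∈ ([] : List M)} = ∅ := by ext x; simp
      rw [this, Submodule.span_empty, LinearMap.range_zero]
  | cons m l ih =>
    obtain ⟨F, π, hfin, hgr, hrange, hq⟩ := ih (fun x hx => hl x (List.mem_cons_of_mem m hx))
    obtain ⟨d, hd⟩ := hl m List.mem_cons_self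
    refine ⟨prodGMod 𝒜 (freeSh (𝒜 := 𝒜) d) F, (LinearMap.toSpanSingleton R M m).coprod π,
      ?_, ?_, ?_, hQ2 _ _ (hQ1 d) hq⟩
    · show Module.Finite R (R × F.carrier)
      infer_instance
    · rintro j ⟨r, f⟩ ⟨hr, hf⟩
      have hr' : (show R from r) ∈ 𝒜 (j + -d) := hr
      show (show R from r) • m + π f ∈ ℳ j
      refine add_mem ?_ (hgr j f hf)
      have := SetLike.GradedSMul.smul_mem (A := 𝒜) (B := ℳ) hr' hd
      rwa [vadd_eq_add, neg_add_cancel_right] at this
    · have hset : {x : M | x ∈ m :: l} = {m} ∪ {x | x ∈ l} := by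
        ext x
        simp only [List.mem_cons, Set.mem_ofPred_eq, Set.mem_union, Set.mem_singleton_iff]
      rw [hset, Submodule.span_union, ← hrange]
      show LinearMap.range ((LinearMap.toSpanSingleton R M m).coprod π) = _
      rw [LinearMap.range_coprod, LinearMap.range_toSpanSingleton]

/-- **graded free cover** with a prescribed property of finite graded free modules -/
theorem exists_cover_of_pred [Module.Finite R M] (Q : GrLC.GMod.{u} 𝒜 → Prop)
    (hQ0 : Q (zeroGMod 𝒜)) (hQ1 : ∀ d : ι, Q (freeSh (𝒜 := 𝒜) d))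
    (hQ2 : ∀ A B : GrLC.GMod.{u} 𝒜, Q A → Q B → Q (prodGMod 𝒜 A B)) :
    ∃ (F : GrLC.GMod.{u} 𝒜) (π : F.carrier →ₗ[R] M), Module.Finite R F.carrier ∧
      GrLC.IsGrHom F.gr ℳ π ∧ Function.Surjective π ∧ Q F := by
  classical
  obtain ⟨s, hs⟩ := (Module.finite_def.1 ‹Module.Finite R M› : (⊤ : Submodule R M).FG)
  let T : Finset M := s.biUnion (fun g => (decompose ℳ g).support.image
    (fun j => (decompose ℳ g j : M)))
  obtain ⟨F, π, hfin, hgr, hrange, hq⟩ := exists_cover_of_list ℳ Q hQ0 hQ1 hQ2 T.toList (by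
    intro m hm
    rw [Finset.mem_toList, Finset.mem_biUnion] at hm
    obtain ⟨g, _, hm⟩ := hm
    rw [Finset.mem_image] at hm
    obtain ⟨j, _, rfl⟩ := hm
    exact ⟨j, (decompose ℳ g j).2⟩)
  refine ⟨F, π, hfin, hgr, ?_, hq⟩
  rw [← LinearMap.range_eq_top, hrange, eq_top_iff, ← hs, Submodule.span_le]
  intro g hg
  rw [← sum_support_decompose ℳ g]
  apply Submodule.sum_mem
  intro j hj
  apply Submodule.subset_span
  show _ ∈ T.toList
  rw [Finset.mem_toList, Finset.mem_biUnion]
  exact ⟨g, hg, Finset.mem_image_of_mem _ hj⟩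

end Cover

section Nat

variable {R : Type u} [CommRing R] {𝒜 : ℤ → AddSubgroup R} [GradedRing 𝒜]
variable {C : Type u} [AddCommGroup C] [Module R C] {𝒞 : ℤ → AddSubgroup C}
variable {H : Type u} [AddCommGroup H] [Module R H] {ℋ : ℤ → AddSubgroup H}
variable (P : GrPairing 𝒜 𝒞 ℋ)
variable {M : Type u} [AddCommGroup M] [Module R M] {N : Type u} [AddCommGroup N] [Module R N]

/-- naturality of the form `(x, ξ) ↦ ⟨f x, ξ⟩` -/
theorem LfR_comp (g : N →ₗ[R] C) (φ : M →ₗ[R] N) (t : M ⊗[R] H) :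
    LfR P (g ∘ₗ φ) t = LfR P g (φ.rTensor H t) := by
  induction t using TensorProduct.induction_on with
  | zero => rw [map_zero, map_zero, map_zero]
  | tmul x ξ => rw [LinearMap.rTensor_tmul, LfR_tmul, LfR_tmul, LinearMap.comp_apply]
  | add a b ha hb => rw [map_add, map_add, map_add, ha, hb]

variable {H' : Type u} [AddCommGroup H'] [Module R H'] {ℋ' : ℤ → AddSubgroup H'}

/-- transport of a graded duality pairing along a homogeneous isomorphism of the second factor -/
def GrPairing.congrRight (e : H ≃ₗ[R] H') (he : ∀ (j : ℤ) (h : H), h ∈ ℋ j ↔ e h ∈ ℋ' j) :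
    GrPairing 𝒜 𝒞 ℋ' where
  β c h' := P.β c (e.symm h')
  mem c h' := P.mem _ _
  add_left c c' h' := P.add_left _ _ _
  add_right c h' h'' := by rw [map_add, P.add_right]
  smul_left r c h' := by rw [P.smul_left, map_smul]
  smul_right s hs c h' := by rw [map_smul, P.smul_right s hs]
  nondeg j c hc h := by
    apply P.nondeg j c hc
    intro x hx
    have := h (e x) ((he (-j) x).1 hx)
    rwa [LinearEquiv.symm_apply_apply] at this
  repr j ℓ h1 h2 h3 := by
    have hmem : ∀ x ∈ ℋ (-j), e x ∈ ℋ' (-j) := fun x hx => (he (-j) x).1 hx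
    obtain ⟨c, hc, hcl⟩ := P.repr j (fun x => ℓ (e x)) (fun x hx => h1 _ (hmem x hx))
      (fun x hx y hy => by
        show ℓ (e (x + y)) = _
        rw [map_add]
        exact h2 _ (hmem x hx) _ (hmem y hy))
      (fun s hs x hx => by
        show ℓ (e (s • x)) = _
        rw [map_smul]
        exact h3 s hs _ (hmem x hx))
    refine ⟨c, hc, fun h' hh' => ?_⟩
    have hx : e.symm h' ∈ ℋ (-j) := by
      rw [he (-j), LinearEquiv.apply_symm_apply]
      exact hh'
    have := hcl _ hx
    rw [LinearEquiv.apply_symm_apply] at this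
    exact this

end Nat

end Groth.Agent.Helper20.GrInj
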