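import Mathlib
import Groth.Agent.Lib.Helper20.GrLD4
import Groth.Agent.Lib.Helper20.GrSG10
import Groth.Agent.Lib.Helper20.GrCmp1
import Groth.Agent.Lib.Helper8.Canon9

/-!
# Graded local duality over a Cohen–Macaulay graded ring (helper20)

For a finitely generated graded module `Y` over a positively graded Cohen–Macaulay *local ring
`R` of dimension `n` with `R_0` a field and a graded dual `C` of `H^n_m(R)`, every graded dual of
`H^j_m(Y)` is isomorphic to `Ext^{n-j}_R(Y, C)`.
-/

set_option autoImplicit false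

open DirectSum TensorProduct CategoryTheory

namespace Groth.Agent.Helper20.GrInj

open Groth.Agent.Helper8 Groth.Agent.Helper8.Canon

universe u

attribute [local instance] HgrDec Hgr_gradedSMul

section Good

variable {R : Type u} [CommRing R] {𝒜 : ℤ → AddSubgroup R} [GradedRing 𝒜]

/-- finite graded free modules used as covers: projective, with local cohomology vanishing below
`n` -/
def GoodCover (a : HomogeneousIdeal 𝒜) (n : ℕ) (F : GrLC.GMod.{u} 𝒜) : Prop :=
  Module.Projective R F.carrier ∧ ∀ i < n, Subsingleton (LC.H a.toIdeal i F.carrier)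

variable [IsNoetherianRing R]

theorem goodCover_zero (a : HomogeneousIdeal 𝒜) (n : ℕ) : GoodCover a n (zeroGMod 𝒜) := by
  constructor
  · show Module.Projective R PUnit.{u + 1}
    infer_instance
  · intro i _
    haveI : Subsingleton (zeroGMod 𝒜).carrier := (inferInstance : Subsingleton PUnit.{u + 1})
    exact LC.H_subsingleton_of_subsingleton a.toIdeal i _

theorem goodCover_freeSh (a : HomogeneousIdeal 𝒜) (n : ℕ)
    (h : ∀ i < n, Subsingleton (LC.H a.toIdeal i R)) (d : ℤ) :
    GoodCover a n (freeSh (𝒜 := 𝒜) d) := by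
  constructor
  · show Module.Projective R R
    infer_instance
  · intro i hi
    exact h i hi

theorem goodCover_prod (a : HomogeneousIdeal 𝒜) (n : ℕ) (A B : GrLC.GMod.{u} 𝒜)
    (hA : GoodCover a n A) (hB : GoodCover a n B) : GoodCover a n (prodGMod 𝒜 A B) := by
  constructor
  · haveI := hA.1
    haveI := hB.1
    show Module.Projective R (A.carrier × B.carrier)
    infer_instance
  · intro i hi
    haveI := hA.2 i hi
    haveI := hB.2 i hi
    exact H_prod_subsingleton a.toIdeal i

end Good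


section LD

variable {R : Type u} [CommRing R] [LocCoh.IsCohenMacaulayRing R] {𝒜 : ℤ → AddSubgroup R}
  [GradedRing 𝒜]
variable (hpos : ∀ n : ℤ, n < 0 → 𝒜 n = ⊥) (h0 : IsField (GrLC.deg0 𝒜)) (m : HomogeneousIdeal 𝒜)
  (hm : GrLC.IsStarLocal 𝒜 m) (n : ℕ) (hn : ringKrullDim R = n) (I : GrLC.StarInjRes 𝒜 𝒜)
variable {C : Type u} [AddCommGroup C] [Module R C] {𝒞 : ℤ → AddSubgroup C}
  [DirectSum.Decomposition 𝒞] [SetLike.GradedSMul 𝒜 𝒞]
  (PR : GrPairing 𝒜 𝒞 (I.Hgr m n))
  (horth : ∀ (i l : ℤ) (c : C) (ξ : I.H m n), c ∈ 𝒞 i → ξ ∈ I.Hgr m n l → l + i ≠ 0 →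
    PR.β c ξ = 0)

/-- the grading of `Hom_R(Y, C)` by the degrees of the maps -/
theorem homGr_gradedSMul (Y : GrLC.GMod.{u} 𝒜) :
    SetLike.GradedSMul 𝒜 (homGr (𝒜 := 𝒜) Y.gr 𝒞) :=
  ⟨fun {i d} {r} {f} hr hf => by
    rw [vadd_eq_add]
    exact smul_mem_homGr Y.gr 𝒞 hr hf⟩

include hn horth in
/-- the duality pairing between `Hom_R(Y, C)` and `H^n_m(Y)` -/
theorem exists_topPairing (Y : GrLC.GMod.{u} 𝒜) [Module.Finite R Y.carrier]
    (EY : GrLC.StarInjRes 𝒜 Y.gr) :
    ∃ PY : GrPairing 𝒜 (homGr (𝒜 := 𝒜) Y.gr 𝒞) (EY.Hgr m n),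
      ∀ (f : Y.carrier →ₗ[R] C) (t : Y.carrier ⊗[R] I.H m n),
        PY.β f (cupT I EY m n t) = LfR PR f t := by
  have hbij : Function.Bijective (cupT I EY m n) := cupT_top_bijective I m n hn EY
  have hgr : ∀ (j l : ℤ) (x : Y.carrier) (ξ : I.H m n), x ∈ Y.gr j → ξ ∈ I.Hgr m n l →
      cupT I EY m n (x ⊗ₜ[R] ξ) ∈ EY.Hgr m n (l + j) :=
    fun j l x ξ hx hξ => cupT_tmul_mem I EY m n hx hξ
  exact ⟨homCupPairing PR (cupT I EY m n) hbij hgr horth,
    fun f t => cupForm_cup PR (cupT I EY m n) hbij f t⟩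


include hpos h0 hm hn horth in
/-- **graded local duality**: over a positively graded Cohen–Macaulay *local ring `R` of dimension
`n` with `R_0` a field, if `C` is a graded dual of `H^n_m(R)` then any graded dual of `H^j_m(Y)`,
`Y` finitely generated graded, is isomorphic to `Ext^{n-j}_R(Y, C)`. -/
theorem nonempty_equiv_ext_of_pairing :
    ∀ (t j : ℕ), j + t = n → ∀ (Y : GrLC.GMod.{u} 𝒜) [Module.Finite R Y.carrier]
      (EY : GrLC.StarInjRes 𝒜 Y.gr) (C' : Type u) [AddCommGroup C'] [Module R C']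
      (𝒞' : ℤ → AddSubgroup C') [DirectSum.Decomposition 𝒞'] [SetLike.GradedSMul 𝒜 𝒞']
      (_ : GrPairing 𝒜 𝒞' (EY.Hgr m j)),
      Nonempty (C' ≃ₗ[R]
        Abelian.Ext.{u} (ModuleCat.of R Y.carrier) (ModuleCat.of R C) t) := by
  intro t
  induction t with
  | zero =>
    intro j hj Y _ EY C' _ _ 𝒞' _ _ PK
    have hjn : j = n := by omega
    subst hjn
    obtain ⟨PY, -⟩ := exists_topPairing m j hn I PR horth Y EY
    letI := homGrDec (𝒜 := 𝒜) Y.gr 𝒞
    letI := homGr_gradedSMul (𝒞 := 𝒞) Y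
    obtain ⟨e⟩ := nonempty_equiv_of_pairings h0 PY PK (LinearMap.id : EY.H m j →ₗ[R] EY.H m j)
      (fun _ _ h => h) Function.bijective_id
    exact ⟨e.trans (hom0 Y.carrier C)⟩
  | succ t ih =>
    intro j hj Y _ EY C' _ _ 𝒞' _ _ PK
    -- vanishing for `R`
    have hR : ∀ i < n, Subsingleton (LC.H m.toIdeal i R) := by
      intro i hi
      haveI := H_subsingleton_of_CM hpos m hm n hn I i hi
      obtain ⟨e⟩ := nonempty_H_equiv_LC I m i
      exact e.symm.toEquiv.subsingleton
    -- a good cover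
    obtain ⟨F, π, hFfin, hπg, hπ, hgood⟩ := exists_cover_of_pred Y.gr (GoodCover m n)
      (goodCover_zero m n) (goodCover_freeSh m n hR) (goodCover_prod m n)
    haveI := hFfin
    have hKhom : (LinearMap.ker π).IsHomogeneous F.gr := ker_isHomogeneous F.gr Y.gr hπg
    let Z := subGMod F.gr 𝒜 (LinearMap.ker π) hKhom
    let ιZ := subVal 𝒜 F.gr (LinearMap.ker π) hKhom
    have hιg : GrLC.IsGrHom Z.gr F.gr ιZ := subVal_grHom 𝒜 F.gr (LinearMap.ker π) hKhom
    have hex : LinearMap.range ιZ = LinearMap.ker π := subVal_range 𝒜 F.gr (LinearMap.ker π) hKhom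
    have hιinj : Function.Injective ιZ := subVal_injective 𝒜 F.gr (LinearMap.ker π) hKhom
    haveI hZfin : Module.Finite R Z.carrier := subGMod_finite F (LinearMap.ker π) hKhom
    let EF := starInjRes 𝒜 F.gr
    let EZ := starInjRes 𝒜 Z.gr
    let A := liftCh EZ EF ιZ hιg
    have hAgr : A.IsGr := liftCh_isGr EZ EF ιZ hιg
    have hA : A.Lifts ιZ := liftCh_lifts EZ EF ιZ hιg
    let B := liftCh EF EY π hπg
    have hBgr : B.IsGr := liftCh_isGr EF EY π hπg
    have hB : B.Lifts π := liftCh_lifts EF EY π hπg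
    obtain ⟨_, _, δ, hδgr, hδ1, hδ2⟩ := exists_les EZ EF EY ιZ π hιg hιinj hex hπ A hAgr hA B hBgr hB m
    have hFvan : ∀ i < n, Subsingleton (EF.H m i) := by
      intro i hi
      haveI := hgood.2 i hi
      obtain ⟨e⟩ := nonempty_H_equiv_LC EF m i
      exact e.toEquiv.subsingleton
    have hδinj : ∀ i < n, Function.Injective (δ i) := by
      intro i hi
      haveI := hFvan i hi
      rw [← LinearMap.ker_eq_bot, ← hδ1 i, LinearMap.range_eq_bot]
      apply LinearMap.ext
      intro x
      rw [Subsingleton.elim x 0, map_zero, LinearMap.zero_apply]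
    have hS : LC.IsSES ιZ π :=
      ⟨hιinj, fun y => by
        constructor
        · intro hy
          have h1 : y ∈ LinearMap.ker π := hy
          rw [← hex] at h1
          exact h1
        · rintro ⟨z, rfl⟩
          have h1 : ιZ z ∈ LinearMap.range ιZ := ⟨z, rfl⟩
          rw [hex] at h1
          exact h1, hπ⟩
    haveI hproj : Projective (ModuleCat.of R F.carrier) := by
      haveI := hgood.1
      exact (IsProjective.iff_projective F.carrier).mp inferInstance
    rcases Nat.eq_zero_or_pos t with rfl | ht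
    · -- the case `t = 1`
      have hjn : j + 1 = n := by omega
      subst hjn
      obtain ⟨PA, hPA⟩ := exists_topPairing m (j + 1) hn I PR horth Z EZ
      obtain ⟨PB, hPB⟩ := exists_topPairing m (j + 1) hn I PR horth F EF
      letI := homGrDec (𝒜 := 𝒜) Z.gr 𝒞
      letI := homGr_gradedSMul (𝒞 := 𝒞) Z
      letI := homGrDec (𝒜 := 𝒜) F.gr 𝒞
      letI := homGr_gradedSMul (𝒞 := 𝒞) F
      have hadj : ∀ (g : F.carrier →ₗ[R] C) (a : EZ.H m (j + 1)),
          PA.β (LinearMap.lcomp R C ιZ g) a = PB.β g (A.Hmap m (j + 1) a) := by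
        intro g a
        obtain ⟨s, rfl⟩ := (cupT_top_bijective I m (j + 1) hn EZ).2 a
        rw [hPA, cupT_natural I EZ EF m (j + 1) hιg A hAgr hA s, hPB]
        exact LfR_comp PR g ιZ s
      obtain ⟨e⟩ := nonempty_equiv_coker_of_pairings h0 PA PB PK (A.Hmap m (j + 1))
        (ChMap.Hmap_isGr hAgr m (j + 1)) (LinearMap.lcomp R C ιZ)
        (fun d g hg i z hz => hg i (ιZ z) (hιg i z hz)) hadj (δ j) (hδgr j)
        (hδinj j (Nat.lt_succ_self j)) (hδ2 j)
      -- the `Ext` side
      have hsurj := homδ_surjective hS C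
      have hexact := homδ_exact hS C
      have hker : LinearMap.range (LinearMap.lcomp R C ιZ) = LinearMap.ker (homδ hS C) := by
        ext f
        exact (hexact f).symm
      exact ⟨e.trans ((Submodule.quotEquivOfEq _ _ hker).trans
        (LinearMap.quotKerEquivOfSurjective (homδ hS C) hsurj))⟩
    · -- the case `t ≥ 2`
      obtain ⟨t', rfl⟩ := Nat.exists_eq_succ_of_ne_zero ht.ne'
      have hj1 : j + 1 < n := by omega
      have hδsurj : Function.Surjective (δ j) := by
        haveI := hFvan (j + 1) hj1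
        rw [← LinearMap.range_eq_top, hδ2 j, LinearMap.ker_eq_top]
        apply LinearMap.ext
        intro x
        exact Subsingleton.elim _ _
      have hδbij : Function.Bijective (δ j) := ⟨hδinj j (by omega), hδsurj⟩
      let eδ := LinearEquiv.ofBijective (δ j) hδbij
      have heδ : ∀ (g : ℤ) (h : EY.H m j), h ∈ EY.Hgr m j g ↔ eδ h ∈ EZ.Hgr m (j + 1) g := by
        intro g h
        constructor
        · intro hh
          exact hδgr j g h hh
        · intro hh
          exact mem_of_map_mem_of_injective (hδgr j) hδbij.1 hh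
      obtain ⟨e⟩ := ih (j + 1) (by omega) Z EZ C' 𝒞' (PK.congrRight eδ heδ)
      let eD : Abelian.Ext.{u} (ModuleCat.of R Z.carrier) (ModuleCat.of R C) (t' + 1) ≃ₗ[R]
          Abelian.Ext.{u} (ModuleCat.of R Y.carrier) (ModuleCat.of R C) (t' + 1 + 1) :=
        LinearEquiv.ofBijective (extδ hS (ModuleCat.of R C) (t' + 1))
          ⟨extδ_injective hS _ t', extδ_surjective hS _ (t' + 1)⟩
      exact ⟨e.trans eD⟩

end LD

end Groth.Agent.Helper20.GrInj
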