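import Mathlib
import Groth.Agent.Lib.Helper20.GrVer6
import Groth.Agent.Lib.Helper8.LCIndep
import Groth.Agent.Lib.Helper8.LCRad

/-!
# Restriction of scalars for *injective resolutions along a homogeneous ring map (helper20)

For a homogeneous ring map `R → S` of Noetherian graded rings, a *injective resolution over `S`
restricts to a resolution by graded `R`-modules which are acyclic for `Γ_a`, as soon as `aS` and
`b` have the same radical for the ideal `b` of `S` under consideration.
-/

set_option autoImplicit false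

open DirectSum

namespace Groth.Agent.Helper20.GrInj

open Groth.Agent.Helper8

universe u

section Restr

variable {R : Type u} [CommRing R] {S : Type u} [CommRing S] [Algebra R S]
variable {𝒜 : ℤ → AddSubgroup R} [GradedRing 𝒜] {𝒜' : ℤ → AddSubgroup S} [GradedRing 𝒜']
variable (hf : ∀ (j : ℤ) (r : R), r ∈ 𝒜 j → algebraMap R S r ∈ 𝒜' j)

/-- restriction of scalars of a bundled graded module -/
noncomputable def restrGMod (X : GrLC.GMod.{u} 𝒜') : GrLC.GMod.{u} 𝒜 :=
  letI : Module R X.carrier := Module.compHom X.carrier (algebraMap R S)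
  { carrier := X.carrier
    gr := X.gr
    gsmul := ⟨fun {i j} {r} {x} hr hx => by
      show algebraMap R S r • x ∈ X.gr (i +ᵥ j)
      exact SetLike.GradedSMul.smul_mem (A := 𝒜') (hf i r hr) hx⟩ }

theorem restrGMod_smul (X : GrLC.GMod.{u} 𝒜') (r : R) (x : X.carrier) :
    ((r • (show (restrGMod hf X).carrier from x) : (restrGMod hf X).carrier)) =
      (show (restrGMod hf X).carrier from (algebraMap R S r • x)) := rfl

/-- restriction of scalars of a linear map -/
noncomputable def restrMap {X Y : GrLC.GMod.{u} 𝒜'} (φ : X.carrier →ₗ[S] Y.carrier) :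
    (restrGMod hf X).carrier →ₗ[R] (restrGMod hf Y).carrier where
  toFun := φ
  map_add' := φ.map_add
  map_smul' r x := φ.map_smul (algebraMap R S r) x

theorem restrMap_apply {X Y : GrLC.GMod.{u} 𝒜'} (φ : X.carrier →ₗ[S] Y.carrier)
    (x : X.carrier) : restrMap hf φ x = φ x := rfl

variable {N : Type u} [AddCommGroup N] [Module S N] [Module R N] [IsScalarTower R S N]
  {𝒩 : ℤ → AddSubgroup N} [DirectSum.Decomposition 𝒩] [SetLike.GradedSMul 𝒜' 𝒩]
  [SetLike.GradedSMul 𝒜 𝒩]

/-- restriction of scalars of a *injective resolution: a resolution by graded modules -/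
noncomputable def restrRes (E' : GrLC.StarInjRes 𝒜' 𝒩) : GRes 𝒜 𝒩 where
  X n := restrGMod hf (E'.X n)
  d n := restrMap hf (E'.d n)
  ε :=
    { toFun := E'.ε
      map_add' := E'.ε.map_add
      map_smul' := fun r x => by
        show E'.ε (r • x) = algebraMap R S r • E'.ε x
        rw [← algebraMap_smul S r x, map_smul] }
  d_grHom n := E'.d_grHom n
  ε_grHom := E'.ε_grHom
  ε_injective := E'.ε_injective
  exact_zero := by
    ext x
    have h := E'.exact_zero
    constructor
    · intro hx
      have hx' : x ∈ LinearMap.ker (E'.d 0) := hx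
      rw [h] at hx'
      obtain ⟨y, hy⟩ := hx'
      exact ⟨y, hy⟩
    · rintro ⟨y, hy⟩
      have hx' : x ∈ LinearMap.range E'.ε := ⟨y, hy⟩
      rw [← h] at hx'
      exact hx'
  exact_succ n := by
    ext x
    have h := E'.exact_succ n
    constructor
    · intro hx
      have hx' : x ∈ LinearMap.ker (E'.d (n + 1)) := hx
      rw [h] at hx'
      obtain ⟨y, hy⟩ := hx'
      exact ⟨y, hy⟩
    · rintro ⟨y, hy⟩
      have hx' : x ∈ LinearMap.range (E'.d n) := ⟨y, hy⟩
      rw [← h] at hx'
      exact hx'

variable [IsNoetherianRing R] [IsNoetherianRing S]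

/-- the terms of the restricted resolution are acyclic -/
theorem restrRes_acyclic (E' : GrLC.StarInjRes 𝒜' 𝒩) (a : HomogeneousIdeal 𝒜)
    (b : HomogeneousIdeal 𝒜')
    (hrad : (a.toIdeal.map (algebraMap R S)).radical = b.toIdeal.radical) (n j : ℕ) :
    Subsingleton (LC.H a.toIdeal (j + 1) ((restrRes hf E').X n).carrier) := by
  letI : Module R (E'.X n).carrier := Module.compHom (E'.X n).carrier (algebraMap R S)
  haveI : IsScalarTower R S (E'.X n).carrier :=
    ⟨fun r s x => by
      show (r • s) • x = algebraMap R S r • s • x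
      rw [Algebra.smul_def, mul_smul]⟩
  let X : LC.BMod R S := { carrier := (E'.X n).carrier }
  obtain ⟨e⟩ := LC.exists_equiv_base a.toIdeal (j + 1) X
  have h1 : Subsingleton (LC.H b.toIdeal (j + 1) (E'.X n).carrier) := X_acyclic E' b n j
  have h2 : Subsingleton (LC.H (a.toIdeal.map (algebraMap R S)) (j + 1) (E'.X n).carrier) :=
    LC.H_subsingleton_of_radical_eq hrad (j + 1) _ h1
  haveI : Subsingleton (LC.HA a.toIdeal (j + 1) X) := h2
  exact e.symm.toEquiv.subsingleton

end Restr

end Groth.Agent.Helper20.GrInj
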