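import Mathlib
import Groth.Agent.Lib.Helper20.GrLD6
import Groth.Agent.Lib.Helper20.GrVer8

/-!
# Graded local cohomology is independent of the base (helper20)

For a homogeneous ring map `R → S` of Noetherian graded rings and a module `N` graded over both,
`*H^i_a(N)` over `R` and `*H^i_b(N)` over `S` are identified by a semilinear degree preserving
bijection as soon as `aS` and `b` have the same radical.
-/

set_option autoImplicit false

open DirectSum

namespace Groth.Agent.Helper20.GrInj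

open Groth.Agent.Helper8

universe u

section Restr

variable {R : Type u} [CommRing R] {S : Type u} [CommRing S] [Algebra R S]
variable {𝒜 : ℤ → AddSubgroup R} [GradedRing 𝒜] {𝒜' : ℤ → AddSubgroup S} [GradedRing 𝒜']
variable (hf : ∀ (j : ℤ) (r : R), r ∈ 𝒜 j → algebraMap R S r ∈ 𝒜' j)
variable {N : Type u} [AddCommGroup N] [Module S N] [Module R N] [IsScalarTower R S N]
  {𝒩 : ℤ → AddSubgroup N} [DirectSum.Decomposition 𝒩] [SetLike.GradedSMul 𝒜' 𝒩]
  [SetLike.GradedSMul 𝒜 𝒩]
variable (E' : GrLC.StarInjRes 𝒜' 𝒩) (a : HomogeneousIdeal 𝒜) (b : HomogeneousIdeal 𝒜')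
  (hrad : (a.toIdeal.map (algebraMap R S)).radical = b.toIdeal.radical)
variable [IsNoetherianRing R] [IsNoetherianRing S]

include hrad in
theorem restr_mem_gam_iff (n : ℕ) (x : (E'.X n).carrier) :
    (show ((restrRes hf E').X n).carrier from x) ∈
        LC.gam a.toIdeal ((restrRes hf E').X n).carrier ↔
      x ∈ GrLC.gam b.toIdeal (E'.X n).carrier := by
  letI : Module R (E'.X n).carrier := Module.compHom (E'.X n).carrier (algebraMap R S)
  haveI : IsScalarTower R S (E'.X n).carrier :=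
    ⟨fun r s x => by
      show (r • s) • x = algebraMap R S r • s • x
      rw [Algebra.smul_def, mul_smul]⟩
  let X : LC.BMod R S := { carrier := (E'.X n).carrier }
  have h1 := LC.mem_gam_map_iff a.toIdeal X x
  have h2 := LC.gam_eq_of_radical_eq hrad (E'.X n).carrier
  rw [← mem_LCgam_iff, ← h2]
  exact h1.symm

/-- the identity on cocycles -/
noncomputable def restrCocycMap (p : ℕ) :
    ↥((restrRes hf E').toARes.cocyc a.toIdeal p) →ₛₗ[algebraMap R S] ↥(E'.cocyc b p) where
  toFun z := ⟨z.1, ⟨(restr_mem_gam_iff hf E' a b hrad p z.1).1 z.2.1, z.2.2⟩⟩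
  map_add' _ _ := Subtype.ext rfl
  map_smul' _ _ := Subtype.ext rfl

theorem restrCocycMap_coe (p : ℕ) (z : ↥((restrRes hf E').toARes.cocyc a.toIdeal p)) :
    ((restrCocycMap hf E' a b hrad p z : ↥(E'.cocyc b p)) : (E'.X p).carrier) = z.1 := rfl

include hrad in
theorem restr_cobdy_iff (p : ℕ) (x : (E'.X p).carrier) :
    (show ((restrRes hf E').X p).carrier from x) ∈ (restrRes hf E').toARes.cobdy a.toIdeal p ↔
      x ∈ E'.cobdy b p := by
  cases p with
  | zero =>
    constructor
    · intro h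
      have h0 : (show ((restrRes hf E').X 0).carrier from x) = 0 := (Submodule.mem_bot R).1 h
      have h0' : x = 0 := h0
      rw [h0']; exact Submodule.zero_mem _
    · intro h
      have h0 : x = 0 := (Submodule.mem_bot S).1 h
      rw [h0]; exact Submodule.zero_mem ((restrRes hf E').toARes.cobdy a.toIdeal 0)
  | succ n =>
    constructor
    · rintro ⟨w, hw, hwz⟩
      exact ⟨w, (restr_mem_gam_iff hf E' a b hrad n w).1 hw, hwz⟩
    · rintro ⟨w, hw, hwz⟩
      exact ⟨w, (restr_mem_gam_iff hf E' a b hrad n w).2 hw, hwz⟩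

theorem restrCocycMap_cobdy (p : ℕ) :
    ((restrRes hf E').toARes.cobdy a.toIdeal p).comap
      ((restrRes hf E').toARes.cocyc a.toIdeal p).subtype ≤
    LinearMap.ker ((E'.toH b p).comp (restrCocycMap hf E' a b hrad p)) := by
  intro z hz
  rw [Submodule.mem_comap] at hz
  rw [LinearMap.mem_ker, LinearMap.comp_apply]
  show E'.toH b p _ = 0
  rw [Submodule.mkQ_apply, Submodule.Quotient.mk_eq_zero, Submodule.mem_comap]
  exact (restr_cobdy_iff hf E' a b hrad p z.1).1 hz

/-- the comparison map -/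
noncomputable def restrTheta (p : ℕ) :
    (restrRes hf E').toARes.H a.toIdeal p →ₛₗ[algebraMap R S] E'.H b p :=
  Submodule.liftQ _ ((E'.toH b p).comp (restrCocycMap hf E' a b hrad p))
    (restrCocycMap_cobdy hf E' a b hrad p)

theorem restrTheta_mk (p : ℕ) (z : ↥((restrRes hf E').toARes.cocyc a.toIdeal p)) :
    restrTheta hf E' a b hrad p (Submodule.Quotient.mk z) =
      E'.toH b p (restrCocycMap hf E' a b hrad p z) := rfl

theorem restrTheta_injective (p : ℕ) : Function.Injective (restrTheta hf E' a b hrad p) := by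
  rw [injective_iff_map_eq_zero]
  intro w hw
  obtain ⟨z, rfl⟩ := Submodule.Quotient.mk_surjective _ w
  rw [restrTheta_mk] at hw
  have h1 : ((restrCocycMap hf E' a b hrad p z : ↥(E'.cocyc b p)) : (E'.X p).carrier) ∈
      E'.cobdy b p := by
    have := (Submodule.Quotient.mk_eq_zero _).1 hw
    exact this
  rw [restrCocycMap_coe] at h1
  rw [Submodule.Quotient.mk_eq_zero, Submodule.mem_comap]
  exact (restr_cobdy_iff hf E' a b hrad p z.1).2 h1

theorem exists_restrTheta_eq (p : ℕ) (g : ℤ) (u : E'.H b p) (hu : u ∈ E'.Hgr b p g) :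
    ∃ w ∈ (restrRes hf E').Hgr a p g, restrTheta hf E' a b hrad p w = u := by
  obtain ⟨z₀, hz₀, rfl⟩ := hu
  let z : ↥((restrRes hf E').toARes.cocyc a.toIdeal p) :=
    ⟨z₀.1, ⟨(restr_mem_gam_iff hf E' a b hrad p z₀.1).2 z₀.2.1, z₀.2.2⟩⟩
  refine ⟨Submodule.Quotient.mk z, ⟨z, hz₀, rfl⟩, ?_⟩
  rw [restrTheta_mk]
  congr 1

theorem restrTheta_surjective (p : ℕ) : Function.Surjective (restrTheta hf E' a b hrad p) := by
  intro u
  obtain ⟨z₀, rfl⟩ := Submodule.Quotient.mk_surjective _ u
  let z : ↥((restrRes hf E').toARes.cocyc a.toIdeal p) :=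
    ⟨z₀.1, ⟨(restr_mem_gam_iff hf E' a b hrad p z₀.1).2 z₀.2.1, z₀.2.2⟩⟩
  refine ⟨Submodule.Quotient.mk z, ?_⟩
  rw [restrTheta_mk]
  congr 1

theorem restrTheta_mem_iff (p : ℕ) (g : ℤ) (w : (restrRes hf E').toARes.H a.toIdeal p) :
    w ∈ (restrRes hf E').Hgr a p g ↔ restrTheta hf E' a b hrad p w ∈ E'.Hgr b p g := by
  constructor
  · rintro ⟨z, hz, rfl⟩
    exact ⟨restrCocycMap hf E' a b hrad p z, hz, rfl⟩
  · intro hw
    obtain ⟨w', hw', he⟩ := exists_restrTheta_eq hf E' a b hrad p g _ hw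
    rw [← restrTheta_injective hf E' a b hrad p he]
    exact hw'

include hf hrad in
/-- **independence of the base for graded local cohomology** -/
theorem exists_semilinear_equiv_of_radical_eq (E : GrLC.StarInjRes 𝒜 𝒩) (i : ℕ) :
    ∃ Θ : E.H a i ≃+ E'.H b i, (∀ (r : R) (x : E.H a i), Θ (r • x) = algebraMap R S r • Θ x) ∧
      ∀ (g : ℤ) (x : E.H a i), x ∈ E.Hgr a i g ↔ Θ x ∈ E'.Hgr b i g := by
  obtain ⟨ψ, hψ⟩ := GRes.exists_equiv_of_acyclic (restrRes hf E') E a
    (fun n j => restrRes_acyclic hf E' a b hrad n j) i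
  let Θ₀ : (restrRes hf E').toARes.H a.toIdeal i ≃+ E'.H b i :=
    AddEquiv.ofBijective (restrTheta hf E' a b hrad i).toAddMonoidHom
      ⟨restrTheta_injective hf E' a b hrad i, restrTheta_surjective hf E' a b hrad i⟩
  refine ⟨ψ.symm.toAddEquiv.trans Θ₀, fun r x => ?_, fun g x => ?_⟩
  · show restrTheta hf E' a b hrad i (ψ.symm (r • x)) = _
    rw [map_smul, LinearMap.map_smulₛₗ]
    rfl
  · show _ ↔ restrTheta hf E' a b hrad i (ψ.symm x) ∈ _
    rw [← restrTheta_mem_iff, hψ g (ψ.symm x), LinearEquiv.apply_symm_apply]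

end Restr

end Groth.Agent.Helper20.GrInj
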