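import Mathlib
import Groth.Agent.Lib.Helper20.GrLD7
import Groth.Agent.Lib.Helper20.GrMat5

/-!
# Transport of graded duality pairings along a finite homogeneous ring map (helper20)

For a homogeneous ring map `R → S` of graded rings which is bijective in degree zero (with `R_0` a
field), a graded duality pairing over `S` can be read as a graded duality pairing over `R`.  Also:
if `S` is integral over `R` the irrelevant ideal of `R` generates an ideal of `S` with the same
radical as the irrelevant ideal of `S`.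
-/

set_option autoImplicit false

open DirectSum

namespace Groth.Agent.Helper20.GrInj

universe u

section Base

variable {R : Type u} [CommRing R] {S : Type u} [CommRing S] [Algebra R S]
variable {𝒜 : ℤ → AddSubgroup R} [GradedRing 𝒜] {𝒜' : ℤ → AddSubgroup S} [GradedRing 𝒜']
variable (hf : ∀ (j : ℤ) (r : R), r ∈ 𝒜 j → algebraMap R S r ∈ 𝒜' j)

include hf in
/-- `S` is a graded `R`-module -/
theorem gradedSMul_of_algebra : SetLike.GradedSMul 𝒜 𝒜' :=
  ⟨fun {i j} {r} {s} hr hs => by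
    rw [Algebra.smul_def, vadd_eq_add]
    exact SetLike.GradedMul.mul_mem (hf i r hr) hs⟩

include hf in
/-- a graded `S`-module is a graded `R`-module -/
theorem gradedSMul_restrict {C' : Type u} [AddCommGroup C'] [Module S C'] [Module R C']
    [IsScalarTower R S C'] (𝒞' : ℤ → AddSubgroup C') [SetLike.GradedSMul 𝒜' 𝒞'] :
    SetLike.GradedSMul 𝒜 𝒞' :=
  ⟨fun {i j} {r} {c} hr hc => by
    rw [← algebraMap_smul S r c]
    exact SetLike.GradedSMul.smul_mem (A := 𝒜') (hf i r hr) hc⟩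

variable (h0 : IsField (GrLC.deg0 𝒜)) [Nontrivial S]

include h0 in
theorem eq_zero_of_algebraMap_eq_zero {r : R} (hr : r ∈ 𝒜 0) (h : algebraMap R S r = 0) :
    r = 0 := by
  by_contra hne
  have hne' : (⟨r, hr⟩ : GrLC.deg0 𝒜) ≠ 0 := fun h' => hne (congrArg Subtype.val h')
  obtain ⟨b, hb⟩ := h0.mul_inv_cancel hne'
  have h1 : r * (b : R) = 1 := congrArg Subtype.val hb
  have h2 : algebraMap R S r * algebraMap R S (b : R) = 1 := by
    rw [← map_mul, h1, map_one]
  rw [h, zero_mul] at h2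
  exact zero_ne_one h2

variable (𝒜) in
open Classical in
/-- the inverse of `R_0 → S_0` (extended by zero) -/
noncomputable def sigma0 (s : S) : R :=
  if h : ∃ r ∈ 𝒜 0, algebraMap R S r = s then h.choose else 0

omit [Nontrivial S] in
theorem sigma0_mem (s : S) : sigma0 𝒜 s ∈ 𝒜 0 := by
  unfold sigma0
  split_ifs with h
  · exact h.choose_spec.1
  · exact zero_mem _

include h0 in
theorem sigma0_algebraMap {r : R} (hr : r ∈ 𝒜 0) : sigma0 𝒜 (algebraMap R S r) = r := by
  have h : ∃ r' ∈ 𝒜 0, algebraMap R S r' = algebraMap R S r := ⟨r, hr, rfl⟩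
  have h1 : sigma0 𝒜 (algebraMap R S r) = h.choose := by
    unfold sigma0
    rw [dif_pos h]
  have h2 : algebraMap R S (h.choose - r) = 0 := by
    rw [map_sub, h.choose_spec.2, sub_self]
  have h3 := eq_zero_of_algebraMap_eq_zero h0 (sub_mem h.choose_spec.1 hr) h2
  rw [h1]
  exact sub_eq_zero.1 h3

variable (hf0 : ∀ s ∈ 𝒜' 0, ∃ r ∈ 𝒜 0, algebraMap R S r = s)

include h0 hf0 in
theorem algebraMap_sigma0 {s : S} (hs : s ∈ 𝒜' 0) : algebraMap R S (sigma0 𝒜 s) = s := by
  obtain ⟨r, hr, rfl⟩ := hf0 s hs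
  rw [sigma0_algebraMap h0 hr]

include h0 hf0 in
theorem sigma0_add {s s' : S} (hs : s ∈ 𝒜' 0) (hs' : s' ∈ 𝒜' 0) :
    sigma0 𝒜 (s + s') = sigma0 𝒜 s + sigma0 𝒜 s' := by
  obtain ⟨r, hr, rfl⟩ := hf0 s hs
  obtain ⟨r', hr', rfl⟩ := hf0 s' hs'
  rw [← map_add, sigma0_algebraMap h0 hr, sigma0_algebraMap h0 hr',
    sigma0_algebraMap h0 (add_mem hr hr')]

include h0 hf0 in
theorem sigma0_mul {r : R} (hr : r ∈ 𝒜 0) {s : S} (hs : s ∈ 𝒜' 0) :
    sigma0 𝒜 (algebraMap R S r * s) = r * sigma0 𝒜 s := by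
  obtain ⟨r', hr', rfl⟩ := hf0 s hs
  have h00 : r * r' ∈ 𝒜 0 := by
    have := SetLike.GradedMul.mul_mem hr hr'
    rwa [add_zero] at this
  rw [← map_mul, sigma0_algebraMap h0 hr', sigma0_algebraMap h0 h00]

include h0 hf0 in
theorem eq_zero_of_sigma0_eq_zero {s : S} (hs : s ∈ 𝒜' 0) (h : sigma0 𝒜 s = 0) : s = 0 := by
  rw [← algebraMap_sigma0 h0 hf0 hs, h, map_zero]

/-- **transport of a graded duality pairing** along `R → S` -/
noncomputable def GrPairing.restrictBase {C' : Type u} [AddCommGroup C'] [Module S C']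
    [Module R C'] [IsScalarTower R S C'] {𝒞' : ℤ → AddSubgroup C'}
    {H : Type u} [AddCommGroup H] [Module R H] {ℋ : ℤ → AddSubgroup H}
    {H' : Type u} [AddCommGroup H'] [Module S H'] {ℋ' : ℤ → AddSubgroup H'}
    (PS : GrPairing 𝒜' 𝒞' ℋ') (Θ : H ≃+ H')
    (hΘ : ∀ (r : R) (x : H), Θ (r • x) = algebraMap R S r • Θ x)
    (hΘgr : ∀ (g : ℤ) (x : H), x ∈ ℋ g ↔ Θ x ∈ ℋ' g) : GrPairing 𝒜 𝒞' ℋ where
  β c h := sigma0 𝒜 (PS.β c (Θ h))
  mem c h := sigma0_mem _
  add_left c c' h := by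
    rw [PS.add_left, sigma0_add h0 hf0 (PS.mem _ _) (PS.mem _ _)]
  add_right c h h' := by
    rw [map_add, PS.add_right, sigma0_add h0 hf0 (PS.mem _ _) (PS.mem _ _)]
  smul_left r c h := by
    rw [← algebraMap_smul S r c, PS.smul_left, hΘ]
  smul_right s hs c h := by
    rw [hΘ, PS.smul_right _ (hf 0 s hs), sigma0_mul h0 hf0 hs (PS.mem _ _)]
  nondeg j c hc hall := by
    apply PS.nondeg j c hc
    intro h' hh'
    have h1 : Θ.symm h' ∈ ℋ (-j) := by
      rw [hΘgr, AddEquiv.apply_symm_apply]; exact hh'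
    have h2 := hall _ h1
    rw [AddEquiv.apply_symm_apply] at h2
    exact eq_zero_of_sigma0_eq_zero h0 hf0 (PS.mem _ _) h2
  repr j ℓ hℓmem hℓadd hℓsmul := by
    have hsymm : ∀ h' ∈ ℋ' (-j), Θ.symm h' ∈ ℋ (-j) := by
      intro h' hh'
      rw [hΘgr, AddEquiv.apply_symm_apply]; exact hh'
    obtain ⟨c, hc, hcℓ⟩ := PS.repr j (fun h' => algebraMap R S (ℓ (Θ.symm h')))
      (fun h' hh' => hf 0 _ (hℓmem _ (hsymm h' hh')))
      (fun h' hh' h'' hh'' => by
        show algebraMap R S (ℓ (Θ.symm (h' + h''))) = _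
        rw [map_add, hℓadd _ (hsymm h' hh') _ (hsymm h'' hh''), map_add])
      (fun s hs h' hh' => by
        obtain ⟨r, hr, rfl⟩ := hf0 s hs
        show algebraMap R S (ℓ (Θ.symm (algebraMap R S r • h'))) = _
        have h1 : Θ.symm (algebraMap R S r • h') = r • Θ.symm h' := by
          apply Θ.injective
          rw [hΘ, AddEquiv.apply_symm_apply, AddEquiv.apply_symm_apply]
        rw [h1, hℓsmul r hr _ (hsymm h' hh'), map_mul])
    refine ⟨c, hc, fun h hh => ?_⟩
    show sigma0 𝒜 (PS.β c (Θ h)) = ℓ h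
    rw [hcℓ (Θ h) ((hΘgr _ _).1 hh)]
    show sigma0 𝒜 (algebraMap R S (ℓ (Θ.symm (Θ h)))) = ℓ h
    rw [AddEquiv.symm_apply_apply, sigma0_algebraMap h0 (hℓmem h hh)]

end Base

section Radical

variable {R : Type u} [CommRing R] {S : Type u} [CommRing S] [Algebra R S]
variable {𝒜 : ℤ → AddSubgroup R} [GradedRing 𝒜] {𝒜' : ℤ → AddSubgroup S} [GradedRing 𝒜']
variable (hf : ∀ (j : ℤ) (r : R), r ∈ 𝒜 j → algebraMap R S r ∈ 𝒜' j)

include hf in
theorem decompose_algebraMap (c : R) (k : ℤ) :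
    (decompose 𝒜' (algebraMap R S c) k : S) = algebraMap R S (decompose 𝒜 c k) :=
  decompose_map 𝒜 𝒜' (f := Algebra.linearMap R S) (fun j r hr => hf j r hr) c k

include hf in
/-- a homogeneous element of positive degree of `S`, integral over `R`, has a power in the
extension of the irrelevant ideal of `R` -/
theorem exists_pow_mem_map_of_isIntegral {s : S} {j : ℤ} (hj : 0 < j) (hs : s ∈ 𝒜' j)
    (hint : IsIntegral R s) :
    ∃ d : ℕ, s ^ d ∈ (Ideal.span (⋃ n ∈ Set.Ioi (0 : ℤ), (𝒜 n : Set R))).map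
      (algebraMap R S) := by
  obtain ⟨p, hp, hps⟩ := hint
  set J := (Ideal.span (⋃ n ∈ Set.Ioi (0 : ℤ), (𝒜 n : Set R))).map (algebraMap R S) with hJ
  set d := p.natDegree with hd
  refine ⟨d, ?_⟩
  rw [Polynomial.eval₂_eq_sum_range, Finset.sum_range_succ] at hps
  have hterm : ∀ i : ℕ, i ≤ d →
      (decompose 𝒜' (algebraMap R S (p.coeff i) * s ^ i) ((d : ℤ) * j) : S) =
        algebraMap R S (decompose 𝒜 (p.coeff i) (((d - i : ℕ) : ℤ) * j)) * s ^ i := by
    intro i hi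
    have hsi : s ^ i ∈ 𝒜' (i • j) := SetLike.pow_mem_graded i hs
    have hdeg : (d : ℤ) * j = ((d - i : ℕ) : ℤ) * j + i • j := by
      rw [nsmul_eq_mul, ← add_mul]
      congr 1
      push_cast [Nat.cast_sub hi]
      ring
    rw [hdeg, DirectSum.coe_decompose_mul_add_of_right_mem 𝒜' hsi, decompose_algebraMap hf]
  have h1 := congrArg (fun x => (decompose 𝒜' x ((d : ℤ) * j) : S)) hps
  simp only [decompose_add, DirectSum.add_apply, AddSubgroup.coe_add, decompose_zero,
    DirectSum.zero_apply, ZeroMemClass.coe_zero] at h1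
  rw [hterm d le_rfl, Nat.sub_self, Nat.cast_zero, zero_mul] at h1
  have hlead : p.coeff d = 1 := hp
  rw [hlead, decompose_of_mem_same 𝒜 (SetLike.GradedOne.one_mem : (1 : R) ∈ 𝒜 0), map_one,
    one_mul] at h1
  have h2 : s ^ d = -(decompose 𝒜' (∑ x ∈ Finset.range d, algebraMap R S (p.coeff x) * s ^ x)
      ((d : ℤ) * j) : S) := eq_neg_of_add_eq_zero_right h1
  rw [h2]
  apply neg_mem
  rw [decompose_sum, DirectSum.sum_apply, AddSubmonoidClass.coe_finsetSum]
  apply Ideal.sum_mem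
  intro i hi
  have hi' : i < d := Finset.mem_range.1 hi
  rw [hterm i hi'.le]
  apply Ideal.mul_mem_right
  apply Ideal.mem_map_of_mem
  apply Ideal.subset_span
  have hpos : (0 : ℤ) < ((d - i : ℕ) : ℤ) * j := by
    apply mul_pos _ hj
    have : 0 < d - i := Nat.sub_pos_of_lt hi'
    exact_mod_cast this
  exact Set.mem_biUnion (Set.mem_Ioi.2 hpos) (decompose 𝒜 (p.coeff i) _).2

include hf in
/-- the irrelevant ideals of `R` and of a finite graded `R`-algebra `S` have the same radical in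
`S` -/
theorem radical_map_irrelevant_eq [Algebra.IsIntegral R S] (m : HomogeneousIdeal 𝒜)
    (hmsp : m.toIdeal = Ideal.span (⋃ n ∈ Set.Ioi (0 : ℤ), (𝒜 n : Set R)))
    (m' : HomogeneousIdeal 𝒜')
    (hm'sp : m'.toIdeal = Ideal.span (⋃ n ∈ Set.Ioi (0 : ℤ), (𝒜' n : Set S))) :
    (m.toIdeal.map (algebraMap R S)).radical = m'.toIdeal.radical := by
  apply le_antisymm
  · apply Ideal.radical_mono
    rw [Ideal.map_le_iff_le_comap, hmsp, Ideal.span_le]
    intro r hr
    obtain ⟨n, hn, hrn⟩ := Set.mem_iUnion₂.1 hr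
    show algebraMap R S r ∈ m'.toIdeal
    rw [hm'sp]
    exact Ideal.subset_span (Set.mem_biUnion hn (hf n r hrn))
  · apply Ideal.radical_le_radical_iff.2
    rw [hm'sp, Ideal.span_le]
    intro s hs
    obtain ⟨j, hj, hsj⟩ := Set.mem_iUnion₂.1 hs
    obtain ⟨d, hd⟩ := exists_pow_mem_map_of_isIntegral hf (Set.mem_Ioi.1 hj) hsj
      (Algebra.IsIntegral.isIntegral s)
    rw [hmsp]
    exact ⟨d, hd⟩

end Radical

end Groth.Agent.Helper20.GrInj
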