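import Mathlib
import Groth.Agent.Lib.Helper20.GrGor6
import Groth.Agent.Lib.Helper20.GrShift
import Groth.Agent.Lib.Helper20.GrLocHull3
import Groth.Agent.Lib.Helper20.GrSoc1
import Groth.Agent.Lib.Helper20.Lau5
import Groth.Agent.Lib.Helper8.Gor5

/-!
# A Cohen–Macaulay *local ring is Gorenstein iff `H^n_m(R)` is *injective (helper20)
-/

set_option autoImplicit false

open DirectSum IsLocalRing CategoryTheory TensorProduct

namespace Groth.Agent.Helper20.GrNH

open Groth.Agent.Helper20.GrInj Groth.Agent.Helper20.GrBass Groth.Agent.Helper8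
  Groth.Agent.Helper8.LC Groth.Agent.Helper8.Gor

universe u

section LocLC

variable {R : Type u} [CommRing R] [IsNoetherianRing R] (m : Ideal R) [hm : m.IsPrime]

/-- local cohomology at a prime localizes -/
theorem nonempty_loc_H_equiv' (i : ℕ) :
    Nonempty (Localization.AtPrime m ⊗[R] H m i R ≃ₗ[Localization.AtPrime m]
      H (maximalIdeal (Localization.AtPrime m)) i (Localization.AtPrime m)) := by
  haveI : IsNoetherianRing (Localization.AtPrime m) :=
    IsLocalization.isNoetherianRing m.primeCompl _ inferInstance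
  haveI : Module.Flat R (Localization.AtPrime m) := IsLocalization.flat _ m.primeCompl
  obtain ⟨e1⟩ := exists_equiv_baseChange (R' := Localization.AtPrime m) m i ⟨R⟩
  have hmap : m.map (algebraMap R (Localization.AtPrime m)) =
      maximalIdeal (Localization.AtPrime m) := Localization.AtPrime.map_eq_maximalIdeal
  exact ⟨e1 ≪≫ₗ Hcongr _ i (TensorProduct.AlgebraTensorModule.rid R (Localization.AtPrime m)
    (Localization.AtPrime m)) ≪≫ₗ HcongrIdeal hmap i (Localization.AtPrime m)⟩

end LocLC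

section Main

variable {R : Type u} [CommRing R] [hCM : LocCoh.IsCohenMacaulayRing R]
variable (𝒜 : ℤ → AddSubgroup R) [GradedRing 𝒜] (m : HomogeneousIdeal 𝒜)
  (hm : GrLC.IsStarLocal 𝒜 m) (n : ℕ) (hn : m.toIdeal.height = n) (I : GrLC.StarInjRes 𝒜 𝒜)

include hm hn in
/-- if `H^n_m(R)` is *injective then `R` is Gorenstein -/
theorem isGorensteinRing_of_H_starInj (X : GrLC.GMod.{u} 𝒜) (φ : I.H m n ≃ₗ[R] X.carrier)
    (hX : GrLC.IsStarInj 𝒜 X.gr) : LocCoh.IsGorensteinRing R := by
  haveI hp : m.toIdeal.IsPrime := isPrime_of_isCoatom hm.1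
  haveI hCMA : LocCoh.IsCohenMacaulayLocalRing (Localization.AtPrime m.toIdeal) :=
    hCM.isCohenMacaulayLocalRing_localization m.toIdeal
  have hdim : ringKrullDim (Localization.AtPrime m.toIdeal) = n := by
    rw [IsLocalization.AtPrime.ringKrullDim_eq_height m.toIdeal, hn]
    rfl
  -- `X` is `m`-torsion
  have htors : ∀ x : X.carrier, ∃ t : ℕ, ∀ r ∈ m.toIdeal ^ t, r • x = 0 := by
    intro x
    obtain ⟨t, ht⟩ := exists_pow_smul_H_eq_zero I m n (φ.symm x)
    refine ⟨t, fun r hr => ?_⟩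
    have := ht r hr
    rw [← map_smul] at this
    exact (LinearEquiv.map_eq_zero_iff _).1 this
  have hinjX : Module.Injective (Localization.AtPrime m.toIdeal)
      (LocalizedModule m.toIdeal.primeCompl X.carrier) :=
    Groth.Agent.Helper20.GrLocHull.injective_localized m.toIdeal X.carrier htors
      (Groth.Agent.Helper20.GrLocHull.extM_of_starInj' 𝒜 m X.gr hX)
  -- the chain of isomorphisms
  obtain ⟨e1⟩ := nonempty_loc_H_equiv' m.toIdeal n
  obtain ⟨e2⟩ := nonempty_H_equiv_LC (a := m) I n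
  let e3 : LocalizedModule m.toIdeal.primeCompl X.carrier ≃ₗ[Localization.AtPrime m.toIdeal]
      LocalizedModule m.toIdeal.primeCompl (H m.toIdeal n R) :=
    IsLocalizedModule.mapEquiv m.toIdeal.primeCompl
      (LocalizedModule.mkLinearMap m.toIdeal.primeCompl X.carrier)
      (LocalizedModule.mkLinearMap m.toIdeal.primeCompl (H m.toIdeal n R))
      (Localization.AtPrime m.toIdeal) (φ.symm ≪≫ₗ e2)
  let e4 := LocalizedModule.equivTensorProduct m.toIdeal.primeCompl (H m.toIdeal n R)
  have hinj : Module.Injective (Localization.AtPrime m.toIdeal)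
      (H (maximalIdeal (Localization.AtPrime m.toIdeal)) n (Localization.AtPrime m.toIdeal)) :=
    Groth.Agent.Helper1.injective_of_linearEquiv (e3 ≪≫ₗ e4 ≪≫ₗ e1) hinjX
  exact Groth.Agent.Helper20.Lau.isGorensteinRing_of_isStarLocal 𝒜 m hm
    (isGorenstein_of_socle hdim (isSimpleModule_socle_of_injective hdim hinj))

include hm hn in
/-- **BH 3.6.?**: a Cohen–Macaulay *local ring is Gorenstein iff `H^n_m(R)` is *injective -/
theorem isGorensteinRing_iff_H_starInj :
    LocCoh.IsGorensteinRing R ↔ ∃ (X : GrLC.GMod.{u} 𝒜) (φ : I.H m n ≃ₗ[R] X.carrier),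
      GrLC.IsStarInj 𝒜 X.gr ∧ GrLC.IsGrHom (I.Hgr m n) X.gr φ.toLinearMap := by
  constructor
  · intro hG
    haveI := hG
    letI := (quotGr_isInternal 𝒜 m).chooseDecomposition
    haveI := quotGr_gradedSMul 𝒜 m
    obtain ⟨E, e, he⟩ := exists_starInjHull 𝒜 (GrLC.quotGr 𝒜 m)
    obtain ⟨g, φ, hφ⟩ := exists_top_H_equiv_hull R 𝒜 m hm n hn I E.carrier E.gr e he
    letI := (shiftGr_isInternal E.gr g).chooseDecomposition
    haveI := shiftGr_gradedSMul 𝒜 E.gr g
    refine ⟨shiftGMod 𝒜 E g, φ, shift_isStarInj 𝒜 E.gr he.starInj g, ?_⟩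
    intro j x hx
    exact hφ j x hx
  · rintro ⟨X, φ, hX, -⟩
    exact isGorensteinRing_of_H_starInj 𝒜 m hm n hn I X φ hX

end Main

end Groth.Agent.Helper20.GrNH
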