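import Mathlib
import Groth.Agent.Lib.Helper20.GrNH8
import Groth.Agent.Lib.Helper1.InjHullLib

/-!
# A *injective module is not injective iff some `p*` (`p` non-homogeneous) is associated (helper20)
-/

set_option autoImplicit false

open DirectSum IsLocalRing CategoryTheory

namespace Groth.Agent.Helper20.GrNH

open Groth.Agent.Helper20.GrInj Groth.Agent.Helper20.GrBass Groth.Agent.Helper8.LC

universe u

section Ass

variable {R : Type u} [CommRing R] [IsNoetherianRing R]
variable {X : Type u} [AddCommGroup X] [Module R X]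

/-- `q ∈ Ass(X)` iff `μ_0(q, X) ≠ 0` -/
theorem mem_associatedPrimes_iff_bassNum_zero_ne_zero (q : Ideal R) [hq : q.IsPrime] :
    q ∈ associatedPrimes R X ↔ GrLC.bassNum q X 0 ≠ 0 := by
  rw [AssociatedPrimes.mem_iff, isAssociatedPrime_iff, bassNum_zero, ne_eq,
    Module.length_eq_zero_iff, Submodule.subsingleton_iff_eq_bot]
  constructor
  · rintro ⟨-, x, hx⟩ hbot
    have hann : ∀ r : R, r ∈ q ↔ r • x = 0 := by
      intro r
      rw [hx, Submodule.mem_colon_singleton, Submodule.mem_bot]
    have h1 : LocalizedModule.mk x (1 : q.primeCompl) ∈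
        socle (Localization.AtPrime q) (LocalizedModule q.primeCompl X) :=
      mk_mem_socle_of_exists q x 1 ⟨1, fun h => (Ideal.ne_top_iff_one q).1 hq.ne_top h,
        fun r hr => by rw [one_smul]; exact (hann r).1 hr⟩
    rw [hbot, Submodule.mem_bot, mk_eq_zero_iff'] at h1
    obtain ⟨t, ht, htx⟩ := h1
    exact ht ((hann t).2 htx)
  · intro hne
    refine ⟨hq, ?_⟩
    rw [Submodule.eq_bot_iff] at hne
    push Not at hne
    obtain ⟨y, hy, hy0⟩ := hne
    induction y using LocalizedModule.induction_on with
    | h x s =>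
      obtain ⟨t, ht, htx⟩ := exists_of_mk_mem_socle q x s hy
      refine ⟨t • x, ?_⟩
      ext r
      rw [Submodule.mem_colon_singleton, Submodule.mem_bot]
      constructor
      · intro hr; exact htx r hr
      · intro hr
        by_contra hrq
        apply hy0
        rw [mk_eq_zero_iff']
        exact ⟨r * t, fun h => (hq.mem_or_mem h).elim hrq ht, by rw [mul_smul]; exact hr⟩

/-- `μ_{i+1}(p, X) = 0` for an injective module `X` -/
theorem bassNum_succ_eq_zero_of_injective (p : Ideal R) [hp : p.IsPrime]
    (hX : Module.Injective R X) (i : ℕ) : GrLC.bassNum p X (i + 1) = 0 := by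
  unfold GrLC.bassNum GrLC.bassNumLocal
  rw [Module.length_eq_zero_iff]
  haveI := hX
  haveI : Module.Injective (Localization.AtPrime p) (LocalizedModule p.primeCompl X) :=
    Module.injective_of_isLocalizedModule p.primeCompl
      (LocalizedModule.mkLinearMap p.primeCompl X)
  haveI : Injective (ModuleCat.of (Localization.AtPrime p) (LocalizedModule p.primeCompl X)) :=
    Module.injective_object_of_injective_module _ _
  exact ⟨fun a b => by rw [Abelian.Ext.eq_zero_of_injective a, Abelian.Ext.eq_zero_of_injective b]⟩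

/-- for an essential extension `f : X → Q` into an injective module, `μ_1(P, X) = μ_0(P, Q/X)` -/
theorem bassNum_one_eq_of_injectiveHull {Q : Type u} [AddCommGroup Q] [Module R Q]
    (f : X →ₗ[R] Q) (hf : InjHull.IsInjectiveHull f) (P : Ideal R) [hP : P.IsPrime] :
    GrLC.bassNum P X 1 = GrLC.bassNum P (Q ⧸ LinearMap.range f) 0 := by
  have hess := (Groth.Agent.Helper1.isEssentialInj_iff f).1 hf.toIsEssentialInj
  have hS : IsSES f (LinearMap.range f).mkQ := isSES_of_injective hess.1
  have hS' := isSES_localized P hS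
  have hess' : ∀ x : Q, x ≠ 0 → ∃ (r : R) (n : X), r • x = f n ∧ f n ≠ 0 := by
    intro x hx
    obtain ⟨r, ⟨n, hn⟩, hne⟩ := hess.2 x hx
    exact ⟨r, n, hn.symm, by rw [hn]; exact hne⟩
  unfold GrLC.bassNum
  refine bassNumLocal_succ_eq hS' (fun i => ?_) ?_ 0
  · have h := bassNum_succ_eq_zero_of_injective P hf.isInjective i
    unfold GrLC.bassNum GrLC.bassNumLocal at h
    exact Module.length_eq_zero_iff.1 h
  · intro φ
    apply LinearMap.ext
    intro y
    rw [LinearMap.comp_apply, LinearMap.zero_apply]
    have hsoc : φ y ∈ socle (Localization.AtPrime P) (LocalizedModule P.primeCompl Q) := by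
      intro r hr
      rw [← map_smul]
      have : r • y = 0 := by
        obtain ⟨a, rfl⟩ := residue_surjective y
        rw [Algebra.smul_def, ResidueField.algebraMap_eq, ← map_mul, residue_eq_zero_iff]
        exact Ideal.mul_mem_right _ _ hr
      rw [this, map_zero]
    obtain ⟨z, hz⟩ := socle_le_range_of_essential P f hess' (φ y) hsoc
    rw [← hz]
    exact hS'.exact.apply_apply_eq_zero z

end Ass

section Main

variable {R : Type u} [CommRing R] [IsNoetherianRing R]
variable (𝒜 : ℤ → AddSubgroup R) [GradedRing 𝒜]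
variable {X : Type u} [AddCommGroup X] [Module R X] (𝒳 : ℤ → AddSubgroup X)
  [DirectSum.Decomposition 𝒳] [SetLike.GradedSMul 𝒜 𝒳]

/-- **BH 3.6.5 (b)**: a *injective module is not injective iff `p*` is an associated prime for
some non-homogeneous prime `p` -/
theorem not_injective_iff (hX : GrLC.IsStarInj 𝒜 𝒳) :
    ¬ Module.Injective R X ↔ ∃ p : Ideal R, p.IsPrime ∧ ¬ Ideal.IsHomogeneous 𝒜 p ∧
      (Ideal.homogeneousCore 𝒜 p).toIdeal ∈ associatedPrimes R X := by
  constructor
  · intro hninj
    obtain ⟨Q, _, _, f, hf⟩ := Groth.Agent.Helper1.exists_injectiveHull (R := R) X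
    have hess := (Groth.Agent.Helper1.isEssentialInj_iff f).1 hf.toIsEssentialInj
    -- the cokernel is nonzero
    haveI hnt : Nontrivial (Q ⧸ LinearMap.range f) := by
      by_contra hnt
      rw [not_nontrivial_iff_subsingleton, Submodule.Quotient.subsingleton_iff] at hnt
      apply hninj
      have hsurj : Function.Surjective f := LinearMap.range_eq_top.1 hnt
      exact Groth.Agent.Helper1.injective_of_linearEquiv
        (LinearEquiv.ofBijective f ⟨hess.1, hsurj⟩).symm hf.isInjective
    obtain ⟨P, hP⟩ := associatedPrimes.nonempty R (Q ⧸ LinearMap.range f)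
    haveI hPprime : P.IsPrime := hP.isPrime
    have h1 : GrLC.bassNum P X 1 ≠ 0 := by
      rw [bassNum_one_eq_of_injectiveHull f hf P]
      exact (mem_associatedPrimes_iff_bassNum_zero_ne_zero P).1 hP
    have hnh : ¬ P.IsHomogeneous 𝒜 := by
      intro hhom
      apply h1
      have := GrBass.ext_localized_subsingleton_of_starInj 𝒜 𝒳 ⟨P, hhom⟩ hX 0
      unfold GrLC.bassNum GrLC.bassNumLocal
      rw [Module.length_eq_zero_iff]
      exact this
    haveI hq : (P.homogeneousCore 𝒜).toIdeal.IsPrime := Ideal.IsPrime.homogeneousCore hPprime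
    refine ⟨P, hPprime, hnh, ?_⟩
    rw [mem_associatedPrimes_iff_bassNum_zero_ne_zero,
      ← bassNum_one_eq_bassNum_zero_core 𝒜 𝒳 P hnh hX]
    exact h1
  · rintro ⟨p, hp, hnh, hass⟩ hinj
    haveI := hp
    haveI hq : (p.homogeneousCore 𝒜).toIdeal.IsPrime := Ideal.IsPrime.homogeneousCore hp
    have h1 := bassNum_one_eq_bassNum_zero_core 𝒜 𝒳 p hnh hX
    rw [bassNum_succ_eq_zero_of_injective p hinj 0] at h1
    exact (mem_associatedPrimes_iff_bassNum_zero_ne_zero _).1 hass h1.symm

end Main

end Groth.Agent.Helper20.GrNH
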