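import Mathlib
import Groth.Prelude
import Groth.Agent.Lib.Helper20.GA7
import Groth.Agent.Lib.Helper20.GrHt4
import Groth.Agent.Lib.Helper20.GrIrr2
import Groth.Agent.Lib.Lead.LocLoc
import Groth.Agent.Lib.Lead.FinRes1
import Groth.Agent.Lib.Helper9.Depth8

/-!
# Finitely generated graded modules over a *local ring: dimension and the Cohen–Macaulay property
can be tested at the *maximal ideal (helper20)
-/

open DirectSum

namespace Groth.Agent.Helper20.GrSM

open Groth.Agent.Helper20.GrInj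

universe u

section Core

variable {R : Type u} [CommRing R] {𝒜 : ℤ → AddSubgroup R} [GradedRing 𝒜]

/-- `ht (p / p*) ≤ 1` -/
theorem height_map_core_le_one (p : Ideal R) [hp : p.IsPrime] :
    (p.map (Ideal.Quotient.mk (p.homogeneousCore 𝒜).toIdeal)).height ≤ ((1 : ℕ) : ℕ∞) := by
  set P₀ := (p.homogeneousCore 𝒜).toIdeal with hP₀
  haveI hP₀prime : P₀.IsPrime := Ideal.IsPrime.homogeneousCore hp
  have hle : P₀ ≤ p := Ideal.toIdeal_homogeneousCore_le 𝒜 p
  haveI : (p.map (Ideal.Quotient.mk P₀)).IsPrime :=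
    Ideal.map_isPrime_of_surjective Ideal.Quotient.mk_surjective (by rw [Ideal.mk_ker]; exact hle)
  rw [Ideal.height_le_iff]
  intro Q hQ hQlt
  set q := Q.comap (Ideal.Quotient.mk P₀) with hq
  haveI : q.IsPrime := Ideal.comap_isPrime _ _
  have hP₀q : P₀ ≤ q := by
    intro x hx
    rw [hq, Ideal.mem_comap, Ideal.Quotient.eq_zero_iff_mem.2 hx]
    exact Q.zero_mem
  have h1 : (p.map (Ideal.Quotient.mk P₀)).comap (Ideal.Quotient.mk P₀) = p := by
    rw [Ideal.comap_map_of_surjective _ Ideal.Quotient.mk_surjective, ← RingHom.ker_eq_comap_bot,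
      Ideal.mk_ker]
    exact sup_eq_left.2 hle
  have hqp : q < p := by
    refine lt_of_le_of_ne ?_ ?_
    · rw [← h1]
      exact Ideal.comap_mono hQlt.le
    · intro heq
      apply hQlt.ne
      rw [← heq, hq, Ideal.map_comap_of_surjective _ Ideal.Quotient.mk_surjective]
  have hqeq : q = P₀ := by
    by_contra hne
    exact not_lt_lt_core (𝒜 := 𝒜) p q (lt_of_le_of_ne hP₀q (Ne.symm hne)) hqp
  have hQbot : Q = ⊥ := by
    rw [← Ideal.map_comap_of_surjective _ Ideal.Quotient.mk_surjective Q, ← hq, hqeq,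
      Ideal.map_quotient_self]
  rw [hQbot, Ideal.height_bot]
  exact_mod_cast zero_lt_one

end Core

section Supp

variable {R : Type u} [CommRing R] {𝒜 : ℤ → AddSubgroup R} [GradedRing 𝒜]
variable {X : Type u} [AddCommGroup X] [Module R X] (𝒳 : ℤ → AddSubgroup X)
  [DirectSum.Decomposition 𝒳] [SetLike.GradedSMul 𝒜 𝒳]

include 𝒳 in
theorem exists_homog_annihilator_le (p : Ideal R) [hp : p.IsPrime] (x : X)
    (hx : (R ∙ x).annihilator ≤ p) :
    ∃ (i : ℤ) (y : X), y ∈ 𝒳 i ∧ (R ∙ y).annihilator ≤ p := by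
  classical
  by_contra hcon
  push Not at hcon
  have h1 : ∀ i : ℤ, ∃ s : R, s ∉ p ∧ s • (decompose 𝒳 x i : X) = 0 := by
    intro i
    have := hcon i (decompose 𝒳 x i : X) (decompose 𝒳 x i).2
    rw [SetLike.not_le_iff_exists] at this
    obtain ⟨s, hs, hsp⟩ := this
    exact ⟨s, hsp, (Submodule.mem_annihilator_span_singleton _ _).1 hs⟩
  choose s hs1 hs2 using h1
  obtain ⟨F, hF⟩ : ∃ F : Finset ℤ, F = (decompose 𝒳 x).support := ⟨_, rfl⟩
  have hsum : ∑ i ∈ F, (decompose 𝒳 x i : X) = x := by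
    rw [hF]
    exact DirectSum.sum_support_decompose 𝒳 x
  have hS : ∏ i ∈ F, s i ∉ p := by
    intro h
    obtain ⟨i, _, hi⟩ := (Ideal.IsPrime.prod_mem_iff).1 h
    exact hs1 i hi
  apply hS
  apply hx
  rw [Submodule.mem_annihilator_span_singleton]
  rw [← hsum, Finset.smul_sum]
  apply Finset.sum_eq_zero
  intro i hi
  rw [← Finset.mul_prod_erase _ s hi, mul_comm, mul_smul, hs2 i, smul_zero]

include 𝒳 in
theorem core_mem_support (p : PrimeSpectrum R) (hp : p ∈ Module.support R X) :
    (⟨(p.asIdeal.homogeneousCore 𝒜).toIdeal, Ideal.IsPrime.homogeneousCore p.2⟩ :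
      PrimeSpectrum R) ∈ Module.support R X := by
  rw [Module.mem_support_iff_exists_annihilator] at hp ⊢
  obtain ⟨x, hx⟩ := hp
  haveI := p.2
  obtain ⟨i, y, hy, hyp⟩ := exists_homog_annihilator_le 𝒳 p.asIdeal x hx
  refine ⟨y, ?_⟩
  have hhom := annihilator_span_singleton_isHomogeneous_int 𝒜 𝒳 hy
  exact ((Ideal.homogeneousCore.gc 𝒜) (⟨_, hhom⟩ : HomogeneousIdeal 𝒜) p.asIdeal).1 hyp

include 𝒳 in
theorem starMax_mem_support [IsNoetherianRing R] [Nontrivial X] (m : HomogeneousIdeal 𝒜)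
    (hm : GrLC.IsStarLocal 𝒜 m) [hmp : m.toIdeal.IsPrime] :
    (⟨m.toIdeal, hmp⟩ : PrimeSpectrum R) ∈ Module.support R X := by
  classical
  obtain ⟨x, hx0⟩ := exists_ne (0 : X)
  obtain ⟨i, hi⟩ : ∃ i, (decompose 𝒳 x i : X) ≠ 0 := by
    by_contra hcon
    push Not at hcon
    apply hx0
    rw [← DirectSum.sum_support_decompose 𝒳 x]
    exact Finset.sum_eq_zero (fun i _ => hcon i)
  rw [Module.mem_support_iff_exists_annihilator]
  refine ⟨(decompose 𝒳 x i : X), ?_⟩
  have hhom := annihilator_span_singleton_isHomogeneous_int 𝒜 𝒳 (decompose 𝒳 x i).2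
  have hne : (⟨_, hhom⟩ : HomogeneousIdeal 𝒜) ≠ ⊤ := by
    intro h
    have h1 := congrArg HomogeneousIdeal.toIdeal h
    rw [HomogeneousIdeal.toIdeal_top] at h1
    have h2 : (1 : R) ∈ (R ∙ (decompose 𝒳 x i : X)).annihilator := by
      have : (1 : R) ∈ (⊤ : Ideal R) := trivial
      rw [← h1] at this
      exact this
    rw [Submodule.mem_annihilator_span_singleton, one_smul] at h2
    exact hi h2
  exact le_of_isStarLocal m hm ⟨_, hhom⟩ hne

end Supp

section Dim

variable {R : Type u} [CommRing R] [IsNoetherianRing R] {𝒜 : ℤ → AddSubgroup R} [GradedRing 𝒜]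
variable {X : Type u} [AddCommGroup X] [Module R X] [Module.Finite R X] (𝒳 : ℤ → AddSubgroup X)
  [DirectSum.Decomposition 𝒳] [SetLike.GradedSMul 𝒜 𝒳]

include 𝒳 in
/-- the local dimension at any prime of the support is at most that at the *maximal ideal -/
theorem supportDim_localizedModule_le_starMax (m : HomogeneousIdeal 𝒜)
    (hm : GrLC.IsStarLocal 𝒜 m) [hmp : m.toIdeal.IsPrime] (hmax : m.toIdeal.IsMaximal)
    (P : PrimeSpectrum R) (hP : P ∈ Module.support R X) :
    Module.supportDim (Localization.AtPrime P.asIdeal) (LocalizedModule P.asIdeal.primeCompl X) ≤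
      Module.supportDim (Localization.AtPrime m.toIdeal)
        (LocalizedModule m.toIdeal.primeCompl X) := by
  haveI : Nontrivial X := by
    by_contra h
    rw [not_nontrivial_iff_subsingleton] at h
    have : Module.support R X = ∅ := Module.support_eq_empty_iff.2 h
    rw [this] at hP
    exact hP
  haveI := P.2
  set p := P.asIdeal with hp
  haveI hcp : (p.homogeneousCore 𝒜).toIdeal.IsPrime := Ideal.IsPrime.homogeneousCore P.2
  have hcore_le_m : (p.homogeneousCore 𝒜).toIdeal ≤ m.toIdeal := by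
    apply le_of_isStarLocal m hm (p.homogeneousCore 𝒜)
    intro h
    apply hcp.ne_top
    rw [h, HomogeneousIdeal.toIdeal_top]
  by_cases hhom : (p.homogeneousCore 𝒜).toIdeal = p
  · have hle : p ≤ m.toIdeal := hhom ▸ hcore_le_m
    exact Groth.Agent.Lead.LocLoc.supportDim_localizedModule_le_of_le X p m.toIdeal hle
  · have hfin : (p.map (Ideal.Quotient.mk (p.homogeneousCore 𝒜).toIdeal)).height ≤
        ((1 : ℕ) : ℕ∞) := height_map_core_le_one (𝒜 := 𝒜) p
    obtain ⟨d, hd⟩ : ∃ d : ℕ, (p.map (Ideal.Quotient.mk (p.homogeneousCore 𝒜).toIdeal)).height = d :=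
      ENat.ne_top_iff_exists.1 (ne_top_of_le_ne_top (ENat.natCast_ne_top 1) hfin) |>.imp
        (fun d hd => hd.symm)
    have hd1 : d ≤ 1 := by
      rw [hd] at hfin
      exact_mod_cast hfin
    have hPnt : Nontrivial (LocalizedModule p.primeCompl X) := hP
    have h1 := Groth.Agent.Helper20.GA.supportDim_eq_supportDim_core_add R 𝒜 X p 𝒳 d hd hPnt
    rw [h1]
    -- the core is in the support and strictly below `m`
    have hcS := core_mem_support (𝒜 := 𝒜) 𝒳 P hP
    have hmS := starMax_mem_support (𝒜 := 𝒜) 𝒳 m hm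
    have hlt : (⟨⟨(p.homogeneousCore 𝒜).toIdeal, hcp⟩, hcS⟩ : Module.support R X) <
        ⟨⟨m.toIdeal, hmp⟩, hmS⟩ := by
      refine lt_of_le_of_ne hcore_le_m ?_
      intro heq
      have heq' : (p.homogeneousCore 𝒜).toIdeal = m.toIdeal :=
        congrArg (fun a : Module.support R X => a.1.asIdeal) heq
      apply hhom
      have hmp' : m.toIdeal ≤ p := heq' ▸ Ideal.toIdeal_homogeneousCore_le 𝒜 p
      have := hmax.eq_of_le P.2.ne_top hmp'
      rw [heq', this]
    have hht := Order.height_add_one_le hlt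
    rw [Groth.Agent.Lead.FinRes.supportDim_localizedModule_eq_height
        ⟨(p.homogeneousCore 𝒜).toIdeal, hcp⟩ hcS,
      Groth.Agent.Lead.FinRes.supportDim_localizedModule_eq_height ⟨m.toIdeal, hmp⟩ hmS]
    have h2 : ((Order.height (⟨⟨(p.homogeneousCore 𝒜).toIdeal, hcp⟩, hcS⟩ : Module.support R X) :
        ℕ∞) : WithBot ℕ∞) + ((d : ℕ) : WithBot ℕ∞) ≤
        ((Order.height (⟨⟨(p.homogeneousCore 𝒜).toIdeal, hcp⟩, hcS⟩ : Module.support R X) + 1 :
          ℕ∞) : WithBot ℕ∞) := by
      have : ((d : ℕ) : WithBot ℕ∞) ≤ ((1 : ℕ∞) : WithBot ℕ∞) := by exact_mod_cast hd1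
      rw [WithBot.coe_add]
      exact add_le_add le_rfl this
    exact h2.trans (WithBot.coe_le_coe.2 hht)

include 𝒳 in
/-- **`dim X = dim X_m`** for a finitely generated graded module over a *local ring with maximal
*maximal ideal -/
theorem supportDim_localizedModule_starMax (m : HomogeneousIdeal 𝒜)
    (hm : GrLC.IsStarLocal 𝒜 m) [hmp : m.toIdeal.IsPrime] (hmax : m.toIdeal.IsMaximal) :
    Module.supportDim (Localization.AtPrime m.toIdeal) (LocalizedModule m.toIdeal.primeCompl X) =
      Module.supportDim R X := by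
  rcases subsingleton_or_nontrivial X with hX | hX
  · rw [Module.supportDim_eq_bot_of_subsingleton, Module.supportDim_eq_bot_of_subsingleton]
  · have hmS := starMax_mem_support (𝒜 := 𝒜) 𝒳 m hm
    apply le_antisymm
    · rw [Groth.Agent.Lead.FinRes.supportDim_localizedModule_eq_height ⟨m.toIdeal, hmp⟩ hmS]
      exact Order.height_le_krullDim _
    · unfold Module.supportDim
      rw [Order.krullDim_eq_iSup_height]
      apply iSup_le
      rintro ⟨P, hP⟩
      rw [← Groth.Agent.Lead.FinRes.supportDim_localizedModule_eq_height P hP]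
      exact supportDim_localizedModule_le_starMax 𝒳 m hm hmax P hP

end Dim

end Groth.Agent.Helper20.GrSM
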