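import Mathlib
import Groth.Prelude
import Groth.Agent.Lib.Helper20.GrSM3
import Groth.Agent.Lib.Helper20.GrArt3
import Groth.Agent.Lib.Lead.Depth16
import Groth.Agent.Lib.Helper8.LCDepth
import Groth.Agent.Lib.Helper8.LCGNV2
import Groth.Agent.Lib.Helper8.LCGNV3
import Groth.Agent.Lib.Helper8.LCVanish

/-!
# The Cohen–Macaulay property of a finitely generated graded module over a *local ring, in terms
of local cohomology at the *maximal ideal (helper20)
-/

open DirectSum TensorProduct

namespace Groth.Agent.Helper20.GrSM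

open Groth.Agent.Helper20.GrInj Groth.Agent.Helper8

universe u

section Loc

variable {A : Type u} [CommRing A] [IsNoetherianRing A] (X : Type u) [AddCommGroup X] [Module A X]
  [Module.Finite A X]

/-- localizations of a Cohen–Macaulay localization of a module -/
theorem cmMod_localization_of_le (m q : Ideal A) [m.IsPrime] [q.IsPrime] (hqm : q ≤ m)
    (hG : LocCoh.IsCohenMacaulayModule (Localization.AtPrime m) (LocalizedModule m.primeCompl X)) :
    Subsingleton (LocalizedModule q.primeCompl X) ∨
      LocCoh.IsCohenMacaulayModule (Localization.AtPrime q) (LocalizedModule q.primeCompl X) := by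
  rcases subsingleton_or_nontrivial (LocalizedModule q.primeCompl X) with h | h
  · exact Or.inl h
  right
  have hdisj : Disjoint (m.primeCompl : Set A) (q : Set A) := by
    rw [Set.disjoint_left]
    intro x hx hxq
    exact hx (hqm hxq)
  haveI hprime : (q.map (algebraMap A (Localization.AtPrime m))).IsPrime :=
    IsLocalization.isPrime_of_isPrime_disjoint m.primeCompl _ q inferInstance hdisj
  have hcomap : (q.map (algebraMap A (Localization.AtPrime m))).comap
      (algebraMap A (Localization.AtPrime m)) = q :=
    IsLocalization.under_map_of_isPrime_disjoint m.primeCompl _ inferInstance hdisj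
  set P := q.map (algebraMap A (Localization.AtPrime m)) with hP
  haveI : Module.Finite (Localization.AtPrime m) (LocalizedModule m.primeCompl X) :=
    Module.Finite.of_isLocalizedModule m.primeCompl (LocalizedModule.mkLinearMap m.primeCompl X)
  obtain ⟨hd, hs⟩ := Groth.Agent.Lead.LocLoc.depth_supportDim_eq m P X
  haveI hcp : (P.comap (algebraMap A (Localization.AtPrime m))).IsPrime := Ideal.comap_isPrime _ _
  rw [Groth.Agent.Helper20.GA.depth_localized_congr X hcomap] at hd
  rw [Groth.Agent.Helper20.GA.supportDim_localized_congr X hcomap] at hs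
  have hnt : Nontrivial (LocalizedModule P.primeCompl (LocalizedModule m.primeCompl X)) := by
    rw [← Module.supportDim_ne_bot_iff_nontrivial (Localization.AtPrime P), hs,
      Module.supportDim_ne_bot_iff_nontrivial]
    exact h
  have hmem : (⟨P, hprime⟩ : PrimeSpectrum (Localization.AtPrime m)) ∈
      Module.support (Localization.AtPrime m) (LocalizedModule m.primeCompl X) := hnt
  have h1 := (Groth.Agent.Helper9.Depth.cm_localization hG ⟨P, hprime⟩ hmem).1
  unfold LocCoh.IsCohenMacaulayModule at h1 ⊢
  rw [← hs, ← hd]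
  exact h1

/-- the depth with respect to a maximal ideal is the depth of the localization -/
theorem idealDepth_eq_depth_of_isMaximal (m : Ideal A) [hmp : m.IsPrime] (hmax : m.IsMaximal) :
    LocCoh.idealDepth m X =
      LocCoh.depth (Localization.AtPrime m) (LocalizedModule m.primeCompl X) := by
  by_cases htop : m • (⊤ : Submodule A X) = ⊤
  · have h1 := Groth.Agent.Lead.Depth.idealDepth_le_depth_localizedModule m m le_rfl X
    rw [Groth.Agent.Lead.Depth.idealDepth_of_eq_top m X htop] at h1 ⊢
    exact (top_le_iff.1 h1).symm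
  · obtain ⟨p, hp1, hp2⟩ := Groth.Agent.Lead.Depth.exists_prime_depth_localizedModule_le m X htop
    have hpm : m = p.asIdeal := hmax.eq_of_le p.2.ne_top hp1
    haveI := p.2
    rw [← hp2]
    exact Groth.Agent.Helper20.GA.depth_localized_congr X hpm.symm

end Loc

section Graded

variable {R : Type u} [CommRing R] [IsNoetherianRing R] {𝒜 : ℤ → AddSubgroup R} [GradedRing 𝒜]
variable {X : Type u} [AddCommGroup X] [Module R X] [Module.Finite R X] (𝒳 : ℤ → AddSubgroup X)
  [DirectSum.Decomposition 𝒳] [SetLike.GradedSMul 𝒜 𝒳]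

include 𝒳 in
/-- the Cohen–Macaulay property at a prime follows from that at its homogeneous core -/
theorem cmMod_of_cmMod_core (p : Ideal R) [hp : p.IsPrime]
    [hc : (p.homogeneousCore 𝒜).toIdeal.IsPrime]
    (hG : Subsingleton (LocalizedModule (p.homogeneousCore 𝒜).toIdeal.primeCompl X) ∨
      LocCoh.IsCohenMacaulayModule (Localization.AtPrime (p.homogeneousCore 𝒜).toIdeal)
        (LocalizedModule (p.homogeneousCore 𝒜).toIdeal.primeCompl X)) :
    Subsingleton (LocalizedModule p.primeCompl X) ∨
      LocCoh.IsCohenMacaulayModule (Localization.AtPrime p) (LocalizedModule p.primeCompl X) := by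
  rcases subsingleton_or_nontrivial (LocalizedModule p.primeCompl X) with h | h
  · exact Or.inl h
  right
  have hfin : (p.map (Ideal.Quotient.mk (p.homogeneousCore 𝒜).toIdeal)).height ≤
      ((1 : ℕ) : ℕ∞) := height_map_core_le_one (𝒜 := 𝒜) p
  obtain ⟨d, hd⟩ : ∃ d : ℕ, (p.map (Ideal.Quotient.mk (p.homogeneousCore 𝒜).toIdeal)).height = d :=
    ENat.ne_top_iff_exists.1 (ne_top_of_le_ne_top (ENat.natCast_ne_top 1) hfin) |>.imp
      (fun d hd => hd.symm)
  have h1 := Groth.Agent.Helper20.GA.depth_eq_depth_core_add R 𝒜 X p 𝒳 d hd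
  have h2 := Groth.Agent.Helper20.GA.supportDim_eq_supportDim_core_add R 𝒜 X p 𝒳 d hd h
  rcases hG with hG | hG
  · exfalso
    have h3 : Module.supportDim (Localization.AtPrime (p.homogeneousCore 𝒜).toIdeal)
        (LocalizedModule (p.homogeneousCore 𝒜).toIdeal.primeCompl X) = ⊥ :=
      Module.supportDim_eq_bot_of_subsingleton _ _
    rw [h3, WithBot.bot_add] at h2
    exact (Module.supportDim_ne_bot_iff_nontrivial _ _).2 h h2
  · unfold LocCoh.IsCohenMacaulayModule at hG ⊢
    rw [h2, h1, hG]
    push_cast
    rfl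

include 𝒳 in
/-- **a finitely generated graded module over a *local ring which is Cohen–Macaulay at the
*maximal ideal is Cohen–Macaulay at every prime** -/
theorem cmMod_of_starMax (m : HomogeneousIdeal 𝒜) (hm : GrLC.IsStarLocal 𝒜 m)
    [hmp : m.toIdeal.IsPrime]
    (hG : LocCoh.IsCohenMacaulayModule (Localization.AtPrime m.toIdeal)
      (LocalizedModule m.toIdeal.primeCompl X)) (p : Ideal R) [hp : p.IsPrime] :
    Subsingleton (LocalizedModule p.primeCompl X) ∨
      LocCoh.IsCohenMacaulayModule (Localization.AtPrime p) (LocalizedModule p.primeCompl X) := by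
  haveI hq : (p.homogeneousCore 𝒜).toIdeal.IsPrime := Ideal.IsPrime.homogeneousCore hp
  have hle : (p.homogeneousCore 𝒜).toIdeal ≤ m.toIdeal := by
    apply le_of_isStarLocal m hm (p.homogeneousCore 𝒜)
    intro h
    apply hq.ne_top
    rw [h, HomogeneousIdeal.toIdeal_top]
  exact cmMod_of_cmMod_core 𝒳 p (cmMod_localization_of_le X m.toIdeal _ hle hG)

include 𝒳 in
/-- **the Cohen–Macaulay criterion** in terms of local cohomology at the *maximal ideal -/
theorem cm_iff_LC_subsingleton [Nontrivial X] (m : HomogeneousIdeal 𝒜)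
    (hm : GrLC.IsStarLocal 𝒜 m) [hmp : m.toIdeal.IsPrime] (hmax : m.toIdeal.IsMaximal)
    (D : ℕ) (hD : Module.supportDim R X = D) :
    (∀ (p : Ideal R) [p.IsPrime], Subsingleton (LocalizedModule p.primeCompl X) ∨
      LocCoh.IsCohenMacaulayModule (Localization.AtPrime p) (LocalizedModule p.primeCompl X)) ↔
      ∀ q : ℕ, q < D → Subsingleton (LC.H m.toIdeal q X) := by
  have hmS := starMax_mem_support (𝒜 := 𝒜) 𝒳 m hm
  haveI hnt : Nontrivial (LocalizedModule m.toIdeal.primeCompl X) := hmS
  have hdim := supportDim_localizedModule_starMax 𝒳 m hm hmax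
  rw [hD] at hdim
  have hdepth := idealDepth_eq_depth_of_isMaximal X m.toIdeal hmax
  haveI : Module.Finite (Localization.AtPrime m.toIdeal) (LocalizedModule m.toIdeal.primeCompl X) :=
    Module.Finite.of_isLocalizedModule m.toIdeal.primeCompl
      (LocalizedModule.mkLinearMap m.toIdeal.primeCompl X)
  constructor
  · intro hCM
    rcases hCM m.toIdeal with h | h
    · exact absurd h (not_subsingleton _)
    · unfold LocCoh.IsCohenMacaulayModule at h
      rw [hdim, ← hdepth] at h
      have h' : ((D : ℕ) : ℕ∞) = LocCoh.idealDepth m.toIdeal X := by exact_mod_cast h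
      exact (LC.le_idealDepth_iff_H' m.toIdeal D X).1 (le_of_eq h')
  · intro hvan p hp
    have h1 : ((D : ℕ) : ℕ∞) ≤ LocCoh.idealDepth m.toIdeal X :=
      (LC.le_idealDepth_iff_H' m.toIdeal D X).2 hvan
    rw [hdepth] at h1
    have h2 := Groth.Agent.Lead.Depth.depth_le_supportDim (R := Localization.AtPrime m.toIdeal)
      (LocalizedModule m.toIdeal.primeCompl X)
    rw [hdim] at h2
    have h3 : LocCoh.depth (Localization.AtPrime m.toIdeal)
        (LocalizedModule m.toIdeal.primeCompl X) = ((D : ℕ) : ℕ∞) := by
      apply le_antisymm _ h1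
      exact_mod_cast h2
    apply cmMod_of_starMax 𝒳 m hm
    unfold LocCoh.IsCohenMacaulayModule
    rw [hdim, h3]
    rfl

include 𝒳 in
/-- nonvanishing of the top local cohomology -/
theorem LC_nontrivial_top [Nontrivial X] (m : HomogeneousIdeal 𝒜)
    (hm : GrLC.IsStarLocal 𝒜 m) [hmp : m.toIdeal.IsPrime] (hmax : m.toIdeal.IsMaximal)
    (D : ℕ) (hD : Module.supportDim R X = D) : Nontrivial (LC.H m.toIdeal D X) := by
  have hdim := supportDim_localizedModule_starMax 𝒳 m hm hmax
  rw [hD] at hdim
  apply LC.nontrivial_H_of_localization m.toIdeal m.toIdeal D X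
  rw [Localization.AtPrime.map_eq_maximalIdeal]
  haveI : IsNoetherianRing (Localization.AtPrime m.toIdeal) :=
    IsLocalization.isNoetherianRing m.toIdeal.primeCompl _ inferInstance
  apply LC.nontrivial_H_of_supportDim_eq D
  rw [← hdim]
  exact Module.supportDim_eq_of_equiv
    (IsLocalizedModule.isBaseChange m.toIdeal.primeCompl (Localization.AtPrime m.toIdeal)
      (LocalizedModule.mkLinearMap m.toIdeal.primeCompl X)).equiv

/-- vanishing above the dimension -/
theorem LC_subsingleton_of_gt (a : Ideal R) (D : ℕ) (hD : Module.supportDim R X ≤ D) (q : ℕ)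
    (hq : D < q) : Subsingleton (LC.H a q X) := by
  apply LC.H_subsingleton_of_supportDim_lt
  refine lt_of_le_of_lt hD ?_
  exact_mod_cast hq

include 𝒳 in
/-- the dimension of a nonzero finitely generated graded module over a *local ring is finite -/
theorem exists_nat_supportDim [Nontrivial X] (m : HomogeneousIdeal 𝒜)
    (hm : GrLC.IsStarLocal 𝒜 m) [hmp : m.toIdeal.IsPrime] (hmax : m.toIdeal.IsMaximal) :
    ∃ D : ℕ, Module.supportDim R X = D := by
  have hmS := starMax_mem_support (𝒜 := 𝒜) 𝒳 m hm
  haveI hnt : Nontrivial (LocalizedModule m.toIdeal.primeCompl X) := hmS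
  have hdim := supportDim_localizedModule_starMax 𝒳 m hm hmax
  haveI : IsNoetherianRing (Localization.AtPrime m.toIdeal) :=
    IsLocalization.isNoetherianRing m.toIdeal.primeCompl _ inferInstance
  haveI : Module.Finite (Localization.AtPrime m.toIdeal) (LocalizedModule m.toIdeal.primeCompl X) :=
    Module.Finite.of_isLocalizedModule m.toIdeal.primeCompl
      (LocalizedModule.mkLinearMap m.toIdeal.primeCompl X)
  obtain ⟨D, hD⟩ := LC.exists_nat_supportDim_eq (R := Localization.AtPrime m.toIdeal)
    (LocalizedModule m.toIdeal.primeCompl X)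
  exact ⟨D, by rw [← hdim, hD]⟩

end Graded

end Groth.Agent.Helper20.GrSM
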