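import Mathlib
import Groth.Prelude
import Groth.Agent.Lib.Helper20.GrSM4
import Groth.Agent.Lib.Helper20.GrSeg34

/-!
# Dimension, depth and the Cohen–Macaulay property of a finitely generated graded module over a
graded algebra over a field, in terms of the pieces of its graded local cohomology (helper20)
-/

open DirectSum TensorProduct

namespace Groth.Agent.Helper20.GrSM

open Groth.Agent.Helper20.GrInj Groth.Agent.Helper8

universe u

variable {k : Type u} [Field k] {A : Type u} [CommRing A] [Algebra k A] [IsNoetherianRing A]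
  {𝒜 : ℤ → Submodule k A} [GradedAlgebra 𝒜]
  {X : Type u} [AddCommGroup X] [Module A X] [Module.Finite A X] {𝒳 : ℤ → AddSubgroup X}
  [DirectSum.Decomposition 𝒳] [SetLike.GradedSMul 𝒜 𝒳]
  (E : GrLC.StarInjRes 𝒜 𝒳) (m : HomogeneousIdeal 𝒜)

omit [IsNoetherianRing A] [Module.Finite A X] in
/-- a graded local cohomology module all of whose pieces vanish is zero -/
theorem H_subsingleton_of_Hcomp (q : ℕ) (h : ∀ n : ℤ, E.Hcomp m q n = ⊥) :
    Subsingleton (E.H m q) := by
  by_contra hcon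
  rw [not_subsingleton_iff_nontrivial] at hcon
  haveI : Nontrivial ((StarInjRes.toAddR 𝒜 E 𝒳 (fun _ _ h => h)).H
      (HomogeneousIdeal.toAddH 𝒜 m) q) := hcon
  obtain ⟨n, hn⟩ := Groth.Agent.Helper20.GrVC.exists_Hcomp_ne_bot
    (StarInjRes.toAddR 𝒜 E 𝒳 (fun _ _ h => h)) (HomogeneousIdeal.toAddH 𝒜 m) q
  exact hn (h n)

omit [Module.Finite A X] in
theorem LC_subsingleton_iff_Hcomp (q : ℕ) :
    Subsingleton (LC.H m.toIdeal q X) ↔ ∀ n : ℤ, E.Hcomp m q n = ⊥ := by
  constructor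
  · intro h n
    exact Hcomp_eq_bot_of_subsingleton E m q n h
  · intro h
    obtain ⟨e⟩ := nonempty_H_equiv_LC' E m q
    haveI := H_subsingleton_of_Hcomp E m q h
    exact e.symm.toEquiv.subsingleton

/-- vanishing above the dimension -/
theorem Hcomp_eq_bot_of_gt (D : ℕ) (hD : Module.supportDim A X ≤ D) (q : ℕ) (hq : D < q) (n : ℤ) :
    E.Hcomp m q n = ⊥ :=
  Hcomp_eq_bot_of_subsingleton E m q n (LC_subsingleton_of_gt m.toIdeal D hD q hq)

variable (hpos : ∀ n : ℤ, n < 0 → 𝒜 n = ⊥) (h0 : 𝒜 0 = Submodule.span k {(1 : A)})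
  (hm : m.toIdeal = Ideal.span (⋃ n ∈ Set.Ioi (0 : ℤ), (𝒜 n : Set A)))

include hpos h0 hm

omit E in
include 𝒳 in
theorem exists_nat_supportDimK [Nontrivial X] : ∃ D : ℕ, Module.supportDim A X = D := by
  haveI : Nontrivial A := (Module.nontrivial A X)
  have hpos' := toAdd_eq_bot_of_neg hpos
  have hloc := isStarLocal_toAddH hpos h0 m hm
  haveI hmax : (HomogeneousIdeal.toAddH 𝒜 m).toIdeal.IsMaximal :=
    isMaximal_of_isStarLocal hpos' _ hloc
  haveI := hmax.isPrime
  exact exists_nat_supportDim 𝒳 (HomogeneousIdeal.toAddH 𝒜 m) hloc hmax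

/-- nonvanishing in the dimension -/
theorem exists_Hcomp_ne_bot_top [Nontrivial X] (D : ℕ) (hD : Module.supportDim A X = D) :
    ∃ n : ℤ, E.Hcomp m D n ≠ ⊥ := by
  haveI : Nontrivial A := (Module.nontrivial A X)
  have hpos' := toAdd_eq_bot_of_neg hpos
  have hloc := isStarLocal_toAddH hpos h0 m hm
  haveI hmax : (HomogeneousIdeal.toAddH 𝒜 m).toIdeal.IsMaximal :=
    isMaximal_of_isStarLocal hpos' _ hloc
  haveI := hmax.isPrime
  have h1 : Nontrivial (LC.H m.toIdeal D X) :=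
    LC_nontrivial_top 𝒳 (HomogeneousIdeal.toAddH 𝒜 m) hloc hmax D hD
  by_contra hcon
  push Not at hcon
  have := (LC_subsingleton_iff_Hcomp E m D).2 hcon
  exact not_subsingleton _ this

/-- **the dimension of a graded module is the top nonvanishing degree of its local cohomology** -/
theorem supportDim_eq_of_Hcomp (δ : ℕ) (h1 : ∃ n : ℤ, E.Hcomp m δ n ≠ ⊥)
    (h2 : ∀ q : ℕ, δ < q → ∀ n : ℤ, E.Hcomp m q n = ⊥) : Module.supportDim A X = δ := by
  haveI : Nontrivial X := by
    by_contra hcon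
    rw [not_nontrivial_iff_subsingleton] at hcon
    obtain ⟨n, hn⟩ := h1
    apply hn
    apply Hcomp_eq_bot_of_subsingleton E m δ n
    apply LC.H_subsingleton_of_supportDim_lt
    rw [Module.supportDim_eq_bot_of_subsingleton]
    exact WithBot.bot_lt_coe _
  obtain ⟨D, hD⟩ := exists_nat_supportDimK (𝒳 := 𝒳) m hpos h0 hm
  rw [hD]
  rcases lt_trichotomy D δ with h | h | h
  · exfalso
    obtain ⟨n, hn⟩ := h1
    exact hn (Hcomp_eq_bot_of_gt E m D (le_of_eq hD) δ h n)
  · rw [h]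
  · exfalso
    obtain ⟨n, hn⟩ := exists_Hcomp_ne_bot_top E m hpos h0 hm D hD
    exact hn (h2 D h n)

/-- **the graded Cohen–Macaulay criterion for modules** -/
theorem cmK_iff_Hcomp [Nontrivial X] (D : ℕ) (hD : Module.supportDim A X = D) :
    (∀ (p : Ideal A) [p.IsPrime], Subsingleton (LocalizedModule p.primeCompl X) ∨
      LocCoh.IsCohenMacaulayModule (Localization.AtPrime p) (LocalizedModule p.primeCompl X)) ↔
      ∀ q : ℕ, q < D → ∀ n : ℤ, E.Hcomp m q n = ⊥ := by
  haveI : Nontrivial A := (Module.nontrivial A X)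
  have hpos' := toAdd_eq_bot_of_neg hpos
  have hloc := isStarLocal_toAddH hpos h0 m hm
  haveI hmax : (HomogeneousIdeal.toAddH 𝒜 m).toIdeal.IsMaximal :=
    isMaximal_of_isStarLocal hpos' _ hloc
  haveI := hmax.isPrime
  rw [cm_iff_LC_subsingleton 𝒳 (HomogeneousIdeal.toAddH 𝒜 m) hloc hmax D hD]
  constructor
  · intro h q hq
    exact (LC_subsingleton_iff_Hcomp E m q).1 (h q hq)
  · intro h q hq
    exact (LC_subsingleton_iff_Hcomp E m q).2 (h q hq)

omit hpos h0 hm in
/-- the depth with respect to the irrelevant ideal is the least nonvanishing degree of the local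
cohomology -/
theorem idealDepth_eq_of_Hcomp (t : ℕ) (h1 : ∀ q : ℕ, q < t → ∀ n : ℤ, E.Hcomp m q n = ⊥)
    (h2 : ∃ n : ℤ, E.Hcomp m t n ≠ ⊥) : LocCoh.idealDepth m.toIdeal X = (t : ℕ∞) := by
  have hle : ((t : ℕ) : ℕ∞) ≤ LocCoh.idealDepth m.toIdeal X :=
    (LC.le_idealDepth_iff_H' m.toIdeal t X).2
      (fun q hq => (LC_subsingleton_iff_Hcomp E m q).2 (h1 q hq))
  apply le_antisymm _ hle
  by_contra hcon
  rw [not_le] at hcon
  have h3 : (((t + 1 : ℕ)) : ℕ∞) ≤ LocCoh.idealDepth m.toIdeal X := by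
    have := Order.add_one_le_of_lt hcon
    exact_mod_cast this
  have h4 := (LC.le_idealDepth_iff_H' m.toIdeal (t + 1) X).1 h3 t (Nat.lt_succ_self t)
  obtain ⟨n, hn⟩ := h2
  exact hn ((LC_subsingleton_iff_Hcomp E m t).1 h4 n)

end Groth.Agent.Helper20.GrSM
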