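import Mathlib
import Groth.Prelude
import Groth.Agent.Lib.Helper20.GrSM5
import Groth.Agent.Lib.Helper20.GrKos8
import Groth.Agent.Lib.Helper20.GrIrr5
import Groth.Agent.Lib.Helper20.GrCx15
import Groth.Agent.Lib.Helper23.BassB1
import Groth.Agent.Lib.Helper23.Reg3

/-!
# The degrees in which the top local cohomology of a graded Cohen–Macaulay module lives meet every
arithmetic progression that the module meets (helper20)
-/

open DirectSum TensorProduct

namespace Groth.Agent.Helper20.GrSM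

open Groth.Agent.Helper20.GrInj Groth.Agent.Helper8

universe u

section Arith

variable {R : Type u} [CommRing R] [IsNoetherianRing R] {𝒜 : ℤ → AddSubgroup R} [GradedRing 𝒜]

theorem withBot_le_of_lt_succ {x : WithBot ℕ∞} {r : ℕ} (h : x < ((r + 1 : ℕ) : WithBot ℕ∞)) :
    x ≤ (r : WithBot ℕ∞) := by
  induction x using WithBot.recBotCoe with
  | bot => exact bot_le
  | coe a =>
    have h1 : a < ((r + 1 : ℕ) : ℕ∞) := by exact_mod_cast h
    have h2 : a ≤ (r : ℕ∞) := by
      rw [Nat.cast_add, Nat.cast_one] at h1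
      exact (ENat.lt_add_one_iff (ENat.natCast_ne_top r)).1 h1
    exact_mod_cast h2

omit [IsNoetherianRing R] in
theorem pow_smul_regular {M : Type u} [AddCommGroup M] [Module R M] {x : R}
    (hreg : ∀ z : M, x • z = 0 → z = 0) (e : ℕ) : ∀ z : M, x ^ e • z = 0 → z = 0 := by
  induction e with
  | zero => intro z hz; rwa [pow_zero, one_smul] at hz
  | succ e ihe =>
    intro z hz
    rw [pow_succ, mul_smul] at hz
    exact hreg z (ihe (x • z) hz)

/-- **the common-degree lemma**: let `M` be a finitely generated graded module of dimension `≤ r`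
with `H^q_m(M) = 0` for `q < r`.  If `M_{d₀} ≠ 0` then `H^r_m(M)` is nonzero in some degree of the
progression `d₀ + ℤ e`. -/
theorem exists_Hcomp_ne_bot_arith (hpos : ∀ n : ℤ, n < 0 → 𝒜 n = ⊥) (m : HomogeneousIdeal 𝒜)
    (hloc : GrLC.IsStarLocal 𝒜 m)
    (hmsp : m.toIdeal = Ideal.span (⋃ n ∈ Set.Ioi (0 : ℤ), (𝒜 n : Set R))) (e : ℕ) (he : 0 < e) :
    ∀ (r : ℕ) (M : Type u) [AddCommGroup M] [Module R M] [Module.Finite R M]
      (ℳ : ℤ → AddSubgroup M) [DirectSum.Decomposition ℳ] [SetLike.GradedSMul 𝒜 ℳ]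
      (E : GrLC.StarInjRes 𝒜 ℳ),
      Module.supportDim R M ≤ r → (∀ q : ℕ, q < r → ∀ n : ℤ, E.Hcomp m q n = ⊥) →
      ∀ d₀ : ℤ, ℳ d₀ ≠ ⊥ → ∃ j : ℤ, E.Hcomp m r (d₀ + j * e) ≠ ⊥ := by
  have hirr : IsIrr 𝒜 m := isIrr_of_span 𝒜 hpos m hmsp
  haveI hmax : m.toIdeal.IsMaximal := isMaximal_of_isStarLocal hpos m hloc
  intro r
  induction r with
  | zero =>
    intro M _ _ hfin ℳ _ _ E hdim _ d₀ hd₀
    haveI : Module.Finite R (GrLC.GMod.of 𝒜 M ℳ).carrier := hfin
    have hgam : GrLC.gam m.toIdeal M = ⊤ :=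
      Groth.Agent.Helper23.BassB.gam_eq_top_of_supportDim_le_zero m hloc (GrLC.GMod.of 𝒜 M ℳ)
        (by exact_mod_cast hdim)
    obtain ⟨x, hx, hx0⟩ : ∃ x ∈ ℳ d₀, x ≠ 0 := by
      by_contra hcon
      push Not at hcon
      apply hd₀
      rw [eq_bot_iff]
      intro x hx
      rw [AddSubgroup.mem_bot]
      exact hcon x hx
    refine ⟨0, ?_⟩
    rw [zero_mul, add_zero]
    intro hbot
    have hxg : x ∈ GrLC.gam m.toIdeal M := by rw [hgam]; trivial
    have h1 := gamToH_mem E m d₀ ⟨x, hxg⟩ hx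
    rw [hbot, Submodule.mem_bot] at h1
    have h2 : (⟨x, hxg⟩ : ↥(GrLC.gam m.toIdeal M)) = 0 :=
      gamToH_injective E m (h1.trans (map_zero _).symm)
    exact hx0 (congrArg Subtype.val h2)
  | succ r ih =>
    intro M _ _ _ ℳ _ _ E hdim hvan d₀ hd₀
    -- no torsion
    have hH0 : Subsingleton (E.H m 0) := by
      by_contra hcon
      rw [not_subsingleton_iff_nontrivial] at hcon
      obtain ⟨n, hn⟩ := Groth.Agent.Helper20.GrVC.exists_Hcomp_ne_bot E m 0
      exact hn (hvan 0 (Nat.succ_pos r) n)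
    have hΓ : ∀ x ∈ GrLC.gam m.toIdeal M, x = 0 := by
      intro x hx
      have h1 : gamToH E m ⟨x, hx⟩ = gamToH E m 0 := Subsingleton.elim _ _
      exact congrArg Subtype.val (gamToH_injective E m h1)
    obtain ⟨g, x, hg, hx, hxa, hreg⟩ :=
      exists_homog_regular 𝒜 ℳ hirr.pos m hirr.mem hirr.gen hΓ
    -- replace `x` by `x ^ e`
    set y : R := x ^ e with hy
    set G : ℤ := (e : ℤ) * g with hG
    have hGpos : 0 < G := mul_pos (by exact_mod_cast he) hg
    have hyG : y ∈ 𝒜 G := by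
      have := SetLike.pow_mem_graded e hx
      rwa [nsmul_eq_mul] at this
    have hyreg : ∀ z : M, y • z = 0 → z = 0 := pow_smul_regular hreg e
    have hya : y ∈ m.toIdeal := Ideal.pow_mem_of_mem _ hxa e he
    have hrange : (LinearMap.range (LinearMap.lsmul R M y)).IsHomogeneous ℳ :=
      range_isHomogeneous (shiftGr ℳ (-G)) ℳ (lsmul_isGrHom_shift hyG)
    let N := quotGMod ℳ 𝒜 (LinearMap.range (LinearMap.lsmul R M y)) hrange
    let π := quotMk 𝒜 ℳ (LinearMap.range (LinearMap.lsmul R M y)) hrange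
    have hπ : Function.Surjective π := quotMk_surjective 𝒜 ℳ _ hrange
    have hπg : GrLC.IsGrHom ℳ N.gr π := quotMk_grHom 𝒜 ℳ _ hrange
    have hπker : LinearMap.ker π = LinearMap.range (LinearMap.lsmul R M y) :=
      quotMk_ker 𝒜 ℳ _ hrange
    haveI : Module.Finite R N.carrier := Module.Finite.of_surjective π hπ
    have hKt : LinearMap.ker (LinearMap.lsmul R M y) ≤ GrLC.gam m.toIdeal M := by
      intro z hz
      rw [LinearMap.mem_ker] at hz
      have : z = 0 := hyreg z hz
      rw [this]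
      exact Submodule.zero_mem _
    let E' := starInjRes 𝒜 N.gr
    -- the dimension drops
    have hdimN : Module.supportDim R N.carrier ≤ r := by
      have h1 : Module.supportDim R M < (((r + 1) + 1 : ℕ) : WithBot ℕ∞) := by
        refine lt_of_le_of_lt hdim ?_
        exact_mod_cast Nat.lt_succ_self (r + 1)
      have h2 := Groth.Agent.Helper23.Reg.supportDim_quot_range_lsmul_lt hyreg (r + 1) h1
      exact withBot_le_of_lt_succ h2
    -- the vanishing passes to the quotient
    have hvanN : ∀ q : ℕ, q < r → ∀ n : ℤ, E'.Hcomp m q n = ⊥ := by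
      intro q hq n
      exact Hcomp_quotient_quasiRegular_eq_bot m hyG hKt π hπ hπg hπker E E' q n
        (hvan q (by omega) n) (hvan (q + 1) (by omega) (n - G))
    -- the quotient meets the progression
    obtain ⟨j₁, hj₁⟩ : ∃ j₁ : ℤ, N.gr (d₀ + j₁ * G) ≠ ⊥ := by
      by_contra hcon
      push Not at hcon
      obtain ⟨n₀, hn₀⟩ := exists_bddBelow_of_finite 𝒜 ℳ hirr.pos
      have key : ∀ t : ℕ, ∃ w ∈ ℳ (d₀ - t * G), w ≠ 0 := by
        intro t
        induction t with
        | zero =>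
          by_contra hc
          push Not at hc
          apply hd₀
          rw [eq_bot_iff]
          intro x hx
          rw [AddSubgroup.mem_bot]
          have := hc x (by simpa using hx)
          exact this
        | succ t iht =>
          obtain ⟨w, hw, hw0⟩ := iht
          have h1 : π w ∈ N.gr (d₀ + (-(t : ℤ)) * G) := by
            have e1 : d₀ + (-(t : ℤ)) * G = d₀ - t * G := by ring
            rw [e1]
            exact hπg _ w hw
          rw [hcon, AddSubgroup.mem_bot] at h1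
          have h2 : w ∈ LinearMap.ker π := h1
          rw [hπker] at h2
          obtain ⟨v, hv⟩ := h2
          have hv' : y • v = w := hv
          refine ⟨(decompose ℳ v (d₀ - ((t + 1 : ℕ) : ℤ) * G) : M), (decompose ℳ v _).2, ?_⟩
          intro h0
          apply hw0
          have h3 := decompose_smul_of_mem 𝒜 ℳ hyG v (d₀ - ((t + 1 : ℕ) : ℤ) * G)
          rw [h0, smul_zero, hv'] at h3
          have e2 : G + (d₀ - ((t + 1 : ℕ) : ℤ) * G) = d₀ - t * G := by push_cast; ring
          rw [e2, decompose_of_mem_same ℳ hw] at h3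
          exact h3
      obtain ⟨w, hw, hw0⟩ := key (d₀ - n₀ + 1).toNat
      apply hw0
      apply hn₀ _ _ w hw
      have h1 : (1 : ℤ) ≤ G := hGpos
      have h2 : ((d₀ - n₀ + 1).toNat : ℤ) ≥ d₀ - n₀ + 1 := Int.self_le_toNat _
      have h3 : (0 : ℤ) ≤ ((d₀ - n₀ + 1).toNat : ℤ) := Int.natCast_nonneg _
      nlinarith
    -- induction
    obtain ⟨j', hj'⟩ := ih N.carrier N.gr E' hdimN hvanN (d₀ + j₁ * G) hj₁
    refine ⟨(j₁ - 1) * g + j', ?_⟩
    intro hbot
    apply hj'
    apply Hcomp_quotient_quasiRegular_eq_bot m hyG hKt π hπ hπg hπker E E' r _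
      (hvan r (Nat.lt_succ_self r) _)
    have e3 : d₀ + j₁ * G + j' * e - G = d₀ + ((j₁ - 1) * g + j') * e := by
      rw [hG]
      ring
    rw [e3]
    exact hbot

end Arith

end Groth.Agent.Helper20.GrSM
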