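import Mathlib
import Groth.Prelude
import Groth.Agent.Lib.Helper20.GrSM6
import Groth.Agent.Lib.Helper20.GrVC4
import Groth.Agent.Lib.Helper20.GrSeg32

/-!
# Degrees of the top local cohomology of graded Cohen–Macaulay modules: steps and common degrees
(helper20)
-/

open DirectSum TensorProduct

namespace Groth.Agent.Helper20.GrSM

open Groth.Agent.Helper20.GrInj Groth.Agent.Helper8

universe u

section Surj

variable {R : Type u} [CommRing R] [IsNoetherianRing R]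

/-- multiplication by `f` is surjective on `H^D_I(M)` when `dim M ≤ D` and `dim M/fM < D` -/
theorem smul_surjective_LC_of_supportDim (I : Ideal R) (D : ℕ) (M : Type u) [AddCommGroup M]
    [Module R M] (hD : Module.supportDim R M ≤ D) (f : R)
    (hf : Module.supportDim R (M ⧸ LinearMap.range (LinearMap.lsmul R M f)) < D) :
    Function.Surjective (fun x : LC.H I D M => f • x) := by
  let φ : M →ₗ[R] M := LinearMap.lsmul R M f
  have hφ : φ = f • (LinearMap.id : M →ₗ[R] M) := LinearMap.ext fun _ => rfl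
  let K : Submodule R M := LinearMap.range φ
  haveI : Subsingleton (LC.H I (D + 1) (LinearMap.ker φ.rangeRestrict)) := by
    apply LC.H_subsingleton_of_supportDim_lt
    refine lt_of_le_of_lt ((Module.supportDim_le_of_injective _
      (LinearMap.ker φ.rangeRestrict).injective_subtype).trans hD) ?_
    exact_mod_cast Nat.lt_succ_self D
  have h1 : Function.Surjective (LC.Hmap I D φ.rangeRestrict) :=
    (LC.isSES_of_surjective (LinearMap.surjective_rangeRestrict φ)).Hmap_g_surjective I D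
  have hses := LC.isSES_subtype_mkQ K
  have hQ0 : Subsingleton (LC.H I D (M ⧸ K)) := LC.H_subsingleton_of_supportDim_lt I _ D hf
  have h2 : Function.Surjective (LC.Hmap I D K.subtype) := by
    intro y
    exact (hses.exact_Hmap I D y).mp (Subsingleton.elim _ _)
  intro y
  obtain ⟨z, rfl⟩ := h2 y
  obtain ⟨x, rfl⟩ := h1 z
  refine ⟨x, ?_⟩
  change f • x = _
  rw [← LC.Hmap_smul_id I D f x, ← LC.Hmap_comp_apply, ← hφ]
  rfl

end Surj

section Step

variable {R : Type u} [CommRing R] [IsNoetherianRing R] {𝒜 : ℤ → AddSubgroup R} [GradedRing 𝒜]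

/-- **steps**: the degrees in which the top local cohomology of a graded Cohen–Macaulay module of
positive dimension is nonzero are stable under subtracting a fixed positive integer -/
theorem exists_step (hpos : ∀ n : ℤ, n < 0 → 𝒜 n = ⊥) (m : HomogeneousIdeal 𝒜)
    (hmsp : m.toIdeal = Ideal.span (⋃ n ∈ Set.Ioi (0 : ℤ), (𝒜 n : Set R))) (r : ℕ) (h1 : 1 ≤ r)
    (M : Type u) [AddCommGroup M] [Module R M] [Module.Finite R M]
    (ℳ : ℤ → AddSubgroup M) [DirectSum.Decomposition ℳ] [SetLike.GradedSMul 𝒜 ℳ]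
    (E : GrLC.StarInjRes 𝒜 ℳ) (hdim : Module.supportDim R M ≤ r)
    (hvan : ∀ q : ℕ, q < r → ∀ n : ℤ, E.Hcomp m q n = ⊥) :
    ∃ g : ℕ, 0 < g ∧ ∀ n : ℤ, E.Hcomp m r n = ⊥ → E.Hcomp m r ((g : ℤ) + n) = ⊥ := by
  have hirr : IsIrr 𝒜 m := isIrr_of_span 𝒜 hpos m hmsp
  have hH0 : Subsingleton (E.H m 0) := by
    by_contra hcon
    rw [not_subsingleton_iff_nontrivial] at hcon
    obtain ⟨n, hn⟩ := Groth.Agent.Helper20.GrVC.exists_Hcomp_ne_bot E m 0
    exact hn (hvan 0 (by omega) n)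
  have hΓ : ∀ x ∈ GrLC.gam m.toIdeal M, x = 0 := by
    intro x hx
    have h1 : gamToH E m ⟨x, hx⟩ = gamToH E m 0 := Subsingleton.elim _ _
    exact congrArg Subtype.val (gamToH_injective E m h1)
  obtain ⟨g, x, hg, hx, hxa, hreg⟩ :=
    exists_homog_regular 𝒜 ℳ hirr.pos m hirr.mem hirr.gen hΓ
  have hlt : Module.supportDim R (M ⧸ LinearMap.range (LinearMap.lsmul R M x)) < (r : WithBot ℕ∞) := by
    apply Groth.Agent.Helper23.Reg.supportDim_quot_range_lsmul_lt hreg r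
    refine lt_of_le_of_lt hdim ?_
    exact_mod_cast Nat.lt_succ_self r
  have hs0 := smul_surjective_LC_of_supportDim m.toIdeal r M hdim x hlt
  have hs : Function.Surjective (fun y : E.H m r => x • y) := by
    obtain ⟨ε⟩ := nonempty_H_equiv_LC E m r
    intro y
    obtain ⟨z, hz⟩ := hs0 (ε y)
    refine ⟨ε.symm z, ?_⟩
    show x • ε.symm z = y
    rw [← map_smul]
    apply ε.injective
    rw [LinearEquiv.apply_symm_apply]
    exact hz
  refine ⟨g.toNat, by omega, ?_⟩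
  intro n hn
  have := Groth.Agent.Helper20.GrVC.Hcomp_add_eq_bot_of_smul_surjective E m r hx hs n hn
  rwa [← Int.toNat_of_nonneg hg.le] at this

theorem step_iterate (m : HomogeneousIdeal 𝒜) {M : Type u} [AddCommGroup M] [Module R M]
    {ℳ : ℤ → AddSubgroup M} [DirectSum.Decomposition ℳ] [SetLike.GradedSMul 𝒜 ℳ]
    (E : GrLC.StarInjRes 𝒜 ℳ) (r : ℕ) (g : ℕ)
    (hstep : ∀ n : ℤ, E.Hcomp m r n = ⊥ → E.Hcomp m r ((g : ℤ) + n) = ⊥) (c : ℕ) (n : ℤ)
    (hn : E.Hcomp m r n = ⊥) : E.Hcomp m r ((c : ℤ) * g + n) = ⊥ := by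
  induction c with
  | zero => simpa using hn
  | succ c ih =>
    have := hstep _ ih
    have e1 : (g : ℤ) + ((c : ℤ) * g + n) = ((c + 1 : ℕ) : ℤ) * g + n := by push_cast; ring
    rwa [e1] at this

end Step

section Alg

variable {k : Type u} [Field k] {A : Type u} [CommRing A] [Algebra k A] [IsNoetherianRing A]
  {𝒜 : ℤ → Submodule k A} [GradedAlgebra 𝒜]
  {X : Type u} [AddCommGroup X] [Module A X] [Module.Finite A X] {𝒳 : ℤ → AddSubgroup X}
  [DirectSum.Decomposition 𝒳] [SetLike.GradedSMul 𝒜 𝒳]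
  (E : GrLC.StarInjRes 𝒜 𝒳) (m : HomogeneousIdeal 𝒜)
  (hpos : ∀ n : ℤ, n < 0 → 𝒜 n = ⊥) (h0 : 𝒜 0 = Submodule.span k {(1 : A)})
  (hm : m.toIdeal = Ideal.span (⋃ n ∈ Set.Ioi (0 : ℤ), (𝒜 n : Set A)))

include hpos h0 hm in
/-- the common-degree lemma over a graded algebra over a field -/
theorem exists_Hcomp_ne_bot_arithK [Nontrivial A] (e : ℕ) (he : 0 < e) (r : ℕ)
    (hdim : Module.supportDim A X ≤ r) (hvan : ∀ q : ℕ, q < r → ∀ n : ℤ, E.Hcomp m q n = ⊥)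
    (d₀ : ℤ) (hd₀ : 𝒳 d₀ ≠ ⊥) : ∃ j : ℤ, E.Hcomp m r (d₀ + j * e) ≠ ⊥ :=
  exists_Hcomp_ne_bot_arith (toAdd_eq_bot_of_neg hpos) (HomogeneousIdeal.toAddH 𝒜 m)
    (isStarLocal_toAddH hpos h0 m hm) hm e he r X 𝒳
    (StarInjRes.toAddR 𝒜 E 𝒳 (fun _ _ h => h)) hdim hvan d₀ hd₀

include hpos hm in
theorem exists_stepK (r : ℕ) (h1 : 1 ≤ r)
    (hdim : Module.supportDim A X ≤ r) (hvan : ∀ q : ℕ, q < r → ∀ n : ℤ, E.Hcomp m q n = ⊥) :
    ∃ g : ℕ, 0 < g ∧ ∀ (c : ℕ) (n : ℤ), E.Hcomp m r n = ⊥ → E.Hcomp m r ((c : ℤ) * g + n) = ⊥ := by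
  obtain ⟨g, hg, hstep⟩ := exists_step (toAdd_eq_bot_of_neg hpos) (HomogeneousIdeal.toAddH 𝒜 m)
    hm r h1 X 𝒳 (StarInjRes.toAddR 𝒜 E 𝒳 (fun _ _ h => h)) hdim hvan
  exact ⟨g, hg, fun c n hn => step_iterate (HomogeneousIdeal.toAddH 𝒜 m)
    (StarInjRes.toAddR 𝒜 E 𝒳 (fun _ _ h => h)) r g hstep c n hn⟩

end Alg

section Common

variable {k : Type u} [Field k] {A : Type u} [CommRing A] [Algebra k A] [IsNoetherianRing A]
  [Nontrivial A]
  {𝒜 : ℤ → Submodule k A} [GradedAlgebra 𝒜]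
  {X : Type u} [AddCommGroup X] [Module A X] [Module.Finite A X] {𝒳 : ℤ → AddSubgroup X}
  [DirectSum.Decomposition 𝒳] [SetLike.GradedSMul 𝒜 𝒳]
  (E : GrLC.StarInjRes 𝒜 𝒳) (m : HomogeneousIdeal 𝒜)
  (hpos : ∀ n : ℤ, n < 0 → 𝒜 n = ⊥) (h0 : 𝒜 0 = Submodule.span k {(1 : A)})
  (hm : m.toIdeal = Ideal.span (⋃ n ∈ Set.Ioi (0 : ℤ), (𝒜 n : Set A)))
  {B : Type u} [CommRing B] [Algebra k B] [IsNoetherianRing B] [Nontrivial B]
  {ℬ : ℤ → Submodule k B} [GradedAlgebra ℬ]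
  {Y : Type u} [AddCommGroup Y] [Module B Y] [Module.Finite B Y] {𝒴 : ℤ → AddSubgroup Y}
  [DirectSum.Decomposition 𝒴] [SetLike.GradedSMul ℬ 𝒴]
  (F : GrLC.StarInjRes ℬ 𝒴) (n' : HomogeneousIdeal ℬ)
  (hposB : ∀ n : ℤ, n < 0 → ℬ n = ⊥) (h0B : ℬ 0 = Submodule.span k {(1 : B)})
  (hn' : n'.toIdeal = Ideal.span (⋃ n ∈ Set.Ioi (0 : ℤ), (ℬ n : Set B)))

include hpos h0 hm hposB h0B hn' in
/-- **a common degree for two graded Cohen–Macaulay modules** of positive dimensions which are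
both nonzero in some degree -/
theorem exists_common_degree_mod (r s : ℕ) (h1r : 1 ≤ r) (h1s : 1 ≤ s)
    (hdimX : Module.supportDim A X ≤ r) (hvanX : ∀ q : ℕ, q < r → ∀ n : ℤ, E.Hcomp m q n = ⊥)
    (hdimY : Module.supportDim B Y ≤ s) (hvanY : ∀ q : ℕ, q < s → ∀ n : ℤ, F.Hcomp n' q n = ⊥)
    (d₀ : ℤ) (hX : 𝒳 d₀ ≠ ⊥) (hY : 𝒴 d₀ ≠ ⊥) :
    ∃ d : ℤ, E.Hcomp m r d ≠ ⊥ ∧ F.Hcomp n' s d ≠ ⊥ := by
  obtain ⟨g, hg, hstepX⟩ := exists_stepK E m hpos hm r h1r hdimX hvanX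
  obtain ⟨g', hg', hstepY⟩ := exists_stepK F n' hposB hn' s h1s hdimY hvanY
  have he : 0 < g * g' := Nat.mul_pos hg hg'
  obtain ⟨j, hj⟩ := exists_Hcomp_ne_bot_arithK E m hpos h0 hm (g * g') he r hdimX hvanX d₀ hX
  obtain ⟨j', hj'⟩ := exists_Hcomp_ne_bot_arithK F n' hposB h0B hn' (g * g') he s hdimY hvanY d₀ hY
  refine ⟨d₀ + min j j' * ((g * g' : ℕ) : ℤ), ?_, ?_⟩
  · intro hbot
    apply hj
    have := hstepX ((j - min j j').toNat * g') _ hbot
    have hnn : (0 : ℤ) ≤ j - min j j' := by have := min_le_left j j'; omega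
    have e1 : (((j - min j j').toNat * g' : ℕ) : ℤ) * g + (d₀ + min j j' * ((g * g' : ℕ) : ℤ)) =
        d₀ + j * ((g * g' : ℕ) : ℤ) := by
      push_cast
      rw [Int.toNat_of_nonneg hnn]
      ring
    rwa [e1] at this
  · intro hbot
    apply hj'
    have := hstepY ((j' - min j j').toNat * g) _ hbot
    have hnn : (0 : ℤ) ≤ j' - min j j' := by have := min_le_right j j'; omega
    have e1 : (((j' - min j j').toNat * g : ℕ) : ℤ) * g' + (d₀ + min j j' * ((g * g' : ℕ) : ℤ)) =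
        d₀ + j' * ((g * g' : ℕ) : ℤ) := by
      push_cast
      rw [Int.toNat_of_nonneg hnn]
      ring
    rwa [e1] at this

end Common

end Groth.Agent.Helper20.GrSM
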