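import Mathlib
import Groth.Prelude
import Groth.Agent.Lib.Helper20.GrSM7
import Groth.Agent.Lib.Helper20.GrSM2
import Groth.Agent.Lib.Helper20.GrSeg36
import Groth.Agent.Lib.Helper29.GrFin

/-!
# Dimension and Cohen–Macaulayness of a Segre product of graded Cohen–Macaulay modules (helper20)
-/

open DirectSum TensorProduct

namespace Groth.Agent.Helper20.Seg

open Groth.Agent.Helper20.GrInj Groth.Agent.Helper8 Groth.Agent.Helper20.GrSM
  Groth.Agent.Helper20.SegFin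

universe u

section Piece

variable {k : Type u} [Field k] {A : Type u} [CommRing A] [Algebra k A] [Nontrivial A]
  (𝒜 : ℤ → Submodule k A) [GradedAlgebra 𝒜]
  {M : Type u} [AddCommGroup M] [Module A M] [Module k M] [IsScalarTower k A M]
  (ℳ : ℤ → AddSubgroup M) [DirectSum.Decomposition ℳ] [SetLike.GradedSMul 𝒜 ℳ]

theorem piece_eq_bot_iff_finrank [Algebra.FiniteType k A] [Module.Finite A M]
    (hpos : ∀ n : ℤ, n < 0 → 𝒜 n = ⊥) (h0 : 𝒜 0 = Submodule.span k {(1 : A)}) (n : ℤ) :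
    ℳ n = ⊥ ↔ Module.finrank (GrLC.deg0 𝒜) (GrLC.comp 𝒜 ℳ n) = 0 := by
  rw [finrank_comp_eq 𝒜 ℳ h0 n]
  haveI h1 := Groth.Agent.Helper29.GrFin.module_piece_finite 𝒜 ℳ hpos h0 n
  haveI : FiniteDimensional k ↥(pieceK 𝒜 ℳ n) := by
    have hle : pieceK 𝒜 ℳ n ≤ Groth.Agent.Helper29.GrFin.pieceK 𝒜 ℳ n := fun x hx => hx
    exact Submodule.finiteDimensional_of_le hle
  rw [Submodule.finrank_eq_zero]
  constructor
  · intro h
    rw [eq_bot_iff]
    intro x hx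
    have : x ∈ ℳ n := hx
    rw [h] at this
    exact this
  · intro h
    rw [eq_bot_iff]
    intro x hx
    have : x ∈ pieceK 𝒜 ℳ n := hx
    rw [h] at this
    exact this

end Piece

section ModCM

variable (k : Type u) [Field k] (R : Type u) [CommRing R] [Nontrivial R] [Algebra k R]
    (𝒜 : ℤ → Submodule k R) [GradedAlgebra 𝒜] (hposR : ∀ n : ℤ, n < 0 → 𝒜 n = ⊥)
    (h0R : 𝒜 0 = Submodule.span k {(1 : R)}) [Algebra.FiniteType k R]
    (S : Type u) [CommRing S] [Nontrivial S] [Algebra k S] (ℬ : ℤ → Submodule k S)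
    [GradedAlgebra ℬ] (hposS : ∀ n : ℤ, n < 0 → ℬ n = ⊥)
    (h0S : ℬ 0 = Submodule.span k {(1 : S)}) [Algebra.FiniteType k S]
    (T : Type u) [CommRing T] [Algebra k T] (𝒯 : ℤ → Submodule k T) [GradedAlgebra 𝒯]
    (ψ : T →ₐ[k] R ⊗[k] S) (hT : GrSeg.IsSegreRing 𝒜 ℬ 𝒯 ψ)
    (mR : HomogeneousIdeal 𝒜)
    (hmR : mR.toIdeal = Ideal.span (⋃ n ∈ Set.Ioi (0 : ℤ), (𝒜 n : Set R)))
    (mS : HomogeneousIdeal ℬ)
    (hmS : mS.toIdeal = Ideal.span (⋃ n ∈ Set.Ioi (0 : ℤ), (ℬ n : Set S)))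
    (mT : HomogeneousIdeal 𝒯)
    (hmT : mT.toIdeal = Ideal.span (⋃ n ∈ Set.Ioi (0 : ℤ), (𝒯 n : Set T)))
    (M : Type u) [AddCommGroup M] [Module R M] [Module k M] [IsScalarTower k R M]
    (ℳ : ℤ → AddSubgroup M) [DirectSum.Decomposition ℳ] [SetLike.GradedSMul 𝒜 ℳ]
    [Module.Finite R M] (EM : GrLC.StarInjRes 𝒜 ℳ)
    (N : Type u) [AddCommGroup N] [Module S N] [Module k N] [IsScalarTower k S N]
    (𝒩 : ℤ → AddSubgroup N) [DirectSum.Decomposition 𝒩] [SetLike.GradedSMul ℬ 𝒩]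
    [Module.Finite S N] (EN : GrLC.StarInjRes ℬ 𝒩)
    (P : Type u) [AddCommGroup P] [Module T P] [Module k P] [IsScalarTower k T P]
    (𝒬 : ℤ → AddSubgroup P) [DirectSum.Decomposition 𝒬] [SetLike.GradedSMul 𝒯 𝒬]
    (φ : P →ₗ[k] M ⊗[k] N) (hP : GrSeg.IsSegreMod ψ ℳ 𝒩 𝒬 φ) (EP : GrLC.StarInjRes 𝒯 𝒬)
    (r s : ℕ) (h1r : 1 ≤ r) (h1s : 1 ≤ s)
    (hvanM : ∀ q : ℕ, q ≠ r → ∀ n : ℤ, EM.Hcomp mR q n = ⊥)
    (hvanN : ∀ q : ℕ, q ≠ s → ∀ n : ℤ, EN.Hcomp mS q n = ⊥)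

include hposR h0R hposS h0S hT hmR hmS hmT hP h1r h1s hvanM hvanN in
/-- the closed formula for the local cohomology of a Segre product of Cohen–Macaulay modules -/
theorem segre_mod_formula (Q : ℕ) (n : ℤ) :
    Module.finrank (GrLC.deg0 𝒯) (EP.Hcomp mT Q n) =
      Module.finrank (GrLC.deg0 𝒜) (GrLC.comp 𝒜 ℳ n) *
        Module.finrank (GrLC.deg0 ℬ) (EN.Hcomp mS Q n) +
      Module.finrank (GrLC.deg0 𝒜) (EM.Hcomp mR Q n) *
        Module.finrank (GrLC.deg0 ℬ) (GrLC.comp ℬ 𝒩 n) +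
      (if Q + 1 = r + s then Module.finrank (GrLC.deg0 𝒜) (EM.Hcomp mR r n) *
        Module.finrank (GrLC.deg0 ℬ) (EN.Hcomp mS s n) else 0) := by
  obtain ⟨ρ, ρ', h, h', h1, h2, h3, h4, h5, h6, h7, h8, h9⟩ :=
    segre_dims k R 𝒜 hposR h0R S ℬ hposS h0S T 𝒯 ψ hT mR hmR mS hmS mT hmT
      M ℳ EM N 𝒩 EN P 𝒬 φ hP EP n
  obtain ⟨a, ha⟩ : ∃ a : ℕ → ℕ, ∀ q, a q = Module.finrank (GrLC.deg0 𝒜) (EM.Hcomp mR q n) :=
    ⟨_, fun _ => rfl⟩
  obtain ⟨b, hb⟩ : ∃ b : ℕ → ℕ, ∀ q, b q = Module.finrank (GrLC.deg0 ℬ) (EN.Hcomp mS q n) :=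
    ⟨_, fun _ => rfl⟩
  obtain ⟨t, ht⟩ : ∃ t : ℕ → ℕ, ∀ q, t q = Module.finrank (GrLC.deg0 𝒯) (EP.Hcomp mT q n) :=
    ⟨_, fun _ => rfl⟩
  rw [← ht, ← ha, ← ha, ← hb, ← hb]
  apply segre_cm_arith a b t h h' ρ ρ' _ _ r s h1r h1s
  · intro q hq; rw [ha, hvanM q hq n]; exact finrank_bot _ _
  · intro q hq; rw [hb, hvanN q hq n]; exact finrank_bot _ _
  · rw [ha]; exact h1
  · rw [ha]; exact h2
  · intro i; rw [ha]; exact h3 i
  · rw [hb]; exact h4
  · rw [hb]; exact h5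
  · intro i; rw [hb]; exact h6 i
  · rw [ht]; exact h7
  · rw [ht]; exact h8
  · intro q; rw [ht]; exact h9 q

include hposR h0R hposS h0S hT hmR hmS hP h1r h1s hvanM hvanN in
/-- **the dimension of a Segre product of graded Cohen–Macaulay modules** -/
theorem segre_mod_supportDim [Nontrivial P] (hdimM : Module.supportDim R M ≤ r)
    (hdimN : Module.supportDim S N ≤ s) :
    Module.supportDim T P = ((r + s - 1 : ℕ) : WithBot ℕ∞) := by
  let mT := irrelK 𝒯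
  have hmT : mT.toIdeal = Ideal.span (⋃ n ∈ Set.Ioi (0 : ℤ), (𝒯 n : Set T)) := rfl
  let EP := starInjRes 𝒯 𝒬
  haveI : IsNoetherianRing R := Algebra.FiniteType.isNoetherianRing k R
  haveI : IsNoetherianRing S := Algebra.FiniteType.isNoetherianRing k S
  haveI : IsNoetherianRing T := Groth.Agent.Helper27.Segre.isNoetherianRing 𝒜 ℬ 𝒯 ψ hT.2 hT.1
  haveI : Nontrivial T := segre_nontrivial hT
  have hposT := segre_hpos hT hposR
  have h0T := segre_h0 hT h0R h0S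
  haveI : Module.Finite T P := finite_of_isSegreMod hT hP
  have formula := segre_mod_formula k R 𝒜 hposR h0R S ℬ hposS h0S T 𝒯 ψ hT mR hmR mS hmS mT hmT
    M ℳ EM N 𝒩 EN P 𝒬 φ hP EP r s h1r h1s hvanM hvanN
  have hbotT : ∀ (q : ℕ) (n : ℤ), EP.Hcomp mT q n = ⊥ ↔
      Module.finrank (GrLC.deg0 𝒯) (EP.Hcomp mT q n) = 0 := fun q n =>
    Hcomp_eq_bot_iff_finrank EP mT hposT h0T hmT q n
  have hbotR : ∀ (q : ℕ) (n : ℤ), EM.Hcomp mR q n = ⊥ ↔
      Module.finrank (GrLC.deg0 𝒜) (EM.Hcomp mR q n) = 0 := fun q n =>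
    Hcomp_eq_bot_iff_finrank EM mR hposR h0R hmR q n
  have hbotS : ∀ (q : ℕ) (n : ℤ), EN.Hcomp mS q n = ⊥ ↔
      Module.finrank (GrLC.deg0 ℬ) (EN.Hcomp mS q n) = 0 := fun q n =>
    Hcomp_eq_bot_iff_finrank EN mS hposS h0S hmS q n
  -- a degree in which `P` is nonzero
  obtain ⟨d₀, hd₀⟩ : ∃ d₀ : ℤ, 𝒬 d₀ ≠ ⊥ := by
    classical
    by_contra hcon
    push Not at hcon
    obtain ⟨p, hp⟩ := exists_ne (0 : P)
    apply hp
    rw [← DirectSum.sum_support_decompose 𝒬 p]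
    apply Finset.sum_eq_zero
    intro i _
    have h1 : (decompose 𝒬 p i : P) ∈ 𝒬 i := (decompose 𝒬 p i).2
    have h2 : ∀ x ∈ 𝒬 i, x = 0 := by
      intro x hx
      rw [hcon i] at hx
      exact hx
    exact h2 _ h1
  have hMd : ℳ d₀ ≠ ⊥ := by
    intro hbot
    apply hd₀
    rw [eq_bot_iff]
    intro p hp
    have h1 := φ_mem_piece' hP hp
    have h2 : GrSeg.segrePiece k ℳ 𝒩 d₀ = ⊥ := by
      rw [eq_bot_iff]
      apply Submodule.span_le.2
      rintro _ ⟨x, hx, y, _, rfl⟩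
      rw [hbot] at hx
      rw [AddSubgroup.mem_bot.1 hx, TensorProduct.zero_tmul]
      exact Submodule.zero_mem _
    rw [h2, Submodule.mem_bot] at h1
    rw [AddSubgroup.mem_bot]
    exact hP.injective (h1.trans (map_zero φ).symm)
  have hNd : 𝒩 d₀ ≠ ⊥ := by
    intro hbot
    apply hd₀
    rw [eq_bot_iff]
    intro p hp
    have h1 := φ_mem_piece' hP hp
    have h2 : GrSeg.segrePiece k ℳ 𝒩 d₀ = ⊥ := by
      rw [eq_bot_iff]
      apply Submodule.span_le.2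
      rintro _ ⟨x, _, y, hy, rfl⟩
      rw [hbot] at hy
      rw [AddSubgroup.mem_bot.1 hy, TensorProduct.tmul_zero]
      exact Submodule.zero_mem _
    rw [h2, Submodule.mem_bot] at h1
    rw [AddSubgroup.mem_bot]
    exact hP.injective (h1.trans (map_zero φ).symm)
  obtain ⟨d, hdM, hdN⟩ := exists_common_degree_mod EM mR hposR h0R hmR EN mS hposS h0S hmS r s
    h1r h1s hdimM (fun q hq n => hvanM q (by omega) n) hdimN (fun q hq n => hvanN q (by omega) n)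
    d₀ hMd hNd
  apply supportDim_eq_of_Hcomp EP mT hposT h0T hmT (r + s - 1)
  · refine ⟨d, ?_⟩
    rw [Ne, hbotT, formula (r + s - 1) d, if_pos (by omega)]
    have h1 : Module.finrank (GrLC.deg0 𝒜) (EM.Hcomp mR r d) ≠ 0 := fun h => hdM ((hbotR r d).2 h)
    have h2 : Module.finrank (GrLC.deg0 ℬ) (EN.Hcomp mS s d) ≠ 0 := fun h => hdN ((hbotS s d).2 h)
    have h3 := Nat.mul_ne_zero h1 h2
    omega
  · intro q hq n
    rw [hbotT, formula q n, if_neg (by omega), hvanM q (by omega) n, hvanN q (by omega) n,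
      finrank_bot, finrank_bot]
    simp

include hposR h0R hposS h0S hT hmR hmS hP h1r h1s hvanM hvanN in
/-- **Cohen–Macaulayness of a Segre product of graded Cohen–Macaulay modules** of positive
dimensions -/
theorem segre_mod_cm_iff [Nontrivial P] (hdimM : Module.supportDim R M ≤ r)
    (hdimN : Module.supportDim S N ≤ s) :
    (∀ (q : Ideal T) [q.IsPrime], Subsingleton (LocalizedModule q.primeCompl P) ∨
      LocCoh.IsCohenMacaulayModule (Localization.AtPrime q) (LocalizedModule q.primeCompl P)) ↔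
      (2 ≤ r → ∀ n : ℤ, ℳ n = ⊥ ∨ EN.Hcomp mS s n = ⊥) ∧
      (2 ≤ s → ∀ n : ℤ, EM.Hcomp mR r n = ⊥ ∨ 𝒩 n = ⊥) := by
  let mT := irrelK 𝒯
  have hmT : mT.toIdeal = Ideal.span (⋃ n ∈ Set.Ioi (0 : ℤ), (𝒯 n : Set T)) := rfl
  let EP := starInjRes 𝒯 𝒬
  haveI : IsNoetherianRing R := Algebra.FiniteType.isNoetherianRing k R
  haveI : IsNoetherianRing S := Algebra.FiniteType.isNoetherianRing k S
  haveI : IsNoetherianRing T := Groth.Agent.Helper27.Segre.isNoetherianRing 𝒜 ℬ 𝒯 ψ hT.2 hT.1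
  haveI : Nontrivial T := segre_nontrivial hT
  have hposT := segre_hpos hT hposR
  have h0T := segre_h0 hT h0R h0S
  haveI : Module.Finite T P := finite_of_isSegreMod hT hP
  have formula := segre_mod_formula k R 𝒜 hposR h0R S ℬ hposS h0S T 𝒯 ψ hT mR hmR mS hmS mT hmT
    M ℳ EM N 𝒩 EN P 𝒬 φ hP EP r s h1r h1s hvanM hvanN
  have hdimP := segre_mod_supportDim k R 𝒜 hposR h0R S ℬ hposS h0S T 𝒯 ψ hT mR hmR mS hmS
    M ℳ EM N 𝒩 EN P 𝒬 φ hP r s h1r h1s hvanM hvanN hdimM hdimN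
  have hbotT : ∀ (q : ℕ) (n : ℤ), EP.Hcomp mT q n = ⊥ ↔
      Module.finrank (GrLC.deg0 𝒯) (EP.Hcomp mT q n) = 0 := fun q n =>
    Hcomp_eq_bot_iff_finrank EP mT hposT h0T hmT q n
  have hbotR : ∀ (q : ℕ) (n : ℤ), EM.Hcomp mR q n = ⊥ ↔
      Module.finrank (GrLC.deg0 𝒜) (EM.Hcomp mR q n) = 0 := fun q n =>
    Hcomp_eq_bot_iff_finrank EM mR hposR h0R hmR q n
  have hbotS : ∀ (q : ℕ) (n : ℤ), EN.Hcomp mS q n = ⊥ ↔
      Module.finrank (GrLC.deg0 ℬ) (EN.Hcomp mS q n) = 0 := fun q n =>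
    Hcomp_eq_bot_iff_finrank EN mS hposS h0S hmS q n
  have hbotA := piece_eq_bot_iff_finrank 𝒜 ℳ hposR h0R
  have hbotB := piece_eq_bot_iff_finrank ℬ 𝒩 hposS h0S
  rw [cmK_iff_Hcomp EP mT hposT h0T hmT (r + s - 1) hdimP]
  constructor
  · intro hCM
    constructor
    · intro h2r n
      have h1 := (hbotT s n).1 (hCM s (by omega) n)
      rw [formula s n, if_neg (by omega)] at h1
      have h2 : Module.finrank (GrLC.deg0 𝒜) (GrLC.comp 𝒜 ℳ n) *
          Module.finrank (GrLC.deg0 ℬ) (EN.Hcomp mS s n) = 0 := by omega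
      rcases Nat.mul_eq_zero.1 h2 with h | h
      · exact Or.inl ((hbotA n).2 h)
      · exact Or.inr ((hbotS s n).2 h)
    · intro h2s n
      have h1 := (hbotT r n).1 (hCM r (by omega) n)
      rw [formula r n, if_neg (by omega)] at h1
      have h2 : Module.finrank (GrLC.deg0 𝒜) (EM.Hcomp mR r n) *
          Module.finrank (GrLC.deg0 ℬ) (GrLC.comp ℬ 𝒩 n) = 0 := by omega
      rcases Nat.mul_eq_zero.1 h2 with h | h
      · exact Or.inl ((hbotR r n).2 h)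
      · exact Or.inr ((hbotB n).2 h)
  · rintro ⟨hc1, hc2⟩ Q hQ n
    rw [hbotT, formula Q n, if_neg (by omega)]
    have e1 : Module.finrank (GrLC.deg0 𝒜) (GrLC.comp 𝒜 ℳ n) *
        Module.finrank (GrLC.deg0 ℬ) (EN.Hcomp mS Q n) = 0 := by
      by_cases hQs : Q = s
      · subst hQs
        rcases hc1 (by omega) n with h | h
        · rw [(hbotA n).1 h, zero_mul]
        · rw [(hbotS Q n).1 h, mul_zero]
      · rw [hvanN Q hQs n, finrank_bot, mul_zero]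
    have e2 : Module.finrank (GrLC.deg0 𝒜) (EM.Hcomp mR Q n) *
        Module.finrank (GrLC.deg0 ℬ) (GrLC.comp ℬ 𝒩 n) = 0 := by
      by_cases hQr : Q = r
      · subst hQr
        rcases hc2 (by omega) n with h | h
        · rw [(hbotR Q n).1 h, zero_mul]
        · rw [(hbotB n).1 h, mul_zero]
      · rw [hvanM Q hQr n, finrank_bot, zero_mul]
    rw [e1, e2]

end ModCM

end Groth.Agent.Helper20.Seg
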