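import Mathlib
import Groth.Prelude
import Groth.Agent.Lib.Helper20.GrSM8
import Groth.Agent.Lib.Helper20.GrTop1

/-!
# Cutting down the dimension of a module by one element of a maximal ideal, and the top local
cohomology of a graded module over a standard graded ring (helper20)
-/

set_option autoImplicit false

open DirectSum

namespace Groth.Agent.Helper20.GrSD

open Groth.Agent.Helper20.GrInj Groth.Agent.Helper8 Groth.Agent.Helper20.GrSM

universe u

section Cut

variable {R : Type u} [CommRing R] {M : Type u} [AddCommGroup M] [Module R M]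

/-- if `f` avoids the minimal primes of the support of `M` of maximal dimension, then
`dim M/fM < dim M` -/
theorem supportDim_quot_lt_of_notMem [Module.Finite R M] (D : ℕ)
    (hD : Module.supportDim R M ≤ D) (f : R)
    (hf : ∀ p ∈ (Module.annihilator R M).minimalPrimes, ringKrullDim (R ⧸ p) = D → f ∉ p) :
    Module.supportDim R (M ⧸ LinearMap.range (LinearMap.lsmul R M f)) < (D : WithBot ℕ∞) := by
  rw [Module.supportDim, Order.krullDim_lt_coe_iff]
  intro l
  by_contra hlen
  rw [not_lt] at hlen
  have hmem : ∀ x : Module.support R (M ⧸ LinearMap.range (LinearMap.lsmul R M f)),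
      f ∈ x.1.asIdeal ∧ Module.annihilator R M ≤ x.1.asIdeal := by
    intro x
    have h1 := Module.mem_support_iff_of_finite.mp x.2
    constructor
    · apply h1
      rw [Module.mem_annihilator]
      intro y
      obtain ⟨y, rfl⟩ := Submodule.Quotient.mk_surjective _ y
      rw [← Submodule.Quotient.mk_smul, Submodule.Quotient.mk_eq_zero]
      exact ⟨y, rfl⟩
    · refine le_trans ?_ h1
      intro a ha
      rw [Module.mem_annihilator] at ha ⊢
      intro y
      obtain ⟨y, rfl⟩ := Submodule.Quotient.mk_surjective _ y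
      rw [← Submodule.Quotient.mk_smul, ha y, Submodule.Quotient.mk_zero]
  have hsub : ∀ x : Module.support R (M ⧸ LinearMap.range (LinearMap.lsmul R M f)),
      x.1 ∈ Module.support R M := fun x => Module.mem_support_iff_of_finite.mpr (hmem x).2
  -- the chain inside the support of `M`
  let lM : LTSeries (Module.support R M) :=
    l.map (fun x => ⟨x.1, hsub x⟩) (fun _ _ h => h)
  set p0 : Module.support R M := RelSeries.head lM with hp0
  have hp0f : f ∈ p0.1.asIdeal := (hmem (RelSeries.head l)).1
  have hp0a : Module.annihilator R M ≤ p0.1.asIdeal := (hmem (RelSeries.head l)).2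
  obtain ⟨q, hq, hqp⟩ := Ideal.exists_minimalPrimes_le hp0a
  have hqprime : q.IsPrime := hq.1.1
  have hqsupp : (⟨q, hqprime⟩ : PrimeSpectrum R) ∈ Module.support R M :=
    Module.mem_support_iff_of_finite.mpr hq.1.2
  have hkd : Order.krullDim (Module.support R M) ≤ D := hD
  rcases eq_or_lt_of_le hqp with h | h
  · -- `p0` is a minimal prime of the support with `dim R/p0 = D`
    have hp0min : p0.1.asIdeal ∈ (Module.annihilator R M).minimalPrimes := by rw [← h]; exact hq
    have hdim : ringKrullDim (R ⧸ p0.1.asIdeal) = D := by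
      apply le_antisymm
      · rw [ringKrullDim_quotient]
        refine le_trans ?_ hkd
        apply Order.krullDim_le_of_strictMono
          (f := fun x : PrimeSpectrum.zeroLocus (R := R) p0.1.asIdeal =>
            (⟨x.1, Module.mem_support_iff_of_finite.mpr
              (hp0a.trans ((PrimeSpectrum.mem_zeroLocus _ _).1 x.2))⟩ : Module.support R M))
        intro x y hxy
        exact hxy
      · rw [ringKrullDim_quotient]
        let l'' : LTSeries (PrimeSpectrum.zeroLocus (R := R) p0.1.asIdeal) :=
          { length := l.length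
            toFun := fun i => ⟨(l i).1, by
              rw [PrimeSpectrum.mem_zeroLocus]
              exact LTSeries.head_le lM i⟩
            step := fun i => l.step i }
        have h1 := Order.LTSeries.length_le_krullDim l''
        refine le_trans ?_ h1
        change ((D : ℕ) : WithBot ℕ∞) ≤ ((l.length : ℕ) : WithBot ℕ∞)
        exact_mod_cast hlen
    exact hf _ hp0min hdim hp0f
  · have hhead : (⟨⟨q, hqprime⟩, hqsupp⟩ : Module.support R M) < RelSeries.head lM := h
    have h3 := Order.LTSeries.length_le_krullDim (lM.cons ⟨⟨q, hqprime⟩, hqsupp⟩ hhead)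
    have h5 : (lM.cons ⟨⟨q, hqprime⟩, hqsupp⟩ hhead).length = l.length + 1 := by
      rw [RelSeries.cons_length]
      rfl
    rw [h5] at h3
    have h6 : ((l.length + 1 : ℕ) : WithBot ℕ∞) ≤ (D : WithBot ℕ∞) := h3.trans hkd
    have h7 : l.length + 1 ≤ D := by exact_mod_cast h6
    omega

/-- a maximal ideal contains an element cutting down the dimension of a finite module of
positive dimension -/
theorem exists_mem_supportDim_quot_lt [IsNoetherianRing R] [Module.Finite R M] (m : Ideal R)
    [hm : m.IsMaximal] (D : ℕ) (h1 : 1 ≤ D) (hD : Module.supportDim R M ≤ D) :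
    ∃ f ∈ m, Module.supportDim R (M ⧸ LinearMap.range (LinearMap.lsmul R M f)) <
      (D : WithBot ℕ∞) := by
  classical
  have hfin : ((Module.annihilator R M).minimalPrimes).Finite :=
    Ideal.finite_minimalPrimes_of_isNoetherianRing R _
  let S : Finset (Ideal R) := hfin.toFinset.filter (fun p => ringKrullDim (R ⧸ p) = D)
  have hex : ∃ f ∈ m, ∀ p ∈ (Module.annihilator R M).minimalPrimes,
      ringKrullDim (R ⧸ p) = D → f ∉ p := by
    by_contra hcon
    push Not at hcon
    have hsub : (m : Set R) ⊆ ⋃ p ∈ (S : Set (Ideal R)), ((id p : Ideal R) : Set R) := by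
      intro f hf
      obtain ⟨p, hp, hpd, hfp⟩ := hcon f hf
      refine Set.mem_biUnion (x := p) ?_ hfp
      simp only [S, Finset.coe_filter, Set.Finite.mem_toFinset, Set.mem_ofPred_eq]
      exact ⟨hp, hpd⟩
    have hprime : ∀ p ∈ S, p ≠ (⊥ : Ideal R) → p ≠ (⊥ : Ideal R) → (id p : Ideal R).IsPrime := by
      intro p hp _ _
      simp only [S, Finset.mem_filter, Set.Finite.mem_toFinset] at hp
      exact hp.1.1.1
    obtain ⟨p, hpS, hmp⟩ := (Ideal.subset_union_prime (s := S) (f := id) ⊥ ⊥ hprime).1 hsub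
    simp only [S, Finset.mem_filter, Set.Finite.mem_toFinset] at hpS
    have hpprime : p.IsPrime := hpS.1.1.1
    have hmp' : m = p := hm.eq_of_le hpprime.ne_top hmp
    have hdim : ringKrullDim (R ⧸ p) = D := hpS.2
    rw [← hmp'] at hdim
    letI := Ideal.Quotient.field m
    rw [ringKrullDim_eq_zero_of_field] at hdim
    have : (0 : ℕ) = D := by exact_mod_cast hdim
    omega
  obtain ⟨f, hfm, hf⟩ := hex
  exact ⟨f, hfm, supportDim_quot_lt_of_notMem D hD f hf⟩

end Cut

section Std

variable {k : Type u} [Field k] {A : Type u} [CommRing A] [Algebra k A] [IsNoetherianRing A]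
  {𝒜 : ℤ → Submodule k A} [GradedAlgebra 𝒜]
  {X : Type u} [AddCommGroup X] [Module A X] [Module.Finite A X] {𝒳 : ℤ → AddSubgroup X}
  [DirectSum.Decomposition 𝒳] [SetLike.GradedSMul 𝒜 𝒳]
  (E : GrLC.StarInjRes 𝒜 𝒳) (m : HomogeneousIdeal 𝒜)
  (hpos : ∀ n : ℤ, n < 0 → 𝒜 n = ⊥) (h0 : 𝒜 0 = Submodule.span k {(1 : A)})
  (hm : m.toIdeal = Ideal.span (⋃ n ∈ Set.Ioi (0 : ℤ), (𝒜 n : Set A)))
  (hstd : Ideal.span (⋃ n ∈ Set.Ioi (0 : ℤ), (𝒜 n : Set A)) =
    Ideal.span ((𝒜 1 : Submodule k A) : Set A))

include hpos h0 hm hstd in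
/-- over a standard graded algebra, a vanishing piece of the top local cohomology of a module of
positive dimension forces the next piece to vanish -/
theorem Hcomp_top_succ_eq_bot [Nontrivial X] (D : ℕ) (h1 : 1 ≤ D)
    (hD : Module.supportDim A X ≤ D) (n : ℤ) (hn : E.Hcomp m D n = ⊥) :
    E.Hcomp m D (n + 1) = ⊥ := by
  haveI : Nontrivial A := (Module.nontrivial A X)
  have hpos' := toAdd_eq_bot_of_neg hpos
  have hloc := isStarLocal_toAddH hpos h0 m hm
  haveI hmax : (HomogeneousIdeal.toAddH 𝒜 m).toIdeal.IsMaximal :=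
    isMaximal_of_isStarLocal hpos' _ hloc
  haveI hmax' : m.toIdeal.IsMaximal := hmax
  obtain ⟨f, hfm, hf⟩ := exists_mem_supportDim_quot_lt (M := X) m.toIdeal D h1 hD
  have hs0 := smul_surjective_LC_of_supportDim m.toIdeal D X hD f hf
  have hs : Function.Surjective (fun y : E.H m D => f • y) := by
    obtain ⟨ε⟩ := nonempty_H_equiv_LC' E m D
    intro y
    obtain ⟨z, hz⟩ := hs0 (ε y)
    refine ⟨ε.symm z, ?_⟩
    show f • ε.symm z = y
    rw [← map_smul]
    apply ε.injective
    rw [LinearEquiv.apply_symm_apply]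
    exact hz
  have hf1 : f ∈ Ideal.span ((toAdd 𝒜 1 : AddSubgroup A) : Set A) := by
    rw [hm, hstd] at hfm
    exact hfm
  exact Hcomp_succ_eq_bot_of_smul_surjective (StarInjRes.toAddR 𝒜 E 𝒳 (fun _ _ h => h))
    (HomogeneousIdeal.toAddH 𝒜 m) D hf1 hs n hn

include hpos h0 hm hstd in
/-- over a standard graded algebra, the top local cohomology of a module of positive dimension
is nonzero in all sufficiently negative degrees -/
theorem exists_forall_le_Hcomp_ne_bot [Nontrivial X] (D : ℕ) (h1 : 1 ≤ D)
    (hD : Module.supportDim A X = D) : ∃ d₀ : ℤ, ∀ d : ℤ, d ≤ d₀ → E.Hcomp m D d ≠ ⊥ := by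
  obtain ⟨d₀, hd₀⟩ := exists_Hcomp_ne_bot_top E m hpos h0 hm D hD
  refine ⟨d₀, ?_⟩
  have key : ∀ t : ℕ, E.Hcomp m D (d₀ - t) ≠ ⊥ := by
    intro t
    induction t with
    | zero => simpa using hd₀
    | succ t ih =>
      intro h
      apply ih
      have := Hcomp_top_succ_eq_bot E m hpos h0 hm hstd D h1 (le_of_eq hD) _ h
      have he : d₀ - ((t + 1 : ℕ) : ℤ) + 1 = d₀ - (t : ℤ) := by
        push_cast
        ring
      rwa [he] at this
  intro d hd
  obtain ⟨t, ht⟩ := Int.eq_ofNat_of_zero_le (by omega : 0 ≤ d₀ - d)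
  have : d = d₀ - (t : ℤ) := by omega
  rw [this]
  exact key t

end Std

end Groth.Agent.Helper20.GrSD
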