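import Mathlib
import Groth.Prelude
import Groth.Agent.Lib.Helper20.GrSD1
import Groth.Agent.Lib.Helper23.BassB1
import Groth.Agent.Lib.Helper20.GrKos8

/-!
# The dimension of a Segre product of non-Artinian graded modules over standard graded algebras
(helper20)
-/

set_option autoImplicit false

open DirectSum TensorProduct

namespace Groth.Agent.Helper20.GrSD

open Groth.Agent.Helper20.GrInj Groth.Agent.Helper8 Groth.Agent.Helper20.GrSM
  Groth.Agent.Helper20.Seg Groth.Agent.Helper20.SegFin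

universe u

section Art

variable {k : Type u} [Field k] {A : Type u} [CommRing A] [Algebra k A] [IsNoetherianRing A]
  {𝒜 : ℤ → Submodule k A} [GradedAlgebra 𝒜]
  {X : Type u} [AddCommGroup X] [Module A X] [Module.Finite A X] (𝒳 : ℤ → AddSubgroup X)
  [DirectSum.Decomposition 𝒳] [SetLike.GradedSMul 𝒜 𝒳]
  (m : HomogeneousIdeal 𝒜)
  (hpos : ∀ n : ℤ, n < 0 → 𝒜 n = ⊥) (h0 : 𝒜 0 = Submodule.span k {(1 : A)})
  (hm : m.toIdeal = Ideal.span (⋃ n ∈ Set.Ioi (0 : ℤ), (𝒜 n : Set A)))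

include 𝒳 hpos h0 hm in
/-- a finitely generated graded module of dimension `≤ 0` is Artinian -/
theorem isArtinian_of_supportDim_le_zero [Nontrivial A] (hdim : Module.supportDim A X ≤ 0) :
    IsArtinian A X := by
  have hpos' := toAdd_eq_bot_of_neg hpos
  have hloc := isStarLocal_toAddH hpos h0 m hm
  haveI hmax : (HomogeneousIdeal.toAddH 𝒜 m).toIdeal.IsMaximal :=
    isMaximal_of_isStarLocal hpos' _ hloc
  let E := starInjRes (toAdd 𝒜) 𝒳
  haveI : Module.Finite A (GrLC.GMod.of (toAdd 𝒜) X 𝒳).carrier :=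
    (inferInstance : Module.Finite A X)
  have htop := Groth.Agent.Helper23.BassB.gam_eq_top_of_supportDim_le_zero
    (HomogeneousIdeal.toAddH 𝒜 m) hloc (GrLC.GMod.of (toAdd 𝒜) X 𝒳) hdim
  haveI : IsArtinian A (E.H (HomogeneousIdeal.toAddH 𝒜 m) 0) :=
    H_isArtinian_of_isMaximal E (HomogeneousIdeal.toAddH 𝒜 m) 0
  haveI : IsArtinian A ↥(GrLC.gam (HomogeneousIdeal.toAddH 𝒜 m).toIdeal X) :=
    isArtinian_of_injective (gamToH E (HomogeneousIdeal.toAddH 𝒜 m))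
      (gamToH_injective E (HomogeneousIdeal.toAddH 𝒜 m))
  have htop' : GrLC.gam (HomogeneousIdeal.toAddH 𝒜 m).toIdeal X = ⊤ := htop
  let ι : X →ₗ[A] ↥(GrLC.gam (HomogeneousIdeal.toAddH 𝒜 m).toIdeal X) :=
    LinearMap.codRestrict _ LinearMap.id (fun x => by rw [htop']; exact Submodule.mem_top)
  refine isArtinian_of_injective ι ?_
  intro x y hxy
  exact congrArg Subtype.val hxy

end Art

section Main

variable (k : Type u) [Field k] (R : Type u) [CommRing R] [Algebra k R]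
    (𝒜 : ℤ → Submodule k R) [GradedAlgebra 𝒜] (hposR : ∀ n : ℤ, n < 0 → 𝒜 n = ⊥)
    (h0R : 𝒜 0 = Submodule.span k {(1 : R)}) [Algebra.FiniteType k R]
    (S : Type u) [CommRing S] [Algebra k S] (ℬ : ℤ → Submodule k S)
    [GradedAlgebra ℬ] (hposS : ∀ n : ℤ, n < 0 → ℬ n = ⊥)
    (h0S : ℬ 0 = Submodule.span k {(1 : S)}) [Algebra.FiniteType k S]
    (T : Type u) [CommRing T] [Algebra k T] (𝒯 : ℤ → Submodule k T) [GradedAlgebra 𝒯]
    (ψ : T →ₐ[k] R ⊗[k] S) (hT : GrSeg.IsSegreRing 𝒜 ℬ 𝒯 ψ)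
    (hstdR : Ideal.span (⋃ n ∈ Set.Ioi (0 : ℤ), (𝒜 n : Set R)) =
      Ideal.span ((𝒜 1 : Submodule k R) : Set R))
    (hstdS : Ideal.span (⋃ n ∈ Set.Ioi (0 : ℤ), (ℬ n : Set S)) =
      Ideal.span ((ℬ 1 : Submodule k S) : Set S))
    (M : Type u) [AddCommGroup M] [Module R M] [Module k M] [IsScalarTower k R M]
    (ℳ : ℤ → AddSubgroup M) [DirectSum.Decomposition ℳ] [SetLike.GradedSMul 𝒜 ℳ]
    [Module.Finite R M]
    (N : Type u) [AddCommGroup N] [Module S N] [Module k N] [IsScalarTower k S N]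
    (𝒩 : ℤ → AddSubgroup N) [DirectSum.Decomposition 𝒩] [SetLike.GradedSMul ℬ 𝒩]
    [Module.Finite S N]
    (P : Type u) [AddCommGroup P] [Module T P] [Module k P] [IsScalarTower k T P]
    (𝒬 : ℤ → AddSubgroup P) [DirectSum.Decomposition 𝒬]
    (φ : P →ₗ[k] M ⊗[k] N) (hP : GrSeg.IsSegreMod ψ ℳ 𝒩 𝒬 φ)

include hposR h0R hposS h0S hT hstdR hstdS hP in
/-- **the dimension of a Segre product of graded modules of positive dimensions over standard
graded algebras** -/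
theorem segre_supportDim_of_std (dM dN : ℕ) (h1M : 1 ≤ dM) (h1N : 1 ≤ dN)
    (hdM : Module.supportDim R M = dM) (hdN : Module.supportDim S N = dN) :
    Module.supportDim T P = ((dM + dN - 1 : ℕ) : WithBot ℕ∞) := by
  haveI : Nontrivial M := by
    rw [← Module.supportDim_ne_bot_iff_nontrivial R, hdM]
    exact WithBot.coe_ne_bot
  haveI : Nontrivial N := by
    rw [← Module.supportDim_ne_bot_iff_nontrivial S, hdN]
    exact WithBot.coe_ne_bot
  haveI : Nontrivial R := Module.nontrivial R M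
  haveI : Nontrivial S := Module.nontrivial S N
  haveI : IsNoetherianRing R := Algebra.FiniteType.isNoetherianRing k R
  haveI : IsNoetherianRing S := Algebra.FiniteType.isNoetherianRing k S
  haveI := gradedSMul_of_isSegreMod hT hP
  haveI : IsNoetherianRing T := Groth.Agent.Helper27.Segre.isNoetherianRing 𝒜 ℬ 𝒯 ψ hT.2 hT.1
  haveI : Nontrivial T := segre_nontrivial hT
  have hposT := segre_hpos hT hposR
  have h0T := segre_h0 hT h0R h0S
  haveI : Module.Finite T P := finite_of_isSegreMod hT hP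
  let mR := irrelK 𝒜
  have hmR : mR.toIdeal = Ideal.span (⋃ n ∈ Set.Ioi (0 : ℤ), (𝒜 n : Set R)) := rfl
  let mS := irrelK ℬ
  have hmS : mS.toIdeal = Ideal.span (⋃ n ∈ Set.Ioi (0 : ℤ), (ℬ n : Set S)) := rfl
  let mT := irrelK 𝒯
  have hmT : mT.toIdeal = Ideal.span (⋃ n ∈ Set.Ioi (0 : ℤ), (𝒯 n : Set T)) := rfl
  let EM := starInjRes 𝒜 ℳ
  let EN := starInjRes ℬ 𝒩
  let EP := starInjRes 𝒯 𝒬
  have dims := segre_dims k R 𝒜 hposR h0R S ℬ hposS h0S T 𝒯 ψ hT mR hmR mS hmS mT hmT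
      M ℳ EM N 𝒩 EN P 𝒬 φ hP EP
  have hbotT : ∀ (q : ℕ) (n : ℤ), EP.Hcomp mT q n = ⊥ ↔
      Module.finrank (GrLC.deg0 𝒯) (EP.Hcomp mT q n) = 0 := fun q n =>
    Hcomp_eq_bot_iff_finrank EP mT hposT h0T hmT q n
  have hbotR : ∀ (q : ℕ) (n : ℤ), EM.Hcomp mR q n = ⊥ ↔
      Module.finrank (GrLC.deg0 𝒜) (EM.Hcomp mR q n) = 0 := fun q n =>
    Hcomp_eq_bot_iff_finrank EM mR hposR h0R hmR q n
  have hbotS : ∀ (q : ℕ) (n : ℤ), EN.Hcomp mS q n = ⊥ ↔
      Module.finrank (GrLC.deg0 ℬ) (EN.Hcomp mS q n) = 0 := fun q n =>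
    Hcomp_eq_bot_iff_finrank EN mS hposS h0S hmS q n
  apply supportDim_eq_of_Hcomp EP mT hposT h0T hmT (dM + dN - 1)
  · -- nonvanishing in a common very negative degree
    obtain ⟨d₁, hd₁⟩ := exists_forall_le_Hcomp_ne_bot EM mR hposR h0R hmR hstdR dM h1M hdM
    obtain ⟨d₂, hd₂⟩ := exists_forall_le_Hcomp_ne_bot EN mS hposS h0S hmS hstdS dN h1N hdN
    refine ⟨min d₁ d₂, ?_⟩
    have hA := hd₁ (min d₁ d₂) (min_le_left _ _)
    have hB := hd₂ (min d₁ d₂) (min_le_right _ _)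
    rw [Ne, hbotR] at hA
    rw [Ne, hbotS] at hB
    rw [Ne, hbotT]
    obtain ⟨ρ, ρ', h, h', h1, h2, h3, h4, h5, h6, h7, h8, h9⟩ := dims (min d₁ d₂)
    obtain ⟨a, ha⟩ : ∃ a : ℕ → ℕ, ∀ q, a q =
        Module.finrank (GrLC.deg0 𝒜) (EM.Hcomp mR q (min d₁ d₂)) := ⟨_, fun _ => rfl⟩
    obtain ⟨b, hb⟩ : ∃ b : ℕ → ℕ, ∀ q, b q =
        Module.finrank (GrLC.deg0 ℬ) (EN.Hcomp mS q (min d₁ d₂)) := ⟨_, fun _ => rfl⟩
    obtain ⟨t, ht⟩ : ∃ t : ℕ → ℕ, ∀ q, t q =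
        Module.finrank (GrLC.deg0 𝒯) (EP.Hcomp mT q (min d₁ d₂)) := ⟨_, fun _ => rfl⟩
    rw [← ha] at hA
    rw [← hb] at hB
    rw [← ht]
    have key := segre_top_le_arith a b t h h' ρ ρ' dM dN h1M h1N
      (by rw [ha]; exact h2) (fun i => by rw [ha]; exact h3 i)
      (by rw [hb]; exact h5) (fun i => by rw [hb]; exact h6 i)
      (by rw [ht]; exact h8) (fun q => by rw [ht]; exact h9 q)
    have hpos : 0 < a dM * b dN := Nat.mul_pos (Nat.pos_of_ne_zero hA) (Nat.pos_of_ne_zero hB)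
    omega
  · intro Q hQ n
    rw [hbotT]
    obtain ⟨ρ, ρ', h, h', h1, h2, h3, h4, h5, h6, h7, h8, h9⟩ := dims n
    obtain ⟨a, ha⟩ : ∃ a : ℕ → ℕ, ∀ q, a q =
        Module.finrank (GrLC.deg0 𝒜) (EM.Hcomp mR q n) := ⟨_, fun _ => rfl⟩
    obtain ⟨b, hb⟩ : ∃ b : ℕ → ℕ, ∀ q, b q =
        Module.finrank (GrLC.deg0 ℬ) (EN.Hcomp mS q n) := ⟨_, fun _ => rfl⟩
    obtain ⟨t, ht⟩ : ∃ t : ℕ → ℕ, ∀ q, t q =
        Module.finrank (GrLC.deg0 𝒯) (EP.Hcomp mT q n) := ⟨_, fun _ => rfl⟩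
    rw [← ht]
    apply segre_above_arith a b t h h' dM dN h1M h1N
    · intro q hq
      rw [ha, Hcomp_eq_bot_of_gt EM mR dM (le_of_eq hdM) q hq n]
      exact finrank_bot _ _
    · intro q hq
      rw [hb, Hcomp_eq_bot_of_gt EN mS dN (le_of_eq hdN) q hq n]
      exact finrank_bot _ _
    · intro i; rw [ha]; exact h3 i
    · intro i; rw [hb]; exact h6 i
    · intro q; rw [ht]; exact h9 q
    · omega

end Main

end Groth.Agent.Helper20.GrSD
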