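import Mathlib
import Groth.Prelude
import Groth.Agent.Lib.Helper20.GorPoly5
import Groth.Agent.Lib.Helper20.GrTop1
import Groth.Agent.Lib.Helper20.GrCx3
import Groth.Agent.Lib.Helper20.GrSM5

/-!
# The graded local cohomology of a standard graded polynomial ring over a field, and of its
shifts (helper20)
-/

set_option autoImplicit false

open DirectSum MvPolynomial Pointwise

attribute [local instance] MvPolynomial.weightedGradedAlgebra

namespace Groth.Agent.Helper20.GorType

open Groth.Agent.Helper20.GrInj Groth.Agent.Helper20.GorBr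

universe u

attribute [local instance] HgrDec Hgr_gradedSMul

section Tensor

variable {k : Type u} [Field k] {V W : Type u} [AddCommGroup V] [Module k V] [AddCommGroup W]
  [Module k W]

/-- over a field, a pure tensor of nonzero vectors is nonzero -/
theorem tmul_ne_zero_of_field {x : V} {y : W} (hx : x ≠ 0) (hy : y ≠ 0) :
    x ⊗ₜ[k] y ≠ 0 := by
  obtain ⟨f, hf⟩ : ∃ f : Module.Dual k V, f x ≠ 0 := by
    by_contra hcon
    push Not at hcon
    exact hx ((Module.forall_dual_apply_eq_zero_iff k x).1 hcon)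
  obtain ⟨g, hg⟩ : ∃ g : Module.Dual k W, g y ≠ 0 := by
    by_contra hcon
    push Not at hcon
    exact hy ((Module.forall_dual_apply_eq_zero_iff k y).1 hcon)
  intro h
  have h1 := congrArg (fun z => (TensorProduct.lid k k) (TensorProduct.map f g z)) h
  simp only [TensorProduct.map_tmul, TensorProduct.lid_tmul, map_zero, smul_eq_mul] at h1
  rcases mul_eq_zero.1 h1 with h2 | h2
  · exact hf h2
  · exact hg h2

end Tensor

section Poly

variable (k : Type u) [Field k] (N : ℕ)

/-- the pieces of a polynomial ring in at least one variable are nonzero exactly in nonnegative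
degrees -/
theorem Ap_eq_bot_iff (hN : 1 ≤ N) (j : ℤ) : Ap k N j = ⊥ ↔ j < 0 := by
  constructor
  · intro h
    by_contra hj
    push Not at hj
    obtain ⟨n, rfl⟩ := Int.eq_ofNat_of_zero_le hj
    have hmem : (X ⟨0, hN⟩ : MvPolynomial (Fin N) k) ^ n ∈ Ap k N (n : ℤ) := by
      rw [mem_Ap_iff]
      have := (isHomogeneous_X k (⟨0, hN⟩ : Fin N)).pow n
      rwa [one_mul] at this
    rw [h, AddSubgroup.mem_bot] at hmem
    exact pow_ne_zero n (X_ne_zero _) hmem
  · exact Ap_eq_bot_of_neg k N j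

theorem isField_deg0_Ap : IsField (GrLC.deg0 (Ap k N)) := isField_deg0_weighted (w1 N) (hw1 N)

theorem isStarLocal_irr_Ap : GrLC.IsStarLocal (Ap k N) (irr (Ap k N)) :=
  isStarLocal_irr (Ap_eq_bot_of_neg k N) (isField_deg0_Ap k N)

theorem isMaximal_irr_Ap : (irr (Ap k N)).toIdeal.IsMaximal :=
  isMaximal_of_isStarLocal (Ap_eq_bot_of_neg k N) _ (isStarLocal_irr_Ap k N)

variable (I : GrLC.StarInjRes (Ap k N) (Ap k N))

/-- vanishing of the local cohomology of the polynomial ring off the dimension -/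
theorem H_Ap_subsingleton_of_ne (q : ℕ) (hq : q ≠ N) : Subsingleton (I.H (irr (Ap k N)) q) := by
  rcases Nat.lt_or_ge q N with h | h
  · obtain ⟨h1, -⟩ := isSocAt_weighted' k N (w1 N) (hw1 N) (irr (Ap k N)) (irr_toIdeal _) I
    exact ⟨fun x y => (h1 q h x).trans (h1 q h y).symm⟩
  · obtain ⟨e⟩ := nonempty_H_equiv_LC I (irr (Ap k N)) q
    have hD : Module.supportDim (MvPolynomial (Fin N) k) (MvPolynomial (Fin N) k) ≤ (N : ℕ) := by
      rw [Module.supportDim_self_eq_ringKrullDim, ringKrullDim_mvPolynomial_fin]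
    haveI := Groth.Agent.Helper20.GrSM.LC_subsingleton_of_gt (irr (Ap k N)).toIdeal N hD q
      (by omega)
    exact e.toEquiv.subsingleton

theorem Hcomp_Ap_eq_bot_of_ne (q : ℕ) (hq : q ≠ N) (j : ℤ) :
    I.Hcomp (irr (Ap k N)) q j = ⊥ := by
  haveI := H_Ap_subsingleton_of_ne k N I q hq
  rw [eq_bot_iff]
  intro x _
  rw [Submodule.mem_bot]
  exact Subsingleton.elim _ _

theorem Hcomp_Ap_top_eq_bot_of_gt (j : ℤ) (hj : -(N : ℤ) < j) :
    I.Hcomp (irr (Ap k N)) N j = ⊥ := by
  have hpos := Ap_eq_bot_of_neg k N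
  obtain ⟨-, hs⟩ := isSocAt_weighted' k N (w1 N) (hw1 N) (irr (Ap k N)) (irr_toIdeal _) I
  have hsum : (∑ i : Fin N, w1 N i) = (N : ℤ) := by
    simp
  rw [hsum] at hs
  have hsm : ∀ (i j : ℤ) (r : MvPolynomial (Fin N) k) (w : I.H (irr (Ap k N)) N),
      r ∈ Ap k N i → w ∈ I.Hgr (irr (Ap k N)) N j → r • w ∈ I.Hgr (irr (Ap k N)) N (i + j) := by
    intro i j r w hr hw
    have := SetLike.GradedSMul.smul_mem (A := Ap k N) (B := I.Hgr (irr (Ap k N)) N) hr hw
    rwa [vadd_eq_add] at this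
  have htor := exists_pow_smul_H_eq_zero I (irr (Ap k N)) N
  have htop : I.Hgr (irr (Ap k N)) N j = ⊥ :=
    eq_bot_of_isSocAt_of_lt (irr (Ap k N)) hsm hpos htor hs hj
  rw [eq_bot_iff]
  intro x hx
  have : x ∈ I.Hgr (irr (Ap k N)) N j := hx
  rw [htop, AddSubgroup.mem_bot] at this
  rw [Submodule.mem_bot]
  exact this

theorem Hcomp_Ap_top_ne_bot (hN : 1 ≤ N) (t : ℕ) :
    I.Hcomp (irr (Ap k N)) N (-(N : ℤ) - t) ≠ ⊥ := by
  induction t with
  | zero =>
    obtain ⟨-, hs⟩ := isSocAt_weighted' k N (w1 N) (hw1 N) (irr (Ap k N)) (irr_toIdeal _) I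
    have hsum : (∑ i : Fin N, w1 N i) = (N : ℤ) := by
      simp
    rw [hsum] at hs
    obtain ⟨-, w₀, hw₀, hw₀0, -, -⟩ := hs
    intro h
    have : w₀ ∈ I.Hcomp (irr (Ap k N)) N (-(N : ℤ)) := hw₀
    rw [Nat.cast_zero, sub_zero] at h
    rw [h, Submodule.mem_bot] at this
    exact hw₀0 this
  | succ t ih =>
    intro h
    apply ih
    haveI := isMaximal_irr_Ap k N
    obtain ⟨f, hfm, hf⟩ := exists_smul_surjective_H_top I (irr (Ap k N)) N
      (ringKrullDim_mvPolynomial_fin k N) hN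
    have hf1 : f ∈ Ideal.span ((Ap k N 1 : AddSubgroup (MvPolynomial (Fin N) k)) :
        Set (MvPolynomial (Fin N) k)) := by
      rw [← hstd_Ap, ← irr_toIdeal]
      exact hfm
    have := Hcomp_succ_eq_bot_of_smul_surjective I (irr (Ap k N)) N hf1 hf _ h
    have he : -(N : ℤ) - ((t + 1 : ℕ) : ℤ) + 1 = -(N : ℤ) - (t : ℤ) := by
      push_cast
      ring
    rwa [he] at this

/-- **the top local cohomology of the polynomial ring lives exactly in degrees `≤ -N`** -/
theorem Hcomp_Ap_top_eq_bot_iff (hN : 1 ≤ N) (j : ℤ) :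
    I.Hcomp (irr (Ap k N)) N j = ⊥ ↔ -(N : ℤ) < j := by
  constructor
  · intro h
    by_contra hj
    push Not at hj
    obtain ⟨t, ht⟩ := Int.eq_ofNat_of_zero_le (by omega : 0 ≤ -(N : ℤ) - j)
    apply Hcomp_Ap_top_ne_bot k N I hN t
    have : -(N : ℤ) - (t : ℤ) = j := by omega
    rw [this]
    exact h
  · exact Hcomp_Ap_top_eq_bot_of_gt k N I j

end Poly

end Groth.Agent.Helper20.GorType
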