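import Mathlib
import Groth.Prelude
import Groth.Agent.Lib.Helper20.GrSP1
import Groth.Agent.Lib.Helper20.GrSM8

/-!
# The graded local cohomology of the shifts of a standard graded polynomial ring over a field,
for the grading by subspaces (helper20)
-/

set_option autoImplicit false

open DirectSum MvPolynomial Pointwise

attribute [local instance] MvPolynomial.weightedGradedAlgebra

namespace Groth.Agent.Helper20.GorType

open Groth.Agent.Helper20.GrInj Groth.Agent.Helper20.GorBr

universe u

section PolyK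

variable (k : Type u) [Field k] (N : ℕ)
  (m : HomogeneousIdeal (Wp k N))
  (hm : m.toIdeal = Ideal.span (⋃ n ∈ Set.Ioi (0 : ℤ),
    (Wp k N n : Set (MvPolynomial (Fin N) k))))

include hm in
theorem toAddH_eq_irr : HomogeneousIdeal.toAddH (Wp k N) m = irr (Ap k N) := by
  apply HomogeneousIdeal.toIdeal_injective
  rw [HomogeneousIdeal.toAddH_toIdeal, hm, irr_toIdeal]
  rfl

theorem Wp_eq_bot_of_neg (n : ℤ) (hn : n < 0) : Wp k N n = ⊥ := by
  rw [eq_bot_iff]
  intro x hx
  have : x ∈ Ap k N n := hx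
  rw [Ap_eq_bot_of_neg k N n hn, AddSubgroup.mem_bot] at this
  rw [Submodule.mem_bot]
  exact this

theorem Wp_zero : Wp k N 0 = Submodule.span k {(1 : MvPolynomial (Fin N) k)} := by
  apply le_antisymm
  · intro x hx
    rw [mem_weightedHomogeneousSubmodule] at hx
    have hx0 : x = C (coeff 0 x) := by
      ext d
      rw [coeff_C]
      split_ifs with hd
      · rw [hd]
      · by_contra hne
        have h1 := hx hne
        rw [weight_w1] at h1
        have h2 : d.degree = 0 := by exact_mod_cast h1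
        rw [Finsupp.degree_eq_zero_iff] at h2
        exact hd h2.symm
    rw [hx0, Submodule.mem_span_singleton]
    refine ⟨coeff 0 x, ?_⟩
    rw [Algebra.smul_def, mul_one]
    rfl
  · rw [Submodule.span_le, Set.singleton_subset_iff]
    exact SetLike.GradedOne.one_mem (A := Wp k N)

variable (E0 : GrLC.StarInjRes (Wp k N) (Ap k N))

include hm in
theorem HcompK_eq_bot_of_ne (q : ℕ) (hq : q ≠ N) (j : ℤ) : E0.Hcomp m q j = ⊥ := by
  have h := Hcomp_Ap_eq_bot_of_ne k N
    (StarInjRes.toAddR (Wp k N) E0 (Ap k N) (fun _ _ h => h)) q hq j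
  rw [← toAddH_eq_irr k N m hm] at h
  exact h

include hm in
theorem HcompK_top_eq_bot_iff (hN : 1 ≤ N) (j : ℤ) : E0.Hcomp m N j = ⊥ ↔ -(N : ℤ) < j := by
  have h := Hcomp_Ap_top_eq_bot_iff k N
    (StarInjRes.toAddR (Wp k N) E0 (Ap k N) (fun _ _ h => h)) hN j
  rw [← toAddH_eq_irr k N m hm] at h
  exact h

end PolyK

section Shift

variable {ι : Type} [AddCommGroup ι] [DecidableEq ι]
variable {R : Type u} [CommRing R]
variable {σ : Type u} [SetLike σ R] [AddSubgroupClass σ R] {𝒜 : ι → σ} [GradedRing 𝒜]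
variable {M : Type u} [AddCommGroup M] [Module R M] {ℳ : ι → AddSubgroup M}
  [DirectSum.Decomposition ℳ] [SetLike.GradedSMul 𝒜 ℳ]

theorem Hcomp_resShift_eq_bot_iff (E : GrLC.StarInjRes 𝒜 ℳ) (g : ι) (a : HomogeneousIdeal 𝒜)
    (i : ℕ) (j : ι) : (resShift E g).Hcomp a i j = ⊥ ↔ E.Hcomp a i (j + g) = ⊥ := by
  constructor
  · intro h
    rw [eq_bot_iff]
    intro x hx
    have hx' : (x : (resShift E g).H a i) ∈ (resShift E g).Hcomp a i j :=
      (mem_resShift_Hcomp E g a i j x).2 hx
    rw [h] at hx'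
    have h0 : (x : (resShift E g).H a i) = 0 := (Submodule.mem_bot _).1 hx'
    exact (Submodule.mem_bot (R := GrLC.deg0 𝒜) (M := E.H a i)).2 h0
  · intro h
    rw [eq_bot_iff]
    intro x hx
    have hx' : (x : E.H a i) ∈ E.Hcomp a i (j + g) :=
      (mem_resShift_Hcomp E g a i j x).1 hx
    rw [h] at hx'
    have h0 : (x : E.H a i) = 0 := (Submodule.mem_bot _).1 hx'
    exact (Submodule.mem_bot (R := GrLC.deg0 𝒜) (M := (resShift E g).H a i)).2 h0

end Shift

end Groth.Agent.Helper20.GorType
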