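import Mathlib
import Groth.Prelude
import Groth.Agent.Lib.Helper20.GrSP2

/-!
# The Segre product of shifted polynomial rings (helper20)
-/

set_option autoImplicit false

open DirectSum MvPolynomial Pointwise TensorProduct

attribute [local instance] MvPolynomial.weightedGradedAlgebra

namespace Groth.Agent.Helper20.GorType

open Groth.Agent.Helper20.GrInj Groth.Agent.Helper20.GorBr Groth.Agent.Helper20.Seg
  Groth.Agent.Helper20.GrSM Groth.Agent.Helper20.SegFin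

universe u

section SegPoly

variable (k : Type u) [Field k] (r s : ℕ) (h1r : 1 ≤ r) (h1s : 1 ≤ s)
  (T : Type u) [CommRing T] [Algebra k T] (𝒯 : ℤ → Submodule k T) [GradedAlgebra 𝒯]
  (ψ : T →ₐ[k] TensorProduct k (MvPolynomial (Fin r) k) (MvPolynomial (Fin s) k))
  (hT : GrSeg.IsSegreRing (Wp k r) (Wp k s) 𝒯 ψ)
  (mT : HomogeneousIdeal 𝒯)
  (hmT : mT.toIdeal = Ideal.span (⋃ n ∈ Set.Ioi (0 : ℤ), (𝒯 n : Set T)))
  (a b : ℤ) (P : Type u) [AddCommGroup P] [Module T P] [Module k P] [IsScalarTower k T P]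
  (𝒬 : ℤ → AddSubgroup P) [DirectSum.Decomposition 𝒬]
  (φ : P →ₗ[k] TensorProduct k (MvPolynomial (Fin r) k) (MvPolynomial (Fin s) k))
  (hP : GrSeg.IsSegreMod ψ (fun n : ℤ => Wp k r (n + a)) (fun n : ℤ => Wp k s (n + b)) 𝒬 φ)

include hP in
theorem isSegreMod_shiftGr :
    GrSeg.IsSegreMod ψ (shiftGr (Ap k r) a) (shiftGr (Ap k s) b) 𝒬 φ :=
  ⟨hP.injective, hP.image_piece, hP.map_smul⟩

include h1r h1s hP in
theorem nontrivial_of_isSegreMod_poly : Nontrivial P := by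
  -- a degree where both factors are nonzero
  obtain ⟨n, hna, hnb⟩ : ∃ n : ℤ, 0 ≤ n + a ∧ 0 ≤ n + b := ⟨max (-a) (-b), by omega, by omega⟩
  obtain ⟨x, hx, hx0⟩ : ∃ x ∈ Ap k r (n + a), x ≠ 0 := by
    by_contra hcon
    push Not at hcon
    have : Ap k r (n + a) = ⊥ := by
      rw [eq_bot_iff]
      intro x hx
      rw [AddSubgroup.mem_bot]
      exact hcon x hx
    rw [Ap_eq_bot_iff k r h1r] at this
    omega
  obtain ⟨y, hy, hy0⟩ : ∃ y ∈ Ap k s (n + b), y ≠ 0 := by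
    by_contra hcon
    push Not at hcon
    have : Ap k s (n + b) = ⊥ := by
      rw [eq_bot_iff]
      intro x hx
      rw [AddSubgroup.mem_bot]
      exact hcon x hx
    rw [Ap_eq_bot_iff k s h1s] at this
    omega
  have hxy : x ⊗ₜ[k] y ∈ (GrSeg.segrePiece k (fun n : ℤ => Wp k r (n + a))
      (fun n : ℤ => Wp k s (n + b)) n : Set _) :=
    Submodule.subset_span ⟨x, hx, y, hy, rfl⟩
  rw [← hP.image_piece n] at hxy
  obtain ⟨p, -, hp⟩ := hxy
  refine ⟨⟨p, 0, ?_⟩⟩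
  intro h
  rw [h, map_zero] at hp
  exact tmul_ne_zero_of_field hx0 hy0 hp.symm

include h1r h1s hT hmT hP in
/-- **the local cohomology of the Segre product of shifted polynomial rings**: the exact set of
nonvanishing pieces -/
theorem Hcomp_segre_poly_eq_bot_iff [SetLike.GradedSMul 𝒯 𝒬] (EP : GrLC.StarInjRes 𝒯 𝒬) (Q : ℕ)
    (n : ℤ) :
    EP.Hcomp mT Q n = ⊥ ↔
      ¬ ((Q = s ∧ 0 ≤ n + a ∧ n + b ≤ -(s : ℤ)) ∨ (Q = r ∧ n + a ≤ -(r : ℤ) ∧ 0 ≤ n + b) ∨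
         (Q + 1 = r + s ∧ n + a ≤ -(r : ℤ) ∧ n + b ≤ -(s : ℤ))) := by
  have hposR := Wp_eq_bot_of_neg k r
  have h0R := Wp_zero k r
  have hposS := Wp_eq_bot_of_neg k s
  have h0S := Wp_zero k s
  let mR := irrelK (Wp k r)
  have hmR : mR.toIdeal = Ideal.span (⋃ n ∈ Set.Ioi (0 : ℤ),
    (Wp k r n : Set (MvPolynomial (Fin r) k))) := rfl
  let mS := irrelK (Wp k s)
  have hmS : mS.toIdeal = Ideal.span (⋃ n ∈ Set.Ioi (0 : ℤ),
    (Wp k s n : Set (MvPolynomial (Fin s) k))) := rfl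
  let E0R := starInjRes (Wp k r) (Ap k r)
  let E0S := starInjRes (Wp k s) (Ap k s)
  let EM := resShift E0R a
  let EN := resShift E0S b
  have hP' := isSegreMod_shiftGr k r s T ψ a b P 𝒬 φ hP
  haveI : IsNoetherianRing T :=
    Groth.Agent.Helper27.Segre.isNoetherianRing (Wp k r) (Wp k s) 𝒯 ψ hT.2 hT.1
  haveI : Nontrivial T := segre_nontrivial hT
  have hposT := segre_hpos hT hposR
  have h0T := segre_h0 hT h0R h0S
  haveI : Module.Finite T P := finite_of_isSegreMod hT hP'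
  have hMq : ∀ (q : ℕ) (n : ℤ), EM.Hcomp mR q n = ⊥ ↔ (q ≠ r ∨ -(r : ℤ) < n + a) := by
    intro q n
    rw [Hcomp_resShift_eq_bot_iff]
    by_cases hq : q = r
    · subst hq
      rw [HcompK_top_eq_bot_iff k q mR hmR E0R h1r]
      simp
    · simp only [ne_eq, hq, not_false_eq_true, true_or, iff_true]
      exact HcompK_eq_bot_of_ne k r mR hmR E0R q hq _
  have hNq : ∀ (q : ℕ) (n : ℤ), EN.Hcomp mS q n = ⊥ ↔ (q ≠ s ∨ -(s : ℤ) < n + b) := by
    intro q n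
    rw [Hcomp_resShift_eq_bot_iff]
    by_cases hq : q = s
    · subst hq
      rw [HcompK_top_eq_bot_iff k q mS hmS E0S h1s]
      simp
    · simp only [ne_eq, hq, not_false_eq_true, true_or, iff_true]
      exact HcompK_eq_bot_of_ne k s mS hmS E0S q hq _
  have hvanM : ∀ q : ℕ, q ≠ r → ∀ n : ℤ, EM.Hcomp mR q n = ⊥ := fun q hq n =>
    (hMq q n).2 (Or.inl hq)
  have hvanN : ∀ q : ℕ, q ≠ s → ∀ n : ℤ, EN.Hcomp mS q n = ⊥ := fun q hq n =>
    (hNq q n).2 (Or.inl hq)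
  have formula := segre_mod_formula k (MvPolynomial (Fin r) k) (Wp k r) hposR h0R
    (MvPolynomial (Fin s) k) (Wp k s) hposS h0S T 𝒯 ψ hT mR hmR mS hmS mT hmT
    (MvPolynomial (Fin r) k) (shiftGr (Ap k r) a) EM (MvPolynomial (Fin s) k)
    (shiftGr (Ap k s) b) EN P 𝒬 φ hP' EP r s h1r h1s hvanM hvanN Q n
  have hbotR : ∀ (q : ℕ) (n : ℤ), EM.Hcomp mR q n = ⊥ ↔
      Module.finrank (GrLC.deg0 (Wp k r)) (EM.Hcomp mR q n) = 0 := fun q n =>
    Hcomp_eq_bot_iff_finrank EM mR hposR h0R hmR q n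
  have hbotS : ∀ (q : ℕ) (n : ℤ), EN.Hcomp mS q n = ⊥ ↔
      Module.finrank (GrLC.deg0 (Wp k s)) (EN.Hcomp mS q n) = 0 := fun q n =>
    Hcomp_eq_bot_iff_finrank EN mS hposS h0S hmS q n
  have hbotA := piece_eq_bot_iff_finrank (Wp k r) (shiftGr (Ap k r) a) hposR h0R
  have hbotB := piece_eq_bot_iff_finrank (Wp k s) (shiftGr (Ap k s) b) hposS h0S
  have hA : ∀ n : ℤ, shiftGr (Ap k r) a n = ⊥ ↔ n + a < 0 := fun n => Ap_eq_bot_iff k r h1r _
  have hB : ∀ n : ℤ, shiftGr (Ap k s) b n = ⊥ ↔ n + b < 0 := fun n => Ap_eq_bot_iff k s h1s _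
  rw [Hcomp_eq_bot_iff_finrank EP mT hposT h0T hmT Q n, formula, Nat.add_eq_zero_iff,
    Nat.add_eq_zero_iff, Nat.mul_eq_zero, Nat.mul_eq_zero, ← hbotA, ← hbotS, ← hbotR, ← hbotB,
    hA, hB, hMq, hNq]
  by_cases hQ : Q + 1 = r + s
  · rw [if_pos hQ, Nat.mul_eq_zero, ← hbotR, ← hbotS, hMq, hNq]
    constructor
    · rintro ⟨⟨h1, h2⟩, h3⟩
      omega
    · intro h
      refine ⟨⟨?_, ?_⟩, ?_⟩ <;> omega
  · rw [if_neg hQ]
    constructor
    · rintro ⟨⟨h1, h2⟩, -⟩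
      omega
    · intro h
      refine ⟨⟨?_, ?_⟩, rfl⟩ <;> omega

include h1r h1s hT hP in
/-- **Cohen–Macaulayness of the Segre product of shifted polynomial rings** -/
theorem cm_segre_poly_iff :
    (∀ (q : Ideal T) [q.IsPrime], Subsingleton (LocalizedModule q.primeCompl P) ∨
      LocCoh.IsCohenMacaulayModule (Localization.AtPrime q) (LocalizedModule q.primeCompl P)) ↔
      (2 ≤ r → a - b < (s : ℤ)) ∧ (2 ≤ s → -(r : ℤ) < a - b) := by
  have hposR := Wp_eq_bot_of_neg k r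
  have h0R := Wp_zero k r
  have hposS := Wp_eq_bot_of_neg k s
  have h0S := Wp_zero k s
  let mR := irrelK (Wp k r)
  have hmR : mR.toIdeal = Ideal.span (⋃ n ∈ Set.Ioi (0 : ℤ),
    (Wp k r n : Set (MvPolynomial (Fin r) k))) := rfl
  let mS := irrelK (Wp k s)
  have hmS : mS.toIdeal = Ideal.span (⋃ n ∈ Set.Ioi (0 : ℤ),
    (Wp k s n : Set (MvPolynomial (Fin s) k))) := rfl
  let E0R := starInjRes (Wp k r) (Ap k r)
  let E0S := starInjRes (Wp k s) (Ap k s)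
  let EM := resShift E0R a
  let EN := resShift E0S b
  have hP' := isSegreMod_shiftGr k r s T ψ a b P 𝒬 φ hP
  haveI := gradedSMul_of_isSegreMod hT hP'
  haveI := nontrivial_of_isSegreMod_poly k r s h1r h1s T ψ a b P 𝒬 φ hP
  have hMq : ∀ (q : ℕ) (n : ℤ), EM.Hcomp mR q n = ⊥ ↔ (q ≠ r ∨ -(r : ℤ) < n + a) := by
    intro q n
    rw [Hcomp_resShift_eq_bot_iff]
    by_cases hq : q = r
    · subst hq
      rw [HcompK_top_eq_bot_iff k q mR hmR E0R h1r]
      simp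
    · simp only [ne_eq, hq, not_false_eq_true, true_or, iff_true]
      exact HcompK_eq_bot_of_ne k r mR hmR E0R q hq _
  have hNq : ∀ (q : ℕ) (n : ℤ), EN.Hcomp mS q n = ⊥ ↔ (q ≠ s ∨ -(s : ℤ) < n + b) := by
    intro q n
    rw [Hcomp_resShift_eq_bot_iff]
    by_cases hq : q = s
    · subst hq
      rw [HcompK_top_eq_bot_iff k q mS hmS E0S h1s]
      simp
    · simp only [ne_eq, hq, not_false_eq_true, true_or, iff_true]
      exact HcompK_eq_bot_of_ne k s mS hmS E0S q hq _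
  have hvanM : ∀ q : ℕ, q ≠ r → ∀ n : ℤ, EM.Hcomp mR q n = ⊥ := fun q hq n =>
    (hMq q n).2 (Or.inl hq)
  have hvanN : ∀ q : ℕ, q ≠ s → ∀ n : ℤ, EN.Hcomp mS q n = ⊥ := fun q hq n =>
    (hNq q n).2 (Or.inl hq)
  have hA : ∀ n : ℤ, shiftGr (Ap k r) a n = ⊥ ↔ n + a < 0 := fun n => Ap_eq_bot_iff k r h1r _
  have hB : ∀ n : ℤ, shiftGr (Ap k s) b n = ⊥ ↔ n + b < 0 := fun n => Ap_eq_bot_iff k s h1s _
  have hdimM : Module.supportDim (MvPolynomial (Fin r) k) (MvPolynomial (Fin r) k) ≤ (r : ℕ) := by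
    rw [Module.supportDim_self_eq_ringKrullDim, ringKrullDim_mvPolynomial_fin]
  have hdimN : Module.supportDim (MvPolynomial (Fin s) k) (MvPolynomial (Fin s) k) ≤ (s : ℕ) := by
    rw [Module.supportDim_self_eq_ringKrullDim, ringKrullDim_mvPolynomial_fin]
  rw [segre_mod_cm_iff k (MvPolynomial (Fin r) k) (Wp k r) hposR h0R
    (MvPolynomial (Fin s) k) (Wp k s) hposS h0S T 𝒯 ψ hT mR hmR mS hmS
    (MvPolynomial (Fin r) k) (shiftGr (Ap k r) a) EM (MvPolynomial (Fin s) k)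
    (shiftGr (Ap k s) b) EN P 𝒬 φ hP' r s h1r h1s hvanM hvanN hdimM hdimN]
  constructor
  · rintro ⟨h1, h2⟩
    refine ⟨fun h2r => ?_, fun h2s => ?_⟩
    · have := h1 h2r (-a)
      rw [hA, hNq] at this
      omega
    · have := h2 h2s (-b)
      rw [hB, hMq] at this
      omega
  · rintro ⟨h1, h2⟩
    refine ⟨fun h2r n => ?_, fun h2s n => ?_⟩
    · rw [hA, hNq]
      have := h1 h2r
      omega
    · rw [hB, hMq]
      have := h2 h2s
      omega

end SegPoly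

end Groth.Agent.Helper20.GorType
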