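import Mathlib
import Groth.Prelude
import Groth.Agent.Lib.Helper20.GrSeg36

/-!
# The closed formula for the local cohomology of a Segre product of Cohen–Macaulay rings
(helper20)
-/

open DirectSum TensorProduct

namespace Groth.Agent.Helper20.Seg

open Groth.Agent.Helper20.GrInj Groth.Agent.Helper8

universe u

/-- **the closed formula**: pieces of the local cohomology of a Segre product of two
Cohen–Macaulay graded rings of positive dimensions -/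
theorem segre_formula_CM (k : Type u) [Field k] (R : Type u) [CommRing R] [Algebra k R] (𝒜 : ℤ → Submodule k R) [GradedAlgebra 𝒜] (hposR : ∀ n : ℤ, n < 0 → 𝒜 n = ⊥) (h0R : 𝒜 0 = Submodule.span k {(1 : R)}) [Algebra.FiniteType k R] (S : Type u) [CommRing S] [Algebra k S] (ℬ : ℤ → Submodule k S) [GradedAlgebra ℬ] (hposS : ∀ n : ℤ, n < 0 → ℬ n = ⊥) (h0S : ℬ 0 = Submodule.span k {(1 : S)}) [Algebra.FiniteType k S] (T : Type u) [CommRing T] [Algebra k T] (𝒯 : ℤ → Submodule k T) [GradedAlgebra 𝒯] (ψ : T →ₐ[k] TensorProduct k R S) (hψ : Function.Injective ψ) (hdegT : ∀ n : ℤ, (𝒯 n).map ψ.toLinearMap = Submodule.span k {x : TensorProduct k R S | ∃ a ∈ 𝒜 n, ∃ b ∈ ℬ n, x = a ⊗ₜ[k] b}) [LocCoh.IsCohenMacaulayRing R] [LocCoh.IsCohenMacaulayRing S] (mR : HomogeneousIdeal 𝒜) (hmR : mR.toIdeal = Ideal.span (⋃ n ∈ Set.Ioi (0 : ℤ), (𝒜 n : Set R))) (I : GrLC.StarInjRes 𝒜 𝒜) (mS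 : HomogeneousIdeal ℬ) (hmS : mS.toIdeal = Ideal.span (⋃ n ∈ Set.Ioi (0 : ℤ), (ℬ n : Set S))) (J : GrLC.StarInjRes ℬ ℬ)
    (mT : HomogeneousIdeal 𝒯)
    (hmT : mT.toIdeal = Ideal.span (⋃ n ∈ Set.Ioi (0 : ℤ), (𝒯 n : Set T)))
    (IT : GrLC.StarInjRes 𝒯 𝒯)
    (r s : ℕ) (hr : ringKrullDim R = r) (hs : ringKrullDim S = s) (h1r : 1 ≤ r) (h1s : 1 ≤ s)
    (Q : ℕ) (n : ℤ) :
    Module.finrank (GrLC.deg0 𝒯) (IT.Hcomp mT Q n) =
      Module.finrank k (𝒜 n) * Module.finrank (GrLC.deg0 ℬ) (J.Hcomp mS Q n) +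
      Module.finrank (GrLC.deg0 𝒜) (I.Hcomp mR Q n) * Module.finrank k (ℬ n) +
      (if Q + 1 = r + s then Module.finrank (GrLC.deg0 𝒜) (I.Hcomp mR r n) *
        Module.finrank (GrLC.deg0 ℬ) (J.Hcomp mS s n) else 0) := by
  have hT : GrSeg.IsSegreRing 𝒜 ℬ 𝒯 ψ := ⟨hψ, hdegT⟩
  haveI : IsNoetherianRing R := Algebra.FiniteType.isNoetherianRing k R
  haveI : IsNoetherianRing S := Algebra.FiniteType.isNoetherianRing k S
  haveI : IsNoetherianRing T := Groth.Agent.Helper27.Segre.isNoetherianRing 𝒜 ℬ 𝒯 ψ hT.2 hT.1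
  haveI : Nontrivial R := ringKrullDim_nontrivial hr
  haveI : Nontrivial S := ringKrullDim_nontrivial hs
  haveI : Nontrivial T := segre_nontrivial hT
  have critR := (isCohenMacaulayRing_iff_Hcomp hposR h0R mR hmR I r hr).1 inferInstance
  have critS := (isCohenMacaulayRing_iff_Hcomp hposS h0S mS hmS J s hs).1 inferInstance
  have hbotR : ∀ (q : ℕ) (n : ℤ), I.Hcomp mR q n = ⊥ ↔
      Module.finrank (GrLC.deg0 𝒜) (I.Hcomp mR q n) = 0 := fun q n =>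
    Hcomp_eq_bot_iff_finrank (StarInjRes.toAddM 𝒜 I (toAdd 𝒜) (fun _ _ h => h)) mR hposR h0R hmR
      q n
  have hbotS : ∀ (q : ℕ) (n : ℤ), J.Hcomp mS q n = ⊥ ↔
      Module.finrank (GrLC.deg0 ℬ) (J.Hcomp mS q n) = 0 := fun q n =>
    Hcomp_eq_bot_iff_finrank (StarInjRes.toAddM ℬ J (toAdd ℬ) (fun _ _ h => h)) mS hposS h0S hmS
      q n
  have hvanR : ∀ (q : ℕ) (n : ℤ), q ≠ r →
      Module.finrank (GrLC.deg0 𝒜) (I.Hcomp mR q n) = 0 := by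
    intro q n hq
    rcases Nat.lt_or_ge q r with h | h
    · rw [← hbotR]
      exact critR q h n
    · exact finrank_Hcomp_of_dim_lt (StarInjRes.toAddM 𝒜 I (toAdd 𝒜) (fun _ _ h => h)) mR r hr q
        (by omega) n
  have hvanS : ∀ (q : ℕ) (n : ℤ), q ≠ s →
      Module.finrank (GrLC.deg0 ℬ) (J.Hcomp mS q n) = 0 := by
    intro q n hq
    rcases Nat.lt_or_ge q s with h | h
    · rw [← hbotS]
      exact critS q h n
    · exact finrank_Hcomp_of_dim_lt (StarInjRes.toAddM ℬ J (toAdd ℬ) (fun _ _ h => h)) mS s hs q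
        (by omega) n
  obtain ⟨ρ, ρ', h, h', h1, h2, h3, h4, h5, h6, h7, h8, h9⟩ :=
    segre_dims k R 𝒜 hposR h0R S ℬ hposS h0S T 𝒯 ψ hT mR hmR mS hmS mT hmT
      R (toAdd 𝒜) (StarInjRes.toAddM 𝒜 I (toAdd 𝒜) (fun _ _ h => h))
      S (toAdd ℬ) (StarInjRes.toAddM ℬ J (toAdd ℬ) (fun _ _ h => h))
      T (toAdd 𝒯) ψ.toLinearMap (isSegreMod_ring hT)
      (StarInjRes.toAddM 𝒯 IT (toAdd 𝒯) (fun _ _ h => h)) n
  rw [finrank_comp_ring h0R] at h1 h7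
  rw [finrank_comp_ring h0S] at h4 h7
  have h1' : Module.finrank (GrLC.deg0 𝒜) (I.Hcomp mR 0 n) + ρ = Module.finrank k (𝒜 n) := h1
  have h2' : Module.finrank (GrLC.deg0 𝒜) (I.Hcomp mR 1 n) + ρ = h 0 := h2
  have h3' : ∀ i, Module.finrank (GrLC.deg0 𝒜) (I.Hcomp mR (i + 2) n) = h (i + 1) := h3
  have h4' : Module.finrank (GrLC.deg0 ℬ) (J.Hcomp mS 0 n) + ρ' = Module.finrank k (ℬ n) := h4
  have h5' : Module.finrank (GrLC.deg0 ℬ) (J.Hcomp mS 1 n) + ρ' = h' 0 := h5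
  have h6' : ∀ i, Module.finrank (GrLC.deg0 ℬ) (J.Hcomp mS (i + 2) n) = h' (i + 1) := h6
  have h7' : Module.finrank (GrLC.deg0 𝒯) (IT.Hcomp mT 0 n) + ρ * ρ' =
      Module.finrank k (𝒜 n) * Module.finrank k (ℬ n) := h7
  have h8' : Module.finrank (GrLC.deg0 𝒯) (IT.Hcomp mT 1 n) + ρ * ρ' = h 0 * h' 0 := h8
  have h9' : ∀ q, Module.finrank (GrLC.deg0 𝒯) (IT.Hcomp mT (q + 2) n) =
      ∑ i : Fin (q + 2), h (i : ℕ) * h' (q + 1 - (i : ℕ)) := h9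
  obtain ⟨a, ha⟩ : ∃ a : ℕ → ℕ, ∀ q, a q = Module.finrank (GrLC.deg0 𝒜) (I.Hcomp mR q n) :=
    ⟨_, fun _ => rfl⟩
  obtain ⟨b, hb⟩ : ∃ b : ℕ → ℕ, ∀ q, b q = Module.finrank (GrLC.deg0 ℬ) (J.Hcomp mS q n) :=
    ⟨_, fun _ => rfl⟩
  obtain ⟨t, ht⟩ : ∃ t : ℕ → ℕ, ∀ q, t q = Module.finrank (GrLC.deg0 𝒯) (IT.Hcomp mT q n) :=
    ⟨_, fun _ => rfl⟩
  rw [← ht, ← ha, ← ha, ← hb, ← hb]
  apply segre_cm_arith a b t h h' ρ ρ' _ _ r s h1r h1s
  · intro q hq; rw [ha]; exact hvanR q n hq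
  · intro q hq; rw [hb]; exact hvanS q n hq
  · rw [ha]; exact h1'
  · rw [ha]; exact h2'
  · intro i; rw [ha]; exact h3' i
  · rw [hb]; exact h4'
  · rw [hb]; exact h5'
  · intro i; rw [hb]; exact h6' i
  · rw [ht]; exact h7'
  · rw [ht]; exact h8'
  · intro q; rw [ht]; exact h9' q

end Groth.Agent.Helper20.Seg
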