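import Mathlib
import Groth.Prelude
import Groth.Agent.Lib.Helper20.GrSeg37
import Groth.Agent.Lib.Helper23.APoly3
import Groth.Agent.Lib.Helper23.APoly5

/-!
# One-dimensional standard graded Cohen–Macaulay rings with negative `a`-invariant are polynomial
rings (helper20)
-/

set_option linter.unusedVariables false

open DirectSum TensorProduct Polynomial

namespace Groth.Agent.Helper20.GrInj

open Groth.Agent.Helper8 Groth.Agent.Helper23.APoly

universe u

section PolyAdd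

variable {R : Type u} [CommRing R] {𝒜 : ℤ → AddSubgroup R} [GradedRing 𝒜]

/-- (after helper23's `APoly.forward`) a standard graded Cohen–Macaulay ring over a field with
`a(R) = - dim R` is presented as a polynomial ring by a basis of `R_1` -/
theorem exists_aeval_bijective [LocCoh.IsCohenMacaulayRing R]
    (hpos : ∀ n : ℤ, n < 0 → 𝒜 n = ⊥) (h0 : IsField (GrLC.deg0 𝒜))
    (m : HomogeneousIdeal 𝒜) (hm : GrLC.IsStarLocal 𝒜 m)
    (hstd : Ideal.span (⋃ n ∈ Set.Ioi (0 : ℤ), (𝒜 n : Set R)) =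
      Ideal.span ((𝒜 1 : AddSubgroup R) : Set R)) (r : ℕ) (hr : ringKrullDim R = r)
    (I : GrLC.StarInjRes 𝒜 𝒜)
    (hend : GrLC.endDeg (I.Hgr m r) =
      (((-(r : ℤ) : ℤ) : WithTop ℤ) : WithBot (WithTop ℤ))) :
    ∃ x : Fin r → R, (∀ i, x i ∈ 𝒜 1) ∧
      Function.Bijective (MvPolynomial.aeval (R := GrLC.deg0 𝒜) x) := by
  haveI : IsArtinianRing (GrLC.deg0 𝒜) := by
    letI : Field (GrLC.deg0 𝒜) := h0.toField
    infer_instance
  haveI hmmax : m.toIdeal.IsMaximal := isMaximal_of_isStarLocal hpos m hm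
  obtain ⟨P, hPdeg, hP⟩ := exists_hilbertPoly hpos hstd m hm r hr 𝒜
  have hbot : ∀ n : ℤ, -(r : ℤ) < n → I.Hgr m r n = ⊥ := by
    intro n hn
    by_contra hne
    have h1 : (((n : ℤ) : WithTop ℤ) : WithBot (WithTop ℤ)) ≤ GrLC.endDeg (I.Hgr m r) :=
      le_iSup₂ (f := fun (n : ℤ) (_ : I.Hgr m r n ≠ ⊥) =>
        ((n : WithTop ℤ) : WithBot (WithTop ℤ))) n hne
    rw [hend] at h1
    have h2 : n ≤ -(r : ℤ) := WithTop.coe_le_coe.1 (WithBot.coe_le_coe.1 h1)
    omega
  have heq : ∀ n : ℤ, -(r : ℤ) < n → P.eval (n : ℚ) = ((plen (𝒜 := 𝒜) 𝒜 n).toNat : ℚ) := by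
    intro n hn
    by_contra hne
    exact (eval_ne_iff_Hgr_ne_bot hpos hstd m hm r hr I P hP n).1 hne (hbot n hn)
  have hP1 : P.eval 1 = (r : ℚ) := by
    rcases r with _ | s
    · have hP0 : P = 0 := by
        rw [← Polynomial.degree_eq_bot]
        exact Nat.WithBot.lt_zero_iff.1 (by exact_mod_cast hPdeg)
      rw [hP0]; simp
    · have h00 : P.eval 0 = 1 := by
        have := heq 0 (by omega)
        rw [Int.cast_zero, plen_self_zero_eq_one h0] at this
        rw [this]; simp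
      have hneg : ∀ i : ℕ, i < s → P.eval (-((i : ℚ) + 1)) = 0 := by
        intro i hi
        have := heq (-((i : ℤ) + 1)) (by push_cast; omega)
        rw [plen_self_neg hpos (by omega)] at this
        push_cast at this
        rw [this]; simp
      have := eval_one_of_interp s P hPdeg h00 hneg
      rw [this]; push_cast; ring
  have hplen : plen (𝒜 := 𝒜) 𝒜 1 = r := by
    have h1 := heq 1 (by omega)
    rw [Int.cast_one, hP1] at h1
    have h2 : (plen (𝒜 := 𝒜) 𝒜 1).toNat = r := by exact_mod_cast h1.symm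
    rw [← h2]
    exact (ENat.coe_toNat (plen_ne_top (ℳ := 𝒜) 1)).symm
  obtain ⟨x, hx1, hspan⟩ := exists_span_of_plen h0 r hplen
  exact ⟨x, hx1, aeval_bijective_of_span hpos h0 hstd r hr x hspan⟩

end PolyAdd

section PolyAlg

variable {k : Type u} [Field k] {A : Type u} [CommRing A] [Algebra k A] [IsNoetherianRing A]
  {𝒜 : ℤ → Submodule k A} [GradedAlgebra 𝒜]

/-- scalars as a ring homomorphism to the degree-zero subring of the converted grading -/
noncomputable def c0Hom (𝒜 : ℤ → Submodule k A) [GradedAlgebra 𝒜] : k →+* GrLC.deg0 (toAdd 𝒜) :=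
  (algebraMap k A).codRestrict (GrLC.deg0 (toAdd 𝒜)) (fun c => SetLike.algebraMap_mem_graded 𝒜 c)

theorem c0Hom_bijective [Nontrivial A] (h0 : 𝒜 0 = Submodule.span k {(1 : A)}) :
    Function.Bijective (c0Hom 𝒜) := by
  constructor
  · intro c c' h
    exact (algebraMap k A).injective (congrArg Subtype.val h)
  · rintro ⟨r, hr⟩
    have hr' : r ∈ 𝒜 0 := hr
    rw [h0, Submodule.mem_span_singleton] at hr'
    obtain ⟨c, rfl⟩ := hr'
    refine ⟨c, Subtype.ext ?_⟩
    show algebraMap k A c = c • 1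
    rw [Algebra.algebraMap_eq_smul_one]

/-- the polynomial ring in one variable as a polynomial ring indexed by `Fin 1` -/
noncomputable def polyEquivFinOne (k : Type u) [Field k] :
    MvPolynomial (Fin 1) k ≃ₐ[k] Polynomial k :=
  MvPolynomial.uniqueAlgEquiv k (Fin 1)

variable (hpos : ∀ n : ℤ, n < 0 → 𝒜 n = ⊥) (h0 : 𝒜 0 = Submodule.span k {(1 : A)})
  (hstd : Ideal.span (⋃ n ∈ Set.Ioi (0 : ℤ), (𝒜 n : Set A)) =
      Ideal.span ((𝒜 1 : Submodule k A) : Set A))
  (hr : ringKrullDim A = ((1 : ℕ) : WithBot ℕ∞)) (m : HomogeneousIdeal 𝒜)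
  (hm : m.toIdeal = Ideal.span (⋃ n ∈ Set.Ioi (0 : ℤ), (𝒜 n : Set A)))
  (I : GrLC.StarInjRes 𝒜 𝒜)

include hpos h0 hstd hr hm in
/-- a one-dimensional standard graded Cohen–Macaulay ring with `H^1_m(R)_n = 0` for `n ≥ 0` is
a polynomial ring -/
theorem nonempty_algEquiv_polynomial [LocCoh.IsCohenMacaulayRing A]
    (hneg : ∀ n : ℤ, 0 ≤ n → I.Hcomp m 1 n = ⊥) : Nonempty (A ≃ₐ[k] Polynomial k) := by
  haveI : Nontrivial A := ringKrullDim_nontrivial hr
  have hpos' := toAdd_eq_bot_of_neg hpos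
  have h0' : IsField (GrLC.deg0 (toAdd 𝒜)) := isField_deg0 h0
  have hloc := isStarLocal_toAddH hpos h0 m hm
  haveI : IsArtinianRing (GrLC.deg0 (toAdd 𝒜)) := by
    letI : Field (GrLC.deg0 (toAdd 𝒜)) := h0'.toField
    infer_instance
  have hend : GrLC.endDeg ((StarInjRes.toAddR 𝒜 I (toAdd 𝒜) (fun _ _ h => h)).Hgr
      (HomogeneousIdeal.toAddH 𝒜 m) 1) =
      (((-((1 : ℕ) : ℤ) : ℤ) : WithTop ℤ) : WithBot (WithTop ℤ)) := by
    apply le_antisymm
    · rw [endDeg_le_coe_iff]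
      intro n hn
      rw [Hgr_eq_bot_iff]
      exact hneg n (by push_cast at hn; omega)
    · exact neg_dim_le_endDeg hpos' hstd (HomogeneousIdeal.toAddH 𝒜 m) hloc 1 hr _
  obtain ⟨x, hx1, hbij⟩ := exists_aeval_bijective hpos' h0' (HomogeneousIdeal.toAddH 𝒜 m) hloc hstd
    1 hr _ hend
  -- the `k`-algebra map
  let φ : MvPolynomial (Fin 1) k →ₐ[k] A := MvPolynomial.aeval x
  have hcomp : (φ : MvPolynomial (Fin 1) k →+* A) =
      ((MvPolynomial.aeval (R := GrLC.deg0 (toAdd 𝒜)) x :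
        MvPolynomial (Fin 1) (GrLC.deg0 (toAdd 𝒜)) →ₐ[_] A) :
        MvPolynomial (Fin 1) (GrLC.deg0 (toAdd 𝒜)) →+* A).comp
        (MvPolynomial.map (c0Hom 𝒜)) := by
    apply MvPolynomial.ringHom_ext
    · intro c
      show φ (MvPolynomial.C c) = MvPolynomial.aeval (R := GrLC.deg0 (toAdd 𝒜)) x
        (MvPolynomial.map (c0Hom 𝒜) (MvPolynomial.C c))
      rw [MvPolynomial.map_C, MvPolynomial.aeval_C, MvPolynomial.aeval_C]
      rfl
    · intro i
      show φ (MvPolynomial.X i) = MvPolynomial.aeval (R := GrLC.deg0 (toAdd 𝒜)) x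
        (MvPolynomial.map (c0Hom 𝒜) (MvPolynomial.X i))
      rw [MvPolynomial.map_X, MvPolynomial.aeval_X, MvPolynomial.aeval_X]
  have hφ : Function.Bijective φ := by
    have h1 : Function.Bijective (MvPolynomial.map (σ := Fin 1) (c0Hom 𝒜)) :=
      ⟨MvPolynomial.map_injective _ (c0Hom_bijective h0).1,
        MvPolynomial.map_surjective _ (c0Hom_bijective h0).2⟩
    have h2 := hbij.comp h1
    have h3 : (φ : MvPolynomial (Fin 1) k → A) =
        (MvPolynomial.aeval (R := GrLC.deg0 (toAdd 𝒜)) x) ∘ (MvPolynomial.map (c0Hom 𝒜)) := by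
      funext p
      exact congrArg (fun f : MvPolynomial (Fin 1) k →+* A => f p) hcomp
    rw [h3]
    exact h2
  exact ⟨((polyEquivFinOne k).symm.trans (AlgEquiv.ofBijective φ hφ)).symm⟩

include hpos h0 hstd hr hm in
/-- conversely -/
theorem Hcomp_eq_bot_of_algEquiv_polynomial [LocCoh.IsCohenMacaulayRing A]
    (e : A ≃ₐ[k] Polynomial k) (n : ℤ) (hn : 0 ≤ n) : I.Hcomp m 1 n = ⊥ := by
  haveI : Nontrivial A := ringKrullDim_nontrivial hr
  have hpos' := toAdd_eq_bot_of_neg hpos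
  have h0' : IsField (GrLC.deg0 (toAdd 𝒜)) := isField_deg0 h0
  have hloc := isStarLocal_toAddH hpos h0 m hm
  let c0e : k ≃+* GrLC.deg0 (toAdd 𝒜) := RingEquiv.ofBijective (c0Hom 𝒜) (c0Hom_bijective h0)
  let e' : A ≃+* MvPolynomial (Fin 1) (GrLC.deg0 (toAdd 𝒜)) :=
    (e.toRingEquiv.trans (polyEquivFinOne k).symm.toRingEquiv).trans
      (MvPolynomial.mapEquiv (Fin 1) c0e)
  have hend := backward hpos' h0' (HomogeneousIdeal.toAddH 𝒜 m) hloc hm hstd 1 hr
    (StarInjRes.toAddR 𝒜 I (toAdd 𝒜) (fun _ _ h => h)) e'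
  have h1 := (endDeg_le_coe_iff _ _).1 (le_of_eq hend) n (by push_cast; omega)
  rw [Hgr_eq_bot_iff] at h1
  exact h1

end PolyAlg

end Groth.Agent.Helper20.GrInj
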