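import Mathlib
import Groth.Prelude
import Groth.Agent.Lib.Helper20.GrSeg38

/-!
# Segre products with a one-dimensional standard graded factor (helper20)
-/

open DirectSum TensorProduct Polynomial

namespace Groth.Agent.Helper20.GrInj

universe u

theorem exists_nat_ringKrullDim {k : Type u} [Field k] {A : Type u} [CommRing A] [Algebra k A]
    [IsNoetherianRing A] [Nontrivial A] {𝒜 : ℤ → Submodule k A} [GradedAlgebra 𝒜]
    (hpos : ∀ n : ℤ, n < 0 → 𝒜 n = ⊥) (h0 : 𝒜 0 = Submodule.span k {(1 : A)}) :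
    ∃ D : ℕ, ringKrullDim A = D := by
  let m := irrelK 𝒜
  have hm : m.toIdeal = Ideal.span (⋃ n ∈ Set.Ioi (0 : ℤ), (𝒜 n : Set A)) := rfl
  have hloc := isStarLocal_toAddH hpos h0 m hm
  have hmax : m.toIdeal.IsMaximal := isMaximal_of_isStarLocal (toAdd_eq_bot_of_neg hpos) _ hloc
  have hdim : ringKrullDim A = m.toIdeal.height :=
    ringKrullDim_eq_height_of_isStarLocal (HomogeneousIdeal.toAddH 𝒜 m) hloc hmax
  haveI := hmax.isPrime
  obtain ⟨D, hD⟩ := ENat.ne_top_iff_exists.mp (Ideal.height_ne_top (I := m.toIdeal)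
    (Ideal.IsPrime.ne_top inferInstance))
  exact ⟨D, by rw [hdim, ← hD]; rfl⟩

end Groth.Agent.Helper20.GrInj

namespace Groth.Agent.Helper20.Seg

open Groth.Agent.Helper20.GrInj Groth.Agent.Helper8

universe u

theorem segre_cm_iff_polynomial (k : Type u) [Field k] (R : Type u) [CommRing R] [Algebra k R] (𝒜 : ℤ → Submodule k R) [GradedAlgebra 𝒜] (hposR : ∀ n : ℤ, n < 0 → 𝒜 n = ⊥) (h0R : 𝒜 0 = Submodule.span k {(1 : R)}) [Algebra.FiniteType k R] (S : Type u) [CommRing S] [Algebra k S] (ℬ : ℤ → Submodule k S) [GradedAlgebra ℬ] (hposS : ∀ n : ℤ, n < 0 → ℬ n = ⊥) (h0S : ℬ 0 = Submodule.span k {(1 : S)}) [Algebra.FiniteType k S] (T : Type u) [CommRing T] [Algebra k T] (𝒯 : ℤ → Submodule k T) [GradedAlgebra 𝒯] (ψ : T →ₐ[k] TensorProduct k R S) (hψ : Function.Injective ψ) (hdegT : ∀ n : ℤ, (𝒯 n).map ψ.toLinearMap = Submodule.span k {x : TensorProduct k R S | ∃ a ∈ 𝒜 n, ∃ b ∈ ℬ n, x = a ⊗ₜ[k] b}) [LocCoh.IsCohenMacaulayRing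 R] [LocCoh.IsCohenMacaulayRing S] (hstdR : Ideal.span (⋃ n ∈ Set.Ioi (0 : ℤ), (𝒜 n : Set R)) = Ideal.span ((𝒜 1 : Submodule k R) : Set R)) (hstdS : Ideal.span (⋃ n ∈ Set.Ioi (0 : ℤ), (ℬ n : Set S)) = Ideal.span ((ℬ 1 : Submodule k S) : Set S)) (hr : ringKrullDim R = 1) (hs : 2 ≤ ringKrullDim S) : LocCoh.IsCohenMacaulayRing T ↔ Nonempty (R ≃ₐ[k] Polynomial k) := by
  haveI : IsNoetherianRing R := Algebra.FiniteType.isNoetherianRing k R
  haveI : IsNoetherianRing S := Algebra.FiniteType.isNoetherianRing k S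
  haveI : Nontrivial S := by
    by_contra h
    rw [not_nontrivial_iff_subsingleton] at h
    rw [ringKrullDim_eq_bot_of_subsingleton] at hs
    exact absurd hs (by simp)
  obtain ⟨s, hs'⟩ := exists_nat_ringKrullDim hposS h0S
  have h2s : 2 ≤ s := by
    rw [hs'] at hs
    exact_mod_cast hs
  have hr' : ringKrullDim R = ((1 : ℕ) : WithBot ℕ∞) := by rw [hr]; rfl
  have key := segre_cm_iff k R 𝒜 hposR h0R S ℬ hposS h0S T 𝒯 ψ hψ hdegT (irrelK 𝒜) rfl
    (starRes 𝒜) (irrelK ℬ) rfl (starRes ℬ) 1 s hr' hs' le_rfl (by omega)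
  rw [key]
  constructor
  · rintro ⟨_, h2⟩
    apply nonempty_algEquiv_polynomial hposR h0R hstdR hr' (irrelK 𝒜) rfl (starRes 𝒜)
    intro n hn
    rcases h2 h2s n with h | h
    · exact h
    · exact absurd h (piece_ne_bot_of_std hposS h0S hstdS s hs' (by omega) n hn)
  · rintro ⟨e⟩
    refine ⟨fun h => absurd h (by omega), fun _ n => ?_⟩
    rcases lt_or_ge n 0 with hn | hn
    · exact Or.inr (hposS n hn)
    · exact Or.inl (Hcomp_eq_bot_of_algEquiv_polynomial hposR h0R hstdR hr' (irrelK 𝒜) rfl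
        (starRes 𝒜) e n hn)

end Groth.Agent.Helper20.Seg
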