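import Mathlib
import Groth.Prelude
import Groth.Agent.Lib.Helper20.GrSeg39
import Groth.Agent.Lib.Helper20.GrSG11

/-!
# Hilbert function plus local cohomology is constant in dimension one (helper20)
-/

open DirectSum TensorProduct Polynomial

namespace Groth.Agent.Helper20.GrInj

open Groth.Agent.Helper8 Groth.Agent.Helper20.Seg

universe u

theorem length_toNat_eq_finrank (K M : Type*) [Field K] [AddCommGroup M] [Module K M] :
    (Module.length K M).toNat = Module.finrank K M := by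
  rw [Module.length_eq_rank, Cardinal.toNat_toENat]
  rfl

section HilbOne

variable {k : Type u} [Field k] {A : Type u} [CommRing A] [Algebra k A] [IsNoetherianRing A]
  {𝒜 : ℤ → Submodule k A} [GradedAlgebra 𝒜]

/-- **Serre–Grothendieck in dimension one**: for a standard graded Cohen–Macaulay ring of dimension
one over a field, `dim H^1_m(A)_n + dim A_n` does not depend on `n` -/
theorem exists_finrank_Hcomp_add_eq [LocCoh.IsCohenMacaulayRing A]
    (hpos : ∀ n : ℤ, n < 0 → 𝒜 n = ⊥) (h0 : 𝒜 0 = Submodule.span k {(1 : A)})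
    (hstd : Ideal.span (⋃ n ∈ Set.Ioi (0 : ℤ), (𝒜 n : Set A)) =
      Ideal.span ((𝒜 1 : Submodule k A) : Set A))
    (hr : ringKrullDim A = ((1 : ℕ) : WithBot ℕ∞)) (m : HomogeneousIdeal 𝒜)
    (hm : m.toIdeal = Ideal.span (⋃ n ∈ Set.Ioi (0 : ℤ), (𝒜 n : Set A)))
    (I : GrLC.StarInjRes 𝒜 𝒜) :
    ∃ e : ℕ, ∀ n : ℤ, Module.finrank (GrLC.deg0 𝒜) (I.Hcomp m 1 n) +
      Module.finrank k (𝒜 n) = e := by
  haveI : Nontrivial A := ringKrullDim_nontrivial hr
  have hpos' := toAdd_eq_bot_of_neg hpos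
  have h0' : IsField (GrLC.deg0 (toAdd 𝒜)) := isField_deg0 h0
  have hloc := isStarLocal_toAddH hpos h0 m hm
  letI : Field (GrLC.deg0 (toAdd 𝒜)) := h0'.toField
  haveI : IsArtinianRing (GrLC.deg0 (toAdd 𝒜)) := inferInstance
  let I' := StarInjRes.toAddR 𝒜 I (toAdd 𝒜) (fun _ _ h => h)
  let m' := HomogeneousIdeal.toAddH 𝒜 m
  obtain ⟨P, hPdeg, hP⟩ := exists_hilbertPoly hpos' hstd m' hloc 1 hr (toAdd 𝒜)
  obtain ⟨-, hsg⟩ := serre_grothendieck_CM hpos' hstd m' hloc 1 hr I' P hP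
  -- the Hilbert polynomial is a constant
  have hPC : P = C (P.coeff 0) := by
    apply Polynomial.eq_C_of_degree_le_zero
    have : P.degree < ((1 : ℕ) : WithBot ℕ) := hPdeg
    exact Nat.WithBot.lt_one_iff_le_zero.1 (by exact_mod_cast this)
  have hev : ∀ x : ℚ, P.eval x = P.coeff 0 := by
    intro x
    rw [hPC, eval_C, coeff_C_zero]
  obtain ⟨N, hN⟩ := hP
  refine ⟨(plen (𝒜 := toAdd 𝒜) (toAdd 𝒜) N).toNat, ?_⟩
  intro n
  have h1 := hsg n
  rw [hev, ← hev (N : ℚ), hN N le_rfl] at h1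
  -- conversions
  have c1 : (hlen I' m' 1 n).toNat = Module.finrank (GrLC.deg0 𝒜) (I.Hcomp m 1 n) := by
    unfold hlen
    rw [length_toNat_eq_finrank]
    rfl
  have c2 : ∀ d : ℤ, (plen (𝒜 := toAdd 𝒜) (toAdd 𝒜) d).toNat = Module.finrank k (𝒜 d) := by
    intro d
    unfold plen
    rw [length_toNat_eq_finrank]
    exact finrank_comp_ring h0 d
  rw [c1, c2 n] at h1
  rw [c2 N]
  have h2 : ((Module.finrank k (𝒜 n) : ℕ) : ℚ) +
      ((Module.finrank (GrLC.deg0 𝒜) (I.Hcomp m 1 n) : ℕ) : ℚ) =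
      ((plen (𝒜 := toAdd 𝒜) (toAdd 𝒜) N).toNat : ℚ) := by
    rw [pow_one] at h1
    linarith
  rw [c2 N] at h2
  have h3 : ((Module.finrank (GrLC.deg0 𝒜) (I.Hcomp m 1 n) + Module.finrank k (𝒜 n) : ℕ) : ℚ) =
      ((Module.finrank k (𝒜 N) : ℕ) : ℚ) := by
    push_cast
    linarith
  exact_mod_cast h3

end HilbOne

end Groth.Agent.Helper20.GrInj
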