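import Mathlib
import Groth.Prelude
import Groth.Agent.Lib.Helper20.GrSS3
import Groth.Agent.Lib.Helper20.GrSeg37

/-!
# The top piece of the top local cohomology of a Gorenstein graded ring (helper20)
-/

set_option autoImplicit false

open DirectSum TensorProduct

namespace Groth.Agent.Helper20.Seg

open Groth.Agent.Helper20.GrInj Groth.Agent.Helper8 Groth.Agent.Helper20.GorBr

universe u

section GorTop

variable {k : Type u} [Field k] {A : Type u} [CommRing A] [Algebra k A] [IsNoetherianRing A]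
  {𝒜 : ℤ → Submodule k A} [GradedAlgebra 𝒜]

/-- the top local cohomology of a Gorenstein graded ring over a field is one-dimensional in its
top degree -/
theorem exists_top_piece_of_gorenstein [LocCoh.IsGorensteinRing A]
    (hpos : ∀ n : ℤ, n < 0 → 𝒜 n = ⊥) (h0 : 𝒜 0 = Submodule.span k {(1 : A)})
    (m : HomogeneousIdeal 𝒜)
    (hm : m.toIdeal = Ideal.span (⋃ n ∈ Set.Ioi (0 : ℤ), (𝒜 n : Set A)))
    (I : GrLC.StarInjRes 𝒜 𝒜) (r : ℕ) (hr : ringKrullDim A = r) :
    ∃ a : ℤ, Module.finrank (GrLC.deg0 𝒜) (I.Hcomp m r a) = 1 ∧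
      ∀ n : ℤ, a < n → Module.finrank (GrLC.deg0 𝒜) (I.Hcomp m r n) = 0 := by
  haveI : Nontrivial A := ringKrullDim_nontrivial hr
  obtain ⟨-, a, hsoc, hend, -⟩ := gor_soc_data hpos h0 m hm I r hr
  have hbot : ∀ n : ℤ, a < n → I.Hgr m r n = ⊥ :=
    (endDeg_le_coe_iff _ a).1 (le_of_eq hend)
  refine ⟨a, ?_, ?_⟩
  · obtain ⟨-, w₀, hw₀, hw₀0, hw₀m, hspan⟩ := hsoc
    have hkill : ∀ w ∈ I.Hgr m r a, ∀ x ∈ (HomogeneousIdeal.toAddH 𝒜 m).toIdeal, x • w = 0 := by
      intro w hw x hx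
      rw [HomogeneousIdeal.toAddH_toIdeal, hm] at hx
      induction hx using Submodule.span_induction with
      | mem x hx =>
        simp only [Set.mem_iUnion, Set.mem_Ioi, SetLike.mem_coe, exists_prop] at hx
        obtain ⟨i, hi, hxi⟩ := hx
        have h1 := hgr_smul_mem m I r i a x w hxi hw
        rw [hbot (i + a) (by omega)] at h1
        exact (AddSubgroup.mem_bot (G := I.H m r)).1 h1
      | zero => rw [zero_smul]
      | add x y _ _ hx hy => rw [add_smul, hx, hy, add_zero]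
      | smul c x _ hx => rw [smul_eq_mul, mul_smul, hx, smul_zero]
    letI : Field (GrLC.deg0 𝒜) := (isField_deg0 h0).toField
    have hw₀' : w₀ ∈ I.Hcomp m r a := hw₀
    rw [finrank_eq_one_iff_of_nonzero' (⟨w₀, hw₀'⟩ : I.Hcomp m r a)
      (fun h => hw₀0 (congrArg Subtype.val h))]
    rintro ⟨w, hw⟩
    obtain ⟨c, hc, hwc⟩ := hspan w hw (hkill w hw)
    refine ⟨⟨c, hc⟩, ?_⟩
    apply Subtype.ext
    exact hwc.symm
  · intro n hn
    have := (Hgr_eq_bot_iff' I m r n).1 (hbot n hn)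
    rw [this]
    exact finrank_bot _ _

end GorTop

end Groth.Agent.Helper20.Seg
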