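import Mathlib
import Groth.Prelude
import Groth.Agent.Lib.Helper20.GrSeg39

/-!
# A degree-one generator of a one-dimensional graded polynomial ring; arithmetic of the
one-dimensional Segre product (helper20)
-/

set_option linter.unusedVariables false

open DirectSum TensorProduct Polynomial

namespace Groth.Agent.Helper20.GrInj

open Groth.Agent.Helper8 Groth.Agent.Helper23.APoly

universe u

section Gen

variable {k : Type u} [Field k] {A : Type u} [CommRing A] [Algebra k A] [IsNoetherianRing A]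
  {𝒜 : ℤ → Submodule k A} [GradedAlgebra 𝒜]

variable (hpos : ∀ n : ℤ, n < 0 → 𝒜 n = ⊥) (h0 : 𝒜 0 = Submodule.span k {(1 : A)})
  (hstd : Ideal.span (⋃ n ∈ Set.Ioi (0 : ℤ), (𝒜 n : Set A)) =
      Ideal.span ((𝒜 1 : Submodule k A) : Set A))
  (hr : ringKrullDim A = ((1 : ℕ) : WithBot ℕ∞)) (m : HomogeneousIdeal 𝒜)
  (hm : m.toIdeal = Ideal.span (⋃ n ∈ Set.Ioi (0 : ℤ), (𝒜 n : Set A)))
  (I : GrLC.StarInjRes 𝒜 𝒜)

include hpos h0 hstd hr hm in
/-- a one-dimensional standard graded Cohen–Macaulay ring with `H^1_m(R)_n = 0` for `n ≥ 0` is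
a polynomial ring on an element of degree one -/
theorem exists_deg_one_generator [LocCoh.IsCohenMacaulayRing A]
    (hneg : ∀ n : ℤ, 0 ≤ n → I.Hcomp m 1 n = ⊥) :
    ∃ y ∈ 𝒜 1, Function.Bijective (Polynomial.aeval (R := k) y : k[X] →ₐ[k] A) := by
  haveI : Nontrivial A := ringKrullDim_nontrivial hr
  have hpos' := toAdd_eq_bot_of_neg hpos
  have h0' : IsField (GrLC.deg0 (toAdd 𝒜)) := isField_deg0 h0
  have hloc := isStarLocal_toAddH hpos h0 m hm
  haveI : IsArtinianRing (GrLC.deg0 (toAdd 𝒜)) := by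
    letI : Field (GrLC.deg0 (toAdd 𝒜)) := h0'.toField
    infer_instance
  have hend : GrLC.endDeg ((StarInjRes.toAddR 𝒜 I (toAdd 𝒜) (fun _ _ h => h)).Hgr
      (HomogeneousIdeal.toAddH 𝒜 m) 1) =
      (((-((1 : ℕ) : ℤ) : ℤ) : WithTop ℤ) : WithBot (WithTop ℤ)) := by
    apply le_antisymm
    · rw [endDeg_le_coe_iff]
      intro n hn
      rw [Hgr_eq_bot_iff]
      exact hneg n (by push_cast at hn; omega)
    · exact neg_dim_le_endDeg hpos' hstd (HomogeneousIdeal.toAddH 𝒜 m) hloc 1 hr _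
  obtain ⟨x, hx1, hbij⟩ := exists_aeval_bijective hpos' h0' (HomogeneousIdeal.toAddH 𝒜 m) hloc hstd
    1 hr _ hend
  -- the `k`-algebra map
  let φ : MvPolynomial (Fin 1) k →ₐ[k] A := MvPolynomial.aeval x
  have hcomp : (φ : MvPolynomial (Fin 1) k →+* A) =
      ((MvPolynomial.aeval (R := GrLC.deg0 (toAdd 𝒜)) x :
        MvPolynomial (Fin 1) (GrLC.deg0 (toAdd 𝒜)) →ₐ[_] A) :
        MvPolynomial (Fin 1) (GrLC.deg0 (toAdd 𝒜)) →+* A).comp
        (MvPolynomial.map (c0Hom 𝒜)) := by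
    apply MvPolynomial.ringHom_ext
    · intro c
      show φ (MvPolynomial.C c) = MvPolynomial.aeval (R := GrLC.deg0 (toAdd 𝒜)) x
        (MvPolynomial.map (c0Hom 𝒜) (MvPolynomial.C c))
      rw [MvPolynomial.map_C, MvPolynomial.aeval_C, MvPolynomial.aeval_C]
      rfl
    · intro i
      show φ (MvPolynomial.X i) = MvPolynomial.aeval (R := GrLC.deg0 (toAdd 𝒜)) x
        (MvPolynomial.map (c0Hom 𝒜) (MvPolynomial.X i))
      rw [MvPolynomial.map_X, MvPolynomial.aeval_X, MvPolynomial.aeval_X]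
  have hφ : Function.Bijective φ := by
    have h1 : Function.Bijective (MvPolynomial.map (σ := Fin 1) (c0Hom 𝒜)) :=
      ⟨MvPolynomial.map_injective _ (c0Hom_bijective h0).1,
        MvPolynomial.map_surjective _ (c0Hom_bijective h0).2⟩
    have h2 := hbij.comp h1
    have h3 : (φ : MvPolynomial (Fin 1) k → A) =
        (MvPolynomial.aeval (R := GrLC.deg0 (toAdd 𝒜)) x) ∘ (MvPolynomial.map (c0Hom 𝒜)) := by
      funext p
      exact congrArg (fun f : MvPolynomial (Fin 1) k →+* A => f p) hcomp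
    rw [h3]
    exact h2
  refine ⟨x 0, hx1 0, ?_⟩
  have h4 : (Polynomial.aeval (R := k) (x 0) : k[X] →ₐ[k] A) =
      φ.comp ((MvPolynomial.uniqueAlgEquiv k (Fin 1)).symm : k[X] →ₐ[k] MvPolynomial (Fin 1) k) := by
    apply Polynomial.algHom_ext
    rw [Polynomial.aeval_X, AlgHom.comp_apply]
    show x 0 = φ ((MvPolynomial.uniqueAlgEquiv k (Fin 1)).symm Polynomial.X)
    rw [MvPolynomial.uniqueAlgEquiv_symm_apply, Polynomial.eval₂_X]
    show x 0 = MvPolynomial.aeval x (MvPolynomial.X default)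
    rw [MvPolynomial.aeval_X]
    rfl
  rw [h4]
  exact hφ.comp (MvPolynomial.uniqueAlgEquiv k (Fin 1)).symm.bijective

end Gen

end Groth.Agent.Helper20.GrInj

namespace Groth.Agent.Helper20.Seg

/-- the arithmetic of a Gorenstein Segre product of two one-dimensional Cohen–Macaulay standard
graded rings -/
theorem segre_dim_one_arith (r s α β τ : ℤ → ℕ) (e f : ℕ) (a : ℤ)
    (hα : ∀ n, α n + r n = e) (hβ : ∀ n, β n + s n = f)
    (hτ : ∀ n, τ n = r n * β n + α n * s n + α n * β n)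
    (ha : τ a = 1) (htop : ∀ n, a < n → τ n = 0)
    (hr0 : r 0 = 1) (hs0 : s 0 = 1) (hr : ∀ n, 0 ≤ n → 1 ≤ r n) (hs : ∀ n, 0 ≤ n → 1 ≤ s n)
    (hR : ¬ ∀ n, 0 ≤ n → α n = 0) : ∀ n, 0 ≤ n → β n = 0 := by
  have he1 : e = 1 → False := by
    intro he
    apply hR
    intro n hn
    have := hα n
    have := hr n hn
    omega
  have ha0 : 0 ≤ a := by
    by_contra hlt
    have h1 := htop 0 (by omega)
    rw [hτ 0, hr0, hs0] at h1
    have h2 : α 0 = 0 := by omega
    have := hα 0
    apply he1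
    omega
  have hra := hr a ha0
  have hsa := hs a ha0
  have h1 := ha
  rw [hτ a] at h1
  have hf : f = 1 := by
    rcases Nat.eq_zero_or_pos (α a) with hα0 | hαp
    · -- then `r a * β a = 1`
      rw [hα0, zero_mul, zero_mul, add_zero, add_zero] at h1
      have h2 := (mul_eq_one.mp h1).1
      exfalso
      apply he1
      have := hα a
      omega
    · rcases Nat.eq_zero_or_pos (β a) with hβ0 | hβp
      · rw [hβ0, mul_zero, mul_zero, zero_add, add_zero] at h1
        have h2 := (mul_eq_one.mp h1).2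
        have := hβ a
        omega
      · exfalso
        have h2 : 1 ≤ r a * β a := Nat.mul_pos hra hβp
        have h3 : 1 ≤ α a * s a := Nat.mul_pos hαp hsa
        have h4 : 1 ≤ α a * β a := Nat.mul_pos hαp hβp
        omega
  intro n hn
  have := hβ n
  have := hs n hn
  omega

end Groth.Agent.Helper20.Seg
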