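import Mathlib
import Groth.Prelude
import Groth.Agent.Lib.Helper12.GorField

/-!
# The Segre product with a polynomial ring in one variable (helper20)
-/

set_option autoImplicit false

open DirectSum TensorProduct Polynomial

namespace Groth.Agent.Helper20.Seg

universe u

section SegPoly

variable {k : Type u} [Field k] {R : Type u} [CommRing R] [Algebra k R]
  (𝒜 : ℤ → Submodule k R) [GradedAlgebra 𝒜]
  {S : Type u} [CommRing S] [Algebra k S] (ℬ : ℤ → Submodule k S) [GradedAlgebra ℬ]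
  {T : Type u} [CommRing T] [Algebra k T] (𝒯 : ℤ → Submodule k T) [GradedAlgebra 𝒯]

theorem pow_mem_piece {y : S} (hy : y ∈ ℬ 1) (j : ℕ) : y ^ j ∈ ℬ (j : ℤ) := by
  have := SetLike.pow_mem_graded j hy
  rwa [nsmul_eq_mul, mul_one] at this

/-- the pieces of a polynomial ring on a generator of degree one -/
theorem exists_smul_pow_of_mem {y : S} (hy : y ∈ ℬ 1)
    (hbij : Function.Bijective (Polynomial.aeval (R := k) y : k[X] →ₐ[k] S)) {j : ℕ} {b : S}
    (hb : b ∈ ℬ (j : ℤ)) : ∃ c : k, b = c • y ^ j := by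
  classical
  obtain ⟨p, rfl⟩ := hbij.2 b
  refine ⟨p.coeff j, ?_⟩
  have h1 : Polynomial.aeval (R := k) y p = ∑ i ∈ p.support, p.coeff i • y ^ i := by
    rw [Polynomial.aeval_eq_sum_range, Finset.sum_subset (s₁ := p.support)
      (s₂ := Finset.range (p.natDegree + 1))]
    · intro i hi
      rw [Finset.mem_range]
      exact Nat.lt_succ_of_le (Polynomial.le_natDegree_of_mem_supp i hi)
    · intro i _ hi
      rw [Polynomial.notMem_support_iff.1 hi, zero_smul]
  have hmem : ∀ i : ℕ, p.coeff i • y ^ i ∈ ℬ (i : ℤ) := fun i =>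
    Submodule.smul_mem _ _ (pow_mem_piece ℬ hy i)
  have h2 : ((decompose ℬ (Polynomial.aeval (R := k) y p)) (j : ℤ) : S) =
      Polynomial.aeval (R := k) y p := by
    rw [decompose_of_mem_same ℬ hb]
  rw [← h2, h1, decompose_sum, DFinsupp.finsetSum_apply, AddSubmonoidClass.coe_finsetSum]
  by_cases hj : j ∈ p.support
  · rw [Finset.sum_eq_single j]
    · rw [decompose_of_mem_same ℬ (hmem j)]
    · intro i _ hij
      rw [decompose_of_mem_ne ℬ (hmem i) (by exact_mod_cast hij)]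
    · intro h; exact absurd hj h
  · rw [Finset.sum_eq_zero, Polynomial.notMem_support_iff.1 hj, zero_smul]
    intro i hi
    have hij : i ≠ j := fun h => hj (h ▸ hi)
    rw [decompose_of_mem_ne ℬ (hmem i) (by exact_mod_cast hij)]

variable (hposR : ∀ n : ℤ, n < 0 → 𝒜 n = ⊥) (ψ : T →ₐ[k] R ⊗[k] S)
  (hψ : Function.Injective ψ)
  (hdegT : ∀ n : ℤ, (𝒯 n).map ψ.toLinearMap =
    Submodule.span k {x : R ⊗[k] S | ∃ a ∈ 𝒜 n, ∃ b ∈ ℬ n, x = a ⊗ₜ[k] b})
  {y : S} (hy : y ∈ ℬ 1)
  (hbij : Function.Bijective (Polynomial.aeval (R := k) y : k[X] →ₐ[k] S))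

include hposR hdegT hy hbij in
theorem exists_eq_tmul_pow (n : ℤ) (t : T) (ht : t ∈ 𝒯 n) :
    ∃ a ∈ 𝒜 n, ψ t = a ⊗ₜ[k] (y ^ n.toNat) := by
  have h1 : ψ t ∈ (𝒯 n).map ψ.toLinearMap := ⟨t, ht, rfl⟩
  rw [hdegT n] at h1
  generalize ψ t = z at h1
  induction h1 using Submodule.span_induction with
  | mem x hx =>
    obtain ⟨a, ha, b, hb, rfl⟩ := hx
    by_cases hn : 0 ≤ n
    · obtain ⟨j, rfl⟩ := Int.eq_ofNat_of_zero_le hn
      obtain ⟨c, rfl⟩ := exists_smul_pow_of_mem ℬ hy hbij hb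
      refine ⟨c • a, Submodule.smul_mem _ _ ha, ?_⟩
      rw [Int.toNat_natCast, TensorProduct.smul_tmul]
    · have : a = 0 := by
        have h := ha
        rw [hposR n (not_le.1 hn)] at h
        exact h
      refine ⟨0, zero_mem _, ?_⟩
      rw [this, zero_tmul, zero_tmul]
  | zero => exact ⟨0, zero_mem _, by rw [zero_tmul]⟩
  | add x z _ _ hx hz =>
    obtain ⟨a, ha, rfl⟩ := hx
    obtain ⟨a', ha', rfl⟩ := hz
    exact ⟨a + a', add_mem ha ha', by rw [add_tmul]⟩
  | smul c x _ hx =>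
    obtain ⟨a, ha, rfl⟩ := hx
    exact ⟨c • a, Submodule.smul_mem _ _ ha, by rw [smul_tmul']⟩

include hdegT hy in
theorem exists_map_eq_tmul_pow (j : ℕ) (a : R) (ha : a ∈ 𝒜 (j : ℤ)) :
    ∃ t ∈ 𝒯 (j : ℤ), ψ t = a ⊗ₜ[k] (y ^ j) := by
  have h1 : a ⊗ₜ[k] (y ^ j) ∈ (𝒯 (j : ℤ)).map ψ.toLinearMap := by
    rw [hdegT]
    exact Submodule.subset_span ⟨a, ha, y ^ j, pow_mem_piece ℬ hy j, rfl⟩
  obtain ⟨t, ht, h⟩ := h1
  exact ⟨t, ht, h⟩

/-- evaluation of the generator at one -/
noncomputable def evOne : S →ₐ[k] k :=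
  (Polynomial.aeval (1 : k)).comp
    ((AlgEquiv.ofBijective (Polynomial.aeval (R := k) y) hbij).symm : S →ₐ[k] k[X])

theorem evOne_pow (j : ℕ) : evOne hbij (y ^ j) = 1 := by
  have h1 : (AlgEquiv.ofBijective (Polynomial.aeval (R := k) y) hbij).symm y = X := by
    rw [AlgEquiv.symm_apply_eq]
    show y = Polynomial.aeval y X
    rw [Polynomial.aeval_X]
  unfold evOne
  rw [map_pow, AlgHom.comp_apply]
  show (Polynomial.aeval (1 : k)
    ((AlgEquiv.ofBijective (Polynomial.aeval (R := k) y) hbij).symm y)) ^ j = 1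
  rw [h1, Polynomial.aeval_X, one_pow]

/-- the projection of the Segre product onto the first factor -/
noncomputable def segProj : T →ₐ[k] R :=
  ((Algebra.TensorProduct.rid k k R : R ⊗[k] k →ₐ[k] R).comp
    (Algebra.TensorProduct.map (AlgHom.id k R) (evOne hbij))).comp ψ

theorem segProj_of_eq {t : T} {a : R} {j : ℕ} (h : ψ t = a ⊗ₜ[k] (y ^ j)) :
    segProj ψ hbij t = a := by
  unfold segProj
  rw [AlgHom.comp_apply, AlgHom.comp_apply, h, Algebra.TensorProduct.map_tmul, evOne_pow]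
  simp

include hposR hψ hdegT hy in
theorem segProj_bijective : Function.Bijective (segProj ψ hbij) := by
  classical
  constructor
  · rw [injective_iff_map_eq_zero]
    intro t ht
    choose a ha hψa using fun n : ℤ =>
      exists_eq_tmul_pow 𝒜 ℬ 𝒯 hposR ψ hdegT hy hbij n (decompose 𝒯 t n) (decompose 𝒯 t n).2
    have hsum : ∑ n ∈ (decompose 𝒯 t).support, a n = 0 := by
      rw [← ht]
      conv_rhs => rw [← sum_support_decompose 𝒯 t, map_sum]
      refine Finset.sum_congr rfl fun n _ => ?_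
      exact (segProj_of_eq ψ hbij (hψa n)).symm
    have hzero : ∀ n ∈ (decompose 𝒯 t).support, a n = 0 := by
      intro n hn
      have h1 : ((decompose 𝒜 (∑ i ∈ (decompose 𝒯 t).support, a i)) n : R) = a n := by
        rw [decompose_sum, DFinsupp.finsetSum_apply, AddSubmonoidClass.coe_finsetSum,
          Finset.sum_eq_single n]
        · rw [decompose_of_mem_same 𝒜 (ha n)]
        · intro i _ hin
          rw [decompose_of_mem_ne 𝒜 (ha i) hin]
        · intro h; exact absurd hn h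
      rw [hsum, decompose_zero] at h1
      exact h1.symm
    rw [← sum_support_decompose 𝒯 t]
    refine Finset.sum_eq_zero fun n hn => ?_
    apply hψ
    rw [map_zero, hψa n, hzero n hn, zero_tmul]
  · intro r
    rw [← sum_support_decompose 𝒜 r]
    have key : ∀ n : ℤ, ∃ t : T, segProj ψ hbij t = (decompose 𝒜 r n : R) := by
      intro n
      by_cases hn : 0 ≤ n
      · obtain ⟨j, rfl⟩ := Int.eq_ofNat_of_zero_le hn
        obtain ⟨t, -, ht⟩ := exists_map_eq_tmul_pow 𝒜 ℬ 𝒯 ψ hdegT hy j _ (decompose 𝒜 r j).2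
        exact ⟨t, segProj_of_eq ψ hbij ht⟩
      · refine ⟨0, ?_⟩
        have h : ((decompose 𝒜 r n : 𝒜 n) : R) ∈ (⊥ : Submodule k R) := by
          rw [← hposR n (not_le.1 hn)]
          exact (decompose 𝒜 r n).2
        rw [map_zero]
        exact ((Submodule.mem_bot k).1 h).symm
    choose t ht using key
    refine ⟨∑ n ∈ (decompose 𝒜 r).support, t n, ?_⟩
    rw [map_sum]
    exact Finset.sum_congr rfl fun n _ => ht n

include hposR hψ hdegT hy hbij in
/-- **the Segre product with a polynomial ring in one variable of degree one is the first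
factor** -/
theorem nonempty_ringEquiv_of_polynomial : Nonempty (T ≃+* R) :=
  ⟨(AlgEquiv.ofBijective (segProj ψ hbij)
    (segProj_bijective 𝒜 ℬ 𝒯 hposR ψ hψ hdegT hy hbij)).toRingEquiv⟩

include hposR hψ hdegT hy hbij in
theorem isGorensteinRing_of_segre_polynomial [LocCoh.IsGorensteinRing T] :
    LocCoh.IsGorensteinRing R := by
  obtain ⟨e⟩ := nonempty_ringEquiv_of_polynomial 𝒜 ℬ 𝒯 hposR ψ hψ hdegT hy hbij
  exact Groth.Agent.Helper12.GorField.isGorensteinRing_of_ringEquiv e inferInstance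

end SegPoly

end Groth.Agent.Helper20.Seg
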