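import Mathlib
import Groth.Prelude
import Groth.Agent.Lib.Helper20.GrSd1
import Groth.Agent.Lib.Helper20.GrSd2
import Groth.Agent.Lib.Helper20.GrSd3
import Groth.Agent.Lib.Helper20.GrSd4
import Groth.Agent.Lib.Helper20.GrSd5

/-!
# Gorenstein Segre products of one-dimensional Cohen–Macaulay standard graded rings (helper20)
-/

open DirectSum TensorProduct

namespace Groth.Agent.Helper20.Seg

open Groth.Agent.Helper20.GrInj Groth.Agent.Helper8

universe u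

theorem segre_gorenstein_dim_one (k : Type u) [Field k] (R : Type u) [CommRing R] [Algebra k R] (𝒜 : ℤ → Submodule k R) [GradedAlgebra 𝒜] (hposR : ∀ n : ℤ, n < 0 → 𝒜 n = ⊥) (h0R : 𝒜 0 = Submodule.span k {(1 : R)}) [Algebra.FiniteType k R] (S : Type u) [CommRing S] [Algebra k S] (ℬ : ℤ → Submodule k S) [GradedAlgebra ℬ] (hposS : ∀ n : ℤ, n < 0 → ℬ n = ⊥) (h0S : ℬ 0 = Submodule.span k {(1 : S)}) [Algebra.FiniteType k S] (T : Type u) [CommRing T] [Algebra k T] (𝒯 : ℤ → Submodule k T) [GradedAlgebra 𝒯] (ψ : T →ₐ[k] TensorProduct k R S) (hψ : Function.Injective ψ) (hdegT : ∀ n : ℤ, (𝒯 n).map ψ.toLinearMap = Submodule.span k {x : TensorProduct k R S | ∃ a ∈ 𝒜 n, ∃ b ∈ ℬ n, x = a ⊗ₜ[k] b}) [LocCoh.IsCohenMacaulayRing R] [LocCoh.IsCohenMacaulayRing S] (hstdR : Ideal.span (⋃ n ∈ Set.Ioi (0 : ℤ), (𝒜 n : Set R)) = Ideal.span ((𝒜 1 : Submodule k R) : Set R)) (hstdS : Ideal.span (⋃ n ∈ Set.Ioi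 (0 : ℤ), (ℬ n : Set S)) = Ideal.span ((ℬ 1 : Submodule k S) : Set S)) (hr : ringKrullDim R = 1) (hs : ringKrullDim S = 1) (hR : IsEmpty (R ≃ₐ[k] Polynomial k)) [LocCoh.IsGorensteinRing T] : Nonempty (S ≃ₐ[k] Polynomial k) ∧ LocCoh.IsGorensteinRing R := by
  have hT : GrSeg.IsSegreRing 𝒜 ℬ 𝒯 ψ := ⟨hψ, hdegT⟩
  haveI : IsNoetherianRing R := Algebra.FiniteType.isNoetherianRing k R
  haveI : IsNoetherianRing S := Algebra.FiniteType.isNoetherianRing k S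
  haveI : IsNoetherianRing T := Groth.Agent.Helper27.Segre.isNoetherianRing 𝒜 ℬ 𝒯 ψ hT.2 hT.1
  have hr' : ringKrullDim R = ((1 : ℕ) : WithBot ℕ∞) := by rw [hr]; rfl
  have hs' : ringKrullDim S = ((1 : ℕ) : WithBot ℕ∞) := by rw [hs]; rfl
  haveI : Nontrivial R := ringKrullDim_nontrivial hr'
  haveI : Nontrivial S := ringKrullDim_nontrivial hs'
  haveI : Nontrivial T := segre_nontrivial hT
  have hposT := segre_hpos hT hposR
  have h0T := segre_h0 hT h0R h0S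
  let mR := irrelK 𝒜
  have hmR : mR.toIdeal = Ideal.span (⋃ n ∈ Set.Ioi (0 : ℤ), (𝒜 n : Set R)) := rfl
  let mS := irrelK ℬ
  have hmS : mS.toIdeal = Ideal.span (⋃ n ∈ Set.Ioi (0 : ℤ), (ℬ n : Set S)) := rfl
  let mT := irrelK 𝒯
  have hmT : mT.toIdeal = Ideal.span (⋃ n ∈ Set.Ioi (0 : ℤ), (𝒯 n : Set T)) := rfl
  let I := starRes 𝒜
  let J := starRes ℬ
  let IT := starRes 𝒯
  have hdimT : ringKrullDim T = ((1 : ℕ) : WithBot ℕ∞) := by
    have := ringKrullDim_segre k R 𝒜 hposR h0R S ℬ hposS h0S T 𝒯 ψ hψ hdegT 1 1 hr' hs' le_rfl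
      le_rfl
    exact this
  -- the numerical data
  have formula : ∀ n : ℤ, Module.finrank (GrLC.deg0 𝒯) (IT.Hcomp mT 1 n) =
      Module.finrank k (𝒜 n) * Module.finrank (GrLC.deg0 ℬ) (J.Hcomp mS 1 n) +
      Module.finrank (GrLC.deg0 𝒜) (I.Hcomp mR 1 n) * Module.finrank k (ℬ n) +
      Module.finrank (GrLC.deg0 𝒜) (I.Hcomp mR 1 n) *
        Module.finrank (GrLC.deg0 ℬ) (J.Hcomp mS 1 n) := by
    intro n
    have := segre_formula_CM k R 𝒜 hposR h0R S ℬ hposS h0S T 𝒯 ψ hψ hdegT mR hmR I mS hmS J mT hmT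
      IT 1 1 hr' hs' le_rfl le_rfl 1 n
    rw [if_pos rfl] at this
    exact this
  obtain ⟨e, he⟩ := exists_finrank_Hcomp_add_eq hposR h0R hstdR hr' mR hmR I
  obtain ⟨f, hf⟩ := exists_finrank_Hcomp_add_eq hposS h0S hstdS hs' mS hmS J
  obtain ⟨a, ha1, hatop⟩ := exists_top_piece_of_gorenstein hposT h0T mT hmT IT 1 hdimT
  have hbotR : ∀ (n : ℤ), I.Hcomp mR 1 n = ⊥ ↔
      Module.finrank (GrLC.deg0 𝒜) (I.Hcomp mR 1 n) = 0 := fun n =>
    Hcomp_eq_bot_iff_finrank (StarInjRes.toAddM 𝒜 I (toAdd 𝒜) (fun _ _ h => h)) mR hposR h0R hmR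
      1 n
  have hbotS : ∀ (n : ℤ), J.Hcomp mS 1 n = ⊥ ↔
      Module.finrank (GrLC.deg0 ℬ) (J.Hcomp mS 1 n) = 0 := fun n =>
    Hcomp_eq_bot_iff_finrank (StarInjRes.toAddM ℬ J (toAdd ℬ) (fun _ _ h => h)) mS hposS h0S hmS
      1 n
  have hone : ∀ {B : Type u} [CommRing B] [Algebra k B] [Nontrivial B] (ℬ' : ℤ → Submodule k B),
      ℬ' 0 = Submodule.span k {(1 : B)} → Module.finrank k (ℬ' 0) = 1 := by
    intro B _ _ _ ℬ' h
    rw [h]
    exact finrank_span_singleton one_ne_zero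
  have hposA : ∀ n : ℤ, 0 ≤ n → 1 ≤ Module.finrank k (𝒜 n) := by
    intro n hn
    haveI := Groth.Agent.Helper29.GrFin.ring_piece_finite 𝒜 hposR h0R n
    have h1 := piece_ne_bot_of_std hposR h0R hstdR 1 hr' le_rfl n hn
    by_contra hlt
    apply h1
    exact Submodule.finrank_eq_zero.1 (by omega)
  have hposB : ∀ n : ℤ, 0 ≤ n → 1 ≤ Module.finrank k (ℬ n) := by
    intro n hn
    haveI := Groth.Agent.Helper29.GrFin.ring_piece_finite ℬ hposS h0S n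
    have h1 := piece_ne_bot_of_std hposS h0S hstdS 1 hs' le_rfl n hn
    by_contra hlt
    apply h1
    exact Submodule.finrank_eq_zero.1 (by omega)
  have hRnot : ¬ ∀ n : ℤ, 0 ≤ n → Module.finrank (GrLC.deg0 𝒜) (I.Hcomp mR 1 n) = 0 := by
    intro h
    obtain ⟨eR⟩ := nonempty_algEquiv_polynomial hposR h0R hstdR hr' mR hmR I
      (fun n hn => (hbotR n).2 (h n hn))
    exact hR.false eR
  have hβ := segre_dim_one_arith (fun n => Module.finrank k (𝒜 n)) (fun n => Module.finrank k (ℬ n))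
    (fun n => Module.finrank (GrLC.deg0 𝒜) (I.Hcomp mR 1 n))
    (fun n => Module.finrank (GrLC.deg0 ℬ) (J.Hcomp mS 1 n))
    (fun n => Module.finrank (GrLC.deg0 𝒯) (IT.Hcomp mT 1 n)) e f a he hf formula ha1 hatop
    (hone 𝒜 h0R) (hone ℬ h0S) hposA hposB hRnot
  have hnegS : ∀ n : ℤ, 0 ≤ n → J.Hcomp mS 1 n = ⊥ := fun n hn => (hbotS n).2 (hβ n hn)
  refine ⟨nonempty_algEquiv_polynomial hposS h0S hstdS hs' mS hmS J hnegS, ?_⟩
  obtain ⟨y, hy, hbij⟩ := exists_deg_one_generator hposS h0S hstdS hs' mS hmS J hnegS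
  exact isGorensteinRing_of_segre_polynomial 𝒜 ℬ 𝒯 hposR ψ hψ hdegT hy hbij

end Groth.Agent.Helper20.Seg
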