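import Mathlib
import Groth.Agent.Lib.Helper20.VBSat4

/-!
# (Semi)stability through quotients ⟺ through subsheaves
-/

set_option autoImplicit false
set_option maxHeartbeats 800000
set_option linter.style.haveILetI false
set_option linter.unusedSectionVars false
set_option linter.unusedVariables false
universe u
open CategoryTheory CategoryTheory.Limits AlgebraicGeometry Opposite TopologicalSpace
open Groth.Agent.Helper20.RankFn
open Groth.Agent.Helper13.QCoh Groth.Agent.Helper13.FinType Groth.Agent.Helper13.LocFree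

namespace Groth.Agent.Helper20.VBMap

variable (k : Type u) [Field k] {X : Scheme.{u}} [X.Over (Spec (CommRingCat.of k))] [IsIntegral X]
  [IsProper (X ↘ Spec (CommRingCat.of k))] [Smooth (X ↘ Spec (CommRingCat.of k))]

theorem semistable_quot_iff_sub (hdim : topologicalKrullDim X = 1)
    (r : ℕ) (hr : 0 < r) (E : X.Modules) (hE : FlatMod.IsFinLocFreeOfRank r E) :
    ((∀ (F : X.Modules) (s : ℕ) (p : E ⟶ F), Epi p → 0 < s → FlatMod.IsFinLocFreeOfRank s F →
      Curv2.deg k X E r * (s : ℤ) ≤ Curv2.deg k X F s * (r : ℤ)) ↔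
      (∀ (G : X.Modules) (r' : ℕ) (i : G ⟶ E), Mono i → 0 < r' →
        FlatMod.IsFinLocFreeOfRank r' G →
      Curv2.deg k X G r' * (r : ℤ) ≤ Curv2.deg k X E r * (r' : ℤ))) ∧
    ((∀ (F : X.Modules) (s : ℕ) (p : E ⟶ F), Epi p → 0 < s → FlatMod.IsFinLocFreeOfRank s F →
      (¬ IsIso p) →
      Curv2.deg k X E r * (s : ℤ) < Curv2.deg k X F s * (r : ℤ)) ↔
      (∀ (G : X.Modules) (r' : ℕ) (i : G ⟶ E), Mono i → 0 < r' →
        FlatMod.IsFinLocFreeOfRank r' G → (¬ IsIso i) →
      Curv2.deg k X G r' * (r : ℤ) < Curv2.deg k X E r * (r' : ℤ))) := by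
  have hrZ : (0 : ℤ) < r := by exact_mod_cast hr
  refine ⟨⟨?_, ?_⟩, ⟨?_, ?_⟩⟩
  · -- quotients ⇒ subsheaves
    intro hq G r' i hi hr' hG
    obtain ⟨J, a, j, rQ, hjm, haj, hJr, hQr, hrT, hdT, hle, hiso, hQ0⟩ :=
      sat_pkg k hdim r' r hG hE i
    have hrT' : (r : ℤ) = (r' : ℤ) + (rQ : ℤ) := by exact_mod_cast hrT
    have hJ : Curv2.deg k X J r' * (r : ℤ) ≤ Curv2.deg k X E r * (r' : ℤ) := by
      rcases Nat.eq_zero_or_pos rQ with h0 | hpos
      · have := (hQ0 h0).2
        rw [hdT, this, hrT', h0]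
        simp
      · have h1 := hq (cokernel j) rQ (cokernel.π j) inferInstance hpos hQr
        rw [hdT, hrT'] at h1 ⊢
        nlinarith
    have h2 : Curv2.deg k X G r' * (r : ℤ) ≤ Curv2.deg k X J r' * (r : ℤ) :=
      mul_le_mul_of_nonneg_right hle hrZ.le
    exact h2.trans hJ
  · -- subsheaves ⇒ quotients
    intro hsub F s p hp hs hF
    obtain ⟨rK, hKr, hrk, hdeg, hK0, hKdeg0⟩ := epi_pkg k hdim r s hE hF p
    have hrk' : (r : ℤ) = (rK : ℤ) + (s : ℤ) := by exact_mod_cast hrk
    rcases Nat.eq_zero_or_pos rK with h0 | hpos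
    · rw [hdeg, hKdeg0 h0, hrk', h0]
      simp
    · have h1 := hsub (kernel p) rK (kernel.ι p) inferInstance hpos hKr
      rw [hdeg, hrk'] at h1 ⊢
      nlinarith
  · -- stable: quotients ⇒ subsheaves
    intro hq G r' i hi hr' hG hni
    obtain ⟨J, a, j, rQ, hjm, haj, hJr, hQr, hrT, hdT, hle, hiso, hQ0⟩ :=
      sat_pkg k hdim r' r hG hE i
    have hrT' : (r : ℤ) = (r' : ℤ) + (rQ : ℤ) := by exact_mod_cast hrT
    have h2 : Curv2.deg k X G r' * (r : ℤ) ≤ Curv2.deg k X J r' * (r : ℤ) :=
      mul_le_mul_of_nonneg_right hle hrZ.le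
    rcases Nat.eq_zero_or_pos rQ with h0 | hpos
    · -- `j` is an isomorphism, so `a` is not
      obtain ⟨hz, hd0⟩ := hQ0 h0
      have hje : Epi j := Preadditive.epi_of_isZero_cokernel j hz
      have hji : IsIso j := isIso_of_mono_of_epi j
      have hna : ¬ IsIso a := by
        intro ha
        apply hni
        rw [← haj]
        infer_instance
      have hlt : Curv2.deg k X G r' < Curv2.deg k X J r' := by
        rcases hle.lt_or_eq with h | h
        · exact h
        · exact absurd (hiso h.symm) hna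
      have h3 : Curv2.deg k X G r' * (r : ℤ) < Curv2.deg k X J r' * (r : ℤ) :=
        mul_lt_mul_of_pos_right hlt hrZ
      have h4 : Curv2.deg k X J r' * (r : ℤ) = Curv2.deg k X E r * (r' : ℤ) := by
        rw [hdT, hd0, hrT', h0]
        simp
      rw [← h4]
      exact h3
    · have hnp : ¬ IsIso (cokernel.π j) := by
        intro hπ
        have hj0 : j = 0 := by
          rw [← cancel_mono (cokernel.π j), cokernel.condition, zero_comp]
        have hJz : IsZero J := by
          rw [IsZero.iff_id_eq_zero, ← cancel_mono j, hj0, comp_zero, comp_zero]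
        exact VBIndec.not_isZero_of_isFinLocFreeOfRank r' hr' J hJr hJz
      have h1 := hq (cokernel j) rQ (cokernel.π j) inferInstance hpos hQr hnp
      have hJ : Curv2.deg k X J r' * (r : ℤ) < Curv2.deg k X E r * (r' : ℤ) := by
        rw [hdT, hrT'] at h1 ⊢
        nlinarith
      exact lt_of_le_of_lt h2 hJ
  · -- stable: subsheaves ⇒ quotients
    intro hsub F s p hp hs hF hni
    obtain ⟨rK, hKr, hrk, hdeg, hK0, hKdeg0⟩ := epi_pkg k hdim r s hE hF p
    have hrk' : (r : ℤ) = (rK : ℤ) + (s : ℤ) := by exact_mod_cast hrk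
    rcases Nat.eq_zero_or_pos rK with h0 | hpos
    · exfalso
      apply hni
      have hm : Mono p := Preadditive.mono_of_isZero_kernel p (hK0 h0)
      exact isIso_of_mono_of_epi p
    · have hnk : ¬ IsIso (kernel.ι p) := by
        intro hι
        have hp0 : p = 0 := by
          rw [← cancel_epi (kernel.ι p), kernel.condition, comp_zero]
        have hFz : IsZero F := by
          rw [IsZero.iff_id_eq_zero, ← cancel_epi p, hp0, zero_comp, zero_comp]
        exact VBIndec.not_isZero_of_isFinLocFreeOfRank s hs F hF hFz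
      have h1 := hsub (kernel p) rK (kernel.ι p) inferInstance hpos hKr hnk
      rw [hdeg, hrk'] at h1 ⊢
      nlinarith

end Groth.Agent.Helper20.VBMap
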