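import Mathlib
import Groth.Agent.Lib.Helper24.LinLES
import Groth.Agent.Lib.Helper26.HomGlob
import Groth.Agent.Lib.Helper13.FreeMod
import Groth.Agent.Lib.Helper13.FinProj7
import Groth.Agent.Lib.Helper20.VeryStable1
import Groth.Agent.Lib.Helper20.VBSat5
import Groth.Agent.Lib.Helper20.StableIndec

/-!
# `h⁰ ≤ rank` for semistable bundles of degree zero on a curve with `h⁰(O) = 1`
-/

set_option autoImplicit false
set_option maxHeartbeats 800000
set_option linter.style.haveILetI false
set_option linter.unusedSectionVars false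
set_option linter.unusedVariables false
universe u
open CategoryTheory CategoryTheory.Limits AlgebraicGeometry Opposite TopologicalSpace
open Groth.Agent.Helper20.RankFn Groth.Agent.Helper13 Groth.Agent.Helper13.TwistSES
open Groth.Agent.Helper13.QCoh Groth.Agent.Helper13.FinType Groth.Agent.Helper13.LocFree
open Groth.Agent.Helper20.VBMap Groth.Agent.Helper13.PnFin Groth.Agent.Helper24.LinLES

namespace Groth.Agent.Helper20.H0Rank

section General

variable {X : Scheme.{u}}

/-- a nonzero class in `H⁰` gives a nonzero map from the structure sheaf. -/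
theorem exists_hom_of_h0_ne (G : X.Modules) (x : Coh.HH X G 0) (hx : x ≠ 0) :
    ∃ s : Coh.structureModule X ⟶ G, s ≠ 0 := by
  have ht : Groth.Agent.Helper26.HomGlob.h0 G x ≠ 0 := by
    intro h
    apply hx
    apply (Groth.Agent.Helper26.HomGlob.h0 G).injective
    rw [h, map_zero]
  refine ⟨homOfSec G (Groth.Agent.Helper26.HomGlob.h0 G x), ?_⟩
  intro hs0
  apply ht
  have h := homOfSec_app_one G (Groth.Agent.Helper26.HomGlob.h0 G x) ⊤
  rw [hs0] at h
  have h2 : G.presheaf.map (homOfLE (le_top : (⊤ : X.Opens) ≤ ⊤)).op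
      (Groth.Agent.Helper26.HomGlob.h0 G x) = Groth.Agent.Helper26.HomGlob.h0 G x := by
    have e : (homOfLE (le_top : (⊤ : X.Opens) ≤ ⊤)).op = 𝟙 _ := rfl
    rw [e, G.presheaf.map_id]
    rfl
  rw [h2] at h
  exact h.symm

variable (k : Type u) [Field k] [X.Over (Spec (CommRingCat.of k))]

/-- left exactness of `H⁰`, as a dimension bound. -/
theorem finrank_h0_le_of_shortExact (S : ShortComplex X.Modules) (hS : S.ShortExact)
    [Module.Finite k (Coh.HH X S.X₁ 0)] [Module.Finite k (Coh.HH X S.X₂ 0)]
    [Module.Finite k (Coh.HH X S.X₃ 0)] :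
    Module.finrank k (Coh.HH X S.X₂ 0) ≤
      Module.finrank k (Coh.HH X S.X₁ 0) + Module.finrank k (Coh.HH X S.X₃ 0) := by
  have e1 := LinearMap.finrank_range_add_finrank_ker (hstar k S.g 0)
  rw [← range_f_eq_ker_g k S hS 0] at e1
  have h1 : Module.finrank k (LinearMap.range (hstar k S.f 0)) ≤
      Module.finrank k (Coh.HH X S.X₁ 0) := LinearMap.finrank_range_le _
  have h2 : Module.finrank k (LinearMap.range (hstar k S.g 0)) ≤
      Module.finrank k (Coh.HH X S.X₃ 0) := Submodule.finrank_le _
  omega

include k in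
/-- `H⁰` of a zero object vanishes. -/
theorem subsingleton_h0_of_isZero (G : X.Modules) (hz : IsZero G) :
    Subsingleton (Coh.HH X G 0) := by
  refine ⟨fun a b => ?_⟩
  have h1 : hstar k (𝟙 G) 0 = 0 := by rw [hz.eq_of_src (𝟙 G) 0, hstar_zero]
  rw [hstar_id] at h1
  have ha := LinearMap.congr_fun h1 a
  have hb := LinearMap.congr_fun h1 b
  simp only [LinearMap.id_coe, id_eq, LinearMap.zero_apply] at ha hb
  rw [ha, hb]

end General

section Curve

variable (k : Type u) [Field k] {X : Scheme.{u}} [X.Over (Spec (CommRingCat.of k))] [IsIntegral X]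
  [IsProper (X ↘ Spec (CommRingCat.of k))] [Smooth (X ↘ Spec (CommRingCat.of k))]

theorem h0_le_rank (hdim : topologicalKrullDim X = 1)
    (hO1 : Module.finrank k (Coh.HH X (Coh.structureModule X) 0) = 1) :
    ∀ (r : ℕ) (G : X.Modules), FlatMod.IsFinLocFreeOfRank r G → Curv2.deg k X G r = 0 →
      (∀ (H : X.Modules) (r' : ℕ) (i : H ⟶ G), Mono i → 0 < r' →
        FlatMod.IsFinLocFreeOfRank r' H → Curv2.deg k X H r' ≤ 0) →
      Module.finrank k (Coh.HH X G 0) ≤ r := by
  have hN : IsLocallyNoetherian X := isLocallyNoetherian_of_proper k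
  haveI : IsNoetherianRing k := inferInstance
  intro r
  induction r with
  | zero =>
    intro G hG _ _
    have hGl := VBIndec.isFinLocFree_of_rank 0 G hG
    have hz : IsZero G :=
      Groth.Agent.Helper20.RankFn.isZero_of_rk_eq_zero G hGl
        (fun y => rk_eq_of_isFinLocFreeOfRank _ _ hG y)
    haveI := subsingleton_h0_of_isZero k G hz
    rw [Module.finrank_zero_of_subsingleton]
  | succ r ih =>
    intro G hG hdeg hss
    by_cases hx : ∀ x : Coh.HH X G 0, x = 0
    · haveI : Subsingleton (Coh.HH X G 0) := ⟨fun a b => by rw [hx a, hx b]⟩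
      rw [Module.finrank_zero_of_subsingleton]
      omega
    push Not at hx
    obtain ⟨x, hx⟩ := hx
    obtain ⟨s, hs⟩ := exists_hom_of_h0_ne G x hx
    have hO : FlatMod.IsFinLocFreeOfRank 1 (Coh.structureModule X) :=
      Groth.Agent.Helper26.IntLF.isFinLocFreeOfRank_one_of_isInvertible _
        (Groth.Agent.Helper13.Inv.isInvertible_structureModule (X := X))
    have hGl := VBIndec.isFinLocFree_of_rank _ G hG
    haveI := Groth.Agent.Helper20.VeryStable.mono_of_ne_zero_of_rank_one k hdim hO hGl s hs
    obtain ⟨J, a, j, rQ, hjm, haj, hJr, hQr, hrT, hdT, hle, hiso, hQ0⟩ :=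
      sat_pkg k hdim 1 (r + 1) hO hG s
    have hdO : Curv2.deg k X (Coh.structureModule X) 1 = 0 := by
      unfold Curv2.deg
      simp
    have hJ0 : Curv2.deg k X J 1 ≤ 0 := hss J 1 j hjm one_pos hJr
    have hJeq : Curv2.deg k X J 1 = Curv2.deg k X (Coh.structureModule X) 1 := by
      rw [hdO] at hle ⊢
      omega
    haveI := hiso hJeq
    let δ : cokernel s ≅ cokernel j := cokernelIsoOfEq haj.symm ≪≫ cokernelEpiComp a j
    have hrQ : rQ = r := by omega
    rw [hrQ] at hQr hdT
    have hCr : FlatMod.IsFinLocFreeOfRank r (cokernel s) := isFinLocFreeOfRank_of_iso δ.symm hQr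
    have hCl := VBIndec.isFinLocFree_of_rank r _ hCr
    have hCc : Coh.IsCoh (cokernel s) :=
      Groth.Agent.Helper9.ResVan.isCoh_of_isFinLocFree _ hCl
    have hdC : Curv2.deg k X (cokernel s) r = 0 := by
      have h1 : Curv2.deg k X (cokernel j) r = Curv2.deg k X (cokernel s) r :=
        deg_eq_of_iso k δ hCc r
      rw [← h1]
      rw [hdO] at hJeq
      linarith
    have hCss : ∀ (H : X.Modules) (r' : ℕ) (i : H ⟶ cokernel s), Mono i → 0 < r' →
        FlatMod.IsFinLocFreeOfRank r' H → Curv2.deg k X H r' ≤ 0 := by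
      rcases Nat.eq_zero_or_pos r with h0 | hpos
      · intro H r' i hi hr' hH
        have hz : IsZero (cokernel s) :=
          Groth.Agent.Helper20.RankFn.isZero_of_rk_eq_zero _ hCl
            (fun y => by rw [rk_eq_of_isFinLocFreeOfRank _ _ hCr y, h0])
        haveI := hi
        exact (false_of_mono_of_isZero r' hr' hH i hz).elim
      · have hrZ : (0 : ℤ) < r := by exact_mod_cast hpos
        have hGq := (semistable_quot_iff_sub k hdim (r + 1) (Nat.succ_pos r) G hG).1.2 (by
          intro H r' i hi hr' hH
          have h1 := hss H r' i hi hr' hH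
          rw [hdeg, zero_mul]
          have : (0 : ℤ) ≤ ((r + 1 : ℕ) : ℤ) := by positivity
          exact mul_nonpos_of_nonpos_of_nonneg h1 this)
        have hq := (semistable_quot_iff_sub k hdim r hpos (cokernel s) hCr).1.1 (by
          intro F t p hp ht hF
          haveI := hp
          have h1 := hGq F t (cokernel.π s ≫ p) (epi_comp _ _) ht hF
          rw [hdeg, zero_mul] at h1
          rw [hdC, zero_mul]
          have h2 : (0 : ℤ) < ((r + 1 : ℕ) : ℤ) := by positivity
          have h3 : 0 ≤ Curv2.deg k X F t := by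
            by_contra hneg
            push Not at hneg
            have := mul_neg_of_neg_of_pos hneg h2
            linarith
          exact mul_nonneg h3 hrZ.le)
        intro H r' i hi hr' hH
        have h1 := hq H r' i hi hr' hH
        rw [hdC, zero_mul] at h1
        by_contra hpos'
        push Not at hpos'
        have := mul_pos hpos' hrZ
        linarith
    have ihC := ih (cokernel s) hCr hdC hCss
    let S : ShortComplex X.Modules := ShortComplex.mk s (cokernel.π s) (cokernel.condition s)
    have hS : S.ShortExact :=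
      ShortComplex.ShortExact.mk' (ShortComplex.exact_cokernel s)
        (inferInstanceAs (Mono s)) (inferInstanceAs (Epi (cokernel.π s)))
    have hOc : Coh.IsCoh (Coh.structureModule X) :=
      Groth.Agent.Helper9.ResVan.isCoh_of_isFinLocFree _ (VBIndec.isFinLocFree_of_rank 1 _ hO)
    have hGc : Coh.IsCoh G := Groth.Agent.Helper9.ResVan.isCoh_of_isFinLocFree _ hGl
    haveI : Module.Finite k (Coh.HH X S.X₁ 0) :=
      Groth.Agent.Helper13.FinProj.finite_HH_of_isProper k X _ hOc 0
    haveI : Module.Finite k (Coh.HH X S.X₂ 0) :=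
      Groth.Agent.Helper13.FinProj.finite_HH_of_isProper k X _ hGc 0
    haveI : Module.Finite k (Coh.HH X S.X₃ 0) :=
      Groth.Agent.Helper13.FinProj.finite_HH_of_isProper k X _ hCc 0
    have hfin := finrank_h0_le_of_shortExact k S hS
    change Module.finrank k (Coh.HH X G 0) ≤
      Module.finrank k (Coh.HH X (Coh.structureModule X) 0) +
        Module.finrank k (Coh.HH X (cokernel s) 0) at hfin
    rw [hO1] at hfin
    omega

end Curve

end Groth.Agent.Helper20.H0Rank
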