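import Mathlib
import Groth.Agent.Lib.Helper24.GalDescent

/-! Hilbert 90 for `GL_n` over a finite Galois extension, in matrix form.
Uses helper24's Galois descent for vector spaces. -/

set_option autoImplicit false
universe u v

namespace Groth.Agent.Helper20.H90
open scoped TensorProduct MatrixGroups
open Groth.Agent.Helper24

variable {k : Type u} {K : Type v} [Field k] [Field K] [Algebra k K] {n : ℕ}

theorem smul_mulVec (σ : K ≃ₐ[k] K) (B : Matrix (Fin n) (Fin n) K) (x : Fin n → K) :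
    σ • (B.mulVec x) = (B.map σ).mulVec (σ • x) := by
  ext i
  simp [Matrix.mulVec, dotProduct, AlgEquiv.smul_def, map_sum, map_mul]

/-- The `GL(K^n)`-valued cocycle attached to a matrix cocycle. -/
noncomputable def cocycleOf (B : (K ≃ₐ[k] K) → GL (Fin n) K)
    (hB : ∀ σ τ : K ≃ₐ[k] K, (B (σ * τ) : Matrix (Fin n) (Fin n) K) =
      (B σ : Matrix (Fin n) (Fin n) K) * ((B τ : Matrix (Fin n) (Fin n) K).map σ)) :
    GpH1.OneCocycle (K ≃ₐ[k] K) ((Fin n → K) ≃ₗ[K] (Fin n → K)) :=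
  ⟨fun σ => Matrix.toLinearEquiv' (B σ).val (B σ).invertible, by
    intro σ τ
    apply LinearEquiv.ext
    intro x
    show (B (σ * τ)).val.mulVec x = (B σ).val.mulVec (σ • ((B τ).val.mulVec (σ⁻¹ • x)))
    rw [hB, smul_mulVec, smul_inv_smul, Matrix.mulVec_mulVec]⟩

theorem cocycleOf_apply (B : (K ≃ₐ[k] K) → GL (Fin n) K)
    (hB : ∀ σ τ : K ≃ₐ[k] K, (B (σ * τ) : Matrix (Fin n) (Fin n) K) =
      (B σ : Matrix (Fin n) (Fin n) K) * ((B τ : Matrix (Fin n) (Fin n) K).map σ))
    (σ : K ≃ₐ[k] K) (x : Fin n → K) : (cocycleOf B hB) σ x = (B σ).val.mulVec x := rfl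

variable [FiniteDimensional k K] [IsGalois k K]

theorem exists_GL (B : (K ≃ₐ[k] K) → GL (Fin n) K)
    (hB : ∀ σ τ : K ≃ₐ[k] K, (B (σ * τ) : Matrix (Fin n) (Fin n) K) =
      (B σ : Matrix (Fin n) (Fin n) K) * ((B τ : Matrix (Fin n) (Fin n) K).map σ)) :
    ∃ P : GL (Fin n) K, ∀ σ : K ≃ₐ[k] K,
      (B σ : Matrix (Fin n) (Fin n) K) * ((P : Matrix (Fin n) (Fin n) K).map σ) = P := by
  classical
  let a := cocycleOf B hB
  let W := GalDesc.fixedSub a
  let e : K ⊗[k] W ≃ₗ[K] (Fin n → K) := GalDescent.descentEquiv a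
  let b := Module.Free.chooseBasis k W
  let bK : Module.Basis _ K (K ⊗[k] W) := Algebra.TensorProduct.basis K b
  let bM : Module.Basis _ K (Fin n → K) := bK.map e
  let g : Fin n ≃ Module.Free.ChooseBasisIndex k W := (Pi.basisFun K (Fin n)).indexEquiv bM
  let b' : Module.Basis (Fin n) K (Fin n → K) := bM.reindex g.symm
  have hb' : ∀ j, b' j = (b (g j) : Fin n → K) := by
    intro j
    simp only [b', bM, bK, e, Algebra.TensorProduct.basis_apply, Module.Basis.reindex_apply,
      Equiv.symm_symm, Module.Basis.map_apply]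
    rw [GalDescent.descentEquiv_tmul, one_smul]
  have hW : ∀ (j : Fin n) (σ : K ≃ₐ[k] K), (B σ).val.mulVec (σ • (b' j)) = b' j := by
    intro j σ
    rw [hb']
    exact (b (g j)).2 σ
  let P : Matrix (Fin n) (Fin n) K := (Pi.basisFun K (Fin n)).toMatrix b'
  have : Invertible P := (Pi.basisFun K (Fin n)).invertibleToMatrix b'
  refine ⟨unitOfInvertible P, fun σ => ?_⟩
  ext i j
  have := congrFun (hW j σ) i
  simpa [P, Matrix.mul_apply, Matrix.mulVec, dotProduct, Module.Basis.toMatrix_apply,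
    AlgEquiv.smul_def] using this

end Groth.Agent.Helper20.H90
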