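import Mathlib
import Groth.Agent.Lib.Helper20.VBSat9

/-!
# Auxiliary lemmas on Higgs sub-bundles (for opposite Higgs filtrations)
-/

set_option autoImplicit false
set_option maxHeartbeats 800000
set_option linter.style.haveILetI false
set_option linter.unusedSectionVars false
set_option linter.unusedVariables false
universe u
open CategoryTheory CategoryTheory.Limits AlgebraicGeometry Opposite TopologicalSpace
open Groth.Agent.Helper20.RankFn Groth.Agent.Helper13 Groth.Agent.Helper13.TwistSES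
open Groth.Agent.Helper13.QCoh Groth.Agent.Helper13.FinType Groth.Agent.Helper13.LocFree

namespace Groth.Agent.Helper20.VBMap

variable (k : Type u) [Field k] {X : Scheme.{u}} [X.Over (Spec (CommRingCat.of k))] [IsIntegral X]
  [IsProper (X ↘ Spec (CommRingCat.of k))] [Smooth (X ↘ Spec (CommRingCat.of k))]

/-- semistability of an `L`-valued Higgs bundle `(E, φ)` of rank `r`. -/
def HiggsSS (L : X.Modules) (r : ℕ) (E : X.Modules) (φ : E ⟶ CohB1.tensorMod E L) : Prop :=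
  ∀ (G : X.Modules) (s : ℕ) (j : G ⟶ E) (χ : G ⟶ CohB1.tensorMod G L), Mono j → 0 < s →
    FlatMod.IsFinLocFreeOfRank s G →
    χ ≫ Tensor.map j (𝟙 L) = j ≫ φ →
    Curv2.deg k X G s * (r : ℤ) ≤ Curv2.deg k X E r * (s : ℤ)

/-- a Higgs sub-bundle of the same slope of a semistable Higgs bundle is semistable. -/
theorem higgsSS_sub (L : X.Modules) (r : ℕ) (hr : 0 < r) (E : X.Modules)
    (φ : E ⟶ CohB1.tensorMod E L) (hss : HiggsSS k L r E φ)
    (E' : X.Modules) (r' : ℕ) (ι : E' ⟶ E) [Mono ι] (ψ : E' ⟶ CohB1.tensorMod E' L)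
    (hψ : ψ ≫ Tensor.map ι (𝟙 L) = ι ≫ φ)
    (hslope : Curv2.deg k X E' r' * (r : ℤ) = Curv2.deg k X E r * (r' : ℤ)) :
    HiggsSS k L r' E' ψ := by
  intro G s j χ hj hs hG hχ
  haveI := hj
  have h := hss G s (j ≫ ι) χ (mono_comp _ _) hs hG (by
    have e1 : Tensor.map (j ≫ ι) (𝟙 L) = Tensor.map j (𝟙 L) ≫ Tensor.map ι (𝟙 L) := by
      rw [← Tensor.map_comp, Category.comp_id]
    rw [e1, ← Category.assoc, hχ, Category.assoc, hψ, Category.assoc])
  have hrZ : (0 : ℤ) < r := by exact_mod_cast hr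
  have hr'Z : (0 : ℤ) ≤ r' := by positivity
  have h3 : (Curv2.deg k X G s * (r' : ℤ)) * r ≤ (Curv2.deg k X E' r' * (s : ℤ)) * r := by
    have e1 := mul_le_mul_of_nonneg_right h hr'Z
    have e2 : Curv2.deg k X E' r' * (s : ℤ) * r = Curv2.deg k X E r * (r' : ℤ) * s := by
      rw [← hslope]; ring
    rw [e2]
    linarith
  exact le_of_mul_le_mul_right h3 hrZ

/-- compatibility of the restricted Higgs fields along an inclusion of Higgs sub-bundles. -/
theorem higgs_compat (L : X.Modules) (hL : PicF.IsInvertible L) {E E' E'' : X.Modules}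
    (φ : E ⟶ CohB1.tensorMod E L) (ι : E' ⟶ E) (ι' : E'' ⟶ E) [Mono ι'] (a : E' ⟶ E'')
    (ha : a ≫ ι' = ι) (ψ' : E' ⟶ CohB1.tensorMod E' L) (ψ'' : E'' ⟶ CohB1.tensorMod E'' L)
    (hψ' : ψ' ≫ Tensor.map ι (𝟙 L) = ι ≫ φ) (hψ'' : ψ'' ≫ Tensor.map ι' (𝟙 L) = ι' ≫ φ) :
    ψ' ≫ Tensor.map a (𝟙 L) = a ≫ ψ'' := by
  haveI := mono_map_id ι' L hL
  rw [← cancel_mono (Tensor.map ι' (𝟙 L)), Category.assoc, ← Tensor.map_comp, Category.comp_id,
    ha, hψ', Category.assoc, hψ'', ← Category.assoc, ha]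

/-- the degree of a bundle of rank zero is zero. -/
theorem deg_eq_zero_of_rank_zero (M : X.Modules) (hM : FlatMod.IsFinLocFreeOfRank 0 M) :
    Curv2.deg k X M 0 = 0 := by
  have hMl := VBIndec.isFinLocFree_of_rank 0 M hM
  have hz : IsZero M := isZero_of_rk_eq_zero M hMl
    (fun y => rk_eq_of_isFinLocFreeOfRank _ _ hM y)
  have hc : Coh.IsCoh M := Groth.Agent.Helper9.ResVan.isCoh_of_isFinLocFree _ hMl
  unfold Curv2.deg
  rw [euler_eq_zero_of_isZero k M hz hc]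
  simp

/-- the quotient by a zero sub-bundle. -/
theorem higgs_quotient_zero (L : X.Modules) (hL : PicF.IsInvertible L) (r : ℕ)
    (E : X.Modules) (hE : FlatMod.IsFinLocFreeOfRank r E) (φ : E ⟶ CohB1.tensorMod E L)
    (hss : HiggsSS k L r E φ) (Z : X.Modules) (hZ : IsZero Z) (a : Z ⟶ E) :
    FlatMod.IsFinLocFreeOfRank r (cokernel a) ∧
    Curv2.deg k X (cokernel a) r = Curv2.deg k X E r ∧
    ∀ (φ' : cokernel a ⟶ CohB1.tensorMod (cokernel a) L),
      cokernel.π a ≫ φ' = φ ≫ Tensor.map (cokernel.π a) (𝟙 L) → HiggsSS k L r (cokernel a) φ' := by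
  have hN : IsLocallyNoetherian X := isLocallyNoetherian_of_proper k
  obtain rfl : a = 0 := hZ.eq_of_src _ _
  haveI : IsIso (cokernel.π (0 : Z ⟶ E)) := cokernel.π_zero_isIso
  let δ : E ≅ cokernel (0 : Z ⟶ E) := asIso (cokernel.π (0 : Z ⟶ E))
  have hEc : Coh.IsCoh E :=
    Groth.Agent.Helper9.ResVan.isCoh_of_isFinLocFree _ (VBIndec.isFinLocFree_of_rank r _ hE)
  have hd : Curv2.deg k X (cokernel (0 : Z ⟶ E)) r = Curv2.deg k X E r := deg_eq_of_iso k δ hEc r
  refine ⟨isFinLocFreeOfRank_of_iso δ hE, hd, ?_⟩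
  intro φ' hφ' G s j χ hj hs hG hχ
  haveI := hj
  rw [hd]
  refine hss G s (j ≫ δ.inv) χ (mono_comp _ _) hs hG ?_
  have e1 : Tensor.map (j ≫ δ.inv) (𝟙 L) = Tensor.map j (𝟙 L) ≫ Tensor.map δ.inv (𝟙 L) := by
    rw [← Tensor.map_comp, Category.comp_id]
  have e2 : φ' ≫ Tensor.map δ.inv (𝟙 L) = δ.inv ≫ φ := by
    have h1 : δ.hom ≫ φ' = φ ≫ Tensor.map δ.hom (𝟙 L) := hφ'
    rw [← cancel_epi δ.hom, ← Category.assoc, h1, Category.assoc, ← Tensor.map_comp,
      Category.comp_id, δ.hom_inv_id, Tensor.map_id, Category.comp_id, ← Category.assoc,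
      δ.hom_inv_id, Category.id_comp]
  rw [e1, ← Category.assoc, hχ, Category.assoc, e2, Category.assoc]

end Groth.Agent.Helper20.VBMap
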