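import Mathlib
import Groth.Agent.Lib.Helper20.HiggsOpp1

/-!
# Opposite Higgs filtrations on semistable Higgs bundles of the same slope
-/

set_option autoImplicit false
set_option maxHeartbeats 1600000
set_option linter.style.haveILetI false
set_option linter.unusedSectionVars false
set_option linter.unusedVariables false
universe u
open CategoryTheory CategoryTheory.Limits AlgebraicGeometry Opposite TopologicalSpace
open Groth.Agent.Helper20.RankFn Groth.Agent.Helper13 Groth.Agent.Helper13.TwistSES
open Groth.Agent.Helper13.QCoh Groth.Agent.Helper13.FinType Groth.Agent.Helper13.LocFree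

namespace Groth.Agent.Helper20.VBMap

variable (k : Type u) [Field k] {X : Scheme.{u}} [X.Over (Spec (CommRingCat.of k))] [IsIntegral X]
  [IsProper (X ↘ Spec (CommRingCat.of k))] [Smooth (X ↘ Spec (CommRingCat.of k))]

/-- degree bound for a Higgs sub-bundle of any rank (rank zero allowed). -/
theorem higgsSS_le (L : X.Modules) (r : ℕ) (E : X.Modules) (φ : E ⟶ CohB1.tensorMod E L)
    (hss : HiggsSS k L r E φ) (E' : X.Modules) (r' : ℕ) (hE' : FlatMod.IsFinLocFreeOfRank r' E')
    (ι : E' ⟶ E) [Mono ι] (ψ : E' ⟶ CohB1.tensorMod E' L)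
    (hψ : ψ ≫ Tensor.map ι (𝟙 L) = ι ≫ φ) :
    Curv2.deg k X E' r' * (r : ℤ) ≤ Curv2.deg k X E r * (r' : ℤ) := by
  rcases Nat.eq_zero_or_pos r' with h0 | hpos
  · subst h0
    rw [deg_eq_zero_of_rank_zero k E' hE']
    simp
  · exact hss E' r' ι ψ inferInstance hpos hE' hψ

/-- Euler characteristic bookkeeping along two opposite chains. -/
theorem euler_opposite (n : ℕ) (Es Fs : ℕ → X.Modules) (hEc : ∀ i, Coh.IsCoh (Es i))
    (hFc : ∀ i, Coh.IsCoh (Fs i))
    (a : ∀ i, Es i ⟶ Es (i + 1)) (ha : ∀ i, Mono (a i))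
    (b : ∀ i, Fs (i + 1) ⟶ Fs i) (hb : ∀ i, Mono (b i))
    (hopp : ∀ i, i < n → Nonempty (cokernel (a i) ≅ cokernel (b i))) :
    ∀ i, i ≤ n → Curv2.euler k X (Es i) + Curv2.euler k X (Fs i) =
      Curv2.euler k X (Es 0) + Curv2.euler k X (Fs 0) := by
  have hN : IsLocallyNoetherian X := isLocallyNoetherian_of_proper k
  intro i
  induction i with
  | zero => intro _; rfl
  | succ i ih =>
    intro hi
    have hi' : i < n := hi
    rw [← ih hi'.le]
    haveI := ha i
    haveI := hb i
    obtain ⟨e⟩ := hopp i hi'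
    have hCa : Coh.IsCoh (cokernel (a i)) := isCoh_cokernel' (hEc i) (hEc (i + 1)) (a i)
    have hCb : Coh.IsCoh (cokernel (b i)) := isCoh_cokernel' (hFc (i + 1)) (hFc i) (b i)
    let S : ShortComplex X.Modules := ShortComplex.mk (a i) (cokernel.π (a i)) (cokernel.condition _)
    have hS : S.ShortExact :=
      ShortComplex.ShortExact.mk' (ShortComplex.exact_cokernel (a i))
        (inferInstanceAs (Mono (a i))) (inferInstanceAs (Epi (cokernel.π (a i))))
    let T : ShortComplex X.Modules := ShortComplex.mk (b i) (cokernel.π (b i)) (cokernel.condition _)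
    have hT : T.ShortExact :=
      ShortComplex.ShortExact.mk' (ShortComplex.exact_cokernel (b i))
        (inferInstanceAs (Mono (b i))) (inferInstanceAs (Epi (cokernel.π (b i))))
    have h1 := Groth.Agent.S1524.result k X S hS (hEc i) (hEc (i + 1)) hCa
    have h2 := Groth.Agent.S1524.result k X T hT (hFc (i + 1)) (hFc i) hCb
    have h3 : Curv2.euler k X (cokernel (b i)) = Curv2.euler k X (cokernel (a i)) :=
      euler_eq_of_iso k e hCa
    change Curv2.euler k X (Es (i + 1)) =
      Curv2.euler k X (Es i) + Curv2.euler k X (cokernel (a i)) at h1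
    change Curv2.euler k X (Fs i) =
      Curv2.euler k X (Fs (i + 1)) + Curv2.euler k X (cokernel (b i)) at h2
    linarith

end Groth.Agent.Helper20.VBMap
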