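import Mathlib
import Groth.Agent.Lib.Helper20.HiggsOpp2

/-!
# Opposite Higgs filtrations on semistable Higgs bundles of the same slope: main statement
-/

set_option autoImplicit false
set_option maxHeartbeats 1600000
set_option linter.style.haveILetI false
set_option linter.unusedSectionVars false
set_option linter.unusedVariables false
universe u
open CategoryTheory CategoryTheory.Limits AlgebraicGeometry Opposite TopologicalSpace
open Groth.Agent.Helper20.RankFn Groth.Agent.Helper13 Groth.Agent.Helper13.TwistSES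
open Groth.Agent.Helper13.QCoh Groth.Agent.Helper13.FinType Groth.Agent.Helper13.LocFree

namespace Groth.Agent.Helper20.VBMap

variable (k : Type u) [Field k] {X : Scheme.{u}} [X.Over (Spec (CommRingCat.of k))] [IsIntegral X]
  [IsProper (X ↘ Spec (CommRingCat.of k))] [Smooth (X ↘ Spec (CommRingCat.of k))]

theorem opposite_filtrations (hdim : topologicalKrullDim X = 1)
    (L : X.Modules) (hL : PicF.IsInvertible L) (r : ℕ) (hr : 0 < r) (d : ℤ)
    (E : X.Modules) (hE : FlatMod.IsFinLocFreeOfRank r E) (φE : E ⟶ CohB1.tensorMod E L)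
    (hEd : Curv2.deg k X E r = d)
    (hEss : HiggsSS k L r E φE)
    (F : X.Modules) (hF : FlatMod.IsFinLocFreeOfRank r F) (φF : F ⟶ CohB1.tensorMod F L)
    (hFd : Curv2.deg k X F r = d)
    (hFss : HiggsSS k L r F φF)
    (n : ℕ)
    (Es : ℕ → X.Modules) (rE : ℕ → ℕ) (hEs : ∀ i, FlatMod.IsFinLocFreeOfRank (rE i) (Es i))
    (ιE : ∀ i, Es i ⟶ E) (hιE : ∀ i, Mono (ιE i))
    (ψE : ∀ i, Es i ⟶ CohB1.tensorMod (Es i) L)
    (hψE : ∀ i, ψE i ≫ Tensor.map (ιE i) (𝟙 L) = ιE i ≫ φE)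
    (a : ∀ i, Es i ⟶ Es (i + 1)) (ha : ∀ i, a i ≫ ιE (i + 1) = ιE i)
    (hE0 : IsZero (Es 0)) (hEn : IsIso (ιE n))
    (Fs : ℕ → X.Modules) (rF : ℕ → ℕ) (hFs : ∀ i, FlatMod.IsFinLocFreeOfRank (rF i) (Fs i))
    (ιF : ∀ i, Fs i ⟶ F) (hιF : ∀ i, Mono (ιF i))
    (ψF : ∀ i, Fs i ⟶ CohB1.tensorMod (Fs i) L)
    (hψF : ∀ i, ψF i ≫ Tensor.map (ιF i) (𝟙 L) = ιF i ≫ φF)
    (b : ∀ i, Fs (i + 1) ⟶ Fs i) (hb : ∀ i, b i ≫ ιF i = ιF (i + 1))
    (hF0 : IsIso (ιF 0)) (hFn : IsZero (Fs n))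
    (hrk : ∀ i, i ≤ n → rE i + rF i = r)
    (hopp : ∀ i, i < n → Nonempty (cokernel (a i) ≅ cokernel (b i))) :
    (∀ i, i ≤ n → 0 < rE i →
      Curv2.deg k X (Es i) (rE i) * (r : ℤ) = d * (rE i : ℤ) ∧
        HiggsSS k L (rE i) (Es i) (ψE i)) ∧
    (∀ i, i ≤ n → 0 < rF i →
      Curv2.deg k X (Fs i) (rF i) * (r : ℤ) = d * (rF i : ℤ) ∧
        HiggsSS k L (rF i) (Fs i) (ψF i)) ∧
    (∀ i, i < n → rE i < rE (i + 1) →
      FlatMod.IsFinLocFreeOfRank (rE (i + 1) - rE i) (cokernel (a i)) ∧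
      Curv2.deg k X (cokernel (a i)) (rE (i + 1) - rE i) * (r : ℤ) =
        d * ((rE (i + 1) - rE i : ℕ) : ℤ) ∧
      ∀ (φ' : cokernel (a i) ⟶ CohB1.tensorMod (cokernel (a i)) L),
        cokernel.π (a i) ≫ φ' = ψE (i + 1) ≫ Tensor.map (cokernel.π (a i)) (𝟙 L) →
        HiggsSS k L (rE (i + 1) - rE i) (cokernel (a i)) φ') := by
  have hN : IsLocallyNoetherian X := isLocallyNoetherian_of_proper k
  have hrZ : (0 : ℤ) < r := by exact_mod_cast hr
  have hEc : ∀ i, Coh.IsCoh (Es i) := fun i =>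
    Groth.Agent.Helper9.ResVan.isCoh_of_isFinLocFree _ (VBIndec.isFinLocFree_of_rank _ _ (hEs i))
  have hFc : ∀ i, Coh.IsCoh (Fs i) := fun i =>
    Groth.Agent.Helper9.ResVan.isCoh_of_isFinLocFree _ (VBIndec.isFinLocFree_of_rank _ _ (hFs i))
  have ham : ∀ i, Mono (a i) := fun i => by
    haveI := hιE i
    exact mono_of_mono_fac (ha i)
  have hbm : ∀ i, Mono (b i) := fun i => by
    haveI := hιF (i + 1)
    exact mono_of_mono_fac (hb i)
  -- ranks at the ends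
  have hrE0 : rE 0 = 0 := by
    by_contra h
    exact VBIndec.not_isZero_of_isFinLocFreeOfRank (rE 0) (Nat.pos_of_ne_zero h) _ (hEs 0) hE0
  -- Euler characteristics
  have heul := euler_opposite k n Es Fs hEc hFc a ham b hbm hopp
  have he0 : Curv2.euler k X (Es 0) = 0 := euler_eq_zero_of_isZero k _ hE0 (hEc 0)
  have hf0 : Curv2.euler k X F = Curv2.euler k X (Fs 0) := by
    haveI := hF0
    exact euler_eq_of_iso k (asIso (ιF 0)) (hFc 0)
  -- the sum of the degrees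
  have hsum : ∀ i, i ≤ n →
      Curv2.deg k X (Es i) (rE i) + Curv2.deg k X (Fs i) (rF i) = d := by
    intro i hi
    have h1 := heul i hi
    have h2 := hrk i hi
    rw [he0, ← hf0] at h1
    rw [← hFd]
    unfold Curv2.deg
    have h3 : ((rE i : ℤ) + (rF i : ℤ)) = (r : ℤ) := by exact_mod_cast h2
    have h4 : (r : ℤ) * Curv2.euler k X (Coh.structureModule X) =
        (rE i : ℤ) * Curv2.euler k X (Coh.structureModule X) +
          (rF i : ℤ) * Curv2.euler k X (Coh.structureModule X) := by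
      rw [← h3]; ring
    linarith
  -- the inequalities
  have hleE : ∀ i, Curv2.deg k X (Es i) (rE i) * (r : ℤ) ≤ d * (rE i : ℤ) := fun i => by
    haveI := hιE i
    have := higgsSS_le k L r E φE hEss (Es i) (rE i) (hEs i) (ιE i) (ψE i) (hψE i)
    rwa [hEd] at this
  have hleF : ∀ i, Curv2.deg k X (Fs i) (rF i) * (r : ℤ) ≤ d * (rF i : ℤ) := fun i => by
    haveI := hιF i
    have := higgsSS_le k L r F φF hFss (Fs i) (rF i) (hFs i) (ιF i) (ψF i) (hψF i)
    rwa [hFd] at this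
  -- the equalities
  have hboth : ∀ i, i ≤ n →
      Curv2.deg k X (Es i) (rE i) * (r : ℤ) = d * (rE i : ℤ) ∧
      Curv2.deg k X (Fs i) (rF i) * (r : ℤ) = d * (rF i : ℤ) := by
    intro i hi
    have h1 := hleE i
    have h2 := hleF i
    have h3 := hsum i hi
    have h4 := hrk i hi
    have h4' : ((rE i : ℤ) + (rF i : ℤ)) = (r : ℤ) := by exact_mod_cast h4
    have h5 : Curv2.deg k X (Es i) (rE i) * (r : ℤ) + Curv2.deg k X (Fs i) (rF i) * (r : ℤ) =
        d * (rE i : ℤ) + d * (rF i : ℤ) := by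
      rw [← add_mul, h3, ← mul_add, h4']
    constructor <;> linarith
  have hssE : ∀ i, i ≤ n → HiggsSS k L (rE i) (Es i) (ψE i) := by
    intro i hi
    haveI := hιE i
    exact higgsSS_sub k L r hr E φE hEss (Es i) (rE i) (ιE i) (ψE i) (hψE i)
      (by rw [(hboth i hi).1, hEd])
  have hssF : ∀ i, i ≤ n → HiggsSS k L (rF i) (Fs i) (ψF i) := by
    intro i hi
    haveI := hιF i
    exact higgsSS_sub k L r hr F φF hFss (Fs i) (rF i) (ιF i) (ψF i) (hψF i)
      (by rw [(hboth i hi).2, hFd])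
  refine ⟨fun i hi _ => ⟨(hboth i hi).1, hssE i hi⟩, fun i hi _ => ⟨(hboth i hi).2, hssF i hi⟩, ?_⟩
  intro i hi hlt
  haveI := ham i
  haveI := hιE (i + 1)
  have hcompat : ψE i ≫ Tensor.map (a i) (𝟙 L) = a i ≫ ψE (i + 1) :=
    higgs_compat L hL φE (ιE i) (ιE (i + 1)) (a i) (ha i) (ψE i) (ψE (i + 1)) (hψE i)
      (hψE (i + 1))
  have hCc : Coh.IsCoh (cokernel (a i)) := isCoh_cokernel' (hEc i) (hEc (i + 1)) (a i)
  let S : ShortComplex X.Modules :=
    ShortComplex.mk (a i) (cokernel.π (a i)) (cokernel.condition _)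
  have hS : S.ShortExact :=
    ShortComplex.ShortExact.mk' (ShortComplex.exact_cokernel (a i))
      (inferInstanceAs (Mono (a i))) (inferInstanceAs (Epi (cokernel.π (a i))))
  have hdeg := deg_shortExact k S hS (hEc i) (hEc (i + 1)) hCc (rE i) (rE (i + 1))
    (rE (i + 1) - rE i) (by omega)
  change Curv2.deg k X (Es (i + 1)) (rE (i + 1)) = Curv2.deg k X (Es i) (rE i) +
    Curv2.deg k X (cokernel (a i)) (rE (i + 1) - rE i) at hdeg
  have h1 := (hboth i hi.le).1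
  have h2 := (hboth (i + 1) hi).1
  have hdC : Curv2.deg k X (cokernel (a i)) (rE (i + 1) - rE i) * (r : ℤ) =
      d * ((rE (i + 1) - rE i : ℕ) : ℤ) := by
    have h3 : ((rE (i + 1) - rE i : ℕ) : ℤ) = (rE (i + 1) : ℤ) - (rE i : ℤ) := by
      rw [Nat.cast_sub hlt.le]
    have h4 : Curv2.deg k X (cokernel (a i)) (rE (i + 1) - rE i) =
        Curv2.deg k X (Es (i + 1)) (rE (i + 1)) - Curv2.deg k X (Es i) (rE i) := by linarith
    rw [h3, h4, sub_mul, h1, h2]
    ring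
  rcases Nat.eq_zero_or_pos (rE i) with h0 | hpos
  · have hz : IsZero (Es i) :=
      isZero_of_rk_eq_zero _ (VBIndec.isFinLocFree_of_rank _ _ (hEs i))
        (fun y => by rw [rk_eq_of_isFinLocFreeOfRank _ _ (hEs i) y, h0])
    obtain ⟨g1, g2, g3⟩ := higgs_quotient_zero k L hL (rE (i + 1)) (Es (i + 1)) (hEs (i + 1))
      (ψE (i + 1)) (hssE (i + 1) hi) (Es i) hz (a i)
    have hsub : rE (i + 1) - rE i = rE (i + 1) := by omega
    refine ⟨?_, hdC, ?_⟩
    · rw [hsub]; exact g1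
    · rw [hsub]; exact g3
  · have hslope : Curv2.deg k X (Es i) (rE i) * ((rE (i + 1) : ℕ) : ℤ) =
        Curv2.deg k X (Es (i + 1)) (rE (i + 1)) * ((rE i : ℕ) : ℤ) := by
      have e0 : (Curv2.deg k X (Es i) (rE i) * ((rE (i + 1) : ℕ) : ℤ)) * (r : ℤ) =
          (Curv2.deg k X (Es (i + 1)) (rE (i + 1)) * ((rE i : ℕ) : ℤ)) * (r : ℤ) := by
        have e1 : (Curv2.deg k X (Es i) (rE i) * ((rE (i + 1) : ℕ) : ℤ)) * (r : ℤ) =
            (Curv2.deg k X (Es i) (rE i) * (r : ℤ)) * ((rE (i + 1) : ℕ) : ℤ) := by ring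
        have e2 : (Curv2.deg k X (Es (i + 1)) (rE (i + 1)) * ((rE i : ℕ) : ℤ)) * (r : ℤ) =
            (Curv2.deg k X (Es (i + 1)) (rE (i + 1)) * (r : ℤ)) * ((rE i : ℕ) : ℤ) := by ring
        rw [e1, e2, h1, h2]
        ring
      exact mul_right_cancel₀ (ne_of_gt hrZ) e0
    obtain ⟨g1, g2⟩ := higgs_quotient k hdim L hL (rE (i + 1)) (by omega) (Es (i + 1))
      (hEs (i + 1)) (ψE (i + 1)) (hssE (i + 1) hi) (Es i) (rE i) hpos (hEs i) (a i) (ψE i)
      hcompat hslope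
    exact ⟨g1, hdC, g2⟩

end Groth.Agent.Helper20.VBMap
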