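import Mathlib
import Groth.Prelude.Def_W4c1hilbpnTgt
import Groth.Agent.Lib.Helper25.HilbTgt
import Groth.Agent.Lib.Helper25.HilbTgtB
import Groth.Agent.Lib.Helper25.HilbDecomp
import Groth.Agent.Lib.Helper25.HilbIndep

/-!
Graded pieces of `T(I) = Hom(I, S/I)` for a monomial ideal given by generators: the piece of
multidegree `α` is the solution space of a linear system on the generators (helper20).
-/

set_option autoImplicit false

namespace Groth.Agent.Helper20.HilbGen

open MvPolynomial W4c1hilbpn Groth.Agent.Helper25.HilbTgt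

variable {σ : Type*} {k : Type*} [Field k] {ι : Type*}

section span

variable (k) (m : ι → (σ →₀ ℕ))

/-- the monomial ideal generated by the `x^(m i)` -/
noncomputable def genIdeal : Ideal (MvPolynomial σ k) :=
  Ideal.span (Set.range fun i => monomial (m i) (1 : k))

lemma genIdeal_eq : genIdeal k m =
    Ideal.span ((fun s => monomial s (1 : k)) '' Set.range m) := by
  unfold genIdeal
  rw [← Set.range_comp]
  rfl

lemma mem_exps_genIdeal {β : σ →₀ ℕ} : β ∈ exps (genIdeal k m) ↔ ∃ i, m i ≤ β := by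
  classical
  show monomial β (1 : k) ∈ genIdeal k m ↔ _
  rw [genIdeal_eq, mem_ideal_span_monomial_image]
  constructor
  · intro h
    have hs : β ∈ (monomial β (1 : k)).support := by
      rw [support_monomial, if_neg one_ne_zero]
      exact Finset.mem_singleton_self _
    obtain ⟨si, ⟨i, rfl⟩, hle⟩ := h β hs
    exact ⟨i, hle⟩
  · rintro ⟨i, hi⟩ xi hxi
    rw [support_monomial, if_neg one_ne_zero, Finset.mem_singleton] at hxi
    subst hxi
    exact ⟨m i, ⟨i, rfl⟩, hi⟩

lemma isMonomial_genIdeal : IsMonomial (genIdeal k m) := by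
  intro p hp β hβ
  rw [genIdeal_eq, mem_ideal_span_monomial_image] at hp
  obtain ⟨si, ⟨i, rfl⟩, hle⟩ := hp β hβ
  exact (mem_exps_genIdeal k m).2 ⟨i, hle⟩

lemma mem_gen (i : ι) : monomial (m i) (1 : k) ∈ genIdeal k m :=
  Ideal.subset_span ⟨i, rfl⟩

lemma mem_of_le {β : σ →₀ ℕ} {i : ι} (h : m i ≤ β) : monomial β (1 : k) ∈ genIdeal k m :=
  (mem_exps_genIdeal k m).2 ⟨i, h⟩

end span

section smul

variable {I : Ideal (MvPolynomial σ k)}

lemma tgt_monomial_add (φ : Tgt I) (β δ : σ →₀ ℕ) (hβ : monomial β (1 : k) ∈ I)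
    (hβ' : monomial (β + δ) (1 : k) ∈ I) :
    φ ⟨monomial (β + δ) 1, hβ'⟩ = (monomial δ (1 : k)) • φ ⟨monomial β 1, hβ⟩ := by
  rw [← map_smul]
  congr 1
  apply Subtype.ext
  show monomial (β + δ) (1 : k) = monomial δ 1 * monomial β 1
  rw [monomial_mul, one_mul, add_comm]

lemma monomial_smul_q (δ γ : σ →₀ ℕ) :
    (monomial δ (1 : k) : MvPolynomial σ k) • q I γ = q I (γ + δ) := by
  have e : monomial (γ + δ) (1 : k) = monomial δ 1 * monomial γ 1 := by
    rw [monomial_mul, one_mul, add_comm]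
  unfold q
  rw [e]
  rfl

end smul

section main

variable [Fintype σ] [DecidableEq σ] (k) (m : ι → (σ →₀ ℕ)) (α : σ → ℤ)

omit [DecidableEq σ] in
lemma shift_apply (β : σ →₀ ℕ) (l : σ) : shift β α l = ((β l : ℤ) + α l).toNat := rfl

omit [DecidableEq σ] in
lemma shift_add {β : σ →₀ ℕ} (hpos : ∀ l, 0 ≤ (β l : ℤ) + α l) (δ : σ →₀ ℕ) :
    shift (β + δ) α = shift β α + δ := by
  ext l
  rw [Finsupp.add_apply, shift_apply, shift_apply, Finsupp.add_apply]
  have := hpos l
  push_cast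
  omega

omit [DecidableEq σ] in
lemma shift_mono {β β' : σ →₀ ℕ} (h : β ≤ β') : shift β α ≤ shift β' α := by
  rw [Finsupp.le_def]
  intro l
  rw [shift_apply, shift_apply]
  have := Finsupp.le_def.1 h l
  omega

/-- `x^(β+α)` is a nonzero monomial class of `S/I` -/
def Alive (β : σ →₀ ℕ) : Prop :=
  (∀ l, 0 ≤ (β l : ℤ) + α l) ∧ ∀ t, ¬ m t ≤ shift β α

omit [DecidableEq σ] in
lemma alive_iff (β : σ →₀ ℕ) : Alive m α β ↔
    (∀ l, 0 ≤ (β l : ℤ) + α l) ∧ ∀ t, ∃ l, (β l : ℤ) + α l < (m t l : ℤ) := by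
  constructor
  · rintro ⟨hpos, h⟩
    refine ⟨hpos, fun t => ?_⟩
    by_contra hcon
    push Not at hcon
    apply h t
    rw [Finsupp.le_def]
    intro l
    have h1 := hcon l
    have h2 := hpos l
    rw [shift_apply]
    omega
  · rintro ⟨hpos, h⟩
    refine ⟨hpos, fun t ht => ?_⟩
    obtain ⟨l, hl⟩ := h t
    have h1 := Finsupp.le_def.1 ht l
    have h2 := hpos l
    rw [shift_apply] at h1
    omega

omit [DecidableEq σ] in
lemma alive_of_le {β β' : σ →₀ ℕ} (h : β ≤ β') (hpos : ∀ l, 0 ≤ (β l : ℤ) + α l)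
    (h' : Alive m α β') : Alive m α β :=
  ⟨hpos, fun t ht => h'.2 t (ht.trans (shift_mono α h))⟩

/-- the solution space over the generators -/
def V : Submodule k (ι → k) where
  carrier := {c | (∀ i, ¬ Alive m α (m i) → c i = 0) ∧
    ∀ i j, Alive m α (m i ⊔ m j) → c i = c j}
  zero_mem' := ⟨fun _ _ => rfl, fun _ _ _ => rfl⟩
  add_mem' := by
    rintro a b ⟨ha1, ha2⟩ ⟨hb1, hb2⟩
    refine ⟨fun i hi => ?_, fun i j hij => ?_⟩
    · simp [ha1 i hi, hb1 i hi]
    · simp [ha2 i j hij, hb2 i j hij]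
  smul_mem' := by
    rintro r a ⟨ha1, ha2⟩
    refine ⟨fun i hi => ?_, fun i j hij => ?_⟩
    · simp [ha1 i hi]
    · simp [ha2 i j hij]

omit [DecidableEq σ] in
lemma mem_V {c : ι → k} : c ∈ V k m α ↔ (∀ i, ¬ Alive m α (m i) → c i = 0) ∧
    ∀ i j, Alive m α (m i ⊔ m j) → c i = c j := Iff.rfl

lemma not_mem_exps_of_alive {β : σ →₀ ℕ} (h : Alive m α β) :
    shift β α ∉ exps (genIdeal k m) := by
  intro hh
  obtain ⟨t, ht⟩ := (mem_exps_genIdeal k m).1 hh
  exact h.2 t ht

open Classical in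
/-- the coefficient of `φ(x^(m i))` -/
noncomputable def coefL (i : ι) : Tgt (genIdeal k m) →ₗ[k] k :=
  if h : Alive m α (m i) then
    (cfL (isMonomial_genIdeal k m) (shift (m i) α) (not_mem_exps_of_alive k m α h)).comp
      (evL (m i) (mem_gen k m i))
  else 0

lemma coefL_of_alive {i : ι} (h : Alive m α (m i)) (φ : Tgt (genIdeal k m)) :
    coefL k m α i φ = cf (shift (m i) α) (φ ⟨monomial (m i) 1, mem_gen k m i⟩) := by
  unfold coefL
  rw [dif_pos h]
  rfl

lemma coefL_of_not_alive {i : ι} (h : ¬ Alive m α (m i)) (φ : Tgt (genIdeal k m)) :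
    coefL k m α i φ = 0 := by
  unfold coefL
  rw [dif_neg h]
  rfl

lemma apply_gen {φ : Tgt (genIdeal k m)} (hφ : φ ∈ tPiece (genIdeal k m) α) (i : ι) :
    φ ⟨monomial (m i) 1, mem_gen k m i⟩ =
      coefL k m α i φ • q (genIdeal k m) (shift (m i) α) := by
  have hI := isMonomial_genIdeal k m
  have h := (mem_tPiece_iff.1 hφ) (m i) (mem_gen k m i)
  by_cases hA : Alive m α (m i)
  · have hγ := not_mem_exps_of_alive k m α hA
    obtain ⟨c, hc⟩ := Submodule.mem_span_singleton.1 (h.1 hA.1)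
    rw [coefL_of_alive k m α hA, ← hc, cf_smul hI hγ, cf_mk hI hγ, coeff_monomial, if_pos rfl,
      mul_one]
    rfl
  · rw [coefL_of_not_alive k m α hA, zero_smul]
    by_cases hpos : ∀ l, 0 ≤ ((m i) l : ℤ) + α l
    · have hin : shift (m i) α ∈ exps (genIdeal k m) := by
        by_contra hout
        apply hA
        refine ⟨hpos, fun t ht => hout ((mem_exps_genIdeal k m).2 ⟨t, ht⟩)⟩
      obtain ⟨c, hc⟩ := Submodule.mem_span_singleton.1 (h.1 hpos)
      rw [← hc]
      have h0 : Ideal.Quotient.mk (genIdeal k m) (monomial (shift (m i) α) (1 : k)) = 0 :=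
        Ideal.Quotient.eq_zero_iff_mem.2 hin
      rw [h0, smul_zero]
    · push Not at hpos
      exact h.2 hpos

lemma apply_ge {φ : Tgt (genIdeal k m)} (hφ : φ ∈ tPiece (genIdeal k m) α) (i : ι)
    (β : σ →₀ ℕ) (hle : m i ≤ β) (hβ : monomial β (1 : k) ∈ genIdeal k m) :
    φ ⟨monomial β 1, hβ⟩ = coefL k m α i φ • q (genIdeal k m) (shift β α) := by
  obtain ⟨δ, rfl⟩ := exists_add_of_le hle
  rw [tgt_monomial_add φ (m i) δ (mem_gen k m i) hβ, apply_gen k m α hφ i, smul_comm,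
    monomial_smul_q]
  by_cases hpos : ∀ l, 0 ≤ ((m i) l : ℤ) + α l
  · rw [shift_add α hpos]
  · have hA : ¬ Alive m α (m i) := fun hA => hpos hA.1
    rw [coefL_of_not_alive k m α hA, zero_smul, zero_smul]

lemma coef_mem {φ : Tgt (genIdeal k m)} (hφ : φ ∈ tPiece (genIdeal k m) α) :
    (fun i => coefL k m α i φ) ∈ V k m α := by
  refine ⟨fun i hi => coefL_of_not_alive k m α hi φ, fun i j hij => ?_⟩
  have hL : monomial (m i ⊔ m j) (1 : k) ∈ genIdeal k m := mem_of_le k m (le_sup_left)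
  have h1 := apply_ge k m α hφ i (m i ⊔ m j) le_sup_left hL
  have h2 := apply_ge k m α hφ j (m i ⊔ m j) le_sup_right hL
  rw [h1] at h2
  have hne : q (genIdeal k m) (shift (m i ⊔ m j) α) ≠ 0 := by
    intro h0
    exact not_mem_exps_of_alive k m α hij (q_eq_zero_iff.1 h0)
  have h3 : (coefL k m α i φ - coefL k m α j φ) • q (genIdeal k m) (shift (m i ⊔ m j) α) = 0 := by
    rw [sub_smul, h2, sub_self]
  rcases smul_eq_zero.1 h3 with h4 | h4
  · exact sub_eq_zero.1 h4
  · exact absurd h4 hne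

/-- the coefficient map -/
noncomputable def Psi : ↥(tPiece (genIdeal k m) α) →ₗ[k] ↥(V k m α) :=
  LinearMap.codRestrict (V k m α)
    ((LinearMap.pi fun i => coefL k m α i).comp (tPiece (genIdeal k m) α).subtype)
    (fun φ => coef_mem k m α φ.2)

lemma Psi_apply (φ : ↥(tPiece (genIdeal k m) α)) (i : ι) :
    (Psi k m α φ : ι → k) i = coefL k m α i φ.1 := rfl

lemma Psi_eq_zero (φ : ↥(tPiece (genIdeal k m) α)) (h0 : Psi k m α φ = 0) : φ = 0 := by
  apply Subtype.ext
  apply tgt_ext (isMonomial_genIdeal k m)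
  intro β hβ
  obtain ⟨i, hi⟩ := (mem_exps_genIdeal k m).1 hβ
  have h1 := apply_ge k m α φ.2 i β hi hβ
  have h2 : coefL k m α i φ.1 = 0 := by
    have := congrArg (fun c : ↥(V k m α) => (c : ι → k) i) h0
    exact this
  rw [h1, h2, zero_smul]
  rfl

lemma Psi_injective : Function.Injective (Psi k m α) := by
  intro φ ψ h
  have h1 : Psi k m α (φ - ψ) = Psi k m α φ - Psi k m α ψ := (Psi k m α).map_sub φ ψ
  have h0 : Psi k m α (φ - ψ) = 0 := by rw [h1, h, sub_self]
  exact sub_eq_zero.1 (Psi_eq_zero k m α _ h0)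

open Classical in
/-- the coefficient function on the region attached to a solution -/
noncomputable def Fc (c : ι → k) : (σ → ℤ) → k := fun γ =>
  if h : (∀ l, 0 ≤ γ l) ∧ ∃ i, ∀ l, ((m i) l : ℤ) + α l ≤ γ l then c (Classical.choose h.2) else 0

omit [DecidableEq σ] in
lemma Fc_of_neg (c : ι → k) {γ : σ → ℤ} (h : ∃ l, γ l < 0) : Fc k m α c γ = 0 := by
  unfold Fc
  rw [dif_neg]
  rintro ⟨hpos, -⟩
  obtain ⟨l, hl⟩ := h
  have := hpos l
  omega

lemma c_eq_of_le {c : ι → k} (hc : c ∈ V k m α) {γ : σ → ℤ}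
    (hout : ∀ t, ¬ m t ≤ toNatVec γ) (i j : ι)
    (hi : ∀ l, ((m i) l : ℤ) + α l ≤ γ l) (hj : ∀ l, ((m j) l : ℤ) + α l ≤ γ l) :
    c i = c j := by
  have key : ∀ a b : ι, (∀ l, ((m a) l : ℤ) + α l ≤ γ l) → (∀ l, ((m b) l : ℤ) + α l ≤ γ l) →
      (∀ l, 0 ≤ ((m b) l : ℤ) + α l) → Alive m α (m a ⊔ m b) := by
    intro a b ha hb hpos
    have hsup : ∀ l, ((m a ⊔ m b) l : ℕ) = max ((m a) l) ((m b) l) := fun l => by
      rw [Finsupp.sup_apply]
    refine ⟨fun l => ?_, fun t ht => hout t ?_⟩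
    · have := hpos l
      rw [hsup l]
      omega
    · refine ht.trans ?_
      rw [Finsupp.le_def]
      intro l
      rw [shift_apply, toNatVec_apply, hsup l]
      have h1 := ha l
      have h2 := hb l
      omega
  by_cases h1 : ∀ l, 0 ≤ ((m j) l : ℤ) + α l
  · exact hc.2 i j (key i j hi hj h1)
  · by_cases h2 : ∀ l, 0 ≤ ((m i) l : ℤ) + α l
    · exact (hc.2 j i (key j i hj hi h2)).symm
    · rw [hc.1 i (fun hA => h2 hA.1), hc.1 j (fun hA => h1 hA.1)]

lemma Fc_eq {c : ι → k} (hc : c ∈ V k m α) {γ : σ → ℤ} (hpos : ∀ l, 0 ≤ γ l)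
    (hout : ∀ t, ¬ m t ≤ toNatVec γ) (i : ι) (hi : ∀ l, ((m i) l : ℤ) + α l ≤ γ l) :
    Fc k m α c γ = c i := by
  have hex : ∃ i, ∀ l, ((m i) l : ℤ) + α l ≤ γ l := ⟨i, hi⟩
  unfold Fc
  rw [dif_pos ⟨hpos, hex⟩]
  exact c_eq_of_le k m α hc hout _ i (Classical.choose_spec hex) hi

lemma Fc_compat {c : ι → k} (hc : c ∈ V k m α) : Compat (genIdeal k m) α (Fc k m α c) where
  neg := fun γ _ h => Fc_of_neg k m α c h
  adj := by
    intro γ hγ l hγ'
    obtain ⟨⟨β, hβ, hγβ⟩, hγout⟩ := id hγ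
    obtain ⟨j, hj⟩ := (mem_exps_genIdeal k m).1 hβ
    have hjγ : ∀ l', ((m j) l' : ℤ) + α l' ≤ γ l' := by
      intro l'
      rw [hγβ]
      simp only [vec]
      have := Finsupp.le_def.1 hj l'
      omega
    have hstep : ∀ l', γ l' ≤ (γ + Pi.single l 1 : σ → ℤ) l' := by
      intro l'
      by_cases hl : l' = l
      · subst hl; simp
      · simp [Pi.single_apply, hl]
    by_cases hpos' : ∀ l', 0 ≤ (γ + Pi.single l 1 : σ → ℤ) l'
    · have hout' : ∀ t, ¬ m t ≤ toNatVec (γ + Pi.single l 1) := fun t ht =>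
        hγ'.2 ⟨hpos', (mem_exps_genIdeal k m).2 ⟨t, ht⟩⟩
      have hjγ' : ∀ l', ((m j) l' : ℤ) + α l' ≤ (γ + Pi.single l 1 : σ → ℤ) l' := fun l' =>
        (hjγ l').trans (hstep l')
      rw [Fc_eq k m α hc hpos' hout' j hjγ']
      by_cases hpos : ∀ l', 0 ≤ γ l'
      · have hout : ∀ t, ¬ m t ≤ toNatVec γ := fun t ht =>
          hγout ⟨hpos, (mem_exps_genIdeal k m).2 ⟨t, ht⟩⟩
        rw [Fc_eq k m α hc hpos hout j hjγ]
      · push Not at hpos
        obtain ⟨l0, hl0⟩ := hpos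
        rw [Fc_of_neg k m α c ⟨l0, hl0⟩]
        apply hc.1 j
        intro hA
        have h1 := hA.1 l0
        have h2 := hjγ l0
        omega
    · push Not at hpos'
      obtain ⟨l0, hl0⟩ := hpos'
      rw [Fc_of_neg k m α c ⟨l0, hl0⟩, Fc_of_neg k m α c ⟨l0, lt_of_le_of_lt (hstep l0) hl0⟩]

lemma Psi_surjective : Function.Surjective (Psi k m α) := by
  intro c
  have hI := isMonomial_genIdeal k m
  have hF := Fc_compat k m α c.2
  refine ⟨⟨phi hI (Fc k m α c.1) hF, phi_mem hI _ hF⟩, ?_⟩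
  apply Subtype.ext
  funext i
  rw [Psi_apply]
  by_cases hA : Alive m α (m i)
  · have hγ := not_mem_exps_of_alive k m α hA
    rw [coefL_of_alive k m α hA, phi_monomial hI _ hF, cf_smul hI hγ]
    have e1 : cf (shift (m i) α) (q (genIdeal k m) (shift (m i) α)) = 1 := by
      unfold q
      rw [cf_mk hI hγ, coeff_monomial, if_pos rfl]
    rw [e1, mul_one]
    apply Fc_eq k m α c.2
    · intro l; exact hA.1 l
    · intro t ht
      apply hA.2 t
      rw [shift_eq]
      exact ht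
    · intro l
      exact le_refl _
  · rw [coefL_of_not_alive k m α hA]
    exact (c.2.1 i hA).symm

/-- the graded piece is the solution space -/
noncomputable def tPieceEquiv : ↥(tPiece (genIdeal k m) α) ≃ₗ[k] ↥(V k m α) :=
  LinearEquiv.ofBijective (Psi k m α) ⟨Psi_injective k m α, Psi_surjective k m α⟩

theorem finrank_tPiece :
    Module.finrank k ↥(tPiece (genIdeal k m) α) = Module.finrank k ↥(V k m α) :=
  LinearEquiv.finrank_eq (tPieceEquiv k m α)

theorem finite_tPiece [Finite ι] : Module.Finite k ↥(tPiece (genIdeal k m) α) :=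
  Module.Finite.equiv (tPieceEquiv k m α).symm

theorem tPiece_eq_bot (h : ∀ c ∈ V k m α, c = 0) : tPiece (genIdeal k m) α = ⊥ := by
  rw [Submodule.eq_bot_iff]
  intro φ hφ
  have h1 := h _ (Psi k m α ⟨φ, hφ⟩).2
  have h2 : Psi k m α ⟨φ, hφ⟩ = 0 := Subtype.ext h1
  have h3 := Psi_injective k m α (h2.trans (map_zero _).symm)
  exact congrArg Subtype.val h3

omit [DecidableEq σ] in
/-- dimension of the solution space by evaluation at representatives -/
theorem finrank_V_eq {d : ℕ} (r : Fin d → ι)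
    (h1 : ∀ c ∈ V k m α, (∀ x, c (r x) = 0) → c = 0)
    (h2 : ∀ x, ∃ c ∈ V k m α, ∀ y, c (r y) = if y = x then 1 else 0) :
    Module.finrank k ↥(V k m α) = d := by
  classical
  let E : ↥(V k m α) →ₗ[k] (Fin d → k) :=
    (LinearMap.funLeft k k r).comp (V k m α).subtype
  have hE : ∀ (c : ↥(V k m α)) (x : Fin d), E c x = (c : ι → k) (r x) := fun _ _ => rfl
  have hinj : Function.Injective E := by
    refine LinearMap.ker_eq_bot.1 (LinearMap.ker_eq_bot'.2 fun c hc => ?_)
    apply Subtype.ext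
    apply h1 _ c.2
    intro x
    have := congrFun hc x
    rw [hE] at this
    exact this
  have hsurj : Function.Surjective E := by
    intro a
    choose cx hcx hcx' using h2
    refine ⟨⟨∑ x, a x • cx x, Submodule.sum_mem _ fun x _ => Submodule.smul_mem _ _ (hcx x)⟩, ?_⟩
    funext y
    rw [hE]
    show (∑ x, a x • cx x) (r y) = a y
    rw [Finset.sum_apply]
    simp only [Pi.smul_apply, smul_eq_mul, hcx']
    rw [Finset.sum_eq_single y]
    · rw [if_pos rfl, mul_one]
    · intro b _ hb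
      rw [if_neg (Ne.symm hb), mul_zero]
    · intro h
      exact absurd (Finset.mem_univ y) h
  have e := LinearEquiv.ofBijective E ⟨hinj, hsurj⟩
  rw [LinearEquiv.finrank_eq e, Module.finrank_fin_fun]

/-- the span of the pieces over an index set with finitely many nonzero pieces -/
theorem finrank_iSup_tPiece [Finite σ] [Finite ι] (A : Finset (σ → ℤ)) (P : (σ → ℤ) → Prop)
    (hA : ∀ α ∈ A, P α) (hbot : ∀ α, P α → α ∉ A → ∀ c ∈ V k m α, c = 0) :
    Module.finrank k ↥(⨆ α : {α : σ → ℤ // P α}, tPiece (genIdeal k m) α.1) =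
      ∑ α ∈ A, Module.finrank k ↥(V k m α) := by
  have hI := isMonomial_genIdeal k m
  rw [iSup_subtype_eq_finset_sup A P hA
    (fun α hα hnot => tPiece_eq_bot k m α (hbot α hα hnot))]
  haveI : ∀ α : σ → ℤ, FiniteDimensional k ↥(tPiece (genIdeal k m) α) :=
    fun α => finite_tPiece k m α
  rw [finrank_finset_sup (fun α => tPiece (genIdeal k m) α) _ A]
  · exact Finset.sum_congr rfl fun α _ => finrank_tPiece k m α
  · intro a t ha
    refine ((iSupIndep_tPiece hI) a).mono_right ?_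
    refine Finset.sup_le fun b hb => ?_
    exact le_iSup₂_of_le b (fun h => ha (h ▸ hb)) le_rfl

end main

end Groth.Agent.Helper20.HilbGen
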