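import Mathlib
import Groth.Prelude.Def_W4c1hilbpnTgt
import Groth.Agent.Lib.Helper25.HilbTgt
import Groth.Agent.Lib.Helper20.HilbGen

/-!
A frame for computing the multigraded pieces of `Hom(I, S/I)` for a monomial ideal with explicit
generators: integer-valued exponent functions, a predicate for "outside the ideal", and the
dimension of a piece from a numbering of the components of generators (helper20).
-/

set_option autoImplicit false

namespace Groth.Agent.Helper20.HilbFrame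

open MvPolynomial W4c1hilbpn Groth.Agent.Helper25.HilbTgt Groth.Agent.Helper20.HilbGen

variable {σ ι : Type*}

/-- the vector `m i + α` -/
def Gv (mz : ι → σ → ℤ) (α : σ → ℤ) (i : ι) : σ → ℤ := fun l => mz i l + α l

/-- the vector `lcm (m i) (m j) + α` -/
def Lv (mz : ι → σ → ℤ) (α : σ → ℤ) (i j : ι) : σ → ℤ :=
  fun l => max (mz i l) (mz j l) + α l

lemma Lv_comm (mz : ι → σ → ℤ) (α : σ → ℤ) (i j : ι) : Lv mz α i j = Lv mz α j i := by
  funext l
  unfold Lv
  rw [max_comm]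

variable [Fintype σ] [DecidableEq σ] (k : Type*) [Field k] (m : ι → (σ →₀ ℕ))
  (mz : ι → σ → ℤ) (Out : (σ → ℤ) → Prop)

/-- the data are compatible -/
structure IsFrame : Prop where
  hmz : ∀ i l, ((m i l : ℕ) : ℤ) = mz i l
  hOut : ∀ (α : σ → ℤ) (β : σ →₀ ℕ), Alive m α β ↔ Out (fun l => (β l : ℤ) + α l)

variable {m mz Out}

lemma mem_V_iff (hF : IsFrame m mz Out) (α : σ → ℤ) (c : ι → k) :
    c ∈ V k m α ↔ (∀ i, ¬ Out (Gv mz α i) → c i = 0) ∧
      ∀ i j, Out (Lv mz α i j) → c i = c j := by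
  rw [mem_V]
  have e1 : ∀ i, Alive m α (m i) ↔ Out (Gv mz α i) := by
    intro i
    rw [hF.hOut α]
    have : (fun l => ((m i l : ℕ) : ℤ) + α l) = Gv mz α i := by
      funext l
      rw [hF.hmz]
      rfl
    rw [this]
  have e2 : ∀ i j, Alive m α (m i ⊔ m j) ↔ Out (Lv mz α i j) := by
    intro i j
    rw [hF.hOut α]
    have : (fun l => (((m i ⊔ m j) l : ℕ) : ℤ) + α l) = Lv mz α i j := by
      funext l
      rw [Finsupp.sup_apply, Nat.cast_max, hF.hmz, hF.hmz]
      rfl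
    rw [this]
  simp only [e1, e2]

/-- dimension of the solution space from a numbering of the components -/
theorem finrank_V_code (hF : IsFrame m mz Out) (α : σ → ℤ) {d : ℕ}
    (cz : ι → ℕ) (r : Fin d → ι)
    (H1 : ∀ x, cz (r x) = x.val + 1)
    (H2 : ∀ i, cz i = 0 → ¬ Out (Gv mz α i) ∨
      ∃ j, Out (Lv mz α i j) ∧ ¬ Out (Gv mz α j))
    (H3 : ∀ i (x : Fin d), cz i = x.val + 1 → i = r x ∨ Out (Lv mz α i (r x)))
    (H4 : ∀ i, ¬ Out (Gv mz α i) → cz i = 0)
    (H5 : ∀ i j, Out (Lv mz α i j) → cz i = cz j)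
    (H6 : ∀ i, cz i ≤ d) :
    Module.finrank k (V k m α) = d := by
  classical
  apply finrank_V_eq k m α r
  · intro c hc hr
    rw [mem_V_iff k hF] at hc
    funext i
    by_cases hcz : cz i = 0
    · rcases H2 i hcz with h | ⟨j, hj1, hj2⟩
      · exact hc.1 i h
      · rw [hc.2 i j hj1]
        exact hc.1 j hj2
    · have h6 := H6 i
      rcases H3 i ⟨cz i - 1, by omega⟩ (by show cz i = cz i - 1 + 1; omega) with h | h
      · rw [h]
        exact hr _
      · rw [hc.2 i _ h]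
        exact hr _
  · intro x
    refine ⟨fun i => if cz i = x.val + 1 then 1 else 0, ?_, ?_⟩
    · rw [mem_V_iff k hF]
      refine ⟨fun i hi => ?_, fun i j hij => ?_⟩
      · rw [H4 i hi]
        simp
      · rw [H5 i j hij]
    · intro y
      show (if cz (r y) = x.val + 1 then (1 : k) else 0) = _
      rw [H1 y]
      by_cases hxy : y = x
      · rw [if_pos hxy, if_pos (by rw [hxy])]
      · rw [if_neg hxy, if_neg]
        intro h
        exact hxy (Fin.ext (by omega))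

theorem V_eq_zero (hF : IsFrame m mz Out) (α : σ → ℤ)
    (H : ∀ i, ¬ Out (Gv mz α i) ∨ ∃ j, Out (Lv mz α i j) ∧ ¬ Out (Gv mz α j)) :
    ∀ c ∈ V k m α, c = 0 := by
  intro c hc
  rw [mem_V_iff k hF] at hc
  funext i
  rcases H i with h | ⟨j, hj1, hj2⟩
  · exact hc.1 i h
  · rw [hc.2 i j hj1]
    exact hc.1 j hj2

lemma finrank_zero_of {α : σ → ℤ} (h : ∀ c ∈ V k m α, c = 0) :
    Module.finrank k (V k m α) = 0 := by
  have : V k m α = ⊥ := by
    rw [Submodule.eq_bot_iff]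
    exact h
  rw [this]
  exact finrank_bot k _

/-- integer codes -/
theorem finrank_V_codeZ (hF : IsFrame m mz Out) (α : σ → ℤ) {d : ℕ}
    (cz : ι → ℤ) (r : Fin d → ι)
    (H1 : ∀ x, cz (r x) = (x.val : ℤ) + 1)
    (H2 : ∀ i, cz i = 0 → ¬ Out (Gv mz α i) ∨
      ∃ j, Out (Lv mz α i j) ∧ ¬ Out (Gv mz α j))
    (H3 : ∀ i (x : Fin d), cz i = (x.val : ℤ) + 1 → i = r x ∨ Out (Lv mz α i (r x)))
    (H4 : ∀ i, ¬ Out (Gv mz α i) → cz i = 0)
    (H5 : ∀ i j, Out (Lv mz α i j) → cz i = cz j)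
    (H6 : ∀ i, 0 ≤ cz i ∧ cz i ≤ d) :
    Module.finrank k (V k m α) = d := by
  apply finrank_V_code k hF α (fun i => (cz i).toNat) r
  · intro x
    beta_reduce
    rw [H1 x]
    omega
  · intro i hi
    apply H2
    have := H6 i
    beta_reduce at hi
    omega
  · intro i x hx
    apply H3
    have := H6 i
    beta_reduce at hx
    omega
  · intro i hi
    beta_reduce
    rw [H4 i hi]
    rfl
  · intro i j hij
    beta_reduce
    rw [H5 i j hij]
  · intro i
    have := H6 i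
    beta_reduce
    omega

/-- one component -/
theorem finrank_V_code1 (hF : IsFrame m mz Out) (α : σ → ℤ) (cz : ι → ℤ) (g1 : ι)
    (H1 : cz g1 = 1)
    (H2 : ∀ i, cz i = 0 → ¬ Out (Gv mz α i) ∨
      ∃ j, Out (Lv mz α i j) ∧ ¬ Out (Gv mz α j))
    (H3 : ∀ i, cz i = 1 → i = g1 ∨ Out (Lv mz α i g1))
    (H4 : ∀ i, ¬ Out (Gv mz α i) → cz i = 0)
    (H5 : ∀ i j, Out (Lv mz α i j) → cz i = cz j)
    (H6 : ∀ i, 0 ≤ cz i ∧ cz i ≤ 1) :
    Module.finrank k (V k m α) = 1 := by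
  apply finrank_V_codeZ k hF α cz (fun _ : Fin 1 => g1) _ H2 _ H4 H5
  · intro i
    have := H6 i
    push_cast
    omega
  · intro x
    have := x.2
    rw [H1]
    omega
  · intro i x hx
    have := x.2
    exact H3 i (by omega)

/-- two components -/
theorem finrank_V_code2 (hF : IsFrame m mz Out) (α : σ → ℤ) (cz : ι → ℤ) (g1 g2 : ι)
    (H1 : cz g1 = 1 ∧ cz g2 = 2)
    (H2 : ∀ i, cz i = 0 → ¬ Out (Gv mz α i) ∨
      ∃ j, Out (Lv mz α i j) ∧ ¬ Out (Gv mz α j))
    (H3 : ∀ i, (cz i = 1 → i = g1 ∨ Out (Lv mz α i g1)) ∧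
      (cz i = 2 → i = g2 ∨ Out (Lv mz α i g2)))
    (H4 : ∀ i, ¬ Out (Gv mz α i) → cz i = 0)
    (H5 : ∀ i j, Out (Lv mz α i j) → cz i = cz j)
    (H6 : ∀ i, 0 ≤ cz i ∧ cz i ≤ 2) :
    Module.finrank k (V k m α) = 2 := by
  apply finrank_V_codeZ k hF α cz (fun x : Fin 2 => if x.val = 0 then g1 else g2) _ H2 _ H4 H5
  · intro i
    have := H6 i
    push_cast
    omega
  · intro x
    have := x.2
    by_cases hx : x.val = 0
    · rw [if_pos hx, H1.1]
      omega
    · rw [if_neg hx, H1.2]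
      omega
  · intro i x hx
    have := x.2
    by_cases hx0 : x.val = 0
    · rw [if_pos hx0]
      exact (H3 i).1 (by omega)
    · rw [if_neg hx0]
      exact (H3 i).2 (by omega)

/-- three components -/
theorem finrank_V_code3 (hF : IsFrame m mz Out) (α : σ → ℤ) (cz : ι → ℤ) (g1 g2 g3 : ι)
    (H1 : cz g1 = 1 ∧ cz g2 = 2 ∧ cz g3 = 3)
    (H2 : ∀ i, cz i = 0 → ¬ Out (Gv mz α i) ∨
      ∃ j, Out (Lv mz α i j) ∧ ¬ Out (Gv mz α j))
    (H3 : ∀ i, (cz i = 1 → i = g1 ∨ Out (Lv mz α i g1)) ∧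
      (cz i = 2 → i = g2 ∨ Out (Lv mz α i g2)) ∧
      (cz i = 3 → i = g3 ∨ Out (Lv mz α i g3)))
    (H4 : ∀ i, ¬ Out (Gv mz α i) → cz i = 0)
    (H5 : ∀ i j, Out (Lv mz α i j) → cz i = cz j)
    (H6 : ∀ i, 0 ≤ cz i ∧ cz i ≤ 3) :
    Module.finrank k (V k m α) = 3 := by
  apply finrank_V_codeZ k hF α cz
    (fun x : Fin 3 => if x.val = 0 then g1 else if x.val = 1 then g2 else g3) _ H2 _ H4 H5
  · intro i
    have := H6 i
    push_cast
    omega
  · intro x
    have := x.2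
    by_cases hx : x.val = 0
    · rw [if_pos hx, H1.1]
      omega
    · rw [if_neg hx]
      by_cases hx1 : x.val = 1
      · rw [if_pos hx1, H1.2.1]
        omega
      · rw [if_neg hx1, H1.2.2]
        omega
  · intro i x hx
    have := x.2
    by_cases hx0 : x.val = 0
    · rw [if_pos hx0]
      exact (H3 i).1 (by omega)
    · rw [if_neg hx0]
      by_cases hx1 : x.val = 1
      · rw [if_pos hx1]
        exact (H3 i).2.1 (by omega)
      · rw [if_neg hx1]
        exact (H3 i).2.2 (by omega)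

end Groth.Agent.Helper20.HilbFrame
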