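import Mathlib
import Groth.Prelude.Def_W4c1hilbpnTgt
import Groth.Agent.Lib.Helper25.HilbTgt
import Groth.Agent.Lib.Helper20.HilbGen
import Groth.Agent.Lib.Helper20.HilbFrame

/-!
A variant of the component-numbering lemma with a variable number (at most three) of components
(helper20).
-/

set_option autoImplicit false

namespace Groth.Agent.Helper20.HilbFrame

open MvPolynomial W4c1hilbpn Groth.Agent.Helper25.HilbTgt Groth.Agent.Helper20.HilbGen

variable {σ ι : Type*} [Fintype σ] [DecidableEq σ] (k : Type*) [Field k] {m : ι → (σ →₀ ℕ)}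
  {mz : ι → σ → ℤ} {Out : (σ → ℤ) → Prop}

/-- at most three components -/
theorem finrank_V_code_le3 (hF : IsFrame m mz Out) (α : σ → ℤ) (cz : ι → ℤ) (d : ℕ)
    (hd3 : d ≤ 3) (g1 g2 g3 : ι)
    (H1 : (1 ≤ d → cz g1 = 1) ∧ (2 ≤ d → cz g2 = 2) ∧ (3 ≤ d → cz g3 = 3))
    (H2 : ∀ i, cz i = 0 → ¬ Out (Gv mz α i) ∨
      ∃ j, Out (Lv mz α i j) ∧ ¬ Out (Gv mz α j))
    (H3 : ∀ i, (cz i = 1 → i = g1 ∨ Out (Lv mz α i g1)) ∧
      (cz i = 2 → i = g2 ∨ Out (Lv mz α i g2)) ∧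
      (cz i = 3 → i = g3 ∨ Out (Lv mz α i g3)))
    (H4 : ∀ i, ¬ Out (Gv mz α i) → cz i = 0)
    (H5 : ∀ i j, Out (Lv mz α i j) → cz i = cz j)
    (H6 : ∀ i, 0 ≤ cz i ∧ cz i ≤ d) :
    Module.finrank k (V k m α) = d := by
  apply finrank_V_codeZ k hF α cz
    (fun x : Fin d => if x.val = 0 then g1 else if x.val = 1 then g2 else g3) _ H2 _ H4 H5
  · intro i
    have := H6 i
    omega
  · intro x
    have := x.2
    by_cases hx : x.val = 0
    · rw [if_pos hx, H1.1 (by omega)]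
      omega
    · rw [if_neg hx]
      by_cases hx1 : x.val = 1
      · rw [if_pos hx1, H1.2.1 (by omega)]
        omega
      · rw [if_neg hx1, H1.2.2 (by omega)]
        omega
  · intro i x hx
    have := x.2
    by_cases hx0 : x.val = 0
    · rw [if_pos hx0]
      exact (H3 i).1 (by omega)
    · rw [if_neg hx0]
      by_cases hx1 : x.val = 1
      · rw [if_pos hx1]
        exact (H3 i).2.1 (by omega)
      · rw [if_neg hx1]
        exact (H3 i).2.2 (by omega)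


lemma out_iff (hF : IsFrame m mz Out) (γ : σ → ℤ) :
    Out γ ↔ (∀ l, 0 ≤ γ l) ∧ ∀ t, ∃ l, γ l < mz t l := by
  have h := hF.hOut γ 0
  have e : (fun l => (((0 : σ →₀ ℕ) l : ℕ) : ℤ) + γ l) = γ := by
    funext l
    simp
  rw [e] at h
  rw [← h, alive_iff]
  simp only [Finsupp.coe_zero, Pi.zero_apply, Nat.cast_zero, zero_add, hF.hmz]

lemma out_mono (hF : IsFrame m mz Out) {γ γ' : σ → ℤ} (h' : Out γ') (hpos : ∀ l, 0 ≤ γ l)
    (hle : ∀ l, γ l ≤ γ' l) : Out γ := by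
  rw [out_iff hF] at h' ⊢
  refine ⟨hpos, fun t => ?_⟩
  obtain ⟨l, hl⟩ := h'.2 t
  exact ⟨l, lt_of_le_of_lt (hle l) hl⟩

lemma not_out_of_ge (hF : IsFrame m mz Out) {γ : σ → ℤ} (t : ι) (h : ∀ l, mz t l ≤ γ l) :
    ¬ Out γ := by
  intro ho
  rw [out_iff hF] at ho
  obtain ⟨l, hl⟩ := ho.2 t
  have := h l
  omega

omit [Fintype σ] [DecidableEq σ] in
lemma Gv_le_Lv_left (α : σ → ℤ) (i j : ι) (l : σ) : Gv mz α i l ≤ Lv mz α i j l := by
  unfold Gv Lv
  have := le_max_left (mz i l) (mz j l)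
  omega

omit [Fintype σ] [DecidableEq σ] in
lemma Gv_le_Lv_right (α : σ → ℤ) (i j : ι) (l : σ) : Gv mz α j l ≤ Lv mz α i j l := by
  unfold Gv Lv
  have := le_max_right (mz i l) (mz j l)
  omega

lemma out_Gv_left (hF : IsFrame m mz Out) {α : σ → ℤ} {i j : ι} (h : Out (Lv mz α i j))
    (hpos : ∀ l, 0 ≤ Gv mz α i l) : Out (Gv mz α i) :=
  out_mono hF h hpos (Gv_le_Lv_left α i j)

lemma out_Gv_right (hF : IsFrame m mz Out) {α : σ → ℤ} {i j : ι} (h : Out (Lv mz α i j))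
    (hpos : ∀ l, 0 ≤ Gv mz α j l) : Out (Gv mz α j) :=
  out_mono hF h hpos (Gv_le_Lv_right α i j)

end Groth.Agent.Helper20.HilbFrame
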