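import Mathlib
import Groth.Prelude.Def_W4c1hilbpnTgt
import Groth.Agent.Lib.Helper25.HilbTgt
import Groth.Agent.Lib.Helper20.HilbGen
import Groth.Agent.Lib.Helper20.HilbFrame
import Groth.Agent.Lib.Helper20.HilbFrame2

/-!
The ideal `(x_0, …, x_{c-1})·(x_{n+1-d}, …, x_n)` of two disjoint linear subspaces: generators and
the monomials outside it (helper20).
-/

set_option autoImplicit false

namespace Groth.Agent.Helper20.HilbPL

open MvPolynomial W4c1hilbpn Groth.Agent.Helper25.HilbTgt Groth.Agent.Helper20.HilbGen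
  Groth.Agent.Helper20.HilbFrame

variable (n c d : ℕ)

/-- exponent vectors of the generators `x_i x_{n+1-d+j}`, `i < c`, `j < d` -/
def mfun (p : Fin c × Fin d) (l : Fin (n + 1)) : ℕ :=
  (if l.val = p.1.val then 1 else 0) + (if l.val + d = n + 1 + p.2.val then 1 else 0)

noncomputable def m (p : Fin c × Fin d) : Fin (n + 1) →₀ ℕ :=
  Finsupp.equivFunOnFinite.symm (mfun n c d p)

lemma m_apply (p : Fin c × Fin d) (l : Fin (n + 1)) : m n c d p l = mfun n c d p l := rfl

/-- integer version of `mfun` -/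
def mz (p : Fin c × Fin d) (l : Fin (n + 1)) : ℤ :=
  (if l.val = p.1.val then 1 else 0) + (if l.val + d = n + 1 + p.2.val then 1 else 0)

lemma cast_mfun (p : Fin c × Fin d) (l : Fin (n + 1)) :
    ((mfun n c d p l : ℕ) : ℤ) = mz n c d p l := by
  unfold mfun mz
  split_ifs <;> simp

lemma monomial_m (k : Type*) [Field k] (p : Fin c × Fin d) (a b : Fin (n + 1))
    (ha : a.val = p.1.val) (hb : b.val + d = n + 1 + p.2.val) :
    (monomial (m n c d p) (1 : k) : MvPolynomial (Fin (n + 1)) k) = X a * X b := by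
  have e : m n c d p = Finsupp.single a 1 + Finsupp.single b 1 := by
    ext l
    rw [m_apply, Finsupp.add_apply, Finsupp.single_apply, Finsupp.single_apply]
    unfold mfun
    simp only [Fin.ext_iff]
    split_ifs <;> omega
  rw [e, X, X, monomial_mul, one_mul]

lemma ideal_eq (k : Type*) [Field k] (hcd : c + d ≤ n) :
    Ideal.span {f : MvPolynomial (Fin (n + 1)) k | ∃ i j : Fin (n + 1), i.val + 1 ≤ c ∧
      n + 1 ≤ j.val + d ∧ f = X i * X j} = genIdeal k (m n c d) := by
  unfold genIdeal
  congr 1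
  ext f
  simp only [Set.mem_setOf_eq, Set.mem_range]
  constructor
  · rintro ⟨i, j, hi, hj, rfl⟩
    have hjn := j.2
    exact ⟨(⟨i.val, by omega⟩, ⟨j.val + d - (n + 1), by omega⟩),
      monomial_m n c d k _ i j rfl (by show j.val + d = n + 1 + (j.val + d - (n + 1)); omega)⟩
  · rintro ⟨p, rfl⟩
    have hp1 := p.1.2
    have hp2 := p.2.2
    exact ⟨⟨p.1.val, by omega⟩, ⟨n + 1 + p.2.val - d, by omega⟩, by show p.1.val + 1 ≤ c; omega,
      by show n + 1 ≤ n + 1 + p.2.val - d + d; omega,
      monomial_m n c d k p _ _ rfl (by show n + 1 + p.2.val - d + d = n + 1 + p.2.val; omega)⟩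

/-- the integer vector `γ` is the exponent of a monomial outside the ideal -/
def Out (γ : Fin (n + 1) → ℤ) : Prop :=
  (∀ l, 0 ≤ γ l) ∧ ((∀ l : Fin (n + 1), l.val < c → γ l = 0) ∨
    (∀ l : Fin (n + 1), n + 1 ≤ l.val + d → γ l = 0))

theorem isFrame (hc : 1 ≤ c) (hd : 1 ≤ d) (hcd : c + d ≤ n) :
    IsFrame (m n c d) (mz n c d) (Out n c d) where
  hmz := fun p l => by rw [m_apply, cast_mfun]
  hOut := by
    intro α β
    rw [alive_iff]
    have hcast : ∀ t l, ((m n c d t l : ℕ) : ℤ) = mz n c d t l :=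
      fun t l => by rw [m_apply, cast_mfun]
    simp only [hcast]
    constructor
    · rintro ⟨hpos, h⟩
      refine ⟨hpos, ?_⟩
      by_contra hcon
      push Not at hcon
      obtain ⟨⟨a, ha, hane⟩, ⟨b, hb, hbne⟩⟩ := hcon
      have hbn := b.2
      obtain ⟨l, hl⟩ := h (⟨a.val, ha⟩, ⟨b.val + d - (n + 1), by omega⟩)
      have hpa := hpos a
      have hpb := hpos b
      have hpl := hpos l
      simp only [mz, Fin.val_mk] at hl
      by_cases hla : l.val = a.val
      · obtain rfl : l = a := Fin.ext hla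
        omega
      · by_cases hlb : l.val = b.val
        · obtain rfl : l = b := Fin.ext hlb
          omega
        · omega
    · rintro ⟨hpos, h⟩
      refine ⟨hpos, fun t => ?_⟩
      have ht1 := t.1.2
      have ht2 := t.2.2
      rcases h with h | h
      · refine ⟨⟨t.1.val, by omega⟩, ?_⟩
        have := h ⟨t.1.val, by omega⟩ ht1
        beta_reduce at this
        simp only [mz, Fin.val_mk, ↓reduceIte]
        omega
      · refine ⟨⟨n + 1 + t.2.val - d, by omega⟩, ?_⟩
        have := h ⟨n + 1 + t.2.val - d, by omega⟩ (by show n + 1 ≤ n + 1 + t.2.val - d + d; omega)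
        have e : n + 1 + t.2.val - d + d = n + 1 + t.2.val := by omega
        beta_reduce at this
        simp only [mz, Fin.val_mk, e, ↓reduceIte]
        omega

end Groth.Agent.Helper20.HilbPL
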