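import Mathlib
import Groth.Prelude.Def_W4c1hilbpnTgt
import Groth.Agent.Lib.Helper25.HilbTgt
import Groth.Agent.Lib.Helper20.HilbGen

/-!
The ideal `x_0·(x_0, …, x_{n-1}) + (x_1^q)`: generators and the monomials outside it (helper20).
-/

set_option autoImplicit false

namespace Groth.Agent.Helper20.HilbPP

open MvPolynomial W4c1hilbpn Groth.Agent.Helper25.HilbTgt Groth.Agent.Helper20.HilbGen

variable (n q : ℕ)

/-- exponent vectors of the generators: `x_0 x_i` for `i < n`, and `x_1^q` for the index `n` -/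
def mfun (i l : Fin (n + 1)) : ℕ :=
  if i.val < n then (if l.val = 0 then 1 else 0) + (if l.val = i.val then 1 else 0)
  else (if l.val = 1 then q else 0)

noncomputable def m (i : Fin (n + 1)) : Fin (n + 1) →₀ ℕ :=
  Finsupp.equivFunOnFinite.symm (mfun n q i)

lemma m_apply (i l : Fin (n + 1)) : m n q i l = mfun n q i l := rfl

lemma val_one_fin (hn : 1 ≤ n) : ((1 : Fin (n + 1)) : ℕ) = 1 := by
  rw [Fin.val_one']
  exact Nat.mod_eq_of_lt (by omega)

lemma ideal_eq (k : Type*) [Field k] (hn : 1 ≤ n) :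
    Ideal.span ({f : MvPolynomial (Fin (n + 1)) k | ∃ i : Fin (n + 1), i.val + 1 ≤ n ∧
      f = X 0 * X i} ∪ {X 1 ^ q}) = genIdeal k (m n q) := by
  have h1 := val_one_fin n hn
  have hg : ∀ i : Fin (n + 1), i.val < n →
      (monomial (m n q i) (1 : k) : MvPolynomial (Fin (n + 1)) k) = X 0 * X i := by
    intro i hi
    have e : m n q i = Finsupp.single 0 1 + Finsupp.single i 1 := by
      ext l
      rw [m_apply, Finsupp.add_apply, Finsupp.single_apply, Finsupp.single_apply]
      unfold mfun
      rw [if_pos hi]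
      simp only [Fin.ext_iff, Fin.val_zero]
      split_ifs <;> omega
    rw [e, X, X, monomial_mul, one_mul]
  have hh : (monomial (m n q (Fin.last n)) (1 : k) : MvPolynomial (Fin (n + 1)) k) = X 1 ^ q := by
    have e : m n q (Fin.last n) = Finsupp.single 1 q := by
      ext l
      rw [m_apply, Finsupp.single_apply]
      unfold mfun
      rw [if_neg (by simp)]
      simp only [Fin.ext_iff, h1]
      split_ifs <;> omega
    rw [e, X_pow_eq_monomial]
  unfold genIdeal
  congr 1
  ext f
  simp only [Set.mem_union, Set.mem_setOf_eq, Set.mem_singleton_iff, Set.mem_range]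
  constructor
  · rintro (⟨i, hi, rfl⟩ | rfl)
    · exact ⟨i, hg i (by omega)⟩
    · exact ⟨Fin.last n, hh⟩
  · rintro ⟨i, rfl⟩
    by_cases hi : i.val < n
    · left
      exact ⟨i, by omega, hg i hi⟩
    · right
      have : i = Fin.last n := Fin.ext (by have := i.2; simp only [Fin.val_last]; omega)
      rw [this, hh]

/-- the integer vector `γ` is the exponent of a monomial outside the ideal -/
def Out (γ : Fin (n + 1) → ℤ) : Prop :=
  (∀ l, 0 ≤ γ l) ∧ (∀ l, l.val = 0 → γ l ≤ 1) ∧
  (∀ l l' : Fin (n + 1), l.val = 0 → 1 ≤ l'.val → l'.val < n → γ l = 0 ∨ γ l' = 0) ∧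
  (∀ l, l.val = 1 → γ l < q)

lemma alive_iff_out (hn : 2 ≤ n) (α : Fin (n + 1) → ℤ) (β : Fin (n + 1) →₀ ℕ) :
    Alive (m n q) α β ↔ Out n q (fun l => (β l : ℤ) + α l) := by
  rw [alive_iff]
  have hlast : (Fin.last n).val = n := Fin.val_last n
  constructor
  · rintro ⟨hpos, h⟩
    refine ⟨hpos, ?_, ?_, ?_⟩
    · intro l hl
      beta_reduce
      obtain ⟨l', hl'⟩ := h ⟨0, by omega⟩
      have ht0 : ((⟨0, by omega⟩ : Fin (n + 1))).val = 0 := rfl
      have hp := hpos l'
      rw [m_apply] at hl'
      simp only [mfun] at hl'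
      by_cases h0 : l'.val = 0
      · have : l' = l := Fin.ext (by omega)
        subst this
        split_ifs at hl' <;> omega
      · split_ifs at hl' <;> omega
    · intro l l' hl hl'1 hl'n
      beta_reduce
      obtain ⟨l'', hl''⟩ := h l'
      have hp := hpos l''
      rw [m_apply] at hl''
      simp only [mfun] at hl''
      by_cases h0 : l''.val = 0
      · have : l'' = l := Fin.ext (by omega)
        subst this
        left
        split_ifs at hl'' <;> omega
      · by_cases h1 : l''.val = l'.val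
        · have : l'' = l' := Fin.ext h1
          subst this
          right
          split_ifs at hl'' <;> omega
        · exfalso
          split_ifs at hl'' <;> omega
    · intro l hl
      beta_reduce
      obtain ⟨l', hl'⟩ := h (Fin.last n)
      have hp := hpos l'
      rw [m_apply] at hl'
      simp only [mfun] at hl'
      by_cases h1 : l'.val = 1
      · have : l' = l := Fin.ext (by omega)
        subst this
        split_ifs at hl' <;> omega
      · exfalso
        split_ifs at hl' <;> omega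
  · rintro ⟨hpos, h0, hpair, h1⟩
    refine ⟨hpos, fun t => ?_⟩
    by_cases ht : t.val < n
    · by_cases ht0 : t.val = 0
      · refine ⟨t, ?_⟩
        have := h0 t ht0
        beta_reduce at this
        rw [m_apply]
        simp only [mfun]
        split_ifs <;> omega
      · have ht0' : ((⟨0, by omega⟩ : Fin (n + 1))).val = 0 := rfl
        rcases hpair ⟨0, by omega⟩ t rfl (by omega) ht with h | h
        · refine ⟨⟨0, by omega⟩, ?_⟩
          beta_reduce at h
          rw [m_apply]
          simp only [mfun]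
          split_ifs <;> omega
        · refine ⟨t, ?_⟩
          beta_reduce at h
          rw [m_apply]
          simp only [mfun]
          split_ifs <;> omega
    · have ht1' : ((⟨1, by omega⟩ : Fin (n + 1))).val = 1 := rfl
      refine ⟨⟨1, by omega⟩, ?_⟩
      have := h1 ⟨1, by omega⟩ rfl
      beta_reduce at this
      rw [m_apply]
      simp only [mfun]
      split_ifs <;> omega

/-- integer version of `mfun` -/
def mz (i l : Fin (n + 1)) : ℤ :=
  if i.val < n then (if l.val = 0 then 1 else 0) + (if l.val = i.val then 1 else 0)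
  else (if l.val = 1 then (q : ℤ) else 0)

lemma cast_mfun (i l : Fin (n + 1)) : ((mfun n q i l : ℕ) : ℤ) = mz n q i l := by
  unfold mfun mz
  split_ifs <;> simp

/-- the vector `m i + α` -/
def Gv (α : Fin (n + 1) → ℤ) (i : Fin (n + 1)) : Fin (n + 1) → ℤ :=
  fun l => mz n q i l + α l

/-- the vector `lcm (m i) (m j) + α` -/
def Lv (α : Fin (n + 1) → ℤ) (i j : Fin (n + 1)) : Fin (n + 1) → ℤ :=
  fun l => max (mz n q i l) (mz n q j l) + α l

lemma Lv_comm (α : Fin (n + 1) → ℤ) (i j : Fin (n + 1)) : Lv n q α i j = Lv n q α j i := by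
  funext l
  unfold Lv
  rw [max_comm]

lemma mem_V_iff (k : Type*) [Field k] (hn : 2 ≤ n) (α : Fin (n + 1) → ℤ)
    (c : Fin (n + 1) → k) :
    c ∈ V k (m n q) α ↔ (∀ i, ¬ Out n q (Gv n q α i) → c i = 0) ∧
      ∀ i j, Out n q (Lv n q α i j) → c i = c j := by
  rw [mem_V]
  have e1 : ∀ i, Alive (m n q) α (m n q i) ↔ Out n q (Gv n q α i) := by
    intro i
    rw [alive_iff_out n q hn α]
    have : (fun l => ((m n q i l : ℕ) : ℤ) + α l) = Gv n q α i := by
      funext l
      rw [m_apply, cast_mfun]
      rfl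
    rw [this]
  have e2 : ∀ i j, Alive (m n q) α (m n q i ⊔ m n q j) ↔ Out n q (Lv n q α i j) := by
    intro i j
    rw [alive_iff_out n q hn α]
    have : (fun l => (((m n q i ⊔ m n q j) l : ℕ) : ℤ) + α l) = Lv n q α i j := by
      funext l
      rw [Finsupp.sup_apply, m_apply, m_apply, Nat.cast_max, cast_mfun, cast_mfun]
      rfl
    rw [this]
  simp only [e1, e2]

lemma not_out_of_neg {γ : Fin (n + 1) → ℤ} (l : Fin (n + 1)) (h : γ l < 0) : ¬ Out n q γ :=
  fun ho => by have := ho.1 l; omega

lemma not_out_of_two {γ : Fin (n + 1) → ℤ} (l : Fin (n + 1)) (hl : l.val = 0) (h : 2 ≤ γ l) :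
    ¬ Out n q γ :=
  fun ho => by have := ho.2.1 l hl; omega

lemma not_out_of_pair {γ : Fin (n + 1) → ℤ} (l l' : Fin (n + 1)) (hl : l.val = 0)
    (h1 : 1 ≤ l'.val) (h2 : l'.val < n) (h0 : 1 ≤ γ l) (h' : 1 ≤ γ l') : ¬ Out n q γ :=
  fun ho => by
    rcases ho.2.2.1 l l' hl h1 h2 with h | h <;> omega

lemma not_out_of_q {γ : Fin (n + 1) → ℤ} (l : Fin (n + 1)) (hl : l.val = 1) (h : (q : ℤ) ≤ γ l) :
    ¬ Out n q γ :=
  fun ho => by have := ho.2.2.2 l hl; omega

/-- dimension of the solution space from a component assignment -/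
theorem finrank_V_comp (k : Type*) [Field k] (hn : 2 ≤ n) (α : Fin (n + 1) → ℤ) {d : ℕ}
    (comp : Fin (n + 1) → Option (Fin d)) (r : Fin d → Fin (n + 1))
    (H1 : ∀ x, comp (r x) = some x)
    (H2 : ∀ i, comp i = none → ¬ Out n q (Gv n q α i) ∨
      ∃ j, Out n q (Lv n q α i j) ∧ ¬ Out n q (Gv n q α j))
    (H3 : ∀ i x, comp i = some x → i = r x ∨ Out n q (Lv n q α i (r x)))
    (H4 : ∀ i, ¬ Out n q (Gv n q α i) → comp i = none)
    (H5 : ∀ i j, Out n q (Lv n q α i j) → comp i = comp j) :
    Module.finrank k (V k (m n q) α) = d := by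
  classical
  apply finrank_V_eq k (m n q) α r
  · intro c hc hr
    rw [mem_V_iff n q k hn] at hc
    funext i
    rcases hcomp : comp i with _ | x
    · rcases H2 i hcomp with h | ⟨j, hj1, hj2⟩
      · exact hc.1 i h
      · rw [hc.2 i j hj1]
        exact hc.1 j hj2
    · rcases H3 i x hcomp with h | h
      · rw [h]; exact hr x
      · rw [hc.2 i (r x) h]; exact hr x
  · intro x
    refine ⟨fun i => if comp i = some x then 1 else 0, ?_, ?_⟩
    · rw [mem_V_iff n q k hn]
      refine ⟨fun i hi => ?_, fun i j hij => ?_⟩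
      · rw [H4 i hi]
        simp
      · rw [H5 i j hij]
    · intro y
      show (if comp (r y) = some x then (1 : k) else 0) = _
      rw [H1 y]
      simp only [Option.some.injEq]

theorem V_eq_zero (k : Type*) [Field k] (hn : 2 ≤ n) (α : Fin (n + 1) → ℤ)
    (H : ∀ i, ¬ Out n q (Gv n q α i) ∨
      ∃ j, Out n q (Lv n q α i j) ∧ ¬ Out n q (Gv n q α j)) :
    ∀ c ∈ V k (m n q) α, c = 0 := by
  intro c hc
  rw [mem_V_iff n q k hn] at hc
  funext i
  rcases H i with h | ⟨j, hj1, hj2⟩
  · exact hc.1 i h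
  · rw [hc.2 i j hj1]
    exact hc.1 j hj2

end Groth.Agent.Helper20.HilbPP
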