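import Mathlib
import Groth.Prelude.Def_W4c1hilbpnTgt
import Groth.Agent.Lib.Helper25.HilbTgt
import Groth.Agent.Lib.Helper20.HilbGen
import Groth.Agent.Lib.Helper20.HilbPP1

/-!
The ideal `x_0·(x_0, …, x_{n-1}) + (x_1^q)`: the pieces of multidegree `e_b - e_a` (helper20).
-/

set_option autoImplicit false

namespace Groth.Agent.Helper20.HilbPP

open MvPolynomial W4c1hilbpn Groth.Agent.Helper25.HilbTgt Groth.Agent.Helper20.HilbGen

variable (n q : ℕ)

/-- the multidegree `e_b - e_a` -/
def aE (b a : ℕ) : Fin (n + 1) → ℤ :=
  fun l => (if l.val = b then 1 else 0) - (if l.val = a then 1 else 0)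

/-- evaluate a coordinate of a vector -/
macro "evalv" : tactic =>
  `(tactic| (simp only [Gv, Lv, mz, aE]; split_ifs <;> omega))

/-- dimension of the solution space with isolated representatives -/
theorem finrank_V_isolated (k : Type*) [Field k] (hn : 2 ≤ n) (α : Fin (n + 1) → ℤ) {d : ℕ}
    (r : Fin d → Fin (n + 1)) (hr : Function.Injective r)
    (hal : ∀ x, Out n q (Gv n q α (r x)))
    (hdead : ∀ i, (∀ x, i ≠ r x) → ¬ Out n q (Gv n q α i))
    (hnolink : ∀ x j, j ≠ r x → ¬ Out n q (Lv n q α (r x) j)) :
    Module.finrank k (V k (m n q) α) = d := by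
  classical
  let comp : Fin (n + 1) → Option (Fin d) := fun i =>
    if h : ∃ x, i = r x then some (Classical.choose h) else none
  have hcomp_some : ∀ x, comp (r x) = some x := by
    intro x
    have hex : ∃ y, r x = r y := ⟨x, rfl⟩
    show (if h : ∃ y, r x = r y then some (Classical.choose h) else none) = some x
    rw [dif_pos hex]
    congr 1
    exact (hr (Classical.choose_spec hex)).symm
  have hcomp_none : ∀ i, (¬ ∃ x, i = r x) → comp i = none := by
    intro i hi
    show (if h : ∃ y, i = r y then some (Classical.choose h) else none) = none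
    rw [dif_neg hi]
  apply finrank_V_comp n q k hn α comp r hcomp_some
  · intro i hi
    left
    apply hdead
    intro x hx
    rw [hx, hcomp_some] at hi
    exact absurd hi (by simp)
  · intro i x hx
    left
    by_cases hex : ∃ y, i = r y
    · obtain ⟨y, rfl⟩ := hex
      rw [hcomp_some] at hx
      rw [Option.some.injEq] at hx
      rw [hx]
    · rw [hcomp_none i hex] at hx
      exact absurd hx (by simp)
  · intro i hi
    apply hcomp_none
    rintro ⟨x, rfl⟩
    exact hi (hal x)
  · intro i j hij
    by_cases hex : ∃ y, i = r y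
    · obtain ⟨y, rfl⟩ := hex
      by_cases hj : j = r y
      · rw [hj]
      · exact absurd hij (hnolink y j hj)
    · by_cases hex' : ∃ y, j = r y
      · obtain ⟨y, rfl⟩ := hex'
        have hi : i ≠ r y := fun h => hex ⟨y, h⟩
        rw [Lv_comm] at hij
        exact absurd hij (hnolink y i hi)
      · rw [hcomp_none i hex, hcomp_none j hex']

/-- the pieces of multidegree `e_n - e_i`, `2 ≤ i ≤ n - 1` -/
theorem finrank_T2 (k : Type*) [Field k] (hn : 3 ≤ n) (hq : 1 ≤ q) (i0 : Fin (n + 1))
    (h2 : 2 ≤ i0.val) (hi : i0.val < n) :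
    Module.finrank k (V k (m n q) (aE n n i0.val)) = 1 := by
  obtain ⟨l0, hl0⟩ : ∃ l : Fin (n + 1), l.val = 0 := ⟨⟨0, by omega⟩, rfl⟩
  obtain ⟨l1, hl1⟩ : ∃ l : Fin (n + 1), l.val = 1 := ⟨⟨1, by omega⟩, rfl⟩
  apply finrank_V_isolated n q k (by omega) _ (fun _ : Fin 1 => i0)
  · intro x y _
    exact Subsingleton.elim _ _
  · intro x
    refine ⟨fun l => ?_, fun l hl => ?_, fun l l' hl h1 h2 => ?_, fun l hl => ?_⟩
    · evalv
    · evalv
    · right; evalv
    · evalv
  · intro i hne
    have hne' : i.val ≠ i0.val := fun h => hne 0 (Fin.ext h)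
    have := i.2
    apply not_out_of_neg n q i0
    evalv
  · intro x j hne
    have hne' : j.val ≠ i0.val := fun h => hne (Fin.ext h)
    have hj := j.2
    by_cases hjn : j.val < n
    · by_cases hj0 : j.val = 0
      · apply not_out_of_two n q l0 hl0
        evalv
      · apply not_out_of_pair n q l0 j hl0 (by omega) hjn
        · evalv
        · evalv
    · apply not_out_of_q n q l1 hl1
      evalv

/-- the pieces of multidegree `e_b - e_0`, `1 ≤ b ≤ n`: general analysis -/
theorem finrank_T0_aux (k : Type*) [Field k] (hn : 3 ≤ n) (hq : 2 ≤ q) (b : ℕ) (hb1 : 1 ≤ b)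
    (hbn : b ≤ n) (d : ℕ) (hd : d = if b = n then 2 else 1) :
    Module.finrank k (V k (m n q) (aE n b 0)) = d := by
  classical
  obtain ⟨l0, hl0⟩ : ∃ l : Fin (n + 1), l.val = 0 := ⟨⟨0, by omega⟩, rfl⟩
  obtain ⟨l1, hl1⟩ : ∃ l : Fin (n + 1), l.val = 1 := ⟨⟨1, by omega⟩, rfl⟩
  obtain ⟨l2, hl2⟩ : ∃ l : Fin (n + 1), l.val = 2 := ⟨⟨2, by omega⟩, rfl⟩
  obtain ⟨lb, hlb⟩ : ∃ l : Fin (n + 1), l.val = b := ⟨⟨b, by omega⟩, rfl⟩
  have hd1 : 1 ≤ d := by rw [hd]; split_ifs <;> omega
  have hd2 : b = n → d = 2 := fun h => by rw [hd, if_pos h]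
  have hd3 : b ≠ n → d = 1 := fun h => by rw [hd, if_neg h]
  -- component assignment
  let comp : Fin (n + 1) → Option (Fin d) := fun i =>
    if i.val = 0 then (if h : b = n then some ⟨1, by rw [hd2 h]; omega⟩ else none)
    else if i.val < n then
      (if q = 2 ∧ i.val = 1 ∧ b = 1 then none else some ⟨0, by omega⟩)
    else none
  let r : Fin d → Fin (n + 1) := fun x => if x.val = 0 then l2 else l0
  have hcomp : ∀ i, comp i = if i.val = 0 then
      (if h : b = n then some ⟨1, by rw [hd2 h]; omega⟩ else none)
    else if i.val < n then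
      (if q = 2 ∧ i.val = 1 ∧ b = 1 then none else some ⟨0, by omega⟩)
    else none := fun i => rfl
  have hr : ∀ x : Fin d, r x = if x.val = 0 then l2 else l0 := fun x => rfl
  -- the alive generators
  have hout_g : ∀ i : Fin (n + 1), 1 ≤ i.val → i.val < n → ¬ (q = 2 ∧ i.val = 1 ∧ b = 1) →
      Out n q (Gv n q (aE n b 0) i) := by
    intro i hi1 hin hnd
    refine ⟨fun l => ?_, fun l hl => ?_, fun l l' hl h1 h2 => ?_, fun l hl => ?_⟩
    · evalv
    · evalv
    · left; evalv
    · evalv
  have hout_0 : ∀ i : Fin (n + 1), i.val = 0 → b = n → Out n q (Gv n q (aE n b 0) i) := by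
    intro i hi0 hbn'
    refine ⟨fun l => ?_, fun l hl => ?_, fun l l' hl h1 h2 => ?_, fun l hl => ?_⟩
    · evalv
    · evalv
    · right; evalv
    · evalv
  have hlink : ∀ i : Fin (n + 1), 1 ≤ i.val → i.val < n → ¬ (q = 2 ∧ i.val = 1 ∧ b = 1) →
      Out n q (Lv n q (aE n b 0) i l2) := by
    intro i hi1 hin hnd
    refine ⟨fun l => ?_, fun l hl => ?_, fun l l' hl h1 h2 => ?_, fun l hl => ?_⟩
    · evalv
    · evalv
    · left; evalv
    · evalv
  apply finrank_V_comp n q k (by omega) _ comp r
  · -- H1
    intro x
    rw [hr, hcomp]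
    by_cases hx : x.val = 0
    · rw [if_pos hx, if_neg (by omega), if_pos (by omega), if_neg (by omega)]
      congr 1
      exact Fin.ext hx.symm
    · have hx1 : x.val = 1 := by
        have := x.2
        by_cases hbn' : b = n
        · have := hd2 hbn'; omega
        · have := hd3 hbn'; omega
      have hbn' : b = n := by
        by_contra hne
        have := x.2
        have := hd3 hne
        omega
      rw [if_neg hx, if_pos hl0, dif_pos hbn']
      congr 1
      exact Fin.ext hx1.symm
  · -- H2
    intro i hi
    left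
    rw [hcomp] at hi
    by_cases hi0 : i.val = 0
    · rw [if_pos hi0] at hi
      have hbn' : b ≠ n := by
        intro h
        rw [dif_pos h] at hi
        exact absurd hi (by simp)
      apply not_out_of_pair n q l0 lb hl0 (by omega) (by omega)
      · evalv
      · evalv
    · rw [if_neg hi0] at hi
      by_cases hin : i.val < n
      · rw [if_pos hin] at hi
        have hcond : q = 2 ∧ i.val = 1 ∧ b = 1 := by
          by_contra hc
          rw [if_neg hc] at hi
          exact absurd hi (by simp)
        apply not_out_of_q n q l1 hl1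
        evalv
      · have := i.2
        apply not_out_of_neg n q l0
        evalv
  · -- H3
    intro i x hx
    rw [hcomp] at hx
    rw [hr]
    by_cases hi0 : i.val = 0
    · rw [if_pos hi0] at hx
      by_cases hbn' : b = n
      · rw [dif_pos hbn', Option.some.injEq] at hx
        left
        have : x.val = 1 := by rw [← hx]
        rw [if_neg (by omega)]
        exact Fin.ext (by omega)
      · rw [dif_neg hbn'] at hx
        exact absurd hx (by simp)
    · rw [if_neg hi0] at hx
      by_cases hin : i.val < n
      · rw [if_pos hin] at hx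
        by_cases hc : q = 2 ∧ i.val = 1 ∧ b = 1
        · rw [if_pos hc] at hx
          exact absurd hx (by simp)
        · rw [if_neg hc, Option.some.injEq] at hx
          have : x.val = 0 := by rw [← hx]
          rw [if_pos this]
          right
          exact hlink i (by omega) hin hc
      · rw [if_neg hin] at hx
        exact absurd hx (by simp)
  · -- H4
    intro i hi
    rw [hcomp]
    by_cases hi0 : i.val = 0
    · rw [if_pos hi0]
      by_cases hbn' : b = n
      · exact absurd (hout_0 i hi0 hbn') hi
      · rw [dif_neg hbn']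
    · rw [if_neg hi0]
      by_cases hin : i.val < n
      · rw [if_pos hin]
        by_cases hc : q = 2 ∧ i.val = 1 ∧ b = 1
        · rw [if_pos hc]
        · exact absurd (hout_g i (by omega) hin hc) hi
      · rw [if_neg hin]
  · -- H5
    have key : ∀ i j : Fin (n + 1), i.val < j.val → Out n q (Lv n q (aE n b 0) i j) →
        comp i = comp j := by
      intro i j hlt hij
      have hj := j.2
      by_cases hjn : j.val < n
      · by_cases hi0 : i.val = 0
        · exfalso
          revert hij
          apply not_out_of_pair n q l0 j hl0 (by omega) hjn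
          · evalv
          · evalv
        · have hci : ¬ (q = 2 ∧ i.val = 1 ∧ b = 1) := by
            intro hc
            revert hij
            apply not_out_of_q n q l1 hl1
            evalv
          have hcj : ¬ (q = 2 ∧ j.val = 1 ∧ b = 1) := by
            intro hc
            omega
          rw [hcomp, hcomp, if_neg hi0, if_pos (by omega), if_neg hci, if_neg (by omega),
            if_pos hjn, if_neg hcj]
      · exfalso
        revert hij
        apply not_out_of_q n q l1 hl1
        evalv
    intro i j hij
    rcases Nat.lt_trichotomy i.val j.val with h | h | h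
    · exact key i j h hij
    · rw [Fin.ext h]
    · rw [Lv_comm] at hij
      exact (key j i h hij).symm

end Groth.Agent.Helper20.HilbPP
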