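import Mathlib
import Groth.Prelude.Def_W4c1hilbpnTgt
import Groth.Agent.Lib.Helper25.HilbTgt
import Groth.Agent.Lib.Helper20.HilbGen
import Groth.Agent.Lib.Helper20.HilbPP1
import Groth.Agent.Lib.Helper20.HilbPP2

/-!
The ideal `x_0·(x_0, …, x_{n-1}) + (x_1^q)`: the pieces of multidegree `ν - q e_1` (helper20).
-/

set_option autoImplicit false

namespace Groth.Agent.Helper20.HilbPP

open MvPolynomial W4c1hilbpn Groth.Agent.Helper25.HilbTgt Groth.Agent.Helper20.HilbGen

variable (n q : ℕ)

/-- the multidegree `ν - q e_1` -/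
def aN (ν : Fin (n + 1) → ℕ) : Fin (n + 1) → ℤ :=
  fun l => (ν l : ℤ) - (if l.val = 1 then (q : ℤ) else 0)

/-- evaluate a coordinate of a vector -/
macro "evaln" : tactic =>
  `(tactic| (simp only [Gv, Lv, mz, aN]; split_ifs <;> omega))

lemma out_of {γ : Fin (n + 1) → ℤ} (l0 l1 : Fin (n + 1)) (hl0 : l0.val = 0) (hl1 : l1.val = 1)
    (h1 : ∀ l, 0 ≤ γ l) (h2 : γ l0 ≤ 1)
    (h3 : γ l0 = 0 ∨ ∀ l' : Fin (n + 1), 1 ≤ l'.val → l'.val < n → γ l' = 0)
    (h4 : γ l1 < q) : Out n q γ := by
  refine ⟨h1, fun l hl => ?_, fun l l' hl hl1' hl2' => ?_, fun l hl => ?_⟩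
  · obtain rfl : l = l0 := Fin.ext (by omega)
    exact h2
  · obtain rfl : l = l0 := Fin.ext (by omega)
    rcases h3 with h | h
    · left; exact h
    · right; exact h l' hl1' hl2'
  · obtain rfl : l = l1 := Fin.ext (by omega)
    exact h4

lemma finrank_zero_of (k : Type*) [Field k] {α : Fin (n + 1) → ℤ}
    (h : ∀ c ∈ V k (m n q) α, c = 0) : Module.finrank k (V k (m n q) α) = 0 := by
  have : V k (m n q) α = ⊥ := by
    rw [Submodule.eq_bot_iff]
    exact h
  rw [this]
  exact finrank_bot k _

theorem T1_zero_a (k : Type*) [Field k] (hn : 3 ≤ n) (hq : 2 ≤ q) (ν : Fin (n + 1) → ℕ)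
    (l0 l1 : Fin (n + 1)) (hl0 : l0.val = 0) (hl1 : l1.val = 1) (h : q ≤ ν l1) :
    ∀ c ∈ V k (m n q) (aN n q ν), c = 0 := by
  apply V_eq_zero n q k (by omega)
  intro i
  left
  have hi := i.2
  by_cases hin : i.val < n
  · by_cases hi0 : i.val = 0
    · apply not_out_of_two n q l0 hl0
      evaln
    · by_cases hi1 : i.val = 1
      · obtain rfl : i = l1 := Fin.ext (by omega)
        apply not_out_of_pair n q l0 i hl0 (by omega) hin
        · evaln
        · evaln
      · apply not_out_of_pair n q l0 i hl0 (by omega) hin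
        · evaln
        · evaln
  · apply not_out_of_q n q l1 hl1
    evaln

theorem T1_zero_b (k : Type*) [Field k] (hn : 3 ≤ n) (hq : 2 ≤ q) (ν : Fin (n + 1) → ℕ)
    (l0 l1 : Fin (n + 1)) (hl0 : l0.val = 0) (hl1 : l1.val = 1) (hν0 : ν l0 = 0)
    (hmid : ∀ b : Fin (n + 1), 1 ≤ b.val → b.val < n → ν b = 0) :
    ∀ c ∈ V k (m n q) (aN n q ν), c = 0 := by
  have hν1 : ν l1 = 0 := hmid l1 (by omega) (by omega)
  apply V_eq_zero n q k (by omega)
  intro i
  have hi := i.2
  by_cases hin : i.val < n
  · left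
    apply not_out_of_neg n q l1
    evaln
  · right
    refine ⟨l1, ?_, ?_⟩
    · apply out_of n q l0 l1 hl0 hl1
      · intro l
        evaln
      · evaln
      · right
        intro l' h1 h2
        have := hmid l' h1 h2
        evaln
      · evaln
    · apply not_out_of_neg n q l1
      evaln

theorem T1_one (k : Type*) [Field k] (hn : 3 ≤ n) (hq : 2 ≤ q) (ν : Fin (n + 1) → ℕ)
    (l0 l1 ih : Fin (n + 1)) (hl0 : l0.val = 0) (hl1 : l1.val = 1) (hih : ih.val = n)
    (hν0 : ν l0 = 0) (hν1 : ν l1 < q)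
    (hA : ∃ b : Fin (n + 1), 1 ≤ b.val ∧ b.val < n ∧ 1 ≤ ν b)
    (hB : ν l1 + 1 ≠ q ∨ ∃ b : Fin (n + 1), 2 ≤ b.val ∧ b.val < n ∧ 1 ≤ ν b) :
    Module.finrank k (V k (m n q) (aN n q ν)) = 1 := by
  apply finrank_V_isolated n q k (by omega) _ (fun _ : Fin 1 => ih)
  · intro x y _
    exact Subsingleton.elim _ _
  · intro x
    apply out_of n q l0 l1 hl0 hl1
    · intro l
      evaln
    · evaln
    · left
      evaln
    · evaln
  · intro i hne
    have hne' : i.val ≠ n := fun h => hne 0 (Fin.ext (by omega))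
    have hi := i.2
    by_cases hi1 : i.val = 1
    · rcases hB with h | ⟨b, hb2, hbn, hb⟩
      · apply not_out_of_neg n q l1
        evaln
      · apply not_out_of_pair n q l0 b hl0 (by omega) hbn
        · evaln
        · evaln
    · apply not_out_of_neg n q l1
      evaln
  · intro x j hne
    have hne' : j.val ≠ n := fun h => hne (Fin.ext (by omega))
    have hj := j.2
    by_cases hj0 : j.val = 0
    · apply not_out_of_two n q l0 hl0
      evaln
    · by_cases hj1 : j.val = 1
      · obtain ⟨b, hb1, hbn, hb⟩ := hA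
        apply not_out_of_pair n q l0 b hl0 hb1 hbn
        · evaln
        · evaln
      · apply not_out_of_pair n q l0 j hl0 (by omega) (by omega)
        · evaln
        · evaln

theorem T1_two (k : Type*) [Field k] (hn : 3 ≤ n) (hq : 2 ≤ q) (ν : Fin (n + 1) → ℕ)
    (l0 l1 ih : Fin (n + 1)) (hl0 : l0.val = 0) (hl1 : l1.val = 1) (hih : ih.val = n)
    (hν0 : ν l0 = 0) (hν1 : ν l1 + 1 = q)
    (hmid : ∀ b : Fin (n + 1), 2 ≤ b.val → b.val < n → ν b = 0) :
    Module.finrank k (V k (m n q) (aN n q ν)) = 2 := by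
  obtain ⟨r, hr⟩ : ∃ r : Fin 2 → Fin (n + 1), ∀ x, r x = if x.val = 0 then ih else l1 :=
    ⟨_, fun _ => rfl⟩
  have hne : ih ≠ l1 := fun h => by rw [h] at hih; omega
  apply finrank_V_isolated n q k (by omega) _ r
  · intro x y hxy
    apply Fin.ext
    have hx := x.2
    have hy := y.2
    rw [hr, hr] at hxy
    by_cases hx0 : x.val = 0 <;> by_cases hy0 : y.val = 0
    · omega
    · rw [if_pos hx0, if_neg hy0] at hxy
      exact absurd hxy hne
    · rw [if_neg hx0, if_pos hy0] at hxy
      exact absurd hxy.symm hne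
    · omega
  · intro x
    rw [hr]
    by_cases hx0 : x.val = 0
    · rw [if_pos hx0]
      apply out_of n q l0 l1 hl0 hl1
      · intro l
        evaln
      · evaln
      · left
        evaln
      · evaln
    · rw [if_neg hx0]
      apply out_of n q l0 l1 hl0 hl1
      · intro l
        by_cases hl : l.val = 1
        · obtain rfl : l = l1 := Fin.ext (by omega)
          evaln
        · evaln
      · evaln
      · right
        intro l' h1 h2
        by_cases hl : l'.val = 1
        · obtain rfl : l' = l1 := Fin.ext (by omega)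
          evaln
        · have := hmid l' (by omega) h2
          evaln
      · evaln
  · intro i hne'
    have h1 : i.val ≠ n := fun h => hne' 0 (by rw [hr, if_pos (by simp)]; exact Fin.ext (by omega))
    have h2 : i.val ≠ 1 := fun h => hne' 1 (by
      rw [hr, if_neg (by simp)]; exact Fin.ext (by omega))
    have hi := i.2
    apply not_out_of_neg n q l1
    evaln
  · intro x j hne'
    rw [hr] at hne' ⊢
    have hj := j.2
    by_cases hx0 : x.val = 0
    · rw [if_pos hx0] at hne' ⊢
      have hjn : j.val ≠ n := fun h => hne' (Fin.ext (by omega))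
      by_cases hj0 : j.val = 0
      · apply not_out_of_two n q l0 hl0
        evaln
      · by_cases hj1 : j.val = 1
        · obtain rfl : j = l1 := Fin.ext (by omega)
          apply not_out_of_pair n q l0 j hl0 (by omega) (by omega)
          · evaln
          · evaln
        · apply not_out_of_pair n q l0 j hl0 (by omega) (by omega)
          · evaln
          · evaln
    · rw [if_neg hx0] at hne' ⊢
      have hj1 : j.val ≠ 1 := fun h => hne' (Fin.ext (by omega))
      by_cases hj0 : j.val = 0
      · apply not_out_of_two n q l0 hl0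
        evaln
      · by_cases hjn : j.val = n
        · apply not_out_of_pair n q l0 l1 hl0 (by omega) (by omega)
          · evaln
          · evaln
        · apply not_out_of_pair n q l0 j hl0 (by omega) (by omega)
          · evaln
          · evaln

/-- some coordinate strictly between `0` and `n` is positive -/
def PA (ν : Fin (n + 1) → ℕ) : Prop :=
  ∃ b : Fin (n + 1), 1 ≤ b.val ∧ b.val < n ∧ 1 ≤ ν b

/-- the vector is `(q-1) e_1 + (multiple of e_n)` away from coordinate `0` -/
def PB (ν : Fin (n + 1) → ℕ) : Prop :=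
  ν 1 + 1 = q ∧ ∀ b : Fin (n + 1), 2 ≤ b.val → b.val < n → ν b = 0

open Classical in
/-- the dimension of the piece of multidegree `ν - q e_1` -/
noncomputable def dimf (ν : Fin (n + 1) → ℕ) : ℕ :=
  if q ≤ ν 1 then 0 else if PA n ν then (if PB n q ν then 2 else 1) else 0

theorem finrank_T1 (k : Type*) [Field k] (hn : 3 ≤ n) (hq : 2 ≤ q) (ν : Fin (n + 1) → ℕ)
    (hν0 : ν 0 = 0) :
    Module.finrank k (V k (m n q) (aN n q ν)) = dimf n q ν := by
  have h0 : ((0 : Fin (n + 1)) : ℕ) = 0 := Fin.val_zero _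
  have h1 := val_one_fin n (by omega)
  have hl : (Fin.last n).val = n := Fin.val_last n
  unfold dimf
  by_cases c1 : q ≤ ν 1
  · rw [if_pos c1]
    exact finrank_zero_of n q k (T1_zero_a n q k hn hq ν 0 1 h0 h1 c1)
  · rw [if_neg c1]
    by_cases c2 : PA n ν
    · rw [if_pos c2]
      by_cases c3 : PB n q ν
      · rw [if_pos c3]
        exact T1_two n q k hn hq ν 0 1 (Fin.last n) h0 h1 hl hν0 c3.1 c3.2
      · rw [if_neg c3]
        apply T1_one n q k hn hq ν 0 1 (Fin.last n) h0 h1 hl hν0 (by omega) c2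
        by_contra hcon
        push Not at hcon
        apply c3
        refine ⟨hcon.1, fun b hb2 hbn => ?_⟩
        have := hcon.2 b hb2 hbn
        omega
    · rw [if_neg c2]
      apply finrank_zero_of
      apply T1_zero_b n q k hn hq ν 0 1 h0 h1 hν0
      intro b hb1 hbn
      by_contra hne
      exact c2 ⟨b, hb1, hbn, by omega⟩

/-- the multidegree `e_0 + (q-1) e_n - q e_1` -/
def aP : Fin (n + 1) → ℤ :=
  fun l => (if l.val = 0 then 1 else 0) + (if l.val = n then (q : ℤ) - 1 else 0) -
    (if l.val = 1 then (q : ℤ) else 0)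

theorem finrank_T1' (k : Type*) [Field k] (hn : 3 ≤ n) (hq : 2 ≤ q) :
    Module.finrank k (V k (m n q) (aP n q)) = 1 := by
  obtain ⟨l0, hl0⟩ : ∃ l : Fin (n + 1), l.val = 0 := ⟨⟨0, by omega⟩, rfl⟩
  obtain ⟨l1, hl1⟩ : ∃ l : Fin (n + 1), l.val = 1 := ⟨⟨1, by omega⟩, rfl⟩
  obtain ⟨ih, hih⟩ : ∃ l : Fin (n + 1), l.val = n := ⟨⟨n, by omega⟩, rfl⟩
  apply finrank_V_isolated n q k (by omega) _ (fun _ : Fin 1 => ih)
  · intro x y _
    exact Subsingleton.elim _ _
  · intro x
    apply out_of n q l0 l1 hl0 hl1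
    · intro l
      simp only [Gv, mz, aP]; split_ifs <;> omega
    · simp only [Gv, mz, aP]; split_ifs <;> omega
    · right
      intro l' h1 h2
      simp only [Gv, mz, aP]; split_ifs <;> omega
    · simp only [Gv, mz, aP]; split_ifs <;> omega
  · intro i hne
    have hne' : i.val ≠ n := fun h => hne 0 (Fin.ext (by omega))
    have hi := i.2
    apply not_out_of_neg n q l1
    simp only [Gv, mz, aP]; split_ifs <;> omega
  · intro x j hne
    have hne' : j.val ≠ n := fun h => hne (Fin.ext (by omega))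
    have hj := j.2
    apply not_out_of_two n q l0 hl0
    simp only [Lv, mz, aP]; split_ifs <;> omega

end Groth.Agent.Helper20.HilbPP
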