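import Mathlib
import Groth.Prelude.Def_W4c1hilbpnTgt
import Groth.Agent.Lib.Helper25.HilbTgt
import Groth.Agent.Lib.Helper20.HilbGen
import Groth.Agent.Lib.Helper20.HilbPP1
import Groth.Agent.Lib.Helper20.HilbPP2
import Groth.Agent.Lib.Helper20.HilbPP3

/-!
The ideal `x_0·(x_0, …, x_{n-1}) + (x_1^q)`: counting the pieces of multidegree `ν - q e_1`
(helper20).
-/

set_option autoImplicit false

namespace Groth.Agent.Helper20.HilbPP

open MvPolynomial W4c1hilbpn Groth.Agent.Helper25.HilbTgt Groth.Agent.Helper20.HilbGen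

variable (n q : ℕ)

/-- exponent vectors of degree `q` not involving `x_0` -/
noncomputable def D : Finset (Fin (n + 1) →₀ ℕ) := (Finset.univ.erase 0).finsuppAntidiag q

lemma mem_D {ν : Fin (n + 1) →₀ ℕ} : ν ∈ D n q ↔ ν 0 = 0 ∧ ∑ l, ν l = q := by
  unfold D
  rw [Finset.mem_finsuppAntidiag]
  constructor
  · rintro ⟨h1, h2⟩
    have h0 : ν 0 = 0 := by
      by_contra h
      have := h2 (Finsupp.mem_support_iff.2 h)
      simp at this
    refine ⟨h0, ?_⟩
    rw [← h1, Finset.sum_erase _ h0]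
  · rintro ⟨h0, h1⟩
    refine ⟨?_, ?_⟩
    · rw [Finset.sum_erase _ h0, h1]
    · intro l hl
      rw [Finset.mem_erase]
      refine ⟨?_, Finset.mem_univ _⟩
      rintro rfl
      exact (Finsupp.mem_support_iff.1 hl) h0

lemma card_D (hn : 1 ≤ n) : (D n q).card = (n + q - 1).choose q := by
  unfold D
  rw [Finset.card_finsuppAntidiag_nat_eq_choose, Finset.card_erase_of_mem (Finset.mem_univ _),
    Finset.card_univ, Fintype.card_fin]
  congr 1

lemma eq_of_agree (f g : Fin (n + 1) →₀ ℕ) (c : Fin (n + 1)) (h : ∀ l, l ≠ c → f l = g l)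
    (hs : ∑ l, f l = ∑ l, g l) : f = g := by
  have e : ∑ l ∈ Finset.univ.erase c, f l = ∑ l ∈ Finset.univ.erase c, g l :=
    Finset.sum_congr rfl fun l hl => h l (Finset.ne_of_mem_erase hl)
  have hf := Finset.add_sum_erase Finset.univ (fun l => f l) (Finset.mem_univ c)
  have hg := Finset.add_sum_erase Finset.univ (fun l => g l) (Finset.mem_univ c)
  beta_reduce at hf hg
  rw [e] at hf
  ext l
  by_cases hl : l = c
  · subst hl
    omega
  · exact h l hl

lemma rest_zero (f : Fin (n + 1) →₀ ℕ) (c : Fin (n + 1)) (h : ∑ l, f l ≤ f c) :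
    ∀ l, l ≠ c → f l = 0 := by
  have hf := Finset.add_sum_erase Finset.univ (fun l => f l) (Finset.mem_univ c)
  beta_reduce at hf
  have h0 : ∑ l ∈ Finset.univ.erase c, f l = 0 := by omega
  rw [Finset.sum_eq_zero_iff] at h0
  intro l hl
  exact h0 l (Finset.mem_erase.2 ⟨hl, Finset.mem_univ _⟩)

/-- `q e_1` -/
noncomputable def s1 : Fin (n + 1) →₀ ℕ := Finsupp.single 1 q
/-- `q e_n` -/
noncomputable def s2 : Fin (n + 1) →₀ ℕ := Finsupp.single (Fin.last n) q
/-- `(q-1) e_1 + e_n` -/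
noncomputable def s3 : Fin (n + 1) →₀ ℕ :=
  Finsupp.single 1 (q - 1) + Finsupp.single (Fin.last n) 1

lemma s1_apply (hn : 1 ≤ n) (l : Fin (n + 1)) : s1 n q l = if l.val = 1 then q else 0 := by
  have h1 := val_one_fin n hn
  simp only [s1, Finsupp.single_apply, Fin.ext_iff, h1]
  split_ifs <;> omega

lemma s2_apply (l : Fin (n + 1)) : s2 n q l = if l.val = n then q else 0 := by
  simp only [s2, Finsupp.single_apply, Fin.ext_iff, Fin.val_last]
  split_ifs <;> omega

lemma s3_apply (hn : 1 ≤ n) (l : Fin (n + 1)) :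
    s3 n q l = (if l.val = 1 then q - 1 else 0) + (if l.val = n then 1 else 0) := by
  have h1 := val_one_fin n hn
  simp only [s3, Finsupp.add_apply, Finsupp.single_apply, Fin.ext_iff, Fin.val_last, h1]
  split_ifs <;> omega

lemma sum_single (a : Fin (n + 1)) (b : ℕ) :
    ∑ l, (Finsupp.single a b : Fin (n + 1) →₀ ℕ) l = b := by
  simp [Finsupp.single_apply]

lemma sum_s1 : ∑ l, s1 n q l = q := sum_single n _ _
lemma sum_s2 : ∑ l, s2 n q l = q := sum_single n _ _
lemma sum_s3 (hq : 1 ≤ q) : ∑ l, s3 n q l = q := by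
  unfold s3
  simp only [Finsupp.add_apply]
  rw [Finset.sum_add_distrib, sum_single, sum_single]
  omega

lemma s1_mem (hn : 1 ≤ n) : s1 n q ∈ D n q := by
  rw [mem_D]
  refine ⟨?_, sum_s1 n q⟩
  rw [s1_apply n q hn, if_neg (by simp)]

lemma s2_mem (hn : 1 ≤ n) : s2 n q ∈ D n q := by
  rw [mem_D]
  refine ⟨?_, sum_s2 n q⟩
  rw [s2_apply n q, if_neg (by simp; omega)]

lemma s3_mem (hn : 1 ≤ n) (hq : 1 ≤ q) : s3 n q ∈ D n q := by
  rw [mem_D]
  refine ⟨?_, sum_s3 n q hq⟩
  rw [s3_apply n q hn, if_neg (by simp), if_neg (by simp; omega)]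

lemma C1 (hn : 3 ≤ n) {ν : Fin (n + 1) →₀ ℕ} (hν : ν ∈ D n q) : q ≤ ν 1 ↔ ν = s1 n q := by
  rw [mem_D] at hν
  have h1 := val_one_fin n (by omega)
  constructor
  · intro h
    apply eq_of_agree n ν (s1 n q) 1
    · intro l hl
      rw [rest_zero n ν 1 (by rw [hν.2]; exact h) l hl, s1_apply n q (by omega), if_neg]
      intro h'
      exact hl (Fin.ext (by omega))
    · rw [hν.2, sum_s1]
  · rintro rfl
    rw [s1_apply n q (by omega), if_pos h1]

lemma C2 (hn : 3 ≤ n) (hq : 2 ≤ q) {ν : Fin (n + 1) →₀ ℕ} (hν : ν ∈ D n q) :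
    (¬ q ≤ ν 1 ∧ ¬ PA n ⇑ν) ↔ ν = s2 n q := by
  rw [mem_D] at hν
  have h1 := val_one_fin n (by omega)
  constructor
  · rintro ⟨-, hA⟩
    apply eq_of_agree n ν (s2 n q) (Fin.last n)
    · intro l hl
      have hl' : l.val ≠ n := fun h => hl (Fin.ext (by rw [Fin.val_last]; exact h))
      have := l.2
      rw [s2_apply, if_neg hl']
      by_cases hl0 : l.val = 0
      · obtain rfl : l = 0 := Fin.ext (by rw [Fin.val_zero]; exact hl0)
        exact hν.1
      · by_contra hne
        exact hA ⟨l, by omega, by omega, by omega⟩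
    · rw [hν.2, sum_s2]
  · rintro rfl
    refine ⟨?_, ?_⟩
    · rw [s2_apply, if_neg (by omega)]
      omega
    · rintro ⟨b, hb1, hbn, hb⟩
      rw [s2_apply, if_neg (by omega)] at hb
      omega

lemma C3 (hn : 3 ≤ n) (hq : 2 ≤ q) {ν : Fin (n + 1) →₀ ℕ} (hν : ν ∈ D n q) :
    (¬ q ≤ ν 1 ∧ PA n ⇑ν ∧ PB n q ⇑ν) ↔ ν = s3 n q := by
  rw [mem_D] at hν
  have h1 := val_one_fin n (by omega)
  constructor
  · rintro ⟨-, -, hB1, hB2⟩
    apply eq_of_agree n ν (s3 n q) (Fin.last n)
    · intro l hl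
      have hl' : l.val ≠ n := fun h => hl (Fin.ext (by rw [Fin.val_last]; exact h))
      have := l.2
      rw [s3_apply n q (by omega), if_neg hl']
      by_cases hl0 : l.val = 0
      · obtain rfl : l = 0 := Fin.ext (by rw [Fin.val_zero]; exact hl0)
        rw [if_neg (by omega), hν.1]
      · by_cases hl1 : l.val = 1
        · obtain rfl : l = 1 := Fin.ext (by rw [h1]; exact hl1)
          rw [if_pos hl1]
          omega
        · rw [if_neg hl1, hB2 l (by omega) (by omega)]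
    · rw [hν.2, sum_s3 n q (by omega)]
  · rintro rfl
    have e1 : s3 n q 1 = q - 1 := by
      rw [s3_apply n q (by omega), if_pos h1, if_neg (by omega)]
      omega
    refine ⟨?_, ⟨1, by omega, by omega, ?_⟩, ?_, ?_⟩
    · rw [e1]; omega
    · rw [e1]; omega
    · rw [e1]; omega
    · intro b hb2 hbn
      rw [s3_apply n q (by omega), if_neg (by omega), if_neg (by omega)]

theorem sum_dimf (hn : 3 ≤ n) (hq : 2 ≤ q) :
    ∑ ν ∈ D n q, dimf n q ⇑ν + 1 = (D n q).card := by
  have key : ∀ ν ∈ D n q, dimf n q ⇑ν + (if ν = s1 n q then 1 else 0) +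
      (if ν = s2 n q then 1 else 0) = 1 + (if ν = s3 n q then 1 else 0) := by
    intro ν hν
    have e1 := C1 n q hn hν
    have e2 := C2 n q hn hq hν
    have e3 := C3 n q hn hq hν
    unfold dimf
    by_cases c1 : q ≤ ν 1
    · have t1 : ν = s1 n q := e1.1 c1
      have t2 : ν ≠ s2 n q := fun h => (e2.2 h).1 c1
      have t3 : ν ≠ s3 n q := fun h => (e3.2 h).1 c1
      rw [if_pos c1, if_pos t1, if_neg t2, if_neg t3]
    · have t1 : ν ≠ s1 n q := fun h => c1 (e1.2 h)
      by_cases c2 : PA n ⇑ν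
      · have t2 : ν ≠ s2 n q := fun h => (e2.2 h).2 c2
        by_cases c3 : PB n q ⇑ν
        · have t3 : ν = s3 n q := e3.1 ⟨c1, c2, c3⟩
          rw [if_neg c1, if_pos c2, if_pos c3, if_neg t1, if_neg t2, if_pos t3]
        · have t3 : ν ≠ s3 n q := fun h => c3 (e3.2 h).2.2
          rw [if_neg c1, if_pos c2, if_neg c3, if_neg t1, if_neg t2, if_neg t3]
      · have t2 : ν = s2 n q := e2.1 ⟨c1, c2⟩
        have t3 : ν ≠ s3 n q := fun h => c2 (e3.2 h).2.1
        rw [if_neg c1, if_neg c2, if_neg t1, if_pos t2, if_neg t3]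
  have h := Finset.sum_congr rfl key
  rw [Finset.sum_add_distrib, Finset.sum_add_distrib, Finset.sum_add_distrib,
    Finset.sum_ite_eq_of_mem' _ _ _ (s1_mem n q (by omega)),
    Finset.sum_ite_eq_of_mem' _ _ _ (s2_mem n q (by omega)),
    Finset.sum_ite_eq_of_mem' _ _ _ (s3_mem n q (by omega) (by omega)),
    Finset.sum_const, smul_eq_mul, mul_one] at h
  omega

end Groth.Agent.Helper20.HilbPP
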