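import Mathlib
import Groth.Prelude.Def_W4c1hilbpnTgt
import Groth.Agent.Lib.Helper25.HilbTgt
import Groth.Agent.Lib.Helper20.HilbGen
import Groth.Agent.Lib.Helper20.HilbPP1
import Groth.Agent.Lib.Helper20.HilbPP2
import Groth.Agent.Lib.Helper20.HilbPP3
import Groth.Agent.Lib.Helper20.HilbPP4

/-!
The ideal `x_0·(x_0, …, x_{n-1}) + (x_1^q)`: the list of nonzero pieces of total degree `0` is
complete (helper20).
-/

set_option autoImplicit false

namespace Groth.Agent.Helper20.HilbPP

open MvPolynomial W4c1hilbpn Groth.Agent.Helper25.HilbTgt Groth.Agent.Helper20.HilbGen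

variable (n q : ℕ)

lemma sum_ind (c : ℕ) (hc : c ≤ n) (x : ℤ) :
    ∑ l : Fin (n + 1), (if l.val = c then x else 0) = x := by
  have : ∀ l : Fin (n + 1), (l.val = c) = (l = ⟨c, by omega⟩) :=
    fun l => propext (by rw [Fin.ext_iff])
  simp only [this, Finset.sum_ite_eq', Finset.mem_univ, if_true]

lemma exists_single (δ : Fin (n + 1) → ℤ) (hpos : ∀ l, 0 ≤ δ l) (hsum : ∑ l, δ l = 1) :
    ∃ b : Fin (n + 1), ∀ l : Fin (n + 1), δ l = if l.val = b.val then 1 else 0 := by
  have hex : ∃ b, 1 ≤ δ b := by
    by_contra hcon
    push Not at hcon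
    have : ∑ l, δ l ≤ 0 := Finset.sum_nonpos fun l _ => by have := hcon l; omega
    omega
  obtain ⟨b, hb⟩ := hex
  have hf := Finset.add_sum_erase Finset.univ δ (Finset.mem_univ b)
  have hnn : 0 ≤ ∑ l ∈ Finset.univ.erase b, δ l := Finset.sum_nonneg fun l _ => hpos l
  have h0 : ∑ l ∈ Finset.univ.erase b, δ l = 0 := by omega
  rw [Finset.sum_eq_zero_iff_of_nonneg (fun l _ => hpos l)] at h0
  refine ⟨b, fun l => ?_⟩
  by_cases hl : l = b
  · subst hl
    rw [if_pos rfl]
    omega
  · rw [if_neg (fun h => hl (Fin.ext h))]
    exact h0 l (Finset.mem_erase.2 ⟨hl, Finset.mem_univ _⟩)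

/-- the multidegrees `e_b - e_0` -/
noncomputable def A0 : Finset (Fin (n + 1) → ℤ) := (Finset.Icc 1 n).image (fun b => aE n b 0)
/-- the multidegrees `e_n - e_i` -/
noncomputable def A2 : Finset (Fin (n + 1) → ℤ) := (Finset.Ico 2 n).image (fun i => aE n n i)
/-- the multidegrees `ν - q e_1` -/
noncomputable def A1 : Finset (Fin (n + 1) → ℤ) := (D n q).image (fun ν : Fin (n + 1) →₀ ℕ => aN n q ⇑ν)

lemma complete_h (hn : 3 ≤ n) (hq : 2 ≤ q) (α : Fin (n + 1) → ℤ) (hsum : ∑ l, α l = 0)
    (ih : Fin (n + 1)) (hih : ih.val = n) (hout : Out n q (Gv n q α ih)) :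
    α ∈ A1 n q ∨ α = aP n q := by
  obtain ⟨l0, hl0⟩ : ∃ l : Fin (n + 1), l.val = 0 := ⟨⟨0, by omega⟩, rfl⟩
  have hν : ∀ l, Gv n q α ih l = (if l.val = 1 then (q : ℤ) else 0) + α l := by
    intro l
    simp only [Gv, mz]
    rw [if_neg (by omega)]
  have hs : ∑ l, Gv n q α ih l = q := by
    simp only [hν]
    rw [Finset.sum_add_distrib, sum_ind n 1 (by omega), hsum, add_zero]
  have h0 := hout.1 l0
  have h0' := hout.2.1 l0 hl0
  by_cases hc : Gv n q α ih l0 = 0
  · left
    obtain ⟨ν', hν'⟩ : ∃ ν' : Fin (n + 1) →₀ ℕ, ∀ l, ((ν' l : ℕ) : ℤ) = Gv n q α ih l :=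
      ⟨Finsupp.equivFunOnFinite.symm (fun l => (Gv n q α ih l).toNat),
        fun l => Int.toNat_of_nonneg (hout.1 l)⟩
    rw [A1, Finset.mem_image]
    refine ⟨ν', ?_, ?_⟩
    · rw [mem_D]
      constructor
      · obtain rfl : l0 = 0 := Fin.ext (by rw [hl0, Fin.val_zero])
        have := hν' 0
        rw [hc] at this
        exact_mod_cast this
      · have : ((∑ l, ν' l : ℕ) : ℤ) = q := by
          rw [Nat.cast_sum]
          simp only [hν']
          exact hs
        exact_mod_cast this
    · funext l
      simp only [aN]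
      rw [hν', hν]
      ring
  · right
    have h1 : Gv n q α ih l0 = 1 := by omega
    have hmid : ∀ l' : Fin (n + 1), 1 ≤ l'.val → l'.val < n → Gv n q α ih l' = 0 := by
      intro l' h1' h2'
      rcases hout.2.2.1 l0 l' hl0 h1' h2' with h | h
      · omega
      · exact h
    have hne : l0 ≠ ih := fun h => by rw [h] at hl0; omega
    have hs2 : ∑ l, Gv n q α ih l = Gv n q α ih l0 + Gv n q α ih ih := by
      apply Finset.sum_eq_add l0 ih hne
      · intro c _ hc
        have := c.2
        apply hmid c
        · by_contra hlt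
          exact hc.1 (Fin.ext (by omega))
        · by_contra hlt
          exact hc.2 (Fin.ext (by omega))
      · intro h
        exact absurd (Finset.mem_univ _) h
      · intro h
        exact absurd (Finset.mem_univ _) h
    have hih' : Gv n q α ih ih = q - 1 := by omega
    funext l
    have hl := hν l
    have := l.2
    by_cases c0 : l.val = 0
    · obtain rfl : l = l0 := Fin.ext (by omega)
      simp only [aP]
      split_ifs at hl ⊢ <;> omega
    · by_cases cn : l.val = n
      · obtain rfl : l = ih := Fin.ext (by omega)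
        simp only [aP]
        split_ifs at hl ⊢ <;> omega
      · have := hmid l (by omega) (by omega)
        simp only [aP]
        split_ifs at hl ⊢ <;> omega

lemma complete_g (hcase : (n = 3 ∧ 4 ≤ q) ∨ (4 ≤ n ∧ 2 ≤ q)) (α : Fin (n + 1) → ℤ)
    (hsum : ∑ l, α l = 0) (j : Fin (n + 1)) (hj : j.val < n) (hout : Out n q (Gv n q α j))
    (hlink : ∀ t, Out n q (Lv n q α j t) → Out n q (Gv n q α t)) :
    α ∈ A0 n ∨ α ∈ A2 n ∨ α ∈ A1 n q := by
  have hn : 3 ≤ n := by omega
  have hq : 2 ≤ q := by omega
  obtain ⟨l0, hl0⟩ : ∃ l : Fin (n + 1), l.val = 0 := ⟨⟨0, by omega⟩, rfl⟩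
  obtain ⟨l1, hl1⟩ : ∃ l : Fin (n + 1), l.val = 1 := ⟨⟨1, by omega⟩, rfl⟩
  obtain ⟨l2, hl2⟩ : ∃ l : Fin (n + 1), l.val = 2 := ⟨⟨2, by omega⟩, rfl⟩
  have hγ : ∀ l, Gv n q α j l =
      (if l.val = 0 then 1 else 0) + (if l.val = j.val then 1 else 0) + α l := by
    intro l
    simp only [Gv, mz]
    rw [if_pos hj]
  have hs : ∑ l, Gv n q α j l = 2 := by
    simp only [hγ]
    rw [Finset.sum_add_distrib, Finset.sum_add_distrib, sum_ind n 0 (by omega),
      sum_ind n j.val (by omega), hsum]
    norm_num
  have h0 := hout.1 l0
  have h0' := hout.2.1 l0 hl0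
  by_cases hc : Gv n q α j l0 = 0
  · by_cases hj0 : j.val = 0
    · exfalso
      have hL : Out n q (Lv n q α j l2) := by
        apply out_of n q l0 l1 hl0 hl1
        · intro l
          have := hout.1 l
          simp only [Gv, Lv, mz] at this ⊢
          split_ifs at this ⊢ <;> omega
        · simp only [Gv, Lv, mz] at hc ⊢
          split_ifs at hc ⊢ <;> omega
        · left
          simp only [Gv, Lv, mz] at hc ⊢
          split_ifs at hc ⊢ <;> omega
        · have := hout.2.2.2 l1 hl1
          simp only [Gv, Lv, mz] at this ⊢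
          split_ifs at this ⊢ <;> omega
      have := (hlink l2 hL).1 l0
      simp only [Gv, mz] at hc this
      split_ifs at hc this <;> omega
    · by_cases hgj : 1 ≤ Gv n q α j j
      · left
        obtain ⟨b, hb⟩ := exists_single n
          (fun l => Gv n q α j l - (if l.val = j.val then 1 else 0)) (by
            intro l
            beta_reduce
            by_cases hl : l.val = j.val
            · obtain rfl : l = j := Fin.ext hl
              rw [if_pos rfl]
              omega
            · rw [if_neg hl]
              have := hout.1 l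
              omega) (by
            rw [Finset.sum_sub_distrib, hs, sum_ind n j.val (by omega)]
            norm_num)
        beta_reduce at hb
        have hb0 : b.val ≠ 0 := by
          intro h
          have := hb l0
          rw [if_neg (by omega), if_pos (by omega)] at this
          omega
        have hα : α = aE n b.val 0 := by
          funext l
          have h1 := hb l
          have h2 := hγ l
          simp only [aE]
          split_ifs at h1 h2 ⊢ <;> omega
        rw [A0, Finset.mem_image]
        exact ⟨b.val, Finset.mem_Icc.2 ⟨by omega, by have := b.2; omega⟩, hα.symm⟩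
      · exfalso
        have hgj0 : Gv n q α j j = 0 := by
          have := hout.1 j
          omega
        obtain ⟨t, ht1, htn, htj, htq⟩ : ∃ t : Fin (n + 1), 1 ≤ t.val ∧ t.val < n ∧
            t.val ≠ j.val ∧ (t.val = 1 → 4 ≤ q) := by
          by_cases hj2 : j.val = 2
          · rcases hcase with ⟨h3, h4⟩ | ⟨h4, _⟩
            · exact ⟨l1, by omega, by omega, by omega, fun _ => h4⟩
            · refine ⟨⟨3, by omega⟩, ?_, ?_, ?_, ?_⟩
              · show 1 ≤ 3
                omega
              · show 3 < n
                omega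
              · show 3 ≠ j.val
                omega
              · intro h
                exact absurd h (by show (3 : ℕ) ≠ 1; omega)
          · exact ⟨l2, by omega, by omega, by omega, by omega⟩
        have hγ1 : Gv n q α j l1 ≤ 2 := by
          rw [← hs]
          exact Finset.single_le_sum (fun l _ => hout.1 l) (Finset.mem_univ l1)
        have hL : Out n q (Lv n q α j t) := by
          apply out_of n q l0 l1 hl0 hl1
          · intro l
            have := hout.1 l
            simp only [Gv, Lv, mz] at this ⊢
            split_ifs at this ⊢ <;> omega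
          · simp only [Gv, Lv, mz] at hc ⊢
            split_ifs at hc ⊢ <;> omega
          · left
            simp only [Gv, Lv, mz] at hc ⊢
            split_ifs at hc ⊢ <;> omega
          · have := hout.2.2.2 l1 hl1
            simp only [Gv, Lv, mz] at this hγ1 ⊢
            split_ifs at this hγ1 ⊢ <;> omega
        have := (hlink t hL).1 j
        simp only [Gv, mz] at hgj0 this
        split_ifs at hgj0 this <;> omega
  · have h1 : Gv n q α j l0 = 1 := by omega
    have hmid : ∀ l' : Fin (n + 1), 1 ≤ l'.val → l'.val < n → Gv n q α j l' = 0 := by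
      intro l' h1' h2'
      rcases hout.2.2.1 l0 l' hl0 h1' h2' with h | h
      · omega
      · exact h
    obtain ⟨b, hb⟩ := exists_single n
      (fun l => Gv n q α j l - (if l.val = 0 then 1 else 0)) (by
        intro l
        beta_reduce
        by_cases hl : l.val = 0
        · obtain rfl : l = l0 := Fin.ext (by omega)
          rw [if_pos hl]
          omega
        · rw [if_neg hl]
          have := hout.1 l
          omega) (by
        rw [Finset.sum_sub_distrib, hs, sum_ind n 0 (by omega)]
        norm_num)
    beta_reduce at hb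
    have hbn : b.val = n := by
      have hb' := hb b
      rw [if_pos rfl] at hb'
      by_contra hne
      have := b.2
      by_cases hb0 : b.val = 0
      · obtain rfl : b = l0 := Fin.ext (by omega)
        rw [if_pos hl0] at hb'
        omega
      · have := hmid b (by omega) (by omega)
        rw [if_neg hb0] at hb'
        omega
    have hα : α = aE n n j.val := by
      funext l
      have h1 := hb l
      have h2 := hγ l
      simp only [aE]
      split_ifs at h1 h2 ⊢ <;> omega
    by_cases hj0 : j.val = 0
    · left
      rw [A0, Finset.mem_image]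
      exact ⟨n, Finset.mem_Icc.2 ⟨by omega, le_refl _⟩, by rw [hα, hj0]⟩
    · by_cases hj1 : j.val = 1
      · right; right
        rw [A1, Finset.mem_image]
        refine ⟨s3 n q, s3_mem n q (by omega) (by omega), ?_⟩
        rw [hα, hj1]
        funext l
        simp only [aN, aE]
        rw [s3_apply n q (by omega)]
        push_cast
        split_ifs <;> omega
      · right; left
        rw [A2, Finset.mem_image]
        exact ⟨j.val, Finset.mem_Ico.2 ⟨by omega, hj⟩, hα.symm⟩

/-- all the multidegrees of nonzero pieces -/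
noncomputable def Aall : Finset (Fin (n + 1) → ℤ) := A0 n ∪ A2 n ∪ A1 n q ∪ {aP n q}

theorem hbot (k : Type*) [Field k] (hcase : (n = 3 ∧ 4 ≤ q) ∨ (4 ≤ n ∧ 2 ≤ q))
    (α : Fin (n + 1) → ℤ) (hsum : ∑ l, α l = 0) (hnot : α ∉ Aall n q) :
    ∀ c ∈ V k (m n q) α, c = 0 := by
  apply V_eq_zero n q k (by omega)
  intro i
  by_contra hk
  push Not at hk
  obtain ⟨h1, h2⟩ := hk
  apply hnot
  unfold Aall
  simp only [Finset.mem_union, Finset.mem_singleton]
  by_cases hi : i.val < n
  · rcases complete_g n q hcase α hsum i hi h1 h2 with h | h | h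
    · left; left; left; exact h
    · left; left; right; exact h
    · left; right; exact h
  · have := i.2
    rcases complete_h n q (by omega) (by omega) α hsum i (by omega) h1 with h | h
    · left; right; exact h
    · right; exact h

end Groth.Agent.Helper20.HilbPP
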