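import Mathlib
import Groth.Prelude.Def_W4c1hilbpnTgt
import Groth.Agent.Lib.Helper25.HilbTgt
import Groth.Agent.Lib.Helper20.HilbGen
import Groth.Agent.Lib.Helper20.HilbFrame

/-!
The ideal `(x_0, x_1)·(x_0, …, x_{n-1})`: generators and the monomials outside it (helper20).
-/

set_option autoImplicit false

namespace Groth.Agent.Helper20.HilbQA

open MvPolynomial W4c1hilbpn Groth.Agent.Helper25.HilbTgt Groth.Agent.Helper20.HilbGen
  Groth.Agent.Helper20.HilbFrame

variable (n : ℕ)

/-- exponent vectors of the generators `x_a x_i`, `a ≤ 1`, `i ≤ n - 1` (with one repetition) -/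
def mfun (p : Fin 2 × Fin n) (l : Fin (n + 1)) : ℕ :=
  (if l.val = p.1.val then 1 else 0) + (if l.val = p.2.val then 1 else 0)

noncomputable def m (p : Fin 2 × Fin n) : Fin (n + 1) →₀ ℕ :=
  Finsupp.equivFunOnFinite.symm (mfun n p)

lemma m_apply (p : Fin 2 × Fin n) (l : Fin (n + 1)) : m n p l = mfun n p l := rfl

/-- integer version of `mfun` -/
def mz (p : Fin 2 × Fin n) (l : Fin (n + 1)) : ℤ :=
  (if l.val = p.1.val then 1 else 0) + (if l.val = p.2.val then 1 else 0)

lemma cast_mfun (p : Fin 2 × Fin n) (l : Fin (n + 1)) : ((mfun n p l : ℕ) : ℤ) = mz n p l := by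
  unfold mfun mz
  split_ifs <;> simp

lemma val_one_fin (hn : 1 ≤ n) : ((1 : Fin (n + 1)) : ℕ) = 1 := by
  rw [Fin.val_one']
  exact Nat.mod_eq_of_lt (by omega)

lemma monomial_m (k : Type*) [Field k] (p : Fin 2 × Fin n) (a i : Fin (n + 1))
    (ha : a.val = p.1.val) (hi : i.val = p.2.val) :
    (monomial (m n p) (1 : k) : MvPolynomial (Fin (n + 1)) k) = X a * X i := by
  have e : m n p = Finsupp.single a 1 + Finsupp.single i 1 := by
    ext l
    rw [m_apply, Finsupp.add_apply, Finsupp.single_apply, Finsupp.single_apply]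
    unfold mfun
    simp only [Fin.ext_iff]
    split_ifs <;> omega
  rw [e, X, X, monomial_mul, one_mul]

lemma ideal_eq (k : Type*) [Field k] (hn : 2 ≤ n) :
    Ideal.span ({f : MvPolynomial (Fin (n + 1)) k | ∃ i : Fin (n + 1), i.val + 1 ≤ n ∧
      f = X 0 * X i} ∪ {f : MvPolynomial (Fin (n + 1)) k | ∃ i : Fin (n + 1), 1 ≤ i.val ∧
      i.val ≤ n - 1 ∧ f = X 1 * X i}) = genIdeal k (m n) := by
  have h1 := val_one_fin n (by omega)
  have h0 : ((0 : Fin (n + 1)) : ℕ) = 0 := Fin.val_zero _
  unfold genIdeal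
  congr 1
  ext f
  simp only [Set.mem_union, Set.mem_setOf_eq, Set.mem_range]
  constructor
  · rintro (⟨i, hi, rfl⟩ | ⟨i, hi1, hi2, rfl⟩)
    · exact ⟨(⟨0, by omega⟩, ⟨i.val, by omega⟩), monomial_m n k _ 0 i h0 rfl⟩
    · exact ⟨(⟨1, by omega⟩, ⟨i.val, by omega⟩), monomial_m n k _ 1 i h1 rfl⟩
  · rintro ⟨p, rfl⟩
    have hp1 := p.1.2
    have hp2 := p.2.2
    by_cases ha : p.1.val = 0
    · left
      refine ⟨⟨p.2.val, by omega⟩, by show p.2.val + 1 ≤ n; omega, ?_⟩
      exact monomial_m n k p 0 _ (by rw [h0, ha]) rfl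
    · by_cases hi : p.2.val = 0
      · left
        refine ⟨1, by rw [h1]; omega, ?_⟩
        rw [mul_comm]
        exact monomial_m n k p 1 0 (by rw [h1]; omega) (by rw [h0, hi])
      · right
        refine ⟨⟨p.2.val, by omega⟩, by show 1 ≤ p.2.val; omega, by show p.2.val ≤ n - 1; omega, ?_⟩
        exact monomial_m n k p 1 _ (by rw [h1]; omega) rfl

/-- the integer vector `γ` is the exponent of a monomial outside the ideal -/
def Out (γ : Fin (n + 1) → ℤ) : Prop :=
  (∀ l, 0 ≤ γ l) ∧ ∀ l0 l1 : Fin (n + 1), l0.val = 0 → l1.val = 1 → γ l0 + γ l1 ≤ 1 ∧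
    ∀ l' : Fin (n + 1), 2 ≤ l'.val → l'.val < n → γ l0 + γ l1 = 0 ∨ γ l' = 0

lemma out_of {γ : Fin (n + 1) → ℤ} (l0 l1 : Fin (n + 1)) (hl0 : l0.val = 0) (hl1 : l1.val = 1)
    (h1 : ∀ l, 0 ≤ γ l) (h2 : γ l0 + γ l1 ≤ 1)
    (h3 : γ l0 + γ l1 = 0 ∨ ∀ l' : Fin (n + 1), 2 ≤ l'.val → l'.val < n → γ l' = 0) :
    Out n γ := by
  refine ⟨h1, fun l0' l1' hl0' hl1' => ?_⟩
  obtain rfl : l0' = l0 := Fin.ext (by omega)
  obtain rfl : l1' = l1 := Fin.ext (by omega)
  refine ⟨h2, fun l' h1' h2' => ?_⟩
  rcases h3 with h | h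
  · left; exact h
  · right; exact h l' h1' h2'

theorem isFrame (hn : 2 ≤ n) : IsFrame (m n) (mz n) (Out n) where
  hmz := fun p l => by rw [m_apply, cast_mfun]
  hOut := by
    intro α β
    rw [alive_iff]
    have hcast : ∀ t l, ((m n t l : ℕ) : ℤ) = mz n t l := fun t l => by rw [m_apply, cast_mfun]
    simp only [hcast]
    constructor
    · rintro ⟨hpos, h⟩
      refine ⟨hpos, fun l0 l1 hl0 hl1 => ⟨?_, fun l' h1' h2' => ?_⟩⟩
      · beta_reduce
        obtain ⟨a, ha⟩ := h (⟨0, by omega⟩, ⟨0, by omega⟩)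
        obtain ⟨b, hb⟩ := h (⟨1, by omega⟩, ⟨1, by omega⟩)
        obtain ⟨c, hc⟩ := h (⟨0, by omega⟩, ⟨1, by omega⟩)
        have ha' := hpos a
        have hb' := hpos b
        have hc' := hpos c
        simp only [mz] at ha hb hc
        have e0 : ∀ x : Fin (n + 1), x.val = 0 → x = l0 := fun x hx => Fin.ext (by omega)
        have e1 : ∀ x : Fin (n + 1), x.val = 1 → x = l1 := fun x hx => Fin.ext (by omega)
        by_cases ha0 : a.val = 0
        · rw [e0 a ha0] at ha ha'
          by_cases hb1 : b.val = 1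
          · rw [e1 b hb1] at hb hb'
            by_cases hc0 : c.val = 0
            · rw [e0 c hc0] at hc hc'
              omega
            · by_cases hc1 : c.val = 1
              · rw [e1 c hc1] at hc hc'
                omega
              · omega
          · omega
        · omega
      · beta_reduce
        obtain ⟨a, ha⟩ := h (⟨0, by omega⟩, ⟨l'.val, by omega⟩)
        obtain ⟨b, hb⟩ := h (⟨1, by omega⟩, ⟨l'.val, by omega⟩)
        have ha' := hpos a
        have hb' := hpos b
        have h0' := hpos l0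
        have h1'' := hpos l1
        have hl'' := hpos l'
        simp only [mz] at ha hb
        have e0 : ∀ x : Fin (n + 1), x.val = 0 → x = l0 := fun x hx => Fin.ext (by omega)
        have e1 : ∀ x : Fin (n + 1), x.val = 1 → x = l1 := fun x hx => Fin.ext (by omega)
        have e2 : ∀ x : Fin (n + 1), x.val = l'.val → x = l' := fun x hx => Fin.ext hx
        by_cases ha0 : a.val = 0
        · rw [e0 a ha0] at ha ha'
          by_cases hb1 : b.val = 1
          · rw [e1 b hb1] at hb hb'
            omega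
          · by_cases hb2 : b.val = l'.val
            · rw [e2 b hb2] at hb hb'
              omega
            · omega
        · by_cases ha2 : a.val = l'.val
          · rw [e2 a ha2] at ha ha'
            omega
          · omega
    · rintro ⟨hpos, h⟩
      refine ⟨hpos, fun t => ?_⟩
      have ht1 := t.1.2
      have ht2 := t.2.2
      obtain ⟨h2, h3⟩ := h ⟨0, by omega⟩ ⟨1, by omega⟩ rfl rfl
      beta_reduce at h2 h3
      have hp0 := hpos ⟨0, by omega⟩
      have hp1 := hpos ⟨1, by omega⟩
      beta_reduce at hp0 hp1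
      by_cases ht : 2 ≤ t.2.val
      · rcases h3 ⟨t.2.val, by omega⟩ ht ht2 with h' | h'
        · by_cases ha : t.1.val = 0
          · refine ⟨⟨0, by omega⟩, ?_⟩
            simp only [mz, if_true]
            omega
          · refine ⟨⟨1, by omega⟩, ?_⟩
            simp only [mz, if_true]
            omega
        · refine ⟨⟨t.2.val, by omega⟩, ?_⟩
          beta_reduce at h'
          simp only [mz, if_true]
          omega
      · by_cases ha : t.1.val = 0
        · by_cases hb : t.2.val = 0
          · refine ⟨⟨0, by omega⟩, ?_⟩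
            simp only [mz, if_true]
            omega
          · by_cases hz : (β ⟨0, by omega⟩ : ℤ) + α ⟨0, by omega⟩ = 0
            · refine ⟨⟨0, by omega⟩, ?_⟩
              simp only [mz, if_true]
              omega
            · refine ⟨⟨1, by omega⟩, ?_⟩
              simp only [mz, if_true]
              omega
        · by_cases hb : t.2.val = 0
          · by_cases hz : (β ⟨0, by omega⟩ : ℤ) + α ⟨0, by omega⟩ = 0
            · refine ⟨⟨0, by omega⟩, ?_⟩
              simp only [mz, if_true]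
              omega
            · refine ⟨⟨1, by omega⟩, ?_⟩
              simp only [mz, if_true]
              omega
          · refine ⟨⟨1, by omega⟩, ?_⟩
            simp only [mz, if_true]
            omega

end Groth.Agent.Helper20.HilbQA
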