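import Mathlib
import Groth.Prelude.Def_W4c1hilbpnTgt
import Groth.Agent.Lib.Helper25.HilbTgt
import Groth.Agent.Lib.Helper20.HilbGen
import Groth.Agent.Lib.Helper20.HilbFrame
import Groth.Agent.Lib.Helper20.HilbQA1

/-!
The ideal `(x_0, x_1)·(x_0, …, x_{n-1})`: the nonzero pieces of total degree `0` (helper20).
-/

set_option autoImplicit false

namespace Groth.Agent.Helper20.HilbQA

open MvPolynomial W4c1hilbpn Groth.Agent.Helper25.HilbTgt Groth.Agent.Helper20.HilbGen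
  Groth.Agent.Helper20.HilbFrame

variable (n : ℕ)

/-- the multidegree `e_b - e_a` -/
def aE (b a : ℕ) : Fin (n + 1) → ℤ :=
  fun l => (if l.val = b then 1 else 0) - (if l.val = a then 1 else 0)

/-- the multidegree `e_b + e_c - e_a - e_i` -/
def aF (b c a i : ℕ) : Fin (n + 1) → ℤ :=
  fun l => (if l.val = b then 1 else 0) + (if l.val = c then 1 else 0) -
    (if l.val = a then 1 else 0) - (if l.val = i then 1 else 0)

lemma out_of' {γ : Fin (n + 1) → ℤ} (l0 l1 : Fin (n + 1)) (hl0 : l0.val = 0) (hl1 : l1.val = 1)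
    (h1 : ∀ l, 0 ≤ γ l) (h2 : γ l0 + γ l1 ≤ 1)
    (h3 : ∀ l' : Fin (n + 1), 2 ≤ l'.val → l'.val < n → γ l0 + γ l1 = 0 ∨ γ l' = 0) :
    Out n γ := by
  refine ⟨h1, fun l0' l1' hl0' hl1' => ?_⟩
  obtain rfl : l0' = l0 := Fin.ext (by omega)
  obtain rfl : l1' = l1 := Fin.ext (by omega)
  exact ⟨h2, h3⟩

/-- unfold and decide -/
macro "ev" : tactic =>
  `(tactic| (simp only [HilbFrame.Gv, HilbFrame.Lv, mz, aE, aF, Fin.val_mk, ↓reduceIte] at *; omega))

/-- the code of the components for the multidegree `e_n - e_a` -/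
def cz1 (a : ℕ) (p : Fin 2 × Fin n) : ℤ :=
  if p.1.val = a then (if p.2.val = a then 1 else if p.2.val ≤ 1 then 2 else 3)
  else (if p.2.val = a then 2 else 0)

set_option maxHeartbeats 1600000 in
lemma P1_H5 (hn : 3 ≤ n) (a : ℕ) (ha : a ≤ 1) (l0 l1 : Fin (n + 1)) (hl0 : l0.val = 0)
    (hl1 : l1.val = 1) (p p' : Fin 2 × Fin n)
    (ho : Out n (Lv (mz n) (aE n n a) p p')) : cz1 n a p = cz1 n a p' := by
  have hp1 := p.1.2
  have hp2 := p.2.2
  have hp1' := p'.1.2
  have hp2' := p'.2.2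
  obtain ⟨f2, f3⟩ := ho.2 l0 l1 hl0 hl1
  have g2 : 2 ≤ p.2.val → _ := fun h => f3 ⟨p.2.val, by omega⟩ h hp2
  have g3 : 2 ≤ p'.2.val → _ := fun h => f3 ⟨p'.2.val, by omega⟩ h hp2'
  clear f3 ho
  simp only [cz1]
  ev

theorem finrank_P1 (k : Type*) [Field k] (hn : 3 ≤ n) (a : ℕ) (ha : a ≤ 1) :
    Module.finrank k (V k (m n) (aE n n a)) = 3 := by
  obtain ⟨l0, hl0⟩ : ∃ l : Fin (n + 1), l.val = 0 := ⟨⟨0, by omega⟩, rfl⟩
  obtain ⟨l1, hl1⟩ : ∃ l : Fin (n + 1), l.val = 1 := ⟨⟨1, by omega⟩, rfl⟩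
  obtain ⟨la, hla⟩ : ∃ l : Fin (n + 1), l.val = a := ⟨⟨a, by omega⟩, rfl⟩
  apply finrank_V_code3 k (isFrame n (by omega)) _ (cz1 n a)
    (⟨a, by omega⟩, ⟨a, by omega⟩) (⟨a, by omega⟩, ⟨1 - a, by omega⟩) (⟨a, by omega⟩, ⟨2, by omega⟩)
  · refine ⟨?_, ?_, ?_⟩ <;> simp only [cz1, Fin.val_mk, ↓reduceIte] <;> omega
  · intro p hp
    left
    intro ho
    have := ho.1 la
    simp only [cz1] at hp
    ev
  · intro p
    have hp1 := p.1.2
    have hp2 := p.2.2
    refine ⟨fun h => ?_, fun h => ?_, fun h => ?_⟩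
    · left
      simp only [cz1] at h
      exact Prod.ext (Fin.ext (by simp only [Fin.val_mk]; omega))
        (Fin.ext (by simp only [Fin.val_mk]; omega))
    · right
      simp only [cz1] at h
      refine out_of' n l0 l1 hl0 hl1 (fun l => ?_) ?_ (fun l' h1 h2 => ?_)
      · ev
      · ev
      · ev
    · right
      simp only [cz1] at h
      refine out_of' n l0 l1 hl0 hl1 (fun l => ?_) ?_ (fun l' h1 h2 => ?_)
      · ev
      · ev
      · ev
  · intro p hnot
    have hp1 := p.1.2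
    have hp2 := p.2.2
    by_contra hne
    apply hnot
    simp only [cz1] at hne
    refine out_of' n l0 l1 hl0 hl1 (fun l => ?_) ?_ (fun l' h1 h2 => ?_)
    · ev
    · ev
    · ev
  · exact P1_H5 n hn a ha l0 l1 hl0 hl1
  · intro p
    simp only [cz1]
    omega

/-- the code of the components for the multidegree `e_b - e_a`, `2 ≤ b ≤ n - 1` -/
def cz2 (a : ℕ) (p : Fin 2 × Fin n) : ℤ :=
  if p.1.val = a ∧ 2 ≤ p.2.val then 1 else 0

theorem finrank_P2 (k : Type*) [Field k] (hn : 3 ≤ n) (a b : ℕ) (ha : a ≤ 1) (hb2 : 2 ≤ b)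
    (hbn : b < n) :
    Module.finrank k (V k (m n) (aE n b a)) = 1 := by
  obtain ⟨l0, hl0⟩ : ∃ l : Fin (n + 1), l.val = 0 := ⟨⟨0, by omega⟩, rfl⟩
  obtain ⟨l1, hl1⟩ : ∃ l : Fin (n + 1), l.val = 1 := ⟨⟨1, by omega⟩, rfl⟩
  obtain ⟨la, hla⟩ : ∃ l : Fin (n + 1), l.val = a := ⟨⟨a, by omega⟩, rfl⟩
  obtain ⟨lb, hlb⟩ : ∃ l : Fin (n + 1), l.val = b := ⟨⟨b, by omega⟩, rfl⟩
  apply finrank_V_code1 k (isFrame n (by omega)) _ (cz2 n a) (⟨a, by omega⟩, ⟨2, by omega⟩)
  · simp [cz2]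
  · intro p hp
    have hp1 := p.1.2
    have hp2 := p.2.2
    left
    intro ho
    have f1 := ho.1 la
    have f2 := (ho.2 l0 l1 hl0 hl1).2 lb (by omega) (by omega)
    clear ho
    simp only [cz2] at hp
    ev
  · intro p h
    have hp1 := p.1.2
    have hp2 := p.2.2
    right
    simp only [cz2] at h
    refine out_of' n l0 l1 hl0 hl1 (fun l => ?_) ?_ (fun l' h1 h2 => ?_)
    · ev
    · ev
    · ev
  · intro p hnot
    have hp1 := p.1.2
    have hp2 := p.2.2
    by_contra hne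
    apply hnot
    simp only [cz2] at hne
    refine out_of' n l0 l1 hl0 hl1 (fun l => ?_) ?_ (fun l' h1 h2 => ?_)
    · ev
    · ev
    · ev
  · intro p p' ho
    have hp1 := p.1.2
    have hp2 := p.2.2
    have hp1' := p'.1.2
    have hp2' := p'.2.2
    have f2 := (ho.2 l0 l1 hl0 hl1).2 lb (by omega) (by omega)
    clear ho
    simp only [cz2]
    ev
  · intro p
    simp only [cz2]
    omega

/-- the code of the components for the multidegree `e_{1-a} + e_n - e_a - e_i`,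
`i = a` or `2 ≤ i ≤ n - 1` -/
def cz3 (a i : ℕ) (p : Fin 2 × Fin n) : ℤ :=
  if p.1.val = a ∧ p.2.val = i then 1 else 0

theorem finrank_P3 (k : Type*) [Field k] (hn : 3 ≤ n) (a i : ℕ) (ha : a ≤ 1)
    (hi : i = a ∨ (2 ≤ i ∧ i < n)) :
    Module.finrank k (V k (m n) (aF n (1 - a) n a i)) = 1 := by
  obtain ⟨l0, hl0⟩ : ∃ l : Fin (n + 1), l.val = 0 := ⟨⟨0, by omega⟩, rfl⟩
  obtain ⟨l1, hl1⟩ : ∃ l : Fin (n + 1), l.val = 1 := ⟨⟨1, by omega⟩, rfl⟩
  obtain ⟨la, hla⟩ : ∃ l : Fin (n + 1), l.val = a := ⟨⟨a, by omega⟩, rfl⟩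
  obtain ⟨li, hli⟩ : ∃ l : Fin (n + 1), l.val = i := ⟨⟨i, by omega⟩, rfl⟩
  apply finrank_V_code1 k (isFrame n (by omega)) _ (cz3 n a i) (⟨a, by omega⟩, ⟨i, by omega⟩)
  · simp [cz3]
  · intro p hp
    have hp1 := p.1.2
    have hp2 := p.2.2
    left
    intro ho
    have f1 := ho.1 la
    have f2 := ho.1 li
    clear ho
    simp only [cz3] at hp
    ev
  · intro p h
    have hp1 := p.1.2
    have hp2 := p.2.2
    left
    simp only [cz3] at h
    exact Prod.ext (Fin.ext (by simp only [Fin.val_mk]; omega))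
      (Fin.ext (by simp only [Fin.val_mk]; omega))
  · intro p hnot
    have hp1 := p.1.2
    have hp2 := p.2.2
    by_contra hne
    apply hnot
    simp only [cz3] at hne
    refine out_of' n l0 l1 hl0 hl1 (fun l => ?_) ?_ (fun l' h1 h2 => ?_)
    · ev
    · ev
    · ev
  · have key : ∀ p p' : Fin 2 × Fin n, cz3 n a i p = 1 → cz3 n a i p' = 0 →
        ¬ Out n (Lv (mz n) (aF n (1 - a) n a i) p p') := by
      intro p p' h1 h0 ho
      have hp1' := p'.1.2
      have hp2' := p'.2.2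
      simp only [cz3] at h1 h0
      have h1a : p.1.val = a ∧ p.2.val = i := by
        by_contra hc
        rw [if_neg hc] at h1
        omega
      obtain ⟨f2, f3⟩ := ho.2 l0 l1 hl0 hl1
      have g3 : 2 ≤ p'.2.val → _ := fun h => f3 ⟨p'.2.val, by omega⟩ h hp2'
      clear f3 ho h1
      obtain ⟨h1a, h1b⟩ := h1a
      simp only [HilbFrame.Gv, HilbFrame.Lv, mz, aE, aF, Fin.val_mk, ↓reduceIte, h1a, h1b] at *
      omega
    have h6 : ∀ p, cz3 n a i p = 0 ∨ cz3 n a i p = 1 := by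
      intro p
      simp only [cz3]
      omega
    intro p p' ho
    rcases h6 p with h | h <;> rcases h6 p' with h' | h'
    · rw [h, h']
    · rw [Lv_comm] at ho
      exact absurd ho (key p' p h' h)
    · exact absurd ho (key p p' h h')
    · rw [h, h']
  · intro p
    simp only [cz3]
    omega

/-- the code of the components for the multidegree `e_n - e_i`, `2 ≤ i ≤ n - 1` -/
def cz5 (i : ℕ) (p : Fin 2 × Fin n) : ℤ :=
  if p.2.val = i then (p.1.val : ℤ) + 1 else 0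

theorem finrank_P5 (k : Type*) [Field k] (hn : 3 ≤ n) (i : ℕ) (hi2 : 2 ≤ i) (hin : i < n) :
    Module.finrank k (V k (m n) (aE n n i)) = 2 := by
  obtain ⟨l0, hl0⟩ : ∃ l : Fin (n + 1), l.val = 0 := ⟨⟨0, by omega⟩, rfl⟩
  obtain ⟨l1, hl1⟩ : ∃ l : Fin (n + 1), l.val = 1 := ⟨⟨1, by omega⟩, rfl⟩
  obtain ⟨li, hli⟩ : ∃ l : Fin (n + 1), l.val = i := ⟨⟨i, by omega⟩, rfl⟩
  apply finrank_V_code2 k (isFrame n (by omega)) _ (cz5 n i) (⟨0, by omega⟩, ⟨i, by omega⟩)
    (⟨1, by omega⟩, ⟨i, by omega⟩)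
  · refine ⟨?_, ?_⟩ <;> simp only [cz5, Fin.val_mk, ↓reduceIte] <;> omega
  · intro p hp
    have hp1 := p.1.2
    have hp2 := p.2.2
    left
    intro ho
    have f1 := ho.1 li
    clear ho
    simp only [cz5] at hp
    ev
  · intro p
    have hp1 := p.1.2
    have hp2 := p.2.2
    refine ⟨fun h => ?_, fun h => ?_⟩
    · left
      simp only [cz5] at h
      exact Prod.ext (Fin.ext (by simp only [Fin.val_mk]; omega))
        (Fin.ext (by simp only [Fin.val_mk]; omega))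
    · left
      simp only [cz5] at h
      exact Prod.ext (Fin.ext (by simp only [Fin.val_mk]; omega))
        (Fin.ext (by simp only [Fin.val_mk]; omega))
  · intro p hnot
    have hp1 := p.1.2
    have hp2 := p.2.2
    by_contra hne
    apply hnot
    simp only [cz5] at hne
    refine out_of' n l0 l1 hl0 hl1 (fun l => ?_) ?_ (fun l' h1 h2 => ?_)
    · ev
    · ev
    · ev
  · have key : ∀ p p' : Fin 2 × Fin n, p.2.val = i → cz5 n i p ≠ cz5 n i p' →
        ¬ Out n (Lv (mz n) (aE n n i) p p') := by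
      intro p p' h1 hne ho
      have hp1 := p.1.2
      have hp1' := p'.1.2
      have hp2' := p'.2.2
      simp only [cz5] at hne
      obtain ⟨f2, f3⟩ := ho.2 l0 l1 hl0 hl1
      have g3 : 2 ≤ p'.2.val → _ := fun h => f3 ⟨p'.2.val, by omega⟩ h hp2'
      clear f3 ho
      simp only [HilbFrame.Gv, HilbFrame.Lv, mz, aE, aF, Fin.val_mk, ↓reduceIte, h1] at *
      omega
    intro p p' ho
    by_contra hne
    by_cases hp : p.2.val = i
    · exact key p p' hp hne ho
    · have hp' : p'.2.val = i := by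
        by_contra hc
        apply hne
        simp only [cz5]
        rw [if_neg hp, if_neg hc]
      rw [Lv_comm] at ho
      exact key p' p hp' (Ne.symm hne) ho
  · intro p
    have hp1 := p.1.2
    simp only [cz5]
    omega

end Groth.Agent.Helper20.HilbQA
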