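import Mathlib
import Groth.Prelude.Def_W4c1hilbpnTgt
import Groth.Agent.Lib.Helper25.HilbTgt
import Groth.Agent.Lib.Helper20.HilbGen
import Groth.Agent.Lib.Helper20.HilbFrame
import Groth.Agent.Lib.Helper20.HilbPP5
import Groth.Agent.Lib.Helper20.HilbQA1
import Groth.Agent.Lib.Helper20.HilbQA2

/-!
The ideal `(x_0, x_1)·(x_0, …, x_{n-1})`: the list of nonzero pieces of total degree `0` is
complete (helper20).
-/

set_option autoImplicit false

namespace Groth.Agent.Helper20.HilbQA

open MvPolynomial W4c1hilbpn Groth.Agent.Helper25.HilbTgt Groth.Agent.Helper20.HilbGen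
  Groth.Agent.Helper20.HilbFrame

variable (n : ℕ)

/-- the multidegrees `e_n - e_a`, `a ≤ n - 1` -/
noncomputable def AE1 : Finset (Fin (n + 1) → ℤ) := (Finset.range n).image (fun a => aE n n a)
/-- the multidegrees `e_b - e_a`, `2 ≤ b ≤ n - 1`, `a ≤ 1` -/
noncomputable def AE2 : Finset (Fin (n + 1) → ℤ) :=
  (Finset.Ico 2 n ×ˢ Finset.range 2).image (fun x => aE n x.1 x.2)
/-- the multidegrees `e_{1-a} + e_n - 2 e_a`, `a ≤ 1` -/
noncomputable def AF1 : Finset (Fin (n + 1) → ℤ) :=
  (Finset.range 2).image (fun a => aF n (1 - a) n a a)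
/-- the multidegrees `e_{1-a} + e_n - e_a - e_i`, `a ≤ 1`, `2 ≤ i ≤ n - 1` -/
noncomputable def AF2 : Finset (Fin (n + 1) → ℤ) :=
  (Finset.range 2 ×ˢ Finset.Ico 2 n).image (fun x => aF n (1 - x.1) n x.1 x.2)

/-- all the multidegrees of nonzero pieces -/
noncomputable def Aall : Finset (Fin (n + 1) → ℤ) := AE1 n ∪ AE2 n ∪ AF1 n ∪ AF2 n

lemma mem_AE1 (a : ℕ) (ha : a < n) : aE n n a ∈ AE1 n :=
  Finset.mem_image.2 ⟨a, Finset.mem_range.2 ha, rfl⟩

lemma mem_AE2 (b a : ℕ) (hb2 : 2 ≤ b) (hbn : b < n) (ha : a ≤ 1) : aE n b a ∈ AE2 n :=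
  Finset.mem_image.2 ⟨(b, a), Finset.mem_product.2
    ⟨Finset.mem_Ico.2 ⟨hb2, hbn⟩, Finset.mem_range.2 (by omega)⟩, rfl⟩

lemma mem_AF1 (a : ℕ) (ha : a ≤ 1) : aF n (1 - a) n a a ∈ AF1 n :=
  Finset.mem_image.2 ⟨a, Finset.mem_range.2 (by omega), rfl⟩

lemma mem_AF2 (a i : ℕ) (ha : a ≤ 1) (hi2 : 2 ≤ i) (hin : i < n) :
    aF n (1 - a) n a i ∈ AF2 n :=
  Finset.mem_image.2 ⟨(a, i), Finset.mem_product.2
    ⟨Finset.mem_range.2 (by omega), Finset.mem_Ico.2 ⟨hi2, hin⟩⟩, rfl⟩

/-- unfold and decide, at the goal only -/
macro "ev1" : tactic =>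
  `(tactic| (simp only [HilbFrame.Gv, HilbFrame.Lv, mz, aE, aF, Fin.val_mk, ↓reduceIte]; omega))

lemma complete (hn : 3 ≤ n) (α : Fin (n + 1) → ℤ) (hsum : ∑ l, α l = 0) (p : Fin 2 × Fin n)
    (hout : Out n (Gv (mz n) α p))
    (hlink : ∀ t, Out n (Lv (mz n) α p t) → Out n (Gv (mz n) α t)) : α ∈ Aall n := by
  have hp1 := p.1.2
  have hp2 := p.2.2
  obtain ⟨l0, hl0⟩ : ∃ l : Fin (n + 1), l.val = 0 := ⟨⟨0, by omega⟩, rfl⟩
  obtain ⟨l1, hl1⟩ : ∃ l : Fin (n + 1), l.val = 1 := ⟨⟨1, by omega⟩, rfl⟩
  obtain ⟨l2, hl2⟩ : ∃ l : Fin (n + 1), l.val = 2 := ⟨⟨2, by omega⟩, rfl⟩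
  obtain ⟨la, hla⟩ : ∃ l : Fin (n + 1), l.val = p.1.val := ⟨⟨p.1.val, by omega⟩, rfl⟩
  obtain ⟨li, hli⟩ : ∃ l : Fin (n + 1), l.val = p.2.val := ⟨⟨p.2.val, by omega⟩, rfl⟩
  have hγ : ∀ l, Gv (mz n) α p l =
      (if l.val = p.1.val then 1 else 0) + (if l.val = p.2.val then 1 else 0) + α l :=
    fun l => rfl
  have hs : ∑ l, Gv (mz n) α p l = 2 := by
    simp only [hγ]
    rw [Finset.sum_add_distrib, Finset.sum_add_distrib, HilbPP.sum_ind n p.1.val (by omega),
      HilbPP.sum_ind n p.2.val (by omega), hsum]
    norm_num
  obtain ⟨hpos, h2⟩ := hout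
  obtain ⟨h2, h3⟩ := h2 l0 l1 hl0 hl1
  have hp0 := hpos l0
  have hp1' := hpos l1
  unfold Aall
  simp only [Finset.mem_union]
  by_cases hc : Gv (mz n) α p l0 + Gv (mz n) α p l1 = 0
  · -- no `x_0`, `x_1` in the target monomial
    have hc0 : Gv (mz n) α p l0 = 0 := by omega
    have hc1 : Gv (mz n) α p l1 = 0 := by omega
    by_cases hgi : 1 ≤ Gv (mz n) α p li
    · obtain ⟨c, hcc⟩ := HilbPP.exists_single n
        (fun l => Gv (mz n) α p l - (if l.val = p.2.val then 1 else 0)) (by
          intro l
          beta_reduce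
          by_cases hl : l.val = p.2.val
          · obtain rfl : l = li := Fin.ext (by omega)
            rw [if_pos hl]
            omega
          · rw [if_neg hl]
            have := hpos l
            omega) (by
          rw [Finset.sum_sub_distrib, hs, HilbPP.sum_ind n p.2.val (by omega)]
          norm_num)
      beta_reduce at hcc
      have hi2 : 2 ≤ p.2.val := by
        by_contra hlt
        have : li = l0 ∨ li = l1 := by
          by_cases h : p.2.val = 0
          · left; exact Fin.ext (by omega)
          · right; exact Fin.ext (by omega)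
        rcases this with h | h <;> rw [h] at hgi <;> omega
      have hc2 : 2 ≤ c.val := by
        by_contra hlt
        have : c = l0 ∨ c = l1 := by
          by_cases h : c.val = 0
          · left; exact Fin.ext (by omega)
          · right; exact Fin.ext (by omega)
        rcases this with h | h
        · have := hcc l0
          rw [if_neg (by omega), if_pos (by rw [h])] at this
          omega
        · have := hcc l1
          rw [if_neg (by omega), if_pos (by rw [h])] at this
          omega
      have hα : α = aE n c.val p.1.val := by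
        funext l
        have e1 := hcc l
        have e2 := hγ l
        simp only [aE]
        omega
      have hcn := c.2
      by_cases hcn' : c.val = n
      · left; left; left
        rw [hα, hcn']
        exact mem_AE1 n _ (by omega)
      · left; left; right
        rw [hα]
        exact mem_AE2 n _ _ hc2 (by omega) (by omega)
    · exfalso
      have hgi0 : Gv (mz n) α p li = 0 := by
        have := hpos li
        omega
      by_cases hcase : p.2.val = 2 ∧ n = 3
      · -- link to `x_{1-a} x_2`
        obtain ⟨t, ht1, ht2⟩ : ∃ t : Fin 2 × Fin n, t.1.val = 1 - p.1.val ∧ t.2.val = 2 :=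
          ⟨(⟨1 - p.1.val, by omega⟩, ⟨2, by omega⟩), rfl, rfl⟩
        have hL : Out n (Lv (mz n) α p t) := by
          refine out_of' n l0 l1 hl0 hl1 (fun l => ?_) ?_ (fun l' h1' h2' => ?_)
          · have := hpos l
            rw [hγ] at this
            ev1
          · rw [hγ] at hc0 hc1
            ev1
          · right
            obtain rfl : l' = li := Fin.ext (by omega)
            rw [hγ] at hgi0
            ev1
        have := (hlink t hL).1 la
        have hγa : Gv (mz n) α p la = 0 := by
          have : la = l0 ∨ la = l1 := by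
            by_cases h : la.val = 0
            · left; exact Fin.ext (by omega)
            · right; exact Fin.ext (by omega)
          rcases this with h | h <;> rw [h] <;> assumption
        rw [hγ] at hγa
        revert this
        ev1
      · -- link to `x_a x_t'`
        obtain ⟨t, ht1, ht2, ht3, ht4⟩ : ∃ t : Fin 2 × Fin n, t.1.val = p.1.val ∧ 2 ≤ t.2.val ∧
            t.2.val ≠ p.2.val ∧ t.2.val ≤ 3 := by
          by_cases h2 : p.2.val = 2
          · exact ⟨(p.1, ⟨3, by omega⟩), rfl, by simp, by simp; omega, by simp⟩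
          · exact ⟨(p.1, ⟨2, by omega⟩), rfl, by simp, by simp; omega, by simp⟩
        have hL : Out n (Lv (mz n) α p t) := by
          refine out_of' n l0 l1 hl0 hl1 (fun l => ?_) ?_ (fun l' h1' h2' => ?_)
          · have := hpos l
            rw [hγ] at this
            ev1
          · rw [hγ] at hc0 hc1
            ev1
          · left
            rw [hγ] at hc0 hc1
            ev1
        have := (hlink t hL).1 li
        rw [hγ] at hgi0
        revert this
        ev1
  · -- the target monomial is `x_b x_n` with `b ≤ 1`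
    have hmid : ∀ l' : Fin (n + 1), 2 ≤ l'.val → l'.val < n → Gv (mz n) α p l' = 0 := by
      intro l' h1' h2'
      rcases h3 l' h1' h2' with h | h
      · exact absurd h hc
      · exact h
    obtain ⟨lb, hlb, hgb⟩ : ∃ lb : Fin (n + 1), lb.val ≤ 1 ∧ Gv (mz n) α p lb = 1 := by
      by_cases h : Gv (mz n) α p l0 = 1
      · exact ⟨l0, by omega, h⟩
      · exact ⟨l1, by omega, by omega⟩
    obtain ⟨c, hcc⟩ := HilbPP.exists_single n
      (fun l => Gv (mz n) α p l - (if l.val = lb.val then 1 else 0)) (by
        intro l
        beta_reduce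
        by_cases hl : l.val = lb.val
        · obtain rfl : l = lb := Fin.ext (by omega)
          rw [if_pos hl]
          omega
        · rw [if_neg hl]
          have := hpos l
          omega) (by
        rw [Finset.sum_sub_distrib, hs, HilbPP.sum_ind n lb.val (by omega)]
        norm_num)
    beta_reduce at hcc
    have hcn : c.val = n := by
      have hc' := hcc c
      rw [if_pos rfl] at hc'
      have := c.2
      by_contra hne
      by_cases hc2 : 2 ≤ c.val
      · have := hmid c hc2 (by omega)
        omega
      · have : c = l0 ∨ c = l1 := by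
          by_cases h : c.val = 0
          · left; exact Fin.ext (by omega)
          · right; exact Fin.ext (by omega)
        have hlb' : lb = l0 ∨ lb = l1 := by
          by_cases h : lb.val = 0
          · left; exact Fin.ext (by omega)
          · right; exact Fin.ext (by omega)
        rcases this with h | h <;> rcases hlb' with h' | h' <;> subst h <;> subst h' <;> omega
    have hα : α = aF n lb.val n p.1.val p.2.val := by
      funext l
      have e1 := hcc l
      have e2 := hγ l
      simp only [aF]
      omega
    by_cases hba : lb.val = p.1.val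
    · left; left; left
      have : α = aE n n p.2.val := by
        rw [hα]
        funext l
        simp only [aF, aE]
        omega
      rw [this]
      exact mem_AE1 n _ hp2
    · have hb' : lb.val = 1 - p.1.val := by omega
      rw [hb'] at hα
      by_cases hi1 : p.2.val ≤ 1
      · by_cases hia : p.2.val = p.1.val
        · left; right
          rw [hα, hia]
          exact mem_AF1 n _ (by omega)
        · left; left; left
          have : α = aE n n p.1.val := by
            rw [hα]
            funext l
            simp only [aF, aE]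
            omega
          rw [this]
          exact mem_AE1 n _ (by omega)
      · right
        rw [hα]
        exact mem_AF2 n _ _ (by omega) (by omega) hp2

theorem hbot (k : Type*) [Field k] (hn : 3 ≤ n) (α : Fin (n + 1) → ℤ) (hsum : ∑ l, α l = 0)
    (hnot : α ∉ Aall n) : ∀ c ∈ V k (m n) α, c = 0 := by
  apply V_eq_zero k (isFrame n (by omega))
  intro i
  by_contra hk
  push Not at hk
  obtain ⟨h1, h2⟩ := hk
  exact hnot (complete n hn α hsum i h1 h2)

end Groth.Agent.Helper20.HilbQA
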