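import Mathlib
import Groth.Prelude.Def_W4c1hilbpnTgt
import Groth.Agent.Lib.Helper25.HilbTgt
import Groth.Agent.Lib.Helper20.HilbGen
import Groth.Agent.Lib.Helper20.HilbFrame
import Groth.Agent.Lib.Helper20.HilbPP5
import Groth.Agent.Lib.Helper20.HilbQA1
import Groth.Agent.Lib.Helper20.HilbQA2
import Groth.Agent.Lib.Helper20.HilbQA3

/-!
The ideal `(x_0, x_1)·(x_0, …, x_{n-1})`: the dimension of the degree-0 part of `Hom(I, S/I)`
(helper20).
-/

set_option autoImplicit false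

namespace Groth.Agent.Helper20.HilbQA

open MvPolynomial W4c1hilbpn Groth.Agent.Helper25.HilbTgt Groth.Agent.Helper20.HilbGen
  Groth.Agent.Helper20.HilbFrame

variable (n : ℕ)

lemma sum_AE1 (k : Type*) [Field k] (hn : 3 ≤ n) :
    ∑ α ∈ AE1 n, Module.finrank k (V k (m n) α) = 2 * n + 2 := by
  unfold AE1
  rw [Finset.sum_image]
  · have : ∀ a ∈ Finset.range n, Module.finrank k (V k (m n) (aE n n a)) =
        2 + (if a ≤ 1 then 1 else 0) := by
      intro a ha
      rw [Finset.mem_range] at ha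
      by_cases h1 : a ≤ 1
      · rw [finrank_P1 n k hn a h1, if_pos h1]
      · rw [finrank_P5 n k hn a (by omega) ha, if_neg h1]
    have e : ∑ a ∈ Finset.range n, (if a ≤ 1 then 1 else 0) = 2 := by
      rw [Finset.sum_boole]
      have : (Finset.range n).filter (fun a => a ≤ 1) = Finset.range 2 := by
        ext a
        simp only [Finset.mem_filter, Finset.mem_range]
        omega
      rw [this]
      simp
    rw [Finset.sum_congr rfl this, Finset.sum_add_distrib, Finset.sum_const, Finset.card_range,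
      smul_eq_mul, e]
    ring
  · intro a ha a' ha' h
    have ha1 := Finset.mem_range.1 (Finset.mem_coe.1 ha)
    have ha1' := Finset.mem_range.1 (Finset.mem_coe.1 ha')
    obtain ⟨l, hl⟩ : ∃ l : Fin (n + 1), l.val = a := ⟨⟨a, by omega⟩, rfl⟩
    have := congrFun h l
    simp only [aE] at this
    omega

lemma sum_AE2 (k : Type*) [Field k] (hn : 3 ≤ n) :
    ∑ α ∈ AE2 n, Module.finrank k (V k (m n) α) = 2 * (n - 2) := by
  unfold AE2
  rw [Finset.sum_image]
  · have : ∀ x ∈ Finset.Ico 2 n ×ˢ Finset.range 2,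
        Module.finrank k (V k (m n) (aE n x.1 x.2)) = 1 := by
      intro x hx
      rw [Finset.mem_product, Finset.mem_Ico, Finset.mem_range] at hx
      exact finrank_P2 n k hn x.2 x.1 (by omega) hx.1.1 hx.1.2
    rw [Finset.sum_congr rfl this, Finset.sum_const, Finset.card_product, Nat.card_Ico,
      Finset.card_range, smul_eq_mul, mul_one, mul_comm]
  · intro x hx x' hx' h
    have hx1 := Finset.mem_product.1 (Finset.mem_coe.1 hx)
    have hx1' := Finset.mem_product.1 (Finset.mem_coe.1 hx')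
    rw [Finset.mem_Ico, Finset.mem_range] at hx1 hx1'
    obtain ⟨lb, hlb⟩ : ∃ l : Fin (n + 1), l.val = x.1 := ⟨⟨x.1, by omega⟩, rfl⟩
    obtain ⟨la, hla⟩ : ∃ l : Fin (n + 1), l.val = x.2 := ⟨⟨x.2, by omega⟩, rfl⟩
    have e1 := congrFun h lb
    have e2 := congrFun h la
    simp only [aE] at e1 e2
    apply Prod.ext <;> omega

lemma sum_AF1 (k : Type*) [Field k] (hn : 3 ≤ n) :
    ∑ α ∈ AF1 n, Module.finrank k (V k (m n) α) = 2 := by
  unfold AF1
  rw [Finset.sum_image]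
  · have : ∀ a ∈ Finset.range 2, Module.finrank k (V k (m n) (aF n (1 - a) n a a)) = 1 := by
      intro a ha
      rw [Finset.mem_range] at ha
      exact finrank_P3 n k hn a a (by omega) (Or.inl rfl)
    rw [Finset.sum_congr rfl this, Finset.sum_const, Finset.card_range, smul_eq_mul]
  · intro a ha a' ha' h
    have ha1 := Finset.mem_range.1 (Finset.mem_coe.1 ha)
    have ha1' := Finset.mem_range.1 (Finset.mem_coe.1 ha')
    obtain ⟨l, hl⟩ : ∃ l : Fin (n + 1), l.val = a := ⟨⟨a, by omega⟩, rfl⟩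
    have := congrFun h l
    simp only [aF] at this
    omega

lemma sum_AF2 (k : Type*) [Field k] (hn : 3 ≤ n) :
    ∑ α ∈ AF2 n, Module.finrank k (V k (m n) α) = 2 * (n - 2) := by
  unfold AF2
  rw [Finset.sum_image]
  · have : ∀ x ∈ Finset.range 2 ×ˢ Finset.Ico 2 n,
        Module.finrank k (V k (m n) (aF n (1 - x.1) n x.1 x.2)) = 1 := by
      intro x hx
      rw [Finset.mem_product, Finset.mem_Ico, Finset.mem_range] at hx
      exact finrank_P3 n k hn x.1 x.2 (by omega) (Or.inr ⟨hx.2.1, hx.2.2⟩)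
    rw [Finset.sum_congr rfl this, Finset.sum_const, Finset.card_product, Nat.card_Ico,
      Finset.card_range, smul_eq_mul, mul_one]
  · intro x hx x' hx' h
    have hx1 := Finset.mem_product.1 (Finset.mem_coe.1 hx)
    have hx1' := Finset.mem_product.1 (Finset.mem_coe.1 hx')
    rw [Finset.mem_Ico, Finset.mem_range] at hx1 hx1'
    obtain ⟨la, hla⟩ : ∃ l : Fin (n + 1), l.val = x.1 := ⟨⟨x.1, by omega⟩, rfl⟩
    obtain ⟨li, hli⟩ : ∃ l : Fin (n + 1), l.val = x.2 := ⟨⟨x.2, by omega⟩, rfl⟩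
    have e1 := congrFun h la
    have e2 := congrFun h li
    simp only [aF] at e1 e2
    apply Prod.ext <;> omega

lemma AE1_prop {α : Fin (n + 1) → ℤ} (hα : α ∈ AE1 n) (hn : 3 ≤ n) (l0 l1 ln : Fin (n + 1))
    (hl0 : l0.val = 0) (hl1 : l1.val = 1) (hln : ln.val = n) :
    α ln = 1 ∧ (∀ l, -1 ≤ α l) ∧ α l0 ≤ 0 ∧ α l1 ≤ 0 := by
  rw [AE1, Finset.mem_image] at hα
  obtain ⟨a, ha, rfl⟩ := hα
  rw [Finset.mem_range] at ha
  refine ⟨?_, fun l => ?_, ?_, ?_⟩
  · simp only [aE]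
    omega
  · simp only [aE]
    omega
  · simp only [aE]
    omega
  · simp only [aE]
    omega

lemma AE2_prop {α : Fin (n + 1) → ℤ} (hα : α ∈ AE2 n) (ln : Fin (n + 1)) (hln : ln.val = n) :
    α ln = 0 ∧ ∀ l, -1 ≤ α l := by
  rw [AE2, Finset.mem_image] at hα
  obtain ⟨x, hx, rfl⟩ := hα
  rw [Finset.mem_product, Finset.mem_Ico, Finset.mem_range] at hx
  refine ⟨?_, fun l => ?_⟩ <;> simp only [aE] <;> omega

lemma AF1_prop {α : Fin (n + 1) → ℤ} (hα : α ∈ AF1 n) (hn : 3 ≤ n) : ∃ l, α l = -2 := by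
  rw [AF1, Finset.mem_image] at hα
  obtain ⟨a, ha, rfl⟩ := hα
  rw [Finset.mem_range] at ha
  refine ⟨⟨a, by omega⟩, ?_⟩
  simp only [aF, Fin.val_mk, ↓reduceIte]
  omega

lemma AF2_prop {α : Fin (n + 1) → ℤ} (hα : α ∈ AF2 n) (l0 l1 ln : Fin (n + 1))
    (hl0 : l0.val = 0) (hl1 : l1.val = 1) (hln : ln.val = n) :
    α ln = 1 ∧ (∀ l, -1 ≤ α l) ∧ (α l0 = 1 ∨ α l1 = 1) := by
  rw [AF2, Finset.mem_image] at hα
  obtain ⟨x, hx, rfl⟩ := hα
  rw [Finset.mem_product, Finset.mem_Ico, Finset.mem_range] at hx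
  refine ⟨?_, fun l => ?_, ?_⟩ <;> simp only [aF] <;> omega

lemma sum_aE (b a : ℕ) (hb : b ≤ n) (ha : a ≤ n) : ∑ l, aE n b a l = 0 := by
  simp only [aE]
  rw [Finset.sum_sub_distrib, HilbPP.sum_ind n b hb, HilbPP.sum_ind n a ha, sub_self]

lemma sum_aF (b c a i : ℕ) (hb : b ≤ n) (hc : c ≤ n) (ha : a ≤ n) (hi : i ≤ n) :
    ∑ l, aF n b c a i l = 0 := by
  simp only [aF]
  rw [Finset.sum_sub_distrib, Finset.sum_sub_distrib, Finset.sum_add_distrib,
    HilbPP.sum_ind n b hb, HilbPP.sum_ind n c hc, HilbPP.sum_ind n a ha, HilbPP.sum_ind n i hi]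
  ring

theorem Aall_sum (hn : 3 ≤ n) : ∀ α ∈ Aall n, ∑ l, α l = 0 := by
  intro α hα
  unfold Aall at hα
  simp only [Finset.mem_union] at hα
  rcases hα with ((h | h) | h) | h
  · rw [AE1, Finset.mem_image] at h
    obtain ⟨a, ha, rfl⟩ := h
    rw [Finset.mem_range] at ha
    exact sum_aE n n a (le_refl n) (by omega)
  · rw [AE2, Finset.mem_image] at h
    obtain ⟨x, hx, rfl⟩ := h
    rw [Finset.mem_product, Finset.mem_Ico, Finset.mem_range] at hx
    exact sum_aE n _ _ (by omega) (by omega)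
  · rw [AF1, Finset.mem_image] at h
    obtain ⟨a, ha, rfl⟩ := h
    rw [Finset.mem_range] at ha
    exact sum_aF n _ _ _ _ (by omega) (le_refl n) (by omega) (by omega)
  · rw [AF2, Finset.mem_image] at h
    obtain ⟨x, hx, rfl⟩ := h
    rw [Finset.mem_product, Finset.mem_Ico, Finset.mem_range] at hx
    exact sum_aF n _ _ _ _ (by omega) (le_refl n) (by omega) (by omega)

theorem total (k : Type*) [Field k] (hn : 3 ≤ n) :
    ∑ α ∈ Aall n, Module.finrank k (V k (m n) α) = 6 * n - 4 := by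
  obtain ⟨l0, hl0⟩ : ∃ l : Fin (n + 1), l.val = 0 := ⟨⟨0, by omega⟩, rfl⟩
  obtain ⟨l1, hl1⟩ : ∃ l : Fin (n + 1), l.val = 1 := ⟨⟨1, by omega⟩, rfl⟩
  obtain ⟨ln, hln⟩ : ∃ l : Fin (n + 1), l.val = n := ⟨⟨n, by omega⟩, rfl⟩
  have d1 : Disjoint (AE1 n) (AE2 n) := by
    rw [Finset.disjoint_left]
    intro α h1 h2
    have := (AE1_prop n h1 hn l0 l1 ln hl0 hl1 hln).1
    have := (AE2_prop n h2 ln hln).1
    omega
  have d2 : Disjoint (AE1 n ∪ AE2 n) (AF1 n) := by
    rw [Finset.disjoint_left]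
    intro α h h3
    obtain ⟨l, hl⟩ := AF1_prop n h3 hn
    rcases Finset.mem_union.1 h with h1 | h2
    · have := (AE1_prop n h1 hn l0 l1 ln hl0 hl1 hln).2.1 l
      omega
    · have := (AE2_prop n h2 ln hln).2 l
      omega
  have d3 : Disjoint (AE1 n ∪ AE2 n ∪ AF1 n) (AF2 n) := by
    rw [Finset.disjoint_left]
    intro α h h4
    obtain ⟨f1, f2, f3⟩ := AF2_prop n h4 l0 l1 ln hl0 hl1 hln
    rcases Finset.mem_union.1 h with h | h3
    · rcases Finset.mem_union.1 h with h1 | h2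
      · have := AE1_prop n h1 hn l0 l1 ln hl0 hl1 hln
        omega
      · have := (AE2_prop n h2 ln hln).1
        omega
    · obtain ⟨l, hl⟩ := AF1_prop n h3 hn
      have := f2 l
      omega
  unfold Aall
  rw [Finset.sum_union d3, Finset.sum_union d2, Finset.sum_union d1, sum_AE1 n k hn,
    sum_AE2 n k hn, sum_AF1 n k hn, sum_AF2 n k hn]
  omega

/-- the dimension of the degree-0 part of `Hom(I, S/I)` for `I = (x_0, x_1)(x_0..x_{n-1})` -/
theorem main (k : Type*) [Field k] (hn : 3 ≤ n) :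
    Module.finrank k ↥(⨆ α : {α : Fin (n + 1) → ℤ // ∑ i, α i = 0},
      tPiece (Ideal.span ({f : MvPolynomial (Fin (n + 1)) k | ∃ i : Fin (n + 1),
        i.val + 1 ≤ n ∧ f = X 0 * X i} ∪ {f : MvPolynomial (Fin (n + 1)) k |
        ∃ i : Fin (n + 1), 1 ≤ i.val ∧ i.val ≤ n - 1 ∧ f = X 1 * X i})) α.1) = 6 * n - 4 := by
  rw [ideal_eq n k (by omega)]
  have := finrank_iSup_tPiece k (m n) (Aall n) (fun α => ∑ i, α i = 0)
    (Aall_sum n hn) (fun α hα hnot => hbot n k hn α hα hnot)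
  rw [this]
  exact total n k hn

end Groth.Agent.Helper20.HilbQA
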