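import Mathlib
import Groth.Prelude.Def_W4c1hilbpnTgt
import Groth.Agent.Lib.Helper25.HilbTgt
import Groth.Agent.Lib.Helper20.HilbGen
import Groth.Agent.Lib.Helper20.HilbFrame
import Groth.Agent.Lib.Helper20.HilbFrame2
import Groth.Agent.Lib.Helper20.HilbPP5
import Groth.Agent.Lib.Helper20.HilbQA2
import Groth.Agent.Lib.Helper20.HilbQA4
import Groth.Agent.Lib.Helper20.HilbPL1

/-!
The ideal `(x_0, …, x_{c-1})·(x_{n+1-d}, …, x_n)`: the nonzero pieces of total degree `0` and the
dimension of the degree-0 part of `Hom(I, S/I)` (helper20).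
-/

set_option autoImplicit false

namespace Groth.Agent.Helper20.HilbPL

open MvPolynomial W4c1hilbpn Groth.Agent.Helper25.HilbTgt Groth.Agent.Helper20.HilbGen
  Groth.Agent.Helper20.HilbFrame

variable (n c d : ℕ)

/-- unfold and decide, at the goal only -/
macro "evl1" : tactic =>
  `(tactic| (simp only [HilbFrame.Gv, HilbFrame.Lv, mz, HilbQA.aE, Fin.val_mk, ↓reduceIte]; omega))

/-- unfold and decide -/
macro "evl" : tactic =>
  `(tactic| (simp only [HilbFrame.Gv, HilbFrame.Lv, mz, HilbQA.aE, Fin.val_mk,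
    ↓reduceIte] at *; omega))

/-- the code selecting the generators containing `x_a` -/
def czL (a : ℕ) (p : Fin c × Fin d) : ℤ :=
  if p.1.val = a ∨ n + 1 + p.2.val = a + d then 1 else 0

theorem finrank_PL (k : Type*) [Field k] (hc : 2 ≤ c) (hd : 2 ≤ d) (hcd : c + d ≤ n) (a b : ℕ)
    (h : (a < c ∧ c ≤ b ∧ b ≤ n) ∨ (n + 1 ≤ a + d ∧ a ≤ n ∧ b + d ≤ n)) :
    Module.finrank k (V k (m n c d) (HilbQA.aE n b a)) = 1 := by
  obtain ⟨la, hla⟩ : ∃ l : Fin (n + 1), l.val = a := ⟨⟨a, by omega⟩, rfl⟩
  have hF := isFrame n c d (by omega) (by omega) hcd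
  obtain ⟨g1, hg1⟩ : ∃ g : Fin c × Fin d, czL n c d a g = 1 := by
    rcases h with h | h
    · refine ⟨(⟨a, h.1⟩, ⟨0, by omega⟩), ?_⟩
      simp only [czL, Fin.val_mk]
      rw [if_pos (Or.inl trivial)]
    · refine ⟨(⟨0, by omega⟩, ⟨a + d - (n + 1), by omega⟩), ?_⟩
      simp only [czL, Fin.val_mk]
      rw [if_pos (Or.inr (by omega))]
  have hg1' : g1.1.val = a ∨ n + 1 + g1.2.val = a + d := by
    by_contra hcon
    simp only [czL] at hg1
    rw [if_neg hcon] at hg1
    omega
  have hg11 := g1.1.2
  have hg12 := g1.2.2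
  have hdead : ∀ p, czL n c d a p = 0 → ¬ Out n c d (Gv (mz n c d) (HilbQA.aE n b a) p) := by
    intro p hp ho
    have hp1 := p.1.2
    have hp2 := p.2.2
    have g0 := ho.1 la
    clear ho
    simp only [czL] at hp
    evl
  have halive : ∀ p p' : Fin c × Fin d, czL n c d a p = 1 → czL n c d a p' = 1 →
      Out n c d (Lv (mz n c d) (HilbQA.aE n b a) p p') := by
    intro p p' hp hp'
    have hp1 := p.1.2
    have hp2 := p.2.2
    have hp1' := p'.1.2
    have hp2' := p'.2.2
    simp only [czL] at hp hp'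
    refine ⟨fun l => ?_, ?_⟩
    · evl1
    · rcases h with h | h
      · left
        intro l hl
        evl1
      · right
        intro l hl
        evl1
  apply finrank_V_code1 k hF _ (czL n c d a) g1 hg1
  · intro g hg
    exact Or.inl (hdead g hg)
  · intro p hp
    right
    exact halive p g1 hp hg1
  · intro p hnot
    by_contra hne
    apply hnot
    have hp : czL n c d a p = 1 := by
      simp only [czL] at hne ⊢
      omega
    have := halive p p hp hp
    have e : Lv (mz n c d) (HilbQA.aE n b a) p p = Gv (mz n c d) (HilbQA.aE n b a) p := by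
      funext l
      simp only [HilbFrame.Lv, HilbFrame.Gv, max_self]
    rw [e] at this
    exact this
  · have key : ∀ p p' : Fin c × Fin d, czL n c d a p = 1 → czL n c d a p' = 0 →
        ¬ Out n c d (Lv (mz n c d) (HilbQA.aE n b a) p p') := by
      intro p p' hp hp'
      have hp1 := p.1.2
      have hp2 := p.2.2
      have hp1' := p'.1.2
      have hp2' := p'.2.2
      simp only [czL] at hp hp'
      exact not_out_of_ge hF p' (fun l => by evl1)
    have h01 : ∀ p, czL n c d a p = 0 ∨ czL n c d a p = 1 := by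
      intro p
      simp only [czL]
      omega
    intro p p' ho
    rcases h01 p with h | h <;> rcases h01 p' with h' | h'
    · rw [h, h']
    · rw [Lv_comm] at ho
      exact absurd ho (key p' p h' h)
    · exact absurd ho (key p p' h h')
    · rw [h, h']
  · intro p
    simp only [czL]
    omega

/-- the multidegrees `e_b - e_a`, `a < c ≤ b` -/
noncomputable def AI : Finset (Fin (n + 1) → ℤ) :=
  (Finset.range c ×ˢ Finset.Icc c n).image (fun x => HilbQA.aE n x.2 x.1)
/-- the multidegrees `e_b - e_a`, `b ≤ n - d < a` -/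
noncomputable def AII : Finset (Fin (n + 1) → ℤ) :=
  (Finset.Icc (n + 1 - d) n ×ˢ Finset.range (n + 1 - d)).image (fun x => HilbQA.aE n x.2 x.1)

/-- all the multidegrees of nonzero pieces -/
noncomputable def Lall : Finset (Fin (n + 1) → ℤ) := AI n c ∪ AII n d

lemma mem_AI (a b : ℕ) (ha : a < c) (hb : c ≤ b) (hbn : b ≤ n) :
    HilbQA.aE n b a ∈ Lall n c d := by
  unfold Lall
  rw [Finset.mem_union]
  left
  exact Finset.mem_image.2 ⟨(a, b), Finset.mem_product.2
    ⟨Finset.mem_range.2 ha, Finset.mem_Icc.2 ⟨hb, hbn⟩⟩, rfl⟩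

lemma mem_AII (a b : ℕ) (ha : n + 1 ≤ a + d) (han : a ≤ n) (hb : b + d ≤ n) :
    HilbQA.aE n b a ∈ Lall n c d := by
  unfold Lall
  rw [Finset.mem_union]
  right
  exact Finset.mem_image.2 ⟨(a, b), Finset.mem_product.2
    ⟨Finset.mem_Icc.2 ⟨by omega, han⟩, Finset.mem_range.2 (by omega)⟩, rfl⟩

lemma complete (hc : 2 ≤ c) (hd : 2 ≤ d) (hcd : c + d ≤ n) (α : Fin (n + 1) → ℤ)
    (hsum : ∑ l, α l = 0) (p : Fin c × Fin d)
    (hout : Out n c d (Gv (mz n c d) α p))
    (hlink : ∀ t, Out n c d (Lv (mz n c d) α p t) → Out n c d (Gv (mz n c d) α t)) :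
    α ∈ Lall n c d := by
  have hp1 := p.1.2
  have hp2 := p.2.2
  obtain ⟨li, hli⟩ : ∃ l : Fin (n + 1), l.val = p.1.val := ⟨⟨p.1.val, by omega⟩, rfl⟩
  obtain ⟨lj, hlj⟩ : ∃ l : Fin (n + 1), l.val + d = n + 1 + p.2.val :=
    ⟨⟨n + 1 + p.2.val - d, by omega⟩, by show n + 1 + p.2.val - d + d = n + 1 + p.2.val; omega⟩
  have hγ : ∀ l, Gv (mz n c d) α p l = (if l.val = p.1.val then 1 else 0) +
      (if l.val + d = n + 1 + p.2.val then 1 else 0) + α l := fun l => rfl
  have e2 : ∀ l : Fin (n + 1), (l.val + d = n + 1 + p.2.val) = (l.val = lj.val) := by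
    intro l
    apply propext
    constructor <;> intro h <;> omega
  have hs : ∑ l, Gv (mz n c d) α p l = 2 := by
    simp only [hγ, e2]
    rw [Finset.sum_add_distrib, Finset.sum_add_distrib, HilbPP.sum_ind n p.1.val (by omega),
      HilbPP.sum_ind n lj.val (by have := lj.2; omega), hsum]
    norm_num
  obtain ⟨hpos, hz⟩ := hout
  rcases hz with hFz | hSz
  · -- no variable of the first block in the target
    by_cases hg : 1 ≤ Gv (mz n c d) α p lj
    · obtain ⟨b, hbb⟩ := HilbPP.exists_single n
        (fun l => Gv (mz n c d) α p l - (if l.val = lj.val then 1 else 0)) (by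
          intro l
          beta_reduce
          by_cases hl : l.val = lj.val
          · obtain rfl : l = lj := Fin.ext hl
            rw [if_pos rfl]
            omega
          · rw [if_neg hl]
            have := hpos l
            omega) (by
          rw [Finset.sum_sub_distrib, hs, HilbPP.sum_ind n lj.val (by have := lj.2; omega)]
          norm_num)
      beta_reduce at hbb
      have hbc : c ≤ b.val := by
        by_contra hlt
        have h1 := hbb b
        have h2 := hFz b (by omega)
        rw [if_pos rfl, if_neg (by omega)] at h1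
        omega
      have hbn := b.2
      have hα : α = HilbQA.aE n b.val p.1.val := by
        funext l
        have e1 := hbb l
        have e2 := hγ l
        simp only [HilbQA.aE]
        omega
      rw [hα]
      exact mem_AI n c d _ _ hp1 hbc (by omega)
    · exfalso
      have hg0 : Gv (mz n c d) α p lj = 0 := by
        have := hpos lj
        omega
      obtain ⟨j2, hj2⟩ : ∃ j2 : Fin d, j2.val ≠ p.2.val := by
        by_cases h0 : p.2.val = 0
        · exact ⟨⟨1, by omega⟩, by simp; omega⟩
        · exact ⟨⟨0, by omega⟩, by simp; omega⟩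
      have hj2' := j2.2
      have hL : Out n c d (Lv (mz n c d) α p (p.1, j2)) := by
        refine ⟨fun l => ?_, Or.inl (fun l hl => ?_)⟩
        · have := hpos l
          rw [hγ] at this
          evl1
        · have := hFz l hl
          rw [hγ] at this
          evl1
      have := (hlink _ hL).1 lj
      rw [hγ] at hg0
      revert this
      evl1
  · -- no variable of the second block in the target
    by_cases hg : 1 ≤ Gv (mz n c d) α p li
    · obtain ⟨b, hbb⟩ := HilbPP.exists_single n
        (fun l => Gv (mz n c d) α p l - (if l.val = li.val then 1 else 0)) (by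
          intro l
          beta_reduce
          by_cases hl : l.val = li.val
          · obtain rfl : l = li := Fin.ext hl
            rw [if_pos rfl]
            omega
          · rw [if_neg hl]
            have := hpos l
            omega) (by
          rw [Finset.sum_sub_distrib, hs, HilbPP.sum_ind n li.val (by omega)]
          norm_num)
      beta_reduce at hbb
      have hbc : b.val + d ≤ n := by
        by_contra hlt
        have h1 := hbb b
        have h2 := hSz b (by omega)
        rw [if_pos rfl, if_neg (by omega)] at h1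
        omega
      have hljn := lj.2
      have hα : α = HilbQA.aE n b.val lj.val := by
        funext l
        have e1 := hbb l
        have e2 := hγ l
        simp only [HilbQA.aE]
        omega
      rw [hα]
      exact mem_AII n c d _ _ (by omega) (by omega) hbc
    · exfalso
      have hg0 : Gv (mz n c d) α p li = 0 := by
        have := hpos li
        omega
      obtain ⟨i2, hi2⟩ : ∃ i2 : Fin c, i2.val ≠ p.1.val := by
        by_cases h0 : p.1.val = 0
        · exact ⟨⟨1, by omega⟩, by simp; omega⟩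
        · exact ⟨⟨0, by omega⟩, by simp; omega⟩
      have hi2' := i2.2
      have hL : Out n c d (Lv (mz n c d) α p (i2, p.2)) := by
        refine ⟨fun l => ?_, Or.inr (fun l hl => ?_)⟩
        · have := hpos l
          rw [hγ] at this
          evl1
        · have := hSz l hl
          rw [hγ] at this
          evl1
      have := (hlink _ hL).1 li
      rw [hγ] at hg0
      revert this
      evl1

theorem hbot (k : Type*) [Field k] (hc : 2 ≤ c) (hd : 2 ≤ d) (hcd : c + d ≤ n)
    (α : Fin (n + 1) → ℤ) (hsum : ∑ l, α l = 0)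
    (hnot : α ∉ Lall n c d) : ∀ x ∈ V k (m n c d) α, x = 0 := by
  apply V_eq_zero k (isFrame n c d (by omega) (by omega) hcd)
  intro g
  by_contra hk
  push Not at hk
  obtain ⟨h1, h2⟩ := hk
  exact hnot (complete n c d hc hd hcd α hsum g h1 h2)

lemma sum_AI (k : Type*) [Field k] (hc : 2 ≤ c) (hd : 2 ≤ d) (hcd : c + d ≤ n) :
    ∑ α ∈ AI n c, Module.finrank k (V k (m n c d) α) = c * (n - c + 1) := by
  unfold AI
  rw [Finset.sum_image]
  · have : ∀ x ∈ Finset.range c ×ˢ Finset.Icc c n,
        Module.finrank k (V k (m n c d) (HilbQA.aE n x.2 x.1)) = 1 := by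
      intro x hx
      rw [Finset.mem_product, Finset.mem_range, Finset.mem_Icc] at hx
      exact finrank_PL n c d k hc hd hcd x.1 x.2 (Or.inl ⟨hx.1, hx.2.1, hx.2.2⟩)
    rw [Finset.sum_congr rfl this, Finset.sum_const, Finset.card_product, Nat.card_Icc,
      Finset.card_range, smul_eq_mul, mul_one]
    have : n + 1 - c = n - c + 1 := by omega
    rw [this]
  · intro x hx x' hx' h
    have hx1 := Finset.mem_product.1 (Finset.mem_coe.1 hx)
    have hx1' := Finset.mem_product.1 (Finset.mem_coe.1 hx')
    rw [Finset.mem_range, Finset.mem_Icc] at hx1 hx1'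
    obtain ⟨la, hla⟩ : ∃ l : Fin (n + 1), l.val = x.1 := ⟨⟨x.1, by omega⟩, rfl⟩
    obtain ⟨lb, hlb⟩ : ∃ l : Fin (n + 1), l.val = x.2 := ⟨⟨x.2, by omega⟩, rfl⟩
    have e1 := congrFun h la
    have e2 := congrFun h lb
    simp only [HilbQA.aE] at e1 e2
    apply Prod.ext <;> omega

lemma sum_AII (k : Type*) [Field k] (hc : 2 ≤ c) (hd : 2 ≤ d) (hcd : c + d ≤ n) :
    ∑ α ∈ AII n d, Module.finrank k (V k (m n c d) α) = d * (n - d + 1) := by
  unfold AII
  rw [Finset.sum_image]
  · have : ∀ x ∈ Finset.Icc (n + 1 - d) n ×ˢ Finset.range (n + 1 - d),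
        Module.finrank k (V k (m n c d) (HilbQA.aE n x.2 x.1)) = 1 := by
      intro x hx
      rw [Finset.mem_product, Finset.mem_range, Finset.mem_Icc] at hx
      exact finrank_PL n c d k hc hd hcd x.1 x.2 (Or.inr ⟨by omega, by omega, by omega⟩)
    rw [Finset.sum_congr rfl this, Finset.sum_const, Finset.card_product, Nat.card_Icc,
      Finset.card_range, smul_eq_mul, mul_one]
    have e1 : n + 1 - (n + 1 - d) = d := by omega
    have e2 : n + 1 - d = n - d + 1 := by omega
    rw [e1, e2]
  · intro x hx x' hx' h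
    have hx1 := Finset.mem_product.1 (Finset.mem_coe.1 hx)
    have hx1' := Finset.mem_product.1 (Finset.mem_coe.1 hx')
    rw [Finset.mem_range, Finset.mem_Icc] at hx1 hx1'
    obtain ⟨la, hla⟩ : ∃ l : Fin (n + 1), l.val = x.1 := ⟨⟨x.1, by omega⟩, rfl⟩
    obtain ⟨lb, hlb⟩ : ∃ l : Fin (n + 1), l.val = x.2 := ⟨⟨x.2, by omega⟩, rfl⟩
    have e1 := congrFun h la
    have e2 := congrFun h lb
    simp only [HilbQA.aE] at e1 e2
    apply Prod.ext <;> omega

theorem Lall_sum (hcd : c + d ≤ n) : ∀ α ∈ Lall n c d, ∑ l, α l = 0 := by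
  intro α hα
  unfold Lall at hα
  rw [Finset.mem_union] at hα
  rcases hα with h | h
  · rw [AI, Finset.mem_image] at h
    obtain ⟨x, hx, rfl⟩ := h
    rw [Finset.mem_product, Finset.mem_range, Finset.mem_Icc] at hx
    exact HilbQA.sum_aE n _ _ (by omega) (by omega)
  · rw [AII, Finset.mem_image] at h
    obtain ⟨x, hx, rfl⟩ := h
    rw [Finset.mem_product, Finset.mem_range, Finset.mem_Icc] at hx
    exact HilbQA.sum_aE n _ _ (by omega) (by omega)

theorem total (k : Type*) [Field k] (hc : 2 ≤ c) (hd : 2 ≤ d) (hcd : c + d ≤ n) :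
    ∑ α ∈ Lall n c d, Module.finrank k (V k (m n c d) α) =
      c * (n - c + 1) + d * (n - d + 1) := by
  have d1 : Disjoint (AI n c) (AII n d) := by
    rw [Finset.disjoint_left]
    intro α h1 h2
    rw [AI, Finset.mem_image] at h1
    rw [AII, Finset.mem_image] at h2
    obtain ⟨x, hx, rfl⟩ := h1
    obtain ⟨y, hy, hxy⟩ := h2
    rw [Finset.mem_product, Finset.mem_range, Finset.mem_Icc] at hx hy
    obtain ⟨la, hla⟩ : ∃ l : Fin (n + 1), l.val = x.1 := ⟨⟨x.1, by omega⟩, rfl⟩
    have := congrFun hxy la
    simp only [HilbQA.aE] at this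
    omega
  unfold Lall
  rw [Finset.sum_union d1, sum_AI n c d k hc hd hcd, sum_AII n c d k hc hd hcd]

/-- the dimension of the degree-0 part of `Hom(I, S/I)` for the ideal of two disjoint linear
subspaces -/
theorem main (k : Type*) [Field k] (hc : 2 ≤ c) (hd : 2 ≤ d) (hcd : c + d ≤ n) :
    Module.finrank k ↥(⨆ α : {α : Fin (n + 1) → ℤ // ∑ i, α i = 0},
      tPiece (Ideal.span {f : MvPolynomial (Fin (n + 1)) k | ∃ i j : Fin (n + 1),
        i.val + 1 ≤ c ∧ n + 1 ≤ j.val + d ∧ f = X i * X j}) α.1) =
      c * (n - c + 1) + d * (n - d + 1) := by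
  rw [ideal_eq n c d k hcd]
  have := finrank_iSup_tPiece k (m n c d) (Lall n c d) (fun α => ∑ i, α i = 0)
    (Lall_sum n c d hcd) (fun α hα hnot => hbot n c d k hc hd hcd α hα hnot)
  rw [this]
  exact total n c d k hc hd hcd

end Groth.Agent.Helper20.HilbPL
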