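import Mathlib
import Groth.Prelude.Def_W4c1hilbpnTgt
import Groth.Agent.Lib.Helper25.HilbTgt
import Groth.Agent.Lib.Helper20.HilbGen
import Groth.Agent.Lib.Helper20.HilbPP1
import Groth.Agent.Lib.Helper20.HilbPP2
import Groth.Agent.Lib.Helper20.HilbPP3
import Groth.Agent.Lib.Helper20.HilbPP4
import Groth.Agent.Lib.Helper20.HilbPP5

/-!
The ideal `x_0·(x_0, …, x_{n-1}) + (x_1^q)`: the dimension of the degree-0 part of `Hom(I, S/I)`
(helper20).
-/

set_option autoImplicit false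

namespace Groth.Agent.Helper20.HilbPP

open MvPolynomial W4c1hilbpn Groth.Agent.Helper25.HilbTgt Groth.Agent.Helper20.HilbGen

variable (n q : ℕ)

lemma sum_A0 (k : Type*) [Field k] (hn : 3 ≤ n) (hq : 2 ≤ q) :
    ∑ α ∈ A0 n, Module.finrank k (V k (m n q) α) = n + 1 := by
  unfold A0
  rw [Finset.sum_image]
  · have : ∀ b ∈ Finset.Icc 1 n, Module.finrank k (V k (m n q) (aE n b 0)) =
        1 + (if b = n then 1 else 0) := by
      intro b hb
      rw [Finset.mem_Icc] at hb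
      rw [finrank_T0_aux n q k hn hq b hb.1 hb.2 _ rfl]
      split_ifs <;> rfl
    rw [Finset.sum_congr rfl this, Finset.sum_add_distrib, Finset.sum_const,
      Finset.sum_ite_eq_of_mem' _ _ _ (Finset.mem_Icc.2 ⟨by omega, le_refl n⟩), Nat.card_Icc,
      smul_eq_mul, mul_one]
    omega
  · intro b hb b' hb' h
    have hb1 := Finset.mem_Icc.1 (Finset.mem_coe.1 hb)
    obtain ⟨l, hl⟩ : ∃ l : Fin (n + 1), l.val = b := ⟨⟨b, by omega⟩, rfl⟩
    have := congrFun h l
    simp only [aE] at this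
    split_ifs at this <;> omega

lemma sum_A2 (k : Type*) [Field k] (hn : 3 ≤ n) (hq : 2 ≤ q) :
    ∑ α ∈ A2 n, Module.finrank k (V k (m n q) α) = n - 2 := by
  unfold A2
  rw [Finset.sum_image]
  · have : ∀ i ∈ Finset.Ico 2 n, Module.finrank k (V k (m n q) (aE n n i)) = 1 := by
      intro i hi
      rw [Finset.mem_Ico] at hi
      exact finrank_T2 n q k hn (by omega) ⟨i, by omega⟩ hi.1 hi.2
    rw [Finset.sum_congr rfl this, Finset.sum_const, Nat.card_Ico, smul_eq_mul, mul_one]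
  · intro i hi i' hi' h
    have hi1 := Finset.mem_Ico.1 (Finset.mem_coe.1 hi)
    obtain ⟨l, hl⟩ : ∃ l : Fin (n + 1), l.val = i := ⟨⟨i, by omega⟩, rfl⟩
    have := congrFun h l
    simp only [aE] at this
    split_ifs at this <;> omega

lemma sum_A1 (k : Type*) [Field k] (hn : 3 ≤ n) (hq : 2 ≤ q) :
    ∑ α ∈ A1 n q, Module.finrank k (V k (m n q) α) + 1 = (D n q).card := by
  unfold A1
  rw [Finset.sum_image]
  · rw [← sum_dimf n q hn hq]
    congr 1
    apply Finset.sum_congr rfl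
    intro ν hν
    exact finrank_T1 n q k hn hq ⇑ν ((mem_D n q).1 hν).1
  · intro ν hν ν' hν' h
    ext l
    have := congrFun h l
    simp only [aN] at this
    omega

lemma A0_coord {α : Fin (n + 1) → ℤ} (hα : α ∈ A0 n) (l0 : Fin (n + 1)) (hl0 : l0.val = 0) :
    α l0 = -1 := by
  rw [A0, Finset.mem_image] at hα
  obtain ⟨b, hb, rfl⟩ := hα
  rw [Finset.mem_Icc] at hb
  simp only [aE]
  split_ifs <;> omega

lemma A2_coord {α : Fin (n + 1) → ℤ} (hα : α ∈ A2 n) (l0 : Fin (n + 1)) (hl0 : l0.val = 0) :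
    α l0 = 0 := by
  rw [A2, Finset.mem_image] at hα
  obtain ⟨i, hi, rfl⟩ := hα
  rw [Finset.mem_Ico] at hi
  simp only [aE]
  split_ifs <;> omega

lemma A2_neg {α : Fin (n + 1) → ℤ} (hα : α ∈ A2 n) : ∃ l : Fin (n + 1), l.val ≠ 1 ∧ α l < 0 := by
  rw [A2, Finset.mem_image] at hα
  obtain ⟨i, hi, rfl⟩ := hα
  rw [Finset.mem_Ico] at hi
  obtain ⟨l, hl⟩ : ∃ l : Fin (n + 1), l.val = i := ⟨⟨i, by omega⟩, rfl⟩
  refine ⟨l, by omega, ?_⟩
  simp only [aE]
  split_ifs <;> omega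

lemma A1_coord {α : Fin (n + 1) → ℤ} (hα : α ∈ A1 n q) (l0 : Fin (n + 1)) (hl0 : l0.val = 0) :
    α l0 = 0 := by
  rw [A1, Finset.mem_image] at hα
  obtain ⟨ν, hν, rfl⟩ := hα
  rw [mem_D] at hν
  obtain rfl : l0 = 0 := Fin.ext (by rw [hl0, Fin.val_zero])
  simp only [aN]
  rw [hν.1, if_neg (by omega)]
  norm_num

lemma A1_nonneg {α : Fin (n + 1) → ℤ} (hα : α ∈ A1 n q) (l : Fin (n + 1)) (hl : l.val ≠ 1) :
    0 ≤ α l := by
  rw [A1, Finset.mem_image] at hα
  obtain ⟨ν, hν, rfl⟩ := hα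
  simp only [aN]
  rw [if_neg hl]
  omega

lemma sum_aE (b a : ℕ) (hb : b ≤ n) (ha : a ≤ n) : ∑ l, aE n b a l = 0 := by
  simp only [aE]
  rw [Finset.sum_sub_distrib, sum_ind n b hb, sum_ind n a ha, sub_self]

lemma sum_aN (ν : Fin (n + 1) →₀ ℕ) (hn : 1 ≤ n) (hν : ∑ l, ν l = q) :
    ∑ l, aN n q ⇑ν l = 0 := by
  simp only [aN]
  rw [Finset.sum_sub_distrib, sum_ind n 1 hn, ← Nat.cast_sum, hν, sub_self]

lemma sum_aP (hn : 2 ≤ n) : ∑ l, aP n q l = 0 := by
  simp only [aP]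
  rw [Finset.sum_sub_distrib, Finset.sum_add_distrib, sum_ind n 0 (by omega),
    sum_ind n n (le_refl n), sum_ind n 1 (by omega)]
  ring

theorem Aall_sum (hn : 3 ≤ n) : ∀ α ∈ Aall n q, ∑ l, α l = 0 := by
  intro α hα
  unfold Aall at hα
  simp only [Finset.mem_union, Finset.mem_singleton] at hα
  rcases hα with ((h | h) | h) | h
  · rw [A0, Finset.mem_image] at h
    obtain ⟨b, hb, rfl⟩ := h
    rw [Finset.mem_Icc] at hb
    exact sum_aE n b 0 hb.2 (by omega)
  · rw [A2, Finset.mem_image] at h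
    obtain ⟨i, hi, rfl⟩ := h
    rw [Finset.mem_Ico] at hi
    exact sum_aE n n i (le_refl n) (by omega)
  · rw [A1, Finset.mem_image] at h
    obtain ⟨ν, hν, rfl⟩ := h
    rw [mem_D] at hν
    exact sum_aN n q ν (by omega) hν.2
  · rw [h]
    exact sum_aP n q (by omega)

theorem total (k : Type*) [Field k] (hn : 3 ≤ n) (hq : 2 ≤ q) :
    ∑ α ∈ Aall n q, Module.finrank k (V k (m n q) α) =
      2 * n - 1 + (n + q - 1).choose (n - 1) := by
  obtain ⟨l0, hl0⟩ : ∃ l : Fin (n + 1), l.val = 0 := ⟨⟨0, by omega⟩, rfl⟩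
  have d1 : Disjoint (A0 n) (A2 n) := by
    rw [Finset.disjoint_left]
    intro α h0 h2
    have := A0_coord n h0 l0 hl0
    have := A2_coord n h2 l0 hl0
    omega
  have d2 : Disjoint (A0 n ∪ A2 n) (A1 n q) := by
    rw [Finset.disjoint_left]
    intro α h h1
    rcases Finset.mem_union.1 h with h0 | h2
    · have := A0_coord n h0 l0 hl0
      have := A1_nonneg n q h1 l0 (by omega)
      omega
    · obtain ⟨l, hl, hneg⟩ := A2_neg n h2
      have := A1_nonneg n q h1 l hl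
      omega
  have d3 : Disjoint (A0 n ∪ A2 n ∪ A1 n q) {aP n q} := by
    rw [Finset.disjoint_singleton_right]
    intro h
    have hP : aP n q l0 = 1 := by
      simp only [aP]
      split_ifs <;> omega
    rcases Finset.mem_union.1 h with h | h1
    · rcases Finset.mem_union.1 h with h0 | h2
      · have := A0_coord n h0 l0 hl0
        omega
      · have := A2_coord n h2 l0 hl0
        omega
    · have := A1_coord n q h1 l0 hl0
      omega
  unfold Aall
  rw [Finset.sum_union d3, Finset.sum_union d2, Finset.sum_union d1, Finset.sum_singleton,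
    sum_A0 n q k hn hq, sum_A2 n q k hn hq, finrank_T1' n q k hn hq]
  have h1 := sum_A1 n q k hn hq
  have h2 := card_D n q (by omega)
  have h3 : (n + q - 1).choose (n - 1) = (n + q - 1).choose q :=
    Nat.choose_symm_of_eq_add (by omega)
  rw [h3]
  omega

/-- the dimension of the degree-0 part of `Hom(I, S/I)` for `I = x_0 (x_0..x_{n-1}) + (x_1^q)` -/
theorem main (k : Type*) [Field k] (hcase : (n = 3 ∧ 4 ≤ q) ∨ (4 ≤ n ∧ 2 ≤ q)) :
    Module.finrank k ↥(⨆ α : {α : Fin (n + 1) → ℤ // ∑ i, α i = 0},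
      tPiece (Ideal.span ({f : MvPolynomial (Fin (n + 1)) k | ∃ i : Fin (n + 1),
        i.val + 1 ≤ n ∧ f = X 0 * X i} ∪ {X 1 ^ q})) α.1) =
      2 * n - 1 + Nat.choose (n + q - 1) (n - 1) := by
  have hn : 3 ≤ n := by omega
  have hq : 2 ≤ q := by omega
  rw [ideal_eq n q k (by omega)]
  have := finrank_iSup_tPiece k (m n q) (Aall n q) (fun α => ∑ i, α i = 0)
    (Aall_sum n q hn) (fun α hα hnot => hbot n q k hcase α hα hnot)
  rw [this]
  exact total n q k hn hq

end Groth.Agent.Helper20.HilbPP
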