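import Mathlib
import Groth.Prelude.Def_W4c1hilbpnTgt
import Groth.Agent.Lib.Helper25.HilbTgt
import Groth.Agent.Lib.Helper20.HilbGen
import Groth.Agent.Lib.Helper20.HilbFrame

/-!
The ideal `x_0·(x_0, …, x_{n-1}) + x_1·(x_1, …, x_{n-2})`: generators and the monomials outside it
(helper20).
-/

set_option autoImplicit false

namespace Groth.Agent.Helper20.HilbQB

open MvPolynomial W4c1hilbpn Groth.Agent.Helper25.HilbTgt Groth.Agent.Helper20.HilbGen
  Groth.Agent.Helper20.HilbFrame

variable (n : ℕ)

/-- exponent vectors of the generators `x_0 x_i` (`i ≤ n - 1`) and `x_1 x_{j+1}` (`j + 1 ≤ n - 2`) -/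
def mfun : Fin n ⊕ Fin (n - 2) → Fin (n + 1) → ℕ
  | Sum.inl i, l => (if l.val = 0 then 1 else 0) + (if l.val = i.val then 1 else 0)
  | Sum.inr j, l => (if l.val = 1 then 1 else 0) + (if l.val = j.val + 1 then 1 else 0)

noncomputable def m (p : Fin n ⊕ Fin (n - 2)) : Fin (n + 1) →₀ ℕ :=
  Finsupp.equivFunOnFinite.symm (mfun n p)

lemma m_apply (p : Fin n ⊕ Fin (n - 2)) (l : Fin (n + 1)) : m n p l = mfun n p l := rfl

/-- integer version of `mfun` -/
def mz : Fin n ⊕ Fin (n - 2) → Fin (n + 1) → ℤ
  | Sum.inl i, l => (if l.val = 0 then 1 else 0) + (if l.val = i.val then 1 else 0)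
  | Sum.inr j, l => (if l.val = 1 then 1 else 0) + (if l.val = j.val + 1 then 1 else 0)

lemma cast_mfun (p : Fin n ⊕ Fin (n - 2)) (l : Fin (n + 1)) :
    ((mfun n p l : ℕ) : ℤ) = mz n p l := by
  rcases p with i | j
  · simp only [mfun, mz]
    split_ifs <;> simp
  · simp only [mfun, mz]
    split_ifs <;> simp

lemma val_one_fin (hn : 1 ≤ n) : ((1 : Fin (n + 1)) : ℕ) = 1 := by
  rw [Fin.val_one']
  exact Nat.mod_eq_of_lt (by omega)

lemma monomial_inl (k : Type*) [Field k] (i : Fin n) (a b : Fin (n + 1))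
    (ha : a.val = 0) (hb : b.val = i.val) :
    (monomial (m n (Sum.inl i)) (1 : k) : MvPolynomial (Fin (n + 1)) k) = X a * X b := by
  have e : m n (Sum.inl i) = Finsupp.single a 1 + Finsupp.single b 1 := by
    ext l
    rw [m_apply, Finsupp.add_apply, Finsupp.single_apply, Finsupp.single_apply]
    simp only [mfun, Fin.ext_iff]
    split_ifs <;> omega
  rw [e, X, X, monomial_mul, one_mul]

lemma monomial_inr (k : Type*) [Field k] (j : Fin (n - 2)) (a b : Fin (n + 1))
    (ha : a.val = 1) (hb : b.val = j.val + 1) :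
    (monomial (m n (Sum.inr j)) (1 : k) : MvPolynomial (Fin (n + 1)) k) = X a * X b := by
  have e : m n (Sum.inr j) = Finsupp.single a 1 + Finsupp.single b 1 := by
    ext l
    rw [m_apply, Finsupp.add_apply, Finsupp.single_apply, Finsupp.single_apply]
    simp only [mfun, Fin.ext_iff]
    split_ifs <;> omega
  rw [e, X, X, monomial_mul, one_mul]

lemma ideal_eq (k : Type*) [Field k] (hn : 3 ≤ n) :
    Ideal.span ({f : MvPolynomial (Fin (n + 1)) k | ∃ i : Fin (n + 1), i.val + 1 ≤ n ∧
      f = X 0 * X i} ∪ {f : MvPolynomial (Fin (n + 1)) k | ∃ i : Fin (n + 1), 1 ≤ i.val ∧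
      i.val ≤ n - 2 ∧ f = X 1 * X i}) = genIdeal k (m n) := by
  have h1 := val_one_fin n (by omega)
  have h0 : ((0 : Fin (n + 1)) : ℕ) = 0 := Fin.val_zero _
  unfold genIdeal
  congr 1
  ext f
  simp only [Set.mem_union, Set.mem_setOf_eq, Set.mem_range]
  constructor
  · rintro (⟨i, hi, rfl⟩ | ⟨i, hi1, hi2, rfl⟩)
    · exact ⟨Sum.inl ⟨i.val, by omega⟩, monomial_inl n k _ 0 i h0 rfl⟩
    · exact ⟨Sum.inr ⟨i.val - 1, by omega⟩, monomial_inr n k _ 1 i h1
        (by show i.val = i.val - 1 + 1; omega)⟩
  · rintro ⟨p, rfl⟩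
    rcases p with i | j
    · left
      have := i.2
      exact ⟨⟨i.val, by omega⟩, by show i.val + 1 ≤ n; omega, monomial_inl n k i 0 _ h0 rfl⟩
    · right
      have := j.2
      exact ⟨⟨j.val + 1, by omega⟩, by show 1 ≤ j.val + 1; omega,
        by show j.val + 1 ≤ n - 2; omega, monomial_inr n k j 1 _ h1 rfl⟩

/-- the integer vector `γ` is the exponent of a monomial outside the ideal -/
def Out (γ : Fin (n + 1) → ℤ) : Prop :=
  (∀ l, 0 ≤ γ l) ∧ ∀ l0 l1 lu : Fin (n + 1), l0.val = 0 → l1.val = 1 → lu.val + 1 = n →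
    γ l0 + γ l1 ≤ 1 ∧ (γ l0 = 0 ∨ γ lu = 0) ∧
    ∀ l' : Fin (n + 1), 2 ≤ l'.val → l'.val + 2 ≤ n → γ l0 + γ l1 = 0 ∨ γ l' = 0

lemma out_of' {γ : Fin (n + 1) → ℤ} (l0 l1 lu : Fin (n + 1)) (hl0 : l0.val = 0)
    (hl1 : l1.val = 1) (hlu : lu.val + 1 = n)
    (h1 : ∀ l, 0 ≤ γ l) (h2 : γ l0 + γ l1 ≤ 1) (h4 : γ l0 = 0 ∨ γ lu = 0)
    (h3 : ∀ l' : Fin (n + 1), 2 ≤ l'.val → l'.val + 2 ≤ n → γ l0 + γ l1 = 0 ∨ γ l' = 0) :
    Out n γ := by
  refine ⟨h1, fun l0' l1' lu' hl0' hl1' hlu' => ?_⟩
  obtain rfl : l0' = l0 := Fin.ext (by omega)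
  obtain rfl : l1' = l1 := Fin.ext (by omega)
  obtain rfl : lu' = lu := Fin.ext (by omega)
  exact ⟨h2, h4, h3⟩

theorem isFrame (hn : 4 ≤ n) : IsFrame (m n) (mz n) (Out n) where
  hmz := fun p l => by rw [m_apply, cast_mfun]
  hOut := by
    intro α β
    rw [alive_iff]
    have hcast : ∀ t l, ((m n t l : ℕ) : ℤ) = mz n t l := fun t l => by rw [m_apply, cast_mfun]
    simp only [hcast]
    constructor
    · rintro ⟨hpos, h⟩
      refine ⟨hpos, fun l0 l1 lu hl0 hl1 hlu => ⟨?_, ?_, fun l' h1' h2' => ?_⟩⟩
      · beta_reduce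
        obtain ⟨a, ha⟩ := h (Sum.inl ⟨0, by omega⟩)
        obtain ⟨b, hb⟩ := h (Sum.inr ⟨0, by omega⟩)
        obtain ⟨c, hc⟩ := h (Sum.inl ⟨1, by omega⟩)
        have ha' := hpos a
        have hb' := hpos b
        have hc' := hpos c
        simp only [mz] at ha hb hc
        have e0 : ∀ x : Fin (n + 1), x.val = 0 → x = l0 := fun x hx => Fin.ext (by omega)
        have e1 : ∀ x : Fin (n + 1), x.val = 1 → x = l1 := fun x hx => Fin.ext (by omega)
        by_cases ha0 : a.val = 0
        · rw [e0 a ha0] at ha ha'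
          by_cases hb1 : b.val = 1
          · rw [e1 b hb1] at hb hb'
            by_cases hc0 : c.val = 0
            · rw [e0 c hc0] at hc hc'
              omega
            · by_cases hc1 : c.val = 1
              · rw [e1 c hc1] at hc hc'
                omega
              · omega
          · omega
        · omega
      · beta_reduce
        have hlun := lu.2
        obtain ⟨a, ha⟩ := h (Sum.inl ⟨lu.val, by omega⟩)
        have ha' := hpos a
        simp only [mz] at ha
        have e0 : ∀ x : Fin (n + 1), x.val = 0 → x = l0 := fun x hx => Fin.ext (by omega)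
        have e2 : ∀ x : Fin (n + 1), x.val = lu.val → x = lu := fun x hx => Fin.ext hx
        by_cases ha0 : a.val = 0
        · rw [e0 a ha0] at ha ha'
          left
          omega
        · by_cases ha2 : a.val = lu.val
          · rw [e2 a ha2] at ha ha'
            right
            omega
          · omega
      · beta_reduce
        obtain ⟨a, ha⟩ := h (Sum.inl ⟨l'.val, by omega⟩)
        obtain ⟨b, hb⟩ := h (Sum.inr ⟨l'.val - 1, by omega⟩)
        have ha' := hpos a
        have hb' := hpos b
        have h0' := hpos l0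
        have h1'' := hpos l1
        have hl'' := hpos l'
        simp only [mz] at ha hb
        have e0 : ∀ x : Fin (n + 1), x.val = 0 → x = l0 := fun x hx => Fin.ext (by omega)
        have e1 : ∀ x : Fin (n + 1), x.val = 1 → x = l1 := fun x hx => Fin.ext (by omega)
        have e2 : ∀ x : Fin (n + 1), x.val = l'.val → x = l' := fun x hx => Fin.ext hx
        by_cases ha0 : a.val = 0
        · rw [e0 a ha0] at ha ha'
          by_cases hb1 : b.val = 1
          · rw [e1 b hb1] at hb hb'
            omega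
          · by_cases hb2 : b.val = l'.val
            · rw [e2 b hb2] at hb hb'
              omega
            · omega
        · by_cases ha2 : a.val = l'.val
          · rw [e2 a ha2] at ha ha'
            omega
          · omega
    · rintro ⟨hpos, h⟩
      refine ⟨hpos, fun t => ?_⟩
      obtain ⟨h2, h4, h3⟩ := h ⟨0, by omega⟩ ⟨1, by omega⟩ ⟨n - 1, by omega⟩ rfl rfl
        (by show n - 1 + 1 = n; omega)
      beta_reduce at h2 h3 h4
      have hp0 := hpos ⟨0, by omega⟩
      have hp1 := hpos ⟨1, by omega⟩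
      beta_reduce at hp0 hp1
      rcases t with i | j
      · have hi := i.2
        by_cases hi0 : i.val = 0
        · refine ⟨⟨0, by omega⟩, ?_⟩
          simp only [mz, ↓reduceIte]
          omega
        · by_cases hi1 : i.val = 1
          · by_cases hz : (β ⟨0, by omega⟩ : ℤ) + α ⟨0, by omega⟩ = 0
            · refine ⟨⟨0, by omega⟩, ?_⟩
              simp only [mz, ↓reduceIte]
              omega
            · refine ⟨⟨1, by omega⟩, ?_⟩
              simp only [mz, ↓reduceIte]
              omega
          · by_cases hiu : i.val + 1 = n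
            · rcases h4 with h' | h'
              · refine ⟨⟨0, by omega⟩, ?_⟩
                simp only [mz, ↓reduceIte]
                omega
              · refine ⟨⟨n - 1, by omega⟩, ?_⟩
                simp only [mz, ↓reduceIte]
                omega
            · rcases h3 ⟨i.val, by omega⟩ (by show 2 ≤ i.val; omega)
                (by show i.val + 2 ≤ n; omega) with h' | h'
              · refine ⟨⟨0, by omega⟩, ?_⟩
                simp only [mz, ↓reduceIte]
                omega
              · refine ⟨⟨i.val, by omega⟩, ?_⟩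
                beta_reduce at h'
                simp only [mz, ↓reduceIte]
                omega
      · have hj := j.2
        by_cases hj0 : j.val = 0
        · refine ⟨⟨1, by omega⟩, ?_⟩
          simp only [mz, ↓reduceIte]
          omega
        · rcases h3 ⟨j.val + 1, by omega⟩ (by show 2 ≤ j.val + 1; omega)
            (by show j.val + 1 + 2 ≤ n; omega) with h' | h'
          · refine ⟨⟨1, by omega⟩, ?_⟩
            simp only [mz, ↓reduceIte]
            omega
          · refine ⟨⟨j.val + 1, by omega⟩, ?_⟩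
            beta_reduce at h'
            simp only [mz, ↓reduceIte]
            omega

end Groth.Agent.Helper20.HilbQB
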