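import Mathlib
import Groth.Prelude.Def_W4c1hilbpnTgt
import Groth.Agent.Lib.Helper25.HilbTgt
import Groth.Agent.Lib.Helper20.HilbGen
import Groth.Agent.Lib.Helper20.HilbFrame
import Groth.Agent.Lib.Helper20.HilbFrame2
import Groth.Agent.Lib.Helper20.HilbQA2
import Groth.Agent.Lib.Helper20.HilbQB1

/-!
The ideal `x_0·(x_0, …, x_{n-1}) + x_1·(x_1, …, x_{n-2})`: the pieces of multidegree `e_b - e_0`
(helper20).
-/

set_option autoImplicit false

namespace Groth.Agent.Helper20.HilbQB

open MvPolynomial W4c1hilbpn Groth.Agent.Helper25.HilbTgt Groth.Agent.Helper20.HilbGen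
  Groth.Agent.Helper20.HilbFrame

variable (n : ℕ)

/-- unfold and decide -/
macro "evb" : tactic =>
  `(tactic| (simp only [HilbFrame.Gv, HilbFrame.Lv, mz, HilbQA.aE, HilbQA.aF, Fin.val_mk,
    ↓reduceIte] at *; omega))

/-- unfold and decide, at the goal only -/
macro "evb1" : tactic =>
  `(tactic| (simp only [HilbFrame.Gv, HilbFrame.Lv, mz, HilbQA.aE, HilbQA.aF, Fin.val_mk,
    ↓reduceIte]; omega))

/-- the code of the components for the multidegree `e_b - e_0` -/
def czE0 (b : ℕ) : Fin n ⊕ Fin (n - 2) → ℤ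
  | Sum.inl i => if b = n then (if i.val = 0 then 2 else 1)
      else if (2 ≤ i.val ∧ 2 ≤ b) ∨ (i.val = 1 ∧ b + 1 = n) ∨ (i.val + 1 = n ∧ b = 1) then 1 else 0
  | Sum.inr _ => 0

theorem finrank_E0 (k : Type*) [Field k] (hn : 4 ≤ n) (b : ℕ) (hb1 : 1 ≤ b) (hbn : b ≤ n)
    (d : ℕ) (hd2 : b = n → d = 2) (hd1 : b ≠ n → d = 1) :
    Module.finrank k (V k (m n) (HilbQA.aE n b 0)) = d := by
  obtain ⟨l0, hl0⟩ : ∃ l : Fin (n + 1), l.val = 0 := ⟨⟨0, by omega⟩, rfl⟩
  obtain ⟨l1, hl1⟩ : ∃ l : Fin (n + 1), l.val = 1 := ⟨⟨1, by omega⟩, rfl⟩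
  obtain ⟨lu, hlu⟩ : ∃ l : Fin (n + 1), l.val + 1 = n := ⟨⟨n - 1, by omega⟩, by
    show n - 1 + 1 = n; omega⟩
  obtain ⟨lb, hlb⟩ : ∃ l : Fin (n + 1), l.val = b := ⟨⟨b, by omega⟩, rfl⟩
  have hF := isFrame n hn
  have hd3 : d ≤ 3 := by
    by_cases h : b = n
    · have := hd2 h; omega
    · have := hd1 h; omega
  have hdead : ∀ g, czE0 n b g = 0 → ¬ Out n (Gv (mz n) (HilbQA.aE n b 0) g) := by
    rintro (i | j) hp ho
    · have hi := i.2
      obtain ⟨f1, f2⟩ := ho
      obtain ⟨f2, f4, f3⟩ := f2 l0 l1 lu hl0 hl1 hlu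
      have g1 := f3 lb
      have g2 := f3 ⟨i.val, by omega⟩
      clear f1 f3
      simp only [czE0] at hp
      evb
    · have := ho.1 l0
      evb
  apply finrank_V_code_le3 k hF _ (czE0 n b) d hd3 (Sum.inl ⟨n - 1, by omega⟩)
    (Sum.inl ⟨0, by omega⟩) (Sum.inl ⟨0, by omega⟩)
  · refine ⟨fun _ => ?_, fun h => ?_, fun h => ?_⟩
    · simp only [czE0, Fin.val_mk]
      by_cases hb : b = n
      · rw [if_pos hb, if_neg (by omega)]
      · rw [if_neg hb, if_pos (by omega)]
    · have hb : b = n := by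
        by_contra hb
        have := hd1 hb
        omega
      simp only [czE0, Fin.val_mk, if_pos hb, ↓reduceIte]
    · exfalso
      by_cases hb : b = n
      · have := hd2 hb; omega
      · have := hd1 hb; omega
  · intro g hg
    exact Or.inl (hdead g hg)
  · rintro (i | j)
    · have hi := i.2
      refine ⟨fun h => ?_, fun h => ?_, fun h => ?_⟩
      · by_cases hiu : i.val = n - 1
        · left
          exact congrArg Sum.inl (Fin.ext (by simp only [Fin.val_mk]; omega))
        · right
          simp only [czE0] at h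
          refine out_of' n l0 l1 lu hl0 hl1 hlu (fun l => ?_) ?_ ?_ (fun l' h1 h2 => ?_)
          · evb1
          · evb1
          · evb1
          · evb1
      · left
        simp only [czE0] at h
        exact congrArg Sum.inl (Fin.ext (by simp only [Fin.val_mk]; omega))
      · exfalso
        simp only [czE0] at h
        omega
    · refine ⟨fun h => ?_, fun h => ?_, fun h => ?_⟩ <;> simp only [czE0] at h <;> omega
  · rintro (i | j) hnot
    · have hi := i.2
      by_contra hne
      apply hnot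
      simp only [czE0] at hne
      refine out_of' n l0 l1 lu hl0 hl1 hlu (fun l => ?_) ?_ ?_ (fun l' h1 h2 => ?_)
      · evb1
      · evb1
      · evb1
      · evb1
    · rfl
  · rintro (i | j) (i' | j') ho
    · have hi := i.2
      have hi' := i'.2
      have a1 : Out n (Gv (mz n) (HilbQA.aE n b 0) (Sum.inl i)) :=
        out_Gv_left hF ho (fun l => by evb1)
      have a2 : Out n (Gv (mz n) (HilbQA.aE n b 0) (Sum.inl i')) :=
        out_Gv_right hF ho (fun l => by evb1)
      have c1 : czE0 n b (Sum.inl i) ≠ 0 := fun h => hdead _ h a1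
      have c2 : czE0 n b (Sum.inl i') ≠ 0 := fun h => hdead _ h a2
      by_cases hb : b = n
      · by_cases h0 : i.val = 0 <;> by_cases h0' : i'.val = 0
        · simp only [czE0]
          rw [if_pos hb, if_pos hb, if_pos h0, if_pos h0']
        · exfalso
          obtain ⟨f1, f2⟩ := ho
          obtain ⟨f2, f4, f3⟩ := f2 l0 l1 lu hl0 hl1 hlu
          have g2 := f3 ⟨i'.val, by omega⟩
          simp only [Fin.val_mk] at g2
          have e0 : Lv (mz n) (HilbQA.aE n b 0) (Sum.inl i) (Sum.inl i') l0 = 1 := by evb1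
          have e1 : 0 ≤ Lv (mz n) (HilbQA.aE n b 0) (Sum.inl i) (Sum.inl i') l1 := f1 l1
          have e1' : i'.val = 1 → 1 ≤ Lv (mz n) (HilbQA.aE n b 0) (Sum.inl i) (Sum.inl i') l1 := by
            intro h
            evb1
          have eu : i'.val + 1 = n →
              1 ≤ Lv (mz n) (HilbQA.aE n b 0) (Sum.inl i) (Sum.inl i') lu := by
            intro h
            evb1
          have ei : 1 ≤ Lv (mz n) (HilbQA.aE n b 0) (Sum.inl i) (Sum.inl i')
              ⟨i'.val, by omega⟩ := by evb1
          clear a1 a2 c1 c2 f1 f3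
          omega
        · exfalso
          obtain ⟨f1, f2⟩ := ho
          obtain ⟨f2, f4, f3⟩ := f2 l0 l1 lu hl0 hl1 hlu
          have g2 := f3 ⟨i.val, by omega⟩
          simp only [Fin.val_mk] at g2
          have e0 : Lv (mz n) (HilbQA.aE n b 0) (Sum.inl i) (Sum.inl i') l0 = 1 := by evb1
          have e1 : 0 ≤ Lv (mz n) (HilbQA.aE n b 0) (Sum.inl i) (Sum.inl i') l1 := f1 l1
          have e1' : i.val = 1 → 1 ≤ Lv (mz n) (HilbQA.aE n b 0) (Sum.inl i) (Sum.inl i') l1 := by
            intro h
            evb1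
          have eu : i.val + 1 = n →
              1 ≤ Lv (mz n) (HilbQA.aE n b 0) (Sum.inl i) (Sum.inl i') lu := by
            intro h
            evb1
          have ei : 1 ≤ Lv (mz n) (HilbQA.aE n b 0) (Sum.inl i) (Sum.inl i')
              ⟨i.val, by omega⟩ := by evb1
          clear a1 a2 c1 c2 f1 f3
          omega
        · simp only [czE0]
          rw [if_pos hb, if_pos hb, if_neg h0, if_neg h0']
      · simp only [czE0] at c1 c2 ⊢
        omega
    · exfalso
      have hi := i.2
      exact not_out_of_ge hF (Sum.inr j') (fun l => by evb1) ho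
    · exfalso
      have hi' := i'.2
      exact not_out_of_ge hF (Sum.inr j) (fun l => by evb1) ho
    · rfl
  · rintro (i | j)
    · simp only [czE0]
      by_cases hb : b = n
      · have := hd2 hb
        omega
      · have := hd1 hb
        omega
    · simp only [czE0]
      omega

end Groth.Agent.Helper20.HilbQB
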