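import Mathlib
import Groth.Prelude.Def_W4c1hilbpnTgt
import Groth.Agent.Lib.Helper25.HilbTgt
import Groth.Agent.Lib.Helper20.HilbGen
import Groth.Agent.Lib.Helper20.HilbFrame
import Groth.Agent.Lib.Helper20.HilbFrame2
import Groth.Agent.Lib.Helper20.HilbQA2
import Groth.Agent.Lib.Helper20.HilbQB1
import Groth.Agent.Lib.Helper20.HilbQB2

/-!
The ideal `x_0·(x_0, …, x_{n-1}) + x_1·(x_1, …, x_{n-2})`: the pieces of multidegree `e_b - e_a`
with `a ≥ 1` (helper20).
-/

set_option autoImplicit false

namespace Groth.Agent.Helper20.HilbQB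

open MvPolynomial W4c1hilbpn Groth.Agent.Helper25.HilbTgt Groth.Agent.Helper20.HilbGen
  Groth.Agent.Helper20.HilbFrame

variable (n : ℕ)

/-- the code of the components for the multidegree `e_b - e_1` -/
def czE1 (b : ℕ) : Fin n ⊕ Fin (n - 2) → ℤ
  | Sum.inl i => if i.val = 1 ∧ b = n then 3 else 0
  | Sum.inr j => if j.val = 0 then (if n ≤ b + 1 then 2 else 0) else 1

theorem finrank_E1 (k : Type*) [Field k] (hn : 4 ≤ n) (b : ℕ) (hb2 : 2 ≤ b) (hbn : b ≤ n)
    (d : ℕ) (hd3 : b = n → d = 3) (hd2 : b + 1 = n → d = 2) (hd1 : b + 2 ≤ n → d = 1) :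
    Module.finrank k (V k (m n) (HilbQA.aE n b 1)) = d := by
  obtain ⟨l0, hl0⟩ : ∃ l : Fin (n + 1), l.val = 0 := ⟨⟨0, by omega⟩, rfl⟩
  obtain ⟨l1, hl1⟩ : ∃ l : Fin (n + 1), l.val = 1 := ⟨⟨1, by omega⟩, rfl⟩
  obtain ⟨lu, hlu⟩ : ∃ l : Fin (n + 1), l.val + 1 = n := ⟨⟨n - 1, by omega⟩, by
    show n - 1 + 1 = n; omega⟩
  obtain ⟨lb, hlb⟩ : ∃ l : Fin (n + 1), l.val = b := ⟨⟨b, by omega⟩, rfl⟩
  have hF := isFrame n hn
  have hd : (b = n ∧ d = 3) ∨ (b + 1 = n ∧ d = 2) ∨ (b + 2 ≤ n ∧ d = 1) := by
    by_cases h1 : b = n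
    · left; exact ⟨h1, hd3 h1⟩
    · by_cases h2 : b + 1 = n
      · right; left; exact ⟨h2, hd2 h2⟩
      · right; right; exact ⟨by omega, hd1 (by omega)⟩
  have hdead : ∀ g, czE1 n b g = 0 → ¬ Out n (Gv (mz n) (HilbQA.aE n b 1) g) := by
    rintro (i | j) hp ho
    · have hi := i.2
      obtain ⟨f1, f2⟩ := ho
      obtain ⟨f2, f4, f3⟩ := f2 l0 l1 lu hl0 hl1 hlu
      have g1 := f3 lb
      have g0 := f1 l1
      clear f1 f3
      simp only [czE1] at hp
      evb
    · have hj := j.2
      obtain ⟨f1, f2⟩ := ho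
      obtain ⟨f2, f4, f3⟩ := f2 l0 l1 lu hl0 hl1 hlu
      have g1 := f3 lb
      clear f1 f3 f4
      simp only [czE1] at hp
      evb
  apply finrank_V_code_le3 k hF _ (czE1 n b) d (by omega) (Sum.inr ⟨1, by omega⟩)
    (Sum.inr ⟨0, by omega⟩) (Sum.inl ⟨1, by omega⟩)
  · refine ⟨fun _ => ?_, fun h => ?_, fun h => ?_⟩
    · simp only [czE1, Fin.val_mk]
      rw [if_neg (by omega)]
    · simp only [czE1, Fin.val_mk, ↓reduceIte]
      rw [if_pos (by omega)]
    · simp only [czE1, Fin.val_mk]
      rw [if_pos ⟨trivial, by omega⟩]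
  · intro g hg
    exact Or.inl (hdead g hg)
  · rintro (i | j)
    · have hi := i.2
      refine ⟨fun h => ?_, fun h => ?_, fun h => ?_⟩
      · exfalso
        simp only [czE1] at h
        omega
      · exfalso
        simp only [czE1] at h
        omega
      · left
        simp only [czE1] at h
        exact congrArg Sum.inl (Fin.ext (by simp only [Fin.val_mk]; omega))
    · have hj := j.2
      refine ⟨fun h => ?_, fun h => ?_, fun h => ?_⟩
      · by_cases hj1 : j.val = 1
        · left
          exact congrArg Sum.inr (Fin.ext (by simp only [Fin.val_mk]; omega))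
        · right
          simp only [czE1] at h
          refine out_of' n l0 l1 lu hl0 hl1 hlu (fun l => ?_) ?_ ?_ (fun l' h1 h2 => ?_)
          · evb1
          · evb1
          · evb1
          · evb1
      · left
        simp only [czE1] at h
        exact congrArg Sum.inr (Fin.ext (by simp only [Fin.val_mk]; omega))
      · exfalso
        simp only [czE1] at h
        omega
  · rintro (i | j) hnot
    · have hi := i.2
      by_contra hne
      apply hnot
      simp only [czE1] at hne
      refine out_of' n l0 l1 lu hl0 hl1 hlu (fun l => ?_) ?_ ?_ (fun l' h1 h2 => ?_)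
      · evb1
      · evb1
      · evb1
      · evb1
    · have hj := j.2
      by_contra hne
      apply hnot
      simp only [czE1] at hne
      refine out_of' n l0 l1 lu hl0 hl1 hlu (fun l => ?_) ?_ ?_ (fun l' h1 h2 => ?_)
      · evb1
      · evb1
      · evb1
      · evb1
  · rintro (i | j) (i' | j') ho
    · have hi := i.2
      have hi' := i'.2
      by_cases h1 : i.val = 1 <;> by_cases h1' : i'.val = 1
      · have : i = i' := Fin.ext (by omega)
        rw [this]
      · exfalso
        exact not_out_of_ge hF (Sum.inl i') (fun l => by evb1) ho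
      · exfalso
        exact not_out_of_ge hF (Sum.inl i) (fun l => by evb1) ho
      · exfalso
        have := ho.1 l1
        evb
    · exfalso
      have hi := i.2
      have hj' := j'.2
      by_cases h : i.val ≠ 1 ∨ j'.val = 0
      · exact not_out_of_ge hF (Sum.inl i) (fun l => by evb1) ho
      · exact not_out_of_ge hF (Sum.inl ⟨j'.val + 1, by omega⟩) (fun l => by evb1) ho
    · exfalso
      have hi' := i'.2
      have hj := j.2
      by_cases h : i'.val ≠ 1 ∨ j.val = 0
      · exact not_out_of_ge hF (Sum.inl i') (fun l => by evb1) ho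
      · exact not_out_of_ge hF (Sum.inl ⟨j.val + 1, by omega⟩) (fun l => by evb1) ho
    · have hj := j.2
      have hj' := j'.2
      by_cases h0 : j.val = 0 <;> by_cases h0' : j'.val = 0
      · have : j = j' := Fin.ext (by omega)
        rw [this]
      · exfalso
        exact not_out_of_ge hF (Sum.inr j') (fun l => by evb1) ho
      · exfalso
        exact not_out_of_ge hF (Sum.inr j) (fun l => by evb1) ho
      · simp only [czE1]
        rw [if_neg h0, if_neg h0']
  · rintro (i | j)
    · simp only [czE1]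
      omega
    · simp only [czE1]
      omega

/-- the code of the components for the multidegree `e_b - e_a`, `2 ≤ a ≤ n - 2`, `b ≥ n - 1` -/
def czEM (b a : ℕ) : Fin n ⊕ Fin (n - 2) → ℤ
  | Sum.inl i => if i.val = a ∧ b = n then 2 else 0
  | Sum.inr j => if j.val + 1 = a then 1 else 0

theorem finrank_EM (k : Type*) [Field k] (hn : 4 ≤ n) (b a : ℕ) (ha2 : 2 ≤ a) (han : a + 2 ≤ n)
    (d : ℕ) (hd : (b = n ∧ d = 2) ∨ (b + 1 = n ∧ d = 1)) :
    Module.finrank k (V k (m n) (HilbQA.aE n b a)) = d := by
  obtain ⟨l0, hl0⟩ : ∃ l : Fin (n + 1), l.val = 0 := ⟨⟨0, by omega⟩, rfl⟩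
  obtain ⟨l1, hl1⟩ : ∃ l : Fin (n + 1), l.val = 1 := ⟨⟨1, by omega⟩, rfl⟩
  obtain ⟨lu, hlu⟩ : ∃ l : Fin (n + 1), l.val + 1 = n := ⟨⟨n - 1, by omega⟩, by
    show n - 1 + 1 = n; omega⟩
  obtain ⟨la, hla⟩ : ∃ l : Fin (n + 1), l.val = a := ⟨⟨a, by omega⟩, rfl⟩
  have hF := isFrame n hn
  have hdead : ∀ g, czEM n b a g = 0 → ¬ Out n (Gv (mz n) (HilbQA.aE n b a) g) := by
    rintro (i | j) hp ho
    · have hi := i.2
      obtain ⟨f1, f2⟩ := ho
      obtain ⟨f2, f4, f3⟩ := f2 l0 l1 lu hl0 hl1 hlu
      have g0 := f1 la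
      clear f1 f3 f2
      simp only [czEM] at hp
      evb
    · have hj := j.2
      have g0 := ho.1 la
      clear ho
      simp only [czEM] at hp
      evb
  apply finrank_V_code_le3 k hF _ (czEM n b a) d (by omega) (Sum.inr ⟨a - 1, by omega⟩)
    (Sum.inl ⟨a, by omega⟩) (Sum.inl ⟨a, by omega⟩)
  · refine ⟨fun _ => ?_, fun h => ?_, fun h => ?_⟩
    · simp only [czEM, Fin.val_mk]
      rw [if_pos (by omega)]
    · simp only [czEM, Fin.val_mk]
      rw [if_pos ⟨trivial, by omega⟩]
    · exfalso
      omega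
  · intro g hg
    exact Or.inl (hdead g hg)
  · rintro (i | j)
    · have hi := i.2
      refine ⟨fun h => ?_, fun h => ?_, fun h => ?_⟩
      · exfalso
        simp only [czEM] at h
        omega
      · left
        simp only [czEM] at h
        exact congrArg Sum.inl (Fin.ext (by simp only [Fin.val_mk]; omega))
      · exfalso
        simp only [czEM] at h
        omega
    · have hj := j.2
      refine ⟨fun h => ?_, fun h => ?_, fun h => ?_⟩
      · left
        simp only [czEM] at h
        exact congrArg Sum.inr (Fin.ext (by simp only [Fin.val_mk]; omega))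
      · exfalso
        simp only [czEM] at h
        omega
      · exfalso
        simp only [czEM] at h
        omega
  · rintro (i | j) hnot
    · have hi := i.2
      by_contra hne
      apply hnot
      simp only [czEM] at hne
      refine out_of' n l0 l1 lu hl0 hl1 hlu (fun l => ?_) ?_ ?_ (fun l' h1 h2 => ?_)
      · evb1
      · evb1
      · evb1
      · evb1
    · have hj := j.2
      by_contra hne
      apply hnot
      simp only [czEM] at hne
      refine out_of' n l0 l1 lu hl0 hl1 hlu (fun l => ?_) ?_ ?_ (fun l' h1 h2 => ?_)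
      · evb1
      · evb1
      · evb1
      · evb1
  · rintro (i | j) (i' | j') ho
    · have hi := i.2
      have hi' := i'.2
      by_cases h1 : i.val = a <;> by_cases h1' : i'.val = a
      · have : i = i' := Fin.ext (by omega)
        rw [this]
      · exfalso
        exact not_out_of_ge hF (Sum.inl i') (fun l => by evb1) ho
      · exfalso
        exact not_out_of_ge hF (Sum.inl i) (fun l => by evb1) ho
      · exfalso
        have := ho.1 la
        evb
    · exfalso
      have hi := i.2
      have hj' := j'.2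
      have e0 : 1 ≤ Lv (mz n) (HilbQA.aE n b a) (Sum.inl i) (Sum.inr j') l0 := by evb1
      have e1 : 1 ≤ Lv (mz n) (HilbQA.aE n b a) (Sum.inl i) (Sum.inr j') l1 := by evb1
      have := (ho.2 l0 l1 lu hl0 hl1 hlu).1
      omega
    · exfalso
      have hi' := i'.2
      have hj := j.2
      have e0 : 1 ≤ Lv (mz n) (HilbQA.aE n b a) (Sum.inr j) (Sum.inl i') l0 := by evb1
      have e1 : 1 ≤ Lv (mz n) (HilbQA.aE n b a) (Sum.inr j) (Sum.inl i') l1 := by evb1
      have := (ho.2 l0 l1 lu hl0 hl1 hlu).1
      omega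
    · have hj := j.2
      have hj' := j'.2
      by_cases h0 : j.val + 1 = a <;> by_cases h0' : j'.val + 1 = a
      · have : j = j' := Fin.ext (by omega)
        rw [this]
      · exfalso
        exact not_out_of_ge hF (Sum.inr j') (fun l => by evb1) ho
      · exfalso
        exact not_out_of_ge hF (Sum.inr j) (fun l => by evb1) ho
      · exfalso
        have := ho.1 la
        evb
  · rintro (i | j)
    · simp only [czEM]
      omega
    · simp only [czEM]
      omega

end Groth.Agent.Helper20.HilbQB
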