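import Mathlib
import Groth.Prelude.Def_W4c1hilbpnTgt
import Groth.Agent.Lib.Helper25.HilbTgt
import Groth.Agent.Lib.Helper20.HilbGen
import Groth.Agent.Lib.Helper20.HilbFrame
import Groth.Agent.Lib.Helper20.HilbFrame2
import Groth.Agent.Lib.Helper20.HilbQA2
import Groth.Agent.Lib.Helper20.HilbQB1
import Groth.Agent.Lib.Helper20.HilbQB2

/-!
The ideal `x_0·(x_0, …, x_{n-1}) + x_1·(x_1, …, x_{n-2})`: the pieces with a single surviving
generator (helper20).
-/

set_option autoImplicit false

namespace Groth.Agent.Helper20.HilbQB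

open MvPolynomial W4c1hilbpn Groth.Agent.Helper25.HilbTgt Groth.Agent.Helper20.HilbGen
  Groth.Agent.Helper20.HilbFrame

variable (n : ℕ)

/-- the code selecting the generator `x_0 x_{n-1}` -/
def czU : Fin n ⊕ Fin (n - 2) → ℤ
  | Sum.inl i => if i.val + 1 = n then 1 else 0
  | Sum.inr _ => 0

/-- the piece of multidegree `e_n - e_{n-1}` -/
theorem finrank_EU (k : Type*) [Field k] (hn : 4 ≤ n) :
    Module.finrank k (V k (m n) (HilbQA.aE n n (n - 1))) = 1 := by
  obtain ⟨l0, hl0⟩ : ∃ l : Fin (n + 1), l.val = 0 := ⟨⟨0, by omega⟩, rfl⟩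
  obtain ⟨l1, hl1⟩ : ∃ l : Fin (n + 1), l.val = 1 := ⟨⟨1, by omega⟩, rfl⟩
  obtain ⟨lu, hlu⟩ : ∃ l : Fin (n + 1), l.val + 1 = n := ⟨⟨n - 1, by omega⟩, by
    show n - 1 + 1 = n; omega⟩
  have hF := isFrame n hn
  have hdead : ∀ g, czU n g = 0 → ¬ Out n (Gv (mz n) (HilbQA.aE n n (n - 1)) g) := by
    rintro (i | j) hp ho
    · have hi := i.2
      have g0 := ho.1 lu
      clear ho
      simp only [czU] at hp
      evb
    · have hj := j.2
      have g0 := ho.1 lu
      clear ho
      evb
  apply finrank_V_code1 k hF _ (czU n) (Sum.inl ⟨n - 1, by omega⟩)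
  · simp only [czU, Fin.val_mk]
    rw [if_pos (by omega)]
  · intro g hg
    exact Or.inl (hdead g hg)
  · rintro (i | j) h
    · have hi := i.2
      left
      simp only [czU] at h
      exact congrArg Sum.inl (Fin.ext (by simp only [Fin.val_mk]; omega))
    · exfalso
      simp only [czU] at h
      omega
  · rintro (i | j) hnot
    · have hi := i.2
      by_contra hne
      apply hnot
      simp only [czU] at hne
      refine out_of' n l0 l1 lu hl0 hl1 hlu (fun l => ?_) ?_ ?_ (fun l' h1 h2 => ?_)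
      · evb1
      · evb1
      · evb1
      · evb1
    · rfl
  · rintro (i | j) (i' | j') ho
    · have hi := i.2
      have hi' := i'.2
      by_cases h1 : i.val + 1 = n <;> by_cases h1' : i'.val + 1 = n
      · have : i = i' := Fin.ext (by omega)
        rw [this]
      · exfalso
        exact not_out_of_ge hF (Sum.inl i') (fun l => by evb1) ho
      · exfalso
        exact not_out_of_ge hF (Sum.inl i) (fun l => by evb1) ho
      · exfalso
        have := ho.1 lu
        evb
    · exfalso
      have hi := i.2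
      have hj' := j'.2
      by_cases h1 : i.val + 1 = n
      · exact not_out_of_ge hF (Sum.inr j') (fun l => by evb1) ho
      · have := ho.1 lu
        evb
    · exfalso
      have hi' := i'.2
      have hj := j.2
      by_cases h1 : i'.val + 1 = n
      · exact not_out_of_ge hF (Sum.inr j) (fun l => by evb1) ho
      · have := ho.1 lu
        evb
    · rfl
  · rintro (i | j)
    · simp only [czU]
      omega
    · simp only [czU]
      omega

/-- the piece of multidegree `e_1 + e_n - e_0 - e_{n-1}` -/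
theorem finrank_F1 (k : Type*) [Field k] (hn : 4 ≤ n) :
    Module.finrank k (V k (m n) (HilbQA.aF n 1 n 0 (n - 1))) = 1 := by
  obtain ⟨l0, hl0⟩ : ∃ l : Fin (n + 1), l.val = 0 := ⟨⟨0, by omega⟩, rfl⟩
  obtain ⟨l1, hl1⟩ : ∃ l : Fin (n + 1), l.val = 1 := ⟨⟨1, by omega⟩, rfl⟩
  obtain ⟨lu, hlu⟩ : ∃ l : Fin (n + 1), l.val + 1 = n := ⟨⟨n - 1, by omega⟩, by
    show n - 1 + 1 = n; omega⟩
  have hF := isFrame n hn
  have hdead : ∀ g, czU n g = 0 → ¬ Out n (Gv (mz n) (HilbQA.aF n 1 n 0 (n - 1)) g) := by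
    rintro (i | j) hp ho
    · have hi := i.2
      have g0 := ho.1 lu
      clear ho
      simp only [czU] at hp
      evb
    · have hj := j.2
      have g0 := ho.1 l0
      clear ho
      evb
  apply finrank_V_code1 k hF _ (czU n) (Sum.inl ⟨n - 1, by omega⟩)
  · simp only [czU, Fin.val_mk]
    rw [if_pos (by omega)]
  · intro g hg
    exact Or.inl (hdead g hg)
  · rintro (i | j) h
    · have hi := i.2
      left
      simp only [czU] at h
      exact congrArg Sum.inl (Fin.ext (by simp only [Fin.val_mk]; omega))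
    · exfalso
      simp only [czU] at h
      omega
  · rintro (i | j) hnot
    · have hi := i.2
      by_contra hne
      apply hnot
      simp only [czU] at hne
      refine out_of' n l0 l1 lu hl0 hl1 hlu (fun l => ?_) ?_ ?_ (fun l' h1 h2 => ?_)
      · evb1
      · evb1
      · evb1
      · evb1
    · rfl
  · have key : ∀ i i' : Fin n, i.val + 1 = n → i'.val + 1 ≠ n →
        ¬ Out n (Lv (mz n) (HilbQA.aF n 1 n 0 (n - 1)) (Sum.inl i) (Sum.inl i')) := by
      intro i i' h1 h1' ho
      have hi := i.2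
      have hi' := i'.2
      obtain ⟨f1, f2⟩ := ho
      obtain ⟨f2, f4, f3⟩ := f2 l0 l1 lu hl0 hl1 hlu
      have g2 := f3 ⟨i'.val, by omega⟩
      simp only [Fin.val_mk] at g2
      have e0 : 0 ≤ Lv (mz n) (HilbQA.aF n 1 n 0 (n - 1)) (Sum.inl i) (Sum.inl i') l0 := f1 l0
      have e0' : i'.val = 0 →
          1 ≤ Lv (mz n) (HilbQA.aF n 1 n 0 (n - 1)) (Sum.inl i) (Sum.inl i') l0 := by
        intro h
        evb1
      have e1 : 1 ≤ Lv (mz n) (HilbQA.aF n 1 n 0 (n - 1)) (Sum.inl i) (Sum.inl i') l1 := by evb1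
      have e1' : i'.val = 1 →
          2 ≤ Lv (mz n) (HilbQA.aF n 1 n 0 (n - 1)) (Sum.inl i) (Sum.inl i') l1 := by
        intro h
        evb1
      have ei : 2 ≤ i'.val → 1 ≤ Lv (mz n) (HilbQA.aF n 1 n 0 (n - 1)) (Sum.inl i) (Sum.inl i')
          ⟨i'.val, by omega⟩ := by
        intro h
        evb1
      clear f1 f3
      omega
    rintro (i | j) (i' | j') ho
    · have hi := i.2
      have hi' := i'.2
      by_cases h1 : i.val + 1 = n <;> by_cases h1' : i'.val + 1 = n
      · have : i = i' := Fin.ext (by omega)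
        rw [this]
      · exact absurd ho (key i i' h1 h1')
      · rw [Lv_comm] at ho
        exact absurd ho (key i' i h1' h1)
      · exfalso
        have := ho.1 lu
        evb
    · exfalso
      have hi := i.2
      have hj' := j'.2
      by_cases h1 : i.val + 1 = n
      · have e0 : 0 ≤ Lv (mz n) (HilbQA.aF n 1 n 0 (n - 1)) (Sum.inl i) (Sum.inr j') l0 :=
          ho.1 l0
        have e1 : 2 ≤ Lv (mz n) (HilbQA.aF n 1 n 0 (n - 1)) (Sum.inl i) (Sum.inr j') l1 := by
          evb1
        have := (ho.2 l0 l1 lu hl0 hl1 hlu).1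
        omega
      · have := ho.1 lu
        evb
    · exfalso
      have hi' := i'.2
      have hj := j.2
      by_cases h1 : i'.val + 1 = n
      · have e0 : 0 ≤ Lv (mz n) (HilbQA.aF n 1 n 0 (n - 1)) (Sum.inr j) (Sum.inl i') l0 :=
          ho.1 l0
        have e1 : 2 ≤ Lv (mz n) (HilbQA.aF n 1 n 0 (n - 1)) (Sum.inr j) (Sum.inl i') l1 := by
          evb1
        have := (ho.2 l0 l1 lu hl0 hl1 hlu).1
        omega
      · have := ho.1 lu
        evb
    · rfl
  · rintro (i | j)
    · simp only [czU]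
      omega
    · simp only [czU]
      omega

/-- the code selecting the generator `x_1 x_{j0+1}` -/
def czB (j0 : ℕ) : Fin n ⊕ Fin (n - 2) → ℤ
  | Sum.inl _ => 0
  | Sum.inr j => if j.val = j0 then 1 else 0

/-- the piece of multidegree `e_0 + e_n - e_1 - e_{j0+1}` -/
theorem finrank_FB (k : Type*) [Field k] (hn : 4 ≤ n) (j0 : ℕ) (hj0 : j0 + 3 ≤ n) :
    Module.finrank k (V k (m n) (HilbQA.aF n 0 n 1 (j0 + 1))) = 1 := by
  obtain ⟨l0, hl0⟩ : ∃ l : Fin (n + 1), l.val = 0 := ⟨⟨0, by omega⟩, rfl⟩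
  obtain ⟨l1, hl1⟩ : ∃ l : Fin (n + 1), l.val = 1 := ⟨⟨1, by omega⟩, rfl⟩
  obtain ⟨lu, hlu⟩ : ∃ l : Fin (n + 1), l.val + 1 = n := ⟨⟨n - 1, by omega⟩, by
    show n - 1 + 1 = n; omega⟩
  obtain ⟨lj, hlj⟩ : ∃ l : Fin (n + 1), l.val = j0 + 1 := ⟨⟨j0 + 1, by omega⟩, rfl⟩
  have hF := isFrame n hn
  have hdead : ∀ g, czB n j0 g = 0 → ¬ Out n (Gv (mz n) (HilbQA.aF n 0 n 1 (j0 + 1)) g) := by
    rintro (i | j) hp ho
    · have hi := i.2
      have e0 : 2 ≤ Gv (mz n) (HilbQA.aF n 0 n 1 (j0 + 1)) (Sum.inl i) l0 := by evb1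
      have e1 := ho.1 l1
      have := (ho.2 l0 l1 lu hl0 hl1 hlu).1
      omega
    · have hj := j.2
      have g0 := ho.1 lj
      clear ho
      simp only [czB] at hp
      evb
  apply finrank_V_code1 k hF _ (czB n j0) (Sum.inr ⟨j0, by omega⟩)
  · simp only [czB, Fin.val_mk, ↓reduceIte]
  · intro g hg
    exact Or.inl (hdead g hg)
  · rintro (i | j) h
    · exfalso
      simp only [czB] at h
      omega
    · have hj := j.2
      left
      simp only [czB] at h
      exact congrArg Sum.inr (Fin.ext (by simp only [Fin.val_mk]; omega))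
  · rintro (i | j) hnot
    · rfl
    · have hj := j.2
      by_contra hne
      apply hnot
      simp only [czB] at hne
      refine out_of' n l0 l1 lu hl0 hl1 hlu (fun l => ?_) ?_ ?_ (fun l' h1 h2 => ?_)
      · evb1
      · evb1
      · evb1
      · evb1
  · rintro (i | j) (i' | j') ho
    · rfl
    · exfalso
      have hi := i.2
      have hj' := j'.2
      have e0 : 2 ≤ Lv (mz n) (HilbQA.aF n 0 n 1 (j0 + 1)) (Sum.inl i) (Sum.inr j') l0 := by evb1
      have e1 := ho.1 l1
      have := (ho.2 l0 l1 lu hl0 hl1 hlu).1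
      omega
    · exfalso
      have hi' := i'.2
      have hj := j.2
      have e0 : 2 ≤ Lv (mz n) (HilbQA.aF n 0 n 1 (j0 + 1)) (Sum.inr j) (Sum.inl i') l0 := by evb1
      have e1 := ho.1 l1
      have := (ho.2 l0 l1 lu hl0 hl1 hlu).1
      omega
    · have hj := j.2
      have hj' := j'.2
      by_cases h0 : j.val = j0 <;> by_cases h0' : j'.val = j0
      · have : j = j' := Fin.ext (by omega)
        rw [this]
      · exfalso
        exact not_out_of_ge hF (Sum.inl ⟨j'.val + 1, by omega⟩) (fun l => by evb1) ho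
      · exfalso
        exact not_out_of_ge hF (Sum.inl ⟨j.val + 1, by omega⟩) (fun l => by evb1) ho
      · exfalso
        have := ho.1 lj
        evb
  · rintro (i | j)
    · simp only [czB]
      omega
    · simp only [czB]
      omega

end Groth.Agent.Helper20.HilbQB
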