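import Mathlib
import Groth.Prelude.Def_W4c1hilbpnTgt
import Groth.Agent.Lib.Helper25.HilbTgt
import Groth.Agent.Lib.Helper20.HilbGen
import Groth.Agent.Lib.Helper20.HilbFrame
import Groth.Agent.Lib.Helper20.HilbFrame2
import Groth.Agent.Lib.Helper20.HilbPP5
import Groth.Agent.Lib.Helper20.HilbQA2
import Groth.Agent.Lib.Helper20.HilbQB1
import Groth.Agent.Lib.Helper20.HilbQB2

/-!
The ideal `x_0·(x_0, …, x_{n-1}) + x_1·(x_1, …, x_{n-2})`: the list of nonzero pieces of total
degree `0` is complete (helper20).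
-/

set_option autoImplicit false

namespace Groth.Agent.Helper20.HilbQB

open MvPolynomial W4c1hilbpn Groth.Agent.Helper25.HilbTgt Groth.Agent.Helper20.HilbGen
  Groth.Agent.Helper20.HilbFrame

variable (n : ℕ)

/-- the multidegrees `e_b - e_0`, `1 ≤ b ≤ n` -/
noncomputable def B0 : Finset (Fin (n + 1) → ℤ) :=
  (Finset.Icc 1 n).image (fun b => HilbQA.aE n b 0)
/-- the multidegrees `e_b - e_1`, `2 ≤ b ≤ n` -/
noncomputable def B1 : Finset (Fin (n + 1) → ℤ) :=
  (Finset.Icc 2 n).image (fun b => HilbQA.aE n b 1)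
/-- the multidegrees `e_b - e_a`, `2 ≤ a ≤ n - 2`, `n - 1 ≤ b ≤ n` -/
noncomputable def BM : Finset (Fin (n + 1) → ℤ) :=
  (Finset.Ico 2 (n - 1) ×ˢ Finset.Icc (n - 1) n).image (fun x => HilbQA.aE n x.2 x.1)
/-- the multidegree `e_n - e_{n-1}` -/
noncomputable def BU : Finset (Fin (n + 1) → ℤ) := {HilbQA.aE n n (n - 1)}
/-- the multidegree `e_1 + e_n - e_0 - e_{n-1}` -/
noncomputable def BF1 : Finset (Fin (n + 1) → ℤ) := {HilbQA.aF n 1 n 0 (n - 1)}
/-- the multidegrees `e_0 + e_n - e_1 - e_{j+1}`, `j + 1 ≤ n - 2` -/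
noncomputable def BFB : Finset (Fin (n + 1) → ℤ) :=
  (Finset.range (n - 2)).image (fun j0 => HilbQA.aF n 0 n 1 (j0 + 1))

/-- all the multidegrees of nonzero pieces -/
noncomputable def Ball : Finset (Fin (n + 1) → ℤ) :=
  B0 n ∪ B1 n ∪ BM n ∪ BU n ∪ BF1 n ∪ BFB n

lemma mem_B0 (b : ℕ) (hb1 : 1 ≤ b) (hbn : b ≤ n) : HilbQA.aE n b 0 ∈ Ball n := by
  unfold Ball
  simp only [Finset.mem_union]
  left; left; left; left; left
  exact Finset.mem_image.2 ⟨b, Finset.mem_Icc.2 ⟨hb1, hbn⟩, rfl⟩

lemma mem_B1 (b : ℕ) (hb1 : 2 ≤ b) (hbn : b ≤ n) : HilbQA.aE n b 1 ∈ Ball n := by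
  unfold Ball
  simp only [Finset.mem_union]
  left; left; left; left; right
  exact Finset.mem_image.2 ⟨b, Finset.mem_Icc.2 ⟨hb1, hbn⟩, rfl⟩

lemma mem_BM (b a : ℕ) (ha2 : 2 ≤ a) (han : a + 2 ≤ n) (hb : b + 1 = n ∨ b = n) :
    HilbQA.aE n b a ∈ Ball n := by
  unfold Ball
  simp only [Finset.mem_union]
  left; left; left; right
  exact Finset.mem_image.2 ⟨(a, b), Finset.mem_product.2
    ⟨Finset.mem_Ico.2 ⟨ha2, by omega⟩, Finset.mem_Icc.2 ⟨by omega, by omega⟩⟩, rfl⟩

lemma mem_BU : HilbQA.aE n n (n - 1) ∈ Ball n := by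
  unfold Ball
  simp only [Finset.mem_union]
  left; left; right
  exact Finset.mem_singleton_self _

lemma mem_BF1 : HilbQA.aF n 1 n 0 (n - 1) ∈ Ball n := by
  unfold Ball
  simp only [Finset.mem_union]
  left; right
  exact Finset.mem_singleton_self _

lemma mem_BFB (j0 : ℕ) (hj0 : j0 + 3 ≤ n) : HilbQA.aF n 0 n 1 (j0 + 1) ∈ Ball n := by
  unfold Ball
  simp only [Finset.mem_union]
  right
  exact Finset.mem_image.2 ⟨j0, Finset.mem_range.2 (by omega), rfl⟩

/-- the shape of a monomial of degree two outside the ideal -/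
lemma shape (hn : 4 ≤ n) (γ : Fin (n + 1) → ℤ) (ho : Out n γ) (hs : ∑ l, γ l = 2)
    (l0 l1 lu : Fin (n + 1)) (hl0 : l0.val = 0) (hl1 : l1.val = 1) (hlu : lu.val + 1 = n) :
    (γ l0 = 0 ∧ γ l1 = 0) ∨
    (∀ l : Fin (n + 1), γ l = (if l.val = 0 then 1 else 0) + (if l.val = n then 1 else 0)) ∨
    (∃ c : ℕ, (c + 1 = n ∨ c = n) ∧
      ∀ l : Fin (n + 1), γ l = (if l.val = 1 then 1 else 0) + (if l.val = c then 1 else 0)) := by
  obtain ⟨hpos, h2⟩ := ho
  obtain ⟨h2, h4, h3⟩ := h2 l0 l1 lu hl0 hl1 hlu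
  have hp0 := hpos l0
  have hp1 := hpos l1
  by_cases hc : γ l0 + γ l1 = 0
  · left
    constructor <;> omega
  · right
    have hmid : ∀ l' : Fin (n + 1), 2 ≤ l'.val → l'.val + 2 ≤ n → γ l' = 0 := by
      intro l' h1' h2'
      rcases h3 l' h1' h2' with h | h
      · exact absurd h hc
      · exact h
    obtain ⟨lb, hlb, hgb⟩ : ∃ lb : Fin (n + 1), lb.val ≤ 1 ∧ γ lb = 1 := by
      by_cases h : γ l0 = 1
      · exact ⟨l0, by omega, h⟩
      · exact ⟨l1, by omega, by omega⟩
    obtain ⟨c, hcc⟩ := HilbPP.exists_single n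
      (fun l => γ l - (if l.val = lb.val then 1 else 0)) (by
        intro l
        beta_reduce
        by_cases hl : l.val = lb.val
        · obtain rfl : l = lb := Fin.ext (by omega)
          rw [if_pos hl]
          omega
        · rw [if_neg hl]
          have := hpos l
          omega) (by
        rw [Finset.sum_sub_distrib, hs, HilbPP.sum_ind n lb.val (by omega)]
        norm_num)
    beta_reduce at hcc
    have hc' := hcc c
    rw [if_pos rfl] at hc'
    have hcn := c.2
    have hc2 : 2 ≤ c.val := by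
      by_contra hlt
      have : c = l0 ∨ c = l1 := by
        by_cases h : c.val = 0
        · left; exact Fin.ext (by omega)
        · right; exact Fin.ext (by omega)
      have hlb' : lb = l0 ∨ lb = l1 := by
        by_cases h : lb.val = 0
        · left; exact Fin.ext (by omega)
        · right; exact Fin.ext (by omega)
      rcases this with h | h <;> rcases hlb' with h' | h' <;> subst h <;> subst h' <;> omega
    have hcu : n ≤ c.val + 1 := by
      by_contra hlt
      have := hmid c hc2 (by omega)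
      omega
    by_cases hb0 : lb.val = 0
    · left
      have hlb0 : lb = l0 := Fin.ext (by omega)
      have hcn' : c.val = n := by
        by_contra hne
        have : c = lu := Fin.ext (by omega)
        rw [this] at hc'
        rw [hlb0] at hgb
        omega
      intro l
      have := hcc l
      omega
    · right
      refine ⟨c.val, by omega, fun l => ?_⟩
      have := hcc l
      omega

end Groth.Agent.Helper20.HilbQB
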