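import Mathlib
import Groth.Prelude.Def_W4c1hilbpnTgt
import Groth.Agent.Lib.Helper25.HilbTgt
import Groth.Agent.Lib.Helper20.HilbGen
import Groth.Agent.Lib.Helper20.HilbFrame
import Groth.Agent.Lib.Helper20.HilbFrame2
import Groth.Agent.Lib.Helper20.HilbPP5
import Groth.Agent.Lib.Helper20.HilbQA2
import Groth.Agent.Lib.Helper20.HilbQB1
import Groth.Agent.Lib.Helper20.HilbQB2
import Groth.Agent.Lib.Helper20.HilbQB5

/-!
The ideal `x_0·(x_0, …, x_{n-1}) + x_1·(x_1, …, x_{n-2})`: every nonzero piece of total degree `0`
is in the list (helper20).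
-/

set_option autoImplicit false

namespace Groth.Agent.Helper20.HilbQB

open MvPolynomial W4c1hilbpn Groth.Agent.Helper25.HilbTgt Groth.Agent.Helper20.HilbGen
  Groth.Agent.Helper20.HilbFrame

variable (n : ℕ)

lemma complete_inl (hn : 4 ≤ n) (α : Fin (n + 1) → ℤ) (hsum : ∑ l, α l = 0) (i : Fin n)
    (hout : Out n (Gv (mz n) α (Sum.inl i)))
    (hlink : ∀ t, Out n (Lv (mz n) α (Sum.inl i) t) → Out n (Gv (mz n) α t)) : α ∈ Ball n := by
  have hi := i.2
  obtain ⟨l0, hl0⟩ : ∃ l : Fin (n + 1), l.val = 0 := ⟨⟨0, by omega⟩, rfl⟩
  obtain ⟨l1, hl1⟩ : ∃ l : Fin (n + 1), l.val = 1 := ⟨⟨1, by omega⟩, rfl⟩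
  obtain ⟨lu, hlu⟩ : ∃ l : Fin (n + 1), l.val + 1 = n := ⟨⟨n - 1, by omega⟩, by
    show n - 1 + 1 = n; omega⟩
  obtain ⟨li, hli⟩ : ∃ l : Fin (n + 1), l.val = i.val := ⟨⟨i.val, by omega⟩, rfl⟩
  have hγ : ∀ l, Gv (mz n) α (Sum.inl i) l =
      (if l.val = 0 then 1 else 0) + (if l.val = i.val then 1 else 0) + α l := fun l => rfl
  have hs : ∑ l, Gv (mz n) α (Sum.inl i) l = 2 := by
    simp only [hγ]
    rw [Finset.sum_add_distrib, Finset.sum_add_distrib, HilbPP.sum_ind n 0 (by omega),
      HilbPP.sum_ind n i.val (by omega), hsum]
    norm_num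
  have hpos := hout.1
  rcases shape n hn _ hout hs l0 l1 lu hl0 hl1 hlu with ⟨h0, h1⟩ | hA | ⟨c, hc, hB⟩
  · -- no `x_0`, `x_1` in the target
    by_cases hgi : 1 ≤ Gv (mz n) α (Sum.inl i) li
    · obtain ⟨c, hcc⟩ := HilbPP.exists_single n
        (fun l => Gv (mz n) α (Sum.inl i) l - (if l.val = i.val then 1 else 0)) (by
          intro l
          beta_reduce
          by_cases hl : l.val = i.val
          · obtain rfl : l = li := Fin.ext (by omega)
            rw [if_pos hl]
            omega
          · rw [if_neg hl]
            have := hpos l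
            omega) (by
          rw [Finset.sum_sub_distrib, hs, HilbPP.sum_ind n i.val (by omega)]
          norm_num)
      beta_reduce at hcc
      have hi2 : 2 ≤ i.val := by
        by_contra hlt
        have : li = l0 ∨ li = l1 := by
          by_cases h : i.val = 0
          · left; exact Fin.ext (by omega)
          · right; exact Fin.ext (by omega)
        rcases this with h | h <;> rw [h] at hgi <;> omega
      have hc2 : 2 ≤ c.val := by
        by_contra hlt
        have : c = l0 ∨ c = l1 := by
          by_cases h : c.val = 0
          · left; exact Fin.ext (by omega)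
          · right; exact Fin.ext (by omega)
        rcases this with h | h
        · have := hcc l0
          rw [if_neg (by omega), if_pos (by rw [h])] at this
          omega
        · have := hcc l1
          rw [if_neg (by omega), if_pos (by rw [h])] at this
          omega
      have hα : α = HilbQA.aE n c.val 0 := by
        funext l
        have e1 := hcc l
        have e2 := hγ l
        simp only [HilbQA.aE]
        omega
      have hcn := c.2
      rw [hα]
      exact mem_B0 n _ (by omega) (by omega)
    · exfalso
      have hgi0 : Gv (mz n) α (Sum.inl i) li = 0 := by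
        have := hpos li
        omega
      obtain ⟨t, ht2, ht3, ht4⟩ : ∃ t : Fin n, 2 ≤ t.val ∧ t.val ≠ i.val ∧ t.val ≤ 3 := by
        by_cases h2 : i.val = 2
        · exact ⟨⟨3, by omega⟩, by simp, by simp; omega, by simp⟩
        · exact ⟨⟨2, by omega⟩, by simp, by simp; omega, by simp⟩
      rw [hγ] at h0 h1 hgi0
      have hL : Out n (Lv (mz n) α (Sum.inl i) (Sum.inl t)) := by
        refine out_of' n l0 l1 lu hl0 hl1 hlu (fun l => ?_) ?_ ?_ (fun l' h1' h2' => ?_)
        · have := hpos l
          rw [hγ] at this
          evb1
        · evb1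
        · left
          evb1
        · left
          evb1
      have := (hlink _ hL).1 li
      revert this
      evb1
  · -- the target is `x_0 x_n`
    have hα : α = HilbQA.aE n n i.val := by
      funext l
      have e1 := hA l
      have e2 := hγ l
      simp only [HilbQA.aE]
      omega
    rw [hα]
    by_cases hi0 : i.val = 0
    · rw [hi0]
      exact mem_B0 n n (by omega) (le_refl n)
    · by_cases hi1 : i.val = 1
      · rw [hi1]
        exact mem_B1 n n (by omega) (le_refl n)
      · by_cases hiu : i.val + 1 = n
        · have : i.val = n - 1 := by omega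
          rw [this]
          exact mem_BU n
        · exact mem_BM n n i.val (by omega) (by omega) (Or.inr rfl)
  · -- the target is `x_1 x_c`, `c ≥ n - 1`
    have hα : α = HilbQA.aF n 1 c 0 i.val := by
      funext l
      have e1 := hB l
      have e2 := hγ l
      simp only [HilbQA.aF]
      omega
    by_cases hi1 : i.val = 1
    · have : α = HilbQA.aE n c 0 := by
        rw [hα]
        funext l
        simp only [HilbQA.aF, HilbQA.aE]
        omega
      rw [this]
      exact mem_B0 n c (by omega) (by omega)
    · by_cases hiu : i.val + 1 = n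
      · rcases hc with hc | hc
        · have : α = HilbQA.aE n 1 0 := by
            rw [hα]
            funext l
            simp only [HilbQA.aF, HilbQA.aE]
            omega
          rw [this]
          exact mem_B0 n 1 (by omega) (by omega)
        · have : i.val = n - 1 := by omega
          rw [hα, this, hc]
          exact mem_BF1 n
      · exfalso
        have hB0 := hB l0
        have hB1 := hB l1
        have hBi := hB li
        rw [hγ] at hB0 hB1 hBi
        have hL : Out n (Lv (mz n) α (Sum.inl i) (Sum.inl ⟨n - 1, by omega⟩)) := by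
          refine out_of' n l0 l1 lu hl0 hl1 hlu (fun l => ?_) ?_ ?_ (fun l' h1' h2' => ?_)
          · have := hpos l
            rw [hγ] at this
            evb1
          · evb1
          · left
            evb1
          · right
            have := hB l'
            rw [hγ] at this
            evb1
        by_cases hi0 : i.val = 0
        · have := (hlink _ hL).1 l0
          revert this
          evb1
        · have := (hlink _ hL).1 li
          revert this
          evb1

lemma complete_inr (hn : 4 ≤ n) (α : Fin (n + 1) → ℤ) (hsum : ∑ l, α l = 0) (j : Fin (n - 2))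
    (hout : Out n (Gv (mz n) α (Sum.inr j)))
    (hlink : ∀ t, Out n (Lv (mz n) α (Sum.inr j) t) → Out n (Gv (mz n) α t)) : α ∈ Ball n := by
  have hj := j.2
  obtain ⟨l0, hl0⟩ : ∃ l : Fin (n + 1), l.val = 0 := ⟨⟨0, by omega⟩, rfl⟩
  obtain ⟨l1, hl1⟩ : ∃ l : Fin (n + 1), l.val = 1 := ⟨⟨1, by omega⟩, rfl⟩
  obtain ⟨lu, hlu⟩ : ∃ l : Fin (n + 1), l.val + 1 = n := ⟨⟨n - 1, by omega⟩, by
    show n - 1 + 1 = n; omega⟩
  obtain ⟨lj, hlj⟩ : ∃ l : Fin (n + 1), l.val = j.val + 1 := ⟨⟨j.val + 1, by omega⟩, rfl⟩
  have hγ : ∀ l, Gv (mz n) α (Sum.inr j) l =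
      (if l.val = 1 then 1 else 0) + (if l.val = j.val + 1 then 1 else 0) + α l := fun l => rfl
  have hs : ∑ l, Gv (mz n) α (Sum.inr j) l = 2 := by
    simp only [hγ]
    rw [Finset.sum_add_distrib, Finset.sum_add_distrib, HilbPP.sum_ind n 1 (by omega),
      HilbPP.sum_ind n (j.val + 1) (by omega), hsum]
    norm_num
  have hpos := hout.1
  rcases shape n hn _ hout hs l0 l1 lu hl0 hl1 hlu with ⟨h0, h1⟩ | hA | ⟨c, hc, hB⟩
  · -- no `x_0`, `x_1` in the target
    by_cases hgi : 1 ≤ Gv (mz n) α (Sum.inr j) lj
    · obtain ⟨c, hcc⟩ := HilbPP.exists_single n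
        (fun l => Gv (mz n) α (Sum.inr j) l - (if l.val = j.val + 1 then 1 else 0)) (by
          intro l
          beta_reduce
          by_cases hl : l.val = j.val + 1
          · obtain rfl : l = lj := Fin.ext (by omega)
            rw [if_pos hl]
            omega
          · rw [if_neg hl]
            have := hpos l
            omega) (by
          rw [Finset.sum_sub_distrib, hs, HilbPP.sum_ind n (j.val + 1) (by omega)]
          norm_num)
      beta_reduce at hcc
      have hj1 : 1 ≤ j.val := by
        by_contra hlt
        have : lj = l1 := Fin.ext (by omega)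
        rw [this] at hgi
        omega
      have hc2 : 2 ≤ c.val := by
        by_contra hlt
        have : c = l0 ∨ c = l1 := by
          by_cases h : c.val = 0
          · left; exact Fin.ext (by omega)
          · right; exact Fin.ext (by omega)
        rcases this with h | h
        · have := hcc l0
          rw [if_neg (by omega), if_pos (by rw [h])] at this
          omega
        · have := hcc l1
          rw [if_neg (by omega), if_pos (by rw [h])] at this
          omega
      have hα : α = HilbQA.aE n c.val 1 := by
        funext l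
        have e1 := hcc l
        have e2 := hγ l
        simp only [HilbQA.aE]
        omega
      have hcn := c.2
      rw [hα]
      exact mem_B1 n _ (by omega) (by omega)
    · exfalso
      have hgi0 : Gv (mz n) α (Sum.inr j) lj = 0 := by
        have := hpos lj
        omega
      rw [hγ] at h0 h1 hgi0
      by_cases hspecial : j.val = 1 ∧ n = 4
      · -- link to `x_1^2`
        have hL : Out n (Lv (mz n) α (Sum.inr j) (Sum.inr ⟨0, by omega⟩)) := by
          refine out_of' n l0 l1 lu hl0 hl1 hlu (fun l => ?_) ?_ ?_ (fun l' h1' h2' => ?_)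
          · have := hpos l
            rw [hγ] at this
            evb1
          · evb1
          · left
            evb1
          · right
            obtain rfl : l' = lj := Fin.ext (by omega)
            evb1
        have := (hlink _ hL).1 lj
        revert this
        evb1
      · -- link to `x_1 x_{t+1}`
        obtain ⟨t, ht1, ht2, ht3⟩ : ∃ t : Fin (n - 2), 1 ≤ t.val ∧ t.val ≠ j.val ∧ t.val ≤ 2 := by
          by_cases h2 : j.val = 1
          · exact ⟨⟨2, by omega⟩, by simp, by simp; omega, by simp⟩
          · exact ⟨⟨1, by omega⟩, by simp, by simp; omega, by simp⟩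
        have hL : Out n (Lv (mz n) α (Sum.inr j) (Sum.inr t)) := by
          refine out_of' n l0 l1 lu hl0 hl1 hlu (fun l => ?_) ?_ ?_ (fun l' h1' h2' => ?_)
          · have := hpos l
            rw [hγ] at this
            evb1
          · evb1
          · left
            evb1
          · left
            evb1
        by_cases hj0 : j.val = 0
        · have := (hlink _ hL).1 l1
          revert this
          evb1
        · have := (hlink _ hL).1 lj
          revert this
          evb1
  · -- the target is `x_0 x_n`
    have hα : α = HilbQA.aF n 0 n 1 (j.val + 1) := by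
      funext l
      have e1 := hA l
      have e2 := hγ l
      simp only [HilbQA.aF]
      omega
    rw [hα]
    exact mem_BFB n j.val (by omega)
  · -- the target is `x_1 x_c`, `c ≥ n - 1`
    have hα : α = HilbQA.aE n c (j.val + 1) := by
      funext l
      have e1 := hB l
      have e2 := hγ l
      simp only [HilbQA.aE]
      omega
    rw [hα]
    by_cases hj0 : j.val = 0
    · rw [hj0]
      exact mem_B1 n c (by omega) (by omega)
    · exact mem_BM n c (j.val + 1) (by omega) (by omega) hc

theorem hbot (k : Type*) [Field k] (hn : 4 ≤ n) (α : Fin (n + 1) → ℤ) (hsum : ∑ l, α l = 0)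
    (hnot : α ∉ Ball n) : ∀ c ∈ V k (m n) α, c = 0 := by
  apply V_eq_zero k (isFrame n hn)
  intro g
  by_contra hk
  push Not at hk
  obtain ⟨h1, h2⟩ := hk
  rcases g with i | j
  · exact hnot (complete_inl n hn α hsum i h1 h2)
  · exact hnot (complete_inr n hn α hsum j h1 h2)

end Groth.Agent.Helper20.HilbQB
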