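import Mathlib
import Groth.Prelude.Def_W4c1hilbpnTgt
import Groth.Agent.Lib.Helper25.HilbTgt
import Groth.Agent.Lib.Helper20.HilbGen
import Groth.Agent.Lib.Helper20.HilbFrame
import Groth.Agent.Lib.Helper20.HilbFrame2
import Groth.Agent.Lib.Helper20.HilbPP5
import Groth.Agent.Lib.Helper20.HilbQA2
import Groth.Agent.Lib.Helper20.HilbQA4
import Groth.Agent.Lib.Helper20.HilbQB1
import Groth.Agent.Lib.Helper20.HilbQB2
import Groth.Agent.Lib.Helper20.HilbQB3
import Groth.Agent.Lib.Helper20.HilbQB4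
import Groth.Agent.Lib.Helper20.HilbQB5
import Groth.Agent.Lib.Helper20.HilbQB6

/-!
The ideal `x_0·(x_0, …, x_{n-1}) + x_1·(x_1, …, x_{n-2})`: the dimension of the degree-0 part of
`Hom(I, S/I)` (helper20).
-/

set_option autoImplicit false

namespace Groth.Agent.Helper20.HilbQB

open MvPolynomial W4c1hilbpn Groth.Agent.Helper25.HilbTgt Groth.Agent.Helper20.HilbGen
  Groth.Agent.Helper20.HilbFrame

variable (n : ℕ)

lemma sum_B0 (k : Type*) [Field k] (hn : 4 ≤ n) :
    ∑ α ∈ B0 n, Module.finrank k (V k (m n) α) = n + 1 := by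
  unfold B0
  rw [Finset.sum_image]
  · have : ∀ b ∈ Finset.Icc 1 n, Module.finrank k (V k (m n) (HilbQA.aE n b 0)) =
        1 + (if b = n then 1 else 0) := by
      intro b hb
      rw [Finset.mem_Icc] at hb
      by_cases hbn : b = n
      · rw [finrank_E0 n k hn b hb.1 hb.2 2 (fun _ => rfl) (fun h => absurd hbn h), if_pos hbn]
      · rw [finrank_E0 n k hn b hb.1 hb.2 1 (fun h => absurd h hbn) (fun _ => rfl), if_neg hbn]
    rw [Finset.sum_congr rfl this, Finset.sum_add_distrib, Finset.sum_const,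
      Finset.sum_ite_eq_of_mem' _ _ _ (Finset.mem_Icc.2 ⟨by omega, le_refl n⟩), Nat.card_Icc,
      smul_eq_mul, mul_one]
    omega
  · intro b hb b' hb' h
    have hb1 := Finset.mem_Icc.1 (Finset.mem_coe.1 hb)
    obtain ⟨l, hl⟩ : ∃ l : Fin (n + 1), l.val = b := ⟨⟨b, by omega⟩, rfl⟩
    have := congrFun h l
    simp only [HilbQA.aE] at this
    omega

lemma sum_B1 (k : Type*) [Field k] (hn : 4 ≤ n) :
    ∑ α ∈ B1 n, Module.finrank k (V k (m n) α) = n + 2 := by
  unfold B1
  rw [Finset.sum_image]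
  · have : ∀ b ∈ Finset.Icc 2 n, Module.finrank k (V k (m n) (HilbQA.aE n b 1)) =
        1 + (if n ≤ b + 1 then 1 else 0) + (if b = n then 1 else 0) := by
      intro b hb
      rw [Finset.mem_Icc] at hb
      by_cases h1 : b = n
      · rw [finrank_E1 n k hn b hb.1 hb.2 3 (fun _ => rfl) (fun h => by omega) (fun h => by omega),
          if_pos (by omega), if_pos h1]
      · by_cases h2 : b + 1 = n
        · rw [finrank_E1 n k hn b hb.1 hb.2 2 (fun h => by omega) (fun _ => rfl)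
            (fun h => by omega), if_pos (by omega), if_neg h1]
        · rw [finrank_E1 n k hn b hb.1 hb.2 1 (fun h => by omega) (fun h => by omega)
            (fun _ => rfl), if_neg (by omega), if_neg h1]
    have e : ∑ b ∈ Finset.Icc 2 n, (if n ≤ b + 1 then 1 else 0) = 2 := by
      rw [Finset.sum_boole]
      have : (Finset.Icc 2 n).filter (fun b => n ≤ b + 1) = Finset.Icc (n - 1) n := by
        ext b
        simp only [Finset.mem_filter, Finset.mem_Icc]
        omega
      rw [this, Nat.card_Icc]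
      have : n + 1 - (n - 1) = 2 := by omega
      rw [this]
      rfl
    rw [Finset.sum_congr rfl this, Finset.sum_add_distrib, Finset.sum_add_distrib,
      Finset.sum_const, e,
      Finset.sum_ite_eq_of_mem' _ _ _ (Finset.mem_Icc.2 ⟨by omega, le_refl n⟩), Nat.card_Icc,
      smul_eq_mul, mul_one]
    omega
  · intro b hb b' hb' h
    have hb1 := Finset.mem_Icc.1 (Finset.mem_coe.1 hb)
    obtain ⟨l, hl⟩ : ∃ l : Fin (n + 1), l.val = b := ⟨⟨b, by omega⟩, rfl⟩
    have := congrFun h l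
    simp only [HilbQA.aE] at this
    omega

lemma sum_BM (k : Type*) [Field k] (hn : 4 ≤ n) :
    ∑ α ∈ BM n, Module.finrank k (V k (m n) α) = 3 * (n - 3) := by
  unfold BM
  rw [Finset.sum_image]
  · have : ∀ x ∈ Finset.Ico 2 (n - 1) ×ˢ Finset.Icc (n - 1) n,
        Module.finrank k (V k (m n) (HilbQA.aE n x.2 x.1)) = 1 + (if x.2 = n then 1 else 0) := by
      intro x hx
      rw [Finset.mem_product, Finset.mem_Ico, Finset.mem_Icc] at hx
      by_cases h1 : x.2 = n
      · rw [finrank_EM n k hn x.2 x.1 (by omega) (by omega) 2 (Or.inl ⟨h1, rfl⟩), if_pos h1]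
      · rw [finrank_EM n k hn x.2 x.1 (by omega) (by omega) 1 (Or.inr ⟨by omega, rfl⟩), if_neg h1]
    rw [Finset.sum_congr rfl this, Finset.sum_product]
    have e : ∀ a ∈ Finset.Ico 2 (n - 1),
        ∑ b ∈ Finset.Icc (n - 1) n, (1 + (if b = n then 1 else 0)) = 3 := by
      intro a _
      rw [Finset.sum_add_distrib, Finset.sum_const,
        Finset.sum_ite_eq_of_mem' _ _ _ (Finset.mem_Icc.2 ⟨by omega, le_refl n⟩), Nat.card_Icc,
        smul_eq_mul, mul_one]
      omega
    rw [Finset.sum_congr rfl e, Finset.sum_const, Nat.card_Ico, smul_eq_mul]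
    omega
  · intro x hx x' hx' h
    have hx1 := Finset.mem_product.1 (Finset.mem_coe.1 hx)
    have hx1' := Finset.mem_product.1 (Finset.mem_coe.1 hx')
    rw [Finset.mem_Ico, Finset.mem_Icc] at hx1 hx1'
    obtain ⟨la, hla⟩ : ∃ l : Fin (n + 1), l.val = x.1 := ⟨⟨x.1, by omega⟩, rfl⟩
    obtain ⟨lb, hlb⟩ : ∃ l : Fin (n + 1), l.val = x.2 := ⟨⟨x.2, by omega⟩, rfl⟩
    have e1 := congrFun h la
    have e2 := congrFun h lb
    simp only [HilbQA.aE] at e1 e2
    apply Prod.ext <;> omega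

lemma sum_BFB (k : Type*) [Field k] (hn : 4 ≤ n) :
    ∑ α ∈ BFB n, Module.finrank k (V k (m n) α) = n - 2 := by
  unfold BFB
  rw [Finset.sum_image]
  · have : ∀ j0 ∈ Finset.range (n - 2),
        Module.finrank k (V k (m n) (HilbQA.aF n 0 n 1 (j0 + 1))) = 1 := by
      intro j0 hj0
      rw [Finset.mem_range] at hj0
      exact finrank_FB n k hn j0 (by omega)
    rw [Finset.sum_congr rfl this, Finset.sum_const, Finset.card_range, smul_eq_mul, mul_one]
  · intro j0 hj0 j0' hj0' h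
    have h1 := Finset.mem_range.1 (Finset.mem_coe.1 hj0)
    have h1' := Finset.mem_range.1 (Finset.mem_coe.1 hj0')
    obtain ⟨l, hl⟩ : ∃ l : Fin (n + 1), l.val = j0 + 1 := ⟨⟨j0 + 1, by omega⟩, rfl⟩
    have := congrFun h l
    simp only [HilbQA.aF] at this
    omega

lemma B0_prop (hn : 4 ≤ n) {α : Fin (n + 1) → ℤ} (hα : α ∈ B0 n) (l0 lu : Fin (n + 1))
    (hl0 : l0.val = 0) (hlu : lu.val + 1 = n) : α l0 = -1 ∧ 0 ≤ α lu := by
  rw [B0, Finset.mem_image] at hα
  obtain ⟨b, hb, rfl⟩ := hα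
  rw [Finset.mem_Icc] at hb
  constructor <;> simp only [HilbQA.aE] <;> omega

lemma B1_prop {α : Fin (n + 1) → ℤ} (hα : α ∈ B1 n) (l0 l1 : Fin (n + 1))
    (hl0 : l0.val = 0) (hl1 : l1.val = 1) : α l0 = 0 ∧ α l1 = -1 := by
  rw [B1, Finset.mem_image] at hα
  obtain ⟨b, hb, rfl⟩ := hα
  rw [Finset.mem_Icc] at hb
  constructor <;> simp only [HilbQA.aE] <;> omega

lemma BM_prop {α : Fin (n + 1) → ℤ} (hα : α ∈ BM n) (l0 l1 lu : Fin (n + 1))
    (hl0 : l0.val = 0) (hl1 : l1.val = 1) (hlu : lu.val + 1 = n) :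
    α l0 = 0 ∧ α l1 = 0 ∧ 0 ≤ α lu := by
  rw [BM, Finset.mem_image] at hα
  obtain ⟨x, hx, rfl⟩ := hα
  rw [Finset.mem_product, Finset.mem_Ico, Finset.mem_Icc] at hx
  refine ⟨?_, ?_, ?_⟩ <;> simp only [HilbQA.aE] <;> omega

lemma BU_prop (hn : 4 ≤ n) {α : Fin (n + 1) → ℤ} (hα : α ∈ BU n) (l0 l1 lu : Fin (n + 1))
    (hl0 : l0.val = 0) (hl1 : l1.val = 1) (hlu : lu.val + 1 = n) :
    α l0 = 0 ∧ α l1 = 0 ∧ α lu = -1 := by
  rw [BU, Finset.mem_singleton] at hα
  subst hα
  refine ⟨?_, ?_, ?_⟩ <;> simp only [HilbQA.aE] <;> omega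

lemma BF1_prop (hn : 4 ≤ n) {α : Fin (n + 1) → ℤ} (hα : α ∈ BF1 n) (l0 lu : Fin (n + 1))
    (hl0 : l0.val = 0) (hlu : lu.val + 1 = n) : α l0 = -1 ∧ α lu = -1 := by
  rw [BF1, Finset.mem_singleton] at hα
  subst hα
  constructor <;> simp only [HilbQA.aF] <;> omega

lemma BFB_prop (hn : 4 ≤ n) {α : Fin (n + 1) → ℤ} (hα : α ∈ BFB n) (l0 : Fin (n + 1))
    (hl0 : l0.val = 0) : α l0 = 1 := by
  rw [BFB, Finset.mem_image] at hα
  obtain ⟨j0, hj0, rfl⟩ := hα
  rw [Finset.mem_range] at hj0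
  simp only [HilbQA.aF]
  omega

theorem Ball_sum (hn : 4 ≤ n) : ∀ α ∈ Ball n, ∑ l, α l = 0 := by
  intro α hα
  unfold Ball at hα
  simp only [Finset.mem_union] at hα
  rcases hα with ((((h | h) | h) | h) | h) | h
  · rw [B0, Finset.mem_image] at h
    obtain ⟨b, hb, rfl⟩ := h
    rw [Finset.mem_Icc] at hb
    exact HilbQA.sum_aE n _ _ (by omega) (by omega)
  · rw [B1, Finset.mem_image] at h
    obtain ⟨b, hb, rfl⟩ := h
    rw [Finset.mem_Icc] at hb
    exact HilbQA.sum_aE n _ _ (by omega) (by omega)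
  · rw [BM, Finset.mem_image] at h
    obtain ⟨x, hx, rfl⟩ := h
    rw [Finset.mem_product, Finset.mem_Ico, Finset.mem_Icc] at hx
    exact HilbQA.sum_aE n _ _ (by omega) (by omega)
  · rw [BU, Finset.mem_singleton] at h
    rw [h]
    exact HilbQA.sum_aE n _ _ (by omega) (by omega)
  · rw [BF1, Finset.mem_singleton] at h
    rw [h]
    exact HilbQA.sum_aF n _ _ _ _ (by omega) (by omega) (by omega) (by omega)
  · rw [BFB, Finset.mem_image] at h
    obtain ⟨j0, hj0, rfl⟩ := h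
    rw [Finset.mem_range] at hj0
    exact HilbQA.sum_aF n _ _ _ _ (by omega) (by omega) (by omega) (by omega)

theorem total (k : Type*) [Field k] (hn : 4 ≤ n) :
    ∑ α ∈ Ball n, Module.finrank k (V k (m n) α) = 6 * n - 6 := by
  obtain ⟨l0, hl0⟩ : ∃ l : Fin (n + 1), l.val = 0 := ⟨⟨0, by omega⟩, rfl⟩
  obtain ⟨l1, hl1⟩ : ∃ l : Fin (n + 1), l.val = 1 := ⟨⟨1, by omega⟩, rfl⟩
  obtain ⟨lu, hlu⟩ : ∃ l : Fin (n + 1), l.val + 1 = n := ⟨⟨n - 1, by omega⟩, by
    show n - 1 + 1 = n; omega⟩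
  have d1 : Disjoint (B0 n) (B1 n) := by
    rw [Finset.disjoint_left]
    intro α h0 h1
    have := B0_prop n hn h0 l0 lu hl0 hlu
    have := B1_prop n h1 l0 l1 hl0 hl1
    omega
  have d2 : Disjoint (B0 n ∪ B1 n) (BM n) := by
    rw [Finset.disjoint_left]
    intro α h h2
    have := BM_prop n h2 l0 l1 lu hl0 hl1 hlu
    rcases Finset.mem_union.1 h with h0 | h1
    · have := B0_prop n hn h0 l0 lu hl0 hlu
      omega
    · have := B1_prop n h1 l0 l1 hl0 hl1
      omega
  have d3 : Disjoint (B0 n ∪ B1 n ∪ BM n) (BU n) := by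
    rw [Finset.disjoint_left]
    intro α h h3
    have := BU_prop n hn h3 l0 l1 lu hl0 hl1 hlu
    rcases Finset.mem_union.1 h with h | h2
    · rcases Finset.mem_union.1 h with h0 | h1
      · have := B0_prop n hn h0 l0 lu hl0 hlu
        omega
      · have := B1_prop n h1 l0 l1 hl0 hl1
        omega
    · have := BM_prop n h2 l0 l1 lu hl0 hl1 hlu
      omega
  have d4 : Disjoint (B0 n ∪ B1 n ∪ BM n ∪ BU n) (BF1 n) := by
    rw [Finset.disjoint_left]
    intro α h h4
    have := BF1_prop n hn h4 l0 lu hl0 hlu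
    rcases Finset.mem_union.1 h with h | h3
    · rcases Finset.mem_union.1 h with h | h2
      · rcases Finset.mem_union.1 h with h0 | h1
        · have := B0_prop n hn h0 l0 lu hl0 hlu
          omega
        · have := B1_prop n h1 l0 l1 hl0 hl1
          omega
      · have := BM_prop n h2 l0 l1 lu hl0 hl1 hlu
        omega
    · have := BU_prop n hn h3 l0 l1 lu hl0 hl1 hlu
      omega
  have d5 : Disjoint (B0 n ∪ B1 n ∪ BM n ∪ BU n ∪ BF1 n) (BFB n) := by
    rw [Finset.disjoint_left]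
    intro α h h5
    have := BFB_prop n hn h5 l0 hl0
    rcases Finset.mem_union.1 h with h | h4
    · rcases Finset.mem_union.1 h with h | h3
      · rcases Finset.mem_union.1 h with h | h2
        · rcases Finset.mem_union.1 h with h0 | h1
          · have := B0_prop n hn h0 l0 lu hl0 hlu
            omega
          · have := B1_prop n h1 l0 l1 hl0 hl1
            omega
        · have := BM_prop n h2 l0 l1 lu hl0 hl1 hlu
          omega
      · have := BU_prop n hn h3 l0 l1 lu hl0 hl1 hlu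
        omega
    · have := BF1_prop n hn h4 l0 lu hl0 hlu
      omega
  unfold Ball
  rw [Finset.sum_union d5, Finset.sum_union d4, Finset.sum_union d3, Finset.sum_union d2,
    Finset.sum_union d1, sum_B0 n k hn, sum_B1 n k hn, sum_BM n k hn, sum_BFB n k hn]
  unfold BU BF1
  rw [Finset.sum_singleton, Finset.sum_singleton, finrank_EU n k hn, finrank_F1 n k hn]
  omega

/-- the dimension of the degree-0 part of `Hom(I, S/I)` for
`I = x_0 (x_0..x_{n-1}) + x_1 (x_1..x_{n-2})` -/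
theorem main (k : Type*) [Field k] (hn : 4 ≤ n) :
    Module.finrank k ↥(⨆ α : {α : Fin (n + 1) → ℤ // ∑ i, α i = 0},
      tPiece (Ideal.span ({f : MvPolynomial (Fin (n + 1)) k | ∃ i : Fin (n + 1),
        i.val + 1 ≤ n ∧ f = X 0 * X i} ∪ {f : MvPolynomial (Fin (n + 1)) k |
        ∃ i : Fin (n + 1), 1 ≤ i.val ∧ i.val ≤ n - 2 ∧ f = X 1 * X i})) α.1) = 6 * n - 6 := by
  rw [ideal_eq n k (by omega)]
  have := finrank_iSup_tPiece k (m n) (Ball n) (fun α => ∑ i, α i = 0)
    (Ball_sum n hn) (fun α hα hnot => hbot n k hn α hα hnot)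
  rw [this]
  exact total n k hn

end Groth.Agent.Helper20.HilbQB
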