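import Mathlib
import Groth.Prelude.Def_W4c1hilbpnTgt
import Groth.Agent.Lib.Helper25.HilbTgt
import Groth.Agent.Lib.Helper20.HilbGen
import Groth.Agent.Lib.Helper20.HilbFrame

/-!
The ideal `x_0·(x_0, …, x_{n-1}) + x_1^q·(x_1, …, x_s)`: generators and the monomials outside it
(helper20).
-/

set_option autoImplicit false

namespace Groth.Agent.Helper20.HilbQC

open MvPolynomial W4c1hilbpn Groth.Agent.Helper25.HilbTgt Groth.Agent.Helper20.HilbGen
  Groth.Agent.Helper20.HilbFrame

variable (n q s : ℕ)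

/-- exponent vectors of the generators `x_0 x_i` (`i ≤ n - 1`) and `x_1^q x_{j+1}` (`j + 1 ≤ s`) -/
def mfun : Fin n ⊕ Fin s → Fin (n + 1) → ℕ
  | Sum.inl i, l => (if l.val = 0 then 1 else 0) + (if l.val = i.val then 1 else 0)
  | Sum.inr j, l => (if l.val = 1 then q else 0) + (if l.val = j.val + 1 then 1 else 0)

noncomputable def m (p : Fin n ⊕ Fin s) : Fin (n + 1) →₀ ℕ :=
  Finsupp.equivFunOnFinite.symm (mfun n q s p)

lemma m_apply (p : Fin n ⊕ Fin s) (l : Fin (n + 1)) : m n q s p l = mfun n q s p l := rfl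

/-- integer version of `mfun` -/
def mz : Fin n ⊕ Fin s → Fin (n + 1) → ℤ
  | Sum.inl i, l => (if l.val = 0 then 1 else 0) + (if l.val = i.val then 1 else 0)
  | Sum.inr j, l => (if l.val = 1 then (q : ℤ) else 0) + (if l.val = j.val + 1 then 1 else 0)

lemma cast_mfun (p : Fin n ⊕ Fin s) (l : Fin (n + 1)) :
    ((mfun n q s p l : ℕ) : ℤ) = mz n q s p l := by
  rcases p with i | j
  · simp only [mfun, mz]
    split_ifs <;> simp
  · simp only [mfun, mz]
    split_ifs <;> simp

lemma val_one_fin (hn : 1 ≤ n) : ((1 : Fin (n + 1)) : ℕ) = 1 := by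
  rw [Fin.val_one']
  exact Nat.mod_eq_of_lt (by omega)

lemma monomial_inl (k : Type*) [Field k] (i : Fin n) (a b : Fin (n + 1))
    (ha : a.val = 0) (hb : b.val = i.val) :
    (monomial (m n q s (Sum.inl i)) (1 : k) : MvPolynomial (Fin (n + 1)) k) = X a * X b := by
  have e : m n q s (Sum.inl i) = Finsupp.single a 1 + Finsupp.single b 1 := by
    ext l
    rw [m_apply, Finsupp.add_apply, Finsupp.single_apply, Finsupp.single_apply]
    simp only [mfun, Fin.ext_iff]
    split_ifs <;> omega
  rw [e, X, X, monomial_mul, one_mul]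

lemma monomial_inr (k : Type*) [Field k] (j : Fin s) (a b : Fin (n + 1))
    (ha : a.val = 1) (hb : b.val = j.val + 1) :
    (monomial (m n q s (Sum.inr j)) (1 : k) : MvPolynomial (Fin (n + 1)) k) = X a ^ q * X b := by
  have e : m n q s (Sum.inr j) = Finsupp.single a q + Finsupp.single b 1 := by
    ext l
    rw [m_apply, Finsupp.add_apply, Finsupp.single_apply, Finsupp.single_apply]
    simp only [mfun, Fin.ext_iff]
    split_ifs <;> omega
  rw [e, X_pow_eq_monomial, X, monomial_mul, one_mul]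

lemma ideal_eq (k : Type*) [Field k] (hn : 3 ≤ n) (hs : s + 1 ≤ n) :
    Ideal.span ({f : MvPolynomial (Fin (n + 1)) k | ∃ i : Fin (n + 1), i.val + 1 ≤ n ∧
      f = X 0 * X i} ∪ {f : MvPolynomial (Fin (n + 1)) k | ∃ i : Fin (n + 1), 1 ≤ i.val ∧
      i.val ≤ s ∧ f = X 1 ^ q * X i}) = genIdeal k (m n q s) := by
  have h1 := val_one_fin n (by omega)
  have h0 : ((0 : Fin (n + 1)) : ℕ) = 0 := Fin.val_zero _
  unfold genIdeal
  congr 1
  ext f
  simp only [Set.mem_union, Set.mem_setOf_eq, Set.mem_range]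
  constructor
  · rintro (⟨i, hi, rfl⟩ | ⟨i, hi1, hi2, rfl⟩)
    · exact ⟨Sum.inl ⟨i.val, by omega⟩, monomial_inl n q s k _ 0 i h0 rfl⟩
    · exact ⟨Sum.inr ⟨i.val - 1, by omega⟩, monomial_inr n q s k _ 1 i h1
        (by show i.val = i.val - 1 + 1; omega)⟩
  · rintro ⟨p, rfl⟩
    rcases p with i | j
    · left
      have := i.2
      exact ⟨⟨i.val, by omega⟩, by show i.val + 1 ≤ n; omega, monomial_inl n q s k i 0 _ h0 rfl⟩
    · right
      have := j.2
      exact ⟨⟨j.val + 1, by omega⟩, by show 1 ≤ j.val + 1; omega,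
        by show j.val + 1 ≤ s; omega, monomial_inr n q s k j 1 _ h1 rfl⟩

/-- the integer vector `γ` is the exponent of a monomial outside the ideal -/
def Out (γ : Fin (n + 1) → ℤ) : Prop :=
  (∀ l, 0 ≤ γ l) ∧ ∀ l0 l1 : Fin (n + 1), l0.val = 0 → l1.val = 1 →
    γ l0 ≤ 1 ∧ γ l1 ≤ q ∧
    (∀ l' : Fin (n + 1), 1 ≤ l'.val → l'.val < n → γ l0 = 0 ∨ γ l' = 0) ∧
    (∀ l' : Fin (n + 1), 2 ≤ l'.val → l'.val ≤ s → γ l1 < q ∨ γ l' = 0)

lemma out_of' {γ : Fin (n + 1) → ℤ} (l0 l1 : Fin (n + 1)) (hl0 : l0.val = 0)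
    (hl1 : l1.val = 1)
    (h1 : ∀ l, 0 ≤ γ l) (h2 : γ l0 ≤ 1) (h3 : γ l1 ≤ q)
    (h4 : ∀ l' : Fin (n + 1), 1 ≤ l'.val → l'.val < n → γ l0 = 0 ∨ γ l' = 0)
    (h5 : ∀ l' : Fin (n + 1), 2 ≤ l'.val → l'.val ≤ s → γ l1 < q ∨ γ l' = 0) :
    Out n q s γ := by
  refine ⟨h1, fun l0' l1' hl0' hl1' => ?_⟩
  obtain rfl : l0' = l0 := Fin.ext (by omega)
  obtain rfl : l1' = l1 := Fin.ext (by omega)
  exact ⟨h2, h3, h4, h5⟩

theorem isFrame (hn : 3 ≤ n) (hs1 : 1 ≤ s) (hs : s + 1 ≤ n) :
    IsFrame (m n q s) (mz n q s) (Out n q s) where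
  hmz := fun p l => by rw [m_apply, cast_mfun]
  hOut := by
    intro α β
    rw [alive_iff]
    have hcast : ∀ t l, ((m n q s t l : ℕ) : ℤ) = mz n q s t l :=
      fun t l => by rw [m_apply, cast_mfun]
    simp only [hcast]
    constructor
    · rintro ⟨hpos, h⟩
      refine ⟨hpos, fun l0 l1 hl0 hl1 => ⟨?_, ?_, fun l' h1' h2' => ?_, fun l' h1' h2' => ?_⟩⟩
      · beta_reduce
        obtain ⟨a, ha⟩ := h (Sum.inl ⟨0, by omega⟩)
        have ha' := hpos a
        simp only [mz] at ha
        by_cases ha0 : a.val = 0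
        · obtain rfl : a = l0 := Fin.ext (by omega)
          omega
        · omega
      · beta_reduce
        obtain ⟨a, ha⟩ := h (Sum.inr ⟨0, by omega⟩)
        have ha' := hpos a
        simp only [mz] at ha
        by_cases ha0 : a.val = 1
        · obtain rfl : a = l1 := Fin.ext (by omega)
          omega
        · omega
      · beta_reduce
        obtain ⟨a, ha⟩ := h (Sum.inl ⟨l'.val, by omega⟩)
        have ha' := hpos a
        have h0' := hpos l0
        have hl'' := hpos l'
        simp only [mz] at ha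
        by_cases ha0 : a.val = 0
        · obtain rfl : a = l0 := Fin.ext (by omega)
          left
          omega
        · by_cases ha2 : a.val = l'.val
          · obtain rfl : a = l' := Fin.ext ha2
            right
            omega
          · omega
      · beta_reduce
        obtain ⟨a, ha⟩ := h (Sum.inr ⟨l'.val - 1, by omega⟩)
        have ha' := hpos a
        have h0' := hpos l1
        have hl'' := hpos l'
        simp only [mz] at ha
        by_cases ha0 : a.val = 1
        · obtain rfl : a = l1 := Fin.ext (by omega)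
          left
          omega
        · by_cases ha2 : a.val = l'.val
          · obtain rfl : a = l' := Fin.ext ha2
            right
            omega
          · omega
    · rintro ⟨hpos, h⟩
      refine ⟨hpos, fun t => ?_⟩
      obtain ⟨h2, h3, h4, h5⟩ := h ⟨0, by omega⟩ ⟨1, by omega⟩ rfl rfl
      beta_reduce at h2 h3 h4 h5
      have hp0 := hpos ⟨0, by omega⟩
      have hp1 := hpos ⟨1, by omega⟩
      beta_reduce at hp0 hp1
      rcases t with i | j
      · have hi := i.2
        by_cases hi0 : i.val = 0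
        · refine ⟨⟨0, by omega⟩, ?_⟩
          simp only [mz, ↓reduceIte]
          omega
        · rcases h4 ⟨i.val, by omega⟩ (by show 1 ≤ i.val; omega) (by show i.val < n; omega)
            with h' | h'
          · refine ⟨⟨0, by omega⟩, ?_⟩
            simp only [mz, ↓reduceIte]
            omega
          · refine ⟨⟨i.val, by omega⟩, ?_⟩
            simp only [mz, ↓reduceIte]
            omega
      · have hj := j.2
        by_cases hj0 : j.val = 0
        · refine ⟨⟨1, by omega⟩, ?_⟩
          simp only [mz, ↓reduceIte]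
          omega
        · rcases h5 ⟨j.val + 1, by omega⟩ (by show 2 ≤ j.val + 1; omega)
            (by show j.val + 1 ≤ s; omega) with h' | h'
          · refine ⟨⟨1, by omega⟩, ?_⟩
            simp only [mz, ↓reduceIte]
            omega
          · refine ⟨⟨j.val + 1, by omega⟩, ?_⟩
            simp only [mz, ↓reduceIte]
            omega

end Groth.Agent.Helper20.HilbQC
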