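import Mathlib
import Groth.Prelude.Def_W4c1hilbpnTgt
import Groth.Agent.Lib.Helper25.HilbTgt
import Groth.Agent.Lib.Helper20.HilbGen
import Groth.Agent.Lib.Helper20.HilbFrame
import Groth.Agent.Lib.Helper20.HilbFrame2
import Groth.Agent.Lib.Helper20.HilbQA2
import Groth.Agent.Lib.Helper20.HilbQC1

/-!
The ideal `x_0·(x_0, …, x_{n-1}) + x_1^q·(x_1, …, x_s)`: the pieces of multidegree `e_b - e_0`
(helper20).
-/

set_option autoImplicit false

namespace Groth.Agent.Helper20.HilbQC

open MvPolynomial W4c1hilbpn Groth.Agent.Helper25.HilbTgt Groth.Agent.Helper20.HilbGen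
  Groth.Agent.Helper20.HilbFrame

variable (n q s : ℕ)

/-- unfold and decide -/
macro "evc" : tactic =>
  `(tactic| (simp only [HilbFrame.Gv, HilbFrame.Lv, mz, HilbQA.aE, HilbQA.aF, Fin.val_mk,
    ↓reduceIte] at *; omega))

/-- unfold and decide, at the goal only -/
macro "evc1" : tactic =>
  `(tactic| (simp only [HilbFrame.Gv, HilbFrame.Lv, mz, HilbQA.aE, HilbQA.aF, Fin.val_mk,
    ↓reduceIte]; omega))

/-- `x_i x_b` is outside the ideal (`1 ≤ b ≤ n - 1`) -/
def aliveA (i b : ℕ) : Prop :=
  (i = 1 ∧ b = 1 ∧ 2 ≤ q) ∨ (i = 1 ∧ 2 ≤ b ∧ b ≤ s ∧ 2 ≤ q) ∨ (i = 1 ∧ s < b) ∨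
    (2 ≤ i ∧ i ≤ s ∧ b = 1 ∧ 2 ≤ q) ∨ (2 ≤ i ∧ i ≤ s ∧ 2 ≤ b) ∨ (s < i)

instance (i b : ℕ) : Decidable (aliveA q s i b) := by
  unfold aliveA
  infer_instance

/-- the code of the components for the multidegree `e_b - e_0` -/
def czA (b : ℕ) : Fin n ⊕ Fin s → ℤ
  | Sum.inl i => if b = n then (if i.val = 0 then 2 else 1)
      else if aliveA q s i.val b then 1 else 0
  | Sum.inr _ => 0

theorem finrank_A (k : Type*) [Field k] (hn : 4 ≤ n) (hq : 1 ≤ q) (hs2 : 2 ≤ s)
    (hsn : s + 2 ≤ n) (b : ℕ) (hb1 : 1 ≤ b) (hbn : b ≤ n)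
    (d : ℕ) (hd2 : b = n → d = 2) (hd1 : b ≠ n → d = 1) :
    Module.finrank k (V k (m n q s) (HilbQA.aE n b 0)) = d := by
  obtain ⟨l0, hl0⟩ : ∃ l : Fin (n + 1), l.val = 0 := ⟨⟨0, by omega⟩, rfl⟩
  obtain ⟨l1, hl1⟩ : ∃ l : Fin (n + 1), l.val = 1 := ⟨⟨1, by omega⟩, rfl⟩
  obtain ⟨lb, hlb⟩ : ∃ l : Fin (n + 1), l.val = b := ⟨⟨b, by omega⟩, rfl⟩
  have hF := isFrame n q s (by omega) (by omega) (by omega)
  have hd3 : d ≤ 3 := by
    by_cases h : b = n
    · have := hd2 h; omega
    · have := hd1 h; omega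
  have hdead : ∀ g, czA n q s b g = 0 → ¬ Out n q s (Gv (mz n q s) (HilbQA.aE n b 0) g) := by
    rintro (i | j) hp ho
    · have hi := i.2
      obtain ⟨f1, f2⟩ := ho
      obtain ⟨f2, f3, f4, f5⟩ := f2 l0 l1 hl0 hl1
      have g1 := f4 lb
      have g2 := f5 lb
      have g3 := f5 ⟨i.val, by omega⟩
      simp only [Fin.val_mk] at g3
      clear f1 f4 f5
      simp only [czA, aliveA] at hp
      evc
    · have := ho.1 l0
      evc
  apply finrank_V_code_le3 k hF _ (czA n q s b) d hd3 (Sum.inl ⟨n - 1, by omega⟩)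
    (Sum.inl ⟨0, by omega⟩) (Sum.inl ⟨0, by omega⟩)
  · refine ⟨fun _ => ?_, fun h => ?_, fun h => ?_⟩
    · simp only [czA, Fin.val_mk]
      by_cases hb : b = n
      · rw [if_pos hb, if_neg (by omega)]
      · rw [if_neg hb, if_pos]
        unfold aliveA
        omega
    · have hb : b = n := by
        by_contra hb
        have := hd1 hb
        omega
      simp only [czA, Fin.val_mk, if_pos hb, ↓reduceIte]
    · exfalso
      by_cases hb : b = n
      · have := hd2 hb; omega
      · have := hd1 hb; omega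
  · intro g hg
    exact Or.inl (hdead g hg)
  · rintro (i | j)
    · have hi := i.2
      refine ⟨fun h => ?_, fun h => ?_, fun h => ?_⟩
      · by_cases hiu : i.val = n - 1
        · left
          exact congrArg Sum.inl (Fin.ext (by simp only [Fin.val_mk]; omega))
        · right
          simp only [czA, aliveA] at h
          refine out_of' n q s l0 l1 hl0 hl1 (fun l => ?_) ?_ ?_ (fun l' h1 h2 => ?_)
            (fun l' h1 h2 => ?_)
          · evc1
          · evc1
          · evc1
          · evc1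
          · evc1
      · left
        simp only [czA, aliveA] at h
        exact congrArg Sum.inl (Fin.ext (by simp only [Fin.val_mk]; omega))
      · exfalso
        simp only [czA, aliveA] at h
        omega
    · refine ⟨fun h => ?_, fun h => ?_, fun h => ?_⟩ <;> simp only [czA] at h <;> omega
  · rintro (i | j) hnot
    · have hi := i.2
      by_contra hne
      apply hnot
      simp only [czA, aliveA] at hne
      refine out_of' n q s l0 l1 hl0 hl1 (fun l => ?_) ?_ ?_ (fun l' h1 h2 => ?_)
        (fun l' h1 h2 => ?_)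
      · evc1
      · evc1
      · evc1
      · evc1
      · evc1
    · rfl
  · rintro (i | j) (i' | j') ho
    · have hi := i.2
      have hi' := i'.2
      have a1 : Out n q s (Gv (mz n q s) (HilbQA.aE n b 0) (Sum.inl i)) :=
        out_Gv_left hF ho (fun l => by evc1)
      have a2 : Out n q s (Gv (mz n q s) (HilbQA.aE n b 0) (Sum.inl i')) :=
        out_Gv_right hF ho (fun l => by evc1)
      have c1 : czA n q s b (Sum.inl i) ≠ 0 := fun h => hdead _ h a1
      have c2 : czA n q s b (Sum.inl i') ≠ 0 := fun h => hdead _ h a2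
      by_cases hb : b = n
      · by_cases h0 : i.val = 0 <;> by_cases h0' : i'.val = 0
        · simp only [czA]
          rw [if_pos hb, if_pos hb, if_pos h0, if_pos h0']
        · exfalso
          obtain ⟨f1, f2⟩ := ho
          obtain ⟨f2, f3, f4, f5⟩ := f2 l0 l1 hl0 hl1
          have g2 := f4 ⟨i'.val, by omega⟩
          simp only [Fin.val_mk] at g2
          have e0 : Lv (mz n q s) (HilbQA.aE n b 0) (Sum.inl i) (Sum.inl i') l0 = 1 := by evc1
          have ei : 1 ≤ Lv (mz n q s) (HilbQA.aE n b 0) (Sum.inl i) (Sum.inl i')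
              ⟨i'.val, by omega⟩ := by evc1
          clear a1 a2 c1 c2 f1 f5
          omega
        · exfalso
          obtain ⟨f1, f2⟩ := ho
          obtain ⟨f2, f3, f4, f5⟩ := f2 l0 l1 hl0 hl1
          have g2 := f4 ⟨i.val, by omega⟩
          simp only [Fin.val_mk] at g2
          have e0 : Lv (mz n q s) (HilbQA.aE n b 0) (Sum.inl i) (Sum.inl i') l0 = 1 := by evc1
          have ei : 1 ≤ Lv (mz n q s) (HilbQA.aE n b 0) (Sum.inl i) (Sum.inl i')
              ⟨i.val, by omega⟩ := by evc1
          clear a1 a2 c1 c2 f1 f5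
          omega
        · simp only [czA]
          rw [if_pos hb, if_pos hb, if_neg h0, if_neg h0']
      · simp only [czA, if_neg hb] at c1 c2 ⊢
        by_cases x1 : aliveA q s i.val b <;> by_cases x2 : aliveA q s i'.val b
        · rw [if_pos x1, if_pos x2]
        · rw [if_neg x2] at c2
          exact absurd rfl c2
        · rw [if_neg x1] at c1
          exact absurd rfl c1
        · rw [if_neg x1] at c1
          exact absurd rfl c1
    · exfalso
      have hi := i.2
      exact not_out_of_ge hF (Sum.inr j') (fun l => by evc1) ho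
    · exfalso
      have hi' := i'.2
      exact not_out_of_ge hF (Sum.inr j) (fun l => by evc1) ho
    · rfl
  · rintro (i | j)
    · simp only [czA]
      by_cases hb : b = n
      · have := hd2 hb
        rw [if_pos hb]
        split_ifs <;> omega
      · have := hd1 hb
        rw [if_neg hb]
        split_ifs <;> omega
    · simp only [czA]
      omega

end Groth.Agent.Helper20.HilbQC
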