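import Mathlib
import Groth.Prelude.Def_W4c1hilbpnTgt
import Groth.Agent.Lib.Helper25.HilbTgt
import Groth.Agent.Lib.Helper20.HilbGen
import Groth.Agent.Lib.Helper20.HilbFrame
import Groth.Agent.Lib.Helper20.HilbFrame2
import Groth.Agent.Lib.Helper20.HilbPP3
import Groth.Agent.Lib.Helper20.HilbQA2
import Groth.Agent.Lib.Helper20.HilbQC1
import Groth.Agent.Lib.Helper20.HilbQC2

/-!
The ideal `x_0·(x_0, …, x_{n-1}) + x_1^q·(x_1, …, x_s)`: the pieces of multidegree `μ - q e_1`
(helper20).
-/

set_option autoImplicit false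

namespace Groth.Agent.Helper20.HilbQC

open MvPolynomial W4c1hilbpn Groth.Agent.Helper25.HilbTgt Groth.Agent.Helper20.HilbGen
  Groth.Agent.Helper20.HilbFrame

variable (n q s : ℕ)

/-- unfold and decide -/
macro "evn" : tactic =>
  `(tactic| (simp only [HilbFrame.Gv, HilbFrame.Lv, mz, HilbPP.aN, Fin.val_mk,
    ↓reduceIte] at *; omega))

/-- unfold and decide, at the goal only -/
macro "evn1" : tactic =>
  `(tactic| (simp only [HilbFrame.Gv, HilbFrame.Lv, mz, HilbPP.aN, Fin.val_mk,
    ↓reduceIte]; omega))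

theorem B_zero (k : Type*) [Field k] (hn : 4 ≤ n) (hq : 1 ≤ q) (hs2 : 2 ≤ s)
    (hsn : s + 2 ≤ n) (μ : Fin (n + 1) → ℕ) (l1 : Fin (n + 1)) (hl1 : l1.val = 1)
    (h : q ≤ μ l1) : ∀ c ∈ V k (m n q s) (HilbPP.aN n q μ), c = 0 := by
  obtain ⟨l0, hl0⟩ : ∃ l : Fin (n + 1), l.val = 0 := ⟨⟨0, by omega⟩, rfl⟩
  have hF := isFrame n q s (by omega) (by omega) (by omega)
  apply V_eq_zero k hF
  rintro (i | j)
  · left
    intro ho
    have hi := i.2
    obtain ⟨f1, f2⟩ := ho
    obtain ⟨f2, f3, f4, f5⟩ := f2 l0 l1 hl0 hl1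
    by_cases hi0 : i.val = 0
    · have e0 : 2 ≤ Gv (mz n q s) (HilbPP.aN n q μ) (Sum.inl i) l0 := by evn1
      omega
    · have g := f4 ⟨i.val, by omega⟩ (by show 1 ≤ i.val; omega) hi
      have e0 : 1 ≤ Gv (mz n q s) (HilbPP.aN n q μ) (Sum.inl i) l0 := by evn1
      have e1 : 1 ≤ Gv (mz n q s) (HilbPP.aN n q μ) (Sum.inl i) ⟨i.val, by omega⟩ := by
        by_cases hi1 : i.val = 1
        · have : (⟨i.val, by omega⟩ : Fin (n + 1)) = l1 := Fin.ext (by simp only [Fin.val_mk]; omega)
          rw [this]
          evn1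
        · evn1
      omega
  · left
    intro ho
    have hj := j.2
    obtain ⟨f1, f2⟩ := ho
    obtain ⟨f2, f3, f4, f5⟩ := f2 l0 l1 hl0 hl1
    by_cases hj0 : j.val = 0
    · have e1 : (q : ℤ) + 1 ≤ Gv (mz n q s) (HilbPP.aN n q μ) (Sum.inr j) l1 := by evn1
      omega
    · have g := f5 ⟨j.val + 1, by omega⟩ (by show 2 ≤ j.val + 1; omega)
        (by show j.val + 1 ≤ s; omega)
      have e1 : (q : ℤ) ≤ Gv (mz n q s) (HilbPP.aN n q μ) (Sum.inr j) l1 := by evn1
      have e2 : 1 ≤ Gv (mz n q s) (HilbPP.aN n q μ) (Sum.inr j) ⟨j.val + 1, by omega⟩ := by evn1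
      omega

/-- the code selecting the generators `x_1^q x_j` -/
def czBig : Fin n ⊕ Fin s → ℤ
  | Sum.inl _ => 0
  | Sum.inr _ => 1

theorem B_big (k : Type*) [Field k] (hn : 4 ≤ n) (hq : 1 ≤ q) (hs2 : 2 ≤ s)
    (hsn : s + 2 ≤ n) (μ : Fin (n + 1) → ℕ) (l0 l1 : Fin (n + 1)) (hl0 : l0.val = 0)
    (hl1 : l1.val = 1) (hμ0 : μ l0 = 0) (h : μ l1 + 2 ≤ q) :
    Module.finrank k (V k (m n q s) (HilbPP.aN n q μ)) = 1 := by
  have hF := isFrame n q s (by omega) (by omega) (by omega)
  apply finrank_V_code1 k hF _ (czBig n s) (Sum.inr ⟨0, by omega⟩)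
  · rfl
  · rintro (i | j) hg
    · left
      intro ho
      have hi := i.2
      have := ho.1 l1
      evn
    · exfalso
      simp only [czBig] at hg
      omega
  · rintro (i | j) hg
    · exfalso
      simp only [czBig] at hg
      omega
    · have hj := j.2
      by_cases hj0 : j.val = 0
      · left
        exact congrArg Sum.inr (Fin.ext (by simp only [Fin.val_mk]; omega))
      · right
        refine out_of' n q s l0 l1 hl0 hl1 (fun l => ?_) ?_ ?_ (fun l' h1 h2 => ?_)
          (fun l' h1 h2 => ?_)
        · evn1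
        · evn1
        · evn1
        · left
          evn1
        · left
          evn1
  · rintro (i | j) hnot
    · rfl
    · exfalso
      apply hnot
      have hj := j.2
      refine out_of' n q s l0 l1 hl0 hl1 (fun l => ?_) ?_ ?_ (fun l' h1 h2 => ?_)
        (fun l' h1 h2 => ?_)
      · evn1
      · evn1
      · evn1
      · left
        evn1
      · left
        evn1
  · rintro (i | j) (i' | j') ho
    · rfl
    · exfalso
      have hi := i.2
      have hj' := j'.2
      obtain ⟨f1, f2⟩ := ho
      obtain ⟨f2, f3, f4, f5⟩ := f2 l0 l1 hl0 hl1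
      have g := f4 ⟨j'.val + 1, by omega⟩ (by show 1 ≤ j'.val + 1; omega)
        (by show j'.val + 1 < n; omega)
      have e0 : 1 ≤ Lv (mz n q s) (HilbPP.aN n q μ) (Sum.inl i) (Sum.inr j') l0 := by evn1
      have e1 : 1 ≤ Lv (mz n q s) (HilbPP.aN n q μ) (Sum.inl i) (Sum.inr j')
          ⟨j'.val + 1, by omega⟩ := by evn1
      omega
    · exfalso
      have hi' := i'.2
      have hj := j.2
      obtain ⟨f1, f2⟩ := ho
      obtain ⟨f2, f3, f4, f5⟩ := f2 l0 l1 hl0 hl1
      have g := f4 ⟨j.val + 1, by omega⟩ (by show 1 ≤ j.val + 1; omega)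
        (by show j.val + 1 < n; omega)
      have e0 : 1 ≤ Lv (mz n q s) (HilbPP.aN n q μ) (Sum.inr j) (Sum.inl i') l0 := by evn1
      have e1 : 1 ≤ Lv (mz n q s) (HilbPP.aN n q μ) (Sum.inr j) (Sum.inl i')
          ⟨j.val + 1, by omega⟩ := by evn1
      omega
    · rfl
  · rintro (i | j)
    · simp only [czBig]
      omega
    · simp only [czBig]
      omega

/-- the code of the components for `μ - q e_1` with `μ_1 = q - 1` -/
def czSmall (f1 f2 : ℕ) : Fin n ⊕ Fin s → ℤ
  | Sum.inl i => if i.val = 1 ∧ f2 = 1 then 3 else 0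
  | Sum.inr j => if j.val = 0 then (if f1 = 1 then 2 else 0) else 1

theorem B_small (k : Type*) [Field k] (hn : 4 ≤ n) (hq : 1 ≤ q) (hs2 : 2 ≤ s)
    (hsn : s + 2 ≤ n) (μ : Fin (n + 1) → ℕ) (l0 l1 : Fin (n + 1)) (hl0 : l0.val = 0)
    (hl1 : l1.val = 1) (hμ0 : μ l0 = 0) (h : μ l1 + 1 = q) (f1 f2 : ℕ) (hf1 : f1 ≤ 1)
    (hf2 : f2 ≤ 1)
    (h1 : f1 = 1 ↔ ∀ l' : Fin (n + 1), 2 ≤ l'.val → l'.val ≤ s → μ l' = 0)
    (h2 : f2 = 1 ↔ ∀ l' : Fin (n + 1), 2 ≤ l'.val → l'.val < n → μ l' = 0) :
    Module.finrank k (V k (m n q s) (HilbPP.aN n q μ)) = 1 + f1 + f2 := by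
  have hF := isFrame n q s (by omega) (by omega) (by omega)
  have h21 : f2 = 1 → f1 = 1 := by
    intro hf
    rw [h1]
    intro l' hl1' hl2'
    exact (h2.1 hf) l' hl1' (by omega)
  have hdead : ∀ g, czSmall n s f1 f2 g = 0 →
      ¬ Out n q s (Gv (mz n q s) (HilbPP.aN n q μ) g) := by
    rintro (i | j) hp ho
    · have hi := i.2
      by_cases hi1 : i.val = 1
      · have hf : ¬ f2 = 1 := by
          intro hf
          simp only [czSmall] at hp
          rw [if_pos ⟨hi1, hf⟩] at hp
          omega
        rw [h2] at hf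
        push Not at hf
        obtain ⟨l', hl1', hl2', hne⟩ := hf
        obtain ⟨f1', f2'⟩ := ho
        obtain ⟨f2', f3, f4, f5⟩ := f2' l0 l1 hl0 hl1
        have g := f4 l' (by omega) hl2'
        have e0 : 1 ≤ Gv (mz n q s) (HilbPP.aN n q μ) (Sum.inl i) l0 := by evn1
        have e1 : 1 ≤ Gv (mz n q s) (HilbPP.aN n q μ) (Sum.inl i) l' := by evn1
        omega
      · have := ho.1 l1
        evn
    · have hj := j.2
      have hj0 : j.val = 0 := by
        by_contra hne
        simp only [czSmall] at hp
        rw [if_neg hne] at hp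
        omega
      have hf : ¬ f1 = 1 := by
        intro hf
        simp only [czSmall] at hp
        rw [if_pos hj0, if_pos hf] at hp
        omega
      rw [h1] at hf
      push Not at hf
      obtain ⟨l', hl1', hl2', hne⟩ := hf
      obtain ⟨f1', f2'⟩ := ho
      obtain ⟨f2', f3, f4, f5⟩ := f2' l0 l1 hl0 hl1
      have g := f5 l' hl1' hl2'
      have e0 : (q : ℤ) ≤ Gv (mz n q s) (HilbPP.aN n q μ) (Sum.inr j) l1 := by evn1
      have e1 : 1 ≤ Gv (mz n q s) (HilbPP.aN n q μ) (Sum.inr j) l' := by evn1
      omega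
  apply finrank_V_code_le3 k hF _ (czSmall n s f1 f2) (1 + f1 + f2) (by omega)
    (Sum.inr ⟨1, by omega⟩) (Sum.inr ⟨0, by omega⟩) (Sum.inl ⟨1, by omega⟩)
  · refine ⟨fun _ => ?_, fun h => ?_, fun h => ?_⟩
    · simp only [czSmall, Fin.val_mk]
      rw [if_neg (by omega)]
    · have hf : f1 = 1 := by
        by_contra hne
        have : f2 ≠ 1 := fun h' => hne (h21 h')
        omega
      simp only [czSmall, Fin.val_mk, ↓reduceIte]
      rw [if_pos hf]
    · have hf : f2 = 1 := by omega
      simp only [czSmall, Fin.val_mk]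
      rw [if_pos ⟨trivial, hf⟩]
  · intro g hg
    exact Or.inl (hdead g hg)
  · rintro (i | j)
    · have hi := i.2
      refine ⟨fun h => ?_, fun h => ?_, fun h => ?_⟩
      · exfalso
        simp only [czSmall] at h
        split_ifs at h <;> omega
      · exfalso
        simp only [czSmall] at h
        split_ifs at h <;> omega
      · left
        simp only [czSmall] at h
        have : i.val = 1 := by
          by_contra hne
          rw [if_neg (fun hc => hne hc.1)] at h
          omega
        exact congrArg Sum.inl (Fin.ext (by simp only [Fin.val_mk]; omega))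
    · have hj := j.2
      refine ⟨fun h => ?_, fun h => ?_, fun h => ?_⟩
      · have hj0 : j.val ≠ 0 := by
          intro hc
          simp only [czSmall] at h
          rw [if_pos hc] at h
          split_ifs at h <;> omega
        by_cases hj1 : j.val = 1
        · left
          exact congrArg Sum.inr (Fin.ext (by simp only [Fin.val_mk]; omega))
        · right
          refine out_of' n q s l0 l1 hl0 hl1 (fun l => ?_) ?_ ?_ (fun l' h1 h2 => ?_)
            (fun l' h1 h2 => ?_)
          · evn1
          · evn1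
          · evn1
          · left
            evn1
          · left
            evn1
      · left
        have hj0 : j.val = 0 := by
          by_contra hne
          simp only [czSmall] at h
          rw [if_neg hne] at h
          omega
        exact congrArg Sum.inr (Fin.ext (by simp only [Fin.val_mk]; omega))
      · exfalso
        simp only [czSmall] at h
        split_ifs at h <;> omega
  · rintro (i | j) hnot
    · have hi := i.2
      by_contra hne
      apply hnot
      simp only [czSmall] at hne
      have hc : i.val = 1 ∧ f2 = 1 := by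
        by_contra hc
        rw [if_neg hc] at hne
        exact hne rfl
      have hmid := h2.1 hc.2
      refine out_of' n q s l0 l1 hl0 hl1 (fun l => ?_) ?_ ?_ (fun l' h1 h2 => ?_)
        (fun l' h1 h2 => ?_)
      · by_cases hl : l.val = 1
        · obtain rfl : l = l1 := Fin.ext (by omega)
          evn1
        · evn1
      · evn1
      · evn1
      · right
        by_cases hl : l'.val = 1
        · obtain rfl : l' = l1 := Fin.ext (by omega)
          evn1
        · have := hmid l' (by omega) h2
          evn1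
      · left
        evn1
    · have hj := j.2
      by_contra hne
      apply hnot
      by_cases hj0 : j.val = 0
      · simp only [czSmall] at hne
        rw [if_pos hj0] at hne
        have hf : f1 = 1 := by
          by_contra hc
          rw [if_neg hc] at hne
          exact hne rfl
        have hP := h1.1 hf
        refine out_of' n q s l0 l1 hl0 hl1 (fun l => ?_) ?_ ?_ (fun l' h1 h2 => ?_)
          (fun l' h1 h2 => ?_)
        · evn1
        · evn1
        · evn1
        · left
          evn1
        · right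
          have := hP l' h1 h2
          evn1
      · refine out_of' n q s l0 l1 hl0 hl1 (fun l => ?_) ?_ ?_ (fun l' h1 h2 => ?_)
          (fun l' h1 h2 => ?_)
        · evn1
        · evn1
        · evn1
        · left
          evn1
        · left
          evn1
  · rintro (i | j) (i' | j') ho
    · have hi := i.2
      have hi' := i'.2
      by_cases hi1 : i.val = 1 <;> by_cases hi1' : i'.val = 1
      · have : i = i' := Fin.ext (by omega)
        rw [this]
      · exfalso
        refine not_out_of_ge hF (Sum.inl i') (fun l => ?_) ho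
        by_cases hl : l.val = 1
        · obtain rfl : l = l1 := Fin.ext (by omega)
          evn1
        · evn1
      · exfalso
        refine not_out_of_ge hF (Sum.inl i) (fun l => ?_) ho
        by_cases hl : l.val = 1
        · obtain rfl : l = l1 := Fin.ext (by omega)
          evn1
        · evn1
      · simp only [czSmall]
        rw [if_neg (fun hc => hi1 hc.1), if_neg (fun hc => hi1' hc.1)]
    · exfalso
      have hi := i.2
      have hj' := j'.2
      obtain ⟨f1', f2'⟩ := ho
      obtain ⟨f2', f3, f4, f5⟩ := f2' l0 l1 hl0 hl1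
      have g := f4 ⟨j'.val + 1, by omega⟩ (by show 1 ≤ j'.val + 1; omega)
        (by show j'.val + 1 < n; omega)
      have e0 : 1 ≤ Lv (mz n q s) (HilbPP.aN n q μ) (Sum.inl i) (Sum.inr j') l0 := by evn1
      have e1 : 1 ≤ Lv (mz n q s) (HilbPP.aN n q μ) (Sum.inl i) (Sum.inr j')
          ⟨j'.val + 1, by omega⟩ := by evn1
      omega
    · exfalso
      have hi' := i'.2
      have hj := j.2
      obtain ⟨f1', f2'⟩ := ho
      obtain ⟨f2', f3, f4, f5⟩ := f2' l0 l1 hl0 hl1
      have g := f4 ⟨j.val + 1, by omega⟩ (by show 1 ≤ j.val + 1; omega)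
        (by show j.val + 1 < n; omega)
      have e0 : 1 ≤ Lv (mz n q s) (HilbPP.aN n q μ) (Sum.inr j) (Sum.inl i') l0 := by evn1
      have e1 : 1 ≤ Lv (mz n q s) (HilbPP.aN n q μ) (Sum.inr j) (Sum.inl i')
          ⟨j.val + 1, by omega⟩ := by evn1
      omega
    · have hj := j.2
      have hj' := j'.2
      have key : ∀ a b : Fin s, a.val = 0 → b.val ≠ 0 →
          ¬ Out n q s (Lv (mz n q s) (HilbPP.aN n q μ) (Sum.inr a) (Sum.inr b)) := by
        intro a b ha hb ho'
        have hb' := b.2
        obtain ⟨f1', f2'⟩ := ho'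
        obtain ⟨f2', f3, f4, f5⟩ := f2' l0 l1 hl0 hl1
        have g := f5 ⟨b.val + 1, by omega⟩ (by show 2 ≤ b.val + 1; omega)
          (by show b.val + 1 ≤ s; omega)
        have e0 : (q : ℤ) ≤ Lv (mz n q s) (HilbPP.aN n q μ) (Sum.inr a) (Sum.inr b) l1 := by
          evn1
        have e1 : 1 ≤ Lv (mz n q s) (HilbPP.aN n q μ) (Sum.inr a) (Sum.inr b)
            ⟨b.val + 1, by omega⟩ := by evn1
        omega
      by_cases h0 : j.val = 0 <;> by_cases h0' : j'.val = 0
      · have : j = j' := Fin.ext (by omega)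
        rw [this]
      · exact absurd ho (key j j' h0 h0')
      · rw [Lv_comm] at ho
        exact absurd ho (key j' j h0' h0)
      · simp only [czSmall]
        rw [if_neg h0, if_neg h0']
  · rintro (i | j)
    · simp only [czSmall]
      by_cases hc : i.val = 1 ∧ f2 = 1
      · rw [if_pos hc]
        have := h21 hc.2
        omega
      · rw [if_neg hc]
        omega
    · simp only [czSmall]
      split_ifs <;> omega

end Groth.Agent.Helper20.HilbQC
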