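import Mathlib
import Groth.Prelude.Def_W4c1hilbpnTgt
import Groth.Agent.Lib.Helper25.HilbTgt
import Groth.Agent.Lib.Helper20.HilbGen
import Groth.Agent.Lib.Helper20.HilbFrame
import Groth.Agent.Lib.Helper20.HilbFrame2
import Groth.Agent.Lib.Helper20.HilbPP3
import Groth.Agent.Lib.Helper20.HilbQA2
import Groth.Agent.Lib.Helper20.HilbQC1
import Groth.Agent.Lib.Helper20.HilbQC2
import Groth.Agent.Lib.Helper20.HilbQC3

/-!
The ideal `x_0·(x_0, …, x_{n-1}) + x_1^q·(x_1, …, x_s)`: the pieces of multidegree `e_b - e_i`
(`i ≥ 2`) and `e_0 + q e_n - q e_1 - e_j`, and the combined formula for `μ - q e_1` (helper20).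
-/

set_option autoImplicit false

namespace Groth.Agent.Helper20.HilbQC

open MvPolynomial W4c1hilbpn Groth.Agent.Helper25.HilbTgt Groth.Agent.Helper20.HilbGen
  Groth.Agent.Helper20.HilbFrame

variable (n q s : ℕ)

/-- the multidegree `e_0 + q e_n - q e_1 - e_j` -/
def aG (j : ℕ) : Fin (n + 1) → ℤ :=
  fun l => (if l.val = 0 then 1 else 0) + (if l.val = n then (q : ℤ) else 0) -
    (if l.val = 1 then (q : ℤ) else 0) - (if l.val = j then 1 else 0)

/-- unfold and decide -/
macro "evg" : tactic =>
  `(tactic| (simp only [HilbFrame.Gv, HilbFrame.Lv, mz, HilbQA.aE, aG, Fin.val_mk,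
    ↓reduceIte] at *; omega))

/-- unfold and decide, at the goal only -/
macro "evg1" : tactic =>
  `(tactic| (simp only [HilbFrame.Gv, HilbFrame.Lv, mz, HilbQA.aE, aG, Fin.val_mk,
    ↓reduceIte]; omega))

/-- the code of the components for the multidegree `e_b - e_i`, `2 ≤ i ≤ s < b` -/
def czC (i b : ℕ) : Fin n ⊕ Fin s → ℤ
  | Sum.inl t => if t.val = i ∧ b = n then 2 else 0
  | Sum.inr j => if j.val + 1 = i then 1 else 0

theorem finrank_C (k : Type*) [Field k] (hn : 4 ≤ n) (hq : 1 ≤ q) (hs2 : 2 ≤ s)
    (hsn : s + 2 ≤ n) (i b : ℕ) (hi2 : 2 ≤ i) (his : i ≤ s) (hbs : s < b) (hbn : b ≤ n)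
    (d : ℕ) (hd2 : b = n → d = 2) (hd1 : b ≠ n → d = 1) :
    Module.finrank k (V k (m n q s) (HilbQA.aE n b i)) = d := by
  obtain ⟨l0, hl0⟩ : ∃ l : Fin (n + 1), l.val = 0 := ⟨⟨0, by omega⟩, rfl⟩
  obtain ⟨l1, hl1⟩ : ∃ l : Fin (n + 1), l.val = 1 := ⟨⟨1, by omega⟩, rfl⟩
  obtain ⟨lb, hlb⟩ : ∃ l : Fin (n + 1), l.val = b := ⟨⟨b, by omega⟩, rfl⟩
  obtain ⟨li, hli⟩ : ∃ l : Fin (n + 1), l.val = i := ⟨⟨i, by omega⟩, rfl⟩
  have hF := isFrame n q s (by omega) (by omega) (by omega)
  have hd3 : d ≤ 3 := by
    by_cases h : b = n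
    · have := hd2 h; omega
    · have := hd1 h; omega
  have hd0 : 1 ≤ d := by
    by_cases h : b = n
    · have := hd2 h; omega
    · have := hd1 h; omega
  apply finrank_V_code_le3 k hF _ (czC n s i b) d hd3 (Sum.inr ⟨i - 1, by omega⟩)
    (Sum.inl ⟨i, by omega⟩) (Sum.inl ⟨i, by omega⟩)
  · refine ⟨fun _ => ?_, fun h => ?_, fun h => ?_⟩
    · simp only [czC, Fin.val_mk]
      rw [if_pos (by omega)]
    · have hb : b = n := by
        by_contra hb
        have := hd1 hb
        omega
      simp only [czC, Fin.val_mk]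
      rw [if_pos ⟨trivial, hb⟩]
    · exfalso
      omega
  · rintro (t | j) hg
    · left
      intro ho
      have ht := t.2
      by_cases hti : t.val = i
      · have hb : b ≠ n := by
          intro hb
          simp only [czC] at hg
          rw [if_pos ⟨hti, hb⟩] at hg
          omega
        obtain ⟨f1, f2⟩ := ho
        obtain ⟨f2, f3, f4, f5⟩ := f2 l0 l1 hl0 hl1
        have g := f4 lb (by omega) (by omega)
        have e0 : 1 ≤ Gv (mz n q s) (HilbQA.aE n b i) (Sum.inl t) l0 := by evg1
        have e1 : 1 ≤ Gv (mz n q s) (HilbQA.aE n b i) (Sum.inl t) lb := by evg1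
        omega
      · have := ho.1 li
        evg
    · left
      intro ho
      have hj := j.2
      have hji : j.val + 1 ≠ i := by
        intro hji
        simp only [czC] at hg
        rw [if_pos hji] at hg
        omega
      have := ho.1 li
      evg
  · rintro (t | j)
    · have ht := t.2
      refine ⟨fun h => ?_, fun h => ?_, fun h => ?_⟩
      · exfalso
        simp only [czC] at h
        split_ifs at h <;> omega
      · left
        simp only [czC] at h
        have : t.val = i := by
          by_contra hne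
          rw [if_neg (fun hc => hne hc.1)] at h
          omega
        exact congrArg Sum.inl (Fin.ext (by simp only [Fin.val_mk]; omega))
      · exfalso
        simp only [czC] at h
        split_ifs at h <;> omega
    · have hj := j.2
      refine ⟨fun h => ?_, fun h => ?_, fun h => ?_⟩
      · left
        simp only [czC] at h
        have : j.val + 1 = i := by
          by_contra hne
          rw [if_neg hne] at h
          omega
        exact congrArg Sum.inr (Fin.ext (by simp only [Fin.val_mk]; omega))
      · exfalso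
        simp only [czC] at h
        split_ifs at h <;> omega
      · exfalso
        simp only [czC] at h
        split_ifs at h <;> omega
  · rintro (t | j) hnot
    · have ht := t.2
      by_contra hne
      apply hnot
      simp only [czC] at hne
      have hc : t.val = i ∧ b = n := by
        by_contra hc
        rw [if_neg hc] at hne
        exact hne rfl
      obtain ⟨hc1, hc2⟩ := hc
      refine out_of' n q s l0 l1 hl0 hl1 (fun l => ?_) ?_ ?_ (fun l' h1 h2 => ?_)
        (fun l' h1 h2 => ?_)
      · evg1
      · evg1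
      · evg1
      · right
        evg1
      · right
        evg1
    · have hj := j.2
      by_contra hne
      apply hnot
      simp only [czC] at hne
      have hc : j.val + 1 = i := by
        by_contra hc
        rw [if_neg hc] at hne
        exact hne rfl
      refine out_of' n q s l0 l1 hl0 hl1 (fun l => ?_) ?_ ?_ (fun l' h1 h2 => ?_)
        (fun l' h1 h2 => ?_)
      · evg1
      · evg1
      · evg1
      · left
        evg1
      · right
        evg1
  · rintro (t | j) (t' | j') ho
    · have ht := t.2
      have ht' := t'.2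
      by_cases hti : t.val = i <;> by_cases hti' : t'.val = i
      · have : t = t' := Fin.ext (by omega)
        rw [this]
      · exfalso
        exact not_out_of_ge hF (Sum.inl t') (fun l => by evg1) ho
      · exfalso
        exact not_out_of_ge hF (Sum.inl t) (fun l => by evg1) ho
      · simp only [czC]
        rw [if_neg (fun hc => hti hc.1), if_neg (fun hc => hti' hc.1)]
    · exfalso
      have ht := t.2
      have hj' := j'.2
      obtain ⟨f1, f2⟩ := ho
      obtain ⟨f2, f3, f4, f5⟩ := f2 l0 l1 hl0 hl1
      have g := f4 l1 (by omega) (by omega)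
      have e0 : 1 ≤ Lv (mz n q s) (HilbQA.aE n b i) (Sum.inl t) (Sum.inr j') l0 := by evg1
      have e1 : 1 ≤ Lv (mz n q s) (HilbQA.aE n b i) (Sum.inl t) (Sum.inr j') l1 := by evg1
      omega
    · exfalso
      have ht' := t'.2
      have hj := j.2
      obtain ⟨f1, f2⟩ := ho
      obtain ⟨f2, f3, f4, f5⟩ := f2 l0 l1 hl0 hl1
      have g := f4 l1 (by omega) (by omega)
      have e0 : 1 ≤ Lv (mz n q s) (HilbQA.aE n b i) (Sum.inr j) (Sum.inl t') l0 := by evg1
      have e1 : 1 ≤ Lv (mz n q s) (HilbQA.aE n b i) (Sum.inr j) (Sum.inl t') l1 := by evg1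
      omega
    · have hj := j.2
      have hj' := j'.2
      by_cases hji : j.val + 1 = i <;> by_cases hji' : j'.val + 1 = i
      · have : j = j' := Fin.ext (by omega)
        rw [this]
      · exfalso
        exact not_out_of_ge hF (Sum.inr j') (fun l => by evg1) ho
      · exfalso
        exact not_out_of_ge hF (Sum.inr j) (fun l => by evg1) ho
      · simp only [czC]
        rw [if_neg hji, if_neg hji']
  · rintro (t | j)
    · simp only [czC]
      by_cases hc : t.val = i ∧ b = n
      · rw [if_pos hc]
        have := hd2 hc.2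
        omega
      · rw [if_neg hc]
        omega
    · simp only [czC]
      split_ifs <;> omega

/-- the code of the components for the multidegree `e_n - e_i`, `s < i < n` -/
def czD (i : ℕ) : Fin n ⊕ Fin s → ℤ
  | Sum.inl t => if t.val = i then 1 else 0
  | Sum.inr _ => 0

theorem finrank_D (k : Type*) [Field k] (hn : 4 ≤ n) (hq : 1 ≤ q) (hs2 : 2 ≤ s)
    (hsn : s + 2 ≤ n) (i : ℕ) (his : s < i) (hin : i < n) :
    Module.finrank k (V k (m n q s) (HilbQA.aE n n i)) = 1 := by
  obtain ⟨l0, hl0⟩ : ∃ l : Fin (n + 1), l.val = 0 := ⟨⟨0, by omega⟩, rfl⟩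
  obtain ⟨l1, hl1⟩ : ∃ l : Fin (n + 1), l.val = 1 := ⟨⟨1, by omega⟩, rfl⟩
  obtain ⟨li, hli⟩ : ∃ l : Fin (n + 1), l.val = i := ⟨⟨i, by omega⟩, rfl⟩
  have hF := isFrame n q s (by omega) (by omega) (by omega)
  apply finrank_V_code1 k hF _ (czD n s i) (Sum.inl ⟨i, by omega⟩)
  · simp only [czD, Fin.val_mk, ↓reduceIte]
  · rintro (t | j) hg
    · left
      intro ho
      have ht := t.2
      have hti : t.val ≠ i := by
        intro hti
        simp only [czD] at hg
        rw [if_pos hti] at hg
        omega
      have := ho.1 li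
      evg
    · left
      intro ho
      have hj := j.2
      have := ho.1 li
      evg
  · rintro (t | j) hg
    · left
      have ht := t.2
      simp only [czD] at hg
      have : t.val = i := by
        by_contra hne
        rw [if_neg hne] at hg
        omega
      exact congrArg Sum.inl (Fin.ext (by simp only [Fin.val_mk]; omega))
    · exfalso
      simp only [czD] at hg
      omega
  · rintro (t | j) hnot
    · have ht := t.2
      by_contra hne
      apply hnot
      simp only [czD] at hne
      have hc : t.val = i := by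
        by_contra hc
        rw [if_neg hc] at hne
        exact hne rfl
      refine out_of' n q s l0 l1 hl0 hl1 (fun l => ?_) ?_ ?_ (fun l' h1 h2 => ?_)
        (fun l' h1 h2 => ?_)
      · evg1
      · evg1
      · evg1
      · right
        evg1
      · right
        evg1
    · rfl
  · rintro (t | j) (t' | j') ho
    · have ht := t.2
      have ht' := t'.2
      by_cases hti : t.val = i <;> by_cases hti' : t'.val = i
      · have : t = t' := Fin.ext (by omega)
        rw [this]
      · exfalso
        exact not_out_of_ge hF (Sum.inl t') (fun l => by evg1) ho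
      · exfalso
        exact not_out_of_ge hF (Sum.inl t) (fun l => by evg1) ho
      · simp only [czD]
        rw [if_neg hti, if_neg hti']
    · have ht := t.2
      have hj' := j'.2
      by_cases hti : t.val = i
      · exfalso
        exact not_out_of_ge hF (Sum.inr j') (fun l => by evg1) ho
      · simp only [czD]
        rw [if_neg hti]
    · have ht' := t'.2
      have hj := j.2
      by_cases hti' : t'.val = i
      · exfalso
        exact not_out_of_ge hF (Sum.inr j) (fun l => by evg1) ho
      · simp only [czD]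
        rw [if_neg hti']
    · rfl
  · rintro (t | j)
    · simp only [czD]
      split_ifs <;> omega
    · simp only [czD]
      omega

/-- the code of the components for the multidegree `e_0 + q e_n - q e_1 - e_j`, `1 ≤ j ≤ s` -/
def czE (j : ℕ) : Fin n ⊕ Fin s → ℤ
  | Sum.inl _ => 0
  | Sum.inr t => if t.val + 1 = j then 1 else 0

theorem finrank_E (k : Type*) [Field k] (hn : 4 ≤ n) (hq : 1 ≤ q) (hs2 : 2 ≤ s)
    (hsn : s + 2 ≤ n) (j : ℕ) (hj1 : 1 ≤ j) (hjs : j ≤ s) :
    Module.finrank k (V k (m n q s) (aG n q j)) = 1 := by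
  obtain ⟨l0, hl0⟩ : ∃ l : Fin (n + 1), l.val = 0 := ⟨⟨0, by omega⟩, rfl⟩
  obtain ⟨l1, hl1⟩ : ∃ l : Fin (n + 1), l.val = 1 := ⟨⟨1, by omega⟩, rfl⟩
  obtain ⟨lj, hlj⟩ : ∃ l : Fin (n + 1), l.val = j := ⟨⟨j, by omega⟩, rfl⟩
  have hF := isFrame n q s (by omega) (by omega) (by omega)
  apply finrank_V_code1 k hF _ (czE n s j) (Sum.inr ⟨j - 1, by omega⟩)
  · simp only [czE, Fin.val_mk]
    rw [if_pos (by omega)]
  · rintro (t | t) hg
    · left
      intro ho
      have ht := t.2
      obtain ⟨f1, f2⟩ := ho
      obtain ⟨f2, f3, f4, f5⟩ := f2 l0 l1 hl0 hl1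
      have e0 : 2 ≤ Gv (mz n q s) (aG n q j) (Sum.inl t) l0 := by evg1
      omega
    · left
      intro ho
      have ht := t.2
      have htj : t.val + 1 ≠ j := by
        intro htj
        simp only [czE] at hg
        rw [if_pos htj] at hg
        omega
      have := ho.1 lj
      evg
  · rintro (t | t) hg
    · exfalso
      simp only [czE] at hg
      omega
    · left
      have ht := t.2
      simp only [czE] at hg
      have : t.val + 1 = j := by
        by_contra hne
        rw [if_neg hne] at hg
        omega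
      exact congrArg Sum.inr (Fin.ext (by simp only [Fin.val_mk]; omega))
  · rintro (t | t) hnot
    · rfl
    · have ht := t.2
      by_contra hne
      apply hnot
      simp only [czE] at hne
      have hc : t.val + 1 = j := by
        by_contra hc
        rw [if_neg hc] at hne
        exact hne rfl
      refine out_of' n q s l0 l1 hl0 hl1 (fun l => ?_) ?_ ?_ (fun l' h1 h2 => ?_)
        (fun l' h1 h2 => ?_)
      · evg1
      · evg1
      · evg1
      · right
        evg1
      · left
        evg1
  · rintro (t | t) (t' | t') ho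
    · rfl
    · exfalso
      have ht := t.2
      have ht' := t'.2
      obtain ⟨f1, f2⟩ := ho
      obtain ⟨f2, f3, f4, f5⟩ := f2 l0 l1 hl0 hl1
      have e0 : 2 ≤ Lv (mz n q s) (aG n q j) (Sum.inl t) (Sum.inr t') l0 := by evg1
      omega
    · exfalso
      have ht := t.2
      have ht' := t'.2
      obtain ⟨f1, f2⟩ := ho
      obtain ⟨f2, f3, f4, f5⟩ := f2 l0 l1 hl0 hl1
      have e0 : 2 ≤ Lv (mz n q s) (aG n q j) (Sum.inr t) (Sum.inl t') l0 := by evg1
      omega
    · have ht := t.2
      have ht' := t'.2
      have key : ∀ a b : Fin s, a.val + 1 = j → b.val + 1 ≠ j →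
          ¬ Out n q s (Lv (mz n q s) (aG n q j) (Sum.inr a) (Sum.inr b)) := by
        intro a b ha hb ho'
        have hb' := b.2
        obtain ⟨f1, f2⟩ := ho'
        obtain ⟨f2, f3, f4, f5⟩ := f2 l0 l1 hl0 hl1
        have g := f4 ⟨b.val + 1, by omega⟩ (by show 1 ≤ b.val + 1; omega)
          (by show b.val + 1 < n; omega)
        have e0 : 1 ≤ Lv (mz n q s) (aG n q j) (Sum.inr a) (Sum.inr b) l0 := by evg1
        have e1 : 1 ≤ Lv (mz n q s) (aG n q j) (Sum.inr a) (Sum.inr b)
            ⟨b.val + 1, by omega⟩ := by evg1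
        omega
      by_cases htj : t.val + 1 = j <;> by_cases htj' : t'.val + 1 = j
      · have : t = t' := Fin.ext (by omega)
        rw [this]
      · exact absurd ho (key t t' htj htj')
      · rw [Lv_comm] at ho
        exact absurd ho (key t' t htj' htj)
      · simp only [czE]
        rw [if_neg htj, if_neg htj']
  · rintro (t | t)
    · simp only [czE]
      omega
    · simp only [czE]
      split_ifs <;> omega

/-- first flag: `μ = (q-1) e_1 + (something outside `[2, s]`)` -/
def R1 (μ : Fin (n + 1) → ℕ) : Prop :=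
  μ 1 + 1 = q ∧ ∀ l' : Fin (n + 1), 2 ≤ l'.val → l'.val ≤ s → μ l' = 0

/-- second flag: `μ = (q-1) e_1 + (something outside `[2, n-1]`)` -/
def R2 (μ : Fin (n + 1) → ℕ) : Prop :=
  μ 1 + 1 = q ∧ ∀ l' : Fin (n + 1), 2 ≤ l'.val → l'.val < n → μ l' = 0

open Classical in
/-- the dimension of the piece of multidegree `μ - q e_1` -/
noncomputable def dimB (μ : Fin (n + 1) → ℕ) : ℕ :=
  if q ≤ μ 1 then 0 else 1 + (if R1 n q s μ then 1 else 0) + (if R2 n q μ then 1 else 0)

theorem finrank_B (k : Type*) [Field k] (hn : 4 ≤ n) (hq : 1 ≤ q) (hs2 : 2 ≤ s)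
    (hsn : s + 2 ≤ n) (μ : Fin (n + 1) → ℕ) (hμ0 : μ 0 = 0) :
    Module.finrank k (V k (m n q s) (HilbPP.aN n q μ)) = dimB n q s μ := by
  have h0 : ((0 : Fin (n + 1)) : ℕ) = 0 := Fin.val_zero _
  have h1 := val_one_fin n (by omega)
  unfold dimB
  by_cases c1 : q ≤ μ 1
  · rw [if_pos c1]
    exact finrank_zero_of k (B_zero n q s k hn hq hs2 hsn μ 1 h1 c1)
  · rw [if_neg c1]
    by_cases c2 : μ 1 + 1 = q
    · classical
      refine B_small n q s k hn hq hs2 hsn μ 0 1 h0 h1 hμ0 c2 (if R1 n q s μ then 1 else 0)
        (if R2 n q μ then 1 else 0) (by split_ifs <;> omega) (by split_ifs <;> omega)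
        ⟨fun h => ?_, fun h => ?_⟩ ⟨fun h => ?_, fun h => ?_⟩
      · by_cases hc : R1 n q s μ
        · exact hc.2
        · rw [if_neg hc] at h
          omega
      · rw [if_pos ⟨c2, h⟩]
      · by_cases hc : R2 n q μ
        · exact hc.2
        · rw [if_neg hc] at h
          omega
      · rw [if_pos ⟨c2, h⟩]
    · have e1 : ¬ R1 n q s μ := fun h => c2 h.1
      have e2 : ¬ R2 n q μ := fun h => c2 h.1
      rw [if_neg e1, if_neg e2]
      exact B_big n q s k hn hq hs2 hsn μ 0 1 h0 h1 hμ0 (by omega)

end Groth.Agent.Helper20.HilbQC
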