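import Mathlib
import Groth.Prelude.Def_W4c1hilbpnTgt
import Groth.Agent.Lib.Helper25.HilbTgt
import Groth.Agent.Lib.Helper20.HilbGen
import Groth.Agent.Lib.Helper20.HilbFrame
import Groth.Agent.Lib.Helper20.HilbFrame2
import Groth.Agent.Lib.Helper20.HilbPP3
import Groth.Agent.Lib.Helper20.HilbPP4
import Groth.Agent.Lib.Helper20.HilbPP5
import Groth.Agent.Lib.Helper20.HilbQA2
import Groth.Agent.Lib.Helper20.HilbQC1
import Groth.Agent.Lib.Helper20.HilbQC4

/-!
The ideal `x_0·(x_0, …, x_{n-1}) + x_1^q·(x_1, …, x_s)`: every nonzero piece of total degree `0`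
is in the list (helper20).
-/

set_option autoImplicit false

namespace Groth.Agent.Helper20.HilbQC

open MvPolynomial W4c1hilbpn Groth.Agent.Helper25.HilbTgt Groth.Agent.Helper20.HilbGen
  Groth.Agent.Helper20.HilbFrame

variable (n q s : ℕ)

/-- the multidegrees `e_b - e_0` -/
noncomputable def SA : Finset (Fin (n + 1) → ℤ) :=
  (Finset.Icc 1 n).image (fun b => HilbQA.aE n b 0)
/-- the multidegrees `μ - q e_1` -/
noncomputable def SB : Finset (Fin (n + 1) → ℤ) :=
  (HilbPP.D n q).image (fun μ : Fin (n + 1) →₀ ℕ => HilbPP.aN n q ⇑μ)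
/-- the multidegrees `e_b - e_i`, `2 ≤ i ≤ s < b ≤ n` -/
noncomputable def SC : Finset (Fin (n + 1) → ℤ) :=
  ((Finset.Icc 2 s) ×ˢ (Finset.Icc (s + 1) n)).image (fun p => HilbQA.aE n p.2 p.1)
/-- the multidegrees `e_n - e_i`, `s < i < n` -/
noncomputable def SD : Finset (Fin (n + 1) → ℤ) :=
  (Finset.Ico (s + 1) n).image (fun i => HilbQA.aE n n i)
/-- the multidegrees `e_0 + q e_n - q e_1 - e_j`, `1 ≤ j ≤ s` -/
noncomputable def SE : Finset (Fin (n + 1) → ℤ) :=
  (Finset.Icc 1 s).image (fun j => aG n q j)
/-- all the multidegrees of nonzero pieces -/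
noncomputable def Sall : Finset (Fin (n + 1) → ℤ) :=
  SA n ∪ SB n q ∪ SC n s ∪ SD n s ∪ SE n q s

lemma mem_SA (b : ℕ) (hb1 : 1 ≤ b) (hbn : b ≤ n) : HilbQA.aE n b 0 ∈ Sall n q s := by
  unfold Sall
  simp only [Finset.mem_union]
  left; left; left; left
  exact Finset.mem_image.2 ⟨b, Finset.mem_Icc.2 ⟨hb1, hbn⟩, rfl⟩

lemma mem_SB (μ : Fin (n + 1) →₀ ℕ) (hμ : μ ∈ HilbPP.D n q) :
    HilbPP.aN n q ⇑μ ∈ Sall n q s := by
  unfold Sall
  simp only [Finset.mem_union]
  left; left; left; right
  exact Finset.mem_image.2 ⟨μ, hμ, rfl⟩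

lemma mem_SC (i b : ℕ) (hi2 : 2 ≤ i) (his : i ≤ s) (hbs : s < b) (hbn : b ≤ n) :
    HilbQA.aE n b i ∈ Sall n q s := by
  unfold Sall
  simp only [Finset.mem_union]
  left; left; right
  exact Finset.mem_image.2 ⟨(i, b), Finset.mem_product.2
    ⟨Finset.mem_Icc.2 ⟨hi2, his⟩, Finset.mem_Icc.2 ⟨hbs, hbn⟩⟩, rfl⟩

lemma mem_SD (i : ℕ) (his : s < i) (hin : i < n) : HilbQA.aE n n i ∈ Sall n q s := by
  unfold Sall
  simp only [Finset.mem_union]
  left; right
  exact Finset.mem_image.2 ⟨i, Finset.mem_Ico.2 ⟨his, hin⟩, rfl⟩

lemma mem_SE (j : ℕ) (hj1 : 1 ≤ j) (hjs : j ≤ s) : aG n q j ∈ Sall n q s := by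
  unfold Sall
  simp only [Finset.mem_union]
  right
  exact Finset.mem_image.2 ⟨j, Finset.mem_Icc.2 ⟨hj1, hjs⟩, rfl⟩

/-- unfold and decide -/
macro "evd" : tactic =>
  `(tactic| (simp only [HilbFrame.Gv, HilbFrame.Lv, mz, Fin.val_mk, ↓reduceIte] at *; omega))

/-- unfold and decide, at the goal only -/
macro "evd1" : tactic =>
  `(tactic| (simp only [HilbFrame.Gv, HilbFrame.Lv, mz, Fin.val_mk, ↓reduceIte]; omega))

lemma pair_le {N : ℤ} (γ : Fin (n + 1) → ℤ) (hpos : ∀ l, 0 ≤ γ l) (hs : ∑ l, γ l = N)
    (a b : Fin (n + 1)) (hab : a ≠ b) : γ a + γ b ≤ N := by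
  rw [← hs, ← Finset.sum_pair hab]
  exact Finset.sum_le_sum_of_subset_of_nonneg (Finset.subset_univ _) (fun l _ _ => hpos l)

lemma single_le {N : ℤ} (γ : Fin (n + 1) → ℤ) (hpos : ∀ l, 0 ≤ γ l) (hs : ∑ l, γ l = N)
    (a : Fin (n + 1)) : γ a ≤ N := by
  rw [← hs]
  exact Finset.single_le_sum (fun l _ => hpos l) (Finset.mem_univ a)

/-- a monomial outside the ideal and divisible by `x_0` is `x_0 x_n^(N-1)` -/
lemma shape_one (hn : 4 ≤ n) (γ : Fin (n + 1) → ℤ) (ho : Out n q s γ) (N : ℤ)
    (hs : ∑ l, γ l = N) (l0 : Fin (n + 1)) (hl0 : l0.val = 0) (h1 : γ l0 = 1) :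
    ∀ l : Fin (n + 1), γ l = (if l.val = 0 then 1 else 0) + (if l.val = n then N - 1 else 0) := by
  obtain ⟨l1, hl1⟩ : ∃ l : Fin (n + 1), l.val = 1 := ⟨⟨1, by omega⟩, rfl⟩
  obtain ⟨ln, hln⟩ : ∃ l : Fin (n + 1), l.val = n := ⟨⟨n, by omega⟩, rfl⟩
  have hmid : ∀ l' : Fin (n + 1), 1 ≤ l'.val → l'.val < n → γ l' = 0 := by
    intro l' h1' h2'
    rcases (ho.2 l0 l1 hl0 hl1).2.2.1 l' h1' h2' with h | h
    · omega
    · exact h
  have hne : l0 ≠ ln := fun h => by rw [h] at hl0; omega
  have hs2 : ∑ l, γ l = γ l0 + γ ln := by
    apply Finset.sum_eq_add l0 ln hne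
    · intro c _ hc
      have := c.2
      apply hmid c
      · by_contra hlt
        exact hc.1 (Fin.ext (by omega))
      · by_contra hlt
        exact hc.2 (Fin.ext (by omega))
    · intro h
      exact absurd (Finset.mem_univ _) h
    · intro h
      exact absurd (Finset.mem_univ _) h
  intro l
  have := l.2
  by_cases c0 : l.val = 0
  · obtain rfl : l = l0 := Fin.ext (by omega)
    rw [if_pos c0, if_neg (by omega)]
    omega
  · by_cases cn : l.val = n
    · obtain rfl : l = ln := Fin.ext (by omega)
      rw [if_neg c0, if_pos cn]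
      omega
    · rw [if_neg c0, if_neg cn, hmid l (by omega) (by omega)]
      rfl

/-- adding a variable `x_t` with `t > s` to a monomial outside the ideal and not divisible by
`x_0` -/
lemma out_add_Q (hn : 4 ≤ n) (hs1 : 1 ≤ s) {γ γ' : Fin (n + 1) → ℤ} (ho : Out n q s γ)
    (l0 : Fin (n + 1)) (hl0 : l0.val = 0) (h0 : γ l0 = 0) (t : ℕ) (hts : s < t)
    (h : ∀ l : Fin (n + 1), γ' l = γ l + if l.val = t then 1 else 0) : Out n q s γ' := by
  obtain ⟨l1, hl1⟩ : ∃ l : Fin (n + 1), l.val = 1 := ⟨⟨1, by omega⟩, rfl⟩
  obtain ⟨f2, f3, f4, f5⟩ := ho.2 l0 l1 hl0 hl1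
  refine out_of' n q s l0 l1 hl0 hl1 (fun l => ?_) ?_ ?_ (fun l' h1 h2 => ?_)
    (fun l' h1 h2 => ?_)
  · rw [h]
    have := ho.1 l
    split_ifs <;> omega
  · rw [h, if_neg (by omega)]
    omega
  · rw [h, if_neg (by omega)]
    omega
  · left
    rw [h, if_neg (by omega)]
    omega
  · rcases f5 l' h1 h2 with h' | h'
    · left
      rw [h, if_neg (by omega)]
      omega
    · right
      rw [h, if_neg (by omega)]
      omega

lemma aE_eq_aN_s3 (hn : 4 ≤ n) (hq : 1 ≤ q) :
    HilbQA.aE n n 1 = HilbPP.aN n q ⇑(HilbPP.s3 n q) := by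
  funext l
  simp only [HilbQA.aE, HilbPP.aN]
  rw [HilbPP.s3_apply n q (by omega)]
  push_cast
  split_ifs <;> omega

lemma complete_inl (hn : 4 ≤ n) (hq : 1 ≤ q) (hs2 : 2 ≤ s) (hsn : s + 2 ≤ n)
    (hcase : s + 3 ≤ n ∨ 3 ≤ q) (α : Fin (n + 1) → ℤ) (hsum : ∑ l, α l = 0) (i : Fin n)
    (hout : Out n q s (Gv (mz n q s) α (Sum.inl i)))
    (hlink : ∀ t, Out n q s (Lv (mz n q s) α (Sum.inl i) t) → Out n q s (Gv (mz n q s) α t)) :
    α ∈ Sall n q s := by
  have hi := i.2
  obtain ⟨l0, hl0⟩ : ∃ l : Fin (n + 1), l.val = 0 := ⟨⟨0, by omega⟩, rfl⟩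
  obtain ⟨l1, hl1⟩ : ∃ l : Fin (n + 1), l.val = 1 := ⟨⟨1, by omega⟩, rfl⟩
  obtain ⟨li, hli⟩ : ∃ l : Fin (n + 1), l.val = i.val := ⟨⟨i.val, by omega⟩, rfl⟩
  have hγ : ∀ l, Gv (mz n q s) α (Sum.inl i) l =
      (if l.val = 0 then 1 else 0) + (if l.val = i.val then 1 else 0) + α l := fun l => rfl
  have hs : ∑ l, Gv (mz n q s) α (Sum.inl i) l = 2 := by
    simp only [hγ]
    rw [Finset.sum_add_distrib, Finset.sum_add_distrib, HilbPP.sum_ind n 0 (by omega),
      HilbPP.sum_ind n i.val (by omega), hsum]
    norm_num
  have hpos := hout.1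
  obtain ⟨f2, f3, f4, f5⟩ := hout.2 l0 l1 hl0 hl1
  by_cases h01 : Gv (mz n q s) α (Sum.inl i) l0 = 1
  · -- the target is `x_0 x_n`
    have hA := shape_one n q s hn _ hout 2 hs l0 hl0 h01
    have hα : α = HilbQA.aE n n i.val := by
      funext l
      have e1 := hA l
      have e2 := hγ l
      simp only [HilbQA.aE]
      omega
    rw [hα]
    by_cases hi0 : i.val = 0
    · rw [hi0]
      exact mem_SA n q s n (by omega) (le_refl n)
    · by_cases hi1 : i.val = 1
      · rw [hi1, aE_eq_aN_s3 n q hn hq]
        exact mem_SB n q s _ (HilbPP.s3_mem n q (by omega) hq)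
      · by_cases his : i.val ≤ s
        · exact mem_SC n q s i.val n (by omega) his (by omega) (le_refl n)
        · exact mem_SD n q s i.val (by omega) hi
  · have h0 : Gv (mz n q s) α (Sum.inl i) l0 = 0 := by
      have := hpos l0
      omega
    by_cases hi0 : i.val = 0
    · exfalso
      have hL : Out n q s (Lv (mz n q s) α (Sum.inl i) (Sum.inl ⟨n - 1, by omega⟩)) := by
        apply out_add_Q n q s hn (by omega) hout l0 hl0 h0 (n - 1) (by omega)
        intro l
        evd1
      have := (hlink _ hL).1 l0
      rw [hγ] at h0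
      revert this
      evd1
    · by_cases hgi : 1 ≤ Gv (mz n q s) α (Sum.inl i) li
      · obtain ⟨c, hcc⟩ := HilbPP.exists_single n
          (fun l => Gv (mz n q s) α (Sum.inl i) l - (if l.val = i.val then 1 else 0)) (by
            intro l
            beta_reduce
            by_cases hl : l.val = i.val
            · obtain rfl : l = li := Fin.ext (by omega)
              rw [if_pos hl]
              omega
            · rw [if_neg hl]
              have := hpos l
              omega) (by
            rw [Finset.sum_sub_distrib, hs, HilbPP.sum_ind n i.val (by omega)]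
            norm_num)
        beta_reduce at hcc
        have hc1 : 1 ≤ c.val := by
          by_contra hlt
          have : c = l0 := Fin.ext (by omega)
          have := hcc l0
          rw [if_neg (by omega), if_pos (by rw [‹c = l0›])] at this
          omega
        have hα : α = HilbQA.aE n c.val 0 := by
          funext l
          have e1 := hcc l
          have e2 := hγ l
          simp only [HilbQA.aE]
          omega
        have hcn := c.2
        rw [hα]
        exact mem_SA n q s _ hc1 (by omega)
      · exfalso
        have hgi0 : Gv (mz n q s) α (Sum.inl i) li = 0 := by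
          have := hpos li
          omega
        by_cases hiu : i.val = n - 1
        · rcases hcase with hc | hc
          · have hL : Out n q s (Lv (mz n q s) α (Sum.inl i) (Sum.inl ⟨n - 2, by omega⟩)) := by
              apply out_add_Q n q s hn (by omega) hout l0 hl0 h0 (n - 2) (by omega)
              intro l
              evd1
            have := (hlink _ hL).1 li
            rw [hγ] at hgi0
            revert this
            evd1
          · have b1 := single_le n _ hpos hs l1
            have hL : Out n q s (Lv (mz n q s) α (Sum.inl i) (Sum.inl ⟨1, by omega⟩)) := by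
              refine out_of' n q s l0 l1 hl0 hl1 (fun l => ?_) ?_ ?_ (fun l' h1' h2' => ?_)
                (fun l' h1' h2' => ?_)
              · have := hpos l
                rw [hγ] at this
                evd1
              · rw [hγ] at h0
                evd1
              · rw [hγ] at b1
                evd1
              · left
                rw [hγ] at h0
                evd1
              · have b2 := pair_le n _ hpos hs l1 l' (by
                  intro h
                  rw [← h] at h1'
                  omega)
                have p1 := hpos l'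
                have p2 := hpos l1
                rw [hγ] at b1 p1 p2
                rw [hγ, hγ] at b2
                by_cases hc1 : α l1 ≤ 1
                · left
                  evd1
                · right
                  evd1
            have := (hlink _ hL).1 li
            rw [hγ] at hgi0
            revert this
            evd1
        · have hL : Out n q s (Lv (mz n q s) α (Sum.inl i) (Sum.inl ⟨n - 1, by omega⟩)) := by
            apply out_add_Q n q s hn (by omega) hout l0 hl0 h0 (n - 1) (by omega)
            intro l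
            evd1
          have := (hlink _ hL).1 li
          rw [hγ] at hgi0
          revert this
          evd1

lemma complete_inr (hn : 4 ≤ n) (hq : 1 ≤ q) (hs2 : 2 ≤ s) (hsn : s + 2 ≤ n)
    (α : Fin (n + 1) → ℤ) (hsum : ∑ l, α l = 0) (j : Fin s)
    (hout : Out n q s (Gv (mz n q s) α (Sum.inr j)))
    (hlink : ∀ t, Out n q s (Lv (mz n q s) α (Sum.inr j) t) → Out n q s (Gv (mz n q s) α t)) :
    α ∈ Sall n q s := by
  have hj := j.2
  obtain ⟨l0, hl0⟩ : ∃ l : Fin (n + 1), l.val = 0 := ⟨⟨0, by omega⟩, rfl⟩
  obtain ⟨l1, hl1⟩ : ∃ l : Fin (n + 1), l.val = 1 := ⟨⟨1, by omega⟩, rfl⟩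
  obtain ⟨lj, hlj⟩ : ∃ l : Fin (n + 1), l.val = j.val + 1 := ⟨⟨j.val + 1, by omega⟩, rfl⟩
  have hγ : ∀ l, Gv (mz n q s) α (Sum.inr j) l =
      (if l.val = 1 then (q : ℤ) else 0) + (if l.val = j.val + 1 then 1 else 0) + α l :=
    fun l => rfl
  have hs : ∑ l, Gv (mz n q s) α (Sum.inr j) l = q + 1 := by
    simp only [hγ]
    rw [Finset.sum_add_distrib, Finset.sum_add_distrib, HilbPP.sum_ind n 1 (by omega),
      HilbPP.sum_ind n (j.val + 1) (by omega), hsum]
    ring
  have hpos := hout.1
  obtain ⟨f2, f3, f4, f5⟩ := hout.2 l0 l1 hl0 hl1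
  by_cases h01 : Gv (mz n q s) α (Sum.inr j) l0 = 1
  · -- the target is `x_0 x_n^q`
    have hA := shape_one n q s hn _ hout (q + 1) hs l0 hl0 h01
    have hα : α = aG n q (j.val + 1) := by
      funext l
      have e1 := hA l
      have e2 := hγ l
      simp only [aG]
      omega
    rw [hα]
    exact mem_SE n q s _ (by omega) (by omega)
  · have h0 : Gv (mz n q s) α (Sum.inr j) l0 = 0 := by
      have := hpos l0
      omega
    by_cases hgj : 1 ≤ Gv (mz n q s) α (Sum.inr j) lj
    · -- `α = μ - q e_1`
      obtain ⟨μ', hμ'⟩ : ∃ μ' : Fin (n + 1) →₀ ℕ, ∀ l, ((μ' l : ℕ) : ℤ) =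
          Gv (mz n q s) α (Sum.inr j) l - (if l.val = j.val + 1 then 1 else 0) := by
        refine ⟨Finsupp.equivFunOnFinite.symm (fun l => (Gv (mz n q s) α (Sum.inr j) l -
          (if l.val = j.val + 1 then 1 else 0)).toNat), fun l => ?_⟩
        apply Int.toNat_of_nonneg
        by_cases hl : l.val = j.val + 1
        · obtain rfl : l = lj := Fin.ext (by omega)
          rw [if_pos hl]
          omega
        · rw [if_neg hl]
          have := hpos l
          omega
      have hmem : μ' ∈ HilbPP.D n q := by
        rw [HilbPP.mem_D]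
        constructor
        · obtain rfl : l0 = 0 := Fin.ext (by rw [hl0, Fin.val_zero])
          have := hμ' 0
          rw [h0, if_neg (by rw [Fin.val_zero]; omega)] at this
          omega
        · have : ((∑ l, μ' l : ℕ) : ℤ) = q := by
            rw [Nat.cast_sum]
            simp only [hμ']
            rw [Finset.sum_sub_distrib, hs, HilbPP.sum_ind n (j.val + 1) (by omega)]
            ring
          exact_mod_cast this
      have hα : α = HilbPP.aN n q ⇑μ' := by
        funext l
        simp only [HilbPP.aN]
        rw [hμ', hγ]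
        ring
      rw [hα]
      exact mem_SB n q s μ' hmem
    · have hgj0 : Gv (mz n q s) α (Sum.inr j) lj = 0 := by
        have := hpos lj
        omega
      by_cases hj0 : j.val = 0
      · exfalso
        have e : lj = l1 := Fin.ext (by omega)
        rw [e] at hgj0
        have hL : Out n q s (Lv (mz n q s) α (Sum.inr j) (Sum.inr ⟨1, by omega⟩)) := by
          refine out_of' n q s l0 l1 hl0 hl1 (fun l => ?_) ?_ ?_ (fun l' h1' h2' => ?_)
            (fun l' h1' h2' => ?_)
          · have := hpos l
            rw [hγ] at this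
            evd1
          · rw [hγ] at h0
            evd1
          · rw [hγ] at hgj0
            evd1
          · left
            rw [hγ] at h0
            evd1
          · left
            rw [hγ] at hgj0
            evd1
        have := (hlink _ hL).1 l1
        rw [hγ] at hgj0
        revert this
        evd1
      · by_cases hq1 : Gv (mz n q s) α (Sum.inr j) l1 = q
        · -- `α = e_b - e_(j+1)`
          have hP : ∀ l' : Fin (n + 1), 2 ≤ l'.val → l'.val ≤ s →
              Gv (mz n q s) α (Sum.inr j) l' = 0 := by
            intro l' h1' h2'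
            rcases f5 l' h1' h2' with h | h
            · omega
            · exact h
          obtain ⟨b, hbb⟩ := HilbPP.exists_single n
            (fun l => Gv (mz n q s) α (Sum.inr j) l - (if l.val = 1 then (q : ℤ) else 0)) (by
              intro l
              beta_reduce
              by_cases hl : l.val = 1
              · obtain rfl : l = l1 := Fin.ext (by omega)
                rw [if_pos hl]
                omega
              · rw [if_neg hl]
                have := hpos l
                omega) (by
              rw [Finset.sum_sub_distrib, hs, HilbPP.sum_ind n 1 (by omega)]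
              ring)
          beta_reduce at hbb
          have hbs : s < b.val := by
            by_contra hle
            have hb := hbb b
            rw [if_pos rfl] at hb
            by_cases hb0 : b.val = 0
            · obtain rfl : b = l0 := Fin.ext (by omega)
              rw [if_neg (by omega)] at hb
              omega
            · by_cases hb1 : b.val = 1
              · obtain rfl : b = l1 := Fin.ext (by omega)
                rw [if_pos hb1] at hb
                omega
              · rw [if_neg hb1, hP b (by omega) (by omega)] at hb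
                omega
          have hα : α = HilbQA.aE n b.val (j.val + 1) := by
            funext l
            have e1 := hbb l
            have e2 := hγ l
            simp only [HilbQA.aE]
            omega
          have hbn := b.2
          rw [hα]
          exact mem_SC n q s (j.val + 1) b.val (by omega) (by omega) hbs (by omega)
        · exfalso
          have hq2 : Gv (mz n q s) α (Sum.inr j) l1 < q := by omega
          by_cases hs3 : s = 2
          · have hL : Out n q s (Lv (mz n q s) α (Sum.inr j) (Sum.inr ⟨0, by omega⟩)) := by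
              refine out_of' n q s l0 l1 hl0 hl1 (fun l => ?_) ?_ ?_ (fun l' h1' h2' => ?_)
                (fun l' h1' h2' => ?_)
              · have := hpos l
                rw [hγ] at this
                evd1
              · rw [hγ] at h0
                evd1
              · rw [hγ] at hq2
                evd1
              · left
                rw [hγ] at h0
                evd1
              · right
                obtain rfl : l' = lj := Fin.ext (by omega)
                rw [hγ] at hgj0
                evd1
            have := (hlink _ hL).1 lj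
            rw [hγ] at hgj0
            revert this
            evd1
          · obtain ⟨t, ht1, ht2, ht3⟩ : ∃ t : ℕ, 1 ≤ t ∧ t < s ∧ t ≠ j.val := by
              by_cases h : j.val = 1
              · exact ⟨2, by omega, by omega, by omega⟩
              · exact ⟨1, by omega, by omega, by omega⟩
            have hL : Out n q s (Lv (mz n q s) α (Sum.inr j) (Sum.inr ⟨t, ht2⟩)) := by
              refine out_of' n q s l0 l1 hl0 hl1 (fun l => ?_) ?_ ?_ (fun l' h1' h2' => ?_)
                (fun l' h1' h2' => ?_)
              · have := hpos l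
                rw [hγ] at this
                evd1
              · rw [hγ] at h0
                evd1
              · rw [hγ] at hq2
                evd1
              · left
                rw [hγ] at h0
                evd1
              · left
                rw [hγ] at hq2
                evd1
            have := (hlink _ hL).1 lj
            rw [hγ] at hgj0
            revert this
            evd1

theorem hbot (k : Type*) [Field k] (hn : 4 ≤ n) (hq : 1 ≤ q) (hs2 : 2 ≤ s) (hsn : s + 2 ≤ n)
    (hcase : s + 3 ≤ n ∨ 3 ≤ q) (α : Fin (n + 1) → ℤ) (hsum : ∑ l, α l = 0)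
    (hnot : α ∉ Sall n q s) : ∀ c ∈ V k (m n q s) α, c = 0 := by
  have hF := isFrame n q s (by omega) (by omega) (by omega)
  apply V_eq_zero k hF
  intro g
  by_contra hk
  push Not at hk
  obtain ⟨h1, h2⟩ := hk
  apply hnot
  rcases g with i | j
  · exact complete_inl n q s hn hq hs2 hsn hcase α hsum i h1 h2
  · exact complete_inr n q s hn hq hs2 hsn α hsum j h1 h2

end Groth.Agent.Helper20.HilbQC
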