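import Mathlib
import Groth.Prelude.Def_W4c1hilbpnTgt
import Groth.Agent.Lib.Helper25.HilbTgt
import Groth.Agent.Lib.Helper20.HilbGen
import Groth.Agent.Lib.Helper20.HilbFrame
import Groth.Agent.Lib.Helper20.HilbFrame2
import Groth.Agent.Lib.Helper20.HilbPP3
import Groth.Agent.Lib.Helper20.HilbPP4
import Groth.Agent.Lib.Helper20.HilbPP5
import Groth.Agent.Lib.Helper20.HilbPP6
import Groth.Agent.Lib.Helper20.HilbQA2
import Groth.Agent.Lib.Helper20.HilbQA4
import Groth.Agent.Lib.Helper20.HilbQC1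
import Groth.Agent.Lib.Helper20.HilbQC2
import Groth.Agent.Lib.Helper20.HilbQC4
import Groth.Agent.Lib.Helper20.HilbQC5

/-!
The ideal `x_0·(x_0, …, x_{n-1}) + x_1^q·(x_1, …, x_s)`: counting the pieces of multidegree
`μ - q e_1` (helper20).
-/

set_option autoImplicit false

namespace Groth.Agent.Helper20.HilbQC

open MvPolynomial W4c1hilbpn Groth.Agent.Helper25.HilbTgt Groth.Agent.Helper20.HilbGen
  Groth.Agent.Helper20.HilbFrame

variable (n q s : ℕ)

lemma sum_indN (c : ℕ) (hc : c ≤ n) (x : ℕ) :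
    ∑ l : Fin (n + 1), (if l.val = c then x else 0) = x := by
  have : ∀ l : Fin (n + 1), (l.val = c) = (l = ⟨c, by omega⟩) :=
    fun l => propext (by rw [Fin.ext_iff])
  simp only [this, Finset.sum_ite_eq', Finset.mem_univ, if_true]

/-- `(q-1) e_1 + e_b` -/
noncomputable def tB (b : ℕ) : Fin (n + 1) →₀ ℕ :=
  Finsupp.equivFunOnFinite.symm
    (fun l => (if l.val = 1 then q - 1 else 0) + (if l.val = b then 1 else 0))

lemma tB_apply (b : ℕ) (l : Fin (n + 1)) :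
    tB n q b l = (if l.val = 1 then q - 1 else 0) + (if l.val = b then 1 else 0) := rfl

lemma tB_mem (hn : 4 ≤ n) (hq : 1 ≤ q) (b : ℕ) (hb2 : 2 ≤ b) (hbn : b ≤ n) :
    tB n q b ∈ HilbPP.D n q := by
  rw [HilbPP.mem_D]
  constructor
  · rw [tB_apply, if_neg (by rw [Fin.val_zero]; omega), if_neg (by rw [Fin.val_zero]; omega)]
  · simp only [tB_apply]
    rw [Finset.sum_add_distrib, sum_indN n 1 (by omega), sum_indN n b hbn]
    omega

/-- `μ = (q-1) e_1 + (something outside `[2, c]`)` -/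
def Rc (c : ℕ) (μ : Fin (n + 1) → ℕ) : Prop :=
  μ 1 + 1 = q ∧ ∀ l' : Fin (n + 1), 2 ≤ l'.val → l'.val ≤ c → μ l' = 0

instance (c : ℕ) (μ : Fin (n + 1) → ℕ) : Decidable (Rc n q c μ) := by
  unfold Rc
  infer_instance

lemma Rc_iff (hn : 4 ≤ n) (hq : 1 ≤ q) (c : ℕ) (hc1 : 1 ≤ c) (hcn : c < n)
    {μ : Fin (n + 1) →₀ ℕ} (hμ : μ ∈ HilbPP.D n q) :
    Rc n q c ⇑μ ↔ ∃ b, c < b ∧ b ≤ n ∧ μ = tB n q b := by
  rw [HilbPP.mem_D] at hμ
  have h1 := val_one_fin n (by omega)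
  have h0 : ((0 : Fin (n + 1)) : ℕ) = 0 := Fin.val_zero _
  constructor
  · rintro ⟨hR1, hR2⟩
    obtain ⟨b, hbb⟩ := HilbPP.exists_single n
      (fun l => (μ l : ℤ) - (if l.val = 1 then ((q : ℤ) - 1) else 0)) (by
        intro l
        beta_reduce
        by_cases hl : l.val = 1
        · obtain rfl : l = 1 := Fin.ext (by omega)
          rw [if_pos hl]
          omega
        · rw [if_neg hl]
          omega) (by
        rw [Finset.sum_sub_distrib, HilbPP.sum_ind n 1 (by omega), ← Nat.cast_sum, hμ.2]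
        ring)
    beta_reduce at hbb
    have hb : c < b.val := by
      by_contra hle
      have hb := hbb b
      rw [if_pos rfl] at hb
      by_cases hb0 : b.val = 0
      · obtain rfl : b = 0 := Fin.ext (by omega)
        rw [if_neg (by omega), hμ.1] at hb
        omega
      · by_cases hb1 : b.val = 1
        · obtain rfl : b = 1 := Fin.ext (by omega)
          rw [if_pos hb1] at hb
          omega
        · rw [if_neg hb1, hR2 b (by omega) (by omega)] at hb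
          omega
    refine ⟨b.val, hb, by have := b.2; omega, ?_⟩
    ext l
    have := hbb l
    rw [tB_apply]
    split_ifs at this ⊢ <;> omega
  · rintro ⟨b, hb1, hb2, rfl⟩
    refine ⟨?_, fun l' h1' h2' => ?_⟩
    · rw [tB_apply, if_pos h1, if_neg (by omega)]
      omega
    · rw [tB_apply, if_neg (by omega), if_neg (by omega)]

lemma filter_Rc (hn : 4 ≤ n) (hq : 1 ≤ q) (c : ℕ) (hc1 : 1 ≤ c) (hcn : c < n) :
    (HilbPP.D n q).filter (fun μ : Fin (n + 1) →₀ ℕ => Rc n q c ⇑μ) = (Finset.Icc (c + 1) n).image (tB n q) := by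
  ext μ
  rw [Finset.mem_filter, Finset.mem_image]
  constructor
  · rintro ⟨hμ, hR⟩
    obtain ⟨b, hb1, hb2, rfl⟩ := (Rc_iff n q hn hq c hc1 hcn hμ).1 hR
    exact ⟨b, Finset.mem_Icc.2 ⟨hb1, hb2⟩, rfl⟩
  · rintro ⟨b, hb, rfl⟩
    rw [Finset.mem_Icc] at hb
    have hm := tB_mem n q hn hq b (by omega) hb.2
    exact ⟨hm, (Rc_iff n q hn hq c hc1 hcn hm).2 ⟨b, hb.1, hb.2, rfl⟩⟩

lemma card_filter_Rc (hn : 4 ≤ n) (hq : 1 ≤ q) (c : ℕ) (hc1 : 1 ≤ c) (hcn : c < n) :
    ((HilbPP.D n q).filter (fun μ : Fin (n + 1) →₀ ℕ => Rc n q c ⇑μ)).card = n - c := by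
  rw [filter_Rc n q hn hq c hc1 hcn, Finset.card_image_of_injOn, Nat.card_Icc]
  · omega
  · intro b hb b' hb' h
    have hb1 := Finset.mem_Icc.1 (Finset.mem_coe.1 hb)
    obtain ⟨l, hl⟩ : ∃ l : Fin (n + 1), l.val = b := ⟨⟨b, by omega⟩, rfl⟩
    have := DFunLike.congr_fun h l
    rw [tB_apply, tB_apply] at this
    split_ifs at this <;> omega

theorem sum_dimB (hn : 4 ≤ n) (hq : 1 ≤ q) (hs2 : 2 ≤ s) (hsn : s + 2 ≤ n) :
    ∑ μ ∈ HilbPP.D n q, dimB n q s ⇑μ + 1 = (HilbPP.D n q).card + (n - s) + 1 := by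
  have key : ∀ μ ∈ HilbPP.D n q, dimB n q s ⇑μ + (if μ = HilbPP.s1 n q then 1 else 0) =
      1 + (if Rc n q s ⇑μ then 1 else 0) + (if Rc n q (n - 1) ⇑μ then 1 else 0) := by
    intro μ hμ
    have e1 := HilbPP.C1 n q (by omega) hμ
    have a1 : R1 n q s ⇑μ ↔ Rc n q s ⇑μ := Iff.rfl
    have a2 : R2 n q ⇑μ ↔ Rc n q (n - 1) ⇑μ := by
      constructor
      · rintro ⟨h1, h2⟩
        exact ⟨h1, fun l' h1' h2' => h2 l' h1' (by omega)⟩
      · rintro ⟨h1, h2⟩
        exact ⟨h1, fun l' h1' h2' => h2 l' h1' (by omega)⟩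
    unfold dimB
    by_cases c1 : q ≤ μ 1
    · have t1 : μ = HilbPP.s1 n q := e1.1 c1
      have t2 : ¬ Rc n q s ⇑μ := fun h => by have := h.1; omega
      have t3 : ¬ Rc n q (n - 1) ⇑μ := fun h => by have := h.1; omega
      rw [if_pos c1, if_pos t1, if_neg t2, if_neg t3]
    · have t1 : μ ≠ HilbPP.s1 n q := fun h => c1 (e1.2 h)
      rw [if_neg c1, if_neg t1]
      by_cases hR1 : Rc n q s ⇑μ <;> by_cases hR2 : Rc n q (n - 1) ⇑μ
      · rw [if_pos (a1.2 hR1), if_pos (a2.2 hR2), if_pos hR1, if_pos hR2]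
      · rw [if_pos (a1.2 hR1), if_neg (fun h => hR2 (a2.1 h)), if_pos hR1, if_neg hR2]
      · rw [if_neg (fun h => hR1 (a1.1 h)), if_pos (a2.2 hR2), if_neg hR1, if_pos hR2]
      · rw [if_neg (fun h => hR1 (a1.1 h)), if_neg (fun h => hR2 (a2.1 h)), if_neg hR1,
          if_neg hR2]
  have h := Finset.sum_congr rfl key
  rw [Finset.sum_add_distrib, Finset.sum_add_distrib, Finset.sum_add_distrib,
    Finset.sum_ite_eq_of_mem' _ _ _ (HilbPP.s1_mem n q (by omega)),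
    Finset.sum_boole, Finset.sum_boole, card_filter_Rc n q hn hq s (by omega) (by omega),
    card_filter_Rc n q hn hq (n - 1) (by omega) (by omega),
    Finset.sum_const, smul_eq_mul, mul_one] at h
  simp only [Nat.cast_id] at h
  omega

end Groth.Agent.Helper20.HilbQC
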