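import Mathlib
import Groth.Prelude.Def_W4c1hilbpnTgt
import Groth.Agent.Lib.Helper25.HilbTgt
import Groth.Agent.Lib.Helper20.HilbGen
import Groth.Agent.Lib.Helper20.HilbFrame
import Groth.Agent.Lib.Helper20.HilbFrame2
import Groth.Agent.Lib.Helper20.HilbPP3
import Groth.Agent.Lib.Helper20.HilbPP4
import Groth.Agent.Lib.Helper20.HilbPP5
import Groth.Agent.Lib.Helper20.HilbPP6
import Groth.Agent.Lib.Helper20.HilbQA2
import Groth.Agent.Lib.Helper20.HilbQA4
import Groth.Agent.Lib.Helper20.HilbQC1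
import Groth.Agent.Lib.Helper20.HilbQC2
import Groth.Agent.Lib.Helper20.HilbQC4
import Groth.Agent.Lib.Helper20.HilbQC5
import Groth.Agent.Lib.Helper20.HilbQC6

/-!
The ideal `x_0·(x_0, …, x_{n-1}) + x_1^q·(x_1, …, x_s)`: the dimension of the degree-0 part of
`Hom(I, S/I)` (helper20).
-/

set_option autoImplicit false

namespace Groth.Agent.Helper20.HilbQC

open MvPolynomial W4c1hilbpn Groth.Agent.Helper25.HilbTgt Groth.Agent.Helper20.HilbGen
  Groth.Agent.Helper20.HilbFrame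

variable (n q s : ℕ)

lemma sum_SA (k : Type*) [Field k] (hn : 4 ≤ n) (hq : 1 ≤ q) (hs2 : 2 ≤ s) (hsn : s + 2 ≤ n) :
    ∑ α ∈ SA n, Module.finrank k (V k (m n q s) α) = n + 1 := by
  unfold SA
  rw [Finset.sum_image]
  · have : ∀ b ∈ Finset.Icc 1 n, Module.finrank k (V k (m n q s) (HilbQA.aE n b 0)) =
        1 + (if b = n then 1 else 0) := by
      intro b hb
      rw [Finset.mem_Icc] at hb
      exact finrank_A n q s k hn hq hs2 hsn b hb.1 hb.2 _ (fun h => by rw [if_pos h])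
        (fun h => by rw [if_neg h])
    rw [Finset.sum_congr rfl this, Finset.sum_add_distrib, Finset.sum_const,
      Finset.sum_ite_eq_of_mem' _ _ _ (Finset.mem_Icc.2 ⟨by omega, le_refl n⟩), Nat.card_Icc,
      smul_eq_mul, mul_one]
    omega
  · intro b hb b' hb' h
    have hb1 := Finset.mem_Icc.1 (Finset.mem_coe.1 hb)
    obtain ⟨l, hl⟩ : ∃ l : Fin (n + 1), l.val = b := ⟨⟨b, by omega⟩, rfl⟩
    have := congrFun h l
    simp only [HilbQA.aE] at this
    split_ifs at this <;> omega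

lemma sum_SB (k : Type*) [Field k] (hn : 4 ≤ n) (hq : 1 ≤ q) (hs2 : 2 ≤ s) (hsn : s + 2 ≤ n) :
    ∑ α ∈ SB n q, Module.finrank k (V k (m n q s) α) + 1 =
      (HilbPP.D n q).card + (n - s) + 1 := by
  unfold SB
  rw [Finset.sum_image]
  · rw [← sum_dimB n q s hn hq hs2 hsn]
    congr 1
    apply Finset.sum_congr rfl
    intro μ hμ
    exact finrank_B n q s k hn hq hs2 hsn ⇑μ ((HilbPP.mem_D n q).1 hμ).1
  · intro μ hμ μ' hμ' h
    ext l
    have := congrFun h l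
    simp only [HilbPP.aN] at this
    omega

lemma sum_SC (k : Type*) [Field k] (hn : 4 ≤ n) (hq : 1 ≤ q) (hs2 : 2 ≤ s) (hsn : s + 2 ≤ n) :
    ∑ α ∈ SC n s, Module.finrank k (V k (m n q s) α) = (s - 1) * (n - s + 1) := by
  unfold SC
  rw [Finset.sum_image]
  · have : ∀ p ∈ (Finset.Icc 2 s) ×ˢ (Finset.Icc (s + 1) n),
        Module.finrank k (V k (m n q s) (HilbQA.aE n p.2 p.1)) =
        1 + (if p.2 = n then 1 else 0) := by
      intro p hp
      rw [Finset.mem_product, Finset.mem_Icc, Finset.mem_Icc] at hp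
      exact finrank_C n q s k hn hq hs2 hsn p.1 p.2 hp.1.1 hp.1.2 (by omega) hp.2.2 _
        (fun h => by rw [if_pos h]) (fun h => by rw [if_neg h])
    rw [Finset.sum_congr rfl this, Finset.sum_product]
    have inner : ∀ i ∈ Finset.Icc 2 s,
        ∑ b ∈ Finset.Icc (s + 1) n, (1 + (if b = n then 1 else 0)) = n - s + 1 := by
      intro i _
      rw [Finset.sum_add_distrib, Finset.sum_const,
        Finset.sum_ite_eq_of_mem' _ _ _ (Finset.mem_Icc.2 ⟨by omega, le_refl n⟩), Nat.card_Icc,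
        smul_eq_mul, mul_one]
      omega
    rw [Finset.sum_congr rfl inner, Finset.sum_const, Nat.card_Icc, smul_eq_mul]
    congr 1
  · intro p hp p' hp' h
    have hp1 := Finset.mem_product.1 (Finset.mem_coe.1 hp)
    have hp1' := Finset.mem_product.1 (Finset.mem_coe.1 hp')
    rw [Finset.mem_Icc, Finset.mem_Icc] at hp1 hp1'
    obtain ⟨li, hli⟩ : ∃ l : Fin (n + 1), l.val = p.1 := ⟨⟨p.1, by omega⟩, rfl⟩
    obtain ⟨lb, hlb⟩ : ∃ l : Fin (n + 1), l.val = p.2 := ⟨⟨p.2, by omega⟩, rfl⟩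
    have e1 := congrFun h li
    have e2 := congrFun h lb
    simp only [HilbQA.aE] at e1 e2
    have a1 : p.1 = p'.1 := by omega
    have a2 : p.2 = p'.2 := by omega
    exact Prod.ext a1 a2

lemma sum_SD (k : Type*) [Field k] (hn : 4 ≤ n) (hq : 1 ≤ q) (hs2 : 2 ≤ s) (hsn : s + 2 ≤ n) :
    ∑ α ∈ SD n s, Module.finrank k (V k (m n q s) α) = n - 1 - s := by
  unfold SD
  rw [Finset.sum_image]
  · have : ∀ i ∈ Finset.Ico (s + 1) n,
        Module.finrank k (V k (m n q s) (HilbQA.aE n n i)) = 1 := by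
      intro i hi
      rw [Finset.mem_Ico] at hi
      exact finrank_D n q s k hn hq hs2 hsn i (by omega) hi.2
    rw [Finset.sum_congr rfl this, Finset.sum_const, Nat.card_Ico, smul_eq_mul, mul_one]
    omega
  · intro i hi i' hi' h
    have hi1 := Finset.mem_Ico.1 (Finset.mem_coe.1 hi)
    obtain ⟨l, hl⟩ : ∃ l : Fin (n + 1), l.val = i := ⟨⟨i, by omega⟩, rfl⟩
    have := congrFun h l
    simp only [HilbQA.aE] at this
    split_ifs at this <;> omega

lemma sum_SE (k : Type*) [Field k] (hn : 4 ≤ n) (hq : 1 ≤ q) (hs2 : 2 ≤ s) (hsn : s + 2 ≤ n) :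
    ∑ α ∈ SE n q s, Module.finrank k (V k (m n q s) α) = s := by
  unfold SE
  rw [Finset.sum_image]
  · have : ∀ j ∈ Finset.Icc 1 s, Module.finrank k (V k (m n q s) (aG n q j)) = 1 := by
      intro j hj
      rw [Finset.mem_Icc] at hj
      exact finrank_E n q s k hn hq hs2 hsn j hj.1 hj.2
    rw [Finset.sum_congr rfl this, Finset.sum_const, Nat.card_Icc, smul_eq_mul, mul_one]
    omega
  · intro j hj j' hj' h
    have hj1 := Finset.mem_Icc.1 (Finset.mem_coe.1 hj)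
    have hj1' := Finset.mem_Icc.1 (Finset.mem_coe.1 hj')
    obtain ⟨l, hl⟩ : ∃ l : Fin (n + 1), l.val = j := ⟨⟨j, by omega⟩, rfl⟩
    have := congrFun h l
    simp only [aG] at this
    omega

lemma SA_prop {α : Fin (n + 1) → ℤ} (hα : α ∈ SA n) (l0 : Fin (n + 1)) (hl0 : l0.val = 0) :
    α l0 = -1 := by
  rw [SA, Finset.mem_image] at hα
  obtain ⟨b, hb, rfl⟩ := hα
  rw [Finset.mem_Icc] at hb
  simp only [HilbQA.aE]
  split_ifs <;> omega

lemma SB_prop {α : Fin (n + 1) → ℤ} (hα : α ∈ SB n q) (l0 : Fin (n + 1)) (hl0 : l0.val = 0) :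
    α l0 = 0 ∧ ∀ l : Fin (n + 1), l.val ≠ 1 → 0 ≤ α l := by
  rw [SB, Finset.mem_image] at hα
  obtain ⟨μ, hμ, rfl⟩ := hα
  rw [HilbPP.mem_D] at hμ
  constructor
  · obtain rfl : l0 = 0 := Fin.ext (by rw [hl0, Fin.val_zero])
    simp only [HilbPP.aN]
    rw [hμ.1, if_neg (by omega)]
    norm_num
  · intro l hl
    simp only [HilbPP.aN]
    rw [if_neg hl]
    omega

lemma SC_prop (hs2 : 2 ≤ s) (hsn : s + 2 ≤ n) {α : Fin (n + 1) → ℤ} (hα : α ∈ SC n s)
    (l0 : Fin (n + 1)) (hl0 : l0.val = 0) :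
    α l0 = 0 ∧ ∃ l : Fin (n + 1), 2 ≤ l.val ∧ l.val ≤ s ∧ α l < 0 := by
  rw [SC, Finset.mem_image] at hα
  obtain ⟨p, hp, rfl⟩ := hα
  rw [Finset.mem_product, Finset.mem_Icc, Finset.mem_Icc] at hp
  constructor
  · simp only [HilbQA.aE]
    omega
  · refine ⟨⟨p.1, by omega⟩, hp.1.1, hp.1.2, ?_⟩
    simp only [HilbQA.aE, Fin.val_mk, ↓reduceIte]
    omega

lemma SD_prop (hs2 : 2 ≤ s) (hsn : s + 2 ≤ n) {α : Fin (n + 1) → ℤ} (hα : α ∈ SD n s)
    (l0 : Fin (n + 1)) (hl0 : l0.val = 0) :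
    α l0 = 0 ∧ (∀ l : Fin (n + 1), 2 ≤ l.val → l.val ≤ s → 0 ≤ α l) ∧
      ∃ l : Fin (n + 1), l.val ≠ 1 ∧ α l < 0 := by
  rw [SD, Finset.mem_image] at hα
  obtain ⟨i, hi, rfl⟩ := hα
  rw [Finset.mem_Ico] at hi
  refine ⟨?_, fun l h1 h2 => ?_, ⟨⟨i, by omega⟩, by show i ≠ 1; omega, ?_⟩⟩
  · simp only [HilbQA.aE]
    omega
  · simp only [HilbQA.aE]
    omega
  · simp only [HilbQA.aE, Fin.val_mk, ↓reduceIte]
    omega

lemma SE_prop (hn : 4 ≤ n) (hs2 : 2 ≤ s) (hsn : s + 2 ≤ n) {α : Fin (n + 1) → ℤ}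
    (hα : α ∈ SE n q s) (l0 : Fin (n + 1)) (hl0 : l0.val = 0) : α l0 = 1 := by
  rw [SE, Finset.mem_image] at hα
  obtain ⟨j, hj, rfl⟩ := hα
  rw [Finset.mem_Icc] at hj
  simp only [aG]
  omega

lemma sum_aG (hn : 4 ≤ n) (j : ℕ) (hj : j ≤ n) : ∑ l, aG n q j l = 0 := by
  simp only [aG]
  rw [Finset.sum_sub_distrib, Finset.sum_sub_distrib, Finset.sum_add_distrib,
    HilbPP.sum_ind n 0 (by omega), HilbPP.sum_ind n n (le_refl n), HilbPP.sum_ind n 1 (by omega),
    HilbPP.sum_ind n j hj]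
  ring

theorem Sall_sum (hn : 4 ≤ n) (hs2 : 2 ≤ s) (hsn : s + 2 ≤ n) :
    ∀ α ∈ Sall n q s, ∑ l, α l = 0 := by
  intro α hα
  unfold Sall at hα
  simp only [Finset.mem_union] at hα
  rcases hα with (((h | h) | h) | h) | h
  · rw [SA, Finset.mem_image] at h
    obtain ⟨b, hb, rfl⟩ := h
    rw [Finset.mem_Icc] at hb
    exact HilbQA.sum_aE n b 0 hb.2 (by omega)
  · rw [SB, Finset.mem_image] at h
    obtain ⟨μ, hμ, rfl⟩ := h
    rw [HilbPP.mem_D] at hμ
    exact HilbPP.sum_aN n q μ (by omega) hμ.2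
  · rw [SC, Finset.mem_image] at h
    obtain ⟨p, hp, rfl⟩ := h
    rw [Finset.mem_product, Finset.mem_Icc, Finset.mem_Icc] at hp
    exact HilbQA.sum_aE n p.2 p.1 hp.2.2 (by omega)
  · rw [SD, Finset.mem_image] at h
    obtain ⟨i, hi, rfl⟩ := h
    rw [Finset.mem_Ico] at hi
    exact HilbQA.sum_aE n n i (le_refl n) (by omega)
  · rw [SE, Finset.mem_image] at h
    obtain ⟨j, hj, rfl⟩ := h
    rw [Finset.mem_Icc] at hj
    exact sum_aG n q hn j (by omega)

theorem total (k : Type*) [Field k] (hn : 4 ≤ n) (hq : 1 ≤ q) (hs2 : 2 ≤ s)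
    (hsn : s + 2 ≤ n) :
    ∑ α ∈ Sall n q s, Module.finrank k (V k (m n q s) α) =
      3 * n - 1 + (s - 1) * (n - s) + (n + q - 1).choose (n - 1) := by
  obtain ⟨l0, hl0⟩ : ∃ l : Fin (n + 1), l.val = 0 := ⟨⟨0, by omega⟩, rfl⟩
  have d1 : Disjoint (SA n) (SB n q) := by
    rw [Finset.disjoint_left]
    intro α hA hB
    have := SA_prop n hA l0 hl0
    have := (SB_prop n q hB l0 hl0).1
    omega
  have d2 : Disjoint (SA n ∪ SB n q) (SC n s) := by
    rw [Finset.disjoint_left]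
    intro α h hC
    obtain ⟨c0, l, hl1, hl2, hneg⟩ := SC_prop n s hs2 hsn hC l0 hl0
    rcases Finset.mem_union.1 h with hA | hB
    · have := SA_prop n hA l0 hl0
      omega
    · have := (SB_prop n q hB l0 hl0).2 l (by omega)
      omega
  have d3 : Disjoint (SA n ∪ SB n q ∪ SC n s) (SD n s) := by
    rw [Finset.disjoint_left]
    intro α h hD
    obtain ⟨c0, hnn, l, hl1, hneg⟩ := SD_prop n s hs2 hsn hD l0 hl0
    rcases Finset.mem_union.1 h with h' | hC
    · rcases Finset.mem_union.1 h' with hA | hB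
      · have := SA_prop n hA l0 hl0
        omega
      · have := (SB_prop n q hB l0 hl0).2 l hl1
        omega
    · obtain ⟨-, l', hl1', hl2', hneg'⟩ := SC_prop n s hs2 hsn hC l0 hl0
      have := hnn l' hl1' hl2'
      omega
  have d4 : Disjoint (SA n ∪ SB n q ∪ SC n s ∪ SD n s) (SE n q s) := by
    rw [Finset.disjoint_left]
    intro α h hE
    have e := SE_prop n q s hn hs2 hsn hE l0 hl0
    rcases Finset.mem_union.1 h with h' | hD
    · rcases Finset.mem_union.1 h' with h'' | hC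
      · rcases Finset.mem_union.1 h'' with hA | hB
        · have := SA_prop n hA l0 hl0
          omega
        · have := (SB_prop n q hB l0 hl0).1
          omega
      · have := (SC_prop n s hs2 hsn hC l0 hl0).1
        omega
    · have := (SD_prop n s hs2 hsn hD l0 hl0).1
      omega
  unfold Sall
  rw [Finset.sum_union d4, Finset.sum_union d3, Finset.sum_union d2, Finset.sum_union d1,
    sum_SA n q s k hn hq hs2 hsn, sum_SC n q s k hn hq hs2 hsn, sum_SD n q s k hn hq hs2 hsn,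
    sum_SE n q s k hn hq hs2 hsn]
  have h1 := sum_SB n q s k hn hq hs2 hsn
  have h2 := HilbPP.card_D n q (by omega)
  have h3 : (n + q - 1).choose (n - 1) = (n + q - 1).choose q :=
    Nat.choose_symm_of_eq_add (by omega)
  have h4 : (s - 1) * (n - s + 1) = (s - 1) * (n - s) + (s - 1) := Nat.mul_succ _ _
  rw [h3, h4]
  omega

/-- the dimension of the degree-0 part of `Hom(I, S/I)` for
`I = x_0 (x_0..x_{n-1}) + x_1^q (x_1..x_{n-r-1})` -/
theorem main (k : Type*) [Field k] (n q r : ℕ) (hn : 4 ≤ n) (hq : 1 ≤ q) (hr : r + 3 ≤ n)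
    (hcase : 2 ≤ r ∨ (r = 1 ∧ 3 ≤ q)) :
    Module.finrank k ↥(⨆ α : {α : Fin (n + 1) → ℤ // ∑ i, α i = 0},
      tPiece (Ideal.span ({f : MvPolynomial (Fin (n + 1)) k | ∃ i : Fin (n + 1),
        i.val + 1 ≤ n ∧ f = X 0 * X i} ∪ {f : MvPolynomial (Fin (n + 1)) k |
        ∃ i : Fin (n + 1), 1 ≤ i.val ∧ i.val ≤ n - r - 1 ∧ f = X 1 ^ q * X i})) α.1) =
      3 * n - 1 + (n - r - 2) * (r + 1) + Nat.choose (n + q - 1) (n - 1) := by
  have hs2 : 2 ≤ n - r - 1 := by omega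
  have hsn : n - r - 1 + 2 ≤ n := by omega
  have hc : n - r - 1 + 3 ≤ n ∨ 3 ≤ q := by omega
  rw [ideal_eq n q (n - r - 1) k (by omega) (by omega)]
  have := finrank_iSup_tPiece k (m n q (n - r - 1)) (Sall n q (n - r - 1))
    (fun α => ∑ i, α i = 0) (Sall_sum n q (n - r - 1) hn hs2 hsn)
    (fun α hα hnot => hbot n q (n - r - 1) k hn hq hs2 hsn hc α hα hnot)
  rw [this, total n q (n - r - 1) k hn hq hs2 hsn]
  have e1 : n - r - 1 - 1 = n - r - 2 := by omega
  have e2 : n - (n - r - 1) = r + 1 := by omega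
  rw [e1, e2]

end Groth.Agent.Helper20.HilbQC
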