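import Mathlib

/-!
An irreducibility criterion for quadratic polynomials over a domain, and small tools for
multivariate polynomials (helper20).
-/

set_option autoImplicit false
universe u

namespace Groth.Agent.Helper20.IrrQ

open Polynomial in
theorem coeffs_quadratic {S : Type u} [CommRing S] (a b c : S) :
    (C a * X ^ 2 + C b * X + C c : S[X]).coeff 2 = a ∧
    (C a * X ^ 2 + C b * X + C c : S[X]).coeff 1 = b ∧
    (C a * X ^ 2 + C b * X + C c : S[X]).coeff 0 = c := by
  refine ⟨?_, ?_, ?_⟩ <;> simp [coeff_X, coeff_C]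

open Polynomial in
/-- A primitive quadratic polynomial over a domain whose discriminant is not a square is
irreducible. -/
theorem irreducible_quadratic {S : Type u} [CommRing S] [IsDomain S] (a b c : S) (ha : a ≠ 0)
    (hprim : ∀ r, r ∣ a → r ∣ b → r ∣ c → IsUnit r) (hsq : ¬ IsSquare (b ^ 2 - 4 * a * c)) :
    Irreducible (C a * X ^ 2 + C b * X + C c : S[X]) := by
  set p : S[X] := C a * X ^ 2 + C b * X + C c with hp
  have hdeg : p.natDegree = 2 := natDegree_quadratic ha
  have hp0 : p ≠ 0 := by
    intro h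
    rw [h, natDegree_zero] at hdeg
    omega
  have hc2 : p.coeff 2 = a := (coeffs_quadratic a b c).1
  have hc1 : p.coeff 1 = b := (coeffs_quadratic a b c).2.1
  have hc0 : p.coeff 0 = c := (coeffs_quadratic a b c).2.2
  have hconst : ∀ r : S, C r ∣ p → IsUnit (C r : S[X]) := by
    intro r hr
    rw [C_dvd_iff_dvd_coeff] at hr
    exact (hprim r (hc2 ▸ hr 2) (hc1 ▸ hr 1) (hc0 ▸ hr 0)).map C
  refine ⟨?_, ?_⟩
  · intro hu
    have := natDegree_eq_zero_of_isUnit hu
    omega
  · intro g h hgh
    have hg0 : g ≠ 0 := by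
      rintro rfl
      rw [zero_mul] at hgh
      exact hp0 hgh
    have hh0 : h ≠ 0 := by
      rintro rfl
      rw [mul_zero] at hgh
      exact hp0 hgh
    have hsum : g.natDegree + h.natDegree = 2 := by
      rw [← natDegree_mul hg0 hh0, ← hgh, hdeg]
    by_cases hgd : g.natDegree = 0
    · left
      rw [eq_C_of_natDegree_eq_zero hgd]
      apply hconst
      rw [← eq_C_of_natDegree_eq_zero hgd]
      exact ⟨h, hgh⟩
    by_cases hhd : h.natDegree = 0
    · right
      rw [eq_C_of_natDegree_eq_zero hhd]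
      apply hconst
      rw [← eq_C_of_natDegree_eq_zero hhd]
      exact ⟨g, by rw [hgh, mul_comm]⟩
    exfalso
    have hg1 : g.natDegree ≤ 1 := by omega
    have hh1 : h.natDegree ≤ 1 := by omega
    have eg := eq_X_add_C_of_natDegree_le_one hg1
    have eh := eq_X_add_C_of_natDegree_le_one hh1
    set g₁ := g.coeff 1
    set g₀ := g.coeff 0
    set h₁ := h.coeff 1
    set h₀ := h.coeff 0
    have hprod : p = C (g₁ * h₁) * X ^ 2 + C (g₁ * h₀ + g₀ * h₁) * X + C (g₀ * h₀) := by
      rw [hgh, eg, eh]
      simp only [map_mul, map_add]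
      ring
    have e2 : a = g₁ * h₁ := by
      rw [← hc2, hprod]; exact (coeffs_quadratic _ _ _).1
    have e1 : b = g₁ * h₀ + g₀ * h₁ := by
      rw [← hc1, hprod]; exact (coeffs_quadratic _ _ _).2.1
    have e0 : c = g₀ * h₀ := by
      rw [← hc0, hprod]; exact (coeffs_quadratic _ _ _).2.2
    apply hsq
    refine ⟨g₁ * h₀ - g₀ * h₁, ?_⟩
    rw [e2, e1, e0]
    ring

open MvPolynomial in
/-- A polynomial vanishing at a point where one of its partial derivatives does not vanish is not
a square. -/
theorem not_isSquare_of_eval_pderiv {K : Type u} [Field K] {σ : Type*} (D : MvPolynomial σ K)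
    (p : σ → K) (i : σ) (h0 : eval p D = 0) (h1 : eval p (pderiv i D) ≠ 0) : ¬ IsSquare D := by
  rintro ⟨r, rfl⟩
  have hr : eval p r = 0 := by
    rw [map_mul] at h0
    exact mul_self_eq_zero.mp h0
  apply h1
  rw [Derivation.leibniz]
  simp [hr]

open MvPolynomial in
theorem not_dvd_of_eval {K : Type u} [CommRing K] [Nontrivial K] {σ : Type*}
    {f g : MvPolynomial σ K}
    (p : σ → K) (hf : eval p f = 0) (hg : eval p g ≠ 0) : ¬ f ∣ g := by
  rintro ⟨w, rfl⟩
  apply hg
  rw [map_mul, hf, zero_mul]

open MvPolynomial in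
theorem not_mem_span_pair_of_eval {K : Type u} [CommRing K] {σ : Type*}
    {f₁ f₂ g : MvPolynomial σ K}
    (p : σ → K) (hf₁ : eval p f₁ = 0) (hf₂ : eval p f₂ = 0) (hg : eval p g ≠ 0) :
    g ∉ Ideal.span ({f₁, f₂} : Set (MvPolynomial σ K)) := by
  intro hmem
  obtain ⟨u, v, huv⟩ := Ideal.mem_span_pair.mp hmem
  apply hg
  rw [← huv, map_add, map_mul, map_mul, hf₁, hf₂, mul_zero, mul_zero, add_zero]

open MvPolynomial in
theorem ne_zero_of_eval {K : Type u} [CommRing K] {σ : Type*} {f : MvPolynomial σ K}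
    (p : σ → K) (hf : eval p f ≠ 0) : f ≠ 0 := by
  rintro rfl
  exact hf (map_zero _)

/-- irreducible elements of a polynomial ring over a field are prime -/
theorem prime_of_irreducible {K : Type u} [Field K] {σ : Type*} {f : MvPolynomial σ K}
    (hf : Irreducible f) : Prime f :=
  UniqueFactorizationMonoid.irreducible_iff_prime.mp hf

end Groth.Agent.Helper20.IrrQ
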