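import Mathlib

/-!
# Base change of "being an isomorphism" for morphisms of `S`-schemes (package ISOBC for S5275)

`(I1)` compatibility with composition of base changes, `(I2)` fpqc descent, `(I3)` Zariski
locality on the base.
-/

set_option autoImplicit false
universe u
open CategoryTheory CategoryTheory.Limits AlgebraicGeometry MorphismProperty

namespace Groth.Agent.Helper20.IsoBC

/-- The functor `Over.pullback g` sends a morphism to a base change of it. -/
theorem isPullback_overPullback_map {Y Z : Scheme.{u}} (g : Z ⟶ Y)
    {A B : Over Y} (f : A ⟶ B) :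
    IsPullback ((Over.pullback g).map f).left (pullback.fst A.hom g) (pullback.fst B.hom g)
      f.left := by
  have hbig : IsPullback (pullback.fst A.hom g) (pullback.snd A.hom g) (f.left ≫ B.hom) g := by
    rw [Over.w f]
    exact IsPullback.of_hasPullback A.hom g
  have hright : IsPullback (pullback.fst B.hom g) (pullback.snd B.hom g) B.hom g :=
    IsPullback.of_hasPullback _ _
  have hl : ((Over.pullback g).map f).left ≫ pullback.snd B.hom g = pullback.snd A.hom g :=
    pullback.lift_snd _ _ _
  have hf : ((Over.pullback g).map f).left ≫ pullback.fst B.hom g =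
      pullback.fst A.hom g ≫ f.left :=
    pullback.lift_fst _ _ _
  refine IsPullback.of_right (t := hright.flip) ?_ hf
  rw [hl]
  exact hbig.flip

/-- in `Over T`, a morphism is an isomorphism iff its underlying morphism is. -/
theorem isIso_iff_left {T : Scheme.{u}} {A B : Over T} (v : A ⟶ B) : IsIso v ↔ IsIso v.left :=
  ⟨fun _ => inferInstanceAs (IsIso ((Over.forget T).map v)),
    fun h => by
      haveI : IsIso ((Over.forget T).map v) := h
      exact isIso_of_reflects_iso v (Over.forget T)⟩

variable {S : Scheme.{u}} {G H : Over S} (u : G ⟶ H)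

/-- the base change along `π ≫ t` is the base change along `π` of the base change along `t`. -/
theorem isIso_comp_iff {T T2 : Scheme.{u}} (t : T ⟶ S) (π : T2 ⟶ T) :
    IsIso ((Over.pullback (π ≫ t)).map u).left ↔
      IsIso ((Over.pullback π).map ((Over.pullback t).map u)).left := by
  rw [← isIso_iff_left, ← isIso_iff_left]
  exact NatIso.isIso_map_iff (Over.pullbackComp π t) u

/-- (I1) -/
theorem isIso_comp {T T2 : Scheme.{u}} (t : T ⟶ S) (π : T2 ⟶ T)
    (h : IsIso ((Over.pullback t).map u).left) :
    IsIso ((Over.pullback (π ≫ t)).map u).left := by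
  rw [isIso_comp_iff, ← isIso_iff_left]
  haveI : IsIso ((Over.pullback t).map u) := (isIso_iff_left _).mpr h
  infer_instance

/-- (I2) -/
theorem isIso_descend {T T2 : Scheme.{u}} (t : T ⟶ S) (q : T2 ⟶ T) [Flat q] [Surjective q]
    [QuasiCompact q] (h : IsIso ((Over.pullback (q ≫ t)).map u).left) :
    IsIso ((Over.pullback t).map u).left := by
  rw [isIso_comp_iff] at h
  have hpb := isPullback_overPullback_map q ((Over.pullback t).map u)
  have hQ : (@Surjective ⊓ @Flat ⊓ @QuasiCompact : MorphismProperty Scheme.{u})
      (pullback.fst ((Over.pullback t).obj H).hom q) :=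
    ⟨⟨inferInstance, inferInstance⟩, inferInstance⟩
  exact MorphismProperty.of_isPullback_of_descendsAlong (P := isomorphisms Scheme.{u})
    (Q := @Surjective ⊓ @Flat ⊓ @QuasiCompact) hpb hQ h

/-- (I3) -/
theorem isIso_of_local {T : Scheme.{u}} (t : T ⟶ S)
    (h : ∀ x : T, ∃ W : T.Opens, x ∈ W ∧ IsIso ((Over.pullback (W.ι ≫ t)).map u).left) :
    IsIso ((Over.pullback t).map u).left := by
  choose W hxW hW using h
  -- the open cover of `B.left` by the preimages of the `W x`
  let 𝒰 : ((Over.pullback t).obj H).left.OpenCover :=
    Scheme.Cover.mkOfCovers (P := @IsOpenImmersion) T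
      (fun x => pullback ((Over.pullback t).obj H).hom (W x).ι)
      (fun x => pullback.fst ((Over.pullback t).obj H).hom (W x).ι)
      (fun b => by
        refine ⟨((Over.pullback t).obj H).hom b, ?_⟩
        have hb : b ∈ Set.range (pullback.fst ((Over.pullback t).obj H).hom
            (W (((Over.pullback t).obj H).hom b)).ι) := by
          rw [Scheme.Pullback.range_fst]
          simp only [Set.mem_preimage, Scheme.Opens.range_ι, SetLike.mem_coe]
          exact hxW _
        exact hb)
      (fun x => inferInstance)
  refine IsZariskiLocalAtTarget.of_openCover (P := isomorphisms Scheme.{u}) 𝒰 fun x => ?_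
  have hpb := (isPullback_overPullback_map (W x).ι ((Over.pullback t).map u)).flip
  have hx : IsIso ((Over.pullback (W x).ι).map ((Over.pullback t).map u)).left :=
    (isIso_comp_iff u t (W x).ι).mp (hW x)
  have e : hpb.isoPullback.hom ≫ pullback.snd ((Over.pullback t).map u).left
      (pullback.fst ((Over.pullback t).obj H).hom (W x).ι) =
      ((Over.pullback (W x).ι).map ((Over.pullback t).map u)).left := hpb.isoPullback_hom_snd
  have h2 : IsIso (hpb.isoPullback.hom ≫ pullback.snd ((Over.pullback t).map u).left
      (pullback.fst ((Over.pullback t).obj H).hom (W x).ι)) := by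
    rw [e]; exact hx
  have h3 : IsIso (pullback.snd ((Over.pullback t).map u).left
      (pullback.fst ((Over.pullback t).obj H).hom (W x).ι)) :=
    IsIso.of_isIso_comp_left hpb.isoPullback.hom _
  exact h3

end Groth.Agent.Helper20.IsoBC
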