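import Mathlib

/-!
# Preimage of a subobject of a quotient (abelian categories)

For `ι : F ⟶ E` mono and `κ : G ⟶ cokernel ι` mono, the pullback `F' = E ×_{E/F} G` is a subobject of `E`
containing `F`, with `F'/F ≅ G`.
-/

set_option autoImplicit false
universe v u
open CategoryTheory CategoryTheory.Limits

namespace Groth.Agent.Helper20.Preimage

variable {C : Type u} [Category.{v} C] [Abelian C] {E F G : C} (ι : F ⟶ E) (κ : G ⟶ cokernel ι)

/-- the preimage of `G ⊆ E/F` in `E`. -/
noncomputable abbrev pre : C := pullback (cokernel.π ι) κ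

/-- the inclusion of the preimage in `E`. -/
noncomputable abbrev preι : pre ι κ ⟶ E := pullback.fst (cokernel.π ι) κ

/-- the projection of the preimage onto `G`. -/
noncomputable abbrev preπ : pre ι κ ⟶ G := pullback.snd (cokernel.π ι) κ

/-- the inclusion of `F` in the preimage. -/
noncomputable def preIncl : F ⟶ pre ι κ :=
  pullback.lift ι 0 (by rw [cokernel.condition, zero_comp])

@[reassoc (attr := simp)]
theorem preIncl_preι : preIncl ι κ ≫ preι ι κ = ι := pullback.lift_fst _ _ _

@[reassoc (attr := simp)]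
theorem preIncl_preπ : preIncl ι κ ≫ preπ ι κ = 0 := pullback.lift_snd _ _ _

theorem preι_π : preι ι κ ≫ cokernel.π ι = preπ ι κ ≫ κ := pullback.condition

instance [Mono κ] : Mono (preι ι κ) := inferInstanceAs (Mono (pullback.fst (cokernel.π ι) κ))

instance : Epi (preπ ι κ) := inferInstanceAs (Epi (pullback.snd (cokernel.π ι) κ))

instance [Mono ι] : Mono (preIncl ι κ) := mono_of_mono_fac (preIncl_preι ι κ)

/-- `0 ⟶ F ⟶ F' ⟶ G ⟶ 0` is short exact. -/
theorem pre_shortExact [Mono ι] :
    (ShortComplex.mk (preIncl ι κ) (preπ ι κ) (preIncl_preπ ι κ)).ShortExact := by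
  have hz : ∀ {T : C} (t : T ⟶ pre ι κ), t ≫ preπ ι κ = 0 →
      (t ≫ preι ι κ) ≫ cokernel.π ι = 0 := by
    intro T t ht
    rw [Category.assoc, preι_π, ← Category.assoc, ht, zero_comp]
  have hex : (ShortComplex.mk (preIncl ι κ) (preπ ι κ) (preIncl_preπ ι κ)).Exact := by
    apply ShortComplex.exact_of_f_is_kernel
    refine KernelFork.IsLimit.ofι _ _
      (fun {T} t ht => Abelian.monoLift ι (t ≫ preι ι κ) (hz t ht)) ?_ ?_
    · intro T t ht
      apply pullback.hom_ext
      · rw [Category.assoc]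
        exact (congrArg (fun x => _ ≫ x) (preIncl_preι ι κ)).trans
          (Abelian.monoLift_comp ι (t ≫ preι ι κ) (hz t ht))
      · rw [Category.assoc]
        exact ((congrArg (fun x => _ ≫ x) (preIncl_preπ ι κ)).trans comp_zero).trans ht.symm
    · intro T t ht m hm
      rw [← cancel_mono ι, Abelian.monoLift_comp]
      have hm' : m ≫ preIncl ι κ = t := hm
      rw [← hm', Category.assoc, preIncl_preι]
  exact { exact := hex, mono_f := inferInstanceAs (Mono (preIncl ι κ)),
          epi_g := inferInstanceAs (Epi (preπ ι κ)) }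

/-- if the preimage is all of `E` then `G` is all of `E/F`. -/
theorem isIso_of_isIso_preι [Mono κ] (h : IsIso (preι ι κ)) : IsIso κ := by
  have : Epi (preπ ι κ ≫ κ) := by
    rw [← preι_π]
    infer_instance
  have : Epi κ := epi_of_epi (preπ ι κ) κ
  exact isIso_of_mono_of_epi κ

/-- packaged form. -/
theorem exists_preimage [Mono ι] [Mono κ] :
    ∃ (F' : C) (j : F' ⟶ E) (a : F ⟶ F') (q : F' ⟶ G) (w : a ≫ q = 0), Mono j ∧ Mono a ∧ Epi q ∧
      a ≫ j = ι ∧ j ≫ cokernel.π ι = q ≫ κ ∧ (ShortComplex.mk a q w).ShortExact ∧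
      (IsIso j → IsIso κ) :=
  ⟨pre ι κ, preι ι κ, preIncl ι κ, preπ ι κ, preIncl_preπ ι κ, inferInstance, inferInstance,
    inferInstance, preIncl_preι ι κ, preι_π ι κ, pre_shortExact ι κ, isIso_of_isIso_preι ι κ⟩

end Groth.Agent.Helper20.Preimage
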