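import Mathlib
import Groth.Prelude.Def_ShStab
import Groth.Agent.Lib.Lead.ShStabHom
import Groth.Agent.Lib.Lead.ShStabPure
import Groth.Agent.Lib.Helper6.HilbDeg
import Groth.Agent.Lib.Helper28.MuExt
import Groth.Agent.Lib.Helper20.Preimage

/-!
# The semistability inequality for submodules of `E/F` (half of (JC) of mini-project JH)
-/

set_option autoImplicit false
set_option linter.unusedVariables false
universe v u
open CategoryTheory CategoryTheory.Limits AlgebraicGeometry Polynomial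

namespace Groth.Agent.Helper20.JHQuotSS

open Groth.Agent.Lead.ShStabHom Groth.Agent.Lead.ShStabPure Groth.Agent.Helper25.ShStabFormal
  Groth.Agent.Helper20.Preimage

variable (k : Type u) [Field k] (X : Scheme.{u}) [X.Over (Spec (CommRingCat.of k))]
  [IsProper (X ↘ Spec (CommRingCat.of k))]

/-- `α_d(p_F) ≤ α_d(p_E)` for a coherent submodule `F` of a coherent `E` with `dim Supp E = d`. -/
theorem alpha_quot_nonneg (L : X.Modules) (hL : CohB1.IsAmple L) (d : ℕ) (E F : X.Modules)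
    (ι : F ⟶ E) [Mono ι] (hEc : Coh.IsCoh E)
    (hdimE : topologicalKrullDim (CohB1.support E) = (d : WithBot ℕ∞))
    (hF : Coh.IsCoh F) (pF pE : ℚ[X]) (hpF : ShStab.IsHilbPoly k X L F pF)
    (hpE : ShStab.IsHilbPoly k X L E pE) : 0 ≤ StabCat.alpha d (pE - pF) := by
  obtain ⟨hQc, hpQ⟩ := Groth.Agent.Helper6.HilbDeg.isHilbPoly_cokernel k X L hL.1 hF hEc ι pF pE
    hpF hpE
  have hle : topologicalKrullDim (CohB1.support (cokernel ι)) ≤ (d : WithBot ℕ∞) :=
    (Groth.Agent.Helper13.DimLemma.dim_subset_le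
      (Groth.Agent.Helper26.DevE.support_subset_of_epi (cokernel.π ι))).trans_eq hdimE
  obtain ⟨p₀, dp⟩ := pdata_of_dim_le k X L hL (cokernel ι) hQc d hle
  have e : pE - pF = p₀ := hilbPoly_unique k X L (cokernel ι) _ _ hpQ dp.hp
  rw [e]
  exact dp.alpha

/-- the semistability inequality for a coherent submodule `G'` of `E/F`, `E` semistable, `F` with the
same reduced polynomial as `E`. -/
theorem redLE_sub_quot (L : X.Modules) (hL : CohB1.IsAmple L) (hSP : SPHyp k X L)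
    (d : ℕ) (E F : X.Modules) (ι : F ⟶ E) [Mono ι] (hE : ShStab.IsSemistable k X L E d)
    (hF : Coh.IsCoh F) (hF0 : ¬ IsZero F) (pF pE : ℚ[X])
    (hpF : ShStab.IsHilbPoly k X L F pF) (hpE : ShStab.IsHilbPoly k X L E pE)
    (hEq : StabCat.RedEq d pF pE)
    (G' : X.Modules) (κ : G' ⟶ cokernel ι) [Mono κ] (hG' : Coh.IsCoh G') (hκ : ¬ IsIso κ)
    (pG' : ℚ[X]) (hpG' : ShStab.IsHilbPoly k X L G' pG') :
    StabCat.RedLE d pG' (pE - pF) := by
  obtain ⟨hEc, hEnz, hEp, hEss⟩ := hE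
  have hdimE : topologicalKrullDim (CohB1.support E) = (d : WithBot ℕ∞) :=
    hEp E (𝟙 E) inferInstance hEc hEnz
  have hαE : 0 < StabCat.alpha d pE := hSP E d hEc hdimE pE hpE
  have hαQ : 0 ≤ StabCat.alpha d (pE - pF) :=
    alpha_quot_nonneg k X L hL d E F ι hEc hdimE hF pF pE hpF hpE
  -- the preimage `F'` of `G'` in `E`
  have hse := pre_shortExact ι κ
  have hF'c : Coh.IsCoh (pre ι κ) :=
    Groth.Agent.Helper28.MuExt.isCoh_mid X _ hse hF hG'
  have hF'nz : ¬ IsZero (pre ι κ) := fun hz => hF0 (IsZero.of_mono (preIncl ι κ) hz)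
  have hni : ¬ IsIso (preι ι κ) := fun h => hκ (isIso_of_isIso_preι ι κ h)
  obtain ⟨p₀, dp⟩ := pdata_of_sub k X L hL E d hEp (pre ι κ) (preι ι κ) hF'c
  have hle : StabCat.RedLE d p₀ pE :=
    hEss (pre ι κ) (preι ι κ) inferInstance hF'c hF'nz hni p₀ pE dp.hp hpE
  -- `p₀ = pF + pG'`
  obtain ⟨_, hpc⟩ := Groth.Agent.Helper6.HilbDeg.isHilbPoly_cokernel k X L hL.1 hF hF'c
    (preIncl ι κ) pF p₀ hpF dp.hp
  have eiso : cokernel (preIncl ι κ) ≅ G' :=
    (cokernelIsCokernel (preIncl ι κ)).coconePointUniqueUpToIso hse.gIsCokernel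
  have hpG2 : ShStab.IsHilbPoly k X L G' (p₀ - pF) := isHilbPoly_of_iso k X L eiso _ hpc
  have e1 : pG' = p₀ - pF := hilbPoly_unique k X L G' _ _ hpG' hpG2
  have e2 : p₀ = pF + pG' := by rw [e1]; ring
  -- arithmetic
  obtain ⟨N, hN⟩ := hle
  refine ⟨N, fun m hm => ?_⟩
  have h1 := hN m hm
  have h2 : (StabCat.alpha d pE • pF).eval (m : ℚ) = (StabCat.alpha d pF • pE).eval (m : ℚ) := by
    rw [hEq]
  have ha0 : StabCat.alpha d p₀ = StabCat.alpha d pF + StabCat.alpha d pG' := by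
    rw [e2]; exact Groth.Agent.Helper28.MuExt.alpha_add d pF pG'
  have haQ : StabCat.alpha d (pE - pF) = StabCat.alpha d pE - StabCat.alpha d pF :=
    Groth.Agent.Lead.StabPoly.alpha_sub d pE pF
  rw [haQ] at hαQ ⊢
  rw [ha0, e2] at h1
  simp only [eval_smul, smul_eq_mul, eval_add, eval_sub] at h1 h2 ⊢
  -- h1 : αE * (pF m + pG' m) ≤ (αF + αG') * pE m ; h2 : αE * pF m = αF * pE m
  -- goal : (αE - αF) * pG' m ≤ αG' * (pE m - pF m)
  have h3 : StabCat.alpha d pE * pG'.eval (m : ℚ) ≤ StabCat.alpha d pG' * pE.eval (m : ℚ) := by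
    nlinarith [h1, h2]
  have h4 : StabCat.alpha d pE * ((StabCat.alpha d pE - StabCat.alpha d pF) * pG'.eval (m : ℚ)) ≤
      StabCat.alpha d pE * (StabCat.alpha d pG' * (pE.eval (m : ℚ) - pF.eval (m : ℚ))) := by
    have h5 := mul_le_mul_of_nonneg_left h3 hαQ
    have h6 : StabCat.alpha d pE * (StabCat.alpha d pG' * (pE.eval (m : ℚ) - pF.eval (m : ℚ))) =
        (StabCat.alpha d pE - StabCat.alpha d pF) * (StabCat.alpha d pG' * pE.eval (m : ℚ)) := by
      have : StabCat.alpha d pE * pF.eval (m : ℚ) = StabCat.alpha d pF * pE.eval (m : ℚ) := h2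
      linear_combination (-StabCat.alpha d pG') * this
    rw [h6]
    calc StabCat.alpha d pE * ((StabCat.alpha d pE - StabCat.alpha d pF) * pG'.eval (m : ℚ))
        = (StabCat.alpha d pE - StabCat.alpha d pF) * (StabCat.alpha d pE * pG'.eval (m : ℚ)) := by
          ring
      _ ≤ (StabCat.alpha d pE - StabCat.alpha d pF) * (StabCat.alpha d pG' * pE.eval (m : ℚ)) := h5
  exact le_of_mul_le_mul_left h4 hαE

end Groth.Agent.Helper20.JHQuotSS
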