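import Mathlib
import Groth.Agent.Lib.Helper12.HK3

/-!
# Lengths over a base ring of finite length modules over an algebra, via localizations at
maximal ideals
-/

set_option autoImplicit false

namespace Groth.Agent.Helper20.KALenB

universe u v

open Groth.Agent.Helper12.HK

section Simple

variable {B : Type u} [CommRing B]

lemma smul_eq_zero_of_mem {S : Type v} [AddCommGroup S] [Module B S] (I : Ideal B)
    (e : S ≃ₗ[B] B ⧸ I) {r : B} (hr : r ∈ I) (s : S) : r • s = 0 := by
  apply e.injective
  rw [map_smul, map_zero]
  obtain ⟨b, hb⟩ := Ideal.Quotient.mk_surjective (e s)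
  rw [← hb]
  change r • Submodule.Quotient.mk b = 0
  rw [← Submodule.Quotient.mk_smul, Submodule.Quotient.mk_eq_zero]
  exact I.mul_mem_right b hr

/-- localization of a simple module `S ≅ B/I` at a maximal ideal `m ≠ I` vanishes -/
lemma subsingleton_localized_of_ne {S : Type v} [AddCommGroup S] [Module B S] (I : Ideal B)
    [hI : I.IsMaximal] (e : S ≃ₗ[B] B ⧸ I) (m : Ideal B) [hm : m.IsMaximal] (hne : m ≠ I) :
    Subsingleton (LocalizedModule m.primeCompl S) := by
  rw [LocalizedModule.subsingleton_iff]
  obtain ⟨r, hrI, hrm⟩ : ∃ r ∈ I, r ∉ m := by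
    by_contra hcon
    push Not at hcon
    exact hne (hI.eq_of_le hm.ne_top hcon).symm
  intro s
  exact ⟨r, hrm, smul_eq_zero_of_mem I e hrI s⟩

/-- localization of a simple module `S ≅ B/I` at `I` is `S` -/
lemma isLocalizedModule_id_of_simple {S : Type v} [AddCommGroup S] [Module B S] (I : Ideal B)
    [hI : I.IsMaximal] (e : S ≃ₗ[B] B ⧸ I) :
    IsLocalizedModule I.primeCompl (LinearMap.id : S →ₗ[B] S) := by
  refine ⟨?_, ?_, ?_⟩
  · intro x
    obtain ⟨y, i, hi, hyx⟩ := hI.exists_inv x.2
    have h1 : algebraMap B (Module.End B S) y * algebraMap B (Module.End B S) x = 1 := by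
      rw [← map_mul]
      ext s
      simp only [Module.algebraMap_end_apply, Module.End.one_apply]
      have h2 : (y * x.1) • s = (1 - i) • s := by
        rw [← hyx]
        congr 1
        ring
      rw [h2, sub_smul, one_smul, smul_eq_zero_of_mem I e hi, sub_zero]
    have h2 : algebraMap B (Module.End B S) x * algebraMap B (Module.End B S) y = 1 := by
      rw [Algebra.commutes]
      exact h1
    exact ⟨⟨_, _, h2, h1⟩, rfl⟩
  · intro y
    exact ⟨(y, 1), by simp⟩
  · intro x₁ x₂ h
    exact ⟨1, by simpa using h⟩

end Simple

section Main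

variable (A : Type u) [CommRing A] (B : Type u) [CommRing B] [Algebra A B]
  [Fintype (MaximalSpectrum B)]

/-- The weighted count of local lengths. -/
noncomputable def wsum (N : Type v) [AddCommGroup N] [Module B N] : ℕ∞ :=
  ∑ m : MaximalSpectrum B, Module.length A (B ⧸ m.asIdeal) *
    Module.length B (LocalizedModule m.asIdeal.primeCompl N)

theorem wsum_of_subsingleton (N : Type v) [AddCommGroup N] [Module B N] [Subsingleton N] :
    wsum A B N = 0 := by
  unfold wsum
  apply Finset.sum_eq_zero
  intro m _
  have h0 : Module.length B (LocalizedModule m.asIdeal.primeCompl N) = 0 := Module.length_eq_zero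
  rw [h0, mul_zero]

theorem wsum_exact {N₁ N₂ N₃ : Type v} [AddCommGroup N₁] [Module B N₁] [AddCommGroup N₂]
    [Module B N₂] [AddCommGroup N₃] [Module B N₃] (f : N₁ →ₗ[B] N₂) (g : N₂ →ₗ[B] N₃)
    (hf : Function.Injective f) (hg : Function.Surjective g) (H : Function.Exact f g) :
    wsum A B N₂ = wsum A B N₁ + wsum A B N₃ := by
  unfold wsum
  rw [← Finset.sum_add_distrib]
  refine Finset.sum_congr rfl fun m _ => ?_
  rw [← mul_add]
  congr 1
  exact Module.length_eq_add_of_exact (LocalizedModule.map m.asIdeal.primeCompl f)
    (LocalizedModule.map m.asIdeal.primeCompl g)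
    (LocalizedModule.map_injective _ f hf) (LocalizedModule.map_surjective _ g hg)
    (LocalizedModule.map_exact _ f g H)

theorem wsum_simple (S : Type v) [AddCommGroup S] [Module A S] [Module B S] [IsScalarTower A B S]
    (hS : IsSimpleModule B S) : Module.length A S = wsum A B S := by
  classical
  obtain ⟨I, hI, ⟨e⟩⟩ := isSimpleModule_iff_quot_maximal.mp hS
  unfold wsum
  rw [Finset.sum_eq_single (⟨I, hI⟩ : MaximalSpectrum B)]
  · haveI := isLocalizedModule_id_of_simple I e
    have h1 : Module.length B (LocalizedModule I.primeCompl S) = 1 := by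
      rw [(IsLocalizedModule.iso I.primeCompl (LinearMap.id : S →ₗ[B] S)).length_eq]
      exact Module.length_eq_one_iff.mpr hS
    rw [h1, mul_one]
    exact (e.restrictScalars A).length_eq
  · intro m _ hm
    haveI := m.isMaximal
    haveI : Subsingleton (LocalizedModule m.asIdeal.primeCompl S) :=
      subsingleton_localized_of_ne I e m.asIdeal (fun h => hm (MaximalSpectrum.ext h))
    have h0 : Module.length B (LocalizedModule m.asIdeal.primeCompl S) = 0 := Module.length_eq_zero
    rw [h0, mul_zero]
  · intro h
    exact absurd (Finset.mem_univ _) h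

theorem length_eq_wsum_aux :
    ∀ (n : ℕ) (N : Type v) [AddCommGroup N] [Module A N] [Module B N] [IsScalarTower A B N],
      Module.length B N = n → Module.length A N = wsum A B N := by
  intro n
  induction n with
  | zero =>
    intro N _ _ _ _ h
    rw [Nat.cast_zero, Module.length_eq_zero_iff] at h
    rw [wsum_of_subsingleton, Module.length_eq_zero_iff]
    exact h
  | succ n ih =>
    intro N _ _ _ _ h
    have hfl : IsFiniteLength B N := by
      rw [← Module.length_ne_top_iff, h]
      exact ENat.natCast_ne_top _
    obtain ⟨_, hart⟩ := isFiniteLength_iff_isNoetherian_isArtinian.mp hfl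
    have hnt : Nontrivial N := by
      by_contra hc
      rw [not_nontrivial_iff_subsingleton] at hc
      rw [Module.length_eq_zero] at h
      have : (0 : ℕ∞) = ((n + 1 : ℕ) : ℕ∞) := h
      exact absurd this (by exact_mod_cast (Nat.succ_ne_zero n).symm)
    have : Nontrivial (Submodule B N) := (Submodule.nontrivial_iff B).mpr hnt
    obtain ⟨S, hS⟩ := IsAtomic.exists_atom (Submodule B N)
    have hSs : IsSimpleModule B S := isSimpleModule_iff_isAtom.mpr hS
    have h1 := Module.length_eq_add_of_exact S.subtype S.mkQ (Submodule.subtype_injective _)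
      (Submodule.mkQ_surjective _) (LinearMap.exact_subtype_mkQ S)
    have h2 := Module.length_eq_add_of_exact (S.subtype.restrictScalars A)
      (S.mkQ.restrictScalars A) (Submodule.subtype_injective _)
      (Submodule.mkQ_surjective _) (LinearMap.exact_subtype_mkQ S)
    have h3 : Module.length B S = 1 := Module.length_eq_one_iff.mpr hSs
    rw [h3, h] at h1
    have h5 : Module.length B (N ⧸ S) = n := by
      have h6 : Module.length B (N ⧸ S) ≠ ⊤ := by
        intro htop
        rw [htop] at h1
        simp at h1
      obtain ⟨m, hm⟩ := ENat.ne_top_iff_exists.mp h6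
      rw [← hm] at h1 ⊢
      have : n + 1 = 1 + m := by exact_mod_cast h1
      congr 1
      omega
    have h7 := wsum_exact A B S.subtype S.mkQ (Submodule.subtype_injective _)
      (Submodule.mkQ_surjective _) (LinearMap.exact_subtype_mkQ S)
    rw [h2, h7, wsum_simple A B S hSs, ih _ h5]

theorem length_eq_wsum (N : Type v) [AddCommGroup N] [Module A N] [Module B N]
    [IsScalarTower A B N] (hfl : IsFiniteLength B N) : Module.length A N = wsum A B N := by
  obtain ⟨n, hn⟩ := ENat.ne_top_iff_exists.mp (Module.length_ne_top_iff.mpr hfl)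
  exact length_eq_wsum_aux A B n N hn.symm

end Main

end Groth.Agent.Helper20.KALenB
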