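import Mathlib
import Groth.Agent.Lib.Helper12.HK3
import Groth.Agent.Lib.Helper20.KALenB

/-!
# `ℓ_A(B/yB) = ∑_m ℓ_A(B/m) · ℓ_{B_m}(B_m / y B_m)`
-/

set_option autoImplicit false

namespace Groth.Agent.Helper20.KALenC

universe u v

open Groth.Agent.Helper12.HK Groth.Agent.Helper20.KALenB

section Loc

variable {B : Type u} [CommRing B] (m : Ideal B) [hm : m.IsMaximal]

theorem simpleStable_atPrime : SimpleStable.{u, u, v} B (Localization.AtPrime m) := by
  apply simpleStable_of_local
  intro b
  obtain ⟨⟨a', s⟩, hb⟩ := IsLocalization.surj m.primeCompl b
  obtain ⟨t, i, hi, hts⟩ := hm.exists_inv s.2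
  refine ⟨t * a', ?_⟩
  have hsu : IsUnit (algebraMap B (Localization.AtPrime m) s) :=
    IsLocalization.map_units (Localization.AtPrime m) s
  rw [← Ideal.mul_unit_mem_iff_mem _ hsu]
  have h1 : (b - algebraMap B (Localization.AtPrime m) (t * a')) *
      algebraMap B (Localization.AtPrime m) s =
      algebraMap B (Localization.AtPrime m) (a' * i) := by
    have hb' : b * algebraMap B (Localization.AtPrime m) s =
        algebraMap B (Localization.AtPrime m) a' := hb
    rw [sub_mul, hb', ← map_mul, ← map_sub]
    congr 1
    have : i = 1 - t * s.1 := by rw [← hts]; ring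
    rw [this]
    ring
  rw [h1, IsLocalization.AtPrime.to_map_mem_maximal_iff (Localization.AtPrime m) m]
  exact m.mul_mem_left a' hi

theorem length_atPrime_eq (X : Type v) [AddCommGroup X] [Module B X]
    [Module (Localization.AtPrime m) X] [IsScalarTower B (Localization.AtPrime m) X] :
    Module.length (Localization.AtPrime m) X = Module.length B X := by
  by_cases hfl : IsFiniteLength (Localization.AtPrime m) X
  · exact (length_eq_of_tower (simpleStable_atPrime m) X hfl).symm
  · have h1 : Module.length (Localization.AtPrime m) X = ⊤ := by
      by_contra h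
      exact hfl (Module.length_ne_top_iff.mp h)
    have h2 := Submodule.length_le_length_restrictScalars (R := Localization.AtPrime m) (M := X) B ⊤
    rw [Submodule.restrictScalars_top, Module.length_top, Module.length_top, h1] at h2
    rw [h1]
    exact (top_le_iff.mp h2).symm

/-- The localization of `B/(y)` at `m` is `B_m/(y)`, at the level of `B`-lengths. -/
theorem length_localized_quotient_span (y : B) :
    Module.length B (LocalizedModule m.primeCompl (B ⧸ Ideal.span ({y} : Set B))) =
      Module.length (Localization.AtPrime m) (Localization.AtPrime m ⧸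
        Ideal.span ({algebraMap B (Localization.AtPrime m) y} : Set (Localization.AtPrime m))) := by
  have heq : (Ideal.span ({y} : Set B)).localized' (Localization.AtPrime m) m.primeCompl
      (Algebra.linearMap B (Localization.AtPrime m)) =
      Ideal.span ({algebraMap B (Localization.AtPrime m) y} : Set (Localization.AtPrime m)) := by
    rw [Ideal.span, Submodule.localized'_span, Set.image_singleton]
    rfl
  have e1 := IsLocalizedModule.iso m.primeCompl
    ((Ideal.span ({y} : Set B)).toLocalizedQuotient' (Localization.AtPrime m) m.primeCompl
      (Algebra.linearMap B (Localization.AtPrime m)))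
  rw [e1.length_eq, ← length_atPrime_eq m]
  exact (Submodule.quotEquivOfEq _ _ heq).length_eq

end Loc

section Main

variable (A : Type u) [CommRing A] (B : Type u) [CommRing B] [Algebra A B]
  [Fintype (MaximalSpectrum B)]

theorem length_quotient_span_eq_sum (y : B)
    (hfl : IsFiniteLength B (B ⧸ Ideal.span ({y} : Set B))) :
    Module.length A (B ⧸ Ideal.span ({y} : Set B)) =
      ∑ m : MaximalSpectrum B, Module.length A (B ⧸ m.asIdeal) *
        Module.length (Localization.AtPrime m.asIdeal) (Localization.AtPrime m.asIdeal ⧸
          Ideal.span ({algebraMap B (Localization.AtPrime m.asIdeal) y} :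
            Set (Localization.AtPrime m.asIdeal))) := by
  rw [length_eq_wsum A B _ hfl]
  unfold wsum
  refine Finset.sum_congr rfl fun m _ => ?_
  haveI := m.isMaximal
  rw [length_localized_quotient_span m.asIdeal y]

end Main

end Groth.Agent.Helper20.KALenC
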