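import Mathlib
import Groth.Agent.Lib.Helper1.KA2
import Groth.Agent.Lib.Helper19.TFCurv.Herbrand

/-!
# Lengths of `N / xN` for finitely generated torsion-free modules of rank `s` over a domain in which
all `R/(a)`, `a ≠ 0`, have finite length
-/

set_option autoImplicit false

namespace Groth.Agent.Helper20.KALenD

universe u v

open Groth.Agent.Helper1.KA Groth.Agent.Helper19.TFCurv

section Pi

variable {R : Type u} [CommRing R]

theorem length_pi_quot_smul (s : ℕ) (I : Ideal R) :
    Module.length R ((Fin s → R) ⧸ (I • ⊤ : Submodule R (Fin s → R))) =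
      s * Module.length R (R ⧸ I) := by
  classical
  let φ : (Fin s → R) →ₗ[R] (Fin s → R ⧸ I) :=
    LinearMap.pi fun i => (Submodule.mkQ I).comp (LinearMap.proj i)
  have hφ : Function.Surjective φ := by
    intro y
    choose c hc using fun i => Submodule.Quotient.mk_surjective I (y i)
    exact ⟨c, funext fun i => hc i⟩
  have hker : LinearMap.ker φ = (I • ⊤ : Submodule R (Fin s → R)) := by
    apply le_antisymm
    · intro f hf
      rw [LinearMap.mem_ker] at hf
      have hfi : ∀ i, f i ∈ I := by
        intro i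
        have := congrFun hf i
        change Submodule.Quotient.mk (f i) = 0 at this
        rwa [Submodule.Quotient.mk_eq_zero] at this
      have hsum : f = ∑ i, f i • (Pi.single i (1 : R) : Fin s → R) := by
        funext j
        simp [Finset.sum_apply, Pi.single_apply]
      rw [hsum]
      exact Submodule.sum_mem _ fun i _ => Submodule.smul_mem_smul (hfi i) Submodule.mem_top
    · rw [Submodule.smul_le]
      intro r hr f _
      rw [LinearMap.mem_ker]
      funext i
      change Submodule.Quotient.mk ((r • f) i) = 0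
      rw [Submodule.Quotient.mk_eq_zero]
      exact I.mul_mem_right _ hr
  have e := (Submodule.quotEquivOfEq _ _ hker).symm.trans
    (LinearMap.quotKerEquivOfSurjective φ hφ)
  rw [e.length_eq, Module.length_pi, ENat.card_eq_coe_fintype_card, Fintype.card_fin]

theorem length_free_quot_smul {F : Type v} [AddCommGroup F] [Module R F] {s : ℕ}
    (b : Module.Basis (Fin s) R F) (I : Ideal R) :
    Module.length R (F ⧸ (I • ⊤ : Submodule R F)) = s * Module.length R (R ⧸ I) := by
  rw [← length_pi_quot_smul s I]
  have h : (I • ⊤ : Submodule R F).map (b.equivFun : F →ₗ[R] (Fin s → R)) =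
      (I • ⊤ : Submodule R (Fin s → R)) := by
    rw [Submodule.map_smul'', Submodule.map_top, LinearEquiv.range]
  exact (Submodule.Quotient.equiv _ _ b.equivFun h).length_eq

end Pi

section Tors

variable {R : Type u} [CommRing R] [IsDomain R] {N : Type v} [AddCommGroup N] [Module R N]

theorem length_quot_ne_top_of_torsion
    (hfin : ∀ a : R, a ≠ 0 → Module.length R (R ⧸ Ideal.span ({a} : Set R)) ≠ ⊤)
    {t : ℕ} (g : Fin t → N) (hg : Submodule.span R (Set.range g) = ⊤) (F : Submodule R N)
    (htor : ∀ j, ∃ a : R, a ≠ 0 ∧ a • g j ∈ F) :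
    Module.length R (N ⧸ F) ≠ ⊤ := by
  classical
  choose a ha hav using htor
  have ha0ne : (∏ j, a j) ≠ 0 := Finset.prod_ne_zero_iff.mpr (fun j _ => ha j)
  have ha0g : ∀ j, (∏ j, a j) • g j ∈ F := by
    intro j
    obtain ⟨c, hc⟩ := Finset.dvd_prod_of_mem a (Finset.mem_univ j)
    rw [hc, mul_comm, mul_smul]
    exact F.smul_mem _ (hav j)
  have h1 := relLen_le_of_smul_mem g F (by rw [hg]; exact le_top) (∏ j, a j) ha0g
  rw [hg] at h1
  have h2 : (t : ℕ∞) * Module.length R (R ⧸ Ideal.span ({∏ j, a j} : Set R)) ≠ ⊤ :=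
    WithTop.mul_ne_top (ENat.natCast_ne_top t) (hfin _ ha0ne)
  have h3 : relLen F ⊤ ≠ ⊤ := ne_top_of_le_ne_top h2 h1
  unfold relLen at h3
  have hmap : (F.submoduleOf ⊤).map
      ((Submodule.topEquiv : (⊤ : Submodule R N) ≃ₗ[R] N) : (⊤ : Submodule R N) →ₗ[R] N) = F := by
    ext y
    constructor
    · rintro ⟨z, hz, rfl⟩
      exact hz
    · intro hy
      exact ⟨⟨y, Submodule.mem_top⟩, hy, rfl⟩
  rw [(Submodule.Quotient.equiv _ _ Submodule.topEquiv hmap).length_eq] at h3
  exact h3

/-- `ℓ(N/xN) = s · ℓ(R/x)` for a finitely generated module `N` on which `x` is regular and which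
contains `s` linearly independent elements spanning a submodule with torsion cokernel. -/
theorem length_quot_smul_eq_of_fg
    (hfin : ∀ a : R, a ≠ 0 → Module.length R (R ⧸ Ideal.span ({a} : Set R)) ≠ ⊤)
    (hN : Module.Finite R N) (x : R) (hx : IsSMulRegular N x) {s : ℕ} (b : Fin s → N)
    (hli : LinearIndependent R b)
    (htor : ∀ y : N, ∃ a : R, a ≠ 0 ∧ a • y ∈ Submodule.span R (Set.range b)) :
    Module.length R (N ⧸ (Ideal.span ({x} : Set R) • (⊤ : Submodule R N))) =
      s * Module.length R (R ⧸ Ideal.span ({x} : Set R)) := by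
  obtain ⟨t, g, hg⟩ := Submodule.fg_iff_exists_fin_generating_family.mp hN.fg_top
  have h1 := length_quot_ne_top_of_torsion hfin g hg (Submodule.span R (Set.range b))
    (fun j => htor (g j))
  rw [← length_quot_smul_eq x hx (Submodule.span R (Set.range b)) h1]
  exact length_free_quot_smul (Module.Basis.span hli) _

end Tors

end Groth.Agent.Helper20.KALenD
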