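import Mathlib
import Groth.Agent.Lib.Helper1.KA2
import Groth.Agent.Lib.Helper20.KALenC
import Groth.Agent.Lib.Helper20.KALenD

/-!
# Finite type extensions of a one-dimensional Noetherian local domain inside a finite extension of
the fraction field: `∑_m [κ(m):κ] ord_m(x) ≤ [L:K] ord(x)`, with equality iff finite (S9136)
-/

set_option autoImplicit false

namespace Groth.Agent.Helper20.KALenE

universe u

open Groth.Agent.Helper1.KA Groth.Agent.Helper20.KALenC Groth.Agent.Helper20.KALenD

section Gen

variable {A B K L : Type u}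
    [CommRing A] [IsDomain A]
    [CommRing B] [IsDomain B] [Algebra A B]
    [Field K] [Field L] [Algebra A K] [IsFractionRing A K] [Algebra B L] [IsFractionRing B L]
    [Algebra K L] [Algebra A L] [IsScalarTower A K L] [IsScalarTower A B L]

include K in
theorem isAlgebraic_of_finiteDimensional [FiniteDimensional K L] : Algebra.IsAlgebraic A B := by
  constructor
  intro b
  have h1 : IsAlgebraic K (algebraMap B L b) := Algebra.IsAlgebraic.isAlgebraic _
  have h2 : IsAlgebraic A (algebraMap B L b) := (IsFractionRing.isAlgebraic_iff A K L).mpr h1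
  exact (isAlgebraic_algebraMap_iff (IsFractionRing.injective B L)).mp h2

theorem exists_frac (halg : Algebra.IsAlgebraic A B) (l : L) :
    ∃ (c : B) (d : A), d ≠ 0 ∧ algebraMap A L d * l = algebraMap B L c := by
  obtain ⟨⟨n, s⟩, hl⟩ := IsLocalization.surj (nonZeroDivisors B) l
  obtain ⟨c, d, hd, hcd⟩ := IsAlgebraic.exists_smul_eq_mul n (halg.isAlgebraic (s : B)) s.2
  refine ⟨c, d, hd, ?_⟩
  have hs0 : algebraMap B L (s : B) ≠ 0 := by
    rw [Ne, map_eq_zero_iff _ (IsFractionRing.injective B L)]
    exact nonZeroDivisors.coe_ne_zero s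
  have h1 : algebraMap A L d * algebraMap B L n = algebraMap B L (s : B) * algebraMap B L c := by
    rw [← map_mul, ← hcd, Algebra.smul_def, map_mul, ← IsScalarTower.algebraMap_apply]
  have hl' : l * algebraMap B L (s : B) = algebraMap B L n := hl
  apply mul_right_cancel₀ hs0
  rw [mul_assoc, hl', h1, mul_comm]

theorem exists_indep_family [FiniteDimensional K L] (halg : Algebra.IsAlgebraic A B) :
    ∃ b : Fin (Module.finrank K L) → B, LinearIndependent A b ∧
      ∀ y : B, ∃ a : A, a ≠ 0 ∧ a • y ∈ Submodule.span A (Set.range b) := by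
  classical
  let v := Module.finBasis K L
  choose c d hd hcd using fun i => exists_frac (A := A) halg (v i)
  have hdK : ∀ i, algebraMap A K (d i) ≠ 0 := fun i => by
    rw [Ne, map_eq_zero_iff _ (IsFractionRing.injective A K)]
    exact hd i
  let w : Fin (Module.finrank K L) → Kˣ := fun i => Units.mk0 _ (hdK i)
  have hcv : ∀ i, algebraMap B L (c i) = (w i) • v i := by
    intro i
    rw [← hcd i, Units.smul_def, Units.val_mk0, Algebra.smul_def,
      ← IsScalarTower.algebraMap_apply]
  have hliK : LinearIndependent K (fun i => algebraMap B L (c i)) := by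
    have := v.linearIndependent.units_smul w
    convert this using 1
    funext i
    exact hcv i
  have hspanK : Submodule.span K (Set.range fun i => algebraMap B L (c i)) = ⊤ := by
    rw [eq_top_iff, ← v.span_eq, Submodule.span_le]
    rintro _ ⟨i, rfl⟩
    have : v i = (w i)⁻¹ • algebraMap B L (c i) := by
      rw [hcv i, smul_smul, inv_mul_cancel, one_smul]
    rw [this]
    exact Submodule.smul_mem _ _ (Submodule.subset_span ⟨i, rfl⟩)
  refine ⟨c, ?_, ?_⟩
  · have hliA : LinearIndependent A (fun i => algebraMap B L (c i)) :=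
      LinearIndependent.restrict_scalars (R := A) (K := K) (by
        intro a a' h
        simp only [Algebra.smul_def, mul_one] at h
        exact IsFractionRing.injective A K h) hliK
    exact LinearIndependent.of_comp ((IsScalarTower.toAlgHom A B L).toLinearMap) hliA
  · intro y
    have hy : algebraMap B L y ∈ Submodule.span K (Set.range fun i => algebraMap B L (c i)) := by
      rw [hspanK]
      trivial
    obtain ⟨a, ha, hay⟩ := exists_smul_mem_span (R := A) _ hy
    refine ⟨a, ha, ?_⟩
    have hmap : Submodule.span A (Set.range fun i => algebraMap B L (c i)) =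
        (Submodule.span A (Set.range c)).map ((IsScalarTower.toAlgHom A B L).toLinearMap) := by
      rw [Submodule.map_span, ← Set.range_comp]
      rfl
    rw [hmap] at hay
    obtain ⟨z, hz, hzy⟩ := hay
    have hzy' : z = a • y := by
      apply IsFractionRing.injective B L
      have h1 : algebraMap B L z = a • algebraMap B L y := hzy
      rw [h1, Algebra.smul_def a y, map_mul, ← IsScalarTower.algebraMap_apply, Algebra.smul_def]
    rw [← hzy']
    exact hz

end Gen

section Main

variable (A B K L : Type u)
    [CommRing A] [IsDomain A]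
    [CommRing B] [IsDomain B] [Algebra A B]
    [Field K] [Field L] [Algebra A K] [IsFractionRing A K] [Algebra B L] [IsFractionRing B L]
    [Algebra K L] [Algebra A L] [IsScalarTower A K L] [IsScalarTower A B L]

theorem length_quot_le [FiniteDimensional K L]
    (hfin : ∀ a : A, a ≠ 0 → Module.length A (A ⧸ Ideal.span ({a} : Set A)) ≠ ⊤) (x : A)
    (hx0 : x ≠ 0) :
    Module.length A (B ⧸ (Ideal.span ({x} : Set A) • (⊤ : Submodule A B))) ≤
      (Module.finrank K L : ℕ∞) * Module.length A (A ⧸ Ideal.span ({x} : Set A)) := by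
  let ι : B →ₗ[A] L := (IsScalarTower.toAlgHom A B L).toLinearMap
  have hι : Function.Injective ι := IsFractionRing.injective B L
  let e : B ≃ₗ[A] LinearMap.range ι := LinearEquiv.ofInjective ι hι
  have h := length_quotient_smul_top_le (K := K) hfin (LinearMap.range ι) x hx0
  have hmap : (Ideal.span ({x} : Set A) • (⊤ : Submodule A B)).map
      (e : B →ₗ[A] LinearMap.range ι) =
      Ideal.span ({x} : Set A) • (⊤ : Submodule A (LinearMap.range ι)) := by
    rw [Submodule.map_smul'', Submodule.map_top, LinearEquiv.range]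
  rw [(Submodule.Quotient.equiv _ _ e hmap).length_eq]
  exact h

omit [IsDomain A] [IsDomain B] in
theorem smul_top_eq_restrictScalars (x : A) :
    (Ideal.span ({x} : Set A) • (⊤ : Submodule A B)) =
      (Ideal.span ({algebraMap A B x} : Set B)).restrictScalars A := by
  ext y
  rw [Submodule.ideal_span_singleton_smul, Submodule.mem_smul_pointwise_iff_exists,
    Submodule.restrictScalars_mem, Ideal.mem_span_singleton']
  constructor
  · rintro ⟨z, -, rfl⟩
    exact ⟨z, by rw [Algebra.smul_def, mul_comm]⟩
  · rintro ⟨z, rfl⟩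
    exact ⟨z, Submodule.mem_top, by rw [Algebra.smul_def, mul_comm]⟩

omit [IsDomain A] [IsDomain B] in
theorem length_quot_eq (x : A) :
    Module.length A (B ⧸ Ideal.span ({algebraMap A B x} : Set B)) =
      Module.length A (B ⧸ (Ideal.span ({x} : Set A) • (⊤ : Submodule A B))) := by
  rw [(Submodule.quotEquivOfEq _ _ (smul_top_eq_restrictScalars A B x)).length_eq]
  exact (Submodule.Quotient.restrictScalarsEquiv A _).length_eq.symm

theorem eq_bot_of_notMem [IsLocalRing A]
    (hmax : ∀ I : Ideal A, I ≠ ⊥ → I.IsPrime → I.IsMaximal)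
    (halg : Algebra.IsAlgebraic A B) (x : A) (hx : x ∈ IsLocalRing.maximalIdeal A)
    (m : Ideal B) [m.IsPrime] (hxm : algebraMap A B x ∉ m) : m = ⊥ := by
  have hp : m.comap (algebraMap A B) = ⊥ := by
    by_contra hne
    have hmaxp := hmax _ hne (Ideal.comap_isPrime _ _)
    have h1 := IsLocalRing.eq_maximalIdeal hmaxp
    apply hxm
    have hx' : x ∈ m.comap (algebraMap A B) := by
      rw [h1]
      exact hx
    exact hx'
  rw [eq_bot_iff]
  intro b hb
  rw [Ideal.mem_bot]
  by_contra hb0
  obtain ⟨r, hr0, hr⟩ := (halg.isAlgebraic b).exists_nonzero_dvd (mem_nonZeroDivisors_of_ne_zero hb0)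
  apply hr0
  have hmem : r ∈ m.comap (algebraMap A B) := by
    rw [Ideal.mem_comap]
    obtain ⟨c, hc⟩ := hr
    rw [hc]
    exact m.mul_mem_right _ hb
  rw [hp, Ideal.mem_bot] at hmem
  exact hmem

theorem finite_maximalSpectrum [IsLocalRing A]
    (hmax : ∀ I : Ideal A, I ≠ ⊥ → I.IsPrime → I.IsMaximal)
    (halg : Algebra.IsAlgebraic A B) (x : A) (hx : x ∈ IsLocalRing.maximalIdeal A)
    (hart : IsArtinianRing (B ⧸ Ideal.span ({algebraMap A B x} : Set B))) :
    Finite (MaximalSpectrum B) := by
  classical
  set I := Ideal.span ({algebraMap A B x} : Set B) with hI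
  have hπ : Function.Surjective (Ideal.Quotient.mk I) := Ideal.Quotient.mk_surjective
  have hcm : ∀ m : Ideal B, algebraMap A B x ∈ m →
      Ideal.comap (Ideal.Quotient.mk I) (m.map (Ideal.Quotient.mk I)) = m := by
    intro m hm
    rw [Ideal.comap_map_of_surjective _ hπ]
    have h2 : Ideal.comap (Ideal.Quotient.mk I) ⊥ ≤ m := by
      rw [← RingHom.ker_eq_comap_bot, Ideal.mk_ker, hI, Ideal.span_singleton_le_iff_mem]
      exact hm
    exact sup_eq_left.mpr h2
  have key : ∀ m : MaximalSpectrum B, algebraMap A B x ∈ m.asIdeal →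
      (m.asIdeal.map (Ideal.Quotient.mk I)).IsMaximal := by
    intro m hm
    rcases Ideal.map_eq_top_or_isMaximal_of_surjective _ hπ m.isMaximal with h | h
    · exfalso
      have h1 := hcm m.asIdeal hm
      rw [h, Ideal.comap_top] at h1
      exact m.isMaximal.ne_top h1.symm
    · exact h
  let F : MaximalSpectrum B → Option (MaximalSpectrum (B ⧸ I)) := fun m =>
    if h : algebraMap A B x ∈ m.asIdeal then some ⟨m.asIdeal.map (Ideal.Quotient.mk I), key m h⟩
    else none
  apply Finite.of_injective F
  intro m m' hmm'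
  by_cases h : algebraMap A B x ∈ m.asIdeal <;> by_cases h' : algebraMap A B x ∈ m'.asIdeal
  · simp only [F, dif_pos h, dif_pos h', Option.some.injEq, MaximalSpectrum.mk.injEq] at hmm'
    apply MaximalSpectrum.ext
    rw [← hcm m.asIdeal h, ← hcm m'.asIdeal h', hmm']
  · simp [F, dif_pos h, dif_neg h'] at hmm'
  · simp [F, dif_neg h, dif_pos h'] at hmm'
  · apply MaximalSpectrum.ext
    haveI := m.isMaximal.isPrime
    haveI := m'.isMaximal.isPrime
    rw [eq_bot_of_notMem A B hmax halg x hx m.asIdeal h,
      eq_bot_of_notMem A B hmax halg x hx m'.asIdeal h']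

end Main

section Final

variable (A B K L : Type u)
    [CommRing A] [IsDomain A] [IsLocalRing A]
    [CommRing B] [IsDomain B] [Algebra A B] [FaithfulSMul A B]
    [Field K] [Field L] [Algebra A K] [IsFractionRing A K] [Algebra B L] [IsFractionRing B L]
    [Algebra K L] [Algebra A L] [IsScalarTower A K L] [IsScalarTower A B L] [FiniteDimensional K L]

omit [IsLocalRing A] in
theorem isSMulRegular_submodule (x : A) (hx0 : x ≠ 0) (N : Submodule A B) :
    IsSMulRegular N x := by
  intro y z h
  apply Subtype.ext
  have h1 : x • (y : B) = x • (z : B) := congrArg Subtype.val h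
  rw [Algebra.smul_def, Algebra.smul_def] at h1
  have hx' : algebraMap A B x ≠ 0 := by
    rw [Ne, map_eq_zero_iff _ (FaithfulSMul.algebraMap_injective A B)]
    exact hx0
  exact mul_left_cancel₀ hx' h1

omit [IsLocalRing A] in
theorem isSMulRegular_self (x : A) (hx0 : x ≠ 0) : IsSMulRegular B x := by
  intro y z h
  have h1 : x • y = x • z := h
  rw [Algebra.smul_def, Algebra.smul_def] at h1
  have hx' : algebraMap A B x ≠ 0 := by
    rw [Ne, map_eq_zero_iff _ (FaithfulSMul.algebraMap_injective A B)]
    exact hx0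
  exact mul_left_cancel₀ hx' h1

omit [IsLocalRing A] in
theorem length_eq_of_finite
    (hfin : ∀ a : A, a ≠ 0 → Module.length A (A ⧸ Ideal.span ({a} : Set A)) ≠ ⊤) (x : A)
    (hx0 : x ≠ 0) (hfinB : Module.Finite A B) :
    Module.length A (B ⧸ (Ideal.span ({x} : Set A) • (⊤ : Submodule A B))) =
      (Module.finrank K L : ℕ∞) * Module.length A (A ⧸ Ideal.span ({x} : Set A)) := by
  have halg : Algebra.IsAlgebraic A B :=
    isAlgebraic_of_finiteDimensional (A := A) (B := B) (K := K) (L := L)
  obtain ⟨b, hli, htor⟩ := exists_indep_family (A := A) (B := B) (K := K) (L := L) halg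
  exact length_quot_smul_eq_of_fg hfin hfinB x (isSMulRegular_self A B x hx0) b hli htor

theorem finite_of_length_eq
    (hfin : ∀ a : A, a ≠ 0 → Module.length A (A ⧸ Ideal.span ({a} : Set A)) ≠ ⊤)
    (hmax : ∀ I : Ideal A, I ≠ ⊥ → I.IsPrime → I.IsMaximal)
    (x : A) (hx : x ∈ IsLocalRing.maximalIdeal A) (hx0 : x ≠ 0)
    (hEq : Module.length A (B ⧸ (Ideal.span ({x} : Set A) • (⊤ : Submodule A B))) =
      (Module.finrank K L : ℕ∞) * Module.length A (A ⧸ Ideal.span ({x} : Set A))) :
    Module.Finite A B := by
  classical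
  have halg : Algebra.IsAlgebraic A B :=
    isAlgebraic_of_finiteDimensional (A := A) (B := B) (K := K) (L := L)
  obtain ⟨b, hli, htor⟩ := exists_indep_family (A := A) (B := B) (K := K) (L := L) halg
  set xB : Submodule A B := Ideal.span ({x} : Set A) • (⊤ : Submodule A B) with hxB
  have hl : Module.length A (A ⧸ Ideal.span ({x} : Set A)) ≠ ⊤ := hfin x hx0
  have hfinC : Module.length A (B ⧸ xB) ≠ ⊤ := by
    rw [hEq]
    exact WithTop.mul_ne_top (ENat.natCast_ne_top _) hl
  have hflC : IsFiniteLength A (B ⧸ xB) := Module.length_ne_top_iff.mp hfinC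
  obtain ⟨hnoeth, _⟩ := isFiniteLength_iff_isNoetherian_isArtinian.mp hflC
  haveI : Module.Finite A (B ⧸ xB) := inferInstance
  obtain ⟨t, g, hg⟩ := Submodule.fg_iff_exists_fin_generating_family.mp
    (Module.Finite.fg_top (R := A) (M := B ⧸ xB))
  choose γ hγ using fun j => Submodule.Quotient.mk_surjective xB (g j)
  set B' : Submodule A B := Submodule.span A (Set.range γ ∪ Set.range b) with hB'
  have hB'fg : B'.FG := Submodule.fg_span ((Set.finite_range γ).union (Set.finite_range b))
  have hbB' : ∀ i, b i ∈ B' := fun i => Submodule.subset_span (Or.inr ⟨i, rfl⟩)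
  have hγB' : ∀ j, γ j ∈ B' := fun j => Submodule.subset_span (Or.inl ⟨j, rfl⟩)
  have hsup : xB ⊔ B' = ⊤ := by
    rw [← Submodule.map_mkQ_eq_top, eq_top_iff, ← hg, Submodule.span_le]
    rintro _ ⟨j, rfl⟩
    exact ⟨γ j, hγB' j, hγ j⟩
  let b' : Fin (Module.finrank K L) → B' := fun i => ⟨b i, hbB' i⟩
  have hli' : LinearIndependent A b' := LinearIndependent.of_comp B'.subtype hli
  have htor' : ∀ y : B', ∃ a : A, a ≠ 0 ∧ a • y ∈ Submodule.span A (Set.range b') := by
    intro y
    obtain ⟨a, ha, hay⟩ := htor y.1
    refine ⟨a, ha, ?_⟩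
    have hmap : (Submodule.span A (Set.range b')).map B'.subtype =
        Submodule.span A (Set.range b) := by
      rw [Submodule.map_span, ← Set.range_comp]
      rfl
    rw [← hmap] at hay
    obtain ⟨z, hz, hzy⟩ := hay
    have hzy' : z = a • y := Subtype.ext hzy
    rw [← hzy']
    exact hz
  haveI : Module.Finite A B' := Module.Finite.iff_fg.mpr hB'fg
  have hlenB' := length_quot_smul_eq_of_fg hfin (inferInstance : Module.Finite A B') x
    (isSMulRegular_submodule A B x hx0 B') b' hli' htor'
  let ψ : (B' ⧸ (Ideal.span ({x} : Set A) • (⊤ : Submodule A B'))) →ₗ[A] (B ⧸ xB) :=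
    Submodule.mapQ _ _ B'.subtype (Submodule.smul_top_le_comap_smul_top _ _)
  have hψsurj : Function.Surjective ψ := by
    intro c
    obtain ⟨y, rfl⟩ := Submodule.Quotient.mk_surjective _ c
    have hy : y ∈ xB ⊔ B' := by
      rw [hsup]
      trivial
    obtain ⟨u, hu, v, hv, rfl⟩ := Submodule.mem_sup.mp hy
    refine ⟨Submodule.Quotient.mk ⟨v, hv⟩, ?_⟩
    change (Submodule.Quotient.mk v : B ⧸ xB) = Submodule.Quotient.mk (u + v)
    rw [Submodule.Quotient.eq]
    have hvu : v - (u + v) = -u := by abel
    rw [hvu]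
    exact xB.neg_mem hu
  have hψinj : Function.Injective ψ := by
    have h1 := Module.length_eq_add_of_exact (LinearMap.ker ψ).subtype ψ
      (Submodule.subtype_injective _) hψsurj (LinearMap.exact_subtype_ker_map ψ)
    rw [hlenB', ← hEq] at h1
    have h2 : Module.length A (LinearMap.ker ψ) = 0 := by
      have h3 : (0 : ℕ∞) + Module.length A (B ⧸ xB) =
          Module.length A (LinearMap.ker ψ) + Module.length A (B ⧸ xB) := by
        rw [zero_add]
        exact h1
      exact (ENat.add_left_injective_of_ne_top hfinC h3).symm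
    rw [Module.length_eq_zero_iff] at h2
    rw [← LinearMap.ker_eq_bot, Submodule.eq_bot_iff]
    intro z hz
    have := Subsingleton.elim (⟨z, hz⟩ : LinearMap.ker ψ) 0
    exact congrArg Subtype.val this
  have hiv : ∀ y ∈ B', y ∈ xB → ∃ z ∈ B', y = x • z := by
    intro y hy hyx
    have h1 : ψ (Submodule.Quotient.mk ⟨y, hy⟩) = 0 := by
      change (Submodule.Quotient.mk y : B ⧸ xB) = 0
      rw [Submodule.Quotient.mk_eq_zero]
      exact hyx
    have h2 := hψinj (h1.trans (map_zero ψ).symm)
    rw [Submodule.Quotient.mk_eq_zero, Submodule.ideal_span_singleton_smul,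
      Submodule.mem_smul_pointwise_iff_exists] at h2
    obtain ⟨z, -, hz⟩ := h2
    exact ⟨z.1, z.2, (congrArg Subtype.val hz).symm⟩
  have hpow : ∀ (n : ℕ) (y : B), x ^ n • y ∈ B' → y ∈ B' := by
    intro n
    induction n with
    | zero =>
      intro y hy
      simpa using hy
    | succ n ih =>
      intro y hy
      apply ih
      have h1 : x ^ (n + 1) • y = x • (x ^ n • y) := by rw [pow_succ', mul_smul]
      rw [h1] at hy
      have h2 : x • (x ^ n • y) ∈ xB :=
        Submodule.smul_mem_smul (Ideal.mem_span_singleton_self x) Submodule.mem_top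
      obtain ⟨z, hz, hzy⟩ := hiv _ hy h2
      have h3 : x ^ n • y = z := isSMulRegular_self A B x hx0 hzy
      rw [h3]
      exact hz
  have hall : ∀ y : B, y ∈ B' := by
    intro y
    obtain ⟨a, ha, hay⟩ := htor y
    have hay' : a • y ∈ B' := (Submodule.span_mono Set.subset_union_right) hay
    have hrad : x ∈ (Ideal.span ({a} : Set A)).radical := by
      rw [Ideal.radical_eq_sInf, Ideal.mem_sInf]
      rintro J ⟨haJ, hJp⟩
      have hJne : J ≠ ⊥ := by
        intro hJ
        have haJ' : a ∈ J := haJ (Ideal.mem_span_singleton_self a)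
        rw [hJ, Ideal.mem_bot] at haJ'
        exact ha haJ'
      have hJm := IsLocalRing.eq_maximalIdeal (hmax J hJne hJp)
      rw [hJm]
      exact hx
    obtain ⟨n, hn⟩ := hrad
    obtain ⟨c, hc⟩ := Ideal.mem_span_singleton'.mp hn
    apply hpow n
    rw [← hc, mul_smul]
    exact B'.smul_mem c hay'
  rw [Module.finite_def]
  have htop : B' = ⊤ := eq_top_iff.mpr (fun y _ => hall y)
  rw [← htop]
  exact hB'fg

end Final

theorem main (A B K L : Type u)
    [CommRing A] [IsDomain A] [IsNoetherianRing A] [IsLocalRing A] (hdim : ringKrullDim A = 1)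
    [CommRing B] [IsDomain B] [Algebra A B] [FaithfulSMul A B] [Algebra.FiniteType A B]
    [Field K] [Field L] [Algebra A K] [IsFractionRing A K] [Algebra B L] [IsFractionRing B L]
    [Algebra K L] [Algebra A L] [IsScalarTower A K L] [IsScalarTower A B L] [FiniteDimensional K L]
    (x : A) (hx : x ∈ IsLocalRing.maximalIdeal A) (hx0 : x ≠ 0) :
    Finite (MaximalSpectrum B) ∧
      (∑ᶠ m : MaximalSpectrum B,
          Module.length A (B ⧸ m.asIdeal) *
            Module.length (Localization.AtPrime m.asIdeal)
              (Localization.AtPrime m.asIdeal ⧸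
                Ideal.span ({algebraMap A (Localization.AtPrime m.asIdeal) x} : Set _)) ≤
        (Module.finrank K L : ℕ∞) * Module.length A (A ⧸ Ideal.span ({x} : Set A))) ∧
      ((∑ᶠ m : MaximalSpectrum B,
          Module.length A (B ⧸ m.asIdeal) *
            Module.length (Localization.AtPrime m.asIdeal)
              (Localization.AtPrime m.asIdeal ⧸
                Ideal.span ({algebraMap A (Localization.AtPrime m.asIdeal) x} : Set _)) =
        (Module.finrank K L : ℕ∞) * Module.length A (A ⧸ Ideal.span ({x} : Set A))) ↔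
          Module.Finite A B) := by
  classical
  have hfin : ∀ a : A, a ≠ 0 → Module.length A (A ⧸ Ideal.span ({a} : Set A)) ≠ ⊤ :=
    fun a ha => length_quotient_span_singleton_ne_top (le_of_eq hdim) ha
  have hmax : ∀ I : Ideal A, I ≠ ⊥ → I.IsPrime → I.IsMaximal :=
    Ring.krullDimLE_one_iff_of_noZeroDivisors.mp (Ring.krullDimLE_iff.mpr (le_of_eq hdim))
  have halg : Algebra.IsAlgebraic A B :=
    isAlgebraic_of_finiteDimensional (A := A) (B := B) (K := K) (L := L)
  have hΛle : Module.length A (B ⧸ Ideal.span ({algebraMap A B x} : Set B)) ≤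
      (Module.finrank K L : ℕ∞) * Module.length A (A ⧸ Ideal.span ({x} : Set A)) := by
    rw [length_quot_eq]
    exact length_quot_le A B K L hfin x hx0
  have hΛfin : Module.length A (B ⧸ Ideal.span ({algebraMap A B x} : Set B)) ≠ ⊤ :=
    ne_top_of_le_ne_top (WithTop.mul_ne_top (ENat.natCast_ne_top _) (hfin x hx0)) hΛle
  have hflA : IsFiniteLength A (B ⧸ Ideal.span ({algebraMap A B x} : Set B)) :=
    Module.length_ne_top_iff.mp hΛfin
  obtain ⟨hnA, haA⟩ := isFiniteLength_iff_isNoetherian_isArtinian.mp hflA
  have hnB : IsNoetherian B (B ⧸ Ideal.span ({algebraMap A B x} : Set B)) :=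
    isNoetherian_of_tower A hnA
  have haB : IsArtinian B (B ⧸ Ideal.span ({algebraMap A B x} : Set B)) :=
    isArtinian_of_tower A haA
  have hflB : IsFiniteLength B (B ⧸ Ideal.span ({algebraMap A B x} : Set B)) :=
    isFiniteLength_iff_isNoetherian_isArtinian.mpr ⟨hnB, haB⟩
  have hart : IsArtinianRing (B ⧸ Ideal.span ({algebraMap A B x} : Set B)) :=
    isArtinian_of_tower B haB
  haveI hF : Finite (MaximalSpectrum B) := finite_maximalSpectrum A B hmax halg x hx hart
  haveI : Fintype (MaximalSpectrum B) := Fintype.ofFinite _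
  have hsum : (∑ᶠ m : MaximalSpectrum B,
      Module.length A (B ⧸ m.asIdeal) *
        Module.length (Localization.AtPrime m.asIdeal)
          (Localization.AtPrime m.asIdeal ⧸
            Ideal.span ({algebraMap A (Localization.AtPrime m.asIdeal) x} : Set _))) =
      Module.length A (B ⧸ Ideal.span ({algebraMap A B x} : Set B)) := by
    rw [finsum_eq_sum_of_fintype, length_quotient_span_eq_sum A B (algebraMap A B x) hflB]
    refine Finset.sum_congr rfl fun m _ => ?_
    rw [IsScalarTower.algebraMap_apply A B (Localization.AtPrime m.asIdeal) x]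
  refine ⟨hF, ?_, ?_⟩
  · rw [hsum]
    exact hΛle
  · rw [hsum, length_quot_eq]
    constructor
    · intro hEq
      exact finite_of_length_eq A B K L hfin hmax x hx hx0 hEq
    · intro hfB
      exact length_eq_of_finite A B K L hfin x hx0 hfB

end Groth.Agent.Helper20.KALenE
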