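import Groth.Agent.Lib.Helper20.KRRReg3
import Groth.Agent.Lib.Helper13.PullbackLocal

/-!
# Mumford's theorem for regular sheaves relative to `P^n_T → T`
-/

set_option autoImplicit false
set_option linter.unusedSectionVars false
universe u
open CategoryTheory CategoryTheory.Limits AlgebraicGeometry Opposite TopologicalSpace

namespace Groth.Agent.Helper20.KRRReg

open Groth.Agent.Helper13.Tensor Groth.Agent.Helper13.TwistSES Groth.Agent.Helper13.ToAbExact
open Groth.Agent.Helper26.Kos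

section Pn

variable (n : ℕ) (T : Scheme.{u})

/-- the projection to `P^n_ℤ`. -/
noncomputable abbrev toPnZ : KRR.PY n T ⟶ CohB1.ProjSpace n (ULift.{u} ℤ) :=
  pullback.fst (CohB1.ProjSpace.toSpec n (ULift.{u} ℤ)) (specULiftZIsTerminal.from T)

/-- multiplication by the `i`-th coordinate `O(a) ⟶ O(a+1)` on `P^n_T`. -/
noncomputable def xOver (i : Fin (n + 1)) (a : ℤ) :
    Twist.twistOver n T a ⟶ Twist.twistOver n T (a + 1) :=
  (Scheme.Modules.pullback (toPnZ n T)).map (xmul n (ULift.{u} ℤ) i a)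

theorem xOver_comm (i j : Fin (n + 1)) (a : ℤ) :
    xOver n T i a ≫ xOver n T j (a + 1) = xOver n T j a ≫ xOver n T i (a + 1) := by
  have h := congrArg (fun φ => (Scheme.Modules.pullback (toPnZ n T)).map φ)
    (xmul_comm n (ULift.{u} ℤ) i j a)
  simp only [Functor.map_comp] at h
  exact h

theorem hlocOver (p : KRR.PY n T) : ∃ (i : Fin (n + 1)) (U : (KRR.PY n T).Opens), p ∈ U ∧
    ∀ a : ℤ, IsIso ((Scheme.Modules.restrictFunctor U.ι).map (xOver n T i a)) := by
  obtain ⟨i, U, hpU, hU⟩ := hloc n (ULift.{u} ℤ) ((toPnZ n T) p)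
  refine ⟨i, (toPnZ n T) ⁻¹ᵁ U, hpU, fun a => ?_⟩
  have h : ((toPnZ n T) ⁻¹ᵁ U).ι ≫ toPnZ n T = (toPnZ n T ∣_ U) ≫ U.ι :=
    (morphismRestrict_ι _ U).symm
  have e := Groth.Agent.Helper13.Pullback.pullbackRestrictIso (toPnZ n T)
    ((toPnZ n T) ⁻¹ᵁ U).ι U.ι (toPnZ n T ∣_ U) h
  have h1 : IsIso ((Scheme.Modules.restrictFunctor U.ι ⋙
      Scheme.Modules.pullback (toPnZ n T ∣_ U)).map (xmul n (ULift.{u} ℤ) i a)) := by
    have := hU a
    change IsIso ((Scheme.Modules.pullback (toPnZ n T ∣_ U)).map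
      ((Scheme.Modules.restrictFunctor U.ι).map (xmul n (ULift.{u} ℤ) i a)))
    infer_instance
  exact (NatIso.isIso_map_iff e (xmul n (ULift.{u} ℤ) i a)).mpr h1

/-- regularity in terms of `V` and right twists. -/
theorem V_of_isRegSheaf (F : (KRR.PY n T).Modules) (hreg : KRR.IsRegSheaf n T F) (i : ℕ)
    (hi : 1 ≤ i) :
    V (KRR.pr n T) i (CohB1.tensorMod F (Twist.twistOver n T (0 - i))) := by
  have h := hreg i hi
  have e : KRR.twF n T (-(i : ℤ)) F ≅ CohB1.tensorMod F (Twist.twistOver n T (0 - i)) :=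
    braid _ _ ≪≫ Groth.Agent.Helper13.Tensor.mapIso (Iso.refl F) (eqToIso (by rw [zero_sub]))
  exact V_iso (KRR.pr n T) e i h

/-- Mumford's theorem, relative version. -/
theorem V_twist_of_isRegSheaf (F : (KRR.PY n T).Modules) (hreg : KRR.IsRegSheaf n T F)
    (d i : ℕ) (hi : 1 ≤ i) :
    V (KRR.pr n T) i (CohB1.tensorMod F (Twist.twistOver n T (0 + d - i))) :=
  mumford_all_rel (KRR.pr n T) (fun a => Twist.twistOver n T a) (xOver n T) (xOver_comm n T)
    (hlocOver n T) (List.finRange (n + 1)) List.mem_finRange F 0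
    (fun i hi => V_of_isRegSheaf n T F hreg i hi) d i hi

theorem isRegSheaf_twF (F : (KRR.PY n T).Modules) (hreg : KRR.IsRegSheaf n T F) (m : ℕ) :
    KRR.IsRegSheaf n T (KRR.twF n T (m : ℤ) F) := by
  intro i hi
  have h := V_twist_of_isRegSheaf n T F hreg m i hi
  obtain ⟨e₁⟩ := twF_twF_iso n T (-(i : ℤ)) (m : ℤ) (0 + m - i) (by ring) F
  have e₂ : KRR.twF n T (0 + m - i) F ≅ CohB1.tensorMod F (Twist.twistOver n T (0 + m - i)) :=
    braid _ _
  exact V_iso (KRR.pr n T) (e₁ ≪≫ e₂).symm i h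

theorem isZero_RpushAb_of_isRegSheaf (F : (KRR.PY n T).Modules) (hreg : KRR.IsRegSheaf n T F)
    (i : ℕ) (hi : 1 ≤ i) :
    IsZero ((Coh.RpushAb (KRR.pr n T) i).obj (Coh.toAb F)) := by
  have h := V_twist_of_isRegSheaf n T F hreg i i hi
  obtain ⟨z⟩ := twF_zero_iso n T F
  have e₂ : KRR.twF n T 0 F ≅ CohB1.tensorMod F (Twist.twistOver n T (0 + i - i)) :=
    braid _ _ ≪≫ Groth.Agent.Helper13.Tensor.mapIso (Iso.refl F) (eqToIso (by
      rw [zero_add, sub_self]))
  exact V_iso (KRR.pr n T) (e₂.symm ≪≫ z) i h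

end Pn

end Groth.Agent.Helper20.KRRReg
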