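import Groth.Agent.Lib.Helper20.PnSys3
import Groth.Agent.Lib.Helper20.KRRReg4
import Groth.Agent.Lib.Helper13.RpushRel
import Groth.Agent.Lib.Helper13.RpushShf
import Groth.Agent.Lib.Helper13.RestrCoh
import Groth.Agent.Lib.Helper13.TensorRestrict
import Groth.Agent.Lib.Helper13.CounitGen
import Groth.Agent.Lib.Helper15.ProjSpaceProper

/-!
# Regular quasi-coherent sheaves on `P^n_T`: the counit `p^* p_* F ⟶ F` is an epimorphism
-/

set_option autoImplicit false
set_option linter.unusedSectionVars false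
universe u
open CategoryTheory CategoryTheory.Limits AlgebraicGeometry Opposite TopologicalSpace

namespace Groth.Agent.Helper20.KRRCounit

open Groth.Agent.Helper13 Groth.Agent.Helper13.Tensor
open Groth.Agent.Helper20.KRRReg Groth.Agent.Helper20.PnSys

section General

variable {X S : Scheme.{u}} (f : X ⟶ S)

/-- if `R^q f_* M = 0` then `H^q(f⁻¹ V, M) = 0` for every affine open `V` (`f` qcqs, `M`
quasi-coherent). -/
theorem subsingleton_P_of_isZero_RpushAb [QuasiCompact f] [QuasiSeparated f] (M : X.Modules)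
    [M.IsQuasicoherent] (q : ℕ) (V : S.Opens) (hV : IsAffineOpen V)
    (h : IsZero ((Coh.RpushAb f q).obj (Coh.toAb M))) :
    Subsingleton ((RpushGlobal.P f M q).obj (op V)) := by
  obtain ⟨e⟩ := Groth.Agent.Helper13.RpushShf.main (Opens.grothendieckTopology X)
    (Opens.grothendieckTopology S) (TopologicalSpace.Opens.map f.base) (Coh.toAb M) q
  have hz : IsZero ((presheafToSheaf (Opens.grothendieckTopology S) AddCommGrpCat.{u}).obj
      (RpushGlobal.P f M q)) := IsZero.of_iso h e.symm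
  have hsub : Subsingleton (((presheafToSheaf (Opens.grothendieckTopology S)
      AddCommGrpCat.{u}).obj (RpushGlobal.P f M q)).obj.obj (op V)) := by
    refine ⟨fun a b => ?_⟩
    have h0 : (𝟙 ((presheafToSheaf (Opens.grothendieckTopology S) AddCommGrpCat.{u}).obj
        (RpushGlobal.P f M q))) = 0 := hz.eq_of_src _ _
    have ha := congr((($h0).hom.app (op V)) a)
    have hb := congr((($h0).hom.app (op V)) b)
    exact ha.trans hb.symm
  exact (Groth.Agent.Helper13.RpushRel.toSheafify_bijective f V M q hV).1.subsingleton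

/-- cohomology over an open is the cohomology of the restriction. -/
theorem subsingleton_HH_restrict (M : X.Modules) (q : ℕ) (W : X.Opens)
    (h : Subsingleton (CohTop.HU (X := X.toTopCat) (Coh.toAb M) q W)) :
    Subsingleton (Coh.HH W (M.restrict W.ι) q) := by
  obtain ⟨e⟩ := Groth.Agent.Helper13.RestrCoh.main (X := X.toTopCat) W (Coh.toAb M) q
  exact e.symm.injective.subsingleton

/-- if `R^q f_* M = 0` then `H^q(f⁻¹ V, M|) = 0` for every affine open `V`. -/
theorem subsingleton_HH_restrict_of_isZero_RpushAb [QuasiCompact f] [QuasiSeparated f]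
    (M : X.Modules) [M.IsQuasicoherent] (q : ℕ) (V : S.Opens) (hV : IsAffineOpen V)
    (h : IsZero ((Coh.RpushAb f q).obj (Coh.toAb M))) :
    Subsingleton (Coh.HH (f ⁻¹ᵁ V) (M.restrict (f ⁻¹ᵁ V).ι) q) :=
  subsingleton_HH_restrict M q (f ⁻¹ᵁ V) (subsingleton_P_of_isZero_RpushAb f M q V hV h)

end General

section Pn

variable (n : ℕ) (T : Scheme.{u})

/-- the map `p⁻¹ V ⟶ P^n_ℤ`. -/
noncomputable abbrev uV (V : T.Opens) :
    ((KRR.pr n T) ⁻¹ᵁ V : Scheme.{u}) ⟶ CohB1.ProjSpace n (ULift.{u} ℤ) :=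
  ((KRR.pr n T) ⁻¹ᵁ V).ι ≫ toPnZ n T

theorem isAffineHom_uV (V : T.Opens) (hV : IsAffineOpen V) : IsAffineHom (uV n T V) := by
  have h1 : IsPullback ((KRR.pr n T) ∣_ V) ((KRR.pr n T) ⁻¹ᵁ V).ι V.ι (KRR.pr n T) :=
    isPullback_morphismRestrict _ V
  have h2 : IsPullback (toPnZ n T) (KRR.pr n T) (CohB1.ProjSpace.toSpec n (ULift.{u} ℤ))
      (specULiftZIsTerminal.from T) := IsPullback.of_hasPullback _ _
  have h3 := h1.flip.paste_horiz h2
  have : IsAffine (V : Scheme.{u}) := hV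
  have h4 : IsAffineHom (V.ι ≫ specULiftZIsTerminal.from T) := isAffineHom_of_isAffine _
  exact MorphismProperty.of_isPullback (P := @IsAffineHom) h3.flip h4

theorem restrict_twistOver_iso (V : T.Opens) (a : ℤ) :
    Nonempty ((Twist.twistOver n T a).restrict ((KRR.pr n T) ⁻¹ᵁ V).ι ≅
      L n (ULift.{u} ℤ) (uV n T V) a) := by
  refine ⟨(Scheme.Modules.restrictFunctorIsoPullback _).app _ ≪≫ ?_⟩
  exact (Scheme.Modules.pullbackComp ((KRR.pr n T) ⁻¹ᵁ V).ι (toPnZ n T)).app
    (Twist.twistProjSpace n (ULift.{u} ℤ) a)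

theorem restrict_twF_iso (V : T.Opens) (F : (KRR.PY n T).Modules) (i : ℕ) :
    Nonempty ((KRR.twF n T (-(i : ℤ)) F).restrict ((KRR.pr n T) ⁻¹ᵁ V).ι ≅
      CohB1.tensorMod (F.restrict ((KRR.pr n T) ⁻¹ᵁ V).ι)
        (L n (ULift.{u} ℤ) (uV n T V) (0 - i))) := by
  obtain ⟨e⟩ := restrict_twistOver_iso n T V (-(i : ℤ))
  have e1 : (KRR.twF n T (-(i : ℤ)) F).restrict ((KRR.pr n T) ⁻¹ᵁ V).ι ≅
      CohB1.tensorMod ((Twist.twistOver n T (-(i : ℤ))).restrict ((KRR.pr n T) ⁻¹ᵁ V).ι)
        (F.restrict ((KRR.pr n T) ⁻¹ᵁ V).ι) :=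
    restrictIso ((KRR.pr n T) ⁻¹ᵁ V).ι (Twist.twistOver n T (-(i : ℤ))) F
  exact ⟨e1 ≪≫ braid _ _ ≪≫ Tensor.mapIso (Iso.refl _) (e ≪≫ eqToIso (by rw [zero_sub]))⟩

theorem isQuasicoherent_twF (F : (KRR.PY n T).Modules) [F.IsQuasicoherent] (a : ℤ) :
    (KRR.twF n T a F).IsQuasicoherent := by
  have hL := isInvertible_twistOver n T a
  have : (Twist.twistOver n T a).IsQuasicoherent :=
    Groth.Agent.Helper13.Inv.isQuasicoherent_of_isInvertible _ hL
  exact inferInstanceAs (CohB1.tensorMod (Twist.twistOver n T a) F).IsQuasicoherent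

/-- a quasi-coherent module on `P^n_T`, regular relative to `T`, is generated by its direct
image: the counit `p^* p_* F ⟶ F` is an epimorphism. -/
theorem epi_counit (F : (KRR.PY n T).Modules) (hF : Coh.IsQCoh F)
    (hreg : KRR.IsRegSheaf n T F) :
    Epi ((Scheme.Modules.pullbackPushforwardAdjunction (KRR.pr n T)).counit.app F) := by
  have : F.IsQuasicoherent := hF
  apply Groth.Agent.Helper13.CounitGen.epi_of_isGloballyGenerated_restrict (KRR.pr n T) F
  intro x
  obtain ⟨V, hV, hxV, -⟩ :=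
    exists_isAffineOpen_mem_and_subset (x := (KRR.pr n T) x) (U := ⊤) trivial
  refine ⟨V, hxV, ?_⟩
  have := isAffineHom_uV n T V hV
  apply globallyGenerated_zero n (ULift.{u} ℤ) (uV n T V) (F.restrict ((KRR.pr n T) ⁻¹ᵁ V).ι)
  intro i hi
  obtain ⟨e⟩ := restrict_twF_iso n T V F i
  refine Groth.Agent.Helper9.AffStrat.HH_subsingleton_of_iso e.symm i ?_
  have := isQuasicoherent_twF n T F (-(i : ℤ))
  exact subsingleton_HH_restrict_of_isZero_RpushAb (KRR.pr n T) _ i V hV (hreg i hi)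

end Pn

end Groth.Agent.Helper20.KRRCounit
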