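import Mathlib
import Groth.Prelude.Def_KRR
import Groth.Agent.Lib.Helper24.Horseshoe3
import Groth.Agent.Lib.Helper13.TwistSES
import Groth.Agent.Lib.Helper13.PbInv
import Groth.Agent.Lib.Helper13.ToAbExact
import Groth.Agent.Lib.Helper13.TensorUnit
import Groth.Agent.Lib.Helper26.PnTwist
import Groth.Agent.Lib.Helper5.StalkCx2

/-!
# Castelnuovo–Mumford regular sheaves relative to `P^n_T → T` and short exact sequences
-/

set_option autoImplicit false
universe u
open CategoryTheory CategoryTheory.Limits AlgebraicGeometry Opposite TopologicalSpace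

namespace Groth.Agent.Helper20.KRRReg

open Groth.Agent.Helper13.Tensor Groth.Agent.Helper13.TwistSES

section General

variable {X : Scheme.{u}}

/-- naturality of the braiding in the second variable. -/
lemma map_id_comp_braidHom (L : X.Modules) {M M' : X.Modules} (f : M ⟶ M') :
    Groth.Agent.Helper13.Tensor.map f (𝟙 L) ≫ braidHom M' L =
      braidHom M L ≫ Groth.Agent.Helper13.Tensor.map (𝟙 L) f := by
  apply Groth.Agent.Helper13.Tensor.hom_ext
  intro U m l
  rw [Scheme.Modules.Hom.comp_app, ConcreteCategory.comp_apply, map_app_tmul, braidHom_app_tmul,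
    Scheme.Modules.Hom.comp_app, ConcreteCategory.comp_apply, braidHom_app_tmul, map_app_tmul]

/-- tensoring on the left with an invertible module is exact. -/
theorem shortExact_map_tensorBi (L : X.Modules) (hL : PicF.IsInvertible L)
    (S : ShortComplex X.Modules) (hS : S.ShortExact) :
    (S.map ((DCoh.tensorBi (X := X)).obj L)).ShortExact := by
  have h := tensorSC_shortExact S hS L hL
  refine ShortComplex.shortExact_of_iso ?_ h
  refine ShortComplex.isoMk (braid S.X₁ L) (braid S.X₂ L) (braid S.X₃ L) ?_ ?_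
  · change braidHom S.X₁ L ≫ ((DCoh.tensorBi (X := X)).obj L).map S.f =
      Groth.Agent.Helper13.Tensor.map S.f (𝟙 L) ≫ braidHom S.X₂ L
    rw [Groth.Agent.Helper5.StalkCx.tensorBi_obj_map]
    exact (map_id_comp_braidHom L S.f).symm
  · change braidHom S.X₂ L ≫ ((DCoh.tensorBi (X := X)).obj L).map S.g =
      Groth.Agent.Helper13.Tensor.map S.g (𝟙 L) ≫ braidHom S.X₃ L
    rw [Groth.Agent.Helper5.StalkCx.tensorBi_obj_map]
    exact (map_id_comp_braidHom L S.g).symm

/-- the long exact sequence of higher direct images of abelian sheaves. -/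
noncomputable def lesPushAb {Y : Scheme.{u}} (f : X ⟶ Y) : RDer.DerivedLES (Coh.pushAb f) :=
  Groth.Agent.Helper24.Horseshoe.derivedLES (Coh.pushAb f)

theorem isZero_RpushAb_X₂ {Y : Scheme.{u}} (f : X ⟶ Y) (i : ℕ)
    (S : ShortComplex (Sheaf (Opens.grothendieckTopology X) AddCommGrpCat.{u}))
    (hS : S.ShortExact)
    (h₁ : IsZero ((Coh.RpushAb f i).obj S.X₁)) (h₃ : IsZero ((Coh.RpushAb f i).obj S.X₃)) :
    IsZero ((Coh.RpushAb f i).obj S.X₂) :=
  ((lesPushAb f).exact₂ S hS i).isZero_X₂ (h₁.eq_of_src _ _) (h₃.eq_of_tgt _ _)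

end General

section Pn

variable (n : ℕ) (T : Scheme.{u})

theorem isInvertible_twistOver (d : ℤ) : PicF.IsInvertible (Twist.twistOver n T d) :=
  Groth.Agent.Helper13.PbInv.isInvertible_pullback _ _
    (Groth.Agent.Helper26.PnTwist.isInvertible_twist n (ULift.{u} ℤ) d)

/-- the twisted short exact sequence. -/
theorem twF_shortExact (d : ℤ) (S : ShortComplex (KRR.PY n T).Modules) (hS : S.ShortExact) :
    (S.map ((DCoh.tensorBi (X := KRR.PY n T)).obj (Twist.twistOver n T d))).ShortExact :=
  shortExact_map_tensorBi _ (isInvertible_twistOver n T d) S hS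

/-- the twisted short exact sequence of abelian sheaves. -/
theorem toAb_twF_shortExact (d : ℤ) (S : ShortComplex (KRR.PY n T).Modules) (hS : S.ShortExact) :
    ((S.map ((DCoh.tensorBi (X := KRR.PY n T)).obj (Twist.twistOver n T d))).map
      (Groth.Agent.Helper13.ToAbExact.toAbF (KRR.PY n T))).ShortExact :=
  Groth.Agent.Helper13.ToAbExact.toAb_shortExact _ (twF_shortExact n T d S hS)

theorem isRegSheaf_X₂ (S : ShortComplex (KRR.PY n T).Modules) (hS : S.ShortExact)
    (hreg₁ : KRR.IsRegSheaf n T S.X₁) (hreg₃ : KRR.IsRegSheaf n T S.X₃) :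
    KRR.IsRegSheaf n T S.X₂ := by
  intro i hi
  exact isZero_RpushAb_X₂ (KRR.pr n T) i _ (toAb_twF_shortExact n T (-(i : ℤ)) S hS)
    (hreg₁ i hi) (hreg₃ i hi)

end Pn

end Groth.Agent.Helper20.KRRReg
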