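import Groth.Agent.Lib.Helper20.KRRReg1
import Groth.Agent.Lib.Helper13.PbTensor
import Groth.Agent.Lib.Helper13.TensorAssoc
import Groth.Agent.Lib.Helper13.RpushCmp

/-!
# Regular sheaves and short exact sequences, II: the statements involving a twist by `O(1)`
-/

set_option autoImplicit false
universe u
open CategoryTheory CategoryTheory.Limits AlgebraicGeometry Opposite TopologicalSpace

namespace Groth.Agent.Helper20.KRRReg

open Groth.Agent.Helper13.Tensor Groth.Agent.Helper13.TwistSES Groth.Agent.Helper13.ToAbExact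

section General

variable {X Y : Scheme.{u}} (f : X ⟶ Y)

/-- isomorphic modules have isomorphic higher direct images. -/
theorem isZero_RpushAb_of_iso {A B : X.Modules} (e : A ≅ B) (i : ℕ)
    (h : IsZero ((Coh.RpushAb f i).obj (Coh.toAb A))) :
    IsZero ((Coh.RpushAb f i).obj (Coh.toAb B)) :=
  IsZero.of_iso h ((Coh.RpushAb f i).mapIso ((toAbF X).mapIso e)).symm

theorem isZero_RpushAb_X₃ (i j : ℕ) (hij : i + 1 = j)
    (S : ShortComplex (Sheaf (Opens.grothendieckTopology X) AddCommGrpCat.{u}))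
    (hS : S.ShortExact)
    (h₂ : IsZero ((Coh.RpushAb f i).obj S.X₂)) (h₁ : IsZero ((Coh.RpushAb f j).obj S.X₁)) :
    IsZero ((Coh.RpushAb f i).obj S.X₃) :=
  ((lesPushAb f).exact₃ S hS i j hij).isZero_X₂ (h₂.eq_of_src _ _) (h₁.eq_of_tgt _ _)

theorem isZero_RpushAb_X₁ (i j : ℕ) (hij : i + 1 = j)
    (S : ShortComplex (Sheaf (Opens.grothendieckTopology X) AddCommGrpCat.{u}))
    (hS : S.ShortExact)
    (h₃ : IsZero ((Coh.RpushAb f i).obj S.X₃)) (h₂ : IsZero ((Coh.RpushAb f j).obj S.X₂)) :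
    IsZero ((Coh.RpushAb f j).obj S.X₁) :=
  ((lesPushAb f).exact₁ S hS i j hij).isZero_X₂ (h₃.eq_of_src _ _) (h₂.eq_of_tgt _ _)

/-- the degree one case: if `f_* X₂ ⟶ f_* X₃` is an epimorphism and `R¹f_* X₂ = 0` then
`R¹ f_* X₁ = 0`. -/
theorem isZero_RpushAb_one_X₁
    (S : ShortComplex (Sheaf (Opens.grothendieckTopology X) AddCommGrpCat.{u}))
    (hS : S.ShortExact) (hepi : Epi ((Coh.pushAb f).map S.g))
    (h₂ : IsZero ((Coh.RpushAb f 1).obj S.X₂)) :
    IsZero ((Coh.RpushAb f 1).obj S.X₁) := by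
  have hlim : PreservesFiniteLimits (Coh.pushAb f) := by
    have : (Coh.pushAb f).IsRightAdjoint :=
      (TopCat.Sheaf.pullbackPushforwardAdjunction AddCommGrpCat.{u} f.base).isRightAdjoint
    infer_instance
  have e := (Coh.pushAb f).rightDerivedZeroIsoSelf
  have hepi0 : Epi (((Coh.pushAb f).rightDerived 0).map S.g) := by
    have h := e.hom.naturality S.g
    have h' : ((Coh.pushAb f).rightDerived 0).map S.g =
        e.hom.app S.X₂ ≫ (Coh.pushAb f).map S.g ≫ e.inv.app S.X₃ := by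
      rw [← Category.assoc, ← h, Category.assoc, Iso.hom_inv_id_app, Category.comp_id]
    rw [h']
    infer_instance
  have hδ : (lesPushAb f).δ S hS 0 1 rfl = 0 := by
    have := (lesPushAb f).comp_δ S hS 0 1 rfl
    rw [← cancel_epi (((Coh.pushAb f).rightDerived 0).map S.g), this, comp_zero]
  exact ((lesPushAb f).exact₁ S hS 0 1 rfl).isZero_X₂ hδ (h₂.eq_of_tgt _ _)

/-- epimorphisms of modules pushed forward give epimorphisms of abelian sheaves. -/
theorem epi_pushAb_toAb {A B : X.Modules} (g : A ⟶ B)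
    (h : Epi ((Scheme.Modules.pushforward f).map g)) :
    Epi ((Coh.pushAb f).map ((toAbF X).map g)) := by
  have h1 : Epi ((toAbF Y).map ((Scheme.Modules.pushforward f).map g)) := inferInstance
  exact h1

end General

section Pn

variable (n : ℕ) (T : Scheme.{u})

theorem twistOver_tensor_iso (a b c : ℤ) (h : a + b = c) :
    Nonempty (CohB1.tensorMod (Twist.twistOver n T a) (Twist.twistOver n T b) ≅
      Twist.twistOver n T c) := by
  subst h
  obtain ⟨e⟩ := Groth.Agent.Helper26.PnTwist.twist_tensor_iso n (ULift.{u} ℤ) a b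
  exact ⟨(Groth.Agent.Helper13.PbTensor.pullbackTensorIso _ _ _
    (Groth.Agent.Helper26.PnTwist.isInvertible_twist n (ULift.{u} ℤ) a)
    (Groth.Agent.Helper26.PnTwist.isInvertible_twist n (ULift.{u} ℤ) b)).symm ≪≫
    (Scheme.Modules.pullback _).mapIso e⟩

theorem twF_twF_iso (a b c : ℤ) (h : a + b = c) (F : (KRR.PY n T).Modules) :
    Nonempty (KRR.twF n T a (KRR.twF n T b F) ≅ KRR.twF n T c F) := by
  obtain ⟨e⟩ := twistOver_tensor_iso n T a b c h
  exact ⟨(Groth.Agent.Helper13.Tensor.assoc (Twist.twistOver n T a) (Twist.twistOver n T b) F).symm ≪≫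
    Groth.Agent.Helper13.Tensor.mapIso e (Iso.refl F)⟩

theorem twistOver_zero_iso :
    Nonempty (Twist.twistOver n T 0 ≅ Coh.structureModule (KRR.PY n T)) := by
  obtain ⟨e⟩ := (Groth.Agent.Helper28.TwistMul.twist_all_of_degree_one
    (CohB1.polyGrading n (ULift.{u} ℤ)) (Groth.Agent.Helper26.PnTwist.hcov n (ULift.{u} ℤ))).2.2 0
  exact ⟨(Scheme.Modules.pullback _).mapIso e ≪≫ Groth.Agent.Helper13.PbUnit.pullbackUnitIso _⟩

theorem twF_zero_iso (F : (KRR.PY n T).Modules) : Nonempty (KRR.twF n T 0 F ≅ F) := by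
  obtain ⟨e⟩ := twistOver_zero_iso n T
  exact ⟨Groth.Agent.Helper13.Tensor.mapIso e (Iso.refl F) ≪≫ lid F⟩

/-- `F(1)(-(i+1)) ≅ F(-i)`. -/
theorem twF_neg_succ_twF_one_iso (i : ℕ) (F : (KRR.PY n T).Modules) :
    Nonempty (KRR.twF n T (-((i + 1 : ℕ) : ℤ)) (KRR.twF n T 1 F) ≅ KRR.twF n T (-(i : ℤ)) F) :=
  twF_twF_iso n T _ _ _ (by push_cast; ring) F

theorem isRegSheaf_X₃ (S : ShortComplex (KRR.PY n T).Modules) (hS : S.ShortExact)
    (hreg₂ : KRR.IsRegSheaf n T S.X₂) (hreg₁ : KRR.IsRegSheaf n T (KRR.twF n T 1 S.X₁)) :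
    KRR.IsRegSheaf n T S.X₃ := by
  intro i hi
  obtain ⟨e⟩ := twF_neg_succ_twF_one_iso n T i S.X₁
  have h1 := isZero_RpushAb_of_iso (KRR.pr n T) e (i + 1) (hreg₁ (i + 1) (by omega))
  exact isZero_RpushAb_X₃ (KRR.pr n T) i (i + 1) rfl _
    (toAb_twF_shortExact n T (-(i : ℤ)) S hS) (hreg₂ i hi) h1

theorem isRegSheaf_twF_one_X₁ (S : ShortComplex (KRR.PY n T).Modules) (hS : S.ShortExact)
    (hreg₂ : KRR.IsRegSheaf n T (KRR.twF n T 1 S.X₂)) (hreg₃ : KRR.IsRegSheaf n T S.X₃)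
    (hepi : Epi ((Scheme.Modules.pushforward (KRR.pr n T)).map S.g)) :
    KRR.IsRegSheaf n T (KRR.twF n T 1 S.X₁) := by
  intro i hi
  obtain ⟨j, rfl⟩ : ∃ j, i = j + 1 := ⟨i - 1, by omega⟩
  obtain ⟨e₁⟩ := twF_neg_succ_twF_one_iso n T j S.X₁
  obtain ⟨e₂⟩ := twF_neg_succ_twF_one_iso n T j S.X₂
  have h2 := isZero_RpushAb_of_iso (KRR.pr n T) e₂ (j + 1) (hreg₂ (j + 1) (by omega))
  refine isZero_RpushAb_of_iso (KRR.pr n T) e₁.symm (j + 1) ?_
  rcases Nat.eq_zero_or_pos j with rfl | hj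
  · -- degree one
    obtain ⟨z₁⟩ := twF_zero_iso n T S.X₁
    obtain ⟨z₂⟩ := twF_zero_iso n T S.X₂
    have h2' : IsZero ((Coh.RpushAb (KRR.pr n T) 1).obj (Coh.toAb S.X₂)) := by
      have := isZero_RpushAb_of_iso (KRR.pr n T) z₂ 1 (by simpa using h2)
      exact this
    have h1' : IsZero ((Coh.RpushAb (KRR.pr n T) 1).obj (Coh.toAb S.X₁)) :=
      isZero_RpushAb_one_X₁ (KRR.pr n T) (S.map (toAbF (KRR.PY n T))) (toAb_shortExact S hS)
        (epi_pushAb_toAb (KRR.pr n T) S.g hepi) h2'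
    have := isZero_RpushAb_of_iso (KRR.pr n T) z₁.symm 1 h1'
    simpa using this
  · exact isZero_RpushAb_X₁ (KRR.pr n T) j (j + 1) rfl _
      (toAb_twF_shortExact n T (-(j : ℤ)) S hS) (hreg₃ j hj) h2

end Pn

end Groth.Agent.Helper20.KRRReg
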