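import Groth.Agent.Lib.Helper20.KRRReg2
import Groth.Agent.Lib.Helper26.KosC
import Groth.Agent.Lib.Helper26.KosPn

/-!
# Relative Koszul vanishing for higher direct images
-/

set_option autoImplicit false
set_option linter.unusedSectionVars false
universe u
open CategoryTheory CategoryTheory.Limits AlgebraicGeometry Opposite TopologicalSpace

namespace Groth.Agent.Helper20.KRRReg

open Groth.Agent.Helper13.Tensor Groth.Agent.Helper13.TwistSES Groth.Agent.Helper13.ToAbExact
open Groth.Agent.Helper26.Kos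

section General

variable {X Y : Scheme.{u}} (f : X ⟶ Y)

/-- the vanishing predicate `R^s f_* G = 0`. -/
def V (s : ℕ) (G : X.Modules) : Prop := IsZero ((Coh.RpushAb f s).obj (Coh.toAb G))

theorem V_zero (s : ℕ) (G : X.Modules) (hG : IsZero G) : V f s G :=
  Functor.map_isZero (Coh.RpushAb f s) (Functor.map_isZero (toAbF X) hG)

theorem V_ses (S : ShortComplex X.Modules) (hS : S.ShortExact) (s : ℕ)
    (h2 : V f s S.X₂) (h1 : V f (s + 1) S.X₁) : V f s S.X₃ :=
  isZero_RpushAb_X₃ f s (s + 1) rfl (S.map (toAbF X)) (toAb_shortExact S hS) h2 h1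

theorem V_ses_mid (S : ShortComplex X.Modules) (hS : S.ShortExact) (s : ℕ)
    (h1 : V f s S.X₁) (h3 : V f s S.X₃) : V f s S.X₂ :=
  isZero_RpushAb_X₂ f s (S.map (toAbF X)) (toAb_shortExact S hS) h1 h3

theorem V_iso {A B : X.Modules} (e : A ≅ B) (s : ℕ) (h : V f s A) : V f s B :=
  isZero_RpushAb_of_iso f e s h

theorem V_biprod (A B : X.Modules) (p : ℕ) (hA : V f p A) (hB : V f p B) : V f p (A ⊞ B) := by
  let S : ShortComplex X.Modules :=
    ShortComplex.mk (biprod.inl : A ⟶ A ⊞ B) (biprod.snd : A ⊞ B ⟶ B) (by simp)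
  have hS : S.ShortExact := (ShortComplex.Splitting.ofHasBinaryBiproduct A B).shortExact
  exact V_ses_mid f S hS p hA hB

theorem V_copies (N : X.Modules) (p : ℕ) (hN : V f p N) :
    ∀ (c : ℕ) (G : X.Modules), IsCopies G N c → V f p G := by
  intro c
  induction c with
  | zero =>
    intro G hG
    exact V_zero f p G hG.isZero
  | succ c ih =>
    intro G hG
    obtain ⟨e⟩ := hG
    obtain ⟨e1⟩ := IsCopies.one N
    have e2 : G ≅ (∐ fun _ : Fin c => N) ⊞ N :=
      e ≪≫ (copiesAdd N c 1).symm ≪≫ biprod.mapIso (Iso.refl _) e1.symm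
    refine V_iso f e2.symm p ?_
    exact V_biprod f _ _ p (ih _ ⟨Iso.refl _⟩) hN

end General

section Main

variable {X Y : Scheme.{u}} (f : X ⟶ Y)
  {ι : Type} (L : ℤ → X.Modules) (x : ι → ∀ a : ℤ, L a ⟶ L (a + 1))
  (hx : ∀ (i j : ι) (a : ℤ), x i a ≫ x j (a + 1) = x j a ≫ x i (a + 1))
  (hloc : ∀ p : X, ∃ (i : ι) (U : X.Opens), p ∈ U ∧
    ∀ a : ℤ, IsIso ((Scheme.Modules.restrictFunctor U.ι).map (x i a)))
  (l : List ι) (hl : ∀ i, i ∈ l) (F : X.Modules)

include hloc hl in
theorem koszul_cycles_vanishing_rel (a : ℤ) (t j : ℕ)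
    (hyp : ∀ k : ℕ, j ≤ k →
      V f (t + k) (CohB1.tensorMod F (L (a + l.length - ((k : ℤ) + 1))))) :
    V f (t + j) (Z (KF L x hx l F a) (-(j : ℤ))) := by
  refine devissage (fun s G => V f s G)
    (fun s G hG => V_zero f s G hG)
    (fun S hS s h2 h1 => V_ses f S hS s h2 h1)
    (KF L x hx l F a) (fun n => exactAt_tens L x hx hloc l hl F a n) l.length
    (fun j hj => isZero_KF_neg L x hx l F a j hj) t (l.length + 1) j _ rfl (by omega) ?_
  intro k hk
  have h := isCopies_KF L x hx l F a (-((k : ℤ) + 1)) (k + 1)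
    (a + l.length - ((k : ℤ) + 1)) (by push_cast; ring) (by push_cast; ring)
  exact V_copies f _ _ (hyp k hk) _ _ h

include hx hloc hl in
/-- **relative Koszul vanishing**. -/
theorem koszul_vanishing_rel (e : ℤ) (t : ℕ)
    (hyp : ∀ k : ℕ, V f (t + k) (CohB1.tensorMod F (L (e - ((k : ℤ) + 1))))) :
    V f t (CohB1.tensorMod F (L e)) := by
  have h0 := koszul_cycles_vanishing_rel f L x hx hloc l hl F (e - l.length) t 0 (fun k _ => by
    have := hyp k
    have e1 : e - ↑l.length + ↑l.length - ((k : ℤ) + 1) = e - ((k : ℤ) + 1) := by ring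
    rwa [e1])
  have hz : IsZero ((KF L x hx l F (e - l.length)).X 1) :=
    isZero_KF_pos L x hx l F _ 1 (by omega)
  have e2 := ZzeroIso (KF L x hx l F (e - l.length)) hz
  obtain ⟨e3⟩ := isCopies_KF L x hx l F (e - l.length) 0 0 e (by simp) (by push_cast; ring)
  obtain ⟨e4⟩ := IsCopies.one (CohB1.tensorMod F (L e))
  rw [Nat.choose_zero_right] at e3
  have e5 : CohB1.tensorMod F (L e) ≅ Z (KF L x hx l F (e - l.length)) (-((0 : ℕ) : ℤ)) :=
    e4 ≪≫ e3.symm ≪≫ e2.symm ≪≫ eqToIso (by simp)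
  exact V_iso f e5.symm t (by simpa using h0)

include hx hloc hl in
/-- Mumford: regularity propagates. -/
theorem mumford_all_rel (m : ℤ)
    (hreg : ∀ i : ℕ, 1 ≤ i → V f i (CohB1.tensorMod F (L (m - i)))) :
    ∀ (d i : ℕ), 1 ≤ i → V f i (CohB1.tensorMod F (L (m + d - i))) := by
  intro d
  induction d with
  | zero =>
    intro i hi
    have := hreg i hi
    simpa using this
  | succ d ih =>
    intro i hi
    apply koszul_vanishing_rel f L x hx hloc l hl F _ i
    intro k
    have h := ih (i + k) (by omega)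
    have e1 : m + ((d + 1 : ℕ) : ℤ) - (i : ℤ) - ((k : ℤ) + 1) = m + (d : ℤ) - ((i + k : ℕ) : ℤ) := by
      push_cast; ring
    rw [e1]
    exact h

end Main

end Groth.Agent.Helper20.KRRReg
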