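import Mathlib

/-!
# Krull–Schmidt uniqueness in a preadditive category with finite biproducts
-/

set_option autoImplicit false
set_option linter.unusedSectionVars false
universe u v
open CategoryTheory CategoryTheory.Limits

namespace Groth.Agent.Helper20.KS

variable {C : Type u} [Category.{v} C] [Preadditive C]

/-- nonzero object with local endomorphism ring (sum form). -/
def IsLocalObj (P : C) : Prop :=
  ¬ IsZero P ∧ ∀ f g : P ⟶ P, IsIso (f + g) → IsIso f ∨ IsIso g

/-- nonzero object with only trivial idempotents. -/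
def IsIndecObj (P : C) : Prop :=
  ¬ IsZero P ∧ ∀ e : P ⟶ P, e ≫ e = e → e = 0 ∨ e = 𝟙 P

lemma IsLocalObj.exists_isIso_of_sum {P : C} (hP : IsLocalObj P) {J : Type*} (s : Finset J)
    (h : J → (P ⟶ P)) (hs : IsIso (∑ j ∈ s, h j)) : ∃ j ∈ s, IsIso (h j) := by
  classical
  induction s using Finset.induction_on with
  | empty =>
    exfalso
    rw [Finset.sum_empty] at hs
    apply hP.1
    rw [IsZero.iff_id_eq_zero]
    have := IsIso.hom_inv_id (0 : P ⟶ P)
    rw [zero_comp] at this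
    exact this.symm
  | insert a s ha ih =>
    rw [Finset.sum_insert ha] at hs
    rcases hP.2 _ _ hs with h1 | h2
    · exact ⟨a, Finset.mem_insert_self a s, h1⟩
    · obtain ⟨j, hj, hj'⟩ := ih h2
      exact ⟨j, Finset.mem_insert_of_mem hj, hj'⟩

lemma isIso_of_isIso_comp {P Q : C} (hP : ¬ IsZero P) (hQ : IsIndecObj Q) (α : P ⟶ Q) (β : Q ⟶ P)
    (hi : IsIso (α ≫ β)) : IsIso α := by
  set γ := inv (α ≫ β) with hγ
  have h1 : α ≫ (β ≫ γ) = 𝟙 P := by rw [← Category.assoc]; exact IsIso.hom_inv_id _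
  have he : ((β ≫ γ) ≫ α) ≫ ((β ≫ γ) ≫ α) = (β ≫ γ) ≫ α := by
    rw [Category.assoc, ← Category.assoc α, h1, Category.id_comp]
  rcases hQ.2 _ he with h0 | h1'
  · exfalso
    apply hP
    rw [IsZero.iff_id_eq_zero]
    calc 𝟙 P = (α ≫ (β ≫ γ)) ≫ (α ≫ (β ≫ γ)) := by rw [h1, Category.comp_id]
      _ = α ≫ ((β ≫ γ) ≫ α) ≫ (β ≫ γ) := by simp only [Category.assoc]
      _ = 0 := by rw [h0, zero_comp, comp_zero]
  · exact ⟨⟨β ≫ γ, h1, h1'⟩⟩

variable [HasFiniteBiproducts C] [HasBinaryBiproducts C]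

/-- splitting off the `j`-th summand of a biproduct indexed by `Fin (n+1)`. -/
noncomputable def splitBicone {n : ℕ} (f : Fin (n + 1) → C) (j : Fin (n + 1)) :
    BinaryBicone (f j) (⨁ fun i => f (j.succAbove i)) where
  pt := ⨁ f
  fst := biproduct.π f j
  snd := biproduct.lift fun i => biproduct.π f (j.succAbove i)
  inl := biproduct.ι f j
  inr := biproduct.desc fun i => biproduct.ι f (j.succAbove i)
  inl_fst := biproduct.ι_π_self f j
  inl_snd := by
    ext i
    simp [biproduct.ι_π_ne f (Fin.succAbove_ne j i).symm]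
  inr_fst := by
    ext i
    simp [biproduct.ι_π_ne f (Fin.succAbove_ne j i)]
  inr_snd := by
    ext i i'
    simp only [Category.assoc, biproduct.ι_desc_assoc, biproduct.lift_π, Category.id_comp]
    by_cases h : i = i'
    · subst h
      simp
    · rw [biproduct.ι_π_ne f (fun h' => h (Fin.succAbove_right_injective h').symm),
        biproduct.ι_π_ne _ (Ne.symm h)]

lemma splitBicone_total {n : ℕ} (f : Fin (n + 1) → C) (j : Fin (n + 1)) :
    (splitBicone f j).fst ≫ (splitBicone f j).inl + (splitBicone f j).snd ≫ (splitBicone f j).inr =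
      𝟙 (splitBicone f j).pt := by
  change biproduct.π f j ≫ biproduct.ι f j +
    (biproduct.lift fun i => biproduct.π f (j.succAbove i)) ≫
      (biproduct.desc fun i => biproduct.ι f (j.succAbove i)) = 𝟙 (⨁ f)
  rw [biproduct.lift_desc, ← biproduct.total, Fin.sum_univ_succAbove _ j]

noncomputable def splitIso {n : ℕ} (f : Fin (n + 1) → C) (j : Fin (n + 1)) :
    ⨁ f ≅ f j ⊞ ⨁ fun i => f (j.succAbove i) :=
  biprod.uniqueUpToIso _ _ (isBinaryBilimitOfTotal (splitBicone f j) (splitBicone_total f j))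

lemma splitIso_hom_fst {n : ℕ} (f : Fin (n + 1) → C) (j : Fin (n + 1)) :
    (splitIso f j).hom ≫ biprod.fst = biproduct.π f j := by
  simp [splitIso, splitBicone]

lemma inl_splitIso_inv {n : ℕ} (f : Fin (n + 1) → C) (j : Fin (n + 1)) :
    biprod.inl ≫ (splitIso f j).inv = biproduct.ι f j := by
  simp [splitIso, splitBicone]

lemma isZero_biproduct_fin_zero (f : Fin 0 → C) : IsZero (⨁ f) := by
  rw [IsZero.iff_id_eq_zero]
  ext i
  exact i.elim0

/-- **Krull–Schmidt uniqueness.** -/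
theorem ks : ∀ (n m : ℕ) (Fs : Fin n → C) (Gs : Fin m → C), (∀ i, IsLocalObj (Fs i)) →
    (∀ j, IsIndecObj (Gs j)) → (⨁ Fs ≅ ⨁ Gs) →
    ∃ e : Fin n ≃ Fin m, ∀ i, Nonempty (Fs i ≅ Gs (e i)) := by
  intro n
  induction n with
  | zero =>
    intro m Fs Gs _ hG φ
    rcases Nat.eq_zero_or_pos m with hm | hm
    · subst hm
      exact ⟨Equiv.refl _, fun i => i.elim0⟩
    · exfalso
      have hz : IsZero (⨁ Gs) := (isZero_biproduct_fin_zero Fs).of_iso φ.symm
      apply (hG ⟨0, hm⟩).1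
      rw [IsZero.iff_id_eq_zero, ← biproduct.ι_π_self Gs ⟨0, hm⟩,
        hz.eq_of_tgt (biproduct.ι Gs ⟨0, hm⟩) 0, zero_comp]
  | succ n ih =>
    intro m Fs Gs hF hG φ
    -- find `j` with the `(0, j)` entry an isomorphism
    have hsum : ∑ j : Fin m, (biproduct.ι Fs 0 ≫ φ.hom ≫ biproduct.π Gs j) ≫
        (biproduct.ι Gs j ≫ φ.inv ≫ biproduct.π Fs 0) = 𝟙 (Fs 0) := by
      calc _ = biproduct.ι Fs 0 ≫ φ.hom ≫ (∑ j : Fin m, biproduct.π Gs j ≫ biproduct.ι Gs j) ≫
            φ.inv ≫ biproduct.π Fs 0 := by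
            simp only [Preadditive.comp_sum, Preadditive.sum_comp, Category.assoc]
        _ = 𝟙 (Fs 0) := by
            rw [biproduct.total, Category.id_comp, Iso.hom_inv_id_assoc, biproduct.ι_π_self]
    have hiso : IsIso (∑ j ∈ (Finset.univ : Finset (Fin m)),
        (biproduct.ι Fs 0 ≫ φ.hom ≫ biproduct.π Gs j) ≫
        (biproduct.ι Gs j ≫ φ.inv ≫ biproduct.π Fs 0)) := by
      rw [hsum]; infer_instance
    obtain ⟨j, -, hj⟩ := (hF 0).exists_isIso_of_sum _ _ hiso
    have hα : IsIso (biproduct.ι Fs 0 ≫ φ.hom ≫ biproduct.π Gs j) :=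
      isIso_of_isIso_comp (hF 0).1 (hG j) _ _ hj
    obtain ⟨m', rfl⟩ : ∃ m', m = m' + 1 := ⟨m - 1, by have := j.2; omega⟩
    let ψ : Fs 0 ⊞ (⨁ fun i => Fs ((0 : Fin (n + 1)).succAbove i)) ≅
        Gs j ⊞ (⨁ fun i => Gs (j.succAbove i)) :=
      (splitIso Fs 0).symm ≪≫ φ ≪≫ splitIso Gs j
    have hψ : biprod.inl ≫ ψ.hom ≫ biprod.fst = biproduct.ι Fs 0 ≫ φ.hom ≫ biproduct.π Gs j := by
      simp only [ψ, Iso.trans_hom, Iso.symm_hom, Category.assoc, splitIso_hom_fst]
      rw [← Category.assoc, inl_splitIso_inv]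
    have : IsIso (biprod.inl ≫ ψ.hom ≫ biprod.fst) := by rw [hψ]; exact hα
    have θ : (⨁ fun i => Fs ((0 : Fin (n + 1)).succAbove i)) ≅ (⨁ fun i => Gs (j.succAbove i)) :=
      Biprod.isoElim ψ
    obtain ⟨e', he'⟩ := ih m' (fun i => Fs ((0 : Fin (n + 1)).succAbove i))
      (fun i => Gs (j.succAbove i)) (fun i => hF _) (fun i => hG _) θ
    refine ⟨(finSuccEquiv' (0 : Fin (n + 1))).trans
      ((Equiv.optionCongr e').trans (finSuccEquiv' j).symm), ?_⟩
    intro i
    rcases Fin.eq_self_or_eq_succAbove (0 : Fin (n + 1)) i with rfl | ⟨i', rfl⟩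
    · simp only [Equiv.trans_apply, finSuccEquiv'_at, Equiv.optionCongr_apply, Option.map_none,
        finSuccEquiv'_symm_none]
      exact ⟨asIso (biproduct.ι Fs 0 ≫ φ.hom ≫ biproduct.π Gs j)⟩
    · simp only [Equiv.trans_apply, finSuccEquiv'_succAbove, Equiv.optionCongr_apply,
        Option.map_some, finSuccEquiv'_symm_some]
      exact he' i'

end Groth.Agent.Helper20.KS
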