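import Mathlib

/-!
# Existence of decompositions into indecomposables, given a strictly decreasing measure
-/

set_option autoImplicit false
set_option linter.unusedSectionVars false
universe u v
open CategoryTheory CategoryTheory.Limits

namespace Groth.Agent.Helper20.KS

variable {C : Type u} [Category.{v} C] [Preadditive C] [HasBinaryBiproducts C]
  [HasFiniteCoproducts C]

/-- the statement's form of indecomposability. -/
def IsIndecStmt (P : C) : Prop :=
  ¬ IsZero P ∧ ∀ A B : C, Nonempty (P ≅ A ⊞ B) → IsZero A ∨ IsZero B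

theorem exists_decomp_aux (P : C → Prop) (d : C → ℕ)
    (hP : ∀ F A B, P F → Nonempty (F ≅ A ⊞ B) → P A ∧ P B)
    (hd : ∀ F A B, P F → Nonempty (F ≅ A ⊞ B) → ¬ IsZero A → ¬ IsZero B → d A < d F ∧ d B < d F) :
    ∀ (N : ℕ) (F : C), P F → d F < N →
      ∃ (ι : Type) (_ : Fintype ι) (Fs : ι → C) (inj : ∀ i, Fs i ⟶ F),
        (∀ i, IsIndecStmt (Fs i)) ∧ Nonempty (IsColimit (Cofan.mk F inj)) := by
  intro N
  induction N with
  | zero => intro F _ h; exact absurd h (Nat.not_lt_zero _)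
  | succ N ih =>
    intro F hF hdF
    by_cases hz : IsZero F
    · refine ⟨PEmpty, inferInstance, PEmpty.elim, fun i => i.elim, fun i => i.elim, ⟨?_⟩⟩
      exact Cofan.IsColimit.mk _ (fun s => 0) (fun s i => i.elim) (fun s m _ => hz.eq_of_src _ _)
    · by_cases hind : ∀ A B : C, Nonempty (F ≅ A ⊞ B) → IsZero A ∨ IsZero B
      · refine ⟨PUnit, inferInstance, fun _ => F, fun _ => 𝟙 F, fun _ => ⟨hz, hind⟩, ⟨?_⟩⟩
        exact Cofan.IsColimit.mk _ (fun s => s.inj PUnit.unit)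
          (fun s i => by simp)
          (fun s m hm => by have := hm PUnit.unit; simpa using this)
      · push Not at hind
        obtain ⟨A, B, ⟨φ⟩, hA, hB⟩ := hind
        obtain ⟨hPA, hPB⟩ := hP F A B hF ⟨φ⟩
        obtain ⟨hdA, hdB⟩ := hd F A B hF ⟨φ⟩ hA hB
        obtain ⟨ι₁, _, As, injA, hAs, ⟨cA⟩⟩ := ih A hPA (by omega)
        obtain ⟨ι₂, _, Bs, injB, hBs, ⟨cB⟩⟩ := ih B hPB (by omega)
        let bc : BinaryCofan A B := BinaryCofan.mk (biprod.inl ≫ φ.inv) (biprod.inr ≫ φ.inv)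
        have hbc : IsColimit bc := by
          refine IsColimit.ofIsoColimit (BinaryBiproduct.isColimit A B) ?_
          exact Cocone.ext φ.symm (by rintro ⟨⟨⟩⟩ <;> (simp [bc]; try rfl))
        refine ⟨ι₁ ⊕ ι₂, inferInstance, Sum.elim As Bs,
          Cofan.combPairHoms (Cofan.mk A injA) (Cofan.mk B injB) bc, ?_, ⟨?_⟩⟩
        · rintro (i | i)
          · exact hAs i
          · exact hBs i
        · exact Cofan.combPairIsColimit cA cB hbc

theorem exists_decomp (P : C → Prop) (d : C → ℕ)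
    (hP : ∀ F A B, P F → Nonempty (F ≅ A ⊞ B) → P A ∧ P B)
    (hd : ∀ F A B, P F → Nonempty (F ≅ A ⊞ B) → ¬ IsZero A → ¬ IsZero B → d A < d F ∧ d B < d F)
    (F : C) (hF : P F) :
    ∃ (n : ℕ) (Fs : Fin n → C), (∀ i, IsIndecStmt (Fs i)) ∧ Nonempty (F ≅ ∐ Fs) := by
  obtain ⟨ι, _, Gs, inj, hGs, ⟨hc⟩⟩ := exists_decomp_aux P d hP hd (d F + 1) F hF (Nat.lt_succ_self _)
  let e : ι ≃ Fin (Fintype.card ι) := Fintype.equivFin ι
  refine ⟨Fintype.card ι, Gs ∘ e.symm, fun i => hGs _, ⟨?_⟩⟩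
  exact (IsColimit.coconePointUniqueUpToIso hc (coproductIsCoproduct Gs)) ≪≫
    (Sigma.reindex e.symm Gs).symm

end Groth.Agent.Helper20.KS
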