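import Mathlib

/-!
# Endomorphism dimension drops on proper direct summands (linear categories over a field)
-/

set_option autoImplicit false
universe u v w
open CategoryTheory CategoryTheory.Limits

namespace Groth.Agent.Helper20.KS

theorem finrank_end_lt (k : Type w) [Field k] {C : Type u} [Category.{v} C] [Preadditive C]
    [Linear k C] {A B F : C} (i : A ⟶ F) (r : F ⟶ A) (hir : i ≫ r = 𝟙 A) (iB : B ⟶ F)
    (rB : F ⟶ B) (hB : iB ≫ rB = 𝟙 B) (h0 : iB ≫ r = 0) (hBz : ¬ IsZero B)
    [Module.Finite k (F ⟶ F)] :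
    Module.finrank k (A ⟶ A) < Module.finrank k (F ⟶ F) := by
  let Φ : (A ⟶ A) →ₗ[k] (F ⟶ F) := (Linear.leftComp k F r).comp (Linear.rightComp k A i)
  have hΦ : ∀ a, Φ a = r ≫ a ≫ i := fun a => rfl
  have hinj : Function.Injective Φ := by
    rw [← LinearMap.ker_eq_bot, LinearMap.ker_eq_bot']
    intro a ha
    rw [hΦ] at ha
    calc a = (i ≫ r) ≫ a ≫ (i ≫ r) := by rw [hir]; simp
      _ = i ≫ (r ≫ a ≫ i) ≫ r := by simp only [Category.assoc]
      _ = 0 := by rw [ha]; simp
  have hlt : LinearMap.range Φ ≠ ⊤ := by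
    intro htop
    have h1 : (𝟙 F : F ⟶ F) ∈ LinearMap.range Φ := htop ▸ Submodule.mem_top
    obtain ⟨a, ha⟩ := h1
    rw [hΦ] at ha
    apply hBz
    rw [IsZero.iff_id_eq_zero]
    calc 𝟙 B = iB ≫ 𝟙 F ≫ rB := by rw [Category.id_comp, hB]
      _ = (iB ≫ r) ≫ a ≫ i ≫ rB := by rw [← ha]; simp only [Category.assoc]
      _ = 0 := by rw [h0, zero_comp]
  rw [← LinearMap.finrank_range_of_inj hinj]
  exact Submodule.finrank_lt hlt

/-- a retract is the kernel of the complementary idempotent. -/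
noncomputable def retractIsoKernel {C : Type u} [Category.{v} C] [Preadditive C] {A F : C}
    (i : A ⟶ F) (r : F ⟶ A) (hir : i ≫ r = 𝟙 A) [HasKernel (𝟙 F - r ≫ i)] :
    A ≅ kernel (𝟙 F - r ≫ i) where
  hom := kernel.lift _ i (by
    rw [Preadditive.comp_sub, Category.comp_id, ← Category.assoc, hir, Category.id_comp, sub_self])
  inv := kernel.ι _ ≫ r
  hom_inv_id := by rw [← Category.assoc, kernel.lift_ι, hir]
  inv_hom_id := by
    rw [← cancel_mono (kernel.ι (𝟙 F - r ≫ i)), Category.assoc, Category.assoc, kernel.lift_ι,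
      Category.id_comp]
    have h := kernel.condition (𝟙 F - r ≫ i)
    rw [Preadditive.comp_sub, Category.comp_id, sub_eq_zero] at h
    exact h.symm

end Groth.Agent.Helper20.KS
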