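import Mathlib
import Groth.Prelude.Def_Coh
import Groth.Prelude.Def_KLin
import Groth.Agent.Lib.Helper20.KS1
import Groth.Agent.Lib.Helper20.KS2
import Groth.Agent.Lib.Helper20.KS3
import Groth.Agent.Lib.Helper20.VBIndec
import Groth.Agent.Lib.Helper13.QCohKer
import Groth.Agent.Lib.Helper13.FinTypeEpi

/-!
# Krull–Schmidt for coherent modules on a proper scheme over a field
-/

set_option autoImplicit false
set_option maxHeartbeats 400000
universe u
open CategoryTheory CategoryTheory.Limits AlgebraicGeometry Opposite TopologicalSpace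

namespace Groth.Agent.Helper20.KS

variable {X : Scheme.{u}}

lemma isCoh_of_retract {A F : X.Modules} (i : A ⟶ F) (r : F ⟶ A) (hir : i ≫ r = 𝟙 A)
    (hF : Coh.IsCoh F) : Coh.IsCoh A := by
  have h1 : F.IsQuasicoherent := hF.1
  have h2 : SheafOfModules.IsFiniteType (R := X.ringCatSheaf) F := hF.2
  have : IsSplitEpi r := IsSplitEpi.mk' ⟨i, hir⟩
  refine ⟨?_, Groth.Agent.Helper13.FinType.isFiniteType_of_epi r⟩
  have hq : (kernel (𝟙 F - r ≫ i)).IsQuasicoherent :=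
    Groth.Agent.Helper13.QCohLocal.isQuasicoherent_kernel _
  exact Groth.Agent.Helper13.QCohLocal.isQuasicoherent_of_iso (retractIsoKernel i r hir).symm

theorem krull_schmidt (k : Type u) [Field k] [X.Over (Spec (CommRingCat.of k))]
    [IsProper (X ↘ Spec (CommRingCat.of k))] (F : X.Modules) (hF : Coh.IsCoh F) :
    (∃ (n : ℕ) (Fs : Fin n → X.Modules),
      (∀ i, (¬ IsZero (Fs i) ∧ ∀ A B : X.Modules, Nonempty ((Fs i) ≅ A ⊞ B) → IsZero A ∨ IsZero B)) ∧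
      Nonempty (F ≅ ∐ Fs)) ∧
    (∀ (n m : ℕ) (Fs : Fin n → X.Modules) (Gs : Fin m → X.Modules),
      (∀ i, (¬ IsZero (Fs i) ∧ ∀ A B : X.Modules, Nonempty ((Fs i) ≅ A ⊞ B) → IsZero A ∨ IsZero B)) →
      (∀ j, (¬ IsZero (Gs j) ∧ ∀ A B : X.Modules, Nonempty ((Gs j) ≅ A ⊞ B) → IsZero A ∨ IsZero B)) →
      Nonempty (F ≅ ∐ Fs) → Nonempty (F ≅ ∐ Gs) →
      ∃ e : Fin n ≃ Fin m, ∀ i, Nonempty (Fs i ≅ Gs (e i))) := by
  constructor
  · refine exists_decomp (C := X.Modules) (fun M => Coh.IsCoh M)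
      (fun M => Module.finrank k (M ⟶ M)) ?_ ?_ F hF
    · rintro M A B hM ⟨φ⟩
      exact ⟨isCoh_of_retract (biprod.inl ≫ φ.inv) (φ.hom ≫ biprod.fst) (by simp) hM,
        isCoh_of_retract (biprod.inr ≫ φ.inv) (φ.hom ≫ biprod.snd) (by simp) hM⟩
    · rintro M A B hM ⟨φ⟩ hA hB
      have : Module.Finite k (M ⟶ M) := HomFin.finite_hom k M M hM hM
      exact ⟨finrank_end_lt k (biprod.inl ≫ φ.inv) (φ.hom ≫ biprod.fst) (by simp)
          (biprod.inr ≫ φ.inv) (φ.hom ≫ biprod.snd) (by simp) (by simp) hB,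
        finrank_end_lt k (biprod.inr ≫ φ.inv) (φ.hom ≫ biprod.snd) (by simp)
          (biprod.inl ≫ φ.inv) (φ.hom ≫ biprod.fst) (by simp) (by simp) hA⟩
  · rintro n m Fs Gs hFs hGs ⟨a⟩ ⟨b⟩
    let a' : F ≅ ⨁ Fs := a ≪≫ (biproduct.isoCoproduct Fs).symm
    let b' : F ≅ ⨁ Gs := b ≪≫ (biproduct.isoCoproduct Gs).symm
    have hcoh : ∀ i, Coh.IsCoh (Fs i) := fun i =>
      isCoh_of_retract (biproduct.ι Fs i ≫ a'.inv) (a'.hom ≫ biproduct.π Fs i) (by simp) hF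
    have hloc : ∀ i, IsLocalObj (Fs i) := fun i =>
      ⟨(hFs i).1, VBIndec.local_of_indec k (Fs i) (hcoh i) (hFs i).2⟩
    have hind : ∀ j, IsIndecObj (Gs j) := fun j =>
      ⟨(hGs j).1, fun e he => IndecEnd.idem_trivial_of_indec (hGs j).2 e he⟩
    exact ks n m Fs Gs hloc hind (a'.symm ≪≫ b')

end Groth.Agent.Helper20.KS
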