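import Mathlib

/-!
# Concrete Koszul operators on `Finset (Fin n) → M`

Interior/exterior multiplication operators indexed by `Fin n` acting on functions on subsets,
their canonical anticommutation relations, the Koszul differential `dOp x = ∑ x_u • i_u`, the
identities `d ∘ d = 0` and `d e_v + e_v d = x_v`.
-/

set_option autoImplicit false

namespace Groth.Agent.Helper20.KZ

open Finset

variable {n : ℕ}

/-- the Koszul sign `(-1)^{#{u ∈ A | u < v}}` -/
def sg (v : Fin n) (A : Finset (Fin n)) : ℤ := (-1) ^ (A.filter (· < v)).card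

theorem sg_mul_self (v : Fin n) (A : Finset (Fin n)) : sg v A * sg v A = 1 := by
  unfold sg
  rw [← pow_add, ← two_mul, pow_mul]
  simp

theorem sg_insert_of_lt {u v : Fin n} {A : Finset (Fin n)} (h : u < v) (hu : u ∉ A) :
    sg v (insert u A) = - sg v A := by
  unfold sg
  rw [Finset.filter_insert, if_pos h, Finset.card_insert_of_notMem (by simp [hu]), pow_succ]
  ring

theorem sg_insert_of_not_lt {u v : Fin n} {A : Finset (Fin n)} (h : ¬ u < v) :
    sg v (insert u A) = sg v A := by
  unfold sg
  rw [Finset.filter_insert, if_neg h]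

theorem sg_erase_of_lt {u v : Fin n} {A : Finset (Fin n)} (h : u < v) (hu : u ∈ A) :
    sg v (A.erase u) = - sg v A := by
  have := sg_insert_of_lt (A := A.erase u) h (Finset.notMem_erase u A)
  rw [Finset.insert_erase hu] at this
  rw [this, neg_neg]

theorem sg_erase_of_not_lt {u v : Fin n} {A : Finset (Fin n)} (h : ¬ u < v) :
    sg v (A.erase u) = sg v A := by
  by_cases hu : u ∈ A
  · have := sg_insert_of_not_lt (A := A.erase u) h
    rw [Finset.insert_erase hu] at this
    exact this.symm
  · rw [Finset.erase_eq_of_notMem hu]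

theorem sg_empty (v : Fin n) : sg v ∅ = 1 := by
  unfold sg; simp

section Ops

variable {M : Type*} [AddCommGroup M]

/-- interior multiplication (contraction) by the `v`-th basis vector -/
def iOp (v : Fin n) : Module.End ℤ (Finset (Fin n) → M) where
  toFun w := fun A => if v ∈ A then 0 else sg v A • w (insert v A)
  map_add' w w' := by
    funext A
    by_cases h : v ∈ A <;> simp [h, smul_add]
  map_smul' c w := by
    funext A
    by_cases h : v ∈ A <;> simp [h, smul_comm c]

/-- exterior multiplication by the `v`-th basis vector -/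
def eOp (v : Fin n) : Module.End ℤ (Finset (Fin n) → M) where
  toFun w := fun A => if v ∈ A then sg v A • w (A.erase v) else 0
  map_add' w w' := by
    funext A
    by_cases h : v ∈ A <;> simp [h, smul_add]
  map_smul' c w := by
    funext A
    by_cases h : v ∈ A <;> simp [h, smul_comm c]

theorem iOp_apply (v : Fin n) (w : Finset (Fin n) → M) (A : Finset (Fin n)) :
    iOp (M := M) v w A = if v ∈ A then 0 else sg v A • w (insert v A) := rfl

theorem eOp_apply (v : Fin n) (w : Finset (Fin n) → M) (A : Finset (Fin n)) :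
    eOp (M := M) v w A = if v ∈ A then sg v A • w (A.erase v) else 0 := rfl

theorem iOp_mul_self (v : Fin n) : (iOp v * iOp v : Module.End ℤ (Finset (Fin n) → M)) = 0 := by
  refine LinearMap.ext (fun w => funext (fun A => ?_))
  simp only [Module.End.mul_apply, iOp_apply, LinearMap.zero_apply, Pi.zero_apply]
  by_cases h : v ∈ A <;> simp [h]

theorem iOp_anticomm {u v : Fin n} (h : u ≠ v) :
    (iOp u * iOp v : Module.End ℤ (Finset (Fin n) → M)) = - (iOp v * iOp u) := by
  refine LinearMap.ext (fun w => funext (fun A => ?_))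
  simp only [Module.End.mul_apply, iOp_apply, LinearMap.neg_apply, Pi.neg_apply]
  by_cases hu : u ∈ A
  · simp [hu]
  by_cases hv : v ∈ A
  · simp [hv]
  have h1 : v ∉ insert u A := by simp [hv, Ne.symm h]
  have h2 : u ∉ insert v A := by simp [hu, h]
  rw [if_neg hu, if_neg h1, if_neg hv, if_neg h2, Finset.insert_comm v u A]
  rcases lt_or_gt_of_ne h with hlt | hgt
  · rw [sg_insert_of_lt hlt hu, sg_insert_of_not_lt (not_lt.2 hlt.le)]
    module
  · rw [sg_insert_of_not_lt (not_lt.2 hgt.le), sg_insert_of_lt hgt hv]
    module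

theorem iOp_eOp_self (v : Fin n) :
    (iOp v * eOp v + eOp v * iOp v : Module.End ℤ (Finset (Fin n) → M)) = 1 := by
  refine LinearMap.ext (fun w => funext (fun A => ?_))
  simp only [LinearMap.add_apply, Module.End.mul_apply, iOp_apply, eOp_apply, Pi.add_apply,
    Module.End.one_apply]
  by_cases h : v ∈ A
  · have h1 : v ∉ A.erase v := Finset.notMem_erase v A
    rw [if_pos h, if_pos h, if_neg h1, Finset.insert_erase h, sg_erase_of_not_lt (lt_irrefl v),
      smul_smul, sg_mul_self, one_smul, zero_add]
  · have h1 : v ∈ insert v A := Finset.mem_insert_self v A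
    rw [if_neg h, if_neg h, if_pos h1, Finset.erase_insert h, sg_insert_of_not_lt (lt_irrefl v),
      smul_smul, sg_mul_self, one_smul, add_zero]

theorem iOp_eOp_anticomm {u v : Fin n} (h : u ≠ v) :
    (iOp u * eOp v + eOp v * iOp u : Module.End ℤ (Finset (Fin n) → M)) = 0 := by
  refine LinearMap.ext (fun w => funext (fun A => ?_))
  simp only [LinearMap.add_apply, Module.End.mul_apply, iOp_apply, eOp_apply, Pi.add_apply,
    LinearMap.zero_apply, Pi.zero_apply]
  by_cases hu : u ∈ A
  · have h1 : u ∈ A.erase v := Finset.mem_erase.2 ⟨h, hu⟩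
    simp [hu, h1]
  by_cases hv : v ∈ A
  · have h1 : v ∈ insert u A := Finset.mem_insert_of_mem hv
    have h2 : u ∉ A.erase v := fun h' => hu (Finset.mem_of_mem_erase h')
    rw [if_neg hu, if_pos h1, if_pos hv, if_neg h2]
    have hset : (insert u A).erase v = insert u (A.erase v) := by
      rw [Finset.erase_insert_of_ne h]
    rw [hset]
    rcases lt_or_gt_of_ne h with hlt | hgt
    · rw [sg_insert_of_lt hlt hu, sg_erase_of_not_lt (not_lt.2 hlt.le)]
      module
    · rw [sg_insert_of_not_lt (not_lt.2 hgt.le), sg_erase_of_lt hgt hv]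
      module
  · have h1 : v ∉ insert u A := by simp [hv, Ne.symm h]
    simp [hu, hv, h1]

end Ops

section Diff

variable {R : Type*} [CommRing R] {M : Type*} [AddCommGroup M] [Module R M]

/-- pointwise scalar multiplication as a `ℤ`-linear endomorphism -/
def xOp (r : R) : Module.End ℤ (Finset (Fin n) → M) where
  toFun w := r • w
  map_add' w w' := smul_add r w w'
  map_smul' c w := smul_comm r c w

theorem xOp_apply (r : R) (w : Finset (Fin n) → M) (A : Finset (Fin n)) :
    xOp (n := n) (M := M) r w A = r • w A := rfl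

theorem xOp_comm (r s : R) :
    (xOp r * xOp s : Module.End ℤ (Finset (Fin n) → M)) = xOp s * xOp r := by
  refine LinearMap.ext (fun w => funext (fun A => ?_))
  simp only [Module.End.mul_apply, xOp_apply]
  exact smul_comm r s _

theorem xOp_iOp_comm (r : R) (v : Fin n) :
    (xOp r * iOp v : Module.End ℤ (Finset (Fin n) → M)) = iOp v * xOp r := by
  refine LinearMap.ext (fun w => funext (fun A => ?_))
  simp only [Module.End.mul_apply, xOp_apply, iOp_apply]
  by_cases h : v ∈ A
  · simp [h]
  · rw [if_neg h, if_neg h, smul_comm]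

theorem xOp_eOp_comm (r : R) (v : Fin n) :
    (xOp r * eOp v : Module.End ℤ (Finset (Fin n) → M)) = eOp v * xOp r := by
  refine LinearMap.ext (fun w => funext (fun A => ?_))
  simp only [Module.End.mul_apply, xOp_apply, eOp_apply]
  by_cases h : v ∈ A
  · rw [if_pos h, if_pos h, smul_comm]
  · simp [h]

local notation "iM" => (iOp (n := n) (M := M))
local notation "eM" => (eOp (n := n) (M := M))
local notation "xM" => (xOp (n := n) (M := M))

/-- the Koszul differential `∑ x_u • i_u` -/
def dOp (x : Fin n → R) : Module.End ℤ (Finset (Fin n) → M) := ∑ u, xM (x u) * iM u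

theorem dOp_apply (x : Fin n → R) (w : Finset (Fin n) → M) (A : Finset (Fin n)) :
    dOp (M := M) x w A = ∑ u, x u • iM u w A := by
  unfold dOp
  rw [LinearMap.sum_apply, Finset.sum_apply]
  rfl

theorem sum_sum_antisymm {ι : Type*} [Fintype ι] [LinearOrder ι] {G : Type*} [AddCommGroup G]
    (f : ι → ι → G) (h0 : ∀ u, f u u = 0) (h : ∀ u v, u ≠ v → f u v = - f v u) :
    ∑ u, ∑ v, f u v = 0 := by
  have key : ∀ u v, f u v = (if u < v then f u v else 0) - (if v < u then f v u else 0) := by
    intro u v
    rcases lt_trichotomy u v with hlt | heq | hgt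
    · rw [if_pos hlt, if_neg (not_lt.2 hlt.le), sub_zero]
    · subst heq
      rw [if_neg (lt_irrefl u), sub_zero, h0]
    · rw [if_neg (not_lt.2 hgt.le), if_pos hgt, zero_sub, h u v (ne_of_gt hgt)]
  calc ∑ u, ∑ v, f u v
      = ∑ u, ∑ v, ((if u < v then f u v else 0) - (if v < u then f v u else 0)) := by
        refine Finset.sum_congr rfl (fun u _ => Finset.sum_congr rfl (fun v _ => key u v))
    _ = ∑ u, ∑ v, (if u < v then f u v else 0) - ∑ u, ∑ v, (if v < u then f v u else 0) := by
        simp only [Finset.sum_sub_distrib]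
    _ = 0 := by
        rw [Finset.sum_comm (f := fun u v => if v < u then f v u else 0), sub_self]

theorem dOp_mul_self (x : Fin n → R) :
    (dOp x * dOp x : Module.End ℤ (Finset (Fin n) → M)) = 0 := by
  unfold dOp
  rw [Finset.sum_mul]
  simp only [Finset.mul_sum]
  apply sum_sum_antisymm
  · intro u
    calc xM (x u) * iM u * (xM (x u) * iM u)
        = xM (x u) * (iM u * xM (x u)) * iM u := by simp only [mul_assoc]
      _ = xM (x u) * xM (x u) * (iM u * iM u) := by
          rw [← xOp_iOp_comm]; simp only [mul_assoc]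
      _ = 0 := by rw [iOp_mul_self, mul_zero]
  · intro u v huv
    calc xM (x u) * iM u * (xM (x v) * iM v)
        = xM (x u) * (iM u * xM (x v)) * iM v := by simp only [mul_assoc]
      _ = xM (x u) * xM (x v) * (iM u * iM v) := by
          rw [← xOp_iOp_comm]; simp only [mul_assoc]
      _ = - (xM (x v) * xM (x u) * (iM v * iM u)) := by
          rw [iOp_anticomm huv, xOp_comm, mul_neg]
      _ = - (xM (x v) * (iM v * xM (x u)) * iM u) := by
          rw [← xOp_iOp_comm]; simp only [mul_assoc]
      _ = - (xM (x v) * iM v * (xM (x u) * iM u)) := by simp only [mul_assoc]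

theorem dOp_eOp (x : Fin n → R) (v : Fin n) :
    (dOp x * eM v + eM v * dOp x : Module.End ℤ (Finset (Fin n) → M)) = xM (x v) := by
  unfold dOp
  rw [Finset.sum_mul, Finset.mul_sum, ← Finset.sum_add_distrib]
  have : ∀ u ∈ (Finset.univ : Finset (Fin n)),
      xM (x u) * iM u * eM v + eM v * (xM (x u) * iM u) =
        (if u = v then xM (x v) else (0 : Module.End ℤ (Finset (Fin n) → M))) := by
    intro u _
    have e1 : eM v * (xM (x u) * iM u) = xM (x u) * (eM v * iM u) := by
      rw [← mul_assoc, ← xOp_eOp_comm, mul_assoc]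
    rw [e1, mul_assoc, ← mul_add]
    by_cases h : u = v
    · subst h
      rw [if_pos rfl, iOp_eOp_self, mul_one]
    · rw [if_neg h, iOp_eOp_anticomm h, mul_zero]
  rw [Finset.sum_congr rfl this, Finset.sum_ite_eq' Finset.univ v]
  simp

end Diff

end Groth.Agent.Helper20.KZ
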