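import Groth.Agent.Lib.Helper20.KZ1

/-!
# Koszul chains with bidegree, acyclicity predicates and the dimension-shifting lemma
-/

set_option autoImplicit false

namespace Groth.Agent.Helper20.KZ

open Finset

variable {n : ℕ} {R : Type*} [CommRing R] {M : Type*} [AddCommGroup M] [Module R M]

/-- function-level Koszul differential (the coefficient module is inferred from the argument) -/
def dK (x : Fin n → R) (w : Finset (Fin n) → M) : Finset (Fin n) → M := dOp (M := M) x w

/-- function-level exterior multiplication -/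
def eK (v : Fin n) (w : Finset (Fin n) → M) : Finset (Fin n) → M := eOp (M := M) v w

theorem dK_apply (x : Fin n → R) (w : Finset (Fin n) → M) (A : Finset (Fin n)) :
    dK x w A = ∑ u, x u • (if u ∈ A then 0 else sg u A • w (insert u A)) := by
  unfold dK
  rw [dOp_apply]
  rfl

theorem eK_apply (v : Fin n) (w : Finset (Fin n) → M) (A : Finset (Fin n)) :
    eK v w A = if v ∈ A then sg v A • w (A.erase v) else 0 := rfl

theorem dK_zero (x : Fin n → R) : dK x (0 : Finset (Fin n) → M) = 0 := by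
  unfold dK; exact map_zero _

theorem dK_add (x : Fin n → R) (w w' : Finset (Fin n) → M) :
    dK x (w + w') = dK x w + dK x w' := by
  unfold dK; exact map_add _ _ _

theorem dK_sub (x : Fin n → R) (w w' : Finset (Fin n) → M) :
    dK x (w - w') = dK x w - dK x w' := by
  unfold dK; exact map_sub _ _ _

theorem dK_sum {ι : Type*} (x : Fin n → R) (s : Finset ι) (f : ι → Finset (Fin n) → M) :
    dK x (∑ i ∈ s, f i) = ∑ i ∈ s, dK x (f i) := by
  unfold dK; exact map_sum _ _ _

theorem eK_zero (v : Fin n) : eK v (0 : Finset (Fin n) → M) = 0 := by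
  unfold eK; exact map_zero _

theorem dK_dK (x : Fin n → R) (w : Finset (Fin n) → M) : dK x (dK x w) = 0 := by
  have := LinearMap.congr_fun (dOp_mul_self (n := n) (M := M) x) w
  rw [Module.End.mul_apply, LinearMap.zero_apply] at this
  exact this

theorem dK_eK (x : Fin n → R) (v : Fin n) (w : Finset (Fin n) → M) :
    dK x (eK v w) + eK v (dK x w) = x v • w := by
  have := LinearMap.congr_fun (dOp_eOp (n := n) (M := M) x v) w
  rw [LinearMap.add_apply, Module.End.mul_apply, Module.End.mul_apply] at this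
  exact this

/-- `w` is a Koszul chain of homological degree `a` and internal degree `j`: supported on
subsets of cardinality `a`, with values homogeneous of degree `j - a`. -/
def IsCh (gr : ℤ → AddSubgroup M) (a : ℕ) (j : ℤ) (w : Finset (Fin n) → M) : Prop :=
  ∀ A, w A ∈ gr (j - a) ∧ (A.card ≠ a → w A = 0)

namespace IsCh

variable {gr : ℤ → AddSubgroup M} {a : ℕ} {j : ℤ}

theorem zero : IsCh gr a j (0 : Finset (Fin n) → M) :=
  fun _ => ⟨(gr _).zero_mem, fun _ => rfl⟩

theorem add {w w' : Finset (Fin n) → M} (h : IsCh gr a j w) (h' : IsCh gr a j w') :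
    IsCh gr a j (w + w') := fun A =>
  ⟨(gr _).add_mem (h A).1 (h' A).1, fun hA => by
    rw [Pi.add_apply, (h A).2 hA, (h' A).2 hA, add_zero]⟩

theorem neg {w : Finset (Fin n) → M} (h : IsCh gr a j w) : IsCh gr a j (-w) := fun A =>
  ⟨(gr _).neg_mem (h A).1, fun hA => by rw [Pi.neg_apply, (h A).2 hA, neg_zero]⟩

theorem sub {w w' : Finset (Fin n) → M} (h : IsCh gr a j w) (h' : IsCh gr a j w') :
    IsCh gr a j (w - w') := by
  rw [sub_eq_add_neg]; exact h.add h'.neg

theorem sum {ι : Type*} (s : Finset ι) (f : ι → Finset (Fin n) → M)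
    (h : ∀ i ∈ s, IsCh gr a j (f i)) : IsCh gr a j (∑ i ∈ s, f i) := by
  classical
  induction s using Finset.induction_on with
  | empty => simpa using (zero : IsCh gr a j (0 : Finset (Fin n) → M))
  | insert i s hi ih =>
    rw [Finset.sum_insert hi]
    exact (h i (Finset.mem_insert_self i s)).add
      (ih (fun i' hi' => h i' (Finset.mem_insert_of_mem hi')))

theorem dK (x : Fin n → R) (hx : ∀ v e m, m ∈ gr e → x v • m ∈ gr (e + 1))
    {w : Finset (Fin n) → M} (h : IsCh gr (a + 1) j w) : IsCh gr a j (dK x w) := by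
  intro A
  have e1 : j - ((a + 1 : ℕ) : ℤ) + 1 = j - (a : ℤ) := by push_cast; ring
  constructor
  · rw [dK_apply]
    refine (gr _).sum_mem (fun u _ => ?_)
    rw [← e1]
    apply hx
    by_cases hu : u ∈ A
    · rw [if_pos hu]; exact (gr _).zero_mem
    · rw [if_neg hu]; exact (gr _).zsmul_mem (h _).1 _
  · intro hA
    rw [dK_apply]
    refine Finset.sum_eq_zero (fun u _ => ?_)
    by_cases hu : u ∈ A
    · rw [if_pos hu, smul_zero]
    · rw [if_neg hu, (h _).2 (by rw [Finset.card_insert_of_notMem hu]; omega), smul_zero,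
        smul_zero]

theorem eK (v : Fin n) {w : Finset (Fin n) → M} (h : IsCh gr a j w) {j' : ℤ}
    (hj : j' = j + 1) : IsCh gr (a + 1) j' (eK v w) := by
  intro A
  have e1 : j' - ((a + 1 : ℕ) : ℤ) = j - (a : ℤ) := by subst hj; push_cast; ring
  rw [eK_apply, e1]
  by_cases hv : v ∈ A
  · rw [if_pos hv]
    refine ⟨(gr _).zsmul_mem (h _).1 _, fun hA => ?_⟩
    rw [(h _).2 (by rw [Finset.card_erase_of_mem hv]; have := Finset.card_pos.2 ⟨v, hv⟩; omega),
      smul_zero]
  · rw [if_neg hv]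
    exact ⟨(gr _).zero_mem, fun _ => rfl⟩

theorem smul (r : R) {e : ℤ} (hr : ∀ m, m ∈ gr (j - a) → r • m ∈ gr (e - a))
    {w : Finset (Fin n) → M} (h : IsCh gr a j w) : IsCh gr a e (r • w) := fun A =>
  ⟨hr _ (h A).1, fun hA => by rw [Pi.smul_apply, (h A).2 hA, smul_zero]⟩

theorem comp {M' : Type*} [AddCommGroup M'] {gr' : ℤ → AddSubgroup M'} (φ : M →+ M')
    (hφ : ∀ e m, m ∈ gr e → φ m ∈ gr' e) {w : Finset (Fin n) → M} (h : IsCh gr a j w) :
    IsCh gr' a j (fun A => φ (w A)) := fun A =>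
  ⟨hφ _ _ (h A).1, fun hA => by show φ (w A) = 0; rw [(h A).2 hA, map_zero]⟩

end IsCh

theorem dK_mem (N : Submodule R M) (x : Fin n → R) (w : Finset (Fin n) → M)
    (h : ∀ A, w A ∈ N) (A : Finset (Fin n)) : dK x w A ∈ N := by
  rw [dK_apply]
  refine N.sum_mem (fun u _ => N.smul_mem _ ?_)
  by_cases hu : u ∈ A
  · rw [if_pos hu]; exact N.zero_mem
  · rw [if_neg hu]; exact N.toAddSubgroup.zsmul_mem (h _) _

theorem eK_mem (N : AddSubgroup M) (v : Fin n) (w : Finset (Fin n) → M)
    (h : ∀ A, w A ∈ N) (A : Finset (Fin n)) : eK v w A ∈ N := by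
  rw [eK_apply]
  by_cases hv : v ∈ A
  · rw [if_pos hv]; exact N.zsmul_mem (h _) _
  · rw [if_neg hv]; exact N.zero_mem

theorem dK_comp {M' : Type*} [AddCommGroup M'] [Module R M'] (φ : M →ₗ[R] M') (x : Fin n → R)
    (w : Finset (Fin n) → M) :
    dK x (fun A => φ (w A)) = fun A => φ (dK x w A) := by
  funext A
  rw [dK_apply, dK_apply, map_sum]
  refine Finset.sum_congr rfl (fun u _ => ?_)
  rw [map_smul]
  by_cases hu : u ∈ A
  · rw [if_pos hu, if_pos hu, map_zero]
  · rw [if_neg hu, if_neg hu, map_zsmul]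

/-- given cycles `y v` of bidegree `(a, j - 1)`, the chain `∑ e_v (y v)` bounds `∑ x_v • y v` -/
theorem exists_bound (x : Fin n → R) (gr : ℤ → AddSubgroup M) (N : Submodule R M) (a : ℕ) (j : ℤ)
    (y : Fin n → Finset (Fin n) → M) (hy : ∀ v, IsCh gr a (j - 1) (y v))
    (hN : ∀ v A, y v A ∈ N) (hd : ∀ v, dK x (y v) = 0) :
    ∃ u : Finset (Fin n) → M, IsCh gr (a + 1) j u ∧ (∀ A, u A ∈ N) ∧
      dK x u = ∑ v, x v • y v := by
  refine ⟨∑ v, eK v (y v), ?_, ?_, ?_⟩
  · exact IsCh.sum _ _ (fun v _ => (hy v).eK v (by ring))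
  · intro A
    rw [Finset.sum_apply]
    exact N.sum_mem (fun v _ => eK_mem N.toAddSubgroup v (y v) (hN v) A)
  · rw [dK_sum]
    refine Finset.sum_congr rfl (fun v _ => ?_)
    have := dK_eK x v (y v)
    rw [hd v, eK_zero, add_zero] at this
    exact this

/-- the chain supported at `∅` with value `m` -/
def single0 (m : M) : Finset (Fin n) → M := fun A => if A = ∅ then m else 0

theorem dK_single0 (x : Fin n → R) (m : M) : dK x (single0 (n := n) m) = 0 := by
  funext A
  rw [dK_apply]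
  refine Finset.sum_eq_zero (fun u _ => ?_)
  by_cases hu : u ∈ A
  · rw [if_pos hu, smul_zero]
  · rw [if_neg hu, single0, if_neg (Finset.insert_ne_empty u A), smul_zero, smul_zero]

theorem isCh_single0 {gr : ℤ → AddSubgroup M} {j : ℤ} {m : M} (hm : m ∈ gr j) :
    IsCh gr 0 j (single0 (n := n) m) := by
  intro A
  unfold single0
  by_cases hA : A = ∅
  · rw [if_pos hA]
    refine ⟨by simpa using hm, fun h => ?_⟩
    rw [hA] at h; simp at h
  · rw [if_neg hA]
    exact ⟨(gr _).zero_mem, fun _ => rfl⟩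

theorem eq_single0 {gr : ℤ → AddSubgroup M} {j : ℤ} {w : Finset (Fin n) → M}
    (h : IsCh gr 0 j w) : w = single0 (w ∅) := by
  funext A
  unfold single0
  by_cases hA : A = ∅
  · rw [if_pos hA, hA]
  · rw [if_neg hA]
    exact (h A).2 (fun h' => hA (Finset.card_eq_zero.1 h'))

theorem dK_apply_empty (x : Fin n → R) (w : Finset (Fin n) → M) :
    dK x w ∅ = ∑ v, x v • w {v} := by
  rw [dK_apply]
  refine Finset.sum_congr rfl (fun v _ => ?_)
  rw [if_neg (Finset.notMem_empty v), sg_empty, one_smul]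
  rfl

/-- acyclicity of the Koszul complex with coefficients in `N ≤ M` at bidegree `(a, j)` -/
def Acyc (x : Fin n → R) (gr : ℤ → AddSubgroup M) (N : Submodule R M) (a : ℕ) (j : ℤ) : Prop :=
  ∀ y : Finset (Fin n) → M, IsCh gr a j y → (∀ A, y A ∈ N) → dK x y = 0 →
    ∃ u : Finset (Fin n) → M, IsCh gr (a + 1) j u ∧ (∀ A, u A ∈ N) ∧ dK x u = y

/-- dimension shifting along a surjection onto its range -/
theorem shift {P Q : Type*} [AddCommGroup P] [Module R P] [AddCommGroup Q] [Module R Q]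
    (x : Fin n → R) (φ : P →ₗ[R] Q) (grP : ℤ → AddSubgroup P) (grQ : ℤ → AddSubgroup Q)
    (hφ : ∀ e p, p ∈ grP e → φ p ∈ grQ e)
    (hxP : ∀ v e m, m ∈ grP e → x v • m ∈ grP (e + 1))
    (lift : ∀ e q, q ∈ grQ e → q ∈ LinearMap.range φ → ∃ p ∈ grP e, φ p = q)
    (a : ℕ) (j : ℤ)
    (hP : ∀ z : Finset (Fin n) → P, IsCh grP a j z → (∀ A, z A ∈ LinearMap.ker φ) →
      dK x z = 0 → ∃ w, IsCh grP (a + 1) j w ∧ dK x w = z)
    (hQ : Acyc x grQ (LinearMap.range φ) (a + 1) j) :
    Acyc x grP (LinearMap.ker φ) a j := by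
  intro z hz hzk hdz
  obtain ⟨w, hw, hdw⟩ := hP z hz hzk hdz
  have hφw : IsCh grQ (a + 1) j (fun A => φ (w A)) :=
    hw.comp φ.toAddMonoidHom (fun e m hm => hφ e m hm)
  have hdφw : dK x (fun A => φ (w A)) = 0 := by
    rw [dK_comp, hdw]
    funext A
    exact LinearMap.mem_ker.1 (hzk A)
  obtain ⟨ub, hub, hubr, hdub⟩ := hQ _ hφw (fun A => LinearMap.mem_range_self φ (w A)) hdφw
  have hl : ∀ A, ∃ p ∈ grP (j - ((a + 1 + 1 : ℕ) : ℤ)), φ p = ub A :=
    fun A => lift _ _ (hub A).1 (hubr A)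
  choose p hp hpφ using hl
  let u : Finset (Fin n) → P := fun A => if A.card = a + 1 + 1 then p A else 0
  have hu : IsCh grP (a + 1 + 1) j u := by
    intro A
    by_cases hA : A.card = a + 1 + 1
    · have e : u A = p A := if_pos hA
      rw [e]
      exact ⟨hp A, fun h => absurd hA h⟩
    · have e : u A = 0 := if_neg hA
      rw [e]
      exact ⟨(grP _).zero_mem, fun _ => rfl⟩
  have hφu : (fun A => φ (u A)) = ub := by
    funext A
    by_cases hA : A.card = a + 1 + 1
    · have e : u A = p A := if_pos hA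
      show φ (u A) = ub A
      rw [e]; exact hpφ A
    · have e : u A = 0 := if_neg hA
      show φ (u A) = ub A
      rw [e, map_zero]; exact ((hub A).2 hA).symm
  refine ⟨w - dK x u, hw.sub (hu.dK x hxP), fun A => ?_, ?_⟩
  · rw [LinearMap.mem_ker, Pi.sub_apply, map_sub]
    have h1 : φ (dK x u A) = dK x (fun A => φ (u A)) A := by rw [dK_comp]
    rw [h1, hφu, hdub, sub_self]
  · rw [dK_sub, dK_dK, sub_zero, hdw]

end Groth.Agent.Helper20.KZ
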