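import Groth.Agent.Lib.Helper20.KZ2

/-!
# Koszul acyclicity from a family of "division" operators

If `M` carries additive operators `D v` with `D v (x v • m) = m` and `D v (x u • m) = x u • D v m`
for `u ≠ v` (as for division by a variable on polynomials), lowering degrees by one, then the
Koszul complex `K(x; M)` is acyclic in positive homological degree, bidegree by bidegree.
-/

set_option autoImplicit false

namespace Groth.Agent.Helper20.KZ

open Finset

variable {n : ℕ} {R : Type*} [CommRing R] {M : Type*} [AddCommGroup M] [Module R M]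

/-- pointwise application of an additive operator -/
def DOp (D : M →+ M) : Module.End ℤ (Finset (Fin n) → M) where
  toFun w := fun A => D (w A)
  map_add' w w' := by funext A; exact map_add D _ _
  map_smul' c w := by funext A; exact map_zsmul D c _

theorem DOp_apply (D : M →+ M) (w : Finset (Fin n) → M) (A : Finset (Fin n)) :
    DOp (n := n) D w A = D (w A) := rfl

theorem DOp_iOp (D : M →+ M) (u : Fin n) :
    (DOp D * iOp u : Module.End ℤ (Finset (Fin n) → M)) = iOp u * DOp D := by
  refine LinearMap.ext (fun w => funext (fun A => ?_))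
  simp only [Module.End.mul_apply, DOp_apply, iOp_apply]
  by_cases h : u ∈ A
  · rw [if_pos h, if_pos h, map_zero]
  · rw [if_neg h, if_neg h, map_zsmul]

theorem DOp_eOp (D : M →+ M) (u : Fin n) :
    (DOp D * eOp u : Module.End ℤ (Finset (Fin n) → M)) = eOp u * DOp D := by
  refine LinearMap.ext (fun w => funext (fun A => ?_))
  simp only [Module.End.mul_apply, DOp_apply, eOp_apply]
  by_cases h : u ∈ A
  · rw [if_pos h, if_pos h, map_zsmul]
  · rw [if_neg h, if_neg h, map_zero]

theorem DOp_xOp_comm (D : M →+ M) (r : R) (h : ∀ m, D (r • m) = r • D m) :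
    (DOp D * xOp r : Module.End ℤ (Finset (Fin n) → M)) = xOp r * DOp D := by
  refine LinearMap.ext (fun w => funext (fun A => ?_))
  simp only [Module.End.mul_apply, DOp_apply, xOp_apply]
  exact h _

theorem DOp_xOp_cancel (D : M →+ M) (r : R) (h : ∀ m, D (r • m) = m) :
    (DOp D * xOp r : Module.End ℤ (Finset (Fin n) → M)) = 1 := by
  refine LinearMap.ext (fun w => funext (fun A => ?_))
  simp only [Module.End.mul_apply, DOp_apply, xOp_apply, Module.End.one_apply]
  exact h _

local notation "iM" => (iOp (n := n) (M := M))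
local notation "eM" => (eOp (n := n) (M := M))
local notation "xM" => (xOp (n := n) (M := M))
local notation "dM" => (dOp (n := n) (M := M))
local notation "DM" => (DOp (n := n) (M := M))

theorem homotopy_D (x : Fin n → R) (v : Fin n) (D : M →+ M) (h1 : ∀ m, D (x v • m) = m)
    (h2 : ∀ u m, u ≠ v → D (x u • m) = x u • D m) :
    dM x * (DM D * eM v) + (DM D * eM v) * dM x =
      1 - (1 - xM (x v) * DM D) * (iM v * eM v) := by
  unfold dOp
  rw [Finset.sum_mul, Finset.mul_sum, ← Finset.sum_add_distrib]
  rw [Finset.sum_eq_single v]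
  · -- the `u = v` term
    have e1 : xM (x v) * iM v * (DM D * eM v) = xM (x v) * DM D * (iM v * eM v) := by
      rw [mul_assoc, ← mul_assoc (iM v), ← DOp_iOp, mul_assoc, mul_assoc]
    have e2 : DM D * eM v * (xM (x v) * iM v) = eM v * iM v := by
      rw [mul_assoc, ← mul_assoc (eM v), ← xOp_eOp_comm, mul_assoc, ← mul_assoc,
        DOp_xOp_cancel D (x v) h1, one_mul]
    have e3 : eM v * iM v = 1 - iM v * eM v := by
      rw [← iOp_eOp_self (M := M) v]; abel
    rw [e1, e2, e3]
    noncomm_ring
  · intro u _ huv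
    have c := DOp_xOp_comm (n := n) D (x u) (fun m => h2 u m huv)
    have e1 : xM (x u) * iM u * (DM D * eM v) = DM D * xM (x u) * (iM u * eM v) := by
      rw [c, mul_assoc, ← mul_assoc (iM u), ← DOp_iOp, mul_assoc, mul_assoc]
    have e2 : DM D * eM v * (xM (x u) * iM u) = DM D * xM (x u) * (eM v * iM u) := by
      rw [mul_assoc, ← mul_assoc (eM v), ← xOp_eOp_comm, mul_assoc, mul_assoc]
    rw [e1, e2, ← mul_add, iOp_eOp_anticomm huv, mul_zero]
  · intro h; exact absurd (Finset.mem_univ v) h

/-- the homotopy operator, function level -/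
def hK (D : M →+ M) (v : Fin n) (w : Finset (Fin n) → M) : Finset (Fin n) → M :=
  fun B => D (eK v w B)

/-- the retraction killing the variable `v`, function level -/
def pK (x : Fin n → R) (D : M →+ M) (v : Fin n) (w : Finset (Fin n) → M) : Finset (Fin n) → M :=
  fun A => if v ∈ A then 0 else w A - x v • D (w A)

theorem iOp_eOp_apply (v : Fin n) (w : Finset (Fin n) → M) (A : Finset (Fin n)) :
    (iM v * eM v) w A = if v ∈ A then 0 else w A := by
  rw [Module.End.mul_apply, iOp_apply]
  by_cases h : v ∈ A
  · rw [if_pos h, if_pos h]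
  · rw [if_neg h, if_neg h, eOp_apply, if_pos (Finset.mem_insert_self v A),
      Finset.erase_insert h, sg_insert_of_not_lt (lt_irrefl v), smul_smul, sg_mul_self, one_smul]

theorem homotopy_K (x : Fin n → R) (v : Fin n) (D : M →+ M) (h1 : ∀ m, D (x v • m) = m)
    (h2 : ∀ u m, u ≠ v → D (x u • m) = x u • D m) (w : Finset (Fin n) → M) :
    dK x (hK D v w) + hK D v (dK x w) = w - pK x D v w := by
  have this : dM x ((DM D * eM v) w) + (DM D * eM v) (dM x w) =
      (1 - (1 - xM (x v) * DM D) * (iM v * eM v)) w :=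
    LinearMap.congr_fun (homotopy_D x v D h1 h2) w
  have e1 : dK x (hK D v w) = dM x ((DM D * eM v) w) := rfl
  have e2 : hK D v (dK x w) = (DM D * eM v) (dM x w) := rfl
  rw [e1, e2, this]
  funext A
  show w A - ((iM v * eM v) w A - x v • D ((iM v * eM v) w A)) = w A - pK x D v w A
  rw [iOp_eOp_apply]
  unfold pK
  by_cases h : v ∈ A
  · simp only [if_pos h, map_zero, smul_zero, sub_self]
  · simp only [if_neg h]

theorem hK_zero (D : M →+ M) (v : Fin n) : hK D v (0 : Finset (Fin n) → M) = 0 := by
  funext B
  unfold hK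
  rw [eK_zero, Pi.zero_apply, map_zero]

/-- Koszul acyclicity in positive homological degree from division operators -/
theorem exists_bound_of_contraction (x : Fin n → R) (gr : ℤ → AddSubgroup M)
    (hx : ∀ v e m, m ∈ gr e → x v • m ∈ gr (e + 1))
    (D : Fin n → M →+ M) (c1 : ∀ v m, D v (x v • m) = m)
    (c2 : ∀ u v m, u ≠ v → D v (x u • m) = x u • D v m)
    (c3 : ∀ v e m, m ∈ gr e → D v m ∈ gr (e - 1))
    (a : ℕ) (ha : 1 ≤ a) (j : ℤ) (z : Finset (Fin n) → M) (hz : IsCh gr a j z)
    (hdz : dK x z = 0) :
    ∃ w, IsCh gr (a + 1) j w ∧ dK x w = z := by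
  classical
  have key : ∀ U : Finset (Fin n), ∃ w z', IsCh gr (a + 1) j w ∧ IsCh gr a j z' ∧
      dK x z' = 0 ∧ z = z' + dK x w ∧ ∀ A, (∃ v ∈ U, v ∈ A) → z' A = 0 := by
    intro U
    induction U using Finset.induction_on with
    | empty =>
      exact ⟨0, z, IsCh.zero, hz, hdz, by rw [dK_zero, add_zero], by simp⟩
    | insert v U hv ih =>
      obtain ⟨w, z', hw, hz', hdz', hzz', hvan⟩ := ih
      have hom := homotopy_K x v (D v) (c1 v) (fun u m huv => c2 u v m huv) z'
      rw [hdz', hK_zero, add_zero] at hom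
      have hpK : pK x (D v) v z' = z' - dK x (hK (D v) v z') := by rw [hom]; abel
      have heK : IsCh gr (a + 1) (j + 1) (eK v z') := hz'.eK v rfl
      have hhK : IsCh gr (a + 1) j (hK (D v) v z') := by
        intro B
        have e1 : j + 1 - ((a + 1 : ℕ) : ℤ) - 1 = j - ((a + 1 : ℕ) : ℤ) := by ring
        refine ⟨?_, fun hB => ?_⟩
        · rw [← e1]
          exact c3 v _ _ (heK B).1
        · show D v (eK v z' B) = 0
          rw [(heK B).2 hB, map_zero]
      have hpKch : IsCh gr a j (pK x (D v) v z') := by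
        intro A
        unfold pK
        by_cases hvA : v ∈ A
        · rw [if_pos hvA]
          exact ⟨(gr _).zero_mem, fun _ => rfl⟩
        · rw [if_neg hvA]
          refine ⟨(gr _).sub_mem (hz' A).1 ?_, fun hA => ?_⟩
          · have e1 : j - (a : ℤ) - 1 + 1 = j - (a : ℤ) := by ring
            rw [← e1]
            exact hx v _ _ (c3 v _ _ (hz' A).1)
          · rw [(hz' A).2 hA, map_zero, smul_zero, sub_zero]
      refine ⟨w + hK (D v) v z', pK x (D v) v z', hw.add hhK, hpKch, ?_, ?_, ?_⟩
      · rw [hpK, dK_sub, hdz', dK_dK, sub_zero]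
      · rw [hzz', dK_add, hpK]; abel
      · rintro A ⟨u, hu, huA⟩
        unfold pK
        by_cases hvA : v ∈ A
        · rw [if_pos hvA]
        · rw [if_neg hvA]
          have hu' : u ∈ U := by
            rcases Finset.mem_insert.1 hu with h | h
            · exact absurd (h ▸ huA) hvA
            · exact h
          rw [hvan A ⟨u, hu', huA⟩, map_zero, smul_zero, sub_zero]
  obtain ⟨w, z', hw, hz', _, hzz', hvan⟩ := key Finset.univ
  refine ⟨w, hw, ?_⟩
  have hz0 : z' = 0 := by
    funext A
    by_cases hA : A = ∅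
    · exact (hz' A).2 (by rw [hA, Finset.card_empty]; omega)
    · obtain ⟨v, hv⟩ := Finset.nonempty_iff_ne_empty.2 hA
      exact hvan A ⟨v, Finset.mem_univ v, hv⟩
  rw [hzz', hz0, zero_add]

end Groth.Agent.Helper20.KZ
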