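import Groth.Agent.Lib.Helper20.KZ3
import Groth.Agent.Lib.Helper23.GrSyzCmp

/-!
# Koszul acyclicity for graded free modules over a polynomial ring
-/

set_option autoImplicit false

namespace Groth.Agent.Helper20.KZ

open MvPolynomial GrSyz DirectSum
open Groth.Agent.Helper23.GrSyzHilb Groth.Agent.Helper23.GrSyzLib

universe u

variable {k : Type u} [Field k] {n : ℕ}

theorem X_mem_stdGr (v : Fin n) : (X v : MvPolynomial (Fin n) k) ∈ stdGr k (Fin n) 1 := by
  rw [mem_stdGr_iff]
  exact isWeightedHomogeneous_X k _ v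

theorem X_mul_mem (v : Fin n) {e : ℤ} {p : MvPolynomial (Fin n) k}
    (hp : p ∈ stdGr k (Fin n) e) : X v * p ∈ stdGr k (Fin n) (e + 1) := by
  have := SetLike.mul_mem_graded (X_mem_stdGr (k := k) v) hp
  rwa [add_comm] at this

theorem divX_mem (v : Fin n) {e : ℤ} {p : MvPolynomial (Fin n) k}
    (hp : p ∈ stdGr k (Fin n) e) :
    divMonomial p (Finsupp.single v 1) ∈ stdGr k (Fin n) (e - 1) := by
  rw [mem_stdGr_iff] at hp ⊢
  intro d hd
  rw [coeff_divMonomial] at hd
  have h := hp hd
  rw [map_add] at h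
  have h1 : Finsupp.weight (fun _ : Fin n => (1 : ℤ)) (Finsupp.single v 1) = 1 := by
    rw [Finsupp.weight_apply, Finsupp.sum_single_index (by simp)]
    simp
  rw [h1] at h
  omega

theorem divX_X_mul_of_ne {u v : Fin n} (huv : u ≠ v) (p : MvPolynomial (Fin n) k) :
    divMonomial (X u * p) (Finsupp.single v 1) = X u * (divMonomial p (Finsupp.single v 1)) := by
  ext s
  rw [coeff_divMonomial, coeff_X_mul', coeff_X_mul']
  have hsupp : u ∈ (Finsupp.single v 1 + s).support ↔ u ∈ s.support := by
    rw [Finsupp.mem_support_iff, Finsupp.mem_support_iff, Finsupp.add_apply,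
      Finsupp.single_eq_of_ne huv, zero_add]
  by_cases hu : u ∈ s.support
  · rw [if_pos hu, if_pos (hsupp.2 hu), coeff_divMonomial]
    congr 1
    have hle : Finsupp.single u 1 ≤ s := by
      rw [Finsupp.single_le_iff]
      have := Finsupp.mem_support_iff.1 hu
      omega
    exact add_tsub_assoc_of_le hle _
  · rw [if_neg hu, if_neg (fun h => hu (hsupp.1 h))]

/-- a homogeneous polynomial without constant term is `∑ X_v q_v` with `q_v` homogeneous -/
theorem exists_X_decomp (e : ℤ) (p : MvPolynomial (Fin n) k) (hp : p ∈ stdGr k (Fin n) e)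
    (h0 : constantCoeff p = 0) :
    ∃ q : Fin n → MvPolynomial (Fin n) k, (∀ v, q v ∈ stdGr k (Fin n) (e - 1)) ∧
      p = ∑ v, X v * q v := by
  have hmem : p ∈ Ideal.span (Set.range (X : Fin n → MvPolynomial (Fin n) k)) := by
    rw [← Set.image_univ, mem_ideal_span_X_image]
    intro d hd
    by_contra hcon
    push Not at hcon
    have hd0 : d = 0 := Finsupp.ext (fun i => hcon i (Set.mem_univ i))
    rw [hd0, mem_support_iff] at hd
    exact hd h0
  obtain ⟨c, hc⟩ := (Ideal.mem_span_range_iff_exists_fun).1 hmem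
  refine ⟨fun v => GradedRing.proj (stdGr k (Fin n)) (e - 1) (c v), fun v => ?_, ?_⟩
  · simp only [GradedRing.proj_apply]
    exact Subtype.property _
  · have h1 : p = ((decompose (stdGr k (Fin n)) p e : stdGr k (Fin n) e) : MvPolynomial (Fin n) k) :=
      (decompose_of_mem_same _ hp).symm
    rw [h1, ← hc, decompose_sum, DFinsupp.finsetSum_apply, AddSubmonoidClass.coe_finsetSum]
    refine Finset.sum_congr rfl (fun v _ => ?_)
    have h2 := coe_decompose_mul_add_of_right_mem (stdGr k (Fin n)) (i := e - 1) (j := 1)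
      (a := c v) (X_mem_stdGr (k := k) v)
    have hidx : e - 1 + 1 = e := by ring
    rw [hidx] at h2
    rw [h2, mul_comm]
    rfl

section Free

variable {m : ℕ} (δ : Fin m → ℤ)

/-- the degree-`e` piece of the graded free module with basis degrees `δ`, as an additive subgroup -/
noncomputable def grV (e : ℤ) : AddSubgroup (Fin m → MvPolynomial (Fin n) k) :=
  (pieceV δ e).toAddSubgroup

theorem mem_grV (e : ℤ) (f : Fin m → MvPolynomial (Fin n) k) :
    f ∈ grV δ e ↔ ∀ b, f b ∈ stdGr k (Fin n) (e - δ b) := by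
  unfold grV
  rw [Submodule.mem_toAddSubgroup, mem_pieceV]

/-- division by the variable `X v`, componentwise -/
noncomputable def DV (v : Fin n) :
    (Fin m → MvPolynomial (Fin n) k) →+ (Fin m → MvPolynomial (Fin n) k) where
  toFun f := fun b => divMonomial (f b) (Finsupp.single v 1)
  map_zero' := by funext b; exact zero_divMonomial _
  map_add' f g := by funext b; exact add_divMonomial _ _ _

theorem grV_X_smul (v : Fin n) (e : ℤ) (f : Fin m → MvPolynomial (Fin n) k)
    (hf : f ∈ grV δ e) : (X v : MvPolynomial (Fin n) k) • f ∈ grV δ (e + 1) := by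
  rw [mem_grV] at hf ⊢
  intro b
  have := X_mul_mem v (hf b)
  have hidx : e - δ b + 1 = e + 1 - δ b := by ring
  rw [hidx] at this
  exact this

/-- Koszul acyclicity of a graded free module in positive homological degree -/
theorem free_bound_pos (a : ℕ) (ha : 1 ≤ a) (j : ℤ)
    (z : Finset (Fin n) → (Fin m → MvPolynomial (Fin n) k))
    (hz : IsCh (grV δ) a j z)
    (hdz : dK (fun v => (X v : MvPolynomial (Fin n) k)) z = 0) :
    ∃ w, IsCh (grV δ) (a + 1) j w ∧ dK (fun v => (X v : MvPolynomial (Fin n) k)) w = z := by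
  refine exists_bound_of_contraction (fun v => (X v : MvPolynomial (Fin n) k)) (grV δ)
    (grV_X_smul δ) (DV (m := m)) ?_ ?_ ?_ a ha j z hz hdz
  · intro v f
    funext b
    show divMonomial (X v * f b) (Finsupp.single v 1) = f b
    exact X_mul_divMonomial v (f b)
  · intro u v f huv
    funext b
    show divMonomial (X u * f b) (Finsupp.single v 1) = X u * (divMonomial (f b) (Finsupp.single v 1))
    exact divX_X_mul_of_ne huv (f b)
  · intro v e f hf
    rw [mem_grV] at hf ⊢
    intro b
    have := divX_mem v (hf b)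
    have hidx : e - δ b - 1 = e - 1 - δ b := by ring
    rw [hidx] at this
    exact this

/-- a homogeneous element of the free module all of whose components have no constant term is
a Koszul boundary -/
theorem free_bound_zero (j : ℤ) (z : Finset (Fin n) → (Fin m → MvPolynomial (Fin n) k))
    (hz : IsCh (grV δ) 0 j z) (h0 : ∀ b, constantCoeff (z ∅ b) = 0) :
    ∃ w, IsCh (grV δ) (0 + 1) j w ∧ dK (fun v => (X v : MvPolynomial (Fin n) k)) w = z := by
  have hz0 := (hz ∅).1
  rw [mem_grV] at hz0
  have hex : ∀ b, ∃ q : Fin n → MvPolynomial (Fin n) k,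
      (∀ v, q v ∈ stdGr k (Fin n) (j - ((0 : ℕ) : ℤ) - δ b - 1)) ∧ z ∅ b = ∑ v, X v * q v :=
    fun b => exists_X_decomp _ _ (hz0 b) (h0 b)
  choose q hq hsum using hex
  obtain ⟨u, hu, _, hdu⟩ := exists_bound (fun v => (X v : MvPolynomial (Fin n) k)) (grV δ) ⊤ 0 j
    (fun v => single0 (fun b => q b v)) (fun v => isCh_single0 (by
      rw [mem_grV]; intro b
      have hidx : j - ((0 : ℕ) : ℤ) - δ b - 1 = j - 1 - δ b := by push_cast; ring
      rw [← hidx]; exact hq b v))
    (fun _ _ => Submodule.mem_top) (fun v => dK_single0 _ _)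
  refine ⟨u, hu, ?_⟩
  rw [hdu, eq_single0 hz]
  funext A
  rw [Finset.sum_apply]
  unfold single0
  by_cases hA : A = ∅
  · simp only [Pi.smul_apply, if_pos hA]
    funext b
    rw [hsum b, Finset.sum_apply]
    rfl
  · simp only [Pi.smul_apply, if_neg hA, smul_zero, Finset.sum_const_zero]

end Free

end Groth.Agent.Helper20.KZ
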