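import Groth.Agent.Lib.Helper20.KZ4

/-!
# Dimension shifting along a minimal graded free resolution

If the Koszul complex of the resolved module is acyclic at bidegree `(p, j)`, then a minimal
graded free resolution has no basis vector of degree `j` in homological degree `p`.
-/

set_option autoImplicit false

namespace Groth.Agent.Helper20.KZ

open MvPolynomial GrSyz DirectSum
open Groth.Agent.Helper23.GrSyzHilb Groth.Agent.Helper23.GrSyzLib Groth.Agent.Helper23.GrSyzCmp

universe u

variable {k : Type u} [Field k] {n : ℕ}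
  {R : Type u} [AddCommGroup R] [Module k R] [Module (MvPolynomial (Fin n) k) R]
  {ℛ : ℤ → Submodule k R} [DirectSum.Decomposition ℛ] [SetLike.GradedSMul (stdGr k (Fin n)) ℛ]
  (F : FreeRes (stdGr k (Fin n)) ℛ)

/-- the variables -/
noncomputable def xs (k : Type u) [Field k] (n : ℕ) : Fin n → MvPolynomial (Fin n) k := fun v => X v

/-- the grading of the module as additive subgroups -/
def grM (ℛ : ℤ → Submodule k R) (e : ℤ) : AddSubgroup R := (ℛ e).toAddSubgroup

theorem const_zero_of_mem_range_succ (hF : F.IsMinimal (irrel (stdGr k (Fin n))).toIdeal) (i : ℕ)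
    (f : Fin (F.rk i) → MvPolynomial (Fin n) k) (hf : f ∈ LinearMap.range (F.dLin i))
    (b : Fin (F.rk i)) : constantCoeff (f b) = 0 := by
  obtain ⟨g, rfl⟩ := hf
  apply constantCoeff_eq_zero_of_mem_irrel
  rw [Matrix.mulVecLin_apply]
  exact mulVec_apply_mem_irrel (F.d i) (hF i) g b

theorem free_hP (hF : F.IsMinimal (irrel (stdGr k (Fin n))).toIdeal) (i a : ℕ) (j : ℤ)
    (z : Finset (Fin n) → (Fin (F.rk i) → MvPolynomial (Fin n) k))
    (hz : IsCh (grV (F.deg i)) a j z) (hzr : ∀ A, z A ∈ LinearMap.range (F.dLin i))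
    (hdz : dK (xs k n) z = 0) :
    ∃ w, IsCh (grV (F.deg i)) (a + 1) j w ∧ dK (xs k n) w = z := by
  rcases Nat.eq_zero_or_pos a with ha | ha
  · subst ha
    exact free_bound_zero (F.deg i) j z hz
      (fun b => const_zero_of_mem_range_succ F hF i (z ∅) (hzr ∅) b)
  · exact free_bound_pos (F.deg i) a ha j z hz hdz

theorem step_zero (hF : F.IsMinimal (irrel (stdGr k (Fin n))).toIdeal) (a : ℕ) (j : ℤ)
    (hQ : Acyc (xs k n) (grM ℛ) ⊤ (a + 1) j) :
    Acyc (xs k n) (grV (F.deg 0)) (LinearMap.range (F.dLin 0)) a j := by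
  have hker : LinearMap.ker F.augLin = LinearMap.range (F.dLin 0) := F.exact_zero
  rw [← hker]
  refine shift (xs k n) F.augLin (grV (F.deg 0)) (grM ℛ) ?_ (grV_X_smul (F.deg 0)) ?_ a j ?_ ?_
  · intro e f hf
    show F.augLin f ∈ ℛ e
    rw [Fintype.linearCombination_apply]
    exact comb_mem ℛ (F.deg 0) F.aug F.aug_mem e f hf
  · intro e q hq _
    obtain ⟨u, hu, hu'⟩ := exists_aug_lift F e q hq
    exact ⟨u, hu, hu'⟩
  · intro z hz hzk hdz
    exact free_hP F hF 0 a j z hz (fun A => by rw [← hker]; exact hzk A) hdz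
  · rw [LinearMap.range_eq_top.2 F.aug_surjective]
    exact hQ

theorem step_succ (hF : F.IsMinimal (irrel (stdGr k (Fin n))).toIdeal) (i a : ℕ) (j : ℤ)
    (hQ : Acyc (xs k n) (grV (F.deg i)) (LinearMap.range (F.dLin i)) (a + 1) j) :
    Acyc (xs k n) (grV (F.deg (i + 1))) (LinearMap.range (F.dLin (i + 1))) a j := by
  have hker : LinearMap.ker (F.dLin i) = LinearMap.range (F.dLin (i + 1)) := F.exact_succ i
  rw [← hker]
  refine shift (xs k n) (F.dLin i) (grV (F.deg (i + 1))) (grV (F.deg i)) ?_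
    (grV_X_smul (F.deg (i + 1))) ?_ a j ?_ hQ
  · intro e f hf
    rw [Matrix.mulVecLin_apply]
    exact mulVec_mem_pieceV (F.deg i) (F.deg (i + 1)) (F.d i) (F.d_mem i) e f hf
  · rintro e q hq ⟨p₀, hp₀⟩
    refine ⟨projV (F.deg (i + 1)) e p₀, projV_mem _ _ _, ?_⟩
    rw [Matrix.mulVecLin_apply, mulVec_projV (F.deg i) (F.deg (i + 1)) (F.d i) (F.d_mem i) e p₀]
    rw [Matrix.mulVecLin_apply] at hp₀
    rw [hp₀]
    exact projV_of_mem _ _ _ hq
  · intro z hz hzk hdz
    exact free_hP F hF (i + 1) a j z hz (fun A => by rw [← hker]; exact hzk A) hdz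

theorem acyc_chain (hF : F.IsMinimal (irrel (stdGr k (Fin n))).toIdeal) (p : ℕ) (j : ℤ)
    (h0 : Acyc (xs k n) (grM ℛ) ⊤ p j) :
    ∀ i a : ℕ, a + i + 1 = p →
      Acyc (xs k n) (grV (F.deg i)) (LinearMap.range (F.dLin i)) a j := by
  intro i
  induction i with
  | zero =>
    intro a ha
    have : p = a + 1 := by omega
    subst this
    exact step_zero F hF a j h0
  | succ i ih =>
    intro a ha
    exact step_succ F hF i a j (ih (a + 1) (by omega))

theorem single_mem_grV {m : ℕ} (δ : Fin m → ℤ) (b : Fin m) :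
    (Pi.single b 1 : Fin m → MvPolynomial (Fin n) k) ∈ grV δ (δ b) := by
  rw [mem_grV]
  intro b'
  by_cases h : b' = b
  · subst h
    rw [Pi.single_eq_same, sub_self]
    exact SetLike.GradedOne.one_mem
  · rw [Pi.single_eq_of_ne h]
    exact Submodule.zero_mem _

theorem not_mem_range (hF : F.IsMinimal (irrel (stdGr k (Fin n))).toIdeal) (p : ℕ)
    (b : Fin (F.rk p)) (g : Fin n → (Fin (F.rk p) → MvPolynomial (Fin n) k)) :
    (Pi.single b 1 - ∑ v, xs k n v • g v : Fin (F.rk p) → MvPolynomial (Fin n) k) ∉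
      LinearMap.range (F.dLin p) := by
  intro h
  have := const_zero_of_mem_range_succ F hF p _ h b
  rw [Pi.sub_apply, Pi.single_eq_same, Finset.sum_apply, map_sub, map_one, map_sum] at this
  have h0 : ∀ v ∈ (Finset.univ : Finset (Fin n)), constantCoeff ((xs k n v • g v) b) = 0 := by
    intro v _
    show constantCoeff (X v * g v b) = 0
    rw [map_mul, constantCoeff_X, zero_mul]
  rw [Finset.sum_eq_zero h0, sub_zero] at this
  exact one_ne_zero this

/-- Koszul acyclicity of the module at `(p, j)` kills the `(p, j)` Betti number -/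
theorem betti_eq_zero_of_acyc (hF : F.IsMinimal (irrel (stdGr k (Fin n))).toIdeal) (p : ℕ) (j : ℤ)
    (h0 : Acyc (xs k n) (grM ℛ) ⊤ p j) : F.betti p j = 0 := by
  unfold FreeRes.betti
  rw [Finset.card_eq_zero, Finset.filter_eq_empty_iff]
  intro b _ hb
  have hsingle : (Pi.single b 1 : Fin (F.rk p) → MvPolynomial (Fin n) k) ∈ grV (F.deg p) j := by
    rw [← hb]; exact single_mem_grV (F.deg p) b
  cases p with
  | zero =>
    -- the class of `aug e_b`
    have hmem : F.augLin (Pi.single b 1) ∈ grM ℛ j := by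
      show F.augLin (Pi.single b 1) ∈ ℛ j
      rw [Fintype.linearCombination_apply]
      exact comb_mem ℛ (F.deg 0) F.aug F.aug_mem j _ hsingle
    obtain ⟨u, _, _, hdu⟩ := h0 (single0 (F.augLin (Pi.single b 1))) (isCh_single0 hmem)
      (fun _ => Submodule.mem_top) (dK_single0 _ _)
    have h1 := congrFun hdu ∅
    rw [dK_apply_empty] at h1
    have hs : ∀ v, ∃ g : Fin (F.rk 0) → MvPolynomial (Fin n) k, F.augLin g = u {v} :=
      fun v => F.aug_surjective (u {v})
    choose g hg using hs
    apply not_mem_range F hF 0 b g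
    rw [← F.exact_zero, LinearMap.mem_ker, map_sub, map_sum]
    simp only [map_smul, hg]
    rw [h1]
    simp [single0]
  | succ p' =>
    have hA := acyc_chain F hF (p' + 1) j h0 p' 0 (by omega)
    have hmem : F.dLin p' (Pi.single b 1) ∈ grV (F.deg p') j := by
      rw [Matrix.mulVecLin_apply]
      exact mulVec_mem_pieceV (F.deg p') (F.deg (p' + 1)) (F.d p') (F.d_mem p') j _ hsingle
    obtain ⟨u, _, hur, hdu⟩ := hA (single0 (F.dLin p' (Pi.single b 1))) (isCh_single0 hmem)
      (fun A => by
        unfold single0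
        by_cases hA' : A = ∅
        · rw [if_pos hA']; exact LinearMap.mem_range_self _ _
        · rw [if_neg hA']; exact Submodule.zero_mem _)
      (dK_single0 _ _)
    have h1 := congrFun hdu ∅
    rw [dK_apply_empty] at h1
    choose g hg using fun v => hur {v}
    apply not_mem_range F hF (p' + 1) b g
    rw [← F.exact_succ p', LinearMap.mem_ker, map_sub, map_sum]
    simp only [map_smul, hg]
    rw [h1]
    simp [single0]

end Groth.Agent.Helper20.KZ
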