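import Groth.Agent.Lib.Helper20.KZ5

/-!
# Iterated linear syzygy modules `T^i(R)` as word functions, and their Koszul acyclicity
-/

set_option autoImplicit false
set_option linter.unusedSectionVars false

namespace Groth.Agent.Helper20.KZ

open MvPolynomial GrSyz DirectSum
open Groth.Agent.Helper23.GrSyzHilb Groth.Agent.Helper23.GrSyzLib Groth.Agent.Helper23.GrSyzCmp

universe u

variable {k : Type u} [Field k] {n : ℕ}
  {R : Type u} [AddCommGroup R] [Module k R] [Module (MvPolynomial (Fin n) k) R]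

/-- the slot conditions cutting out `T^i(R)` inside the word functions -/
def TT (k : Type u) [Field k] (n : ℕ) (R : Type u) [AddCommGroup R]
    [Module (MvPolynomial (Fin n) k) R] (i : ℕ) :
    Submodule (MvPolynomial (Fin n) k) ((Fin i → Fin n) → R) where
  carrier := {m | ∀ (s : Fin i) (c : Fin i → Fin n),
    ∑ v : Fin n, (X v : MvPolynomial (Fin n) k) • m (Function.update c s v) = 0}
  zero_mem' := by
    intro s c
    simp
  add_mem' := by
    intro m m' hm hm' s c
    simp only [Pi.add_apply, smul_add, Finset.sum_add_distrib, hm s c, hm' s c, add_zero]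
  smul_mem' := by
    intro t m hm s c
    have : ∀ v : Fin n, (X v : MvPolynomial (Fin n) k) • (t • m) (Function.update c s v) =
        t • ((X v : MvPolynomial (Fin n) k) • m (Function.update c s v)) := by
      intro v
      rw [Pi.smul_apply, smul_comm]
    simp only [this, ← Finset.smul_sum, hm s c, smul_zero]

theorem mem_TT (i : ℕ) (m : (Fin i → Fin n) → R) :
    m ∈ TT k n R i ↔ ∀ (s : Fin i) (c : Fin i → Fin n),
      ∑ v : Fin n, (X v : MvPolynomial (Fin n) k) • m (Function.update c s v) = 0 := Iff.rfl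

/-- restriction to words starting with the letter `v` -/
def rho (k : Type u) [Field k] (R : Type u) [AddCommGroup R]
    [Module (MvPolynomial (Fin n) k) R] (i : ℕ) (v : Fin n) :
    ((Fin (i + 1) → Fin n) → R) →ₗ[MvPolynomial (Fin n) k] ((Fin i → Fin n) → R) where
  toFun m := fun c' => m (Fin.cons v c')
  map_add' _ _ := rfl
  map_smul' _ _ := rfl

/-- contraction of the first slot against the variables -/
noncomputable def kap (k : Type u) [Field k] (R : Type u) [AddCommGroup R]
    [Module (MvPolynomial (Fin n) k) R] (i : ℕ) :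
    ((Fin (i + 1) → Fin n) → R) →ₗ[MvPolynomial (Fin n) k] ((Fin i → Fin n) → R) :=
  ∑ v : Fin n, (X v : MvPolynomial (Fin n) k) • rho k R i v

theorem rho_apply (i : ℕ) (v : Fin n) (m : (Fin (i + 1) → Fin n) → R) (c' : Fin i → Fin n) :
    rho k R i v m c' = m (Fin.cons v c') := rfl

theorem kap_apply (i : ℕ) (m : (Fin (i + 1) → Fin n) → R) (c' : Fin i → Fin n) :
    kap k R i m c' = ∑ v : Fin n, (X v : MvPolynomial (Fin n) k) • m (Fin.cons v c') := by
  unfold kap
  rw [LinearMap.sum_apply, Finset.sum_apply]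
  rfl

theorem kap_eq_sum (i : ℕ) (m : (Fin (i + 1) → Fin n) → R) :
    kap k R i m = ∑ v : Fin n, (X v : MvPolynomial (Fin n) k) • rho k R i v m := by
  unfold kap
  rw [LinearMap.sum_apply]
  rfl

/-- `T^{i+1}` in terms of `T^i` of the restrictions and the first-slot contraction -/
theorem mem_TT_succ (i : ℕ) (m : (Fin (i + 1) → Fin n) → R) :
    m ∈ TT k n R (i + 1) ↔ (∀ v, rho k R i v m ∈ TT k n R i) ∧ kap k R i m = 0 := by
  constructor
  · intro hm
    refine ⟨fun v s c' => ?_, ?_⟩
    · have := hm s.succ (Fin.cons v c')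
      simp only [rho_apply]
      rw [← this]
      refine Finset.sum_congr rfl (fun u _ => ?_)
      rw [Fin.cons_update]
    · funext c'
      rw [kap_apply, Pi.zero_apply]
      rcases isEmpty_or_nonempty (Fin n) with hE | ⟨⟨w⟩⟩
      · exact Finset.sum_of_isEmpty _
      · have := hm 0 (Fin.cons w c')
        rw [← this]
        refine Finset.sum_congr rfl (fun u _ => ?_)
        rw [Fin.update_cons_zero]
  · rintro ⟨h1, h2⟩ s c
    have hc : c = Fin.cons (c 0) (Fin.tail c) := (Fin.cons_self_tail c).symm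
    induction s using Fin.cases with
    | zero =>
      have := congrFun h2 (Fin.tail c)
      rw [kap_apply, Pi.zero_apply] at this
      rw [← this]
      refine Finset.sum_congr rfl (fun u _ => ?_)
      rw [hc, Fin.update_cons_zero, Fin.tail_cons]
    | succ s' =>
      have := h1 (c 0) s' (Fin.tail c)
      simp only [rho_apply] at this
      rw [← this]
      refine Finset.sum_congr rfl (fun u _ => ?_)
      rw [Fin.cons_update, Fin.cons_self_tail]

variable (ℛ : ℤ → Submodule k R) [DirectSum.Decomposition ℛ]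
  [SetLike.GradedSMul (stdGr k (Fin n)) ℛ]

/-- the grading on word functions: degree `e` means all values in `ℛ (e - i)` -/
def grW (i : ℕ) (e : ℤ) : AddSubgroup ((Fin i → Fin n) → R) where
  carrier := {m | ∀ c, m c ∈ ℛ (e - i)}
  zero_mem' := fun _ => Submodule.zero_mem _
  add_mem' := fun hm hm' c => Submodule.add_mem _ (hm c) (hm' c)
  neg_mem' := fun hm c => Submodule.neg_mem _ (hm c)

theorem mem_grW (i : ℕ) (e : ℤ) (m : (Fin i → Fin n) → R) :
    m ∈ grW (n := n) ℛ i e ↔ ∀ c, m c ∈ ℛ (e - i) := Iff.rfl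

theorem smul_mem_piece {a b c : ℤ} (habc : a + b = c) {t : MvPolynomial (Fin n) k}
    (ht : t ∈ stdGr k (Fin n) a) {x : R} (hx : x ∈ ℛ b) : t • x ∈ ℛ c := by
  have := SetLike.GradedSMul.smul_mem (A := stdGr k (Fin n)) (B := ℛ) ht hx
  rw [← habc]
  exact this

theorem grW_X_smul (i : ℕ) (v : Fin n) (e : ℤ) (m : (Fin i → Fin n) → R)
    (hm : m ∈ grW (n := n) ℛ i e) : (xs k n v) • m ∈ grW (n := n) ℛ i (e + 1) := by
  intro c
  exact smul_mem_piece ℛ (by ring) (X_mem_stdGr (k := k) v) (hm c)

/-- projection of a word function to its degree-`E` part -/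
noncomputable def projW (i : ℕ) (E : ℤ) :
    ((Fin i → Fin n) → R) →+ ((Fin i → Fin n) → R) where
  toFun m := fun c => projM ℛ (E - i) (m c)
  map_zero' := by funext c; exact map_zero _
  map_add' m m' := by funext c; exact map_add _ _ _

theorem projW_of_mem (i : ℕ) (E : ℤ) (m : (Fin i → Fin n) → R)
    (hm : m ∈ grW (n := n) ℛ i E) : projW (n := n) ℛ i E m = m := by
  funext c
  show projM ℛ (E - i) (m c) = m c
  rw [projM_apply]
  exact decompose_of_mem_same ℛ (hm c)

/-- generation in degrees `< E` gives: a degree-`E` element of `T^i` is `∑ X_v g_v` with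
`g_v ∈ T^i` of degree `E - 1` -/
theorem gen_of_span (i : ℕ) (E : ℤ)
    (hgen : ∀ m : (Fin i → Fin n) → R,
      (∀ (s : Fin i) (c : Fin i → Fin n),
        ∑ v : Fin n, (X v : MvPolynomial (Fin n) k) • m (Function.update c s v) = 0) →
      m ∈ Submodule.span (MvPolynomial (Fin n) k) {m' : (Fin i → Fin n) → R |
        (∀ (s : Fin i) (c : Fin i → Fin n),
          ∑ v : Fin n, (X v : MvPolynomial (Fin n) k) • m' (Function.update c s v) = 0) ∧
        ∃ e : ℤ, e ≤ E - 1 ∧ ∀ c : Fin i → Fin n, m' c ∈ ℛ (e - (i : ℤ))})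
    (m : (Fin i → Fin n) → R) (hm : m ∈ TT k n R i) (hmE : m ∈ grW (n := n) ℛ i E) :
    ∃ g : Fin n → ((Fin i → Fin n) → R),
      (∀ v, g v ∈ TT k n R i ∧ g v ∈ grW (n := n) ℛ i (E - 1)) ∧
        m = ∑ v, xs k n v • g v := by
  have key : ∀ m₀ : (Fin i → Fin n) → R,
      m₀ ∈ Submodule.span (MvPolynomial (Fin n) k) {m' : (Fin i → Fin n) → R |
        (∀ (s : Fin i) (c : Fin i → Fin n),
          ∑ v : Fin n, (X v : MvPolynomial (Fin n) k) • m' (Function.update c s v) = 0) ∧
        ∃ e : ℤ, e ≤ E - 1 ∧ ∀ c : Fin i → Fin n, m' c ∈ ℛ (e - (i : ℤ))} →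
      ∀ t : MvPolynomial (Fin n) k, ∃ g : Fin n → ((Fin i → Fin n) → R),
      (∀ v, g v ∈ TT k n R i ∧ g v ∈ grW (n := n) ℛ i (E - 1)) ∧
        projW (n := n) ℛ i E (t • m₀) = ∑ v, xs k n v • g v := by
    intro m₀ hspan
    induction hspan using Submodule.span_induction with
    | mem m' hm' =>
      obtain ⟨hT, e, he, hdeg⟩ := hm'
      intro t
      -- the relevant homogeneous component of `t`
      have ht' : ((decompose (stdGr k (Fin n)) t (E - e) : stdGr k (Fin n) (E - e)) :
          MvPolynomial (Fin n) k) ∈ stdGr k (Fin n) (E - e) := Subtype.property _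
      obtain ⟨q, hq, hsum⟩ := exists_X_decomp (E - e) _ ht'
        (constantCoeff_eq_zero_of_mem_stdGr_pos k (Fin n) (by omega) ht')
      refine ⟨fun v => q v • m', fun v => ⟨(TT k n R i).smul_mem _ hT, fun c => ?_⟩, ?_⟩
      · exact smul_mem_piece ℛ (by ring) (hq v) (hdeg c)
      · funext c
        show projM ℛ (E - i) (t • m' c) = _
        rw [projM_apply, decompose_smul_of_mem ℛ t (hdeg c)]
        have hidx : E - (i : ℤ) - (e - (i : ℤ)) = E - e := by ring
        rw [hidx, hsum, Finset.sum_smul, Finset.sum_apply]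
        refine Finset.sum_congr rfl (fun v _ => ?_)
        show (X v * q v) • m' c = (X v : MvPolynomial (Fin n) k) • (q v • m' c)
        rw [mul_smul]
    | zero =>
      intro t
      refine ⟨fun _ => 0, fun v => ⟨Submodule.zero_mem _, AddSubgroup.zero_mem _⟩, ?_⟩
      simp
    | add m₁ m₂ _ _ ih₁ ih₂ =>
      intro t
      obtain ⟨g₁, hg₁, e₁⟩ := ih₁ t
      obtain ⟨g₂, hg₂, e₂⟩ := ih₂ t
      refine ⟨fun v => g₁ v + g₂ v, fun v => ⟨Submodule.add_mem _ (hg₁ v).1 (hg₂ v).1,
        AddSubgroup.add_mem _ (hg₁ v).2 (hg₂ v).2⟩, ?_⟩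
      rw [smul_add, map_add, e₁, e₂, ← Finset.sum_add_distrib]
      refine Finset.sum_congr rfl (fun v _ => ?_)
      rw [smul_add]
    | smul s m₁ _ ih =>
      intro t
      obtain ⟨g, hg, e⟩ := ih (t * s)
      exact ⟨g, hg, by rw [← mul_smul]; exact e⟩
  obtain ⟨g, hg, e⟩ := key m (hgen m hm) 1
  rw [one_smul, projW_of_mem ℛ i E m hmE] at e
  exact ⟨g, hg, e⟩

end Groth.Agent.Helper20.KZ
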