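import Groth.Agent.Lib.Helper20.KZ6

/-!
# Koszul acyclicity of `T^i(R)` from generation bounds, and the Betti vanishing theorem
-/

set_option autoImplicit false
set_option linter.unusedSectionVars false

namespace Groth.Agent.Helper20.KZ

open MvPolynomial GrSyz DirectSum
open Groth.Agent.Helper23.GrSyzHilb Groth.Agent.Helper23.GrSyzLib Groth.Agent.Helper23.GrSyzCmp

universe u

variable {k : Type u} [Field k] {n : ℕ}
  {R : Type u} [AddCommGroup R] [Module k R] [Module (MvPolynomial (Fin n) k) R]
  (ℛ : ℤ → Submodule k R) [DirectSum.Decomposition ℛ]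
  [SetLike.GradedSMul (stdGr k (Fin n)) ℛ]

theorem sum_smul_single0 {M : Type*} [AddCommGroup M] [Module (MvPolynomial (Fin n) k) M]
    (g : Fin n → M) :
    ∑ v, xs k n v • single0 (n := n) (g v) = single0 (∑ v, xs k n v • g v) := by
  funext A
  rw [Finset.sum_apply]
  unfold single0
  by_cases hA : A = ∅
  · simp only [Pi.smul_apply, if_pos hA]
  · simp only [Pi.smul_apply, if_neg hA, smul_zero, Finset.sum_const_zero]

/-- the main induction: generation bounds for `T^i(R)`, `i ≤ p`, give Koszul acyclicity of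
`T^i(R)` at bidegree `(a, j)` whenever `a + i = p` -/
theorem acyc_T (p : ℕ) (j : ℤ)
    (Gen : ∀ i : ℕ, i ≤ p → ∀ m : (Fin i → Fin n) → R, m ∈ TT k n R i →
      m ∈ grW (n := n) ℛ i (j - p + i) →
      ∃ g : Fin n → ((Fin i → Fin n) → R),
        (∀ v, g v ∈ TT k n R i ∧ g v ∈ grW (n := n) ℛ i (j - p + i - 1)) ∧
          m = ∑ v, xs k n v • g v) :
    ∀ a i : ℕ, a + i = p → Acyc (xs k n) (grW (n := n) ℛ i) (TT k n R i) a j := by
  intro a
  induction a with
  | zero =>
    intro i hi y hy hyT _
    have hi' : i = p := by omega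
    subst hi'
    have hy0 : y ∅ ∈ grW (n := n) ℛ i (j - i + i) := by
      have := (hy ∅).1
      have e : j - ((0 : ℕ) : ℤ) = j - i + i := by push_cast; ring
      rwa [e] at this
    obtain ⟨g, hg, hsum⟩ := Gen i le_rfl (y ∅) (hyT ∅) hy0
    obtain ⟨u, hu, huT, hdu⟩ := exists_bound (xs k n) (grW (n := n) ℛ i) (TT k n R i) 0 j
      (fun v => single0 (g v))
      (fun v => isCh_single0 (by
        have e : j - (i : ℤ) + i - 1 = j - 1 := by ring
        rw [← e]; exact (hg v).2))
      (fun v A => by
        unfold single0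
        by_cases hA : A = ∅
        · rw [if_pos hA]; exact (hg v).1
        · rw [if_neg hA]; exact Submodule.zero_mem _)
      (fun v => dK_single0 _ _)
    refine ⟨u, hu, huT, ?_⟩
    rw [hdu, sum_smul_single0, ← hsum]
    exact (eq_single0 hy).symm
  | succ a ih =>
    intro i hai y hy hyT hdy
    have hip : i ≤ p := by omega
    -- apply the generation statement at each subset
    have hE : ∀ A, y A ∈ grW (n := n) ℛ i (j - p + i) := by
      intro A
      have := (hy A).1
      have e : j - ((a + 1 : ℕ) : ℤ) = j - (p : ℤ) + i := by rw [← hai]; push_cast; ring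
      rwa [e] at this
    choose g hg hsum using fun A => Gen i hip (y A) (hyT A) (hE A)
    -- the lifted chain with values in word functions of length `i + 1`
    let yt : Finset (Fin n) → ((Fin (i + 1) → Fin n) → R) :=
      fun A => if A.card = a + 1 then (fun c => g A (c 0) (Fin.tail c)) else 0
    have hrho : ∀ A v, rho k R i v (yt A) = if A.card = a + 1 then g A v else 0 := by
      intro A v
      by_cases hA : A.card = a + 1
      · have e : yt A = fun c => g A (c 0) (Fin.tail c) := if_pos hA
        rw [e, if_pos hA]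
        funext c'
        rw [rho_apply, Fin.cons_zero, Fin.tail_cons]
      · have e : yt A = 0 := if_neg hA
        rw [e, if_neg hA, map_zero]
    have hkap : ∀ A, kap k R i (yt A) = y A := by
      intro A
      rw [kap_eq_sum]
      by_cases hA : A.card = a + 1
      · simp only [hrho, if_pos hA]
        exact (hsum A).symm
      · simp only [hrho, if_neg hA, smul_zero, Finset.sum_const_zero]
        exact ((hy A).2 hA).symm
    have hytT : ∀ A v, rho k R i v (yt A) ∈ TT k n R i := by
      intro A v
      rw [hrho]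
      by_cases hA : A.card = a + 1
      · rw [if_pos hA]; exact (hg A v).1
      · rw [if_neg hA]; exact Submodule.zero_mem _
    have hytch : IsCh (grW (n := n) ℛ (i + 1)) (a + 1) j yt := by
      intro A
      by_cases hA : A.card = a + 1
      · have e : yt A = fun c => g A (c 0) (Fin.tail c) := if_pos hA
        rw [e]
        refine ⟨fun c => ?_, fun h => absurd hA h⟩
        have := (hg A (c 0)).2 (Fin.tail c)
        have e2 : j - (p : ℤ) + i - 1 - i = j - ((a + 1 : ℕ) : ℤ) - ((i + 1 : ℕ) : ℤ) := by
          rw [← hai]; push_cast; ring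
        rw [e2] at this
        exact this
      · have e : yt A = 0 := if_neg hA
        rw [e]
        exact ⟨AddSubgroup.zero_mem _, fun _ => rfl⟩
    -- its boundary is a cycle with values in `T^{i+1}`
    have hzch : IsCh (grW (n := n) ℛ (i + 1)) a j (dK (xs k n) yt) :=
      hytch.dK (xs k n) (grW_X_smul ℛ (i + 1))
    have hzT : ∀ A, dK (xs k n) yt A ∈ TT k n R (i + 1) := by
      intro A
      rw [mem_TT_succ]
      constructor
      · intro v
        have := congrFun (dK_comp (rho k R i v) (xs k n) yt) A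
        rw [← this]
        exact dK_mem (TT k n R i) (xs k n) _ (fun A' => hytT A' v) A
      · have := congrFun (dK_comp (kap k R i) (xs k n) yt) A
        rw [← this]
        have e : (fun A => kap k R i (yt A)) = y := funext hkap
        rw [e, hdy]
        rfl
    obtain ⟨y', hy', hy'T, hdy'⟩ := ih (i + 1) (by omega) (dK (xs k n) yt) hzch hzT (dK_dK _ _)
    -- the corrected chain
    have hy''ch : IsCh (grW (n := n) ℛ (i + 1)) (a + 1) j (yt - y') := hytch.sub hy'
    have hdy'' : dK (xs k n) (yt - y') = 0 := by rw [dK_sub, hdy', sub_self]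
    have hy'rho : ∀ A v, rho k R i v (y' A) ∈ TT k n R i :=
      fun A v => ((mem_TT_succ i (y' A)).1 (hy'T A)).1 v
    have hy'kap : ∀ A, kap k R i (y' A) = 0 :=
      fun A => ((mem_TT_succ i (y' A)).1 (hy'T A)).2
    obtain ⟨u, hu, huT, hdu⟩ := exists_bound (xs k n) (grW (n := n) ℛ i) (TT k n R i) (a + 1) j
      (fun v A => rho k R i v ((yt - y') A))
      (fun v A => by
        refine ⟨fun c' => ?_, fun hA => ?_⟩
        · have := (hy''ch A).1 (Fin.cons v c')
          have e2 : j - ((a + 1 : ℕ) : ℤ) - ((i + 1 : ℕ) : ℤ) =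
              j - 1 - ((a + 1 : ℕ) : ℤ) - (i : ℤ) := by push_cast; ring
          rw [e2] at this
          exact this
        · show rho k R i v ((yt - y') A) = 0
          rw [(hy''ch A).2 hA, map_zero])
      (fun v A => by
        rw [Pi.sub_apply, map_sub]
        exact Submodule.sub_mem _ (hytT A v) (hy'rho A v))
      (fun v => by
        have := dK_comp (rho k R i v) (xs k n) (yt - y')
        rw [this, hdy'']
        funext A
        exact map_zero _)
    refine ⟨u, hu, huT, ?_⟩
    rw [hdu]
    funext A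
    rw [Finset.sum_apply]
    have e1 : ∑ v, (xs k n v • fun A => rho k R i v ((yt - y') A)) A =
        kap k R i ((yt - y') A) := by
      rw [kap_eq_sum]
      rfl
    rw [e1, Pi.sub_apply, map_sub, hkap, hy'kap, sub_zero]

/-- transfer from word functions of length `0` to the module itself -/
theorem acyc_R (p : ℕ) (j : ℤ)
    (h : Acyc (xs k n) (grW (n := n) ℛ 0) (TT k n R 0) p j) :
    Acyc (xs k n) (grM ℛ) ⊤ p j := by
  intro y hy _ hdy
  let ψ : R →ₗ[MvPolynomial (Fin n) k] ((Fin 0 → Fin n) → R) :=
    LinearMap.pi (fun _ => LinearMap.id)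
  let ev : ((Fin 0 → Fin n) → R) →ₗ[MvPolynomial (Fin n) k] R :=
    LinearMap.proj (fun i => Fin.elim0 i)
  have hψch : IsCh (grW (n := n) ℛ 0) p j (fun A => ψ (y A)) := by
    intro A
    refine ⟨fun c => ?_, fun hA => ?_⟩
    · show y A ∈ ℛ (j - p - ((0 : ℕ) : ℤ))
      have := (hy A).1
      have e : j - (p : ℤ) - ((0 : ℕ) : ℤ) = j - p := by push_cast; ring
      rw [e]
      exact this
    · show ψ (y A) = 0
      rw [(hy A).2 hA, map_zero]
  obtain ⟨u', hu', _, hdu'⟩ := h (fun A => ψ (y A)) hψch
    (fun A s => Fin.elim0 s)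
    (by rw [dK_comp, hdy]; funext A; exact map_zero _)
  refine ⟨fun A => ev (u' A), fun A => ⟨?_, fun hA => ?_⟩, fun _ => Submodule.mem_top, ?_⟩
  · have := (hu' A).1 (fun i => Fin.elim0 i)
    have e : j - ((p + 1 : ℕ) : ℤ) - ((0 : ℕ) : ℤ) = j - ((p + 1 : ℕ) : ℤ) := by push_cast; ring
    rw [e] at this
    exact this
  · show ev (u' A) = 0
    rw [(hu' A).2 hA, map_zero]
  · rw [dK_comp, hdu']
    rfl

/-- **Vanishing of graded Betti numbers from generation bounds on the iterated linear syzygy
modules.** -/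
theorem betti_vanishing (p : ℕ) (j : ℤ)
    (hgen : ∀ i : ℕ, i ≤ p → ∀ m : (Fin i → Fin n) → R,
      (∀ (s : Fin i) (c : Fin i → Fin n),
        ∑ v : Fin n, (X v : MvPolynomial (Fin n) k) • m (Function.update c s v) = 0) →
      m ∈ Submodule.span (MvPolynomial (Fin n) k) {m' : (Fin i → Fin n) → R |
        (∀ (s : Fin i) (c : Fin i → Fin n),
          ∑ v : Fin n, (X v : MvPolynomial (Fin n) k) • m' (Function.update c s v) = 0) ∧
        ∃ e : ℤ, e ≤ j - (p : ℤ) + (i : ℤ) - 1 ∧ ∀ c : Fin i → Fin n, m' c ∈ ℛ (e - (i : ℤ))})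
    (F : FreeRes (stdGr k (Fin n)) ℛ)
    (hF : F.IsMinimal (irrel (stdGr k (Fin n))).toIdeal) :
    F.betti p j = 0 := by
  apply betti_eq_zero_of_acyc F hF p j
  apply acyc_R ℛ p j
  exact acyc_T ℛ p j (fun i hi m hm hmE => gen_of_span ℛ i (j - p + i) (hgen i hi) m hm hmE)
    p 0 (by omega)

end Groth.Agent.Helper20.KZ
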