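import Mathlib

/-!
# In characteristic zero, an element of a field extension `L/K` with `d x = 0` is algebraic
-/

namespace Groth.Agent.Helper20.KaehlerTransc

open Polynomial TensorProduct

universe u

theorem formallySmooth_of_charZero (F L : Type u) [Field F] [Field L] [Algebra F L] [CharZero F] :
    Algebra.FormallySmooth F L := by
  obtain ⟨s, hs⟩ := exists_isTranscendenceBasis F L
  have : Algebra.IsAlgebraic (IntermediateField.adjoin F (Set.range ((↑) : s → L))) L :=
    hs.isAlgebraic_field
  exact Algebra.FormallySmooth.of_algebraicIndependent_of_isSeparable hs.1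

theorem mapBaseChange_injective_of_formallySmooth (K S L : Type u) [CommRing K] [CommRing S]
    [CommRing L] [Algebra K S] [Algebra S L] [Algebra K L] [IsScalarTower K S L]
    [Algebra.FormallySmooth S L] :
    Function.Injective (KaehlerDifferential.mapBaseChange K S L) := by
  rw [injective_iff_map_eq_zero]
  intro x hx
  obtain ⟨x, rfl⟩ := (Algebra.H1Cotangent.exact_δ_mapBaseChange K S L x).mp hx
  rw [Subsingleton.elim x 0, map_zero]

theorem D_ne_zero_of_transcendental {K L : Type u} [Field K] [Field L] [Algebra K L] [CharZero K]
    (f : L) (hf : Transcendental K f) : KaehlerDifferential.D K L f ≠ 0 := by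
  let φ : K[X] →ₐ[K] L := Polynomial.aeval f
  have hφ : Function.Injective φ := transcendental_iff_injective.mp hf
  let S : Subalgebra K L := φ.range
  let e : K[X] ≃ₐ[K] S := AlgEquiv.ofInjective φ hφ
  let δ : Derivation K S S := Derivation.mk'
    (e.toLinearMap ∘ₗ (Polynomial.derivative : K[X] →ₗ[K] K[X]) ∘ₗ e.symm.toLinearMap) (by
      intro a b
      simp only [LinearMap.coe_comp, AlgEquiv.toLinearMap_apply, Function.comp_apply, map_mul,
        Polynomial.derivative_mul, map_add, AlgEquiv.apply_symm_apply, smul_eq_mul]
      ring)
  let fS : S := e X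
  have hfS : (fS : L) = f := by
    change φ X = f
    exact Polynomial.aeval_X f
  have hδ : δ fS = 1 := by
    change e (Polynomial.derivative (e.symm (e X))) = 1
    rw [AlgEquiv.symm_apply_apply, Polynomial.derivative_X, map_one]
  let ℓ : Ω[S⁄K] →ₗ[S] S := δ.liftKaehlerDifferential
  have hℓ : ℓ (KaehlerDifferential.D K S fS) = 1 := by
    rw [Derivation.liftKaehlerDifferential_comp_D, hδ]
  haveI : FaithfulSMul S L := (faithfulSMul_iff_algebraMap_injective S L).mpr Subtype.val_injective
  letI : Algebra (FractionRing S) L := FractionRing.liftAlgebra S L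
  haveI : IsScalarTower S (FractionRing S) L := FractionRing.isScalarTower_liftAlgebra S L
  haveI : CharZero (FractionRing S) :=
    charZero_of_injective_algebraMap (algebraMap K (FractionRing S)).injective
  haveI : Algebra.FormallySmooth (FractionRing S) L := formallySmooth_of_charZero _ _
  haveI : Algebra.FormallySmooth S (FractionRing S) :=
    Algebra.FormallySmooth.of_isLocalization (nonZeroDivisors S)
  haveI : Algebra.FormallySmooth S L := Algebra.FormallySmooth.comp S (FractionRing S) L
  have hinj := mapBaseChange_injective_of_formallySmooth K S L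
  intro h0
  have h1 : KaehlerDifferential.mapBaseChange K S L ((1 : L) ⊗ₜ[S] KaehlerDifferential.D K S fS) =
      KaehlerDifferential.D K L f := by
    rw [KaehlerDifferential.mapBaseChange_tmul, one_smul, KaehlerDifferential.map_D]
    congr 1
  have h2 : (1 : L) ⊗ₜ[S] KaehlerDifferential.D K S fS = 0 :=
    hinj (by rw [h1, h0, map_zero])
  have h3 := congrArg (ℓ.baseChange L) h2
  rw [LinearMap.baseChange_tmul, hℓ, map_zero] at h3
  have h4 := congrArg (TensorProduct.rid S L) h3
  rw [TensorProduct.rid_tmul, map_zero, one_smul] at h4
  exact one_ne_zero h4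

theorem isAlgebraic_of_D_eq_zero {K L : Type u} [Field K] [Field L] [Algebra K L] [CharZero K]
    (f : L) (hf : KaehlerDifferential.D K L f = 0) : IsAlgebraic K f := by
  by_contra h
  exact D_ne_zero_of_transcendental f h hf

end Groth.Agent.Helper20.KaehlerTransc
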