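import Mathlib

/-!
Primality of an ideal `(aX + b, cX + d)` of `A[X]` (helper20).
-/

set_option autoImplicit false
universe u

namespace Groth.Agent.Helper20.KosP

open Polynomial

variable {A : Type u} [CommRing A]

/-- pseudo-division by `C a * X + C b` -/
theorem pseudo_div (a b : A) (f : A[X]) :
    ∃ (n : ℕ) (N : A), C a ^ n * f - C N ∈ Ideal.span ({C a * X + C b} : Set A[X]) := by
  induction f using Polynomial.induction_on' with
  | add p q hp hq =>
    obtain ⟨n, N, hN⟩ := hp
    obtain ⟨m, M, hM⟩ := hq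
    refine ⟨n + m, a ^ m * N + a ^ n * M, ?_⟩
    have : C a ^ (n + m) * (p + q) - C (a ^ m * N + a ^ n * M) =
        C a ^ m * (C a ^ n * p - C N) + C a ^ n * (C a ^ m * q - C M) := by
      simp only [map_add, map_mul, map_pow]; ring
    rw [this]
    exact Ideal.add_mem _ (Ideal.mul_mem_left _ _ hN) (Ideal.mul_mem_left _ _ hM)
  | monomial i r =>
    refine ⟨i, r * (-b) ^ i, ?_⟩
    rw [Ideal.mem_span_singleton]
    have h1 : C a ^ i * monomial i r - C (r * (-b) ^ i) =
        C r * ((C a * X) ^ i - (C (-b)) ^ i) := by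
      rw [← C_mul_X_pow_eq_monomial]; simp only [map_mul, map_pow, map_neg]; ring
    rw [h1]
    have h2 : C a * X + C b = C a * X - C (-b) := by simp
    rw [h2]
    exact Dvd.dvd.mul_left (sub_dvd_pow_sub_pow _ _ i) _

theorem aux1 {F : Type*} [Field F] (x y : F) (hx : x ≠ 0) : x * (-y / x) + y = 0 := by
  field_simp
  ring

theorem aux2 {F : Type*} [Field F] (x y z w : F) (hx : x ≠ 0) :
    z * (-y / x) + w = (x * w - y * z) / x := by
  field_simp
  ring

variable [IsDomain A]

/-- The ideal `(aX + b, cX + d)` is prime as soon as `a` is prime with `a ∤ b`, `(a, b)` is a prime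
ideal not containing both `c` and `d`, and `ad - bc` is a prime not dividing `a`. -/
theorem isPrime_span_pair (a b c d : A) (ha : Prime a) (hab : ¬ a ∣ b)
    (hP : (Ideal.span ({a, b} : Set A)).IsPrime)
    (hcd : c ∉ Ideal.span ({a, b} : Set A) ∨ d ∉ Ideal.span ({a, b} : Set A))
    (hG : Prime (a * d - b * c)) (hGa : ¬ (a * d - b * c) ∣ a) :
    (Ideal.span ({C a * X + C b, C c * X + C d} : Set A[X])).IsPrime := by
  set u : A[X] := C a * X + C b with hu
  set v : A[X] := C c * X + C d with hv
  set J : Ideal A[X] := Ideal.span {u, v} with hJ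
  have huJ : u ∈ J := Ideal.subset_span (by simp)
  have hvJ : v ∈ J := Ideal.subset_span (by simp)
  have hCa : Prime (C a : A[X]) := prime_C_iff.mpr ha
  have hCau : ¬ (C a : A[X]) ∣ u := by
    intro h
    rw [C_dvd_iff_dvd_coeff] at h
    have h0 := h 0
    have : u.coeff 0 = b := by simp [hu]
    rw [this] at h0
    exact hab h0
  have hP' : (Ideal.map (C : A →+* A[X]) (Ideal.span {a, b})).IsPrime :=
    (Ideal.isPrime_map_C_iff_isPrime _).mpr hP
  have haP : a ∈ Ideal.span ({a, b} : Set A) := Ideal.subset_span (by simp)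
  have hbP : b ∈ Ideal.span ({a, b} : Set A) := Ideal.subset_span (by simp)
  have huP : u ∈ Ideal.map (C : A →+* A[X]) (Ideal.span {a, b}) := by
    rw [hu]
    exact Ideal.add_mem _ (Ideal.mul_mem_right _ _ (Ideal.mem_map_of_mem C haP))
      (Ideal.mem_map_of_mem C hbP)
  have hvP : v ∉ Ideal.map (C : A →+* A[X]) (Ideal.span {a, b}) := by
    intro h
    rw [Ideal.mem_map_C_iff] at h
    rcases hcd with hc | hd
    · apply hc
      have h1 := h 1
      have : v.coeff 1 = c := by simp [hv]
      rwa [this] at h1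
    · apply hd
      have h0 := h 0
      have : v.coeff 0 = d := by simp [hv]
      rwa [this] at h0
  have hnzd : ∀ f : A[X], C a * f ∈ J → f ∈ J := by
    intro f hf
    obtain ⟨g, h, hgh⟩ := Ideal.mem_span_pair.mp hf
    have hCaP : C a * f ∈ Ideal.map (C : A →+* A[X]) (Ideal.span {a, b}) :=
      Ideal.mul_mem_right _ _ (Ideal.mem_map_of_mem C haP)
    have hhv : h * v ∈ Ideal.map (C : A →+* A[X]) (Ideal.span {a, b}) := by
      have : h * v = C a * f - g * u := by rw [← hgh]; ring
      rw [this]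
      exact Ideal.sub_mem _ hCaP (Ideal.mul_mem_left _ _ huP)
    have hh : h ∈ Ideal.map (C : A →+* A[X]) (Ideal.span {a, b}) :=
      (hP'.mem_or_mem hhv).resolve_right hvP
    rw [Ideal.map_span, Set.image_pair] at hh
    obtain ⟨h₂, h₁, hh'⟩ := Ideal.mem_span_pair.mp hh
    have key : (g + h₁ * v) * u = C a * (f - (h₂ - X * h₁) * v) := by
      rw [mul_sub, ← hgh, ← hh', hu]; ring
    have hdvd : C a ∣ (g + h₁ * v) * u := ⟨_, key⟩
    obtain ⟨g₂, hg₂⟩ := (hCa.dvd_or_dvd hdvd).resolve_right hCau
    have hCa0 : (C a : A[X]) ≠ 0 := hCa.ne_zero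
    have hf' : f = g₂ * u + (h₂ - X * h₁) * v := by
      apply mul_left_cancel₀ hCa0
      rw [hg₂] at key
      linear_combination -key
    rw [hf']
    exact Ideal.add_mem _ (Ideal.mul_mem_left _ _ huJ) (Ideal.mul_mem_left _ _ hvJ)
  have hnzd' : ∀ (n : ℕ) (f : A[X]), C a ^ n * f ∈ J → f ∈ J := by
    intro n
    induction n with
    | zero => intro f hf; simpa using hf
    | succ n ih =>
      intro f hf
      apply ih
      apply hnzd
      rw [← mul_assoc, ← pow_succ']
      exact hf
  haveI hGP : (Ideal.span ({a * d - b * c} : Set A)).IsPrime :=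
    (Ideal.span_singleton_prime hG.ne_zero).mpr hG
  let Q := A ⧸ Ideal.span ({a * d - b * c} : Set A)
  let K := FractionRing Q
  let ι : A →+* K := (algebraMap Q K).comp (Ideal.Quotient.mk _)
  have hιinj : ∀ x, ι x = 0 → (a * d - b * c) ∣ x := by
    intro x hx
    have h1 : algebraMap Q K (Ideal.Quotient.mk _ x) = 0 := hx
    have h2 : Ideal.Quotient.mk (Ideal.span ({a * d - b * c} : Set A)) x = 0 :=
      (IsFractionRing.injective Q K) (by rw [h1, map_zero])
    rwa [Ideal.Quotient.eq_zero_iff_mem, Ideal.mem_span_singleton] at h2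
  have hιG : ι (a * d - b * c) = 0 := by
    change algebraMap Q K (Ideal.Quotient.mk _ (a * d - b * c)) = 0
    rw [Ideal.Quotient.eq_zero_iff_mem.mpr (Ideal.mem_span_singleton_self _), map_zero]
  have hιa : ι a ≠ 0 := fun h => hGa (hιinj a h)
  let Φ : A[X] →+* K := Polynomial.eval₂RingHom ι (-(ι b) / ι a)
  have hΦC : ∀ r : A, Φ (C r) = ι r := fun r => by simp [Φ]
  have hΦX : Φ X = -(ι b) / ι a := by simp [Φ]
  have hΦu : Φ u = 0 := by
    rw [hu, map_add, map_mul, hΦC, hΦC, hΦX]
    exact aux1 _ _ hιa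
  have hΦv : Φ v = 0 := by
    rw [hv, map_add, map_mul, hΦC, hΦC, hΦX]
    have : ι c * (-(ι b) / ι a) + ι d = ι (a * d - b * c) / ι a := by
      rw [map_sub, map_mul, map_mul]
      exact aux2 _ _ _ _ hιa
    rw [this, hιG, zero_div]
  have hCG : C (a * d - b * c) ∈ J := by
    have : C (a * d - b * c) = C a * v - C c * u := by
      rw [hu, hv]; simp only [map_sub, map_mul]; ring
    rw [this]
    exact Ideal.sub_mem _ (Ideal.mul_mem_left _ _ hvJ) (Ideal.mul_mem_left _ _ huJ)
  have hker : J = RingHom.ker Φ := by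
    apply le_antisymm
    · rw [hJ, Ideal.span_le]
      rintro x (rfl | rfl)
      · exact hΦu
      · exact hΦv
    · intro f hf
      obtain ⟨n, N, hN⟩ := pseudo_div a b f
      obtain ⟨w, hw⟩ := Ideal.mem_span_singleton'.mp hN
      have hΦN : ι N = 0 := by
        have h1 := congrArg Φ hw
        rw [map_mul, hΦu, mul_zero, map_sub, map_mul, RingHom.mem_ker.mp hf, mul_zero, zero_sub,
          hΦC] at h1
        exact neg_eq_zero.mp h1.symm
      obtain ⟨z, hz⟩ := hιinj N hΦN
      have hCN : C N ∈ J := by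
        rw [hz, map_mul]
        exact Ideal.mul_mem_right _ _ hCG
      apply hnzd' n
      have h3 : C a ^ n * f = (C a ^ n * f - C N) + C N := by ring
      rw [h3]
      refine Ideal.add_mem _ ?_ hCN
      rw [← hw]
      exact Ideal.mul_mem_left _ _ huJ
  rw [hker]
  exact RingHom.ker_isPrime Φ

end Groth.Agent.Helper20.KosP
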