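import Mathlib

/-! Kronecker products of `Fin`-indexed square matrices, reindexed to `Fin (r * s)`. -/

set_option autoImplicit false
universe u v w

namespace Groth.Agent.Helper20.PCoc
open scoped Kronecker TensorProduct

section Kr
variable {K : Type v} [CommRing K] {r s : ℕ}

/-- Kronecker product reindexed to `Fin (r * s)` -/
def kr (M : Matrix (Fin r) (Fin r) K) (N : Matrix (Fin s) (Fin s) K) :
    Matrix (Fin (r * s)) (Fin (r * s)) K :=
  Matrix.reindexAlgEquiv K K finProdFinEquiv (M ⊗ₖ N)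

theorem kr_mul (M M' : Matrix (Fin r) (Fin r) K) (N N' : Matrix (Fin s) (Fin s) K) :
    kr (M * M') (N * N') = kr M N * kr M' N' := by
  unfold kr
  rw [Matrix.mul_kronecker_mul, map_mul]

theorem kr_one : kr (1 : Matrix (Fin r) (Fin r) K) (1 : Matrix (Fin s) (Fin s) K) = 1 := by
  unfold kr
  rw [Matrix.one_kronecker_one, map_one]

theorem kr_add_left (M M' : Matrix (Fin r) (Fin r) K) (N : Matrix (Fin s) (Fin s) K) :
    kr (M + M') N = kr M N + kr M' N := by
  unfold kr
  rw [Matrix.add_kronecker, map_add]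

theorem kr_add_right (M : Matrix (Fin r) (Fin r) K) (N N' : Matrix (Fin s) (Fin s) K) :
    kr M (N + N') = kr M N + kr M N' := by
  unfold kr
  rw [Matrix.kronecker_add, map_add]

theorem kr_zero_left (N : Matrix (Fin s) (Fin s) K) : kr (0 : Matrix (Fin r) (Fin r) K) N = 0 := by
  unfold kr
  rw [Matrix.zero_kronecker, map_zero]

theorem kr_zero_right (M : Matrix (Fin r) (Fin r) K) : kr M (0 : Matrix (Fin s) (Fin s) K) = 0 := by
  unfold kr
  rw [Matrix.kronecker_zero, map_zero]

theorem kr_smul_left (x : K) (M : Matrix (Fin r) (Fin r) K) (N : Matrix (Fin s) (Fin s) K) :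
    kr (x • M) N = x • kr M N := by
  unfold kr
  rw [Matrix.smul_kronecker, map_smul]

theorem kr_smul_right (x : K) (M : Matrix (Fin r) (Fin r) K) (N : Matrix (Fin s) (Fin s) K) :
    kr M (x • N) = x • kr M N := by
  unfold kr
  rw [Matrix.kronecker_smul, map_smul]

theorem det_kr (M : Matrix (Fin r) (Fin r) K) (N : Matrix (Fin s) (Fin s) K) :
    (kr M N).det = M.det ^ s * N.det ^ r := by
  unfold kr
  rw [Matrix.coe_reindexAlgEquiv, Matrix.det_reindex_self, Matrix.det_kronecker]
  simp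

theorem kr_map {L : Type*} [CommRing L] (f : K →+* L) (M : Matrix (Fin r) (Fin r) K)
    (N : Matrix (Fin s) (Fin s) K) : (kr M N).map f = kr (M.map f) (N.map f) := by
  ext i j
  simp [kr, Matrix.coe_reindexAlgEquiv]

/-- `M ↦ kr M 1` as an algebra hom -/
def krL : Matrix (Fin r) (Fin r) K →ₐ[K] Matrix (Fin (r * s)) (Fin (r * s)) K where
  toFun M := kr M 1
  map_one' := kr_one
  map_mul' M M' := by rw [← kr_mul, mul_one]
  map_zero' := kr_zero_left _
  map_add' M M' := kr_add_left _ _ _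
  commutes' x := by
    rw [Algebra.algebraMap_eq_smul_one, Algebra.algebraMap_eq_smul_one, kr_smul_left, kr_one]

/-- `N ↦ kr 1 N` as an algebra hom -/
def krR : Matrix (Fin s) (Fin s) K →ₐ[K] Matrix (Fin (r * s)) (Fin (r * s)) K where
  toFun N := kr 1 N
  map_one' := kr_one
  map_mul' N N' := by rw [← kr_mul, mul_one]
  map_zero' := kr_zero_right _
  map_add' N N' := kr_add_right _ _ _
  commutes' x := by
    rw [Algebra.algebraMap_eq_smul_one, Algebra.algebraMap_eq_smul_one, kr_smul_right, kr_one]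

theorem krL_apply (M : Matrix (Fin r) (Fin r) K) : (krL (s := s)) M = kr M 1 := rfl
theorem krR_apply (N : Matrix (Fin s) (Fin s) K) : (krR (r := r)) N = kr 1 N := rfl

theorem krL_mul_krR (M : Matrix (Fin r) (Fin r) K) (N : Matrix (Fin s) (Fin s) K) :
    kr M 1 * kr 1 N = kr M N := by rw [← kr_mul, mul_one, one_mul]

theorem krR_mul_krL (M : Matrix (Fin r) (Fin r) K) (N : Matrix (Fin s) (Fin s) K) :
    kr 1 N * kr M 1 = kr M N := by rw [← kr_mul, mul_one, one_mul]

end Kr

section KrHom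
variable {k : Type u} {K : Type v} [Field k] [Field K] [Algebra k K]
  {A : Type*} [Ring A] [Algebra k A] {A' : Type*} [Ring A'] [Algebra k A'] {r s : ℕ}

/-- the Kronecker tensor product of two matrix representations -/
noncomputable def krHom (ρ : A →ₐ[k] Matrix (Fin r) (Fin r) K) (ρ' : A' →ₐ[k] Matrix (Fin s) (Fin s) K) :
    A ⊗[k] A' →ₐ[k] Matrix (Fin (r * s)) (Fin (r * s)) K :=
  Algebra.TensorProduct.lift (((krL (s := s)).restrictScalars k).comp ρ)
    (((krR (r := r)).restrictScalars k).comp ρ')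
    (fun a a' => by
      show kr (ρ a) 1 * kr 1 (ρ' a') = kr 1 (ρ' a') * kr (ρ a) 1
      rw [krL_mul_krR, krR_mul_krL])

theorem krHom_tmul (ρ : A →ₐ[k] Matrix (Fin r) (Fin r) K) (ρ' : A' →ₐ[k] Matrix (Fin s) (Fin s) K)
    (a : A) (a' : A') : krHom ρ ρ' (a ⊗ₜ[k] a') = kr (ρ a) (ρ' a') := by
  unfold krHom
  rw [Algebra.TensorProduct.lift_tmul]
  show kr (ρ a) 1 * kr 1 (ρ' a') = _
  rw [krL_mul_krR]

end KrHom

end Groth.Agent.Helper20.PCoc
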