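import Mathlib

/-!
# Lech independence and Lech's lemma (helper20)

A family `y : Fin r → R` is *Lech independent* if every relation `∑ cᵢ yᵢ = 0` has all its
coefficients in the ideal generated by the `yᵢ`.  We prove Lech's lemma: if `yᵢ = a * b` then
replacing `yᵢ` by `a` keeps independence and lengths add up, and deduce
`ℓ(R/(x₁^ν₁,…,x_r^ν_r)) = ν₁⋯ν_r · ℓ(R/(x₁,…,x_r))`.
-/

set_option autoImplicit false
universe u

namespace Groth.Agent.Helper20.Kunz

open Function

variable {R : Type u} [CommRing R] {r : ℕ}

/-- Lech independence of a finite family of elements -/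
def LechIndep (y : Fin r → R) : Prop :=
  ∀ c : Fin r → R, ∑ i, c i * y i = 0 → ∀ i, c i ∈ Ideal.span (Set.range y)

/-- the ideal generated by a family -/
abbrev Iof (y : Fin r → R) : Ideal R := Ideal.span (Set.range y)

theorem mem_Iof_iff (y : Fin r → R) (z : R) : z ∈ Iof y ↔ ∃ c : Fin r → R, ∑ i, c i * y i = z :=
  Ideal.mem_span_range_iff_exists_fun

theorem sum_split (i : Fin r) (c y : Fin r → R) :
    ∑ j, c j * y j = c i * y i + ∑ j ∈ Finset.univ.erase i, c j * y j :=
  (Finset.add_sum_erase Finset.univ (fun j => c j * y j) (Finset.mem_univ i)).symm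

theorem sum_erase_update (i : Fin r) (c y : Fin r → R) (a : R) :
    ∑ j ∈ Finset.univ.erase i, c j * update y i a j = ∑ j ∈ Finset.univ.erase i, c j * y j := by
  refine Finset.sum_congr rfl fun j hj => ?_
  rw [update_of_ne (Finset.ne_of_mem_erase hj)]

theorem sum_update (i : Fin r) (c y : Fin r → R) (a : R) :
    ∑ j, c j * update y i a j = c i * a + ∑ j ∈ Finset.univ.erase i, c j * y j := by
  rw [sum_split i, update_self, sum_erase_update]

theorem Iof_le_update (y : Fin r → R) (i : Fin r) (a b : R) (hy : y i = a * b) :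
    Iof y ≤ Iof (update y i a) := by
  rw [Iof, Ideal.span_le]
  rintro _ ⟨j, rfl⟩
  by_cases hj : j = i
  · subst hj
    rw [hy]
    refine Ideal.mul_mem_right _ _ (Ideal.subset_span ⟨j, ?_⟩)
    rw [update_self]
  · refine Ideal.subset_span ⟨j, ?_⟩
    rw [update_of_ne hj]

theorem self_mem_update (y : Fin r → R) (i : Fin r) (a : R) : a ∈ Iof (update y i a) :=
  Ideal.subset_span ⟨i, update_self _ _ _⟩

theorem Iof_update_eq (y : Fin r → R) (i : Fin r) (a b : R) (hy : y i = a * b) :
    Iof (update y i a) = Iof y ⊔ Ideal.span {a} := by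
  apply le_antisymm
  · rw [Iof, Ideal.span_le]
    rintro _ ⟨j, rfl⟩
    by_cases hj : j = i
    · subst hj
      rw [update_self]
      exact Ideal.mem_sup_right (Ideal.mem_span_singleton_self a)
    · rw [update_of_ne hj]
      exact Ideal.mem_sup_left (Ideal.subset_span ⟨j, rfl⟩)
  · refine sup_le (Iof_le_update y i a b hy) ?_
    rw [Ideal.span_singleton_le_iff_mem]
    exact self_mem_update y i a

theorem mul_mem_Iof (y : Fin r → R) (i : Fin r) (a b : R) (hy : y i = a * b) (c : R)
    (hc : c ∈ Iof (update y i b)) : a * c ∈ Iof y := by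
  rw [Iof_update_eq y i b a (by rw [hy, mul_comm])] at hc
  obtain ⟨u, hu, v, hv, rfl⟩ := Submodule.mem_sup.mp hc
  obtain ⟨w, rfl⟩ := Ideal.mem_span_singleton'.mp hv
  rw [mul_add]
  refine add_mem (Ideal.mul_mem_left _ _ hu) ?_
  have : a * (w * b) = w * y i := by rw [hy]; ring
  rw [this]
  exact Ideal.mul_mem_left _ _ (Ideal.subset_span ⟨i, rfl⟩)

/-- Lech's lemma, colon part: `(I_y : a) = I_b`. -/
theorem mem_update_of_mul_mem (y : Fin r → R) (hind : LechIndep y) (i : Fin r) (a b : R)
    (hy : y i = a * b) (c : R) (hc : a * c ∈ Iof y) : c ∈ Iof (update y i b) := by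
  obtain ⟨d, hd⟩ := (mem_Iof_iff y _).mp hc
  rw [sum_split i, hy] at hd
  -- the relation
  let e : Fin r → R := update (fun j => - (b * d j)) i (c - d i * b)
  have hrel : ∑ j, e j * y j = 0 := by
    rw [sum_split i]
    have h1 : e i = c - d i * b := update_self _ _ _
    have h2 : ∑ j ∈ Finset.univ.erase i, e j * y j =
        - (b * ∑ j ∈ Finset.univ.erase i, d j * y j) := by
      rw [Finset.mul_sum, ← Finset.sum_neg_distrib]
      refine Finset.sum_congr rfl fun j hj => ?_
      have : e j = - (b * d j) := update_of_ne (Finset.ne_of_mem_erase hj) _ _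
      rw [this]
      ring
    rw [h1, h2, hy]
    have h3 : ∑ j ∈ Finset.univ.erase i, d j * y j = a * c - d i * (a * b) := by
      rw [← hd]; ring
    rw [h3]
    ring
  have hmem := hind e hrel i
  have h1 : e i = c - d i * b := update_self _ _ _
  rw [h1] at hmem
  have h4 : c = (c - d i * b) + d i * b := by ring
  rw [h4]
  refine add_mem (Iof_le_update y i b a (by rw [hy, mul_comm]) hmem) ?_
  exact Ideal.mul_mem_left _ _ (self_mem_update y i b)

/-- Lech's lemma, independence part. -/
theorem LechIndep.update_left {y : Fin r → R} (hind : LechIndep y) (i : Fin r) (a b : R)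
    (hy : y i = a * b) : LechIndep (update y i a) := by
  intro c hc
  rw [sum_update] at hc
  -- multiply by `b`
  let e : Fin r → R := update (fun j => b * c j) i (c i)
  have hrel : ∑ j, e j * y j = 0 := by
    rw [sum_split i]
    have h1 : e i = c i := update_self _ _ _
    have h2 : ∑ j ∈ Finset.univ.erase i, e j * y j =
        b * ∑ j ∈ Finset.univ.erase i, c j * y j := by
      rw [Finset.mul_sum]
      refine Finset.sum_congr rfl fun j hj => ?_
      have : e j = b * c j := update_of_ne (Finset.ne_of_mem_erase hj) _ _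
      rw [this]
      ring
    rw [h1, h2, hy]
    have h3 : ∑ j ∈ Finset.univ.erase i, c j * y j = - (c i * a) := by
      rw [eq_neg_iff_add_eq_zero, add_comm]; exact hc
    rw [h3]
    ring
  have hci : c i ∈ Iof y := by
    have := hind e hrel i
    rwa [show e i = c i from update_self _ _ _] at this
  obtain ⟨d, hd⟩ := (mem_Iof_iff y _).mp hci
  -- second relation
  let e' : Fin r → R := update (fun j => a * d j + c j) i (a * d i)
  have hrel' : ∑ j, e' j * y j = 0 := by
    rw [sum_split i]
    have h1 : e' i = a * d i := update_self _ _ _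
    have h2 : ∑ j ∈ Finset.univ.erase i, e' j * y j =
        a * ∑ j ∈ Finset.univ.erase i, d j * y j + ∑ j ∈ Finset.univ.erase i, c j * y j := by
      rw [Finset.mul_sum, ← Finset.sum_add_distrib]
      refine Finset.sum_congr rfl fun j hj => ?_
      have : e' j = a * d j + c j := update_of_ne (Finset.ne_of_mem_erase hj) _ _
      rw [this]
      ring
    rw [h1, h2]
    have h3 : ∑ j ∈ Finset.univ.erase i, d j * y j = c i - d i * y i := by
      rw [← hd, sum_split i]; ring
    have h4 : ∑ j ∈ Finset.univ.erase i, c j * y j = - (c i * a) := by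
      rw [eq_neg_iff_add_eq_zero, add_comm]; exact hc
    rw [h3, h4]
    ring
  intro j
  by_cases hj : j = i
  · subst hj
    exact Iof_le_update y j a b hy hci
  · have h5 := hind e' hrel' j
    have h6 : e' j = a * d j + c j := update_of_ne hj _ _
    rw [h6] at h5
    have h7 : c j = (a * d j + c j) - d j * a := by ring
    rw [h7]
    exact sub_mem (Iof_le_update y i a b hy h5) (Ideal.mul_mem_left _ _ (self_mem_update y i a))

theorem LechIndep.update_right {y : Fin r → R} (hind : LechIndep y) (i : Fin r) (a b : R)
    (hy : y i = a * b) : LechIndep (update y i b) :=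
  hind.update_left i b a (by rw [hy, mul_comm])

/-- Lech's lemma, length part. -/
theorem length_quot_eq_add {y : Fin r → R} (hind : LechIndep y) (i : Fin r) (a b : R)
    (hy : y i = a * b) :
    Module.length R (R ⧸ Iof y) =
      Module.length R (R ⧸ Iof (update y i b)) + Module.length R (R ⧸ Iof (update y i a)) := by
  let f : (R ⧸ Iof (update y i b)) →ₗ[R] (R ⧸ Iof y) :=
    Submodule.mapQ _ _ (LinearMap.mulLeft R a) (fun c hc => mul_mem_Iof y i a b hy c hc)
  let g : (R ⧸ Iof y) →ₗ[R] (R ⧸ Iof (update y i a)) :=
    Submodule.mapQ _ _ LinearMap.id (fun c hc => Iof_le_update y i a b hy hc)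
  have hf : Injective f := by
    rw [injective_iff_map_eq_zero]
    intro z hz
    obtain ⟨c, rfl⟩ := Submodule.Quotient.mk_surjective _ z
    rw [Submodule.mapQ_apply, Submodule.Quotient.mk_eq_zero] at hz
    rw [Submodule.Quotient.mk_eq_zero]
    exact mem_update_of_mul_mem y hind i a b hy c hz
  have hg : Surjective g := by
    intro z
    obtain ⟨c, rfl⟩ := Submodule.Quotient.mk_surjective _ z
    exact ⟨Submodule.Quotient.mk c, rfl⟩
  have hex : Exact f g := by
    intro z
    obtain ⟨c, rfl⟩ := Submodule.Quotient.mk_surjective _ z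
    constructor
    · intro hz
      rw [Submodule.mapQ_apply, Submodule.Quotient.mk_eq_zero, LinearMap.id_apply,
        Iof_update_eq y i a b hy] at hz
      obtain ⟨u, hu, v, hv, huv⟩ := Submodule.mem_sup.mp hz
      obtain ⟨w, rfl⟩ := Ideal.mem_span_singleton'.mp hv
      refine ⟨Submodule.Quotient.mk w, ?_⟩
      rw [Submodule.mapQ_apply, Submodule.Quotient.eq, LinearMap.mulLeft_apply]
      have : a * w - c = - u := by rw [← huv]; ring
      rw [this]
      exact neg_mem hu
    · rintro ⟨z', hz'⟩
      obtain ⟨w, rfl⟩ := Submodule.Quotient.mk_surjective _ z'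
      rw [← hz', Submodule.mapQ_apply, Submodule.mapQ_apply, Submodule.Quotient.mk_eq_zero,
        LinearMap.id_apply, LinearMap.mulLeft_apply]
      exact Ideal.mul_mem_right _ _ (self_mem_update y i a)
  exact Module.length_eq_add_of_exact f g hf hg hex

/-- **Lech's formula**: `ℓ(R/(x^ν)) = (∏ ν) ℓ(R/(x))` when `x^ν` is Lech independent. -/
theorem length_quot_pow_eq (x : Fin r → R) :
    ∀ (n : ℕ) (ν : Fin r → ℕ), (∀ i, 1 ≤ ν i) → ∑ i, ν i = n →
      LechIndep (fun i => x i ^ ν i) →
      Module.length R (R ⧸ Iof (fun i => x i ^ ν i)) =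
        ((∏ i, ν i : ℕ) : ℕ∞) * Module.length R (R ⧸ Iof x) := by
  intro n
  induction n using Nat.strong_induction_on with
  | _ n ih =>
    intro ν hν hsum hind
    by_cases hall : ∀ i, ν i = 1
    · have h1 : (fun i => x i ^ ν i) = x := by
        funext i; rw [hall i, pow_one]
      have h2 : ∏ i, ν i = 1 := Finset.prod_eq_one fun i _ => hall i
      rw [h1, h2, Nat.cast_one, one_mul]
    · push Not at hall
      obtain ⟨i, hi⟩ := hall
      have hi2 : 2 ≤ ν i := by have := hν i; omega
      set y : Fin r → R := fun j => x j ^ ν j with hy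
      have hyi : y i = x i ^ (ν i - 1) * x i := by
        have h0 : ν i - 1 + 1 = ν i := by omega
        show x i ^ ν i = _
        rw [← pow_succ, h0]
      have hupa : update y i (x i ^ (ν i - 1)) = fun j => x j ^ (update ν i (ν i - 1)) j := by
        funext j
        by_cases hj : j = i
        · subst hj; rw [update_self, update_self]
        · rw [update_of_ne hj, update_of_ne hj]
      have hupb : update y i (x i) = fun j => x j ^ (update ν i 1) j := by
        funext j
        by_cases hj : j = i
        · subst hj; rw [update_self, update_self, pow_one]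
        · rw [update_of_ne hj, update_of_ne hj]
      have hsplit : ∑ j, ν j = ν i + ∑ j ∈ Finset.univ.erase i, ν j :=
        (Finset.add_sum_erase Finset.univ ν (Finset.mem_univ i)).symm
      have hsumup : ∀ k : ℕ, ∑ j, update ν i k j = k + ∑ j ∈ Finset.univ.erase i, ν j := by
        intro k
        rw [← Finset.add_sum_erase Finset.univ _ (Finset.mem_univ i), update_self]
        congr 1
        refine Finset.sum_congr rfl fun j hj => ?_
        rw [update_of_ne (Finset.ne_of_mem_erase hj)]
      have hprodup : ∀ k : ℕ, ∏ j, update ν i k j = k * ∏ j ∈ Finset.univ.erase i, ν j := by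
        intro k
        rw [← Finset.mul_prod_erase Finset.univ _ (Finset.mem_univ i), update_self]
        congr 1
        refine Finset.prod_congr rfl fun j hj => ?_
        rw [update_of_ne (Finset.ne_of_mem_erase hj)]
      have hprod : ∏ j, ν j = ν i * ∏ j ∈ Finset.univ.erase i, ν j :=
        (Finset.mul_prod_erase Finset.univ ν (Finset.mem_univ i)).symm
      have hνa : ∀ j, 1 ≤ update ν i (ν i - 1) j := by
        intro j
        by_cases hj : j = i
        · subst hj; rw [update_self]; omega
        · rw [update_of_ne hj]; exact hν j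
      have hνb : ∀ j, 1 ≤ update ν i 1 j := by
        intro j
        by_cases hj : j = i
        · subst hj; rw [update_self]
        · rw [update_of_ne hj]; exact hν j
      have hinda := hind.update_left i _ _ hyi
      have hindb := hind.update_right i _ _ hyi
      rw [hupa] at hinda
      rw [hupb] at hindb
      have hla := ih (∑ j, update ν i (ν i - 1) j) (by rw [hsumup, ← hsum, hsplit]; omega)
        (update ν i (ν i - 1)) hνa rfl hinda
      have hlb := ih (∑ j, update ν i 1 j) (by rw [hsumup, ← hsum, hsplit]; omega)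
        (update ν i 1) hνb rfl hindb
      have hlen := length_quot_eq_add hind i _ _ hyi
      rw [hupa, hupb, hla, hlb, hprodup, hprodup] at hlen
      rw [hlen, hprod, ← add_mul]
      congr 1
      have : 1 * ∏ j ∈ Finset.univ.erase i, ν j + (ν i - 1) * ∏ j ∈ Finset.univ.erase i, ν j =
          ν i * ∏ j ∈ Finset.univ.erase i, ν j := by
        rw [← add_mul]; congr 1; omega
      rw [← this]
      push_cast
      rfl

end Groth.Agent.Helper20.Kunz
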