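import Groth.Agent.Lib.Helper20.KunzA
import Groth.Agent.Lib.Helper12.HK4

/-!
# Kunz's theorem, `Frobenius flat ⇒ regular` (helper20)
-/

set_option autoImplicit false
universe u

namespace Groth.Agent.Helper20.Kunz

open Function IsLocalRing Groth.Agent.Helper12.HK

section Flat

variable {R : Type u} [CommRing R] {S : Type u} [CommRing S] [Algebra R S] {r : ℕ}

/-- Lech independence is preserved by flat base change. -/
theorem LechIndep.map_of_flat [Module.Flat R S] {y : Fin r → R} (hind : LechIndep y) :
    LechIndep (fun i => algebraMap R S (y i)) := by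
  intro d hd
  obtain ⟨k, a, s, hds, has⟩ := Module.Flat.isTrivialRelation_of_sum_smul_eq_zero (R := R) (M := S)
    (f := y) (x := d) (by
      rw [← hd]
      refine Finset.sum_congr rfl fun i _ => ?_
      rw [Algebra.smul_def, mul_comm])
  intro i
  rw [hds i]
  refine Ideal.sum_mem _ fun j _ => ?_
  have hmem : a i j ∈ Iof y := by
    refine hind (fun i => a i j) ?_ i
    rw [← has j]
    refine Finset.sum_congr rfl fun i _ => ?_
    rw [mul_comm]
  rw [Algebra.smul_def]
  refine Ideal.mul_mem_right _ _ ?_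
  have hle : (Iof y).map (algebraMap R S) ≤ Iof (fun i => algebraMap R S (y i)) := by
    rw [Iof, Ideal.map_span, Ideal.span_le]
    rintro _ ⟨_, ⟨i, rfl⟩, rfl⟩
    exact Ideal.subset_span ⟨i, rfl⟩
  exact hle (Ideal.mem_map_of_mem _ hmem)

end Flat

section Local

variable {R : Type u} [CommRing R] [IsLocalRing R] [IsNoetherianRing R]

/-- a minimal system of generators of the maximal ideal is Lech independent -/
theorem lechIndep_of_minimal (x : Fin (maximalIdeal R).spanFinrank → R)
    (hx : Ideal.span (Set.range x) = maximalIdeal R) : LechIndep x := by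
  intro c hc j
  rw [hx]
  by_contra hcj
  have hu : IsUnit (c j) := by
    by_contra hnu
    exact hcj ((mem_maximalIdeal _).mpr hnu)
  obtain ⟨u, hu⟩ := hu
  -- `x j` lies in the span of the others
  have hxj : x j ∈ Ideal.span (x '' {i | i ≠ j}) := by
    rw [sum_split j] at hc
    have h1 : x j = - (↑u⁻¹ * ∑ i ∈ Finset.univ.erase j, c i * x i) := by
      have h2 : c j * x j = - ∑ i ∈ Finset.univ.erase j, c i * x i :=
        eq_neg_of_add_eq_zero_left hc
      calc x j = ↑u⁻¹ * (c j * x j) := by rw [← hu, ← mul_assoc, Units.inv_mul, one_mul]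
        _ = - (↑u⁻¹ * ∑ i ∈ Finset.univ.erase j, c i * x i) := by rw [h2, mul_neg]
    rw [h1]
    refine neg_mem (Ideal.mul_mem_left _ _ (Ideal.sum_mem _ fun i hi => ?_))
    exact Ideal.mul_mem_left _ _ (Ideal.subset_span ⟨i, Finset.ne_of_mem_erase hi, rfl⟩)
  have hspan : Ideal.span (x '' {i | i ≠ j}) = maximalIdeal R := by
    apply le_antisymm
    · exact (Ideal.span_mono (Set.image_subset_range _ _)).trans hx.le
    · refine hx.ge.trans ?_
      rw [Ideal.span_le]
      rintro _ ⟨i, rfl⟩
      by_cases hij : i = j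
      · rw [hij]; exact hxj
      · exact Ideal.subset_span ⟨i, hij, rfl⟩
  have hfin : (x '' {i | i ≠ j}).Finite := (Set.toFinite _).image _
  have h1 : (Submodule.span R (x '' {i | i ≠ j})).spanFinrank ≤ (x '' {i | i ≠ j}).ncard :=
    Submodule.spanFinrank_span_le_ncard_of_finite hfin
  have h2 : (x '' {i | i ≠ j}).ncard ≤ ({i | i ≠ j} : Set (Fin _)).ncard :=
    Set.ncard_image_le (Set.toFinite _)
  have h3 : ({i | i ≠ j} : Set (Fin (maximalIdeal R).spanFinrank)).ncard + 1 =
      (maximalIdeal R).spanFinrank := by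
    have h4 : ({i | i ≠ j} : Set (Fin (maximalIdeal R).spanFinrank)) = {j}ᶜ := by
      ext i; simp
    rw [h4, Set.ncard_compl, Set.ncard_singleton, Nat.card_eq_fintype_card, Fintype.card_fin]
    have : 0 < (maximalIdeal R).spanFinrank := Fin.pos j
    omega
  have h5 : (Submodule.span R (x '' {i | i ≠ j})) = maximalIdeal R := hspan
  rw [h5] at h1
  omega

variable (p : ℕ) [Fact p.Prime] [CharP R p]

theorem flat_FC_of_flat (hF : (frobenius R p).Flat) (e : ℕ) : Module.Flat R (FC R p e) := by
  have h1 : (iterateFrobenius R p e).Flat := by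
    induction e with
    | zero =>
      have : iterateFrobenius R p 0 = RingHom.id R := by
        ext x; simp
      rw [this]
      exact RingHom.Flat.id R
    | succ j ih =>
      have : iterateFrobenius R p (j + 1) = (frobenius R p).comp (iterateFrobenius R p j) := by
        ext x; simp [iterateFrobenius_def, frobenius_def, pow_succ, pow_mul]
      rw [this]
      exact RingHom.Flat.comp ih hF
  exact h1

/-- `ℓ(R/𝔪^{[q]}) = q^r` if Frobenius is flat, `r` the embedding dimension. -/
theorem length_quot_aq_of_flat (hF : (frobenius R p).Flat) (e : ℕ) :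
    Module.length R (R ⧸ aq p (maximalIdeal R) e) =
      (((p ^ e) ^ (maximalIdeal R).spanFinrank : ℕ) : ℕ∞) := by
  obtain ⟨s, hs, hspan⟩ := Submodule.FG.exists_span_finset_card_eq_spanFinrank
    (IsNoetherian.noetherian (maximalIdeal R))
  set r := (maximalIdeal R).spanFinrank with hr
  let x : Fin r → R := fun i => ((s.equivFin.symm (Fin.cast hs.symm i) : s) : R)
  have hrange : Set.range x = (s : Set R) := by
    ext z
    constructor
    · rintro ⟨i, rfl⟩
      exact (s.equivFin.symm (Fin.cast hs.symm i)).2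
    · intro hz
      refine ⟨Fin.cast hs (s.equivFin ⟨z, hz⟩), ?_⟩
      simp [x]
  have hx : Ideal.span (Set.range x) = maximalIdeal R := by
    rw [hrange]; exact hspan
  have hind := lechIndep_of_minimal x hx
  haveI := flat_FC_of_flat p hF e
  have hind' : LechIndep (R := R) (fun i => x i ^ (fun _ : Fin r => p ^ e) i) :=
    LechIndep.map_of_flat (S := FC R p e) hind
  have hlen := length_quot_pow_eq x _ (fun _ : Fin r => p ^ e)
    (fun _ => Nat.pos_of_ne_zero (pow_ne_zero _ (Fact.out : p.Prime).ne_zero)) rfl hind'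
  have haq : aq p (maximalIdeal R) e = Iof (fun i => x i ^ (fun _ : Fin r => p ^ e) i) := by
    unfold aq
    rw [← hx, Ideal.map_span, ← Set.range_comp]
    rfl
  rw [haq, hlen, Finset.prod_const, Finset.card_univ, Fintype.card_fin]
  have h1 : Module.length R (R ⧸ Iof x) = 1 := by
    rw [Iof, hx]
    exact Module.length_eq_one_iff.mpr
      (isSimpleModule_iff_isCoatom.mpr (Ideal.isMaximal_def.mp inferInstance))
  rw [h1, mul_one]

/-- **Kunz**: a Noetherian local ring of characteristic `p` with flat Frobenius is regular. -/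
theorem isRegularLocalRing_of_flat_frobenius (hF : (frobenius R p).Flat) :
    IsRegularLocalRing R := by
  apply IsRegularLocalRing.of_spanFinrank_maximalIdeal_le
  obtain ⟨d, hd⟩ := Groth.Agent.Helper5.HS.exists_nat_supportDim R R
  rw [Module.supportDim_self_eq_ringKrullDim] at hd
  rw [hd]
  set r := (maximalIdeal R).spanFinrank with hr
  by_contra hcon
  have hdr : d < r := by
    by_contra h
    exact hcon (by exact_mod_cast not_lt.mp h)
  obtain ⟨N', hN'1, hN'⟩ := exists_pow_le_aq p (maximalIdeal R) ⟨1, by rw [pow_one]⟩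
  obtain ⟨K, hK⟩ := exists_EN_le (M := R) hN' d
    (by rw [Module.supportDim_self_eq_ringKrullDim, hd])
  have hp2 : 2 ≤ p := (Fact.out : p.Prime).two_le
  -- take `e = K`
  have h1 := hK K
  have h2 : (EN p (maximalIdeal R) K R : ℕ∞) = (((p ^ K) ^ r : ℕ) : ℕ∞) := by
    rw [coe_EN hN' K, ← length_quot_aq_of_flat p hF K]
    unfold E
    refine LinearEquiv.length_eq (Submodule.quotEquivOfEq _ _ ?_)
    rw [Ideal.smul_eq_mul, Ideal.mul_top]
  have h3 : EN p (maximalIdeal R) K R = (p ^ K) ^ r := by exact_mod_cast h2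
  rw [h3] at h1
  have hq : K < p ^ K := Nat.lt_pow_self hp2
  have hqpos : 0 < p ^ K := by positivity
  have h4 : (p ^ K) ^ (d + 1) ≤ (p ^ K) ^ r := Nat.pow_le_pow_right hqpos hdr
  have h5 : (p ^ K) ^ (d + 1) ≤ K * (p ^ K) ^ d := h4.trans h1
  rw [pow_succ, mul_comm] at h5
  have h6 : p ^ K ≤ K := Nat.le_of_mul_le_mul_right h5 (by positivity)
  omega

end Local

end Groth.Agent.Helper20.Kunz
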