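import Groth.Agent.Lib.Helper20.KunzC

/-!
# Kunz's theorem (helper20)

A Noetherian ring of prime characteristic is regular iff its Frobenius endomorphism is flat.
-/

set_option autoImplicit false
universe u

namespace Groth.Agent.Helper20.Kunz

open Function IsLocalRing

variable {R : Type u} [CommRing R] (p : ℕ) [Fact p.Prime] [CharP R p]

theorem comap_frobenius (J : Ideal R) [hJ : J.IsPrime] : Ideal.comap (frobenius R p) J = J := by
  ext x
  rw [Ideal.mem_comap, frobenius_def]
  exact ⟨fun h => hJ.mem_of_pow_mem _ h,
    fun h => Ideal.pow_mem_of_mem _ h _ (Fact.out : p.Prime).pos⟩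

theorem charP_localization (J : Ideal R) [J.IsPrime] : CharP (Localization.AtPrime J) p := by
  have hp0 : ((p : ℕ) : Localization.AtPrime J) = 0 := by
    rw [← map_natCast (algebraMap R (Localization.AtPrime J)), CharP.cast_eq_zero, map_zero]
  exact ringChar.of_eq (CharP.ringChar_of_prime_eq_zero (Fact.out : p.Prime) hp0)

theorem localRingHom_frobenius (J : Ideal R) [J.IsPrime]
    (hJJ : J = Ideal.comap (frobenius R p) J) :
    haveI := charP_localization p J
    Localization.localRingHom J J (frobenius R p) hJJ = frobenius (Localization.AtPrime J) p := by
  haveI := charP_localization p J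
  apply IsLocalization.ringHom_ext J.primeCompl
  ext x
  simp only [RingHom.coe_comp, Function.comp_apply]
  rw [Localization.localRingHom_to_map, frobenius_def, frobenius_def, map_pow]

theorem flat_localRingHom_iff (I J : Ideal R) [I.IsPrime] [J.IsPrime]
    (hIJ : I = Ideal.comap (frobenius R p) J) :
    haveI := charP_localization p J
    (Localization.localRingHom I J (frobenius R p) hIJ).Flat ↔
      (frobenius (Localization.AtPrime J) p).Flat := by
  have h : I = J := hIJ.trans (comap_frobenius p J)
  subst h
  rw [localRingHom_frobenius]

/-- **Kunz's theorem**. -/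
theorem isRegularRing_iff_flat_frobenius [IsNoetherianRing R] :
    IsRegularRing R ↔ (frobenius R p).Flat := by
  constructor
  · intro hreg
    apply RingHom.Flat.ofLocalizationPrime
    intro J hJ
    haveI := hJ
    haveI : (Ideal.comap (frobenius R p) J).IsPrime := Ideal.comap_isPrime _ _
    rw [flat_localRingHom_iff]
    haveI := charP_localization p J
    exact flat_frobenius_of_isRegularLocalRing p
  · intro hF
    rw [isRegularRing_iff]
    intro J hJ
    haveI := charP_localization p J
    have h1 := RingHom.Flat.localRingHom hF J J (comap_frobenius p J).symm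
    rw [flat_localRingHom_iff] at h1
    exact isRegularLocalRing_of_flat_frobenius p h1

end Groth.Agent.Helper20.Kunz
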