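import Mathlib
import Groth.Prelude
import Groth.Agent.Lib.Helper8.LCGen
import Groth.Agent.Lib.Helper8.LCRad
import Groth.Agent.Lib.Helper17.DC3

/-!
# Top local cohomology is a left adjoint (helper20)
-/

set_option autoImplicit false
set_option linter.style.haveILetI false

universe u

open CategoryTheory CategoryTheory.Limits

namespace Groth.Agent.Helper20.LcRep

open Groth.Agent.Helper8.LC

variable {R : Type u} [CommRing R] (I : Ideal R) (i : ℕ)

instance additive_localCohomology : (localCohomology I i).Additive where
  map_add := by
    intro X Y f g
    ext x
    have h := LinearMap.congr_fun (Hmap_add I i f.hom g.hom) x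
    exact h

/-- right exactness in the top degree -/
theorem preservesFiniteColimits_localCohomology (d : ℕ)
    (hcd : ∀ N : ModuleCat.{u} R, Subsingleton ((localCohomology I (d + 1)).obj N)) :
    PreservesFiniteColimits (localCohomology I d) := by
  apply ((localCohomology I d).preservesFiniteColimits_tfae.out 0 3).mp
  intro S hS
  constructor
  · rw [ShortComplex.moduleCat_exact_iff]
    intro y hy
    exact exact_f_g I d hS y hy
  · rw [ModuleCat.epi_iff_surjective]
    intro z
    have := hcd S.X₁
    exact exact_g_δ I d hS z (Subsingleton.elim _ _)

end Groth.Agent.Helper20.LcRep
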