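import Mathlib

/-!
# Preservation of coproducts from finite coproducts and directed colimits (helper20)
-/

set_option autoImplicit false

universe w v v' u u'

open CategoryTheory CategoryTheory.Limits CategoryTheory.Limits.CoproductsFromFiniteFiltered

namespace Groth.Agent.Helper20.LcRep

variable {C : Type u} [Category.{v} C] {D : Type u'} [Category.{v'} D]

set_option backward.isDefEq.respectTransparency false in
theorem preservesColimitsOfShape_discrete_of_finset (α : Type w) [HasFiniteCoproducts C]
    [HasColimitsOfShape (Finset (Discrete α)) C] (G : C ⥤ D) [PreservesFiniteCoproducts G]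
    [PreservesColimitsOfShape (Finset (Discrete α)) G] :
    PreservesColimitsOfShape (Discrete α) G := by
  constructor
  intro F
  refine preservesColimit_of_preserves_colimit_cocone (liftToFinsetColimitCocone F).isColimit ?_
  have h1 : IsColimit (G.mapCocone (colimit.cocone (liftToFinsetObj F))) :=
    isColimitOfPreserves G (colimit.isColimit _)
  have h2 : ∀ S : Finset (Discrete α),
      IsColimit (G.mapCocone (colimit.cocone (Discrete.functor fun x : S => F.obj x))) :=
    fun S => isColimitOfPreserves G (colimit.isColimit _)
  -- the legs
  let t : ∀ (s : Cocone (F ⋙ G)) (S : Finset (Discrete α)),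
      G.obj (∐ fun x : S => F.obj x) ⟶ s.pt := fun s S =>
    (h2 S).desc ⟨s.pt, Discrete.natTrans fun x => s.ι.app x.as.1⟩
  have ht : ∀ (s : Cocone (F ⋙ G)) (S : Finset (Discrete α)) (x : S),
      G.map (Sigma.ι (fun x : S => F.obj x) x) ≫ t s S = s.ι.app x.1 := by
    intro s S x
    exact (h2 S).fac ⟨s.pt, Discrete.natTrans fun x => s.ι.app x.as.1⟩ ⟨x⟩
  let cc : ∀ (s : Cocone (F ⋙ G)), Cocone (liftToFinsetObj F ⋙ G) := fun s =>
    { pt := s.pt
      ι :=
        { app := fun S => t s S
          naturality := by
            intro S S' h
            apply (h2 S).hom_ext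
            rintro ⟨x⟩
            simp only [Functor.mapCocone_pt, colimit.cocone_x, Functor.const_obj_obj,
              Functor.mapCocone_ι_app, colimit.cocone_ι, Functor.comp_obj, Functor.comp_map,
              Functor.const_obj_map, Category.comp_id]
            rw [← G.map_comp_assoc]
            have : colimit.ι (Discrete.functor fun x : S => F.obj x) ⟨x⟩ ≫
                (liftToFinsetObj F).map h =
                Sigma.ι (fun x : S' => F.obj x) ⟨x.1, h.down.down x.2⟩ := by
              simp [liftToFinsetObj]
            rw [this, ht s S' ⟨x.1, _⟩]
            exact (ht s S x).symm } }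
  exact
    { desc := fun s => h1.desc (cc s)
      fac := by
        intro s j
        simp only [Functor.mapCocone_pt, Functor.mapCocone_ι_app,
          liftToFinsetColimitCocone_cocone_ι_app, Functor.map_comp, Category.assoc]
        have := h1.fac (cc s) {j}
        simp only [Functor.mapCocone_pt, colimit.cocone_x, Functor.mapCocone_ι_app,
          colimit.cocone_ι] at this
        rw [this]
        exact ht s {j} ⟨j, by simp⟩
      uniq := by
        intro s m hm
        apply h1.hom_ext
        intro S
        rw [h1.fac]
        apply (h2 S).hom_ext
        rintro ⟨x⟩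
        simp only [Functor.mapCocone_pt, colimit.cocone_x, Functor.mapCocone_ι_app,
          colimit.cocone_ι]
        change G.map _ ≫ G.map _ ≫ m = G.map _ ≫ t s S
        rw [ht s S x, ← hm x.1]
        simp only [Functor.mapCocone_pt, Functor.mapCocone_ι_app,
          liftToFinsetColimitCocone_cocone_ι_app, Functor.map_comp, Category.assoc]
        have hle : ({x.1} : Finset (Discrete α)) ≤ S := by
          simpa using x.2
        have key : colimit.ι (Discrete.functor fun x : S => F.obj x) ⟨x⟩ ≫
            colimit.ι (liftToFinsetObj F) S =
            Sigma.ι (fun y : ({x.1} : Finset (Discrete α)) => F.obj y) ⟨x.1, by simp⟩ ≫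
              colimit.ι (liftToFinsetObj F) {x.1} := by
          rw [← colimit.w (liftToFinsetObj F) (homOfLE hle), ← Category.assoc]
          congr 1
          simp [liftToFinsetObj]
        have key' : G.map (colimit.ι (Discrete.functor fun x : S => F.obj x) ⟨x⟩) ≫
            G.map (colimit.ι (liftToFinsetObj F) S) =
            G.map (Sigma.ι (fun y : ({x.1} : Finset (Discrete α)) => F.obj y) ⟨x.1, by simp⟩) ≫
              G.map (colimit.ι (liftToFinsetObj F) {x.1}) := by
          rw [← G.map_comp, ← G.map_comp, key]
        exact (Category.assoc _ _ _).symm.trans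
          ((congrArg (fun f => f ≫ m) key').trans (Category.assoc _ _ _)) }

end Groth.Agent.Helper20.LcRep
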