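import Mathlib
import Groth.Prelude
import Groth.Agent.Lib.Helper20.LcRepA
import Groth.Agent.Lib.Helper20.LcRepB

/-!
# Representability of `E ↦ Hom_R(H^d_J(E), F)` (helper20)
-/

set_option autoImplicit false
set_option linter.style.haveILetI false

universe u

open CategoryTheory CategoryTheory.Limits

namespace Groth.Agent.Helper20.LcRep

open Groth.Agent.Helper8.LC

section

variable {S : Type u} [CommRing S] [IsNoetherianRing S] (J : Ideal S) (d : ℕ)

theorem preservesColimits_localCohomology
    (hcd : ∀ N : ModuleCat.{u} S, Subsingleton ((localCohomology J (d + 1)).obj N)) :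
    PreservesColimitsOfSize.{u, u} (localCohomology J d) := by
  haveI := preservesFiniteColimits_localCohomology J d hcd
  haveI : ∀ α : Type u, PreservesColimitsOfShape (Discrete α) (localCohomology J d) := by
    intro α
    haveI : PreservesColimitsOfShape (Finset (Discrete α)) (localCohomology J d) :=
      Groth.Agent.Helper17.DC.main11607 S J d (Finset (Discrete α))
    exact preservesColimitsOfShape_discrete_of_finset α (localCohomology J d)
  exact preservesColimits_of_preservesCoequalizers_and_coproducts (localCohomology J d)

/-- the cohomological dimension of an ideal contained in the radical of `(u₁, …, u_d)` -/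
theorem subsingleton_localCohomology_of_le_radical (u : Fin d → S) (hu : ∀ i, u i ∈ J)
    (hJ : J ≤ (Ideal.span (Set.range u)).radical) (N : ModuleCat.{u} S) (i : ℕ) (hi : d < i) :
    Subsingleton ((localCohomology J i).obj N) := by
  classical
  have hrad : J.radical = (Ideal.span ((Finset.univ.image u : Finset S) : Set S)).radical := by
    have h1 : ((Finset.univ.image u : Finset S) : Set S) = Set.range u := by
      ext x; simp
    rw [h1]
    apply le_antisymm
    · exact Ideal.radical_le_radical_iff.mpr hJ
    · apply Ideal.radical_mono
      rw [Ideal.span_le]
      rintro _ ⟨i, rfl⟩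
      exact hu i
  have hcard : (Finset.univ.image u : Finset S).card < i :=
    lt_of_le_of_lt (Finset.card_image_le.trans (by simp)) hi
  have h2 := H_span_finset_subsingleton (Finset.univ.image u : Finset S) N i hcard
  exact H_subsingleton_of_radical_eq hrad i N h2

end

theorem main (R S : Type u) [CommRing R] [CommRing S] [IsNoetherianRing S] [Algebra R S]
    (J : Ideal S) (d : ℕ) (u : Fin d → S) (hu : ∀ i, u i ∈ J)
    (hJ : J ≤ (Ideal.span (Set.range u)).radical)
    (F : Type u) [AddCommGroup F] [Module R F] :
    ((localCohomology J d ⋙ ModuleCat.restrictScalars (algebraMap R S)).op ⋙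
      yoneda.obj (ModuleCat.of R F)).IsRepresentable := by
  haveI : PreservesColimitsOfSize.{u, u} (localCohomology J d) :=
    preservesColimits_localCohomology J d
      (fun N => subsingleton_localCohomology_of_le_radical J d u hu hJ N (d + 1) (by omega))
  haveI : PreservesColimitsOfSize.{u, u}
      (localCohomology J d ⋙ ModuleCat.restrictScalars (algebraMap R S)) := inferInstance
  have hadj : (localCohomology J d ⋙ ModuleCat.restrictScalars (algebraMap R S)).IsLeftAdjoint :=
    isLeftAdjoint_of_preservesColimits_of_isSeparating (ModuleCat.isSeparator S) _
  exact ((Adjunction.ofIsLeftAdjoint _).representableBy (ModuleCat.of R F)).isRepresentable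

end Groth.Agent.Helper20.LcRep
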