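import Mathlib

/-!
# Kernel of the restriction map on symmetric algebras is generated by maximal minors
-/

set_option autoImplicit false

namespace Groth.Agent.Helper20.LefMin

open MvPolynomial

/-- the determinant of a product of non-square matrices lies in the ideal of maximal minors -/
theorem det_mul_mem_span {P : Type*} [CommRing P] {n k : Type*} [Fintype n] [DecidableEq n]
    [Fintype k] [DecidableEq k] (T : Matrix n k P) (U : Matrix k n P) :
    (T * U).det ∈ Ideal.span (Set.range fun c : n → k => (Matrix.of fun i j => T i (c j)).det) := by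
  classical
  have h : (T * U).det =
      ∑ c : n → k, (∏ i, U (c i) i) * (Matrix.of fun i j => T i (c j)).det := by
    simp only [Matrix.det_apply', Matrix.mul_apply, Finset.prod_univ_sum, Finset.mul_sum,
      Fintype.piFinset_univ, Matrix.of_apply]
    rw [Finset.sum_comm]
    apply Finset.sum_congr rfl
    intro c _
    apply Finset.sum_congr rfl
    intro σ _
    rw [Finset.prod_mul_distrib]
    ring
  rw [h]
  exact Ideal.sum_mem _ fun c _ => Ideal.mul_mem_left _ _ (Ideal.subset_span ⟨c, rfl⟩)

/-- determinant of a matrix bordering an identity block -/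
theorem det_bordered {P : Type*} [CommRing P] {s : ℕ} (W : Matrix (Fin (s + 1)) (Fin (s + 1)) P)
    (v w : Fin s → P) (x : P)
    (h11 : ∀ i k : Fin s, W i.castSucc k.castSucc = if i = k then 1 else 0)
    (h12 : ∀ i : Fin s, W i.castSucc (Fin.last s) = v i)
    (h21 : ∀ k : Fin s, W (Fin.last s) k.castSucc = w k)
    (h22 : W (Fin.last s) (Fin.last s) = x) :
    W.det = x - ∑ i, w i * v i := by
  have hl : ∀ a : Fin 1, (finSumFinEquiv (Sum.inr a) : Fin (s + 1)) = Fin.last s := by
    intro a
    rw [finSumFinEquiv_apply_right]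
    apply Fin.ext
    simp
  have hc : ∀ a : Fin s, (finSumFinEquiv (Sum.inl a) : Fin (s + 1)) = a.castSucc := by
    intro a
    rw [finSumFinEquiv_apply_left]
    rfl
  have e : W.submatrix finSumFinEquiv finSumFinEquiv =
      Matrix.fromBlocks (1 : Matrix (Fin s) (Fin s) P) (Matrix.of fun i (_ : Fin 1) => v i)
        (Matrix.of fun (_ : Fin 1) k => w k) (Matrix.of fun (_ _ : Fin 1) => x) := by
    ext a b
    rcases a with a | a <;> rcases b with b | b
    · rw [Matrix.submatrix_apply, hc, hc, h11, Matrix.fromBlocks_apply₁₁, Matrix.one_apply]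
    · rw [Matrix.submatrix_apply, hc, hl, h12, Matrix.fromBlocks_apply₁₂, Matrix.of_apply]
    · rw [Matrix.submatrix_apply, hl, hc, h21, Matrix.fromBlocks_apply₂₁, Matrix.of_apply]
    · rw [Matrix.submatrix_apply, hl, hl, h22, Matrix.fromBlocks_apply₂₂, Matrix.of_apply]
  rw [← Matrix.det_submatrix_equiv_self finSumFinEquiv W, e, Matrix.det_fromBlocks_one₁₁,
    Matrix.det_fin_one]
  simp [Matrix.mul_apply]

variable {A : Type*} [CommRing A] {N s : ℕ}

/-- a linear retraction onto the span of a linearly independent family with projective quotient,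
in coordinates -/
theorem exists_retraction (m : Fin s → (Fin (N + 1) → A)) (hli : LinearIndependent A m)
    (hproj : Module.Projective A ((Fin (N + 1) → A) ⧸ Submodule.span A (Set.range m))) :
    ∃ R : Fin s → Fin (N + 1) → A, ∀ i k, ∑ l, R i l * m k l = if k = i then 1 else 0 := by
  classical
  set M := Submodule.span A (Set.range m) with hM
  obtain ⟨σ, hσ⟩ := Module.projective_lifting_property M.mkQ LinearMap.id
    (Submodule.mkQ_surjective M)
  have hσ' : ∀ y, M.mkQ (σ y) = y := fun y => LinearMap.congr_fun hσ y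
  let π : (Fin (N + 1) → A) →ₗ[A] (Fin (N + 1) → A) := LinearMap.id - σ ∘ₗ M.mkQ
  have hπ : ∀ x, π x = x - σ (M.mkQ x) := fun x => rfl
  have hρ : ∀ x, π x ∈ M := by
    intro x
    rw [← Submodule.ker_mkQ M, LinearMap.mem_ker, hπ, map_sub, hσ', sub_self]
  let b := Module.Basis.span hli
  let ρ : (Fin (N + 1) → A) →ₗ[A] M := LinearMap.codRestrict M π hρ
  let f : Fin s → (Fin (N + 1) → A) →ₗ[A] A := fun i =>
    (Finsupp.lapply i) ∘ₗ b.repr.toLinearMap ∘ₗ ρ
  refine ⟨fun i l => f i (fun j => if l = j then 1 else 0), ?_⟩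
  intro i k
  have h1 : f i (m k) = ∑ l, m k l • f i (fun j => if l = j then 1 else 0) :=
    LinearMap.pi_apply_eq_sum_univ (f i) (m k)
  have hmk : m k ∈ M := Submodule.subset_span ⟨k, rfl⟩
  have h2 : ρ (m k) = b k := by
    apply Subtype.ext
    have : M.mkQ (m k) = 0 := by
      rw [← LinearMap.mem_ker, Submodule.ker_mkQ]; exact hmk
    simp only [ρ, b, LinearMap.codRestrict_apply, hπ, this, map_zero, sub_zero,
      Module.Basis.span_apply]
  have h3 : f i (m k) = if k = i then 1 else 0 := by
    simp only [f, LinearMap.comp_apply, LinearEquiv.coe_coe, h2, Module.Basis.repr_self,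
      Finsupp.lapply_apply, Finsupp.single_apply]
  rw [← h3, h1]
  apply Finset.sum_congr rfl
  intro l _
  rw [smul_eq_mul, mul_comm]

/-- the statement with an explicit retraction -/
theorem ker_eq_span_of_retraction (m : Fin s → (Fin (N + 1) → A)) (R : Fin s → Fin (N + 1) → A)
    (hR : ∀ i k, ∑ l, R i l * m k l = if k = i then 1 else 0) :
    RingHom.ker (MvPolynomial.aeval (R := A) (S₁ := MvPolynomial (Fin s) A)
        (fun j : Fin (N + 1) => ∑ i : Fin s, MvPolynomial.C (m i j) * MvPolynomial.X i)) =
      Ideal.span (Set.range fun c : Fin (s + 1) → Fin (N + 1) =>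
        (Matrix.of fun (i : Fin (s + 1)) (j : Fin (s + 1)) =>
          (Fin.snoc (α := fun _ => MvPolynomial (Fin (N + 1)) A)
            (fun i' : Fin s => MvPolynomial.C (m i' (c j))) (MvPolynomial.X (c j)) i)).det) := by
  classical
  set φ : MvPolynomial (Fin (N + 1)) A →ₐ[A] MvPolynomial (Fin s) A :=
    MvPolynomial.aeval (fun j : Fin (N + 1) => ∑ i : Fin s, C (m i j) * X i) with hφ
  set I : Ideal (MvPolynomial (Fin (N + 1)) A) :=
    Ideal.span (Set.range fun c : Fin (s + 1) → Fin (N + 1) =>
        (Matrix.of fun (i : Fin (s + 1)) (j : Fin (s + 1)) =>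
          (Fin.snoc (α := fun _ => MvPolynomial (Fin (N + 1)) A)
            (fun i' : Fin s => C (m i' (c j))) (X (c j)) i)).det) with hI
  let ψ : MvPolynomial (Fin s) A →ₐ[A] MvPolynomial (Fin (N + 1)) A :=
    MvPolynomial.aeval (fun i : Fin s => ∑ l : Fin (N + 1), X l * C (R i l))
  let T : Matrix (Fin (s + 1)) (Fin (N + 1)) (MvPolynomial (Fin (N + 1)) A) := Matrix.of fun i l =>
    Fin.snoc (α := fun _ => MvPolynomial (Fin (N + 1)) A) (fun i' : Fin s => C (m i' l)) (X l) i
  -- the linear forms `X j - ψ (φ (X j))` lie in `I`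
  have hL : ∀ j : Fin (N + 1), X j - ψ (φ (X j)) ∈ I := by
    intro j
    let U : Matrix (Fin (N + 1)) (Fin (s + 1)) (MvPolynomial (Fin (N + 1)) A) := Matrix.of fun l k =>
      Fin.snoc (α := fun _ => MvPolynomial (Fin (N + 1)) A) (fun k' : Fin s => C (R k' l))
        (if l = j then 1 else 0) k
    have hdet : (T * U).det = X j - ∑ i : Fin s, (∑ l, X l * C (R i l)) * C (m i j) := by
      apply det_bordered
      · intro i k
        simp only [Matrix.mul_apply, T, U, Matrix.of_apply, Fin.snoc_castSucc]
        simp_rw [← C_mul]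
        rw [← map_sum]
        have := hR k i
        simp_rw [mul_comm (m i _)]
        rw [this]
        split_ifs <;> simp
      · intro i
        simp only [Matrix.mul_apply, T, U, Matrix.of_apply, Fin.snoc_castSucc, Fin.snoc_last]
        simp
      · intro k
        simp only [Matrix.mul_apply, T, U, Matrix.of_apply, Fin.snoc_castSucc, Fin.snoc_last]
      · simp only [Matrix.mul_apply, T, U, Matrix.of_apply, Fin.snoc_last]
        simp
    have hmem := det_mul_mem_span T U
    have e : X j - ψ (φ (X j)) = (T * U).det := by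
      rw [hdet, hφ, aeval_X, map_sum]
      congr 1
      apply Finset.sum_congr rfl
      intro i _
      rw [map_mul, MvPolynomial.algHom_C, aeval_X, mul_comm, MvPolynomial.algebraMap_eq]
    rw [e]
    exact hmem
  -- hence every polynomial is congruent to `ψ (φ p)` modulo `I`
  have hcong : ∀ p : MvPolynomial (Fin (N + 1)) A, p - ψ (φ p) ∈ I := by
    intro p
    induction p using MvPolynomial.induction_on with
    | C a =>
      rw [MvPolynomial.algHom_C, AlgHom.commutes, MvPolynomial.algebraMap_eq, sub_self]
      exact zero_mem _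
    | add p q hp hq =>
      rw [map_add, map_add]
      have : p + q - (ψ (φ p) + ψ (φ q)) = (p - ψ (φ p)) + (q - ψ (φ q)) := by ring
      rw [this]
      exact add_mem hp hq
    | mul_X p j hp =>
      rw [map_mul, map_mul]
      have : p * X j - ψ (φ p) * ψ (φ (X j)) =
          (p - ψ (φ p)) * X j + ψ (φ p) * (X j - ψ (φ (X j))) := by ring
      rw [this]
      exact add_mem (Ideal.mul_mem_right _ _ hp) (Ideal.mul_mem_left _ _ (hL j))
  apply le_antisymm
  · intro p hp
    rw [RingHom.mem_ker] at hp
    have := hcong p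
    have hp' : φ p = 0 := hp
    rwa [hp', map_zero, sub_zero] at this
  · rw [hI, Ideal.span_le]
    rintro _ ⟨c, rfl⟩
    rw [SetLike.mem_coe, RingHom.mem_ker]
    change φ _ = 0
    rw [AlgHom.map_det]
    set M' := φ.mapMatrix (Matrix.of fun (i : Fin (s + 1)) (j : Fin (s + 1)) =>
          (Fin.snoc (α := fun _ => MvPolynomial (Fin (N + 1)) A)
            (fun i' : Fin s => C (m i' (c j))) (X (c j)) i)) with hM'
    have hrow : ∀ (i' : Fin s) (k : Fin (s + 1)), M' i'.castSucc k = C (m i' (c k)) := by
      intro i' k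
      simp only [hM', AlgHom.mapMatrix_apply, Matrix.map_apply, Matrix.of_apply, Fin.snoc_castSucc,
        MvPolynomial.algHom_C, MvPolynomial.algebraMap_eq]
    have hlast : ∀ k : Fin (s + 1), M' (Fin.last s) k = ∑ i : Fin s, C (m i (c k)) * X i := by
      intro k
      simp only [hM', AlgHom.mapMatrix_apply, Matrix.map_apply, Matrix.of_apply, Fin.snoc_last, hφ,
        aeval_X]
    set B := M'.updateRow (Fin.last s) 0 with hB
    let cf : Fin (s + 1) → MvPolynomial (Fin s) A :=
      Fin.snoc (α := fun _ => MvPolynomial (Fin s) A) (fun i' : Fin s => X i') 0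
    have hMB : M' = B.updateRow (Fin.last s) (∑ k, cf k • B k) := by
      refine Matrix.ext fun a k => ?_
      by_cases ha : a = Fin.last s
      · subst ha
        rw [Matrix.updateRow_self, hlast, Finset.sum_apply, Fin.sum_univ_castSucc]
        simp only [cf, Fin.snoc_castSucc, Fin.snoc_last, Pi.smul_apply, smul_eq_mul]
        rw [zero_mul, add_zero]
        apply Finset.sum_congr rfl
        intro i _
        rw [hB, Matrix.updateRow_ne (Fin.castSucc_lt_last i).ne, hrow, mul_comm]
      · rw [Matrix.updateRow_ne ha, hB, Matrix.updateRow_ne ha]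
    rw [hMB, Matrix.det_updateRow_sum]
    simp only [cf, Fin.snoc_last, zero_smul]

theorem ker_eq_span (m : Fin s → (Fin (N + 1) → A)) (hli : LinearIndependent A m)
    (hproj : Module.Projective A ((Fin (N + 1) → A) ⧸ Submodule.span A (Set.range m))) :
    RingHom.ker (MvPolynomial.aeval (R := A) (S₁ := MvPolynomial (Fin s) A)
        (fun j : Fin (N + 1) => ∑ i : Fin s, MvPolynomial.C (m i j) * MvPolynomial.X i)) =
      Ideal.span (Set.range fun c : Fin (s + 1) → Fin (N + 1) =>
        (Matrix.of fun (i : Fin (s + 1)) (j : Fin (s + 1)) =>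
          (Fin.snoc (α := fun _ => MvPolynomial (Fin (N + 1)) A)
            (fun i' : Fin s => MvPolynomial.C (m i' (c j))) (MvPolynomial.X (c j)) i)).det) := by
  obtain ⟨R, hR⟩ := exists_retraction m hli hproj
  exact ker_eq_span_of_retraction m R hR

end Groth.Agent.Helper20.LefMin
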