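import Mathlib

/-!
# `π`-adic expansions with coefficients in a field of representatives

For a commutative ring `V` with an element `π`, a field `k` and a `k`-algebra structure on `V` such
that every element of `V` is congruent to a constant modulo `π` and `π ^ d * c ∉ (π ^ (d + 1))` for
every nonzero constant `c`, we construct a `k`-algebra map `V → k⟦X⟧` sending `π` to `X`, under which
`(X ^ N)` pulls back to `(π ^ N)`.
-/

set_option autoImplicit false
universe u

namespace Groth.Agent.Helper20.MCrossA

open PowerSeries

variable {k V : Type u} [Field k] [CommRing V] [Algebra k V] (π : V)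

/-- `f` is a `π`-adic expansion of `v`. -/
def Rep (v : V) (f : PowerSeries k) : Prop :=
  ∀ N : ℕ, v - Polynomial.aeval π (trunc N f) ∈ Ideal.span {π ^ N}

lemma aeval_mem_of_X_pow_dvd {p : Polynomial k} {N : ℕ} (h : Polynomial.X ^ N ∣ p) :
    Polynomial.aeval π p ∈ Ideal.span {π ^ N} := by
  obtain ⟨q, rfl⟩ := h
  rw [map_mul, map_pow, Polynomial.aeval_X]
  exact Ideal.mul_mem_right _ _ (Ideal.mem_span_singleton_self _)

lemma X_pow_dvd_sub_trunc (p : Polynomial k) (N : ℕ) :
    Polynomial.X ^ N ∣ p - trunc N (p : PowerSeries k) := by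
  rw [Polynomial.X_pow_dvd_iff]
  intro d hd
  rw [Polynomial.coeff_sub, coeff_trunc, if_pos hd, Polynomial.coeff_coe, sub_self]

lemma X_pow_dvd_sub_coe_trunc (f : PowerSeries k) (N : ℕ) :
    (X : PowerSeries k) ^ N ∣ f - ((trunc N f : Polynomial k) : PowerSeries k) := by
  rw [X_pow_dvd_iff]
  intro m hm
  rw [map_sub, Polynomial.coeff_coe, coeff_trunc, if_pos hm, sub_self]

variable {π}

lemma Rep.add {v w : V} {f g : PowerSeries k} (hf : Rep π v f) (hg : Rep π w g) :
    Rep π (v + w) (f + g) := by
  intro N
  have h : v + w - Polynomial.aeval π (trunc N (f + g)) =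
      (v - Polynomial.aeval π (trunc N f)) + (w - Polynomial.aeval π (trunc N g)) := by
    rw [map_add, map_add]; ring
  rw [h]
  exact add_mem (hf N) (hg N)

lemma Rep.sub {v w : V} {f g : PowerSeries k} (hf : Rep π v f) (hg : Rep π w g) :
    Rep π (v - w) (f - g) := by
  intro N
  have h : v - w - Polynomial.aeval π (trunc N (f - g)) =
      (v - Polynomial.aeval π (trunc N f)) - (w - Polynomial.aeval π (trunc N g)) := by
    rw [trunc_sub, map_sub]; ring
  rw [h]
  exact sub_mem (hf N) (hg N)

lemma Rep.mul {v w : V} {f g : PowerSeries k} (hf : Rep π v f) (hg : Rep π w g) :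
    Rep π (v * w) (f * g) := by
  intro N
  have h1 : trunc N (f * g) = trunc N ((trunc N f * trunc N g : Polynomial k) : PowerSeries k) := by
    rw [Polynomial.coe_mul, trunc_trunc_mul_trunc]
  have h2 : Polynomial.aeval π (trunc N f * trunc N g) - Polynomial.aeval π (trunc N (f * g)) ∈
      Ideal.span {π ^ N} := by
    rw [h1, ← map_sub]
    exact aeval_mem_of_X_pow_dvd π (X_pow_dvd_sub_trunc (trunc N f * trunc N g) N)
  have h3 : v * w - Polynomial.aeval π (trunc N (f * g)) =
      (v - Polynomial.aeval π (trunc N f)) * w +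
        Polynomial.aeval π (trunc N f) * (w - Polynomial.aeval π (trunc N g)) +
      (Polynomial.aeval π (trunc N f * trunc N g) - Polynomial.aeval π (trunc N (f * g))) := by
    rw [map_mul (Polynomial.aeval π)]; ring
  rw [h3]
  exact add_mem (add_mem (Ideal.mul_mem_right _ _ (hf N)) (Ideal.mul_mem_left _ _ (hg N))) h2

variable (π)

lemma rep_aeval (p : Polynomial k) : Rep π (Polynomial.aeval π p) (p : PowerSeries k) := by
  intro N
  rw [← map_sub]
  exact aeval_mem_of_X_pow_dvd π (X_pow_dvd_sub_trunc p N)

section Sep

variable (hsep : ∀ (d : ℕ) (c : k), c ≠ 0 → π ^ d * algebraMap k V c ∉ Ideal.span {π ^ (d + 1)})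

include hsep in
lemma coeff_eq_zero_of_rep {v : V} {f : PowerSeries k} (hf : Rep π v f) (N : ℕ)
    (hv : v ∈ Ideal.span {π ^ N}) : ∀ d, d < N → coeff d f = 0 := by
  intro d
  induction d using Nat.strong_induction_on with
  | _ d ih =>
    intro hd
    by_contra hc
    have htr : trunc (d + 1) f = Polynomial.monomial d (coeff d f) := by
      ext j
      rw [coeff_trunc, Polynomial.coeff_monomial]
      by_cases hj : j < d + 1
      · rw [if_pos hj]
        by_cases hjd : j = d
        · rw [hjd, if_pos rfl]
        · rw [if_neg (fun h => hjd h.symm)]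
          exact ih j (by omega) (by omega)
      · rw [if_neg hj, if_neg (by omega)]
    have h1 := hf (d + 1)
    rw [htr, Polynomial.aeval_monomial] at h1
    have hv' : v ∈ Ideal.span {π ^ (d + 1)} := by
      have hle : Ideal.span {π ^ N} ≤ Ideal.span {π ^ (d + 1)} := by
        rw [Ideal.span_singleton_le_span_singleton]
        exact pow_dvd_pow π (by omega)
      exact hle hv
    have h2 : π ^ d * algebraMap k V (coeff d f) ∈ Ideal.span {π ^ (d + 1)} := by
      have h3 := sub_mem hv' h1
      rw [sub_sub_cancel] at h3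
      rw [mul_comm]; exact h3
    exact hsep d _ hc h2

include hsep in
lemma rep_unique {v : V} {f g : PowerSeries k} (hf : Rep π v f) (hg : Rep π v g) : f = g := by
  have h0 : Rep π (v - v) (f - g) := hf.sub hg
  rw [sub_self] at h0
  rw [← sub_eq_zero]
  ext d
  rw [map_zero]
  exact coeff_eq_zero_of_rep π hsep h0 (d + 1) (Ideal.zero_mem _) d (Nat.lt_succ_self d)

variable (hdig : ∀ v : V, ∃ c : k, ∃ w : V, v = algebraMap k V c + π * w)

/-- the constant digit -/
noncomputable def dig (v : V) : k := Classical.choose (hdig v)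

/-- the remainder -/
noncomputable def nxt (v : V) : V := Classical.choose (Classical.choose_spec (hdig v))

lemma dig_nxt (v : V) : v = algebraMap k V (dig π hdig v) + π * nxt π hdig v :=
  Classical.choose_spec (Classical.choose_spec (hdig v))

/-- the expansion -/
noncomputable def ser (v : V) : PowerSeries k :=
  PowerSeries.mk fun j => dig π hdig ((nxt π hdig)^[j] v)

lemma ser_spec (v : V) (N : ℕ) :
    v - Polynomial.aeval π (trunc N (ser π hdig v)) = π ^ N * (nxt π hdig)^[N] v := by
  induction N with
  | zero => simp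
  | succ N ih =>
    rw [trunc_succ, map_add, Polynomial.aeval_monomial, ← sub_sub, ih, ser, coeff_mk,
      Function.iterate_succ_apply', pow_succ]
    have h := dig_nxt π hdig ((nxt π hdig)^[N] v)
    generalize (nxt π hdig)^[N] v = w at h ⊢
    linear_combination (π ^ N) * h

lemma rep_ser (v : V) : Rep π v (ser π hdig v) := by
  intro N
  rw [ser_spec]
  exact Ideal.mul_mem_right _ _ (Ideal.mem_span_singleton_self _)

/-- the expansion map as an algebra homomorphism -/
noncomputable def psi : V →ₐ[k] PowerSeries k where
  toFun := ser π hdig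
  map_one' := rep_unique π hsep (rep_ser π hdig 1) (by simpa using rep_aeval π (1 : Polynomial k))
  map_mul' v w := rep_unique π hsep (rep_ser π hdig (v * w))
    ((rep_ser π hdig v).mul (rep_ser π hdig w))
  map_zero' := rep_unique π hsep (rep_ser π hdig 0) (by simpa using rep_aeval π (0 : Polynomial k))
  map_add' v w := rep_unique π hsep (rep_ser π hdig (v + w))
    ((rep_ser π hdig v).add (rep_ser π hdig w))
  commutes' c := rep_unique π hsep (rep_ser π hdig _)
    (by simpa using rep_aeval π (Polynomial.C c))

lemma psi_apply (v : V) : psi π hsep hdig v = ser π hdig v := rfl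

lemma psi_aeval (p : Polynomial k) :
    psi π hsep hdig (Polynomial.aeval π p) = (p : PowerSeries k) :=
  rep_unique π hsep (rep_ser π hdig _) (rep_aeval π p)

lemma X_pow_dvd_psi_iff (v : V) (N : ℕ) :
    (X : PowerSeries k) ^ N ∣ psi π hsep hdig v ↔ v ∈ Ideal.span {π ^ N} := by
  rw [psi_apply]
  constructor
  · intro h
    have htr : trunc N (ser π hdig v) = 0 := by
      ext j
      rw [coeff_trunc, Polynomial.coeff_zero]
      split_ifs with hj
      · exact (X_pow_dvd_iff.mp h) j hj
      · rfl
    have h1 := rep_ser π hdig v N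
    rwa [htr, map_zero, sub_zero] at h1
  · intro hv
    rw [X_pow_dvd_iff]
    exact coeff_eq_zero_of_rep π hsep (rep_ser π hdig v) N hv

end Sep

end Groth.Agent.Helper20.MCrossA
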