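import Mathlib
import Groth.Agent.Lib.Helper20.MCrossA

/-!
# Expansion maps at a maximal ideal whose localization is a discrete valuation ring
-/

set_option autoImplicit false
universe u

namespace Groth.Agent.Helper20.MCrossB

open PowerSeries

theorem exists_psi {k B : Type u} [Field k] [CommRing B] [Algebra k B] (m' : MaximalSpectrum B)
    (hdvr : ∃ _ : IsDomain (Localization.AtPrime m'.asIdeal),
      IsDiscreteValuationRing (Localization.AtPrime m'.asIdeal))
    (hres : ∀ b : B, ∃ c : k, b - algebraMap k B c ∈ m'.asIdeal) :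
    ∃ (ψ : B →ₐ[k] PowerSeries k) (ϖ : B),
      (∀ (b : B) (N : ℕ), (X : PowerSeries k) ^ N ∣ ψ b ↔ b ∈ m'.asIdeal ^ N) ∧
      (∀ p : Polynomial k, ψ (Polynomial.aeval ϖ p) = (p : PowerSeries k)) := by
  classical
  haveI := m'.isMaximal
  obtain ⟨hdom, hD⟩ := hdvr
  obtain ⟨ϖ₀, hϖ₀⟩ := IsDiscreteValuationRing.exists_irreducible (Localization.AtPrime m'.asIdeal)
  obtain ⟨b₀, s₀, hbs⟩ := IsLocalization.exists_mk'_eq m'.asIdeal.primeCompl ϖ₀
  have hπ : algebraMap B (Localization.AtPrime m'.asIdeal) b₀ =
      ϖ₀ * algebraMap B (Localization.AtPrime m'.asIdeal) s₀ := by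
    rw [← hbs, IsLocalization.mk'_spec]
  have hsu : IsUnit (algebraMap B (Localization.AtPrime m'.asIdeal) (s₀ : B)) :=
    IsLocalization.map_units (Localization.AtPrime m'.asIdeal) s₀
  have hirr : Irreducible (algebraMap B (Localization.AtPrime m'.asIdeal) b₀) := by
    rw [hπ]
    exact (irreducible_mul_isUnit hsu).mpr hϖ₀
  have hmax : IsLocalRing.maximalIdeal (Localization.AtPrime m'.asIdeal) =
      Ideal.span {algebraMap B (Localization.AtPrime m'.asIdeal) b₀} := hirr.maximalIdeal_eq
  have hsep : ∀ (d : ℕ) (c : k), c ≠ 0 →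
      (algebraMap B (Localization.AtPrime m'.asIdeal) b₀) ^ d *
        algebraMap k (Localization.AtPrime m'.asIdeal) c ∉
      Ideal.span {(algebraMap B (Localization.AtPrime m'.asIdeal) b₀) ^ (d + 1)} := by
    intro d c hc hmem
    rw [Ideal.mem_span_singleton'] at hmem
    obtain ⟨z, hz⟩ := hmem
    have h1 : (algebraMap B (Localization.AtPrime m'.asIdeal) b₀) ^ d *
        (z * algebraMap B (Localization.AtPrime m'.asIdeal) b₀) =
        (algebraMap B (Localization.AtPrime m'.asIdeal) b₀) ^ d *
          algebraMap k (Localization.AtPrime m'.asIdeal) c := by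
      rw [← hz, pow_succ]; ring
    have h2 := mul_left_cancel₀ (pow_ne_zero d hirr.ne_zero) h1
    have h3 : algebraMap k (Localization.AtPrime m'.asIdeal) c ∈
        IsLocalRing.maximalIdeal (Localization.AtPrime m'.asIdeal) := by
      rw [hmax, ← h2]
      exact Ideal.mul_mem_left _ _ (Ideal.mem_span_singleton_self _)
    have h4 : IsUnit (algebraMap k (Localization.AtPrime m'.asIdeal) c) :=
      (IsUnit.mk0 c hc).map (algebraMap k (Localization.AtPrime m'.asIdeal))
    exact (IsLocalRing.mem_maximalIdeal _).mp h3 h4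
  have hdig : ∀ v : Localization.AtPrime m'.asIdeal, ∃ c : k,
      ∃ w : Localization.AtPrime m'.asIdeal,
        v = algebraMap k (Localization.AtPrime m'.asIdeal) c +
          algebraMap B (Localization.AtPrime m'.asIdeal) b₀ * w := by
    intro v
    obtain ⟨b, hb⟩ := Ideal.algebraMap_residueField_surjective m'.asIdeal
      (IsLocalRing.residue (Localization.AtPrime m'.asIdeal) v)
    rw [IsScalarTower.algebraMap_apply B (Localization.AtPrime m'.asIdeal)
      m'.asIdeal.ResidueField, IsLocalRing.ResidueField.algebraMap_eq] at hb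
    have h1 : v - algebraMap B (Localization.AtPrime m'.asIdeal) b ∈
        IsLocalRing.maximalIdeal (Localization.AtPrime m'.asIdeal) := by
      rw [← IsLocalRing.residue_eq_zero_iff, map_sub, hb, sub_self]
    obtain ⟨c, hc⟩ := hres b
    have h2 : algebraMap B (Localization.AtPrime m'.asIdeal) (b - algebraMap k B c) ∈
        IsLocalRing.maximalIdeal (Localization.AtPrime m'.asIdeal) :=
      (IsLocalization.AtPrime.to_map_mem_maximal_iff _ m'.asIdeal _).mpr hc
    have h3 : v - algebraMap k (Localization.AtPrime m'.asIdeal) c ∈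
        IsLocalRing.maximalIdeal (Localization.AtPrime m'.asIdeal) := by
      have h4 : v - algebraMap k (Localization.AtPrime m'.asIdeal) c =
          (v - algebraMap B (Localization.AtPrime m'.asIdeal) b) +
            algebraMap B (Localization.AtPrime m'.asIdeal) (b - algebraMap k B c) := by
        rw [map_sub, ← IsScalarTower.algebraMap_apply k B (Localization.AtPrime m'.asIdeal)]
        ring
      rw [h4]
      exact add_mem h1 h2
    rw [hmax, Ideal.mem_span_singleton'] at h3
    obtain ⟨w, hw⟩ := h3
    refine ⟨c, w, ?_⟩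
    rw [mul_comm, hw]
    ring
  refine ⟨(MCrossA.psi _ hsep hdig).comp
    (IsScalarTower.toAlgHom k B (Localization.AtPrime m'.asIdeal)), b₀, ?_, ?_⟩
  · intro b N
    rw [AlgHom.comp_apply, MCrossA.X_pow_dvd_psi_iff, IsScalarTower.coe_toAlgHom',
      ← Ideal.span_singleton_pow, ← hmax,
      ← IsLocalization.AtPrime.under_maximalIdeal_pow m'.asIdeal
        (Localization.AtPrime m'.asIdeal) N]
    rfl
  · intro p
    rw [AlgHom.comp_apply, ← Polynomial.aeval_algHom_apply, IsScalarTower.coe_toAlgHom',
      MCrossA.psi_aeval]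

end Groth.Agent.Helper20.MCrossB
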