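import Mathlib
import Groth.Agent.Lib.Helper20.MCrossB

/-!
# The completion of a local ring whose normalization is a wedge of discrete valuation rings
-/

set_option autoImplicit false
universe u

namespace Groth.Agent.Helper20.MCrossC

open PowerSeries

section PS

variable {k : Type u} [Field k]

lemma eq_of_forall_dvd {f g : PowerSeries k} (h : ∀ N : ℕ, (X : PowerSeries k) ^ N ∣ f - g) :
    f = g := by
  rw [← sub_eq_zero]
  ext d
  rw [map_zero]
  exact (X_pow_dvd_iff.mp (h (d + 1))) d (Nat.lt_succ_self d)

lemma dvd_mul_sub_mul {N : ℕ} {f f' g g' : PowerSeries k} (h1 : (X : PowerSeries k) ^ N ∣ f - f')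
    (h2 : (X : PowerSeries k) ^ N ∣ g - g') : (X : PowerSeries k) ^ N ∣ f * g - f' * g' := by
  have h : f * g - f' * g' = (f - f') * g + f' * (g - g') := by ring
  rw [h]
  exact dvd_add (Dvd.dvd.mul_right h1 g) (Dvd.dvd.mul_left h2 f')

end PS

/-- a ring isomorphism induces a bijection on maximal spectra -/
def maxSpecEquiv {R S : Type*} [CommRing R] [CommRing S] (e : R ≃+* S) :
    MaximalSpectrum R ≃ MaximalSpectrum S where
  toFun m := ⟨Ideal.comap e.symm.toRingHom m.asIdeal, by
    haveI := m.isMaximal
    exact Ideal.comap_isMaximal_of_surjective _ e.symm.surjective⟩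
  invFun m := ⟨Ideal.comap e.toRingHom m.asIdeal, by
    haveI := m.isMaximal
    exact Ideal.comap_isMaximal_of_surjective _ e.surjective⟩
  left_inv m := MaximalSpectrum.ext (by
    ext x
    show e.symm (e x) ∈ m.asIdeal ↔ x ∈ m.asIdeal
    rw [RingEquiv.symm_apply_apply])
  right_inv m := MaximalSpectrum.ext (by
    ext x
    show e (e.symm x) ∈ m.asIdeal ↔ x ∈ m.asIdeal
    rw [RingEquiv.apply_symm_apply])

theorem main {k A B : Type u} [Field k] [CommRing A] [IsLocalRing A] [CommRing B] [Algebra k A]
    [Algebra A B] [Algebra k B] [IsScalarTower k A B]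
    (hinj : Function.Injective (algebraMap A B))
    (n : ℕ) (e : Fin n ≃ MaximalSpectrum B)
    (hlo : ∀ m' : MaximalSpectrum B,
      m'.asIdeal.comap (algebraMap A B) = IsLocalRing.maximalIdeal A)
    (hdvr : ∀ m' : MaximalSpectrum B, ∃ _ : IsDomain (Localization.AtPrime m'.asIdeal),
      IsDiscreteValuationRing (Localization.AtPrime m'.asIdeal))
    (hsurj : ∀ (m' : MaximalSpectrum B) (b : B), ∃ a : A, b - algebraMap A B a ∈ m'.asIdeal)
    (hresA : ∀ a : A, ∃ c : k, a - algebraMap k A c ∈ IsLocalRing.maximalIdeal A)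
    (hJ : ∀ b : B, (∀ m' : MaximalSpectrum B, b ∈ m'.asIdeal) → ∃ a : A, algebraMap A B a = b) :
    ∃ φ : AdicCompletion (IsLocalRing.maximalIdeal A) A →+* (Fin n → PowerSeries k),
      Function.Injective φ ∧
      (∀ c : k, φ (algebraMap A (AdicCompletion (IsLocalRing.maximalIdeal A) A)
          (algebraMap k A c)) = fun _ => algebraMap k (PowerSeries k) c) ∧
      Set.range φ = {f : Fin n → PowerSeries k |
        ∀ i j : Fin n, PowerSeries.constantCoeff (f i) = PowerSeries.constantCoeff (f j)} := by
  classical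
  set m := IsLocalRing.maximalIdeal A with hm
  haveI : Fintype (MaximalSpectrum B) := Fintype.ofEquiv (Fin n) e
  haveI : Nontrivial B := hinj.nontrivial
  have hC2 : ∀ (m' : MaximalSpectrum B) (N : ℕ) (a : A), a ∈ m ^ N →
      algebraMap A B a ∈ m'.asIdeal ^ N := by
    intro m' N a ha
    have h1 : Ideal.map (algebraMap A B) m ≤ m'.asIdeal := by
      rw [Ideal.map_le_iff_le_comap, hlo m']
    have h2 : algebraMap A B a ∈ Ideal.map (algebraMap A B) (m ^ N) := Ideal.mem_map_of_mem _ ha
    rw [Ideal.map_pow] at h2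
    exact Ideal.pow_right_mono h1 N h2
  have hres : ∀ (m' : MaximalSpectrum B) (b : B), ∃ c : k, b - algebraMap k B c ∈ m'.asIdeal := by
    intro m' b
    obtain ⟨a, ha⟩ := hsurj m' b
    obtain ⟨c, hc⟩ := hresA a
    refine ⟨c, ?_⟩
    have h1 : algebraMap A B (a - algebraMap k A c) ∈ m'.asIdeal := by
      have h0 := hC2 m' 1 _ (by rwa [pow_one])
      rwa [pow_one] at h0
    have h2 : b - algebraMap k B c =
        (b - algebraMap A B a) + algebraMap A B (a - algebraMap k A c) := by
      rw [map_sub, ← IsScalarTower.algebraMap_apply k A B]; ring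
    rw [h2]
    exact add_mem ha h1
  choose ψ ϖ hψ1 hψ2 using fun m' => MCrossB.exists_psi (k := k) m' (hdvr m') (hres m')
  have hJpow : ∀ N : ℕ, (⨅ m' : MaximalSpectrum B, m'.asIdeal ^ N) ≤
      (⨅ m' : MaximalSpectrum B, m'.asIdeal) ^ N := by
    intro N
    have h1 := Ideal.prod_eq_iInf_of_pairwise_isCoprime
      (s := (Finset.univ : Finset (MaximalSpectrum B))) (J := fun I => I.asIdeal ^ N)
      (fun I _ J _ hIJ => IsCoprime.pow (I.isCoprime_of_ne hIJ))
    have h2 := Ideal.prod_eq_iInf_of_pairwise_isCoprime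
      (s := (Finset.univ : Finset (MaximalSpectrum B))) (J := fun I => I.asIdeal)
      (fun I _ J _ hIJ => I.isCoprime_of_ne hIJ)
    simp only [Finset.mem_univ, iInf_pos] at h1 h2
    rw [← h1, Finset.prod_pow, h2]
  have hC1base : ∀ b ∈ (⨅ m' : MaximalSpectrum B, m'.asIdeal), ∃ a ∈ m, algebraMap A B a = b := by
    intro b hb
    rw [Ideal.mem_iInf] at hb
    obtain ⟨a, ha⟩ := hJ b hb
    refine ⟨a, ?_, ha⟩
    obtain ⟨M, hM⟩ := Ideal.exists_maximal B
    have h1 : a ∈ (⟨M, hM⟩ : MaximalSpectrum B).asIdeal.comap (algebraMap A B) := by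
      rw [Ideal.mem_comap, ha]; exact hb ⟨M, hM⟩
    rwa [hlo] at h1
  have hC1' : ∀ N : ℕ, ∀ b ∈ (⨅ m' : MaximalSpectrum B, m'.asIdeal) ^ (N + 1),
      ∃ a ∈ m ^ (N + 1), algebraMap A B a = b := by
    intro N
    induction N with
    | zero =>
      intro b hb
      rw [zero_add, pow_one] at hb
      obtain ⟨a, ha, hab⟩ := hC1base b hb
      exact ⟨a, by rwa [zero_add, pow_one], hab⟩
    | succ N ih =>
      intro b hb
      rw [pow_succ] at hb
      have hb' : b ∈ ((⨅ m' : MaximalSpectrum B, m'.asIdeal) ^ (N + 1)) •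
          (⨅ m' : MaximalSpectrum B, m'.asIdeal) := hb
      refine Submodule.smul_induction_on hb' ?_ ?_
      · intro y hy z hz
        obtain ⟨a, ha, rfl⟩ := ih y hy
        obtain ⟨c, hc, rfl⟩ := hC1base z hz
        refine ⟨a * c, ?_, ?_⟩
        · rw [pow_succ]
          exact Ideal.mul_mem_mul ha hc
        · rw [map_mul, smul_eq_mul]
      · rintro y z ⟨a, ha, rfl⟩ ⟨c, hc, rfl⟩
        exact ⟨a + c, add_mem ha hc, map_add _ _ _⟩
  have hKP : ∀ N : ℕ, 1 ≤ N → ∀ a : A,
      (∀ i, (X : PowerSeries k) ^ N ∣ ψ (e i) (algebraMap A B a)) → a ∈ m ^ N := by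
    intro N hN a h
    obtain ⟨N', rfl⟩ : ∃ N', N = N' + 1 := ⟨N - 1, by omega⟩
    have h1 : algebraMap A B a ∈ ⨅ m' : MaximalSpectrum B, m'.asIdeal ^ (N' + 1) := by
      rw [Ideal.mem_iInf]
      intro m'
      obtain ⟨i, rfl⟩ := e.surjective m'
      exact (hψ1 (e i) _ _).mp (h i)
    obtain ⟨a', ha', haa⟩ := hC1' N' _ (hJpow _ h1)
    rw [← hinj haa]
    exact ha'
  let rep : AdicCompletion m A → AdicCompletion.AdicCauchySequence m A := fun x =>
    Classical.choose (AdicCompletion.mk_surjective m A x)
  have hrep : ∀ x, AdicCompletion.mk m A (rep x) = x := fun x =>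
    Classical.choose_spec (AdicCompletion.mk_surjective m A x)
  have heval : ∀ x N, AdicCompletion.evalₐ m N x = Ideal.Quotient.mk (m ^ N) (rep x N) := by
    intro x N
    have h := congrArg (AdicCompletion.evalₐ m N) (hrep x)
    rw [AdicCompletion.evalₐ_mk] at h
    exact h.symm
  let φfun : AdicCompletion m A → Fin n → PowerSeries k := fun x i =>
    PowerSeries.mk (fun d => coeff d (ψ (e i) (algebraMap A B (rep x (d + 1)))))
  have hAP : ∀ (x : AdicCompletion m A) (N : ℕ) (a : A),
      AdicCompletion.evalₐ m N x = Ideal.Quotient.mk (m ^ N) a →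
      ∀ i, (X : PowerSeries k) ^ N ∣ φfun x i - ψ (e i) (algebraMap A B a) := by
    intro x N a h i
    rw [X_pow_dvd_iff]
    intro d hd
    rw [map_sub, sub_eq_zero]
    show coeff d (PowerSeries.mk
      (fun d => coeff d (ψ (e i) (algebraMap A B (rep x (d + 1)))))) = _
    rw [coeff_mk]
    have hc : rep x (d + 1) - rep x N ∈ m ^ (d + 1) := by
      have h0 := (rep x).property (show d + 1 ≤ N from hd)
      rw [SModEq.sub_mem] at h0
      simpa using h0
    have hN : rep x N - a ∈ m ^ N := Ideal.Quotient.eq.mp (by rw [← heval, h])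
    have h1 : rep x (d + 1) - a ∈ m ^ (d + 1) := by
      have h2 : rep x (d + 1) - a = (rep x (d + 1) - rep x N) + (rep x N - a) := by ring
      rw [h2]
      exact add_mem hc (Ideal.pow_le_pow_right hd hN)
    have h3 := (hψ1 (e i) _ (d + 1)).mpr (hC2 (e i) (d + 1) _ h1)
    rw [map_sub, map_sub] at h3
    have h4 := (X_pow_dvd_iff.mp h3) d (Nat.lt_succ_self d)
    rwa [map_sub, sub_eq_zero] at h4
  have hφ_one : φfun 1 = 1 := by
    funext i
    apply eq_of_forall_dvd
    intro N
    have h1 := hAP 1 N 1 (by rw [map_one, map_one]) i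
    rw [map_one, map_one] at h1
    exact h1
  have hφ_zero : φfun 0 = 0 := by
    funext i
    apply eq_of_forall_dvd
    intro N
    have h1 := hAP 0 N 0 (by rw [map_zero, map_zero]) i
    rw [map_zero, map_zero] at h1
    exact h1
  have hφ_mul : ∀ x y, φfun (x * y) = φfun x * φfun y := by
    intro x y
    funext i
    apply eq_of_forall_dvd
    intro N
    show (X : PowerSeries k) ^ N ∣ φfun (x * y) i - φfun x i * φfun y i
    have hx := hAP x N (rep x N) (heval x N) i
    have hy := hAP y N (rep y N) (heval y N) i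
    have e1 : AdicCompletion.evalₐ m N (x * y) =
        Ideal.Quotient.mk (m ^ N) (rep x N * rep y N) := by
      rw [map_mul (AdicCompletion.evalₐ m N), heval, heval, (Ideal.Quotient.mk (m ^ N)).map_mul]
    have hxy := hAP (x * y) N (rep x N * rep y N) e1 i
    rw [map_mul (algebraMap A B), map_mul (ψ (e i))] at hxy
    have h3 := dvd_mul_sub_mul hx hy
    have h4 : φfun (x * y) i - φfun x i * φfun y i =
        (φfun (x * y) i - ψ (e i) (algebraMap A B (rep x N)) * ψ (e i) (algebraMap A B (rep y N))) -
        (φfun x i * φfun y i -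
          ψ (e i) (algebraMap A B (rep x N)) * ψ (e i) (algebraMap A B (rep y N))) := by ring
    rw [h4]
    exact dvd_sub hxy h3
  have hφ_add : ∀ x y, φfun (x + y) = φfun x + φfun y := by
    intro x y
    funext i
    apply eq_of_forall_dvd
    intro N
    show (X : PowerSeries k) ^ N ∣ φfun (x + y) i - (φfun x i + φfun y i)
    have hx := hAP x N (rep x N) (heval x N) i
    have hy := hAP y N (rep y N) (heval y N) i
    have e1 : AdicCompletion.evalₐ m N (x + y) =
        Ideal.Quotient.mk (m ^ N) (rep x N + rep y N) := by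
      rw [map_add (AdicCompletion.evalₐ m N), heval, heval, (Ideal.Quotient.mk (m ^ N)).map_add]
    have hxy := hAP (x + y) N (rep x N + rep y N) e1 i
    rw [map_add (algebraMap A B), map_add (ψ (e i))] at hxy
    have h3 := dvd_add hx hy
    have h4 : φfun (x + y) i - (φfun x i + φfun y i) =
        (φfun (x + y) i - (ψ (e i) (algebraMap A B (rep x N)) + ψ (e i) (algebraMap A B (rep y N)))) -
        ((φfun x i - ψ (e i) (algebraMap A B (rep x N))) +
          (φfun y i - ψ (e i) (algebraMap A B (rep y N)))) := by ring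
    rw [h4]
    exact dvd_sub hxy h3
  let φ : AdicCompletion m A →+* (Fin n → PowerSeries k) :=
    { toFun := φfun
      map_one' := hφ_one
      map_mul' := hφ_mul
      map_zero' := hφ_zero
      map_add' := hφ_add }
  refine ⟨φ, ?_, ?_, ?_⟩
  · rw [injective_iff_map_eq_zero]
    intro x hx
    apply AdicCompletion.ext_evalₐ
    intro N
    rw [map_zero, heval, Ideal.Quotient.eq_zero_iff_mem]
    rcases Nat.eq_zero_or_pos N with hN | hN
    · subst hN
      rw [pow_zero, Ideal.one_eq_top]
      trivial
    · apply hKP N hN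
      intro i
      have h1 := hAP x N (rep x N) (heval x N) i
      have h2 : φfun x i = 0 := congrFun hx i
      rw [h2, zero_sub] at h1
      exact dvd_neg.mp h1
  · intro c
    funext i
    apply eq_of_forall_dvd
    intro N
    have h1 := hAP (algebraMap A _ (algebraMap k A c)) N (algebraMap k A c) (by
      rw [AlgHom.commutes]; rfl) i
    rw [← IsScalarTower.algebraMap_apply k A B, AlgHom.commutes] at h1
    exact h1
  · ext f
    simp only [Set.mem_range, Set.mem_setOf_eq]
    constructor
    · rintro ⟨x, rfl⟩ i j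
      obtain ⟨c, hc⟩ := hresA (rep x 1)
      have key : ∀ i, constantCoeff (φfun x i) = c := by
        intro i
        have h1 := hAP x 1 (rep x 1) (heval x 1) i
        have h2 : algebraMap A B (rep x 1 - algebraMap k A c) ∈ (e i).asIdeal ^ 1 :=
          hC2 (e i) 1 _ (by rwa [pow_one])
        have h3 := (hψ1 (e i) _ 1).mpr h2
        rw [map_sub, map_sub, ← IsScalarTower.algebraMap_apply k A B, AlgHom.commutes] at h3
        have h4 := dvd_add h1 h3
        rw [sub_add_sub_cancel, pow_one, X_dvd_iff, map_sub, sub_eq_zero] at h4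
        rw [h4, ← PowerSeries.C_eq_algebraMap, constantCoeff_C]
      show constantCoeff (φfun x i) = constantCoeff (φfun x j)
      rw [key i, key j]
    · intro hf
      let c0 : k := if h : 0 < n then constantCoeff (f ⟨0, h⟩) else 0
      have hc0 : ∀ i, constantCoeff (f i) = c0 := by
        intro i
        have hpos : 0 < n := Fin.pos i
        simp only [c0, dif_pos hpos]
        exact hf i ⟨0, hpos⟩
      have hdens : ∀ N : ℕ, ∃ b : B, ∀ i, (X : PowerSeries k) ^ N ∣ ψ (e i) b - f i := by
        intro N
        have hcop : Pairwise (Function.onFun IsCoprime (fun i : Fin n => (e i).asIdeal ^ N)) := by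
          intro i j hij
          exact IsCoprime.pow ((e i).isCoprime_of_ne (fun h => hij (e.injective h)))
        obtain ⟨y, hy⟩ := Ideal.quotientInfToPiQuotient_surj hcop
          (fun i => Ideal.Quotient.mk _ (Polynomial.aeval (ϖ (e i)) (trunc N (f i))))
        obtain ⟨b, rfl⟩ := Ideal.Quotient.mk_surjective y
        refine ⟨b, fun i => ?_⟩
        have h1 : b - Polynomial.aeval (ϖ (e i)) (trunc N (f i)) ∈ (e i).asIdeal ^ N := by
          have h0 := congrFun hy i
          rw [Ideal.quotientInfToPiQuotient_mk'] at h0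
          exact Ideal.Quotient.eq.mp h0
        have h2 := (hψ1 (e i) _ N).mpr h1
        rw [map_sub, hψ2] at h2
        have h3 := MCrossA.X_pow_dvd_sub_coe_trunc (f i) N
        have h4 : ψ (e i) b - f i = (ψ (e i) b - ((trunc N (f i) : Polynomial k) : PowerSeries k)) -
            (f i - ((trunc N (f i) : Polynomial k) : PowerSeries k)) := by ring
        rw [h4]
        exact dvd_sub h2 h3
      choose bseq hb using hdens
      have hlift : ∀ N, 1 ≤ N → ∃ a : A, algebraMap A B a = bseq N := by
        intro N hN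
        have h1 : ∀ m' : MaximalSpectrum B, bseq N - algebraMap k B c0 ∈ m'.asIdeal := by
          intro m'
          obtain ⟨i, rfl⟩ := e.surjective m'
          have h2 : (X : PowerSeries k) ^ 1 ∣ ψ (e i) (bseq N - algebraMap k B c0) := by
            rw [map_sub, AlgHom.commutes, pow_one]
            have h3 : (X : PowerSeries k) ∣ ψ (e i) (bseq N) - f i :=
              dvd_trans (dvd_pow_self X (by omega)) (hb N i)
            have h4 : (X : PowerSeries k) ∣ f i - algebraMap k (PowerSeries k) c0 := by
              rw [X_dvd_iff, map_sub, hc0 i, sub_eq_zero, ← PowerSeries.C_eq_algebraMap,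
                constantCoeff_C]
            have h5 := dvd_add h3 h4
            rwa [sub_add_sub_cancel] at h5
          have h6 := (hψ1 (e i) _ 1).mp h2
          rwa [pow_one] at h6
        obtain ⟨a', ha'⟩ := hJ _ h1
        refine ⟨a' + algebraMap k A c0, ?_⟩
        rw [map_add, ha', ← IsScalarTower.algebraMap_apply k A B]
        ring
      let aseq : ℕ → A := fun N => if h : 1 ≤ N then Classical.choose (hlift N h) else 0
      have haseq : ∀ N, 1 ≤ N → algebraMap A B (aseq N) = bseq N := by
        intro N hN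
        simp only [aseq, dif_pos hN]
        exact Classical.choose_spec (hlift N hN)
      have hcauchy : ∀ N, aseq N ≡ aseq (N + 1) [SMOD (m ^ N • ⊤ : Submodule A A)] := by
        intro N
        rw [SModEq.sub_mem]
        rcases Nat.eq_zero_or_pos N with hN | hN
        · subst hN
          simp
        · have h1 : aseq N - aseq (N + 1) ∈ m ^ N := by
            apply hKP N hN
            intro i
            rw [map_sub, map_sub, haseq N hN, haseq (N + 1) (by omega)]
            have h2 := hb N i
            have h3 : (X : PowerSeries k) ^ N ∣ ψ (e i) (bseq (N + 1)) - f i :=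
              dvd_trans (pow_dvd_pow X (Nat.le_succ N)) (hb (N + 1) i)
            have h4 := dvd_sub h2 h3
            rwa [sub_sub_sub_cancel_right] at h4
          simpa using h1
      have hx : ∀ N, AdicCompletion.evalₐ m N
          (AdicCompletion.mk m A (AdicCompletion.AdicCauchySequence.mk m A aseq hcauchy)) =
          Ideal.Quotient.mk (m ^ N) (aseq N) := by
        intro N
        rw [AdicCompletion.evalₐ_mk]
        rfl
      refine ⟨AdicCompletion.mk m A (AdicCompletion.AdicCauchySequence.mk m A aseq hcauchy), ?_⟩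
      funext i
      apply eq_of_forall_dvd
      intro N
      show (X : PowerSeries k) ^ N ∣
        φfun (AdicCompletion.mk m A (AdicCompletion.AdicCauchySequence.mk m A aseq hcauchy)) i - f i
      rcases Nat.eq_zero_or_pos N with hN | hN
      · subst hN
        rw [pow_zero]
        exact one_dvd _
      · have h1 := hAP _ N (aseq N) (hx N) i
        rw [haseq N hN] at h1
        have h2 := dvd_add h1 (hb N i)
        rwa [sub_add_sub_cancel] at h2

end Groth.Agent.Helper20.MCrossC
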