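import Mathlib
import Groth.Agent.Lib.Helper1.CSACentralizer

set_option autoImplicit false

namespace Groth.Agent.Helper20.MaxSep

open Module Polynomial

universe u v w

/-- Abstract Jacobson–Noether step: if `C` is a central division algebra over `L`, finite over `k`,
`L/k` separable and `C ≠ L`, there is `x ∈ C ∖ L` such that `k[L, x]` consists of separable elements. -/
theorem exists_sep_ext (k : Type u) [Field k] (L : Type v) [Field L] [Algebra k L]
    [Algebra.IsSeparable k L] (C : Type w) [DivisionRing C] [Algebra k C] [Algebra L C]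
    [IsScalarTower k L C] [FiniteDimensional k C] [Algebra.IsCentral L C]
    (hne : ∃ c : C, c ∉ Set.range (algebraMap L C)) :
    ∃ x : C, x ∉ Set.range (algebraMap L C) ∧
      (∀ y ∈ Algebra.adjoin k (insert x (Set.range (algebraMap L C))), IsSeparable k y) ∧
      (∀ y ∈ Algebra.adjoin k (insert x (Set.range (algebraMap L C))),
        ∀ z ∈ Algebra.adjoin k (insert x (Set.range (algebraMap L C))), y * z = z * y) := by
  haveI : Module.Finite L C := Module.Finite.of_restrictScalars_finite k L C
  haveI : Algebra.IsAlgebraic L C := Algebra.IsAlgebraic.of_finite L C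
  have hneq : (⊥ : Subalgebra L C) ≠ ⊤ := by
    obtain ⟨c, hc⟩ := hne
    intro h
    apply hc
    have : c ∈ (⊥ : Subalgebra L C) := h ▸ Algebra.mem_top
    exact Algebra.mem_bot.mp this
  obtain ⟨x, hx, hsep⟩ := JacobsonNoether.exists_separable_and_not_isCentral' hneq
  refine ⟨x, fun h => hx (Algebra.mem_bot.mpr h), ?_⟩
  have hint : IsIntegral L x := Algebra.IsIntegral.isIntegral x
  haveI : Fact (Irreducible (minpoly L x)) := ⟨minpoly.irreducible hint⟩
  let φ : AdjoinRoot (minpoly L x) →ₐ[L] C :=
    Ideal.Quotient.liftₐ (Ideal.span {minpoly L x}) (Polynomial.aeval x) (by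
      intro a ha
      obtain ⟨g, rfl⟩ := Ideal.mem_span_singleton.mp ha
      simp [minpoly.aeval])
  have hφroot : φ (AdjoinRoot.root (minpoly L x)) = x := by
    show (Polynomial.aeval x) (X : L[X]) = x
    exact aeval_X x
  have hrootsep : IsSeparable L (AdjoinRoot.root (minpoly L x)) := by
    unfold IsSeparable
    rw [AdjoinRoot.minpoly_root (minpoly.ne_zero hint), (minpoly.monic hint).leadingCoeff]
    simpa [IsSeparable] using hsep
  haveI : Algebra.IsSeparable L (AdjoinRoot (minpoly L x)) := by
    rw [← separableClosure.eq_top_iff]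
    apply IntermediateField.toSubalgebra_injective
    rw [IntermediateField.top_toSubalgebra, ← top_le_iff,
      ← AdjoinRoot.adjoinRoot_eq_top (f := minpoly L x)]
    apply Algebra.adjoin_le
    intro z hz
    rw [Set.mem_singleton_iff] at hz
    subst hz
    exact mem_separableClosure_iff.mpr hrootsep
  haveI : Algebra.IsSeparable k (AdjoinRoot (minpoly L x)) := Algebra.IsSeparable.trans k L _
  let φk : AdjoinRoot (minpoly L x) →ₐ[k] C := φ.restrictScalars k
  have hle : Algebra.adjoin k (insert x (Set.range (algebraMap L C))) ≤ φk.range := by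
    apply Algebra.adjoin_le
    intro z hz
    rcases hz with rfl | ⟨l, rfl⟩
    · exact ⟨AdjoinRoot.root _, hφroot⟩
    · exact ⟨algebraMap L _ l, φ.commutes l⟩
  refine ⟨?_, ?_⟩
  · intro y hy
    obtain ⟨e, he⟩ := hle hy
    have he' : φk e = y := he
    subst he'
    have : IsSeparable k e := Algebra.IsSeparable.isSeparable k e
    unfold IsSeparable at this ⊢
    rwa [minpoly.algHom_eq φk φk.injective e]
  · intro y hy z hz
    obtain ⟨e, he⟩ := hle hy
    obtain ⟨e', he'⟩ := hle hz
    have h1 : φk e = y := he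
    have h2 : φk e' = z := he'
    rw [← h1, ← h2, ← map_mul, ← map_mul, mul_comm]

section

variable (k : Type u) [Field k] (D : Type v) [DivisionRing D] [Algebra k D]
  [Algebra.IsCentral k D] [FiniteDimensional k D]

set_option backward.isDefEq.respectTransparency false in
theorem step (L : Subalgebra k D) (hcomm : ∀ x ∈ L, ∀ y ∈ L, x * y = y * x)
    (hsep : ∀ x ∈ L, IsSeparable k x) (c : D)
    (hc : c ∈ Subalgebra.centralizer k (L : Set D)) (hcL : c ∉ L) :
    ∃ L₂ : Subalgebra k D, (∀ x ∈ L₂, ∀ y ∈ L₂, x * y = y * x) ∧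
      (∀ x ∈ L₂, IsSeparable k x) ∧ L < L₂ := by
  classical
  have hLC : L ≤ Subalgebra.centralizer k (L : Set D) := fun x hx =>
    (Subalgebra.mem_centralizer_iff k).mpr (fun g hg => hcomm g hg x hx)
  letI instL : Field L :=
    { divisionRingOfFiniteDimensional k L with
      mul_comm := fun a b => Subtype.ext (hcomm a a.2 b b.2) }
  letI instC : DivisionRing (Subalgebra.centralizer k (L : Set D)) :=
    divisionRingOfFiniteDimensional k _
  letI algLC : Algebra L (Subalgebra.centralizer k (L : Set D)) :=
    RingHom.toAlgebra' (Subalgebra.inclusion hLC).toRingHom (by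
      intro l c'
      apply Subtype.ext
      exact ((Subalgebra.mem_centralizer_iff k).mp c'.2 l l.2))
  have halg : ∀ l : L, ((algebraMap L (Subalgebra.centralizer k (L : Set D)) l : _) : D) = l :=
    fun l => rfl
  haveI : IsScalarTower k L (Subalgebra.centralizer k (L : Set D)) :=
    IsScalarTower.of_algebraMap_eq (fun r => rfl)
  haveI : Algebra.IsSeparable k L := ⟨fun x => by
    have := hsep x x.2
    unfold IsSeparable at this ⊢
    rwa [← minpoly.algHom_eq L.val Subtype.val_injective x]⟩
  haveI : IsSimpleRing L := inferInstance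
  haveI : Algebra.IsCentral L (Subalgebra.centralizer k (L : Set D)) := ⟨fun z hz => by
    have hz' : (z : D) ∈ Subalgebra.centralizer k
        (Subalgebra.centralizer k (L : Set D) : Set D) := by
      rw [Subalgebra.mem_centralizer_iff]
      intro g hg
      have := (Subalgebra.mem_center_iff.mp hz) ⟨g, hg⟩
      exact congrArg Subtype.val this
    rw [Groth.Agent.Helper1.centralizer_centralizer_eq k D L] at hz'
    exact Algebra.mem_bot.mpr ⟨⟨z, hz'⟩, Subtype.ext (halg _)⟩⟩
  obtain ⟨x, hx, hxs, hxc⟩ := exists_sep_ext k L (Subalgebra.centralizer k (L : Set D))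
    ⟨⟨c, hc⟩, by
      rintro ⟨l, hl⟩
      apply hcL
      have := congrArg Subtype.val hl
      rw [halg] at this
      have h2 : (l : D) = c := this
      rw [← h2]
      exact l.2⟩
  refine ⟨(Algebra.adjoin k (insert x (Set.range (algebraMap L
    (Subalgebra.centralizer k (L : Set D)))))).map (Subalgebra.centralizer k (L : Set D)).val,
    ?_, ?_, ?_⟩
  · rintro _ ⟨y, hy, rfl⟩ _ ⟨z, hz, rfl⟩
    have := hxc y hy z hz
    simpa using congrArg Subtype.val this
  · rintro _ ⟨y, hy, rfl⟩
    have := hxs y hy
    unfold IsSeparable at this ⊢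
    rwa [← minpoly.algHom_eq (Subalgebra.centralizer k (L : Set D)).val Subtype.val_injective y]
      at this
  · refine lt_of_le_of_ne ?_ ?_
    · intro l hl
      exact ⟨algebraMap L _ ⟨l, hl⟩, Algebra.subset_adjoin (Set.mem_insert_of_mem _ ⟨_, rfl⟩),
        halg ⟨l, hl⟩⟩
    · intro h
      apply hx
      have hxL : (x : D) ∈ L := by
        have h3 : (x : D) ∈ (Algebra.adjoin k (insert x (Set.range (algebraMap L
            (Subalgebra.centralizer k (L : Set D)))))).map
            (Subalgebra.centralizer k (L : Set D)).val :=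
          ⟨x, Algebra.subset_adjoin (Set.mem_insert _ _), rfl⟩
        rw [← h] at h3
        exact h3
      exact ⟨⟨x, hxL⟩, Subtype.ext (halg _)⟩

theorem exists_maximal_separable :
    ∃ L : Subalgebra k D, (∀ x ∈ L, ∀ y ∈ L, x * y = y * x) ∧
      (∀ L' : Subalgebra k D, (∀ x ∈ L', ∀ y ∈ L', x * y = y * x) → L ≤ L' → L' = L) ∧
      Algebra.IsSeparable k L := by
  classical
  let P : ℕ → Prop := fun n => ∃ L : Subalgebra k D, (∀ x ∈ L, ∀ y ∈ L, x * y = y * x) ∧
    (∀ x ∈ L, IsSeparable k x) ∧ finrank k L = n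
  have hP1 : P 1 := by
    refine ⟨⊥, ?_, ?_, Subalgebra.finrank_bot⟩
    · intro x hx y hy
      obtain ⟨r, rfl⟩ := Algebra.mem_bot.mp hx
      exact Algebra.commutes r y
    · intro x hx
      obtain ⟨r, rfl⟩ := Algebra.mem_bot.mp hx
      exact isSeparable_algebraMap r
  have hbound : ∀ n, P n → n ≤ finrank k D := by
    rintro n ⟨L, -, -, rfl⟩
    exact Submodule.finrank_le (Subalgebra.toSubmodule L)
  obtain ⟨L, hcomm, hsep, hfr⟩ : P (Nat.findGreatest P (finrank k D)) :=
    Nat.findGreatest_spec (hbound 1 hP1) hP1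
  have hmax : ∀ n, P n → n ≤ Nat.findGreatest P (finrank k D) :=
    fun n hn => Nat.le_findGreatest (hbound n hn) hn
  refine ⟨L, hcomm, ?_, ?_⟩
  · intro L' hL' hle
    by_contra hne
    have hex : ∃ c ∈ L', c ∉ L := by
      by_contra! h
      exact hne (le_antisymm h hle)
    obtain ⟨c, hc, hcL⟩ := hex
    have hcC : c ∈ Subalgebra.centralizer k (L : Set D) :=
      (Subalgebra.mem_centralizer_iff k).mpr fun g hg => hL' g (hle hg) c hc
    obtain ⟨L₂, h1, h2, h3⟩ := step k D L hcomm hsep c hcC hcL
    have h4 := hmax _ ⟨L₂, h1, h2, rfl⟩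
    have hlt : finrank k L < finrank k L₂ :=
      Submodule.finrank_lt_finrank_of_lt (Subalgebra.toSubmodule.lt_iff_lt.mpr h3)
    omega
  · refine ⟨fun x => ?_⟩
    have := hsep x x.2
    unfold IsSeparable at this ⊢
    rwa [← minpoly.algHom_eq L.val Subtype.val_injective x]

end

end Groth.Agent.Helper20.MaxSep
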