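import Mathlib
import Groth.Prelude.Def_GSzMilK

/-!
# Milnor K-groups: multilinearity of symbols in `n` variables, anticommutativity, permutations
-/

namespace Groth.Agent.Helper20.MilKn

open MilK

universe u

variable {F : Type u} [Field F]

/-- The symbol as a multilinear map. -/
noncomputable def symML (n : ℕ) : MultilinearMap ℤ (fun _ : Fin n => Additive Fˣ) (K F n) :=
  (AddMonoidHom.toIntLinearMap (mk F n)).compMultilinearMap (PiTensorProduct.tprod ℤ)

theorem symML_apply {n : ℕ} (x : Fin n → Additive Fˣ) :
    symML n x = symbol (fun i => (x i).toMul) := rfl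

theorem symbol_eq {n : ℕ} (x : Fin n → Fˣ) :
    symbol x = symML n (fun i => Additive.ofMul (x i)) := rfl

theorem ofMul_update {n : ℕ} (x : Fin n → Fˣ) (i : Fin n) (c : Fˣ) :
    (fun j => Additive.ofMul (Function.update x i c j)) =
      Function.update (fun j => Additive.ofMul (x j)) i (Additive.ofMul c) := by
  funext j
  by_cases h : j = i
  · subst h; simp
  · simp [Function.update_of_ne h]

theorem symbol_update_mul {n : ℕ} (x : Fin n → Fˣ) (i : Fin n) (a b : Fˣ) :
    symbol (Function.update x i (a * b)) =
      symbol (Function.update x i a) + symbol (Function.update x i b) := by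
  simp only [symbol_eq, ofMul_update, ofMul_mul]
  exact (symML n).map_update_add _ i _ _

theorem symbol_update_one {n : ℕ} (x : Fin n → Fˣ) (i : Fin n) :
    symbol (Function.update x i 1) = 0 := by
  simp only [symbol_eq, ofMul_update, ofMul_one]
  exact (symML n).map_update_zero _ i

theorem symbol_update_zpow {n : ℕ} (x : Fin n → Fˣ) (i : Fin n) (a : Fˣ) (e : ℤ) :
    symbol (Function.update x i (a ^ e)) = e • symbol (Function.update x i a) := by
  simp only [symbol_eq, ofMul_update, ofMul_zpow]
  exact (symML n).map_update_smul _ i e _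

theorem symbol_update_inv {n : ℕ} (x : Fin n → Fˣ) (i : Fin n) (a : Fˣ) :
    symbol (Function.update x i a⁻¹) = - symbol (Function.update x i a) := by
  have := symbol_update_zpow x i a (-1)
  simpa using this

/-- Abstract consequences of bimultiplicativity and the Steinberg relation. -/
theorem bimul_steinberg {M : Type*} [AddCommGroup M] (φ : Fˣ → Fˣ → M)
    (hl : ∀ a a' b, φ (a * a') b = φ a b + φ a' b) (hr : ∀ a b b', φ a (b * b') = φ a b + φ a b')
    (hst : ∀ a b : Fˣ, (a : F) + b = 1 → φ a b = 0) :
    (∀ a, φ a (-a) = 0) ∧ (∀ a b, φ a b + φ b a = 0) ∧ (∀ a, φ a a = φ a (-1)) := by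
  have h1l : ∀ b, φ 1 b = 0 := fun b => by
    have := hl 1 1 b; rw [mul_one] at this; exact left_eq_add.mp this
  have h1r : ∀ a, φ a 1 = 0 := fun a => by
    have := hr a 1 1; rw [mul_one] at this; exact left_eq_add.mp this
  have hinvl : ∀ a b, φ a⁻¹ b = - φ a b := fun a b => by
    have := hl a a⁻¹ b; rw [mul_inv_cancel, h1l] at this
    exact (neg_eq_of_add_eq_zero_right this.symm).symm
  have hinvr : ∀ a b, φ a b⁻¹ = - φ a b := fun a b => by
    have := hr a b b⁻¹; rw [mul_inv_cancel, h1r] at this
    exact (neg_eq_of_add_eq_zero_right this.symm).symm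
  have hneg : ∀ a, φ a (-a) = 0 := by
    intro a
    by_cases ha : a = 1
    · subst ha; exact h1l _
    · have ha' : (1 : F) - a ≠ 0 := by
        intro h
        apply ha
        ext
        exact (sub_eq_zero.mp h).symm
      have ha'' : (1 : F) - (a⁻¹ : Fˣ) ≠ 0 := by
        intro h
        apply ha
        have : ((a⁻¹ : Fˣ) : F) = 1 := (sub_eq_zero.mp h).symm
        have h2 : a⁻¹ = 1 := by ext; exact this
        exact inv_eq_one.mp h2
      let b : Fˣ := Units.mk0 _ ha'
      let c : Fˣ := Units.mk0 _ ha''
      have hbc : -a = b * c⁻¹ := by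
        rw [eq_mul_inv_iff_mul_eq]
        ext
        simp only [Units.val_mul, Units.val_neg, b, c, Units.val_mk0, Units.val_inv_eq_inv_val]
        have : (a : F) ≠ 0 := a.ne_zero
        field_simp
        ring
      rw [hbc, hr, hinvr]
      have e1 : φ a b = 0 := hst a b (by simp [b])
      have e2 : φ a⁻¹ c = 0 := hst a⁻¹ c (by simp [c])
      rw [hinvl] at e2
      rw [e1, neg_eq_zero.mp e2, neg_zero, add_zero]
  have hswap : ∀ a b, φ a b + φ b a = 0 := by
    intro a b
    have h := hneg (a * b)
    rw [hl] at h
    have e1 : -(a * b) = (-a) * b := by simp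
    have e2 : -(a * b) = a * (-b) := by simp
    have h' : φ a (-a * b) + φ b (a * (-b)) = 0 := by
      rw [← e1]; rw [← e2] at *; rw [e2] at h; rw [← e2] at h; rw [e1]; rw [← e1]; exact h
    rw [hr, hr, hneg, hneg, zero_add, add_zero] at h'
    exact h'
  refine ⟨hneg, hswap, ?_⟩
  intro a
  have h := hr a (-1) (-a)
  rw [hneg, add_zero] at h
  have e : (-1 : Fˣ) * (-a) = a := by simp
  rw [e] at h
  exact h

section TwoSlots

variable {n : ℕ} (x : Fin n → Fˣ) (i j : Fin n) (hij : i ≠ j)

include hij in
theorem two_slot :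
    (∀ a, symbol (Function.update (Function.update x i a) j (-a)) = 0) ∧
    (∀ a b, symbol (Function.update (Function.update x i a) j b) +
      symbol (Function.update (Function.update x i b) j a) = 0) ∧
    (∀ a, symbol (Function.update (Function.update x i a) j a) =
      symbol (Function.update (Function.update x i a) j (-1))) := by
  apply bimul_steinberg (fun a b => symbol (Function.update (Function.update x i a) j b))
  · intro a a' b
    simp only [Function.update_comm hij _ _ x]
    exact symbol_update_mul _ i a a'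
  · intro a b b'
    exact symbol_update_mul _ j b b'
  · intro a b hab
    apply symbol_eq_zero_of_isSteinberg
    rcases lt_or_gt_of_ne hij with h | h
    · refine ⟨i, j, h, ?_⟩
      simp [Function.update_of_ne hij, hab]
    · refine ⟨j, i, h, ?_⟩
      simp [Function.update_of_ne hij, add_comm, hab]

include hij in
theorem symbol_eq_zero_of_eq_neg (h : x j = - x i) : symbol x = 0 := by
  have := (two_slot x i j hij).1 (x i)
  rwa [← h, Function.update_eq_self, Function.update_eq_self] at this

include hij in
theorem symbol_swap : symbol (x ∘ Equiv.swap i j) = - symbol x := by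
  have h := (two_slot x i j hij).2.1 (x j) (x i)
  have e1 : Function.update (Function.update x i (x j)) j (x i) = x ∘ Equiv.swap i j := by
    funext k
    by_cases hk : k = j
    · subst hk; simp
    · by_cases hk' : k = i
      · subst hk'; simp [Function.update_of_ne hk]
      · simp [Function.update_of_ne hk, Function.update_of_ne hk', Equiv.swap_apply_of_ne_of_ne hk' hk]
  have e2 : Function.update (Function.update x i (x i)) j (x j) = x := by
    rw [Function.update_eq_self, Function.update_eq_self]
  rw [e1, e2] at h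
  exact eq_neg_of_add_eq_zero_left h

end TwoSlots

theorem symbol_perm {n : ℕ} (σ : Equiv.Perm (Fin n)) :
    ∀ x : Fin n → Fˣ, symbol (x ∘ σ) = ((Equiv.Perm.sign σ : ℤˣ) : ℤ) • symbol x := by
  induction σ using Equiv.Perm.swap_induction_on with
  | one => intro x; simp
  | swap_mul f i j hij ih =>
    intro x
    have : x ∘ (Equiv.swap i j * f) = (x ∘ Equiv.swap i j) ∘ f := by
      funext k; simp
    rw [this, ih, symbol_swap x i j hij, Equiv.Perm.sign_mul, Equiv.Perm.sign_swap hij]
    simp

end Groth.Agent.Helper20.MilKn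

namespace Groth.Agent.Helper20.MilKn

open MilK

universe u

variable {F : Type u} [Field F]

/-! ### Two-variable symbols -/

theorem s2_update0 (a b c : Fˣ) : Function.update ![a, b] 0 c = ![c, b] := by
  funext k; fin_cases k <;> simp

theorem s2_update1 (a b c : Fˣ) : Function.update ![a, b] 1 c = ![a, c] := by
  funext k; fin_cases k <;> simp

theorem s2_mul_left (a a' b : Fˣ) :
    symbol ![a * a', b] = symbol ![a, b] + symbol ![a', b] := by
  have := symbol_update_mul ![1, b] 0 a a'
  simpa only [s2_update0] using this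

theorem s2_mul_right (a b b' : Fˣ) :
    symbol ![a, b * b'] = symbol ![a, b] + symbol ![a, b'] := by
  have := symbol_update_mul ![a, 1] 1 b b'
  simpa only [s2_update1] using this

theorem s2_zpow_left (a b : Fˣ) (e : ℤ) : symbol ![a ^ e, b] = e • symbol ![a, b] := by
  have := symbol_update_zpow ![1, b] 0 a e
  simpa only [s2_update0] using this

theorem s2_zpow_right (a b : Fˣ) (e : ℤ) : symbol ![a, b ^ e] = e • symbol ![a, b] := by
  have := symbol_update_zpow ![a, 1] 1 b e
  simpa only [s2_update1] using this

theorem s2_steinberg (a b : Fˣ) (h : (a : F) + b = 1) : symbol ![a, b] = 0 :=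
  symbol_eq_zero_of_isSteinberg _ ⟨0, 1, by decide, by simpa using h⟩

theorem s2_all :
    (∀ a : Fˣ, symbol ![a, -a] = 0) ∧ (∀ a b : Fˣ, symbol ![a, b] + symbol ![b, a] = 0) ∧
      (∀ a : Fˣ, symbol ![a, a] = symbol ![a, -1]) :=
  bimul_steinberg (fun a b => symbol ![a, b]) s2_mul_left s2_mul_right s2_steinberg

theorem s2_swap (a b : Fˣ) : symbol ![a, b] = - symbol ![b, a] :=
  eq_neg_of_add_eq_zero_left (s2_all.2.1 a b)

theorem s2_self (a : Fˣ) : symbol ![a, a] = symbol ![a, -1] := s2_all.2.2 a

end Groth.Agent.Helper20.MilKn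

namespace Groth.Agent.Helper20.MilKn

open MilK

universe u v

variable {F : Type u} [Field F]

/-! ### Generation by symbols -/

theorem mk_mem_closure_symbols {n : ℕ} (t : T F n) :
    mk F n t ∈ AddSubgroup.closure (Set.range (symbol : (Fin n → Fˣ) → K F n)) := by
  induction t using PiTensorProduct.induction_on with
  | smul_tprod r x =>
    rw [map_zsmul]
    apply AddSubgroup.zsmul_mem
    rw [mk_tprod]
    exact AddSubgroup.subset_closure ⟨_, rfl⟩
  | add x y hx hy =>
    rw [map_add]
    exact AddSubgroup.add_mem _ hx hy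

theorem closure_symbols_eq_top (n : ℕ) :
    AddSubgroup.closure (Set.range (symbol : (Fin n → Fˣ) → K F n)) = ⊤ := by
  rw [eq_top_iff]
  intro x _
  obtain ⟨t, rfl⟩ := mk_surjective F n x
  exact mk_mem_closure_symbols t

theorem hom_ext_symbol {n : ℕ} {M : Type*} [AddCommGroup M] (f g : K F n →+ M)
    (h : ∀ y : Fin n → Fˣ, f (symbol y) = g (symbol y)) : f = g := by
  apply AddMonoidHom.eq_of_eqOn_dense (closure_symbols_eq_top n)
  rintro _ ⟨y, rfl⟩
  exact h y

theorem symbol_induction {n : ℕ} {P : K F n → Prop} (h0 : P 0)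
    (hs : ∀ y : Fin n → Fˣ, P (symbol y)) (hneg : ∀ x, P x → P (-x))
    (hadd : ∀ x y, P x → P y → P (x + y)) (x : K F n) : P x := by
  have hx : x ∈ AddSubgroup.closure (Set.range (symbol : (Fin n → Fˣ) → K F n)) := by
    rw [closure_symbols_eq_top]; trivial
  induction hx using AddSubgroup.closure_induction with
  | mem x hx => obtain ⟨y, rfl⟩ := hx; exact hs y
  | zero => exact h0
  | add x y _ _ hx hy => exact hadd x y hx hy
  | neg x _ hx => exact hneg x hx

/-! ### Discrete valuation rings -/

section DVR

variable (A : Type u) [CommRing A] [IsDomain A] [IsDiscreteValuationRing A]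
  (L : Type v) [Field L] [Algebra A L] [IsFractionRing A L]

theorem exists_zpow_mul_unit (ϖ : A) (hϖ : Irreducible ϖ) (y : Lˣ) :
    ∃ (e : ℤ) (u : Aˣ), y = unitFrac A L ϖ hϖ.ne_zero ^ e * unitToFrac A L u := by
  obtain ⟨a, b, hb, hab⟩ := IsFractionRing.div_surjective (A := A) (y : L)
  have hb0 : b ≠ 0 := nonZeroDivisors.ne_zero hb
  have ha0 : a ≠ 0 := by
    rintro rfl
    rw [map_zero, zero_div] at hab
    exact y.ne_zero hab.symm
  obtain ⟨m, v, hv⟩ := IsDiscreteValuationRing.eq_unit_mul_pow_irreducible ha0 hϖ
  obtain ⟨k, w, hw⟩ := IsDiscreteValuationRing.eq_unit_mul_pow_irreducible hb0 hϖ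
  refine ⟨(m : ℤ) - k, v * w⁻¹, ?_⟩
  ext
  have hπ : algebraMap A L ϖ ≠ 0 := (unitFrac A L ϖ hϖ.ne_zero).ne_zero
  have hw' : algebraMap A L (w : A) ≠ 0 := (unitToFrac A L w).ne_zero
  simp only [Units.val_mul, Units.val_zpow_eq_zpow_val, coe_unitFrac, unitToFrac, Units.coe_map,
    MonoidHom.coe_coe, map_mul, Units.val_inv_eq_inv_val]
  rw [← hab, hv, hw, map_mul, map_mul, map_pow, map_pow, zpow_sub₀ hπ, zpow_natCast, zpow_natCast]
  have : algebraMap A L ((w⁻¹ : Aˣ) : A) = (algebraMap A L (w : A))⁻¹ := by
    rw [eq_comm, inv_eq_iff_eq_inv, ← mul_eq_one_iff_eq_inv₀ (by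
      intro h0
      have := congrArg (fun z => algebraMap A L (w : A) * z) h0
      simp only [mul_zero, ← map_mul, Units.mul_inv, map_one] at this
      exact one_ne_zero this), ← map_mul, Units.mul_inv, map_one]
  rw [this]
  field_simp

end DVR

/-- Multiplying a later entry by a power of `p` does not change a symbol whose `0`-th entry is `-p`. -/
theorem symbol_absorb {n : ℕ} (w : Fin (n + 1) → Fˣ) (p : Fˣ) (h0 : w 0 = -p) (i : Fin n) (e : ℤ) :
    symbol (Function.update w i.succ (p ^ e * w i.succ)) = symbol w := by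
  rw [symbol_update_mul, symbol_update_zpow, Function.update_eq_self]
  have : symbol (Function.update w i.succ p) = 0 := by
    apply symbol_eq_zero_of_eq_neg _ i.succ 0 (Fin.succ_ne_zero i)
    rw [Function.update_self, Function.update_of_ne (Fin.succ_ne_zero i).symm, h0]
  rw [this, smul_zero, zero_add]

theorem symbol_cons_absorb {n : ℕ} (p : Fˣ) (e : Fin n → ℤ) (u : Fin n → Fˣ) :
    symbol (Fin.cons (-p) (fun i => p ^ e i * u i) : Fin (n + 1) → Fˣ) =
      symbol (Fin.cons (-p) u : Fin (n + 1) → Fˣ) := by
  classical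
  have key : ∀ S : Finset (Fin n),
      symbol (Fin.cons (-p) (fun i => if i ∈ S then p ^ e i * u i else u i) : Fin (n + 1) → Fˣ) =
        symbol (Fin.cons (-p) u : Fin (n + 1) → Fˣ) := by
    intro S
    induction S using Finset.induction_on with
    | empty => simp
    | insert a S ha ih =>
      rw [← ih]
      have := symbol_absorb
        (Fin.cons (-p) (fun i => if i ∈ S then p ^ e i * u i else u i) : Fin (n + 1) → Fˣ) p
        (by simp) a (e a)
      rw [← this]
      congr 1
      funext k
      refine Fin.cases ?_ (fun k' => ?_) k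
      · simp [Function.update_of_ne (Fin.succ_ne_zero a).symm]
      · by_cases hk : k' = a
        · subst hk; simp [ha]
        · have : k'.succ ≠ a.succ := fun h => hk (Fin.succ_injective _ h)
          simp [Function.update_of_ne this, hk]
  have := key Finset.univ
  simpa using this

end Groth.Agent.Helper20.MilKn
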