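import Mathlib
import Groth.Prelude.Def_GSzMilK
import Groth.Agent.Lib.Helper20.MilKn

namespace Groth.Agent.Helper20.MilKpoly

open MilK Groth.Agent.Helper20.MilKn Polynomial

universe u w

section Abstract

variable {F : Type u} [Field F] {M : Type w} [AddCommGroup M]

/-- Consequence of bimultiplicativity and the Steinberg relation for `p' = p + h`. -/
theorem bimul_relation (φ : Fˣ → Fˣ → M)
    (hl : ∀ a a' b, φ (a * a') b = φ a b + φ a' b) (hr : ∀ a b b', φ a (b * b') = φ a b + φ a b')
    (hst : ∀ a b : Fˣ, (a : F) + b = 1 → φ a b = 0) (p p' h : Fˣ) (hrel : (p' : F) = p + h) :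
    φ p p' = φ p h - φ p' h + φ p' (-1) := by
  have h1l : ∀ b, φ 1 b = 0 := fun b => by
    have := hl 1 1 b; rw [mul_one] at this; exact left_eq_add.mp this
  have h1r : ∀ a, φ a 1 = 0 := fun a => by
    have := hr a 1 1; rw [mul_one] at this; exact left_eq_add.mp this
  have hinvl : ∀ a b, φ a⁻¹ b = - φ a b := fun a b => by
    have := hl a a⁻¹ b; rw [mul_inv_cancel, h1l] at this
    exact (neg_eq_of_add_eq_zero_right this.symm).symm
  have hinvr : ∀ a b, φ a b⁻¹ = - φ a b := fun a b => by
    have := hr a b b⁻¹; rw [mul_inv_cancel, h1r] at this
    exact (neg_eq_of_add_eq_zero_right this.symm).symm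
  have hself := (bimul_steinberg φ hl hr hst).2.2 p'
  have h0 : φ (p * p'⁻¹) (h * p'⁻¹) = 0 := by
    apply hst
    have hp' : (p' : F) ≠ 0 := p'.ne_zero
    simp only [Units.val_mul, Units.val_inv_eq_inv_val]
    rw [← add_mul, ← hrel, mul_inv_cancel₀ hp']
  rw [hl, hr, hr, hinvl, hinvl, hinvr, hinvr, hself] at h0
  have : φ p p' = φ p h - φ p' h + φ p' (-1) := by
    have h2 : φ p h + -φ p p' + (-φ p' h + - -φ p' (-1)) = 0 := h0
    rw [neg_neg] at h2
    calc φ p p' = φ p p' + 0 := (add_zero _).symm
      _ = φ p p' + (φ p h + -φ p p' + (-φ p' h + φ p' (-1))) := by rw [h2]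
      _ = φ p h - φ p' h + φ p' (-1) := by abel
  exact this

end Abstract

section Poly

variable {k : Type u} [Field k]

theorem poly_factor_induction (Q : k[X] → Prop) (hC : ∀ c : k, c ≠ 0 → Q (C c))
    (hmul : ∀ q h : k[X], q.Monic → Irreducible q → h ≠ 0 → Q h → Q (q * h)) :
    ∀ h : k[X], h ≠ 0 → Q h := by
  intro h
  induction' hn : h.natDegree using Nat.strong_induction_on with N ih generalizing h
  intro hh
  by_cases h0 : h.natDegree = 0
  · rw [eq_C_of_natDegree_eq_zero h0]
    apply hC
    intro hc
    apply hh
    rw [eq_C_of_natDegree_eq_zero h0, hc, map_zero]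
  · have hnu : ¬ IsUnit h := fun hu => h0 (natDegree_eq_zero_of_isUnit hu)
    obtain ⟨p, hp, r, rfl⟩ := WfDvdMonoid.exists_irreducible_factor hnu hh
    have hp0 : p ≠ 0 := hp.ne_zero
    have hr0 : r ≠ 0 := right_ne_zero_of_mul hh
    have hlc : p.leadingCoeff ≠ 0 := leadingCoeff_ne_zero.mpr hp0
    have e : p * r = (p * C p.leadingCoeff⁻¹) * (C p.leadingCoeff * r) := by
      rw [mul_assoc, ← mul_assoc (C _), ← C_mul, inv_mul_cancel₀ hlc, map_one, one_mul]
    rw [e]
    have hr' : C p.leadingCoeff * r ≠ 0 := mul_ne_zero (C_ne_zero.mpr hlc) hr0
    apply hmul _ _ (monic_mul_leadingCoeff_inv hp0) (irreducible_mul_leadingCoeff_inv.mpr hp) hr'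
    apply ih (C p.leadingCoeff * r).natDegree _ _ rfl hr'
    rw [← hn, natDegree_mul hp0 hr0, natDegree_C_mul hlc]
    have := hp.natDegree_pos
    omega

end Poly

section Pu

open Classical in
/-- a polynomial as a unit of the rational function field (`1` for the zero polynomial) -/
noncomputable def pu {k : Type u} [Field k] (f : k[X]) : (RatFunc k)ˣ :=
  if h : f = 0 then 1 else unitFrac k[X] (RatFunc k) f h

variable {k : Type u} [Field k]

theorem pu_of_ne {f : k[X]} (h : f ≠ 0) : pu f = unitFrac k[X] (RatFunc k) f h := by
  simp [pu, h]

theorem coe_pu {f : k[X]} (h : f ≠ 0) : ((pu f : (RatFunc k)ˣ) : RatFunc k) = algebraMap k[X] (RatFunc k) f := by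
  rw [pu_of_ne h, coe_unitFrac]

theorem pu_mul {f g : k[X]} (hf : f ≠ 0) (hg : g ≠ 0) : pu (f * g) = pu f * pu g := by
  ext
  rw [Units.val_mul, coe_pu hf, coe_pu hg, coe_pu (mul_ne_zero hf hg), map_mul]

theorem pu_C (c : kˣ) : pu (C (c : k)) = Units.map (RatFunc.C : k →+* RatFunc k).toMonoidHom c := by
  ext
  rw [coe_pu (C_ne_zero.mpr c.ne_zero), RatFunc.algebraMap_C]
  rfl

theorem pu_neg_one : pu (C (-1 : k)) = -1 := by
  ext
  rw [coe_pu (C_ne_zero.mpr (neg_ne_zero.mpr one_ne_zero))]
  simp

/-- constants and monic irreducible polynomials of degree at most `dd` -/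
def IsAtom (dd : ℕ) (f : k[X]) : Prop :=
  (∃ c : k, c ≠ 0 ∧ f = C c) ∨ (f.Monic ∧ Irreducible f ∧ f.natDegree ≤ dd)

theorem IsAtom.ne_zero {dd : ℕ} {f : k[X]} (h : IsAtom dd f) : f ≠ 0 := by
  rcases h with ⟨c, hc, rfl⟩ | ⟨h1, -, -⟩
  · exact C_ne_zero.mpr hc
  · exact h1.ne_zero

theorem IsAtom.of_natDegree_eq_zero {dd : ℕ} {f : k[X]} (h : IsAtom dd f) (h0 : f.natDegree = 0) :
    ∃ c : k, c ≠ 0 ∧ f = C c := by
  rcases h with h | ⟨-, h2, -⟩
  · exact h
  · exact absurd h0 h2.natDegree_pos.ne'

theorem IsAtom.of_natDegree_pos {dd : ℕ} {f : k[X]} (h : IsAtom dd f) (h0 : 0 < f.natDegree) :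
    f.Monic ∧ Irreducible f ∧ f.natDegree ≤ dd := by
  rcases h with ⟨c, -, rfl⟩ | h
  · simp at h0
  · exact h

theorem IsAtom.natDegree_le {dd : ℕ} {f : k[X]} (h : IsAtom dd f) : f.natDegree ≤ dd := by
  rcases h with ⟨c, -, rfl⟩ | h
  · simp
  · exact h.2.2

theorem isAtom_C {dd : ℕ} {c : k} (hc : c ≠ 0) : IsAtom dd (C c) := Or.inl ⟨c, hc, rfl⟩

variable (k)

/-- The subgroup generated by symbols of polynomials of degree at most `dd`. -/
noncomputable def Lgrp (n dd : ℕ) : AddSubgroup (K (RatFunc k) n) :=
  AddSubgroup.closure {z : MilK.K (RatFunc k) n | ∃ (f : Fin n → Polynomial k) (hf : ∀ j, f j ≠ 0),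
        (∀ j, (f j).natDegree ≤ dd) ∧ z = MilK.symbol (fun j => MilK.unitFrac (Polynomial k) (RatFunc k) (f j) (hf j))}

/-- The subgroup generated by the sorted symbols. -/
noncomputable def Ggrp (n dd : ℕ) : AddSubgroup (K (RatFunc k) n) :=
  AddSubgroup.closure {z : MilK.K (RatFunc k) n | ∃ (m : ℕ) (hm : m ≤ n) (c : Fin m → kˣ)
        (π : Fin (n - m) → Polynomial k) (hπ : ∀ j, π j ≠ 0),
        (∀ j, (π j).Monic ∧ Irreducible (π j) ∧ (π j).natDegree ≤ dd) ∧
        (∀ i j : Fin (n - m), i < j → (π i).natDegree < (π j).natDegree) ∧
        z = MilK.cast (RatFunc k) (Nat.add_sub_cancel' hm)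
          (MilK.mul (RatFunc k) m (n - m) (MilK.symbol (fun i => Units.map (RatFunc.C : k →+* RatFunc k).toMonoidHom (c i)))
            (MilK.symbol (fun j => MilK.unitFrac (Polynomial k) (RatFunc k) (π j) (hπ j))))}

variable {k}

theorem symbol_pu_mem_Lgrp {n dd : ℕ} (f : Fin n → k[X]) (hf : ∀ j, f j ≠ 0)
    (hd : ∀ j, (f j).natDegree ≤ dd) : symbol (fun j => pu (f j)) ∈ Lgrp k n dd := by
  apply AddSubgroup.subset_closure
  refine ⟨f, hf, hd, ?_⟩
  congr 1
  funext j
  exact pu_of_ne (hf j)

end Pu

section Sorted

variable {k : Type u} [Field k]

theorem sorted_mem {n dd : ℕ} (g : Fin n → k[X]) (hat : ∀ j, IsAtom dd (g j))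
    (hmono : Monotone (fun j => (g j).natDegree))
    (hdist : ∀ i j, i ≠ j → (g i).natDegree = (g j).natDegree → (g i).natDegree = 0) :
    symbol (fun j => pu (g j)) ∈ Ggrp k n dd := by
  classical
  let p : ℕ → Prop := fun i => ∀ j : Fin n, i ≤ j.val → 0 < (g j).natDegree
  have hpn : p n := fun j hj => absurd j.isLt (by omega)
  have hex : ∃ i, p i := ⟨n, hpn⟩
  set m := Nat.find hex with hm_def
  have hm : m ≤ n := Nat.find_min' hex hpn
  have hge : ∀ j : Fin n, m ≤ j.val → 0 < (g j).natDegree := Nat.find_spec hex
  have hlt : ∀ j : Fin n, j.val < m → (g j).natDegree = 0 := by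
    intro j hj
    by_contra h0
    have : p j.val := fun j' hj' =>
      lt_of_lt_of_le (Nat.pos_of_ne_zero h0) (hmono (Fin.le_def.mpr hj'))
    exact Nat.find_min hex hj this
  have hc : ∀ i : Fin m, ∃ c : kˣ, g ⟨i.val, by omega⟩ = C (c : k) := by
    intro i
    obtain ⟨c, hc, h⟩ := (hat ⟨i.val, by omega⟩).of_natDegree_eq_zero (hlt ⟨i.val, by omega⟩ i.isLt)
    exact ⟨Units.mk0 c hc, h⟩
  choose c hc using hc
  let π : Fin (n - m) → k[X] := fun j => g ⟨m + j.val, by omega⟩
  have hπat : ∀ j, (π j).Monic ∧ Irreducible (π j) ∧ (π j).natDegree ≤ dd :=
    fun j => (hat _).of_natDegree_pos (hge _ (by simp))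
  have hπ0 : ∀ j, π j ≠ 0 := fun j => (hat _).ne_zero
  have hπlt : ∀ i j : Fin (n - m), i < j → natDegree (π i) < natDegree (π j) := by
    intro i j hij
    have hij' : i.val < j.val := hij
    have h1 : natDegree (π i) ≤ natDegree (π j) := hmono (by
      rw [Fin.le_def]; simp only; omega)
    rcases h1.lt_or_eq with h | h
    · exact h
    · exfalso
      have h2 := hdist ⟨m + i.val, by omega⟩ ⟨m + j.val, by omega⟩ (by
        intro h'
        have := congrArg Fin.val h'
        simp only at this
        omega) h
      have h3 := hge ⟨m + i.val, by omega⟩ (by simp)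
      omega
  apply AddSubgroup.subset_closure
  refine ⟨m, hm, c, π, hπ0, hπat, hπlt, ?_⟩
  rw [mul_symbol_symbol, cast_symbol]
  congr 1
  funext l
  simp only [Function.comp_apply]
  by_cases hl : l.val < m
  · have : Fin.cast (Nat.add_sub_cancel' hm).symm l = Fin.castAdd (n - m) ⟨l.val, hl⟩ := Fin.ext rfl
    rw [this, Fin.append_left, ← pu_C, ← hc]
  · have : Fin.cast (Nat.add_sub_cancel' hm).symm l = Fin.natAdd m ⟨l.val - m, by omega⟩ :=
      Fin.ext (by simp; omega)
    rw [this, Fin.append_right, ← pu_of_ne]
    congr 2
    apply Fin.ext
    simp only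
    omega

/-- distinct positive degrees suffice -/
theorem distinct_mem {n dd : ℕ} (f : Fin n → k[X]) (hat : ∀ j, IsAtom dd (f j))
    (hdist : ∀ i j, i ≠ j → (f i).natDegree = (f j).natDegree → (f i).natDegree = 0) :
    symbol (fun j => pu (f j)) ∈ Ggrp k n dd := by
  set σ : Equiv.Perm (Fin n) := Tuple.sort (fun j : Fin n => (f j).natDegree) with hσ
  have h1 : symbol (fun j => pu ((f ∘ σ) j)) ∈ Ggrp k n dd := by
    apply sorted_mem (f ∘ σ) (fun j => hat _)
    · exact Tuple.monotone_sort (fun j : Fin n => (f j).natDegree)
    · intro i j hij h
      exact hdist _ _ (fun h' => hij (σ.injective h')) h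
  have h2 := symbol_perm σ (fun j => pu (f j))
  have h3 : ((fun j => pu (f j)) ∘ ⇑σ) = fun j => pu ((f ∘ σ) j) := rfl
  rw [h3] at h2
  rw [h2] at h1
  rcases Int.units_eq_one_or (Equiv.Perm.sign σ) with h | h
  · rw [h] at h1; simpa using h1
  · rw [h] at h1
    simpa using h1

end Sorted

section Atoms

variable {k : Type u} [Field k]

theorem pu_update {n : ℕ} (f : Fin n → k[X]) (j : Fin n) (g : k[X]) :
    (fun l => pu (Function.update f j g l)) = Function.update (fun l => pu (f l)) j (pu g) := by
  funext l
  by_cases hl : l = j
  · subst hl; simp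
  · simp [Function.update_of_ne hl]

theorem sum_update_deg {n : ℕ} (f : Fin n → k[X]) (j : Fin n) (g : k[X]) :
    ∑ l, (Function.update f j g l).natDegree + (f j).natDegree =
      ∑ l, (f l).natDegree + g.natDegree := by
  have e1 : (fun l => (Function.update f j g l).natDegree) =
      Function.update (fun l => (f l).natDegree) j g.natDegree := by
    funext l
    by_cases hl : l = j
    · subst hl; simp
    · simp [Function.update_of_ne hl]
  rw [e1, Finset.sum_update_of_mem (Finset.mem_univ j), Finset.sdiff_singleton_eq_erase,
    ← Finset.add_sum_erase Finset.univ (fun l => (f l).natDegree) (Finset.mem_univ j)]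
  ring

theorem atoms_mem {n dd : ℕ} : ∀ (N : ℕ) (f : Fin n → k[X]), (∀ j, IsAtom dd (f j)) →
    ∑ l, (f l).natDegree = N → symbol (fun j => pu (f j)) ∈ Ggrp k n dd := by
  intro N
  induction N using Nat.strong_induction_on with
  | _ N ih =>
    intro f hat hN
    by_cases hdist : ∀ i j, i ≠ j → (f i).natDegree = (f j).natDegree → (f i).natDegree = 0
    · exact distinct_mem f hat hdist
    · push Not at hdist
      obtain ⟨i, j, hij, hdeg, hpos⟩ := hdist
      have hpos' : 0 < (f i).natDegree := Nat.pos_of_ne_zero hpos
      set e := (f i).natDegree with he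
      have hedd : e ≤ dd := (hat i).natDegree_le
      -- the key claim
      have key : ∀ f' : Fin n → k[X], (∀ l, l ≠ j → IsAtom dd (f' l)) →
          (∑ l, (Function.update f' j 1 l).natDegree) + e ≤ N → ∀ g : k[X], g ≠ 0 →
          g.natDegree < e → symbol (fun l => pu (Function.update f' j g l)) ∈ Ggrp k n dd := by
        intro f' hat' hsum
        have hsum' : ∀ g : k[X], ∑ l, (Function.update f' j g l).natDegree =
            ∑ l, (Function.update f' j 1 l).natDegree + g.natDegree := by
          intro g
          have h1 := sum_update_deg (Function.update f' j 1) j g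
          rw [Function.update_idem, Function.update_self, natDegree_one, add_zero] at h1
          exact h1
        apply poly_factor_induction
          (fun g => g.natDegree < e → symbol (fun l => pu (Function.update f' j g l)) ∈ Ggrp k n dd)
        · intro c hc _
          apply ih _ _ (Function.update f' j (C c)) _ rfl
          · rw [hsum', natDegree_C]; omega
          · intro l
            by_cases hl : l = j
            · subst hl; rw [Function.update_self]; exact isAtom_C hc
            · rw [Function.update_of_ne hl]; exact hat' l hl
        · intro q g hq hqi hg0 hQ hdeg'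
          rw [natDegree_mul hq.ne_zero hg0] at hdeg'
          rw [pu_update, pu_mul hq.ne_zero hg0, symbol_update_mul, ← pu_update, ← pu_update]
          apply AddSubgroup.add_mem
          · apply ih _ _ (Function.update f' j q) _ rfl
            · rw [hsum']; omega
            · intro l
              by_cases hl : l = j
              · subst hl; rw [Function.update_self]; exact Or.inr ⟨hq, hqi, by omega⟩
              · rw [Function.update_of_ne hl]; exact hat' l hl
          · exact hQ (by omega)
      have hsumf : (∑ l, (Function.update f j 1 l).natDegree) + e = N := by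
        have := sum_update_deg f j 1
        rw [natDegree_one, add_zero, ← hdeg, hN] at this
        exact this
      set x : Fin n → (RatFunc k)ˣ := fun l => pu (f l) with hx
      by_cases hff : f i = f j
      · have h2 := (two_slot x i j hij).2.2 (pu (f i))
        have e1 : Function.update (Function.update x i (pu (f i))) j (pu (f i)) = x := by
          rw [Function.update_eq_self_iff.mpr rfl, hff, Function.update_eq_self_iff.mpr rfl]
        rw [e1] at h2
        rw [h2, Function.update_eq_self_iff.mpr rfl, ← pu_neg_one, hx, ← pu_update]
        exact key f (fun l _ => hat l) hsumf.le (C (-1)) (C_ne_zero.mpr (neg_ne_zero.mpr one_ne_zero))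
          (by rw [natDegree_C]; exact hpos')
      · have hmi := (hat i).of_natDegree_pos hpos'
        have hmj := (hat j).of_natDegree_pos (by rw [← hdeg]; exact hpos')
        set h := f j - f i with hh
        have hh0 : h ≠ 0 := sub_ne_zero.mpr (Ne.symm hff)
        have hhdeg : h.natDegree < e := by
          have hdeg2 : (f j).degree = (f i).degree := by
            rw [degree_eq_natDegree hmj.1.ne_zero, degree_eq_natDegree hmi.1.ne_zero, ← hdeg]
          have h1 := degree_sub_lt_left hdeg2 hmj.1.ne_zero (by rw [hmj.1.leadingCoeff, hmi.1.leadingCoeff])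
          rw [← hh] at h1
          have h2 : h.degree < (e : WithBot ℕ) := by
            rw [hdeg, ← degree_eq_natDegree hmj.1.ne_zero]; exact h1
          exact (natDegree_lt_iff_degree_lt hh0).mpr h2
        have hrel := bimul_relation (F := RatFunc k)
          (fun a b => symbol (Function.update (Function.update x i a) j b))
          (by
            intro a a' b
            simp only [Function.update_comm hij _ _ x]
            exact symbol_update_mul _ i a a')
          (by
            intro a b b'
            exact symbol_update_mul _ j b b')
          (by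
            intro a b hab
            apply symbol_eq_zero_of_isSteinberg
            rcases lt_or_gt_of_ne hij with h' | h'
            · refine ⟨i, j, h', ?_⟩
              simp [Function.update_of_ne hij, hab]
            · refine ⟨j, i, h', ?_⟩
              simp [Function.update_of_ne hij, add_comm, hab])
          (pu (f i)) (pu (f j)) (pu h) (by
            rw [coe_pu hmi.1.ne_zero, coe_pu hmj.1.ne_zero, coe_pu hh0, ← map_add, hh]
            congr 1
            ring)
        beta_reduce at hrel
        have e1 : Function.update (Function.update x i (pu (f i))) j (pu (f j)) = x := by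
          rw [Function.update_eq_self_iff.mpr rfl, Function.update_eq_self_iff.mpr rfl]
        rw [e1] at hrel
        rw [hrel]
        have hat2 : ∀ l, l ≠ j → IsAtom dd (Function.update f i (f j) l) := by
          intro l _
          by_cases hl : l = i
          · subst hl; rw [Function.update_self]; exact hat j
          · rw [Function.update_of_ne hl]; exact hat l
        have hsum2 : (∑ l, (Function.update (Function.update f i (f j)) j 1 l).natDegree) + e ≤ N := by
          rw [Function.update_comm hij]
          have := sum_update_deg (Function.update f j 1) i (f j)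
          rw [Function.update_of_ne hij, ← he, ← hdeg] at this
          omega
        apply AddSubgroup.add_mem
        · apply AddSubgroup.sub_mem
          · rw [Function.update_eq_self_iff.mpr rfl, hx, ← pu_update]
            exact key f (fun l _ => hat l) hsumf.le h hh0 hhdeg
          · rw [hx, ← pu_update, ← pu_update]
            exact key _ hat2 hsum2 h hh0 hhdeg
        · rw [hx, ← pu_update, ← pu_neg_one, ← pu_update]
          exact key _ hat2 hsum2 (C (-1)) (C_ne_zero.mpr (neg_ne_zero.mpr one_ne_zero))
            (by rw [natDegree_C]; exact hpos')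

end Atoms

section Final

variable {k : Type u} [Field k]

theorem poly_mem {n dd : ℕ} (f : Fin n → k[X]) (hf : ∀ j, f j ≠ 0)
    (hd : ∀ j, (f j).natDegree ≤ dd) : symbol (fun j => pu (f j)) ∈ Ggrp k n dd := by
  classical
  have key : ∀ S : Finset (Fin n), ∀ f : Fin n → k[X], (∀ j, f j ≠ 0) →
      (∀ j, (f j).natDegree ≤ dd) → (∀ j, j ∉ S → IsAtom dd (f j)) →
      symbol (fun j => pu (f j)) ∈ Ggrp k n dd := by
    intro S
    induction S using Finset.induction_on with
    | empty =>
      intro f _ _ hat
      exact atoms_mem _ f (fun j => hat j (Finset.notMem_empty j)) rfl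
    | insert a S ha ih =>
      intro f hf hd hat
      have h1 : ∀ g : k[X], g ≠ 0 → g.natDegree ≤ dd →
          symbol (fun l => pu (Function.update f a g l)) ∈ Ggrp k n dd := by
        apply poly_factor_induction
          (fun g => g.natDegree ≤ dd → symbol (fun l => pu (Function.update f a g l)) ∈ Ggrp k n dd)
        · intro c hc _
          apply ih
          · intro j
            by_cases hj : j = a
            · subst hj; rw [Function.update_self]; exact C_ne_zero.mpr hc
            · rw [Function.update_of_ne hj]; exact hf j
          · intro j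
            by_cases hj : j = a
            · subst hj; rw [Function.update_self, natDegree_C]; exact Nat.zero_le _
            · rw [Function.update_of_ne hj]; exact hd j
          · intro j hjS
            by_cases hj : j = a
            · subst hj; rw [Function.update_self]; exact isAtom_C hc
            · rw [Function.update_of_ne hj]
              exact hat j (by simp [hj, hjS])
        · intro q g hq hqi hg0 hQ hdeg
          rw [natDegree_mul hq.ne_zero hg0] at hdeg
          rw [pu_update, pu_mul hq.ne_zero hg0, symbol_update_mul, ← pu_update, ← pu_update]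
          apply AddSubgroup.add_mem
          · apply ih
            · intro j
              by_cases hj : j = a
              · subst hj; rw [Function.update_self]; exact hq.ne_zero
              · rw [Function.update_of_ne hj]; exact hf j
            · intro j
              by_cases hj : j = a
              · subst hj; rw [Function.update_self]; omega
              · rw [Function.update_of_ne hj]; exact hd j
            · intro j hjS
              by_cases hj : j = a
              · subst hj; rw [Function.update_self]; exact Or.inr ⟨hq, hqi, by omega⟩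
              · rw [Function.update_of_ne hj]
                exact hat j (by simp [hj, hjS])
          · exact hQ (by omega)
      have := h1 (f a) (hf a) (hd a)
      rwa [Function.update_eq_self] at this
  exact key Finset.univ f hf hd (fun j hj => absurd (Finset.mem_univ j) hj)

theorem Lgrp_eq_Ggrp (n dd : ℕ) : Lgrp k n dd = Ggrp k n dd := by
  apply le_antisymm
  · rw [Lgrp, AddSubgroup.closure_le]
    rintro _ ⟨f, hf, hd, rfl⟩
    have := poly_mem f hf hd
    have e : (fun j => pu (f j)) = fun j => unitFrac k[X] (RatFunc k) (f j) (hf j) := by
      funext j; exact pu_of_ne (hf j)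
    rw [e] at this
    exact this
  · rw [Ggrp, AddSubgroup.closure_le]
    rintro _ ⟨m, hm, c, π, hπ0, hπ, -, rfl⟩
    rw [mul_symbol_symbol, cast_symbol]
    set F : Fin n → k[X] := fun l => Fin.append (fun i => C (c i : k)) π
      (Fin.cast (Nat.add_sub_cancel' hm).symm l) with hF
    have hFapp : ∀ t : Fin (m + (n - m)), Fin.append (fun i => C (c i : k)) π t ≠ 0 ∧
        (Fin.append (fun i => C (c i : k)) π t).natDegree ≤ dd ∧
        pu (Fin.append (fun i => C (c i : k)) π t) =
          Fin.append (fun i => Units.map (RatFunc.C : k →+* RatFunc k).toMonoidHom (c i))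
            (fun j => unitFrac k[X] (RatFunc k) (π j) (hπ0 j)) t := by
      intro t
      refine Fin.addCases (fun i => ?_) (fun j => ?_) t
      · rw [Fin.append_left, Fin.append_left]
        exact ⟨C_ne_zero.mpr (c i).ne_zero, by rw [natDegree_C]; exact Nat.zero_le _, pu_C (c i)⟩
      · rw [Fin.append_right, Fin.append_right]
        exact ⟨hπ0 j, (hπ j).2.2, pu_of_ne (hπ0 j)⟩
    have := symbol_pu_mem_Lgrp F (fun l => (hFapp _).1) (fun l => (hFapp _).2.1)
    have e : (fun j => pu (F j)) = (Fin.append
        (fun i => Units.map (RatFunc.C : k →+* RatFunc k).toMonoidHom (c i))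
        (fun j => unitFrac k[X] (RatFunc k) (π j) (hπ0 j))) ∘
          Fin.cast (Nat.add_sub_cancel' hm).symm := by
      funext l
      exact (hFapp _).2.2
    rw [e] at this
    exact this

end Final

section Gen

variable {k : Type u} [Field k]

theorem atoms_mem_gen {n dd : ℕ} (G : AddSubgroup (K (RatFunc k) n))
    (hbase : ∀ f : Fin n → k[X], (∀ j, IsAtom dd (f j)) →
      (∀ i j, i ≠ j → (f i).natDegree = (f j).natDegree → (f i).natDegree = 0) →
      symbol (fun j => pu (f j)) ∈ G) : ∀ (N : ℕ) (f : Fin n → k[X]), (∀ j, IsAtom dd (f j)) →
    ∑ l, (f l).natDegree = N → symbol (fun j => pu (f j)) ∈ G := by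
  intro N
  induction N using Nat.strong_induction_on with
  | _ N ih =>
    intro f hat hN
    by_cases hdist : ∀ i j, i ≠ j → (f i).natDegree = (f j).natDegree → (f i).natDegree = 0
    · exact hbase f hat hdist
    · push Not at hdist
      obtain ⟨i, j, hij, hdeg, hpos⟩ := hdist
      have hpos' : 0 < (f i).natDegree := Nat.pos_of_ne_zero hpos
      set e := (f i).natDegree with he
      have hedd : e ≤ dd := (hat i).natDegree_le
      -- the key claim
      have key : ∀ f' : Fin n → k[X], (∀ l, l ≠ j → IsAtom dd (f' l)) →
          (∑ l, (Function.update f' j 1 l).natDegree) + e ≤ N → ∀ g : k[X], g ≠ 0 →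
          g.natDegree < e → symbol (fun l => pu (Function.update f' j g l)) ∈ G := by
        intro f' hat' hsum
        have hsum' : ∀ g : k[X], ∑ l, (Function.update f' j g l).natDegree =
            ∑ l, (Function.update f' j 1 l).natDegree + g.natDegree := by
          intro g
          have h1 := sum_update_deg (Function.update f' j 1) j g
          rw [Function.update_idem, Function.update_self, natDegree_one, add_zero] at h1
          exact h1
        apply poly_factor_induction
          (fun g => g.natDegree < e → symbol (fun l => pu (Function.update f' j g l)) ∈ G)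
        · intro c hc _
          apply ih _ _ (Function.update f' j (C c)) _ rfl
          · rw [hsum', natDegree_C]; omega
          · intro l
            by_cases hl : l = j
            · subst hl; rw [Function.update_self]; exact isAtom_C hc
            · rw [Function.update_of_ne hl]; exact hat' l hl
        · intro q g hq hqi hg0 hQ hdeg'
          rw [natDegree_mul hq.ne_zero hg0] at hdeg'
          rw [pu_update, pu_mul hq.ne_zero hg0, symbol_update_mul, ← pu_update, ← pu_update]
          apply AddSubgroup.add_mem
          · apply ih _ _ (Function.update f' j q) _ rfl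
            · rw [hsum']; omega
            · intro l
              by_cases hl : l = j
              · subst hl; rw [Function.update_self]; exact Or.inr ⟨hq, hqi, by omega⟩
              · rw [Function.update_of_ne hl]; exact hat' l hl
          · exact hQ (by omega)
      have hsumf : (∑ l, (Function.update f j 1 l).natDegree) + e = N := by
        have := sum_update_deg f j 1
        rw [natDegree_one, add_zero, ← hdeg, hN] at this
        exact this
      set x : Fin n → (RatFunc k)ˣ := fun l => pu (f l) with hx
      by_cases hff : f i = f j
      · have h2 := (two_slot x i j hij).2.2 (pu (f i))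
        have e1 : Function.update (Function.update x i (pu (f i))) j (pu (f i)) = x := by
          rw [Function.update_eq_self_iff.mpr rfl, hff, Function.update_eq_self_iff.mpr rfl]
        rw [e1] at h2
        rw [h2, Function.update_eq_self_iff.mpr rfl, ← pu_neg_one, hx, ← pu_update]
        exact key f (fun l _ => hat l) hsumf.le (C (-1)) (C_ne_zero.mpr (neg_ne_zero.mpr one_ne_zero))
          (by rw [natDegree_C]; exact hpos')
      · have hmi := (hat i).of_natDegree_pos hpos'
        have hmj := (hat j).of_natDegree_pos (by rw [← hdeg]; exact hpos')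
        set h := f j - f i with hh
        have hh0 : h ≠ 0 := sub_ne_zero.mpr (Ne.symm hff)
        have hhdeg : h.natDegree < e := by
          have hdeg2 : (f j).degree = (f i).degree := by
            rw [degree_eq_natDegree hmj.1.ne_zero, degree_eq_natDegree hmi.1.ne_zero, ← hdeg]
          have h1 := degree_sub_lt_left hdeg2 hmj.1.ne_zero (by rw [hmj.1.leadingCoeff, hmi.1.leadingCoeff])
          rw [← hh] at h1
          have h2 : h.degree < (e : WithBot ℕ) := by
            rw [hdeg, ← degree_eq_natDegree hmj.1.ne_zero]; exact h1
          exact (natDegree_lt_iff_degree_lt hh0).mpr h2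
        have hrel := bimul_relation (F := RatFunc k)
          (fun a b => symbol (Function.update (Function.update x i a) j b))
          (by
            intro a a' b
            simp only [Function.update_comm hij _ _ x]
            exact symbol_update_mul _ i a a')
          (by
            intro a b b'
            exact symbol_update_mul _ j b b')
          (by
            intro a b hab
            apply symbol_eq_zero_of_isSteinberg
            rcases lt_or_gt_of_ne hij with h' | h'
            · refine ⟨i, j, h', ?_⟩
              simp [Function.update_of_ne hij, hab]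
            · refine ⟨j, i, h', ?_⟩
              simp [Function.update_of_ne hij, add_comm, hab])
          (pu (f i)) (pu (f j)) (pu h) (by
            rw [coe_pu hmi.1.ne_zero, coe_pu hmj.1.ne_zero, coe_pu hh0, ← map_add, hh]
            congr 1
            ring)
        beta_reduce at hrel
        have e1 : Function.update (Function.update x i (pu (f i))) j (pu (f j)) = x := by
          rw [Function.update_eq_self_iff.mpr rfl, Function.update_eq_self_iff.mpr rfl]
        rw [e1] at hrel
        rw [hrel]
        have hat2 : ∀ l, l ≠ j → IsAtom dd (Function.update f i (f j) l) := by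
          intro l _
          by_cases hl : l = i
          · subst hl; rw [Function.update_self]; exact hat j
          · rw [Function.update_of_ne hl]; exact hat l
        have hsum2 : (∑ l, (Function.update (Function.update f i (f j)) j 1 l).natDegree) + e ≤ N := by
          rw [Function.update_comm hij]
          have := sum_update_deg (Function.update f j 1) i (f j)
          rw [Function.update_of_ne hij, ← he, ← hdeg] at this
          omega
        apply AddSubgroup.add_mem
        · apply AddSubgroup.sub_mem
          · rw [Function.update_eq_self_iff.mpr rfl, hx, ← pu_update]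
            exact key f (fun l _ => hat l) hsumf.le h hh0 hhdeg
          · rw [hx, ← pu_update, ← pu_update]
            exact key _ hat2 hsum2 h hh0 hhdeg
        · rw [hx, ← pu_update, ← pu_neg_one, ← pu_update]
          exact key _ hat2 hsum2 (C (-1)) (C_ne_zero.mpr (neg_ne_zero.mpr one_ne_zero))
            (by rw [natDegree_C]; exact hpos')


theorem poly_mem_gen {n dd : ℕ} (G : AddSubgroup (K (RatFunc k) n))
    (hbase : ∀ f : Fin n → k[X], (∀ j, IsAtom dd (f j)) →
      (∀ i j, i ≠ j → (f i).natDegree = (f j).natDegree → (f i).natDegree = 0) →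
      symbol (fun j => pu (f j)) ∈ G) (f : Fin n → k[X]) (hf : ∀ j, f j ≠ 0)
    (hd : ∀ j, (f j).natDegree ≤ dd) : symbol (fun j => pu (f j)) ∈ G := by
  classical
  have key : ∀ S : Finset (Fin n), ∀ f : Fin n → k[X], (∀ j, f j ≠ 0) →
      (∀ j, (f j).natDegree ≤ dd) → (∀ j, j ∉ S → IsAtom dd (f j)) →
      symbol (fun j => pu (f j)) ∈ G := by
    intro S
    induction S using Finset.induction_on with
    | empty =>
      intro f _ _ hat
      exact atoms_mem_gen G hbase _ f (fun j => hat j (Finset.notMem_empty j)) rfl
    | insert a S ha ih =>
      intro f hf hd hat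
      have h1 : ∀ g : k[X], g ≠ 0 → g.natDegree ≤ dd →
          symbol (fun l => pu (Function.update f a g l)) ∈ G := by
        apply poly_factor_induction
          (fun g => g.natDegree ≤ dd → symbol (fun l => pu (Function.update f a g l)) ∈ G)
        · intro c hc _
          apply ih
          · intro j
            by_cases hj : j = a
            · subst hj; rw [Function.update_self]; exact C_ne_zero.mpr hc
            · rw [Function.update_of_ne hj]; exact hf j
          · intro j
            by_cases hj : j = a
            · subst hj; rw [Function.update_self, natDegree_C]; exact Nat.zero_le _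
            · rw [Function.update_of_ne hj]; exact hd j
          · intro j hjS
            by_cases hj : j = a
            · subst hj; rw [Function.update_self]; exact isAtom_C hc
            · rw [Function.update_of_ne hj]
              exact hat j (by simp [hj, hjS])
        · intro q g hq hqi hg0 hQ hdeg
          rw [natDegree_mul hq.ne_zero hg0] at hdeg
          rw [pu_update, pu_mul hq.ne_zero hg0, symbol_update_mul, ← pu_update, ← pu_update]
          apply AddSubgroup.add_mem
          · apply ih
            · intro j
              by_cases hj : j = a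
              · subst hj; rw [Function.update_self]; exact hq.ne_zero
              · rw [Function.update_of_ne hj]; exact hf j
            · intro j
              by_cases hj : j = a
              · subst hj; rw [Function.update_self]; omega
              · rw [Function.update_of_ne hj]; exact hd j
            · intro j hjS
              by_cases hj : j = a
              · subst hj; rw [Function.update_self]; exact Or.inr ⟨hq, hqi, by omega⟩
              · rw [Function.update_of_ne hj]
                exact hat j (by simp [hj, hjS])
          · exact hQ (by omega)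
      have := h1 (f a) (hf a) (hd a)
      rwa [Function.update_eq_self] at this
  exact key Finset.univ f hf hd (fun j hj => absurd (Finset.mem_univ j) hj)


end Gen

end Groth.Agent.Helper20.MilKpoly
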