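import Mathlib
import Groth.Prelude.Def_GSzMilK
import Groth.Agent.Lib.Helper20.MilKn

namespace Groth.Agent.Helper20.MilKdvr

open MilK Groth.Agent.Helper20.MilKn

universe u v

section Decomp

variable (A : Type u) [CommRing A] [IsDomain A] [IsDiscreteValuationRing A]
  (L : Type v) [Field L] [Algebra A L] [IsFractionRing A L]

theorem unitToFrac_injective : Function.Injective (unitToFrac A L) := by
  intro a b h
  apply Units.ext
  apply IsFractionRing.injective A L
  have := congrArg Units.val h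
  simpa [unitToFrac] using this

variable (ϖ : A) (hϖ : Irreducible ϖ)

include hϖ in
theorem pow_ne_unit (k : ℕ) (hk : k ≠ 0) (u : Aˣ) : ϖ ^ k ≠ u := by
  intro h
  have : IsUnit (ϖ ^ k) := h ▸ u.isUnit
  rw [isUnit_pow_iff hk] at this
  exact hϖ.not_isUnit this

theorem zpow_mul_unit_eq_one (e : ℤ) (u : Aˣ)
    (h : unitFrac A L ϖ hϖ.ne_zero ^ e * unitToFrac A L u = 1) : e = 0 ∧ u = 1 := by
  have hinj := IsFractionRing.injective A L
  have he : e = 0 := by
    by_contra he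
    rcases lt_or_gt_of_ne he with hneg | hpos
    · obtain ⟨k, rfl⟩ : ∃ k : ℕ, e = -(k : ℤ) := ⟨(-e).toNat, by omega⟩
      have hk : k ≠ 0 := by rintro rfl; simp at he
      rw [zpow_neg, zpow_natCast, inv_mul_eq_one] at h
      have h' := congrArg Units.val h
      simp only [Units.val_pow_eq_pow_val, coe_unitFrac, unitToFrac, Units.coe_map,
        MonoidHom.coe_coe, ← map_pow] at h'
      exact pow_ne_unit A ϖ hϖ k hk u (hinj h')
    · obtain ⟨k, rfl⟩ : ∃ k : ℕ, e = (k : ℤ) := ⟨e.toNat, by omega⟩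
      have hk : k ≠ 0 := by rintro rfl; simp at he
      rw [zpow_natCast, mul_eq_one_iff_eq_inv, ← map_inv] at h
      have h' := congrArg Units.val h
      simp only [Units.val_pow_eq_pow_val, coe_unitFrac, unitToFrac, Units.coe_map,
        MonoidHom.coe_coe, ← map_pow] at h'
      exact pow_ne_unit A ϖ hϖ k hk u⁻¹ (hinj h')
  subst he
  refine ⟨rfl, ?_⟩
  rw [zpow_zero, one_mul] at h
  exact unitToFrac_injective A L (h.trans (map_one _).symm)

/-- `(e, u) ↦ π ^ e * u`. -/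
noncomputable def decompHom : Multiplicative ℤ × Aˣ →* Lˣ :=
  (zpowersHom Lˣ (unitFrac A L ϖ hϖ.ne_zero)).coprod (unitToFrac A L)

theorem decompHom_apply (e : Multiplicative ℤ) (u : Aˣ) :
    decompHom A L ϖ hϖ (e, u) = unitFrac A L ϖ hϖ.ne_zero ^ (Multiplicative.toAdd e) * unitToFrac A L u := by
  simp [decompHom, MonoidHom.coprod_apply, zpowersHom_apply]

theorem decompHom_bijective : Function.Bijective (decompHom A L ϖ hϖ) := by
  constructor
  · rw [injective_iff_map_eq_one]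
    rintro ⟨e, u⟩ h
    rw [decompHom_apply] at h
    obtain ⟨h1, h2⟩ := zpow_mul_unit_eq_one A L ϖ hϖ _ u h
    ext
    · exact h1
    · rw [h2]; rfl
  · intro y
    obtain ⟨e, u, h⟩ := exists_zpow_mul_unit A L ϖ hϖ y
    exact ⟨(Multiplicative.ofAdd e, u), by rw [decompHom_apply, h]; rfl⟩

noncomputable def decompEquiv : Multiplicative ℤ × Aˣ ≃* Lˣ :=
  MulEquiv.ofBijective (decompHom A L ϖ hϖ) (decompHom_bijective A L ϖ hϖ)

/-- the valuation of an element of `Lˣ`. -/
noncomputable def ord : Lˣ →* Multiplicative ℤ :=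
  (MonoidHom.fst _ _).comp (decompEquiv A L ϖ hϖ).symm.toMonoidHom

/-- the unit part reduced to the residue field -/
noncomputable def lam : Lˣ →* (IsLocalRing.ResidueField A)ˣ :=
  (unitResidue A).comp ((MonoidHom.snd _ _).comp (decompEquiv A L ϖ hϖ).symm.toMonoidHom)

theorem decompEquiv_symm_apply (e : ℤ) (u : Aˣ) :
    (decompEquiv A L ϖ hϖ).symm (unitFrac A L ϖ hϖ.ne_zero ^ e * unitToFrac A L u) =
      (Multiplicative.ofAdd e, u) := by
  rw [MulEquiv.symm_apply_eq]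
  simp [decompEquiv, decompHom_apply]

@[simp]
theorem ord_apply (e : ℤ) (u : Aˣ) :
    ord A L ϖ hϖ (unitFrac A L ϖ hϖ.ne_zero ^ e * unitToFrac A L u) = Multiplicative.ofAdd e := by
  simp [ord, decompEquiv_symm_apply]

@[simp]
theorem lam_apply (e : ℤ) (u : Aˣ) :
    lam A L ϖ hϖ (unitFrac A L ϖ hϖ.ne_zero ^ e * unitToFrac A L u) = unitResidue A u := by
  simp [lam, decompEquiv_symm_apply]

theorem decomp_unique {e e' : ℤ} {u u' : Aˣ}
    (h : unitFrac A L ϖ hϖ.ne_zero ^ e * unitToFrac A L u =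
      unitFrac A L ϖ hϖ.ne_zero ^ e' * unitToFrac A L u') : e = e' ∧ u = u' := by
  have h1 := congrArg (decompEquiv A L ϖ hϖ).symm h
  rw [decompEquiv_symm_apply, decompEquiv_symm_apply] at h1
  have := Prod.ext_iff.mp h1
  exact ⟨by simpa using this.1, this.2⟩

end Decomp

section Cases

variable (A : Type u) [CommRing A] [IsDomain A] [IsDiscreteValuationRing A]
  (L : Type v) [Field L] [Algebra A L] [IsFractionRing A L]
variable (ϖ : A) (hϖ : Irreducible ϖ)

/-- integer valued valuation -/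
noncomputable def ordZ (y : Lˣ) : ℤ := Multiplicative.toAdd (ord A L ϖ hϖ y)

@[simp]
theorem ordZ_apply (e : ℤ) (u : Aˣ) :
    ordZ A L ϖ hϖ (unitFrac A L ϖ hϖ.ne_zero ^ e * unitToFrac A L u) = e := by
  simp [ordZ]

theorem ordZ_mul (x y : Lˣ) : ordZ A L ϖ hϖ (x * y) = ordZ A L ϖ hϖ x + ordZ A L ϖ hϖ y := by
  simp [ordZ]

theorem unit_of_residue_ne_zero (z : A) (hz : IsLocalRing.residue A z ≠ 0) : ∃ z' : Aˣ, (z' : A) = z := by
  have : IsUnit z := by
    by_contra h
    exact hz ((IsLocalRing.residue_eq_zero_iff z).mpr ((IsLocalRing.mem_maximalIdeal z).mpr h))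
  exact this

theorem unitResidue_ne_zero (u : Aˣ) : ((unitResidue A u : (IsLocalRing.ResidueField A)ˣ) : IsLocalRing.ResidueField A) ≠ 0 :=
  Units.ne_zero _

theorem coe_unitResidue (u : Aˣ) :
    ((unitResidue A u : (IsLocalRing.ResidueField A)ˣ) : IsLocalRing.ResidueField A) =
      IsLocalRing.residue A (u : A) := rfl

include hϖ in
theorem residue_pow_pos (k : ℕ) (hk : k ≠ 0) : IsLocalRing.residue A (ϖ ^ k) = 0 := by
  rw [map_pow, (IsLocalRing.residue_eq_zero_iff ϖ).mpr ((IsLocalRing.mem_maximalIdeal ϖ).mpr hϖ.not_isUnit),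
    zero_pow hk]

theorem eq_of_val_eq (q : Lˣ) (e : ℤ) (z : Aˣ)
    (h : (q : L) = algebraMap A L ϖ ^ e * algebraMap A L (z : A)) :
    q = unitFrac A L ϖ hϖ.ne_zero ^ e * unitToFrac A L z := by
  ext
  simp [h, unitToFrac]

include hϖ in
theorem cases_pos (a : ℤ) (ha : 0 < a) (u : Aˣ) (q : Lˣ)
    (h : (algebraMap A L ϖ ^ a * algebraMap A L (u : A) : L) + q = 1) :
    ordZ A L ϖ hϖ q = 0 ∧ lam A L ϖ hϖ q = 1 := by
  obtain ⟨k, rfl⟩ : ∃ k : ℕ, a = (k : ℤ) := ⟨a.toNat, by omega⟩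
  have hk : k ≠ 0 := by rintro rfl; simp at ha
  have hres : IsLocalRing.residue A (1 - ϖ ^ k * u) = 1 := by
    rw [map_sub, map_mul, residue_pow_pos A ϖ hϖ k hk, map_one, zero_mul, sub_zero]
  obtain ⟨z, hz⟩ := unit_of_residue_ne_zero A (1 - ϖ ^ k * u) (by rw [hres]; exact one_ne_zero)
  have hq : q = unitFrac A L ϖ hϖ.ne_zero ^ (0 : ℤ) * unitToFrac A L z := by
    apply eq_of_val_eq A L ϖ hϖ
    rw [zpow_zero, one_mul, hz, map_sub, map_one, map_mul, map_pow]
    rw [zpow_natCast] at h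
    linear_combination h
  rw [hq]
  refine ⟨ordZ_apply A L ϖ hϖ 0 z, ?_⟩
  rw [lam_apply]
  ext
  rw [coe_unitResidue, hz, hres]
  rfl

include hϖ in
theorem cases_neg (a : ℤ) (ha : a < 0) (u : Aˣ) (q : Lˣ)
    (h : (algebraMap A L ϖ ^ a * algebraMap A L (u : A) : L) + q = 1) :
    ordZ A L ϖ hϖ q = a ∧ lam A L ϖ hϖ q = - unitResidue A u := by
  obtain ⟨k, rfl⟩ : ∃ k : ℕ, a = -(k : ℤ) := ⟨(-a).toNat, by omega⟩
  have hk : k ≠ 0 := by rintro rfl; simp at ha
  have hres : IsLocalRing.residue A (ϖ ^ k - u) = - IsLocalRing.residue A (u : A) := by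
    rw [map_sub, residue_pow_pos A ϖ hϖ k hk, zero_sub]
  obtain ⟨z, hz⟩ := unit_of_residue_ne_zero A (ϖ ^ k - u) (by
    rw [hres, neg_ne_zero, ← coe_unitResidue]; exact Units.ne_zero _)
  have hπ : algebraMap A L ϖ ≠ 0 := (unitFrac A L ϖ hϖ.ne_zero).ne_zero
  have hq : q = unitFrac A L ϖ hϖ.ne_zero ^ (-(k : ℤ)) * unitToFrac A L z := by
    apply eq_of_val_eq A L ϖ hϖ
    rw [hz, map_sub, map_pow, zpow_neg, zpow_natCast]
    rw [zpow_neg, zpow_natCast] at h
    have : (algebraMap A L ϖ ^ k) ≠ 0 := pow_ne_zero _ hπ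
    field_simp
    field_simp at h
    linear_combination h
  rw [hq]
  refine ⟨ordZ_apply A L ϖ hϖ _ z, ?_⟩
  rw [lam_apply]
  ext
  rw [coe_unitResidue, hz, hres, Units.val_neg, coe_unitResidue]

theorem steinberg_cases (p q : Lˣ) (h : (p : L) + q = 1) :
    (ordZ A L ϖ hϖ q = 0 ∧ lam A L ϖ hϖ q = 1) ∨ (ordZ A L ϖ hϖ p = 0 ∧ lam A L ϖ hϖ p = 1) ∨
    (ordZ A L ϖ hϖ p = 0 ∧ ordZ A L ϖ hϖ q = 0 ∧
      ((lam A L ϖ hϖ p : (IsLocalRing.ResidueField A)ˣ) : IsLocalRing.ResidueField A) +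
        (lam A L ϖ hϖ q : (IsLocalRing.ResidueField A)ˣ) = 1) ∨
    (ordZ A L ϖ hϖ q = ordZ A L ϖ hϖ p ∧ lam A L ϖ hϖ q = - lam A L ϖ hϖ p) := by
  obtain ⟨a, u, hp⟩ := exists_zpow_mul_unit A L ϖ hϖ p
  obtain ⟨b, w, hq⟩ := exists_zpow_mul_unit A L ϖ hϖ q
  have hp' : (p : L) = algebraMap A L ϖ ^ a * algebraMap A L (u : A) := by
    rw [hp]; simp [unitToFrac]
  have hq' : (q : L) = algebraMap A L ϖ ^ b * algebraMap A L (w : A) := by
    rw [hq]; simp [unitToFrac]
  have hoa : ordZ A L ϖ hϖ p = a := by rw [hp, ordZ_apply]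
  have hob : ordZ A L ϖ hϖ q = b := by rw [hq, ordZ_apply]
  have hla : lam A L ϖ hϖ p = unitResidue A u := by rw [hp, lam_apply]
  have hlb : lam A L ϖ hϖ q = unitResidue A w := by rw [hq, lam_apply]
  rcases lt_trichotomy a 0 with ha | ha | ha
  · right; right; right
    have := cases_neg A L ϖ hϖ a ha u q (by rw [← hp']; exact h)
    rw [hoa, hla]; exact this
  · rcases lt_trichotomy b 0 with hb | hb | hb
    · right; right; right
      have := cases_neg A L ϖ hϖ b hb w p (by rw [← hq', add_comm]; exact h)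
      rw [hob, hlb, this.1, this.2, neg_neg]
      exact ⟨rfl, rfl⟩
    · right; right; left
      subst ha hb
      refine ⟨hoa, hob, ?_⟩
      rw [hla, hlb, coe_unitResidue, coe_unitResidue, ← map_add]
      rw [hp', hq', zpow_zero, one_mul, one_mul, ← map_add] at h
      have := IsFractionRing.injective A L (h.trans (map_one _).symm)
      rw [this, map_one]
    · right; left
      exact cases_pos A L ϖ hϖ b hb w p (by rw [← hq', add_comm]; exact h)
  · left
    exact cases_pos A L ϖ hϖ a ha u q (by rw [← hp']; exact h)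

end Cases

theorem symbol_eq_zero_of_one {F : Type u} [Field F] {n : ℕ} (x : Fin n → Fˣ) (i : Fin n)
    (h : x i = 1) : symbol x = 0 := by
  have := symbol_update_one x i
  rwa [← h, Function.update_eq_self] at this

section Spec

variable (A : Type u) [CommRing A] [IsDomain A] [IsDiscreteValuationRing A]
  (L : Type v) [Field L] [Algebra A L] [IsFractionRing A L]
variable (ϖ : A) (hϖ : Irreducible ϖ)

noncomputable def specML (n : ℕ) :
    MultilinearMap ℤ (fun _ : Fin n => Additive Lˣ) (K (IsLocalRing.ResidueField A) n) :=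
  (symML n).compLinearMap (fun _ => (MonoidHom.toAdditive (lam A L ϖ hϖ)).toIntLinearMap)

theorem specML_apply {n : ℕ} (x : Fin n → Lˣ) :
    specML A L ϖ hϖ n (fun i => Additive.ofMul (x i)) = symbol (fun i => lam A L ϖ hϖ (x i)) := rfl

theorem specML_steinberg {n : ℕ} (x : Fin n → Lˣ) (h : IsSteinberg L x) :
    specML A L ϖ hϖ n (fun i => Additive.ofMul (x i)) = 0 := by
  obtain ⟨i, j, hij, hs⟩ := h
  rw [specML_apply]
  rcases steinberg_cases A L ϖ hϖ (x i) (x j) hs with h1 | h1 | h1 | h1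
  · exact symbol_eq_zero_of_one _ j h1.2
  · exact symbol_eq_zero_of_one _ i h1.2
  · exact symbol_eq_zero_of_isSteinberg _ ⟨i, j, hij, h1.2.2⟩
  · exact symbol_eq_zero_of_eq_neg _ i j hij.ne h1.2

/-- the specialization map -/
noncomputable def spec (n : ℕ) : K L n →+ K (IsLocalRing.ResidueField A) n :=
  MilK.lift (specML A L ϖ hϖ n) (specML_steinberg A L ϖ hϖ)

theorem spec_symbol {n : ℕ} (x : Fin n → Lˣ) :
    spec A L ϖ hϖ n (symbol x) = symbol (fun i => lam A L ϖ hϖ (x i)) := by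
  rw [spec, lift_symbol, specML_apply]

theorem isSpecMap_spec (n : ℕ) : IsSpecMap A L ϖ hϖ n (spec A L ϖ hϖ n) := by
  intro e u
  rw [spec_symbol]
  congr 1
  funext i
  exact lam_apply A L ϖ hϖ (e i) (u i)

theorem isSpecMap_symbol {n : ℕ} (s : K L n →+ K (IsLocalRing.ResidueField A) n)
    (hs : IsSpecMap A L ϖ hϖ n s) (x : Fin n → Lˣ) :
    s (symbol x) = symbol (fun i => lam A L ϖ hϖ (x i)) := by
  choose e u hx using fun i => exists_zpow_mul_unit A L ϖ hϖ (x i)
  have hx' : x = fun i => unitFrac A L ϖ hϖ.ne_zero ^ e i * unitToFrac A L (u i) := funext hx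
  rw [hx', hs e u]
  congr 1
  funext i
  exact (lam_apply A L ϖ hϖ (e i) (u i)).symm

theorem isSpecMap_unique {n : ℕ} (s s' : K L n →+ K (IsLocalRing.ResidueField A) n)
    (hs : IsSpecMap A L ϖ hϖ n s) (hs' : IsSpecMap A L ϖ hϖ n s') : s = s' := by
  apply hom_ext_symbol
  intro x
  rw [isSpecMap_symbol A L ϖ hϖ s hs, isSpecMap_symbol A L ϖ hϖ s' hs']

end Spec

end Groth.Agent.Helper20.MilKdvr
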