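import Mathlib
import Groth.Prelude.Def_GSzMilK
import Groth.Agent.Lib.Helper20.MilKn

/-!
# Symbols with a one-unit entry lie in the subgroup generated by unit symbols
-/

set_option autoImplicit false
universe u v

namespace Groth.Agent.Helper20.MilKone

open Groth.Agent.Helper20.MilKn MilK

section
variable {F : Type v} [Field F]

/-- Reduction to tuples whose entries are `p` or `v i`. -/
theorem expand_slots {n : ℕ} (x₀ p : Fˣ) (H : AddSubgroup (K F (n + 1))) (e : Fin n → ℤ)
    (v : Fin n → Fˣ)
    (h : ∀ c : Fin n → Bool,
      symbol (Fin.cons x₀ (fun i => if c i then p else v i) : Fin (n + 1) → Fˣ) ∈ H) :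
    symbol (Fin.cons x₀ (fun i => p ^ e i * v i) : Fin (n + 1) → Fˣ) ∈ H := by
  classical
  have key : ∀ S : Finset (Fin n), ∀ c : Fin n → Bool,
      symbol (Fin.cons x₀ (fun i => if i ∈ S then p ^ e i * v i else (if c i then p else v i)) :
        Fin (n + 1) → Fˣ) ∈ H := by
    intro S
    induction S using Finset.induction_on with
    | empty => intro c; simpa using h c
    | insert a S ha ih =>
      intro c
      have e1 : (Fin.cons x₀ (fun i => if i ∈ insert a S then p ^ e i * v i
            else (if c i then p else v i)) : Fin (n + 1) → Fˣ) =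
          Function.update (Fin.cons x₀ (fun i => if i ∈ S then p ^ e i * v i
            else (if c i then p else v i)) : Fin (n + 1) → Fˣ) a.succ (p ^ e a * v a) := by
        funext k
        refine Fin.cases ?_ (fun k' => ?_) k
        · simp [Function.update_of_ne (Fin.succ_ne_zero a).symm]
        · by_cases hk : k' = a
          · subst hk; simp
          · simp [hk]
      have e2 : ∀ b : Bool, Function.update (Fin.cons x₀ (fun i => if i ∈ S then p ^ e i * v i
            else (if c i then p else v i)) : Fin (n + 1) → Fˣ) a.succ (if b then p else v a) =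
          (Fin.cons x₀ (fun i => if i ∈ S then p ^ e i * v i
            else (if (Function.update c a b) i then p else v i)) : Fin (n + 1) → Fˣ) := by
        intro b
        funext k
        refine Fin.cases ?_ (fun k' => ?_) k
        · simp [Function.update_of_ne (Fin.succ_ne_zero a).symm]
        · by_cases hk : k' = a
          · subst hk; simp [ha]
          · simp [hk]
      rw [e1, symbol_update_mul, symbol_update_zpow]
      apply AddSubgroup.add_mem
      · apply AddSubgroup.zsmul_mem
        have := ih (Function.update c a true)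
        rw [← e2 true] at this
        simpa using this
      · have := ih (Function.update c a false)
        rw [← e2 false] at this
        simpa using this
  have := key Finset.univ (fun _ => false)
  simpa using this
end

section
variable (A : Type u) [CommRing A] [IsDomain A] [IsDiscreteValuationRing A]
  (L : Type v) [Field L] [Algebra A L] [IsFractionRing A L]

/-- the subgroup generated by unit symbols -/
def U (n : ℕ) : AddSubgroup (K L (n + 1)) :=
  AddSubgroup.closure {z : K L (n + 1) | ∃ u : Fin (n + 1) → Aˣ,
    z = symbol (fun i => unitToFrac A L (u i))}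

theorem T_lemma {n : ℕ} (ϖ : A) (hϖ : Irreducible ϖ) (z s : Aˣ) (hz : (z : A) = 1 - ϖ * s)
    (v : Fin n → Aˣ) (j : Fin n) :
    symbol (Fin.cons (unitToFrac A L z) (Function.update (fun i => unitToFrac A L (v i)) j
      (unitFrac A L ϖ hϖ.ne_zero)) : Fin (n + 1) → Lˣ) ∈ U A L n := by
  set x : Fin (n + 1) → Lˣ := Fin.cons (unitToFrac A L z)
    (Function.update (fun i => unitToFrac A L (v i)) j (unitFrac A L ϖ hϖ.ne_zero)) with hx
  have hxj : x j.succ = unitFrac A L ϖ hϖ.ne_zero := by simp [hx]
  have hx0 : x 0 = unitToFrac A L z := Fin.cons_zero _ _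
  have hst : symbol (Function.update x j.succ (unitToFrac A L s * unitFrac A L ϖ hϖ.ne_zero)) = 0 := by
    apply symbol_eq_zero_of_isSteinberg
    refine ⟨0, j.succ, Fin.succ_pos j, ?_⟩
    rw [Function.update_of_ne (Fin.succ_ne_zero j).symm, Function.update_self, hx0]
    simp only [unitToFrac, Units.coe_map, MonoidHom.coe_coe, Units.val_mul, coe_unitFrac, hz]
    rw [← map_mul, ← map_add]
    have : (1 - ϖ * (s : A)) + (s : A) * ϖ = 1 := by ring
    rw [this, map_one]
  rw [symbol_update_mul] at hst
  have hself : Function.update x j.succ (unitFrac A L ϖ hϖ.ne_zero) = x := by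
    rw [← hxj, Function.update_eq_self]
  rw [hself] at hst
  have h2 : symbol x = - symbol (Function.update x j.succ (unitToFrac A L s)) :=
    eq_neg_of_add_eq_zero_right hst
  rw [h2]
  apply AddSubgroup.neg_mem
  apply AddSubgroup.subset_closure
  refine ⟨Fin.cons z (Function.update v j s), ?_⟩
  congr 1
  funext k
  refine Fin.cases ?_ (fun k' => ?_) k
  · simp [hx, Function.update_of_ne (Fin.succ_ne_zero j).symm]
  · by_cases hk : k' = j
    · subst hk; simp
    · have : k'.succ ≠ j.succ := fun h => hk (Fin.succ_injective _ h)
      simp [hx, Function.update_of_ne this, Function.update_of_ne hk]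

theorem one_slot {n : ℕ} (ϖ : A) (hϖ : Irreducible ϖ) (u₀ : Aˣ)
    (h1 : IsLocalRing.residue A (u₀ : A) = 1) (v : Fin n → Aˣ) (j : Fin n) :
    symbol (Fin.cons (unitToFrac A L u₀) (Function.update (fun i => unitToFrac A L (v i)) j
      (unitFrac A L ϖ hϖ.ne_zero)) : Fin (n + 1) → Lˣ) ∈ U A L n := by
  have hmem : (u₀ : A) - 1 ∈ IsLocalRing.maximalIdeal A := by
    rw [← IsLocalRing.residue_eq_zero_iff, map_sub, h1, map_one, sub_self]
  rw [hϖ.maximalIdeal_eq, Ideal.mem_span_singleton'] at hmem
  obtain ⟨t, ht⟩ := hmem
  have hu₀ : (u₀ : A) = 1 - ϖ * (-t) := by linear_combination (-1 : A) * ht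
  by_cases hs : IsUnit (-t)
  · obtain ⟨s, hs⟩ := hs
    exact T_lemma A L ϖ hϖ u₀ s (by rw [hs]; exact hu₀) v j
  · have hϖm : ϖ ∈ nonunits A := hϖ.not_isUnit
    have hz₁ : IsUnit (1 - ϖ) := IsLocalRing.isUnit_one_sub_self_of_mem_nonunits ϖ hϖm
    obtain ⟨z₁, hz₁⟩ := hz₁
    have hs₂ : IsUnit (1 - (-t)) := IsLocalRing.isUnit_one_sub_self_of_mem_nonunits (-t) hs
    obtain ⟨r, hr⟩ := hs₂
    let s₂ : Aˣ := (-r) * z₁⁻¹
    let z₂ : Aˣ := u₀ * z₁⁻¹
    have hz₂ : (z₂ : A) = 1 - ϖ * s₂ := by
      have h3 : (z₂ : A) * z₁ = (1 - ϖ * s₂) * z₁ := by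
        simp only [z₂, s₂, Units.val_mul, Units.val_neg, mul_assoc, Units.inv_mul, mul_one]
        rw [sub_mul, one_mul]
        simp only [mul_assoc, Units.inv_mul, mul_one]
        rw [hu₀, hz₁, hr]
        ring
      exact mul_right_cancel₀ z₁.ne_zero h3
    have hu : u₀ = z₁ * z₂ := by simp [z₂]
    have hx : (Fin.cons (unitToFrac A L u₀) (Function.update (fun i => unitToFrac A L (v i)) j
        (unitFrac A L ϖ hϖ.ne_zero)) : Fin (n + 1) → Lˣ) =
        Function.update (Fin.cons (unitToFrac A L u₀) (Function.update
          (fun i => unitToFrac A L (v i)) j (unitFrac A L ϖ hϖ.ne_zero)) : Fin (n + 1) → Lˣ) 0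
          (unitToFrac A L z₁ * unitToFrac A L z₂) := by
      rw [← map_mul, ← hu]
      funext k
      refine Fin.cases ?_ (fun k' => ?_) k
      · rw [Function.update_self, Fin.cons_zero]
      · rw [Function.update_of_ne (Fin.succ_ne_zero k')]
    rw [hx, symbol_update_mul]
    apply AddSubgroup.add_mem
    · rw [Fin.update_cons_zero]
      exact T_lemma A L ϖ hϖ z₁ 1 (by rw [hz₁]; simp) v j
    · rw [Fin.update_cons_zero]
      exact T_lemma A L ϖ hϖ z₂ s₂ hz₂ v j
end

section
variable (A : Type u) [CommRing A] [IsDomain A] [IsDiscreteValuationRing A]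
  (L : Type v) [Field L] [Algebra A L] [IsFractionRing A L]

theorem count_ind {n : ℕ} (ϖ : A) (hϖ : Irreducible ϖ) (u₀ : Aˣ)
    (h1 : IsLocalRing.residue A (u₀ : A) = 1) :
    ∀ (k : ℕ) (v : Fin n → Aˣ) (c : Fin n → Bool),
      (Finset.univ.filter (fun i => c i = true)).card = k →
      symbol (Fin.cons (unitToFrac A L u₀)
        (fun i => if c i then unitFrac A L ϖ hϖ.ne_zero else unitToFrac A L (v i)) :
          Fin (n + 1) → Lˣ) ∈ U A L n := by
  intro k
  induction k using Nat.strong_induction_on with
  | _ k ih =>
    intro v c hc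
    rcases Nat.lt_or_ge k 2 with hk | hk
    · interval_cases k
      · have hall : ∀ i, c i = false := by
          intro i
          by_contra h
          have hmem : i ∈ Finset.univ.filter (fun i => c i = true) := by
            simp [Bool.eq_true_of_not_eq_false h]
          rw [Finset.card_eq_zero] at hc
          rw [hc] at hmem
          exact absurd hmem (Finset.notMem_empty i)
        apply AddSubgroup.subset_closure
        refine ⟨Fin.cons u₀ v, ?_⟩
        congr 1
        funext k
        refine Fin.cases ?_ (fun k' => ?_) k <;> simp [hall]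
      · obtain ⟨j, hj⟩ := Finset.card_eq_one.mp hc
        have hcj : ∀ i, c i = true ↔ i = j := by
          intro i
          have := Finset.ext_iff.mp hj i
          simpa using this
        have e : (fun i => if c i then unitFrac A L ϖ hϖ.ne_zero else unitToFrac A L (v i)) =
            Function.update (fun i => unitToFrac A L (v i)) j (unitFrac A L ϖ hϖ.ne_zero) := by
          funext i
          by_cases hi : i = j
          · subst hi; simp [(hcj i).mpr rfl]
          · have : c i = false := by
              rcases Bool.eq_false_or_eq_true (c i) with h | h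
              · exact absurd ((hcj i).mp h) hi
              · exact h
            simp [this, Function.update_of_ne hi]
        rw [e]
        exact one_slot A L ϖ hϖ u₀ h1 v j
    · obtain ⟨i, hi, j, hj, hij⟩ := Finset.one_lt_card.mp
        (by omega : 1 < (Finset.univ.filter (fun i => c i = true)).card)
      simp only [Finset.mem_filter, Finset.mem_univ, true_and] at hi hj
      have hne : i.succ ≠ j.succ := fun h => hij (Fin.succ_injective _ h)
      have h2 := (two_slot (Fin.cons (unitToFrac A L u₀)
        (fun i => if c i then unitFrac A L ϖ hϖ.ne_zero else unitToFrac A L (v i)) :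
          Fin (n + 1) → Lˣ) i.succ j.succ hne).2.2 (unitFrac A L ϖ hϖ.ne_zero)
      have e1 : Function.update (Function.update (Fin.cons (unitToFrac A L u₀)
          (fun i => if c i then unitFrac A L ϖ hϖ.ne_zero else unitToFrac A L (v i)) :
            Fin (n + 1) → Lˣ) i.succ (unitFrac A L ϖ hϖ.ne_zero)) j.succ
            (unitFrac A L ϖ hϖ.ne_zero) =
          (Fin.cons (unitToFrac A L u₀)
          (fun i => if c i then unitFrac A L ϖ hϖ.ne_zero else unitToFrac A L (v i)) :
            Fin (n + 1) → Lˣ) := by
        funext l
        refine Fin.cases ?_ (fun l' => ?_) l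
        · rw [Function.update_of_ne (Fin.succ_ne_zero j).symm,
            Function.update_of_ne (Fin.succ_ne_zero i).symm]
        · by_cases hl : l' = j
          · subst hl; simp [hj]
          · have hl2 : l'.succ ≠ j.succ := fun h => hl (Fin.succ_injective _ h)
            rw [Function.update_of_ne hl2]
            by_cases hl3 : l' = i
            · subst hl3; simp [hi]
            · have hl4 : l'.succ ≠ i.succ := fun h => hl3 (Fin.succ_injective _ h)
              rw [Function.update_of_ne hl4]
      have e2 : Function.update (Function.update (Fin.cons (unitToFrac A L u₀)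
          (fun i => if c i then unitFrac A L ϖ hϖ.ne_zero else unitToFrac A L (v i)) :
            Fin (n + 1) → Lˣ) i.succ (unitFrac A L ϖ hϖ.ne_zero)) j.succ (-1) =
          (Fin.cons (unitToFrac A L u₀)
          (fun l => if (Function.update c j false) l then unitFrac A L ϖ hϖ.ne_zero
            else unitToFrac A L ((Function.update v j (-1)) l)) : Fin (n + 1) → Lˣ) := by
        funext l
        refine Fin.cases ?_ (fun l' => ?_) l
        · rw [Function.update_of_ne (Fin.succ_ne_zero j).symm,
            Function.update_of_ne (Fin.succ_ne_zero i).symm]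
          simp
        · by_cases hl : l' = j
          · subst hl
            simp only [Function.update_self, Fin.cons_succ, Bool.false_eq_true, if_false]
            ext; simp [unitToFrac]
          · have hl2 : l'.succ ≠ j.succ := fun h => hl (Fin.succ_injective _ h)
            rw [Function.update_of_ne hl2]
            by_cases hl3 : l' = i
            · subst hl3; simp [hi, Function.update_of_ne hl]
            · have hl4 : l'.succ ≠ i.succ := fun h => hl3 (Fin.succ_injective _ h)
              rw [Function.update_of_ne hl4]
              simp [Function.update_of_ne hl]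
      rw [e1, e2] at h2
      rw [h2]
      apply ih (k - 1) (by omega) (Function.update v j (-1)) (Function.update c j false)
      have e3 : Finset.univ.filter (fun l => Function.update c j false l = true) =
          (Finset.univ.filter (fun l => c l = true)).erase j := by
        ext l
        by_cases hl : l = j
        · subst hl; simp
        · simp [hl, Function.update_of_ne hl]
      rw [e3, Finset.card_erase_of_mem (by simp [hj]), hc]
end


theorem oneSymbols_le_unitSymbols (A : Type u) [CommRing A] [IsDomain A] [IsDiscreteValuationRing A]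
    (L : Type v) [Field L] [Algebra A L] [IsFractionRing A L] (n : ℕ) :
    AddSubgroup.closure {z : MilK.K L (n + 1) | ∃ (u₀ : Aˣ) (w : Fin n → Lˣ),
        IsLocalRing.residue A (u₀ : A) = 1 ∧ z = MilK.symbol (Fin.cons (MilK.unitToFrac A L u₀) w)} ≤
      AddSubgroup.closure {z : MilK.K L (n + 1) | ∃ u : Fin (n + 1) → Aˣ, z = MilK.symbol (fun i => MilK.unitToFrac A L (u i))} := by
  rw [AddSubgroup.closure_le]
  rintro _ ⟨u₀, w, h1, rfl⟩
  obtain ⟨ϖ, hϖ⟩ := IsDiscreteValuationRing.exists_irreducible A
  choose e v hw using fun i => exists_zpow_mul_unit A L ϖ hϖ (w i)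
  have hw' : w = fun i => unitFrac A L ϖ hϖ.ne_zero ^ e i * unitToFrac A L (v i) := funext hw
  rw [hw']
  change symbol _ ∈ U A L n
  apply expand_slots (unitToFrac A L u₀) (unitFrac A L ϖ hϖ.ne_zero) (U A L n) e
    (fun i => unitToFrac A L (v i))
  intro c
  exact count_ind A L ϖ hϖ u₀ h1 _ v c rfl


end Groth.Agent.Helper20.MilKone
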