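import Mathlib
import Groth.Prelude.Def_GSzMilK
import Groth.Agent.Lib.Helper20.MilKn
import Groth.Agent.Lib.Helper20.MilKdvr
import Groth.Agent.Lib.Helper20.MilKone

namespace Groth.Agent.Helper20.MilKres

open MilK Groth.Agent.Helper20.MilKn Groth.Agent.Helper20.MilKdvr

universe u v

section General
variable {F : Type v} [Field F]

theorem symbol_eq_zero_of_add_eq_one {n : ℕ} (y : Fin n → Fˣ) (a b : Fin n) (hab : a ≠ b)
    (h : (y a : F) + y b = 1) : symbol y = 0 := by
  apply symbol_eq_zero_of_isSteinberg
  rcases lt_or_gt_of_ne hab with h' | h'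
  · exact ⟨a, b, h', h⟩
  · exact ⟨b, a, h', by rw [add_comm]; exact h⟩

/-- Reduction to tuples whose entries are `p` or `v i`. -/
theorem expand_all {n : ℕ} (p : Fˣ) (H : AddSubgroup (K F n)) (e : Fin n → ℤ)
    (v : Fin n → Fˣ)
    (h : ∀ c : Fin n → Bool, symbol (fun i => if c i then p else v i) ∈ H) :
    symbol (fun i => p ^ e i * v i) ∈ H := by
  classical
  have key : ∀ S : Finset (Fin n), ∀ c : Fin n → Bool,
      symbol (fun i => if i ∈ S then p ^ e i * v i else (if c i then p else v i)) ∈ H := by
    intro S
    induction S using Finset.induction_on with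
    | empty => intro c; simpa using h c
    | insert a S ha ih =>
      intro c
      have e1 : (fun i => if i ∈ insert a S then p ^ e i * v i
            else (if c i then p else v i)) =
          Function.update (fun i => if i ∈ S then p ^ e i * v i
            else (if c i then p else v i)) a (p ^ e a * v a) := by
        funext k
        by_cases hk : k = a
        · subst hk; simp
        · simp [hk]
      have e2 : ∀ b : Bool, Function.update (fun i => if i ∈ S then p ^ e i * v i
            else (if c i then p else v i)) a (if b then p else v a) =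
          (fun i => if i ∈ S then p ^ e i * v i
            else (if (Function.update c a b) i then p else v i)) := by
        intro b
        funext k
        by_cases hk : k = a
        · subst hk; simp [ha]
        · simp [hk]
      rw [e1, symbol_update_mul, symbol_update_zpow]
      apply AddSubgroup.add_mem
      · apply AddSubgroup.zsmul_mem
        have := ih (Function.update c a true)
        rw [← e2 true] at this
        simpa using this
      · have := ih (Function.update c a false)
        rw [← e2 false] at this
        simpa using this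
  have := key Finset.univ (fun _ => false)
  simpa using this

theorem count_all {n : ℕ} (G : AddSubgroup (K F n)) (p : Fˣ) (V : Subgroup Fˣ) (hneg : -1 ∈ V)
    (h0 : ∀ v : Fin n → Fˣ, (∀ i, v i ∈ V) → symbol v ∈ G)
    (h1 : ∀ (v : Fin n → Fˣ) (j : Fin n), (∀ i, v i ∈ V) → symbol (Function.update v j p) ∈ G) :
    ∀ (k : ℕ) (v : Fin n → Fˣ) (c : Fin n → Bool), (∀ i, v i ∈ V) →
      (Finset.univ.filter (fun i => c i = true)).card = k →
      symbol (fun i => if c i then p else v i) ∈ G := by
  intro k
  induction k using Nat.strong_induction_on with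
  | _ k ih =>
    intro v c hv hc
    rcases Nat.lt_or_ge k 2 with hk | hk
    · interval_cases k
      · have hall : ∀ i, c i = false := by
          intro i
          by_contra h
          have hmem : i ∈ Finset.univ.filter (fun i => c i = true) := by
            simp [Bool.eq_true_of_not_eq_false h]
          rw [Finset.card_eq_zero] at hc
          rw [hc] at hmem
          exact absurd hmem (Finset.notMem_empty i)
        have : (fun i => if c i then p else v i) = v := by
          funext i; simp [hall]
        rw [this]
        exact h0 v hv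
      · obtain ⟨j, hj⟩ := Finset.card_eq_one.mp hc
        have hcj : ∀ i, c i = true ↔ i = j := by
          intro i
          have := Finset.ext_iff.mp hj i
          simpa using this
        have e : (fun i => if c i then p else v i) = Function.update v j p := by
          funext i
          by_cases hi : i = j
          · subst hi; simp [(hcj i).mpr rfl]
          · have : c i = false := by
              rcases Bool.eq_false_or_eq_true (c i) with h | h
              · exact absurd ((hcj i).mp h) hi
              · exact h
            simp [this, Function.update_of_ne hi]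
        rw [e]
        exact h1 v j hv
    · obtain ⟨i, hi, j, hj, hij⟩ := Finset.one_lt_card.mp
        (by omega : 1 < (Finset.univ.filter (fun i => c i = true)).card)
      simp only [Finset.mem_filter, Finset.mem_univ, true_and] at hi hj
      have h2 := (two_slot (fun i => if c i then p else v i) i j hij).2.2 p
      have e1 : Function.update (Function.update (fun i => if c i then p else v i) i p) j p =
          (fun i => if c i then p else v i) := by
        funext l
        by_cases hl : l = j
        · subst hl; simp [hj]
        · rw [Function.update_of_ne hl]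
          by_cases hl3 : l = i
          · subst hl3; simp [hi]
          · rw [Function.update_of_ne hl3]
      have e2 : Function.update (Function.update (fun i => if c i then p else v i) i p) j (-1) =
          (fun l => if (Function.update c j false) l then p else (Function.update v j (-1)) l) := by
        funext l
        by_cases hl : l = j
        · subst hl; simp
        · rw [Function.update_of_ne hl]
          by_cases hl3 : l = i
          · subst hl3; simp [hi, Function.update_of_ne hl]
          · rw [Function.update_of_ne hl3]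
            simp [Function.update_of_ne hl]
      rw [e1, e2] at h2
      rw [h2]
      apply ih (k - 1) (by omega) (Function.update v j (-1)) (Function.update c j false)
      · intro l
        by_cases hl : l = j
        · subst hl; simpa using hneg
        · rw [Function.update_of_ne hl]; exact hv l
      · have e3 : Finset.univ.filter (fun l => Function.update c j false l = true) =
            (Finset.univ.filter (fun l => c l = true)).erase j := by
          ext l
          by_cases hl : l = j
          · subst hl; simp
          · simp [hl, Function.update_of_ne hl]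
        rw [e3, Finset.card_erase_of_mem (by simp [hj]), hc]

/-- Generation: symbols with entries in `⟨p⟩ · V` lie in `G` as soon as those with entries in `V` and
at most one entry `p` do. -/
theorem gen_all {n : ℕ} (G : AddSubgroup (K F n)) (p : Fˣ) (V : Subgroup Fˣ) (hneg : -1 ∈ V)
    (h0 : ∀ v : Fin n → Fˣ, (∀ i, v i ∈ V) → symbol v ∈ G)
    (h1 : ∀ (v : Fin n → Fˣ) (j : Fin n), (∀ i, v i ∈ V) → symbol (Function.update v j p) ∈ G)
    (e : Fin n → ℤ) (v : Fin n → Fˣ) (hv : ∀ i, v i ∈ V) :
    symbol (fun i => p ^ e i * v i) ∈ G := by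
  apply expand_all
  intro c
  exact count_all G p V hneg h0 h1 _ v c hv rfl

end General

section DVR

variable (A : Type u) [CommRing A] [IsDomain A] [IsDiscreteValuationRing A]
  (L : Type v) [Field L] [Algebra A L] [IsFractionRing A L]

theorem unitResidue_surjective : Function.Surjective (unitResidue A) := by
  intro a
  obtain ⟨z, hz⟩ := IsLocalRing.residue_surjective (R := A) (a : IsLocalRing.ResidueField A)
  obtain ⟨z', hz'⟩ := unit_of_residue_ne_zero A z (by rw [hz]; exact a.ne_zero)
  refine ⟨z', ?_⟩
  ext
  rw [coe_unitResidue, hz', hz]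

/-- symbols all of whose entries are units of `A` -/
def unitSymbols (n : ℕ) : Set (K L n) :=
  {z | ∃ u : Fin n → Aˣ, z = symbol (fun i => unitToFrac A L (u i))}

/-- symbols `{π, u₁, …, uₙ}` -/
def piSymbols (ϖ : A) (hϖ : Irreducible ϖ) (n : ℕ) : Set (K L (n + 1)) :=
  {z | ∃ u : Fin n → Aˣ, z = symbol (Fin.cons (unitFrac A L ϖ hϖ.ne_zero)
    (fun i => unitToFrac A L (u i)) : Fin (n + 1) → Lˣ)}

variable (ϖ : A) (hϖ : Irreducible ϖ)

theorem update_pi_mem {n : ℕ} (v : Fin (n + 1) → Aˣ) (j : Fin (n + 1)) :
    symbol (Function.update (fun i => unitToFrac A L (v i)) j (unitFrac A L ϖ hϖ.ne_zero)) ∈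
      AddSubgroup.closure (piSymbols A L ϖ hϖ n) := by
  set x := Function.update (fun i => unitToFrac A L (v i)) j (unitFrac A L ϖ hϖ.ne_zero) with hx
  have hy : symbol (x ∘ Equiv.swap 0 j) ∈ AddSubgroup.closure (piSymbols A L ϖ hϖ n) := by
    apply AddSubgroup.subset_closure
    refine ⟨fun i => v (Equiv.swap 0 j i.succ), ?_⟩
    congr 1
    funext k
    refine Fin.cases ?_ (fun k' => ?_) k
    · simp [hx]
    · have : Equiv.swap 0 j k'.succ ≠ j := by
        intro h
        have h2 := congrArg (Equiv.swap 0 j) h
        rw [Equiv.swap_apply_self, Equiv.swap_apply_right] at h2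
        exact Fin.succ_ne_zero k' h2
      simp [hx, Function.update_of_ne this]
  by_cases hj : j = 0
  · subst hj
    simpa using hy
  · rw [symbol_swap x 0 j (Ne.symm hj)] at hy
    simpa using AddSubgroup.neg_mem _ hy

theorem dvr_gen (n : ℕ) :
    AddSubgroup.closure (unitSymbols A L (n + 1) ∪ piSymbols A L ϖ hϖ n) = ⊤ := by
  rw [eq_top_iff]
  intro x _
  refine symbol_induction (P := fun x => x ∈ AddSubgroup.closure
    (unitSymbols A L (n + 1) ∪ piSymbols A L ϖ hϖ n)) (AddSubgroup.zero_mem _) ?_
    (fun x hx => AddSubgroup.neg_mem _ hx) (fun x y hx hy => AddSubgroup.add_mem _ hx hy) x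
  intro y
  choose e u hy using fun i => exists_zpow_mul_unit A L ϖ hϖ (y i)
  have hy' : y = fun i => unitFrac A L ϖ hϖ.ne_zero ^ e i * unitToFrac A L (u i) := funext hy
  rw [hy']
  apply gen_all _ (unitFrac A L ϖ hϖ.ne_zero) (unitToFrac A L).range
  · exact ⟨-1, by ext; simp [unitToFrac]⟩
  · intro v hv
    choose w hw using hv
    apply AddSubgroup.subset_closure
    left
    exact ⟨w, by congr 1; funext i; exact (hw i).symm⟩
  · intro v j hv
    choose w hw using hv
    have : v = fun i => unitToFrac A L (w i) := funext fun i => (hw i).symm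
    rw [this]
    exact AddSubgroup.closure_mono Set.subset_union_right (update_pi_mem A L ϖ hϖ w j)
  · intro i
    exact ⟨u i, rfl⟩

theorem dvr_hom_ext {n : ℕ} {M : Type*} [AddCommGroup M] (f g : K L (n + 1) →+ M)
    (h0 : ∀ u : Fin (n + 1) → Aˣ, f (symbol (fun i => unitToFrac A L (u i))) =
      g (symbol (fun i => unitToFrac A L (u i))))
    (h1 : ∀ u : Fin n → Aˣ, f (symbol (Fin.cons (unitFrac A L ϖ hϖ.ne_zero)
        (fun i => unitToFrac A L (u i)) : Fin (n + 1) → Lˣ)) =
      g (symbol (Fin.cons (unitFrac A L ϖ hϖ.ne_zero)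
        (fun i => unitToFrac A L (u i)) : Fin (n + 1) → Lˣ))) : f = g := by
  apply AddMonoidHom.eq_of_eqOn_dense (dvr_gen A L ϖ hϖ n)
  rintro _ (⟨u, rfl⟩ | ⟨u, rfl⟩)
  · exact h0 u
  · exact h1 u

end DVR

section Psi

variable (A : Type u) [CommRing A] [IsDomain A] [IsDiscreteValuationRing A]
  (L : Type v) [Field L] [Algebra A L] [IsFractionRing A L]

/-- `H` contains every symbol having an entry which is a unit of `A` congruent to `1`. -/
def ContainsOneUnits {m : ℕ} (H : AddSubgroup (K L m)) : Prop :=
  ∀ (x : Fin m → Lˣ) (k : Fin m) (u₀ : Aˣ), IsLocalRing.residue A (u₀ : A) = 1 →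
    x k = unitToFrac A L u₀ → symbol x ∈ H

variable {A L}
variable {m : ℕ} {H : AddSubgroup (K L m)} (hH : ContainsOneUnits A L H)

include hH in
theorem slot_congr (X : Fin m → Lˣ) (k : Fin m) (r r' : Aˣ)
    (h : unitResidue A r = unitResidue A r') :
    symbol (Function.update X k (unitToFrac A L r)) -
      symbol (Function.update X k (unitToFrac A L r')) ∈ H := by
  have e : unitToFrac A L r = unitToFrac A L (r * r'⁻¹) * unitToFrac A L r' := by
    rw [← map_mul]; congr 1; simp
  rw [e, symbol_update_mul, add_sub_cancel_right]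
  apply hH _ k (r * r'⁻¹) _ (Function.update_self ..)
  have : unitResidue A (r * r'⁻¹) = 1 := by rw [map_mul, map_inv, h, mul_inv_cancel]
  have h2 := congrArg Units.val this
  rwa [coe_unitResidue] at h2

variable {n : ℕ} (τ : (Fin n → Lˣ) → (Fin m → Lˣ)) (ι : Fin n → Fin m)
  (hτ : ∀ w i a, τ (Function.update w i a) = Function.update (τ w) (ι i) a)

include hτ in
theorem tau_apply (w : Fin n → Lˣ) (i : Fin n) : τ w (ι i) = w i := by
  have := hτ w i (w i)
  rw [Function.update_eq_self] at this
  have h2 := congrFun this (ι i)
  rw [Function.update_self] at h2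
  exact h2

include hH hτ in
theorem KL (u u' : Fin n → Aˣ) (h : ∀ i, unitResidue A (u i) = unitResidue A (u' i)) :
    symbol (τ (fun i => unitToFrac A L (u i))) - symbol (τ (fun i => unitToFrac A L (u' i))) ∈ H := by
  classical
  have key : ∀ S : Finset (Fin n),
      symbol (τ (fun i => unitToFrac A L (if i ∈ S then u i else u' i))) -
        symbol (τ (fun i => unitToFrac A L (u' i))) ∈ H := by
    intro S
    induction S using Finset.induction_on with
    | empty => simp
    | insert a S ha ih =>
      have e1 : (fun i => unitToFrac A L (if i ∈ insert a S then u i else u' i)) =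
          Function.update (fun i => unitToFrac A L (if i ∈ S then u i else u' i)) a
            (unitToFrac A L (u a)) := by
        funext k
        by_cases hk : k = a
        · subst hk; simp
        · simp [hk]
      have e2 : (fun i => unitToFrac A L (if i ∈ S then u i else u' i)) =
          Function.update (fun i => unitToFrac A L (if i ∈ S then u i else u' i)) a
            (unitToFrac A L (u' a)) := by
        funext k
        by_cases hk : k = a
        · subst hk; simp [ha]
        · simp [hk]
      have h1 := slot_congr hH (τ (fun i => unitToFrac A L (if i ∈ S then u i else u' i))) (ι a)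
        (u a) (u' a) (h a)
      rw [← hτ, ← hτ, ← e1, ← e2] at h1
      have := AddSubgroup.add_mem _ h1 ih
      rwa [sub_add_sub_cancel] at this
  have := key Finset.univ
  simpa using this

end Psi

section Psi2

variable {A : Type u} [CommRing A] [IsDomain A] [IsDiscreteValuationRing A]
  {L : Type v} [Field L] [Algebra A L] [IsFractionRing A L]
variable {m : ℕ} {H : AddSubgroup (K L m)} (hH : ContainsOneUnits A L H)
variable {n : ℕ} (τ : (Fin n → Lˣ) → (Fin m → Lˣ)) (ι : Fin n → Fin m) (hι : Function.Injective ι)
  (hτ : ∀ w i a, τ (Function.update w i a) = Function.update (τ w) (ι i) a)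
  (σ : (IsLocalRing.ResidueField A)ˣ → Aˣ) (hσ : ∀ a, unitResidue A (σ a) = a)

/-- the function underlying the multilinear map -/
noncomputable def gfun (H : AddSubgroup (K L m)) (τ : (Fin n → Lˣ) → (Fin m → Lˣ))
    (σ : (IsLocalRing.ResidueField A)ˣ → Aˣ)
    (x : Fin n → Additive (IsLocalRing.ResidueField A)ˣ) : K L m ⧸ H :=
  QuotientAddGroup.mk' H (symbol (τ (fun i => unitToFrac A L (σ (x i).toMul))))

include hH hτ hσ in
theorem gfun_update_eq (x : Fin n → Additive (IsLocalRing.ResidueField A)ˣ) (i : Fin n)
    (c : Additive (IsLocalRing.ResidueField A)ˣ) (r : Aˣ) (hr : unitResidue A r = c.toMul) :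
    gfun H τ σ (Function.update x i c) =
      QuotientAddGroup.mk' H (symbol (Function.update
        (τ (fun i => unitToFrac A L (σ (x i).toMul))) (ι i) (unitToFrac A L r))) := by
  classical
  have e1 : (fun j => unitToFrac A L (σ ((Function.update x i c) j).toMul)) =
      Function.update (fun j => unitToFrac A L (σ (x j).toMul)) i (unitToFrac A L (σ c.toMul)) := by
    funext j
    by_cases hj : j = i
    · subst hj; simp
    · simp [Function.update_of_ne hj]
  rw [gfun, e1, hτ]
  simp only [QuotientAddGroup.mk'_apply]
  rw [QuotientAddGroup.eq_iff_sub_mem]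
  exact slot_congr hH _ (ι i) _ _ (by rw [hσ, hr])

include hH hτ hσ in
theorem gfun_update_add [DecidableEq (Fin n)] (x : Fin n → Additive (IsLocalRing.ResidueField A)ˣ)
    (i : Fin n) (a b : Additive (IsLocalRing.ResidueField A)ˣ) :
    gfun H τ σ (Function.update x i (a + b)) =
      gfun H τ σ (Function.update x i a) + gfun H τ σ (Function.update x i b) := by
  have hd : ‹DecidableEq (Fin n)› = instDecidableEqFin n := Subsingleton.elim _ _
  subst hd
  rw [gfun_update_eq hH τ ι hτ σ hσ x i (a + b) (σ a.toMul * σ b.toMul) (by
      rw [map_mul, hσ, hσ]; rfl),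
    gfun_update_eq hH τ ι hτ σ hσ x i a (σ a.toMul) (hσ _),
    gfun_update_eq hH τ ι hτ σ hσ x i b (σ b.toMul) (hσ _), map_mul, symbol_update_mul, map_add]

include hH hτ hσ in
theorem gfun_update_smul [DecidableEq (Fin n)] (x : Fin n → Additive (IsLocalRing.ResidueField A)ˣ)
    (i : Fin n) (c : ℤ) (a : Additive (IsLocalRing.ResidueField A)ˣ) :
    gfun H τ σ (Function.update x i (c • a)) = c • gfun H τ σ (Function.update x i a) := by
  have hd : ‹DecidableEq (Fin n)› = instDecidableEqFin n := Subsingleton.elim _ _
  subst hd
  rw [gfun_update_eq hH τ ι hτ σ hσ x i (c • a) (σ a.toMul ^ c) (by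
      rw [map_zpow, hσ]; rfl),
    gfun_update_eq hH τ ι hτ σ hσ x i a (σ a.toMul) (hσ _), map_zpow, symbol_update_zpow,
    map_zsmul]

/-- the multilinear map -/
noncomputable def gML : MultilinearMap ℤ (fun _ : Fin n => Additive (IsLocalRing.ResidueField A)ˣ)
    (K L m ⧸ H) where
  toFun := gfun H τ σ
  map_update_add' := by
    intro _ x i a b
    exact gfun_update_add hH τ ι hτ σ hσ x i a b
  map_update_smul' := by
    intro _ x i c a
    exact gfun_update_smul hH τ ι hτ σ hσ x i c a

include hι in
theorem gML_steinberg (x : Fin n → (IsLocalRing.ResidueField A)ˣ)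
    (hx : IsSteinberg (IsLocalRing.ResidueField A) x) :
    gML hH τ ι hτ σ hσ (fun i => Additive.ofMul (x i)) = 0 := by
  classical
  obtain ⟨i, j, hij, hs⟩ := hx
  change QuotientAddGroup.mk' H (symbol (τ (fun i => unitToFrac A L (σ (x i))))) = 0
  have hres : IsLocalRing.residue A (1 - (σ (x i) : A)) = (x j : IsLocalRing.ResidueField A) := by
    rw [map_sub, map_one, ← coe_unitResidue, hσ, ← hs, add_sub_cancel_left]
  obtain ⟨z, hz⟩ := unit_of_residue_ne_zero A (1 - (σ (x i) : A)) (by rw [hres]; exact (x j).ne_zero)
  have hzj : unitResidue A z = x j := by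
    ext; rw [coe_unitResidue, hz, hres]
  have h1 := KL hH τ ι hτ (fun l => σ (x l)) (Function.update (fun l => σ (x l)) j z) (by
    intro l
    by_cases hl : l = j
    · subst hl; rw [Function.update_self, hσ, hzj]
    · rw [Function.update_of_ne hl])
  have h2 : symbol (τ (fun l => unitToFrac A L ((Function.update (fun l => σ (x l)) j z) l))) = 0 := by
    apply symbol_eq_zero_of_add_eq_one _ (ι i) (ι j) (fun h => hij.ne (hι h))
    rw [tau_apply τ ι hτ, tau_apply τ ι hτ, Function.update_self, Function.update_of_ne hij.ne]
    simp only [unitToFrac, Units.coe_map, MonoidHom.coe_coe, hz, ← map_add]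
    rw [add_sub_cancel, map_one]
  rw [h2, sub_zero] at h1
  exact (QuotientAddGroup.eq_zero_iff _).mpr h1

include hH hι hτ hσ in
theorem exists_psi_aux : ∃ ψ : K (IsLocalRing.ResidueField A) n →+ K L m ⧸ H, ∀ u : Fin n → Aˣ,
    ψ (symbol (fun i => unitResidue A (u i))) =
      QuotientAddGroup.mk' H (symbol (τ (fun i => unitToFrac A L (u i)))) := by
  refine ⟨MilK.lift (gML hH τ ι hτ σ hσ) (gML_steinberg hH τ ι hι hτ σ hσ), ?_⟩
  intro u
  rw [lift_symbol]
  change QuotientAddGroup.mk' H (symbol (τ (fun i => unitToFrac A L (σ (unitResidue A (u i)))))) = _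
  simp only [QuotientAddGroup.mk'_apply]
  rw [QuotientAddGroup.eq_iff_sub_mem]
  exact KL hH τ ι hτ _ _ (fun i => hσ _)

end Psi2

section Psi3

variable {A : Type u} [CommRing A] [IsDomain A] [IsDiscreteValuationRing A]
  {L : Type v} [Field L] [Algebra A L] [IsFractionRing A L]

/-- The map `{ū₁, …, ūₙ} ↦ [symbol (τ (u₁, …, uₙ))]` to the quotient by a subgroup containing all symbols
with an entry in the one-units. -/
theorem exists_psi {m : ℕ} {H : AddSubgroup (K L m)} (hH : ContainsOneUnits A L H) {n : ℕ}
    (τ : (Fin n → Lˣ) → (Fin m → Lˣ)) (ι : Fin n → Fin m) (hι : Function.Injective ι)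
    (hτ : ∀ w i a, τ (Function.update w i a) = Function.update (τ w) (ι i) a) :
    ∃ ψ : K (IsLocalRing.ResidueField A) n →+ K L m ⧸ H, ∀ u : Fin n → Aˣ,
      ψ (symbol (fun i => unitResidue A (u i))) =
        QuotientAddGroup.mk' H (symbol (τ (fun i => unitToFrac A L (u i)))) := by
  choose σ hσ using unitResidue_surjective A
  exact exists_psi_aux hH τ ι hι hτ σ hσ

variable (A L)

theorem tame_unit {n : ℕ} (d : K L (n + 1) →+ K (IsLocalRing.ResidueField A) n)
    (hd : IsTameSymbol A L n d) (u : Fin (n + 1) → Aˣ) :
    d (symbol (fun i => unitToFrac A L (u i))) = 0 := by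
  obtain ⟨ϖ, hϖ⟩ := IsDiscreteValuationRing.exists_irreducible A
  have hirr : Irreducible (ϖ * (u 0 : A)) := (irreducible_mul_units (u 0)).mpr hϖ
  have h1 := hd (ϖ * (u 0 : A)) hirr (fun i => u i.succ)
  have h2 := hd ϖ hϖ (fun i => u i.succ)
  have e1 : unitFrac A L (ϖ * (u 0 : A)) hirr.ne_zero =
      unitFrac A L ϖ hϖ.ne_zero * unitToFrac A L (u 0) := by
    ext; simp [unitToFrac]
  have e2 : (Fin.cons (unitFrac A L (ϖ * (u 0 : A)) hirr.ne_zero)
      (fun i => unitToFrac A L (u i.succ)) : Fin (n + 1) → Lˣ) =
      Function.update (Fin.cons (unitFrac A L ϖ hϖ.ne_zero)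
        (fun i => unitToFrac A L (u i.succ)) : Fin (n + 1) → Lˣ) 0
        (unitFrac A L ϖ hϖ.ne_zero * unitToFrac A L (u 0)) := by
    rw [Fin.update_cons_zero, e1]
  have e3 : (Fin.cons (unitToFrac A L (u 0)) (fun i => unitToFrac A L (u i.succ)) :
      Fin (n + 1) → Lˣ) = fun i => unitToFrac A L (u i) := by
    funext k
    refine Fin.cases ?_ (fun k' => ?_) k <;> simp
  rw [e2, symbol_update_mul, map_add, Fin.update_cons_zero, Fin.update_cons_zero, h2, e3] at h1
  exact left_eq_add.mp h1.symm

end Psi3

section OneUnits

variable (A : Type u) [CommRing A] [IsDomain A] [IsDiscreteValuationRing A]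
  (L : Type v) [Field L] [Algebra A L] [IsFractionRing A L]

/-- symbols `{u₀, w₁, …, wₙ}` with `u₀` a one-unit -/
def oneSymbols (n : ℕ) : Set (K L (n + 1)) :=
  {z | ∃ (u₀ : Aˣ) (w : Fin n → Lˣ),
    IsLocalRing.residue A (u₀ : A) = 1 ∧ z = symbol (Fin.cons (unitToFrac A L u₀) w)}

theorem containsOneUnits_oneSymbols (n : ℕ) :
    ContainsOneUnits A L (AddSubgroup.closure (oneSymbols A L n)) := by
  intro x k u₀ h1 hk
  have hy : symbol (x ∘ Equiv.swap 0 k) ∈ AddSubgroup.closure (oneSymbols A L n) := by
    apply AddSubgroup.subset_closure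
    refine ⟨u₀, fun i => (x ∘ Equiv.swap 0 k) i.succ, h1, ?_⟩
    congr 1
    funext j
    refine Fin.cases ?_ (fun j' => ?_) j
    · simp [hk]
    · simp
  by_cases hk0 : k = 0
  · subst hk0
    simpa using hy
  · rw [symbol_swap x 0 k (Ne.symm hk0)] at hy
    simpa using AddSubgroup.neg_mem _ hy

theorem oneSymbols_le_unitSymbols (n : ℕ) :
    AddSubgroup.closure (oneSymbols A L n) ≤ AddSubgroup.closure (unitSymbols A L (n + 1)) :=
  Groth.Agent.Helper20.MilKone.oneSymbols_le_unitSymbols A L n

theorem containsOneUnits_unitSymbols (n : ℕ) :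
    ContainsOneUnits A L (AddSubgroup.closure (unitSymbols A L (n + 1))) := by
  intro x k u₀ h1 hk
  exact oneSymbols_le_unitSymbols A L n (containsOneUnits_oneSymbols A L n x k u₀ h1 hk)

end OneUnits

end Groth.Agent.Helper20.MilKres
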