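import Mathlib
import Groth.Prelude.Def_GSzMilK
import Groth.Agent.Lib.Helper20.MilKnorm

namespace Groth.Agent.Helper20.MilKfun

open MilK Groth.Agent.Helper20.MilKn Groth.Agent.Helper20.MilKres Groth.Agent.Helper20.MilKnorm

universe u v w

section ConsMul

variable {L : Type u} [Field L]

theorem cast_mul_one (a : Lˣ) {n : ℕ} (z : K L n) :
    MilK.cast L (Nat.add_comm 1 n) (MilK.mul L 1 n (symbol ![a]) z) = consHom a n z := by
  refine symbol_induction (P := fun z =>
    MilK.cast L (Nat.add_comm 1 n) (MilK.mul L 1 n (symbol ![a]) z) = consHom a n z)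
    (by simp) ?_ ?_ ?_ z
  · intro c
    rw [mul_symbol_symbol, cast_symbol, consHom_symbol, Fin.append_left_eq_cons]
    congr 1
  · intro x h
    simp only [map_neg, h]
  · intro x y h h'
    simp only [map_add, h, h']

end ConsMul

section S19015

variable (B : Type u) [CommRing B] [IsDomain B] [IsDiscreteValuationRing B]
    (E : Type v) (F : Type v) [Field E] [Field F] [Algebra B F] [IsFractionRing B F]
    [Algebra E B] [Algebra E F] [IsScalarTower E B F]

theorem units_map_alg (c : Eˣ) :
    Units.map (algebraMap E F : E →* F) c = unitToFrac B F (Units.map (algebraMap E B : E →* B) c) := by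
  ext
  simp only [unitToFrac, Units.coe_map, MonoidHom.coe_coe]
  rw [IsScalarTower.algebraMap_apply E B F]

theorem spec_neg_unif (n : ℕ) (d : K F (n + 1) →+ K (IsLocalRing.ResidueField B) n)
    (hd : IsTameSymbol B F n d) (ϖ : B) (hϖ : Irreducible ϖ) (x : K E n) :
    d (consHom (-unitFrac B F ϖ hϖ.ne_zero) n (MilK.map (algebraMap E F) n x)) =
      MilK.map ((IsLocalRing.residue B).comp (algebraMap E B)) n x := by
  refine symbol_induction (P := fun x =>
    d (consHom (-unitFrac B F ϖ hϖ.ne_zero) n (MilK.map (algebraMap E F) n x)) =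
      MilK.map ((IsLocalRing.residue B).comp (algebraMap E B)) n x) (by simp) ?_ ?_ ?_ x
  · intro c
    have hirr : Irreducible (-ϖ) := by
      have := (irreducible_mul_units (-1 : Bˣ)).mpr hϖ
      simpa using this
    have e1 : -unitFrac B F ϖ hϖ.ne_zero = unitFrac B F (-ϖ) hirr.ne_zero := by
      ext; simp
    have e2 : (fun i => Units.map (algebraMap E F : E →* F) (c i)) =
        fun i => unitToFrac B F (Units.map (algebraMap E B : E →* B) (c i)) := by
      funext i; exact units_map_alg B E F (c i)
    rw [map_symbol, map_symbol, consHom_symbol, e1, e2, hd (-ϖ) hirr]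
    rfl
  · intro x h
    simp only [map_neg, h]
  · intro x y h h'
    simp only [map_add, h, h']

end S19015

section S19016

variable (B : Type u) [CommRing B] [IsDomain B] [IsDiscreteValuationRing B]
    (F : Type v) [Field F] [Algebra B F] [IsFractionRing B F]

theorem cons_unitToFrac {n : ℕ} (u : Bˣ) (v : Fin n → Bˣ) :
    (Fin.cons (unitToFrac B F u) (fun i => unitToFrac B F (v i)) : Fin (n + 1) → Fˣ) =
      fun i => unitToFrac B F ((Fin.cons u v : Fin (n + 1) → Bˣ) i) := by
  funext i
  refine Fin.cases ?_ (fun l => ?_) i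
  · simp
  · simp

theorem cons_unitResidue {n : ℕ} (u : Bˣ) (v : Fin n → Bˣ) :
    (Fin.cons (unitResidue B u) (fun i => unitResidue B (v i)) :
        Fin (n + 1) → (IsLocalRing.ResidueField B)ˣ) =
      fun i => unitResidue B ((Fin.cons u v : Fin (n + 1) → Bˣ) i) := by
  funext i
  refine Fin.cases ?_ (fun l => ?_) i
  · simp
  · simp

theorem tame_unit_cons (n : ℕ)
    (d : K F (n + 1) →+ K (IsLocalRing.ResidueField B) n) (hd : IsTameSymbol B F n d)
    (d' : K F (n + 1 + 1) →+ K (IsLocalRing.ResidueField B) (n + 1))
    (hd' : IsTameSymbol B F (n + 1) d') (u : Bˣ) (ρ : K F (n + 1)) :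
    d' (consHom (unitToFrac B F u) (n + 1) ρ) = -(consHom (unitResidue B u) n (d ρ)) := by
  obtain ⟨ϖ, hϖ⟩ := IsDiscreteValuationRing.exists_irreducible B
  have key : d'.comp (consHom (unitToFrac B F u) (n + 1)) =
      -((consHom (unitResidue B u) n).comp d) := by
    apply dvr_hom_ext B F ϖ hϖ
    · intro v
      rw [AddMonoidHom.comp_apply, AddMonoidHom.neg_apply, AddMonoidHom.comp_apply,
        tame_unit B F d hd v, map_zero, neg_zero, consHom_symbol, cons_unitToFrac]
      exact tame_unit B F d' hd' _
    · intro v
      rw [AddMonoidHom.comp_apply, AddMonoidHom.neg_apply, AddMonoidHom.comp_apply,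
        hd ϖ hϖ v, consHom_symbol, consHom_symbol]
      set x : Fin (n + 1 + 1) → Fˣ := Fin.cons (unitFrac B F ϖ hϖ.ne_zero)
        (Fin.cons (unitToFrac B F u) (fun i => unitToFrac B F (v i))) with hx
      have e1 : (Fin.cons (unitToFrac B F u) (Fin.cons (unitFrac B F ϖ hϖ.ne_zero)
          (fun i => unitToFrac B F (v i))) : Fin (n + 1 + 1) → Fˣ) = x ∘ Equiv.swap 0 1 := by
        funext i
        refine Fin.cases ?_ (fun l => ?_) i
        · simp [hx]
        · refine Fin.cases ?_ (fun l' => ?_) l
          · simp [hx]
          · have h1 : (l'.succ.succ : Fin (n + 1 + 1)) ≠ 0 := Fin.succ_ne_zero _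
            have h2 : (l'.succ.succ : Fin (n + 1 + 1)) ≠ 1 := by
              intro h
              have := congrArg Fin.val h
              simp at this
            simp [hx, Equiv.swap_apply_of_ne_of_ne h1 h2]
      rw [e1, symbol_swap x 0 1 (by intro h; have := congrArg Fin.val h; simp at this), map_neg, hx, cons_unitToFrac, hd' ϖ hϖ,
        cons_unitResidue]
  have := DFunLike.congr_fun key ρ
  rwa [AddMonoidHom.comp_apply, AddMonoidHom.neg_apply, AddMonoidHom.comp_apply] at this

end S19016

section S19013

variable (A B : Type u) [CommRing A] [IsDomain A] [IsDiscreteValuationRing A]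
    [CommRing B] [IsDomain B] [IsDiscreteValuationRing B] [Algebra A B] [IsLocalHom (algebraMap A B)]
    (E F : Type v) [Field E] [Field F] [Algebra A E] [IsFractionRing A E] [Algebra B F] [IsFractionRing B F]
    [Algebra E F] [Algebra A F] [IsScalarTower A E F] [IsScalarTower A B F]

theorem units_map_unitToFrac (a : Aˣ) :
    Units.map (algebraMap E F : E →* F) (unitToFrac A E a) =
      unitToFrac B F (Units.map (algebraMap A B : A →* B) a) := by
  ext
  simp only [unitToFrac, Units.coe_map, MonoidHom.coe_coe]
  rw [← IsScalarTower.algebraMap_apply A E F, IsScalarTower.algebraMap_apply A B F]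

theorem units_map_unitResidue (a : Aˣ) :
    Units.map (IsLocalRing.ResidueField.map (algebraMap A B) :
        IsLocalRing.ResidueField A →* IsLocalRing.ResidueField B) (unitResidue A a) =
      unitResidue B (Units.map (algebraMap A B : A →* B) a) := by
  ext
  simp only [unitResidue, Units.coe_map, MonoidHom.coe_coe]
  rfl

theorem tame_ramified (e : ℕ)
    (he : Ideal.map (algebraMap A B) (IsLocalRing.maximalIdeal A) = IsLocalRing.maximalIdeal B ^ e)
    (n : ℕ) (dA : K E (n + 1) →+ K (IsLocalRing.ResidueField A) n) (hdA : IsTameSymbol A E n dA)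
    (dB : K F (n + 1) →+ K (IsLocalRing.ResidueField B) n) (hdB : IsTameSymbol B F n dB)
    (x : K E (n + 1)) :
    dB (MilK.map (algebraMap E F) (n + 1) x) =
      e • MilK.map (IsLocalRing.ResidueField.map (algebraMap A B)) n (dA x) := by
  obtain ⟨ϖA, hϖA⟩ := IsDiscreteValuationRing.exists_irreducible A
  obtain ⟨ϖB, hϖB⟩ := IsDiscreteValuationRing.exists_irreducible B
  rw [hϖA.maximalIdeal_eq, hϖB.maximalIdeal_eq, Ideal.map_span, Set.image_singleton,
    Ideal.span_singleton_pow, Ideal.span_singleton_eq_span_singleton] at he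
  obtain ⟨w, hw⟩ := he.symm
  -- `ϖB ^ e * w = algebraMap A B ϖA`
  have key : dB.comp (MilK.map (algebraMap E F) (n + 1)) =
      e • ((MilK.map (IsLocalRing.ResidueField.map (algebraMap A B)) n).comp dA) := by
    apply dvr_hom_ext A E ϖA hϖA
    · intro u
      rw [AddMonoidHom.comp_apply, AddMonoidHom.smul_apply, AddMonoidHom.comp_apply,
        tame_unit A E dA hdA u, map_zero, smul_zero, map_symbol]
      have e1 : (fun i => Units.map (algebraMap E F : E →* F) (unitToFrac A E (u i))) =
          fun i => unitToFrac B F (Units.map (algebraMap A B : A →* B) (u i)) := by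
        funext i; exact units_map_unitToFrac A B E F (u i)
      rw [e1]
      exact tame_unit B F dB hdB _
    · intro u
      rw [AddMonoidHom.comp_apply, AddMonoidHom.smul_apply, AddMonoidHom.comp_apply,
        hdA ϖA hϖA u, map_symbol, map_symbol]
      have e0 : Units.map (algebraMap E F : E →* F) (unitFrac A E ϖA hϖA.ne_zero) =
          unitFrac B F ϖB hϖB.ne_zero ^ (e : ℤ) * unitToFrac B F w := by
        ext
        simp only [Units.coe_map, MonoidHom.coe_coe, coe_unitFrac, Units.val_mul,
          zpow_natCast, Units.val_pow_eq_pow_val, unitToFrac]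
        rw [← IsScalarTower.algebraMap_apply A E F, IsScalarTower.algebraMap_apply A B F, ← hw,
          map_mul, map_pow]
      have e1 : (fun i => Units.map (algebraMap E F : E →* F)
          ((Fin.cons (unitFrac A E ϖA hϖA.ne_zero) (fun i => unitToFrac A E (u i)) :
            Fin (n + 1) → Eˣ) i)) =
          Fin.cons (unitFrac B F ϖB hϖB.ne_zero ^ (e : ℤ) * unitToFrac B F w)
            (fun i => unitToFrac B F (Units.map (algebraMap A B : A →* B) (u i))) := by
        funext i
        refine Fin.cases ?_ (fun l => ?_) i
        · simp only [Fin.cons_zero]; exact e0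
        · simp only [Fin.cons_succ]; exact units_map_unitToFrac A B E F (u l)
      rw [e1, ← consHom_symbol, consHom_mul, consHom_zpow, map_add, map_zsmul, consHom_symbol,
        consHom_symbol, hdB ϖB hϖB, cons_unitToFrac, tame_unit B F dB hdB, add_zero, natCast_zsmul]
      have e2 : (fun i => unitResidue B (Units.map (algebraMap A B : A →* B) (u i))) =
          fun i => Units.map (IsLocalRing.ResidueField.map (algebraMap A B) :
            IsLocalRing.ResidueField A →* IsLocalRing.ResidueField B) (unitResidue A (u i)) := by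
        funext i
        exact (units_map_unitResidue A B (u i)).symm
      rw [e2]
  have := DFunLike.congr_fun key x
  rwa [AddMonoidHom.comp_apply, AddMonoidHom.smul_apply, AddMonoidHom.comp_apply] at this

end S19013

end Groth.Agent.Helper20.MilKfun
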