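import Mathlib
import Groth.Agent.Lib.Helper18.NoetherInt
import Groth.Agent.Lib.Helper7.IntDim

/-!
# Noether normalization adapted to a chain: basic tools (helper20, for S12439)
-/

set_option autoImplicit false
universe u

namespace Groth.Agent.Lib.Helper20.NNChainA

section C1

open Polynomial

variable {R₀ : Type*} [CommRing R₀]

/-- `R₀[X]` is integral over `R₀[F]` when `F` has unit leading coefficient and positive degree. -/
theorem aeval_isIntegral (F : R₀[X]) (hu : IsUnit F.leadingCoeff) (hN : 0 < F.natDegree) :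
    ((Polynomial.aeval F : R₀[X] →ₐ[R₀] R₀[X]) : R₀[X] →+* R₀[X]).IsIntegral := by
  haveI : Nontrivial R₀ := by
    by_contra hnt
    rw [not_nontrivial_iff_subsingleton] at hnt
    have : F = 0 := Subsingleton.elim _ _
    rw [this, natDegree_zero] at hN
    exact lt_irrefl _ hN
  set φ : R₀[X] →+* R₀[X] := ((Polynomial.aeval F : R₀[X] →ₐ[R₀] R₀[X]) : R₀[X] →+* R₀[X])
    with hφ
  have hφC : ∀ a : R₀, φ (C a) = C a := fun a => Polynomial.aeval_C F a
  have hφX : φ X = F := Polynomial.aeval_X F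
  let G : R₀[X][X] := F.map (C : R₀ →+* R₀[X]) - C (X : R₀[X])
  have hnd : (F.map (C : R₀ →+* R₀[X])).natDegree = F.natDegree :=
    natDegree_map_eq_of_injective C_injective F
  have hdeg : (C (X : R₀[X]) : R₀[X][X]).degree < (F.map (C : R₀ →+* R₀[X])).degree := by
    refine lt_of_le_of_lt degree_C_le ?_
    rw [← natDegree_pos_iff_degree_pos, hnd]
    exact hN
  have hlc : G.leadingCoeff = C F.leadingCoeff := by
    show (F.map (C : R₀ →+* R₀[X]) - C (X : R₀[X])).leadingCoeff = _
    rw [leadingCoeff_sub_of_degree_lt hdeg, leadingCoeff_map_of_injective C_injective]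
  have huG : IsUnit G.leadingCoeff := by
    rw [hlc]
    exact hu.map (C : R₀ →+* R₀[X])
  have heval : eval₂ φ X G = 0 := by
    show eval₂ φ X (F.map (C : R₀ →+* R₀[X]) - C (X : R₀[X])) = 0
    rw [eval₂_sub, eval₂_C, eval₂_map, hφX]
    have : φ.comp (C : R₀ →+* R₀[X]) = C := RingHom.ext hφC
    rw [this, eval₂_C_X, sub_self]
  have hX : φ.IsIntegralElem X :=
    ⟨huG.unit⁻¹ • G, monic_of_isUnit_leadingCoeff_inv_smul huG, by
      rw [Units.smul_def, eval₂_smul, heval, mul_zero]⟩
  intro p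
  induction p using Polynomial.induction_on with
  | C a =>
    have := φ.isIntegralElem_map (x := C a)
    rwa [hφC] at this
  | add p q hp hq => exact RingHom.IsIntegralElem.add φ hp hq
  | monomial n a h =>
    rw [pow_succ, ← mul_assoc]
    exact RingHom.IsIntegralElem.mul φ h hX

end C1

section Dim

variable {R T : Type*} [CommRing R] [CommRing T]

theorem dim_quot_ker (ψ : R →+* T) (hψ : ψ.IsIntegral) :
    ringKrullDim (R ⧸ RingHom.ker ψ) = ringKrullDim T := by
  letI : Algebra (R ⧸ RingHom.ker ψ) T := (RingHom.kerLift ψ).toAlgebra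
  have hcomp : (RingHom.kerLift ψ).comp (Ideal.Quotient.mk (RingHom.ker ψ)) = ψ := by
    ext r
    simp
  have hint : (RingHom.kerLift ψ).IsIntegral := by
    apply RingHom.IsIntegral.tower_top (Ideal.Quotient.mk (RingHom.ker ψ)) (RingHom.kerLift ψ)
    rw [hcomp]
    exact hψ
  haveI : Algebra.IsIntegral (R ⧸ RingHom.ker ψ) T := ⟨hint⟩
  exact (Groth.Agent.Helper7.IntDim.ringKrullDim_eq_of_isIntegral_of_injective
    (A := R ⧸ RingHom.ker ψ) (B := T) (RingHom.kerLift_injective ψ)).symm

theorem ker_mk_comp (ψ : R →+* T) (K : Ideal T) :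
    RingHom.ker ((Ideal.Quotient.mk K).comp ψ) = K.comap ψ := by
  ext x
  rw [RingHom.mem_ker, RingHom.comp_apply, Ideal.Quotient.eq_zero_iff_mem, Ideal.mem_comap]

theorem mk_comp_isIntegral (ψ : R →+* T) (hψ : ψ.IsIntegral) (K : Ideal T) :
    ((Ideal.Quotient.mk K).comp ψ).IsIntegral :=
  RingHom.IsIntegral.trans _ _ hψ
    (RingHom.isIntegral_of_surjective _ Ideal.Quotient.mk_surjective)

theorem dim_quot_comap (ψ : R →+* T) (hψ : ψ.IsIntegral) (K : Ideal T) :
    ringKrullDim (R ⧸ K.comap ψ) = ringKrullDim (T ⧸ K) := by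
  have h := dim_quot_ker ((Ideal.Quotient.mk K).comp ψ) (mk_comp_isIntegral ψ hψ K)
  rwa [ker_mk_comp] at h

end Dim

section C2

open MvPolynomial Groth.Agent.Helper18.NoetherInt

variable {k : Type u} [Field k] {n : ℕ}

theorem not_isUnit_X (i : Fin (n + 1)) : ¬ IsUnit (X i : MvPolynomial (Fin (n + 1)) k) := by
  intro hu
  have h1 := hu.map (MvPolynomial.aeval (fun _ => (0 : k)) : MvPolynomial (Fin (n + 1)) k →ₐ[k] k)
  rw [MvPolynomial.aeval_X] at h1
  exact not_isUnit_zero h1

theorem exists_nu (f : MvPolynomial (Fin (n + 1)) k) (hf0 : f ≠ 0) (hfu : ¬ IsUnit f) :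
    ∃ ν : MvPolynomial (Fin (n + 1)) k →ₐ[k] MvPolynomial (Fin (n + 1)) k,
      ν.toRingHom.IsIntegral ∧ ν (X 0) = f := by
  set e := MvPolynomial.finSuccEquiv k n with he
  set F' : Polynomial (MvPolynomial (Fin n) k) := e (T f f) with hF'
  have hu : IsUnit F'.leadingCoeff := T_leadingcoeff_isUnit f hf0
  have hN : 0 < F'.natDegree := by
    by_contra hN0
    have h0 : F'.natDegree = 0 := by omega
    have h1 : F' = Polynomial.C (F'.coeff 0) := Polynomial.eq_C_of_natDegree_eq_zero h0
    have h2 : F'.leadingCoeff = F'.coeff 0 := by rw [Polynomial.leadingCoeff, h0]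
    have h3 : IsUnit F' := by
      rw [h1]
      exact Polynomial.isUnit_C.2 (h2 ▸ hu)
    apply hfu
    have h4 : f = (T f).symm (e.symm F') := by
      rw [hF', AlgEquiv.symm_apply_apply, AlgEquiv.symm_apply_apply]
    rw [h4]
    exact (h3.map e.symm).map (T f).symm
  let a : Polynomial (MvPolynomial (Fin n) k) →ₐ[k] Polynomial (MvPolynomial (Fin n) k) :=
    (Polynomial.aeval F').restrictScalars k
  let ν : MvPolynomial (Fin (n + 1)) k →ₐ[k] MvPolynomial (Fin (n + 1)) k :=
    ((T f).symm : _ ≃ₐ[k] _).toAlgHom.comp (e.symm.toAlgHom.comp (a.comp e.toAlgHom))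
  refine ⟨ν, ?_, ?_⟩
  · have h0 : (e.toAlgHom.toRingHom).IsIntegral :=
      RingHom.isIntegral_of_surjective _ e.surjective
    have h1 : (a.toRingHom).IsIntegral := aeval_isIntegral F' hu hN
    have h2 : (e.symm.toAlgHom.toRingHom).IsIntegral :=
      RingHom.isIntegral_of_surjective _ e.symm.surjective
    have h3 : (((T f).symm : _ ≃ₐ[k] _).toAlgHom.toRingHom).IsIntegral :=
      RingHom.isIntegral_of_surjective _ (T f).symm.surjective
    exact RingHom.IsIntegral.trans _ _ (RingHom.IsIntegral.trans _ _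
      (RingHom.IsIntegral.trans _ _ h0 h1) h2) h3
  · show (T f).symm (e.symm (Polynomial.aeval F' (e (X 0)))) = f
    rw [he, MvPolynomial.finSuccEquiv_X_zero, Polynomial.aeval_X, hF', ← he,
      AlgEquiv.symm_apply_apply, AlgEquiv.symm_apply_apply]

end C2

end Groth.Agent.Lib.Helper20.NNChainA
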