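import Groth.Agent.Lib.Helper20.NNChainA

/-!
# Noether normalization adapted to a flag of ideals (helper20, for S12439)
-/

set_option autoImplicit false
universe u

namespace Groth.Agent.Lib.Helper20.NNChainB

open MvPolynomial Groth.Agent.Lib.Helper20.NNChainA

variable {k : Type u} [Field k]

/-- extend an endomorphism of `k[X_1..X_d]` to `k[X_0..X_d]` fixing `X_0`. -/
noncomputable def ext (d : ℕ) (θ' : MvPolynomial (Fin d) k →ₐ[k] MvPolynomial (Fin d) k) :
    MvPolynomial (Fin (d + 1)) k →ₐ[k] MvPolynomial (Fin (d + 1)) k :=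
  aeval (Fin.cases (X 0) (fun j => rename Fin.succ (θ' (X j))))

theorem ext_X_zero (d : ℕ) (θ' : MvPolynomial (Fin d) k →ₐ[k] MvPolynomial (Fin d) k) :
    ext d θ' (X 0) = X 0 := by
  rw [ext, aeval_X]
  rfl

theorem ext_X_succ (d : ℕ) (θ' : MvPolynomial (Fin d) k →ₐ[k] MvPolynomial (Fin d) k)
    (j : Fin d) : ext d θ' (X j.succ) = rename Fin.succ (θ' (X j)) := by
  rw [ext, aeval_X, Fin.cases_succ]

theorem ext_comp_rename (d : ℕ) (θ' : MvPolynomial (Fin d) k →ₐ[k] MvPolynomial (Fin d) k) :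
    (ext d θ').comp (rename Fin.succ) = (rename Fin.succ).comp θ' := by
  apply MvPolynomial.algHom_ext
  intro j
  simp only [AlgHom.comp_apply, rename_X, ext_X_succ]

theorem ext_isIntegral (d : ℕ) (θ' : MvPolynomial (Fin d) k →ₐ[k] MvPolynomial (Fin d) k)
    (hθ : θ'.toRingHom.IsIntegral) : (ext d θ').toRingHom.IsIntegral := by
  intro z
  induction z using MvPolynomial.induction_on with
  | C a =>
    have h1 := (ext d θ').toRingHom.isIntegralElem_map (x := C a)
    have h2 : (ext d θ').toRingHom (C a) = C a := (ext d θ').commutes a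
    rwa [h2] at h1
  | add p q hp hq => exact RingHom.IsIntegralElem.add _ hp hq
  | mul_X p i hp =>
    refine RingHom.IsIntegralElem.mul _ hp ?_
    refine Fin.cases ?_ (fun j => ?_) i
    · have h1 := (ext d θ').toRingHom.isIntegralElem_map (x := X 0)
      have h2 : (ext d θ').toRingHom (X 0) = X 0 := ext_X_zero d θ'
      rwa [h2] at h1
    · obtain ⟨p, hp, hpe⟩ := hθ (X j)
      let ρ : MvPolynomial (Fin d) k →ₐ[k] MvPolynomial (Fin (d + 1)) k := rename Fin.succ
      refine ⟨p.map ρ.toRingHom, hp.map _, ?_⟩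
      rw [Polynomial.eval₂_map]
      have hc : (ext d θ').toRingHom.comp ρ.toRingHom = ρ.toRingHom.comp θ'.toRingHom :=
        congrArg AlgHom.toRingHom (ext_comp_rename d θ')
      have hX : (X j.succ : MvPolynomial (Fin (d + 1)) k) = ρ.toRingHom (X j) :=
        (rename_X _ _).symm
      rw [hc, hX, ← Polynomial.hom_eval₂, hpe, map_zero]

theorem flag : ∀ (d : ℕ) {R : Type u} [CommRing R] [Algebra k R]
    (ψ : MvPolynomial (Fin d) k →ₐ[k] R) (K : Fin d → Ideal R), Monotone K →
    (∀ l, ((Ideal.Quotient.mk (K l)).comp ψ.toRingHom).IsIntegral) →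
    (∀ l : Fin d, ringKrullDim (R ⧸ K l) ≤ ((d - (l.val + 1) : ℕ) : WithBot ℕ∞)) →
    ∃ θ : MvPolynomial (Fin d) k →ₐ[k] MvPolynomial (Fin d) k,
      θ.toRingHom.IsIntegral ∧ ∀ l, ψ (θ (X l)) ∈ K l := by
  intro d
  induction d with
  | zero =>
    intro R _ _ ψ K _ _ _
    exact ⟨AlgHom.id k _, RingHom.isIntegral_of_surjective _ (fun x => ⟨x, rfl⟩),
      fun l => l.elim0⟩
  | succ d ih =>
    intro R _ _ ψ K hK hint hdim
    set ψ₀ : MvPolynomial (Fin (d + 1)) k →+* R ⧸ K 0 :=
      (Ideal.Quotient.mk (K 0)).comp ψ.toRingHom with hψ₀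
    have hJdim : ringKrullDim (MvPolynomial (Fin (d + 1)) k ⧸ RingHom.ker ψ₀) =
        ringKrullDim (R ⧸ K 0) := dim_quot_ker ψ₀ (hint 0)
    have hJne : RingHom.ker ψ₀ ≠ ⊥ := by
      intro hbot
      have h1 : ringKrullDim (MvPolynomial (Fin (d + 1)) k ⧸ RingHom.ker ψ₀) =
          ((d + 1 : ℕ) : WithBot ℕ∞) := by
        rw [hbot, ringKrullDim_eq_of_ringEquiv (RingEquiv.quotientBot _),
          MvPolynomial.ringKrullDim_of_isNoetherianRing, ringKrullDim_eq_zero_of_field, zero_add,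
          Nat.card_eq_fintype_card, Fintype.card_fin]
      have h2 := hdim 0
      rw [← hJdim, h1] at h2
      have h3 : (d + 1 : ℕ) ≤ d + 1 - ((0 : Fin (d + 1)).val + 1) := by exact_mod_cast h2
      simp at h3
    obtain ⟨f₀, hf₀mem, hf₀ne⟩ := Submodule.exists_mem_ne_zero_of_ne_bot hJne
    set f := f₀ * X 0 with hf
    have hfmem : f ∈ RingHom.ker ψ₀ := Ideal.mul_mem_right _ _ hf₀mem
    have hfne : f ≠ 0 := mul_ne_zero hf₀ne (X_ne_zero 0)
    have hfu : ¬ IsUnit f := fun hu =>
      not_isUnit_X (k := k) (n := d) 0 (isUnit_of_mul_isUnit_right hu)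
    obtain ⟨ν, hνint, hν0⟩ := exists_nu f hfne hfu
    let ρ : MvPolynomial (Fin d) k →ₐ[k] MvPolynomial (Fin (d + 1)) k := rename Fin.succ
    let ψ' : MvPolynomial (Fin d) k →ₐ[k] R := (ψ.comp ν).comp ρ
    have hψf : ψ f ∈ K 0 := by
      have h1 := hfmem
      rw [RingHom.mem_ker] at h1
      exact Ideal.Quotient.eq_zero_iff_mem.1 h1
    have hint' : ∀ j : Fin d,
        ((Ideal.Quotient.mk (K j.succ)).comp ψ'.toRingHom).IsIntegral := by
      intro j
      let π₀ : MvPolynomial (Fin (d + 1)) k →ₐ[k] MvPolynomial (Fin d) k :=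
        aeval (Fin.cases 0 (fun j => X j))
      have hfac : ((Ideal.Quotient.mkₐ k (K j.succ)).comp ψ').comp π₀ =
          (Ideal.Quotient.mkₐ k (K j.succ)).comp (ψ.comp ν) := by
        apply MvPolynomial.algHom_ext
        intro i
        refine Fin.cases ?_ (fun i' => ?_) i
        · simp only [AlgHom.comp_apply, π₀, aeval_X, Fin.cases_zero, map_zero]
          rw [hν0]
          exact (Ideal.Quotient.eq_zero_iff_mem.2 (hK (Fin.zero_le _) hψf)).symm
        · simp only [AlgHom.comp_apply, π₀, aeval_X, Fin.cases_succ, ψ', ρ, rename_X]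
      have h1 : ((Ideal.Quotient.mk (K j.succ)).comp (ψ.comp ν).toRingHom).IsIntegral := by
        have h2 : (ψ.comp ν).toRingHom = ψ.toRingHom.comp ν.toRingHom := rfl
        rw [h2, ← RingHom.comp_assoc]
        exact RingHom.IsIntegral.trans _ _ hνint (hint j.succ)
      apply RingHom.IsIntegral.tower_top π₀.toRingHom
      have h3 : ((Ideal.Quotient.mk (K j.succ)).comp ψ'.toRingHom).comp π₀.toRingHom =
          (Ideal.Quotient.mk (K j.succ)).comp (ψ.comp ν).toRingHom :=
        congrArg AlgHom.toRingHom hfac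
      rw [h3]
      exact h1
    have hdim' : ∀ j : Fin d,
        ringKrullDim (R ⧸ K j.succ) ≤ ((d - (j.val + 1) : ℕ) : WithBot ℕ∞) := by
      intro j
      have h1 := hdim j.succ
      rw [Fin.val_succ] at h1
      have e : d + 1 - (j.val + 1 + 1) = d - (j.val + 1) := by omega
      rwa [e] at h1
    obtain ⟨θ', hθ'int, hθ'⟩ := ih ψ' (fun j => K j.succ)
      (fun a b hab => hK (Fin.succ_le_succ_iff.2 hab)) hint' hdim'
    refine ⟨ν.comp (ext d θ'), ?_, ?_⟩
    · exact RingHom.IsIntegral.trans _ _ (ext_isIntegral d θ' hθ'int) hνint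
    · intro l
      refine Fin.cases ?_ (fun j => ?_) l
      · rw [AlgHom.comp_apply, ext_X_zero, hν0]
        exact hψf
      · rw [AlgHom.comp_apply, ext_X_succ]
        exact hθ' j

end Groth.Agent.Lib.Helper20.NNChainB
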