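import Mathlib

/-!
# The coordinate flag ideals `(X_l : l < h)` of a polynomial ring (helper20, for S12439)
-/

set_option autoImplicit false
universe u

namespace Groth.Agent.Lib.Helper20.NNChainC

open MvPolynomial

variable {k : Type u} [Field k]

/-- the ideal `(X_l : l < h)`. -/
noncomputable def P (d h : ℕ) : Ideal (MvPolynomial (Fin d) k) :=
  Ideal.span (X '' {l : Fin d | (l : ℕ) < h})

theorem P_def (d h : ℕ) :
    (P d h : Ideal (MvPolynomial (Fin d) k)) = Ideal.span (X '' {l : Fin d | (l : ℕ) < h}) := rfl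

/-- kill the first `h` variables. -/
noncomputable def π (d h : ℕ) : MvPolynomial (Fin d) k →ₐ[k] MvPolynomial (Fin (d - h)) k :=
  aeval (fun l : Fin d => if hl : h ≤ l.val then X ⟨l.val - h, by have := l.2; omega⟩ else 0)

/-- the section. -/
noncomputable def ι (d h : ℕ) : MvPolynomial (Fin (d - h)) k →ₐ[k] MvPolynomial (Fin d) k :=
  rename (fun j : Fin (d - h) => (⟨j.val + h, by have := j.2; omega⟩ : Fin d))

theorem π_X_lt (d h : ℕ) (l : Fin d) (hl : l.val < h) : π (k := k) d h (X l) = 0 := by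
  rw [π, aeval_X, dif_neg (by omega)]

theorem π_X_ge (d h : ℕ) (l : Fin d) (hl : h ≤ l.val) :
    π (k := k) d h (X l) = X ⟨l.val - h, by have := l.2; omega⟩ := by
  rw [π, aeval_X, dif_pos hl]

theorem π_ι (d h : ℕ) (x : MvPolynomial (Fin (d - h)) k) : π d h (ι d h x) = x := by
  have : (π (k := k) d h).comp (ι d h) = AlgHom.id k _ := by
    apply MvPolynomial.algHom_ext
    intro j
    rw [AlgHom.comp_apply, ι, rename_X, π_X_ge _ _ _ (by simp), AlgHom.id_apply]
    congr 1
    apply Fin.ext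
    simp
  exact congrArg (fun f => f x) this

theorem ι_π_X_ge (d h : ℕ) (l : Fin d) (hl : h ≤ l.val) : ι (k := k) d h (π d h (X l)) = X l := by
  rw [π_X_ge _ _ _ hl, ι, rename_X]
  congr 1
  apply Fin.ext
  simp only
  omega

theorem sub_mem (d h : ℕ) (x : MvPolynomial (Fin d) k) : x - ι d h (π d h x) ∈ P (k := k) d h := by
  induction x using MvPolynomial.induction_on with
  | C a =>
    have : ι (k := k) d h (π d h (C a)) = C a := by
      rw [← MvPolynomial.algebraMap_eq, AlgHom.commutes, AlgHom.commutes]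
    rw [this, sub_self]
    exact Ideal.zero_mem _
  | add p q hp hq =>
    have : p + q - ι d h (π d h (p + q)) = (p - ι d h (π d h p)) + (q - ι d h (π d h q)) := by
      rw [map_add, map_add]; ring
    rw [this]
    exact Ideal.add_mem _ hp hq
  | mul_X p l hp =>
    have hX : X l - ι d h (π d h (X l)) ∈ P (k := k) d h := by
      by_cases hl : l.val < h
      · rw [π_X_lt _ _ _ hl, map_zero, sub_zero]
        exact Ideal.subset_span ⟨l, hl, rfl⟩
      · rw [ι_π_X_ge _ _ _ (by omega), sub_self]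
        exact Ideal.zero_mem _
    have : p * X l - ι d h (π d h (p * X l)) =
        (p - ι d h (π d h p)) * X l + ι d h (π d h p) * (X l - ι d h (π d h (X l))) := by
      rw [map_mul, map_mul]; ring
    rw [this]
    exact Ideal.add_mem _ (Ideal.mul_mem_right _ _ hp) (Ideal.mul_mem_left _ _ hX)

theorem ker_π (d h : ℕ) : RingHom.ker (π (k := k) d h).toRingHom = P d h := by
  apply le_antisymm
  · intro x hx
    have h1 : π d h x = 0 := hx
    have h2 := sub_mem d h x
    rwa [h1, map_zero, sub_zero] at h2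
  · rw [P, Ideal.span_le]
    rintro _ ⟨l, hl, rfl⟩
    exact π_X_lt d h l hl

theorem π_surjective (d h : ℕ) : Function.Surjective (π (k := k) d h) :=
  fun x => ⟨ι d h x, π_ι d h x⟩

/-- the quotient by `(X_l : l < h)` is a polynomial ring. -/
noncomputable def quotEquiv (d h : ℕ) :
    (MvPolynomial (Fin d) k ⧸ (P d h : Ideal (MvPolynomial (Fin d) k))) ≃+*
      MvPolynomial (Fin (d - h)) k :=
  (Ideal.quotEquivOfEq (ker_π d h).symm).trans
    (RingHom.quotientKerEquivOfSurjective (f := (π (k := k) d h).toRingHom) (π_surjective d h))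

instance P_isPrime (d h : ℕ) : (P d h : Ideal (MvPolynomial (Fin d) k)).IsPrime := by
  rw [← ker_π]
  exact RingHom.ker_isPrime _

theorem dim_quot (d h : ℕ) :
    ringKrullDim (MvPolynomial (Fin d) k ⧸ (P d h : Ideal (MvPolynomial (Fin d) k))) =
      ((d - h : ℕ) : WithBot ℕ∞) := by
  rw [ringKrullDim_eq_of_ringEquiv (quotEquiv d h),
    MvPolynomial.ringKrullDim_of_isNoetherianRing, ringKrullDim_eq_zero_of_field, zero_add,
    Nat.card_eq_fintype_card, Fintype.card_fin]

instance isIntegrallyClosed_quot (d h : ℕ) :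
    IsIntegrallyClosed (MvPolynomial (Fin d) k ⧸ (P d h : Ideal (MvPolynomial (Fin d) k))) :=
  IsIntegrallyClosed.of_equiv (quotEquiv d h).symm

theorem P_mono (d : ℕ) {a c : ℕ} (hac : a ≤ c) :
    (P d a : Ideal (MvPolynomial (Fin d) k)) ≤ P d c :=
  Ideal.span_mono (Set.image_mono (fun l (hl : (l : ℕ) < a) => lt_of_lt_of_le hl hac))

theorem P_zero (d : ℕ) : (P d 0 : Ideal (MvPolynomial (Fin d) k)) = ⊥ := by
  rw [P, Ideal.span_eq_bot]
  rintro _ ⟨l, hl, rfl⟩
  exact absurd hl (Nat.not_lt_zero _)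

theorem P_ne_succ (d j : ℕ) (hj : j < d) :
    (P d j : Ideal (MvPolynomial (Fin d) k)) ≠ P d (j + 1) := by
  intro heq
  have h1 : (X ⟨j, hj⟩ : MvPolynomial (Fin d) k) ∈ P d (j + 1) :=
    Ideal.subset_span ⟨⟨j, hj⟩, Nat.lt_succ_self j, rfl⟩
  rw [← heq, ← ker_π] at h1
  have h2 : π d j (X ⟨j, hj⟩ : MvPolynomial (Fin d) k) = 0 := h1
  rw [π_X_ge d j ⟨j, hj⟩ (le_refl j)] at h2
  exact X_ne_zero _ h2

theorem P_lt_succ (d j : ℕ) (hj : j < d) :
    (P d j : Ideal (MvPolynomial (Fin d) k)) < P d (j + 1) :=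
  lt_of_le_of_ne (P_mono d (Nat.le_succ j)) (P_ne_succ d j hj)

end Groth.Agent.Lib.Helper20.NNChainC
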