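import Mathlib

/-!
# Going-up, incomparability and "going-down in a quotient" for integral ring maps
(helper20, for S12439)
-/

set_option autoImplicit false

namespace Groth.Agent.Lib.Helper20.NNChainD

variable {R S : Type*} [CommRing R] [CommRing S]

/-- incomparability. -/
theorem eq_of_le_of_comap_eq (φ : R →+* S) (hφ : φ.IsIntegral) (Q Q' : Ideal S) [Q.IsPrime]
    (hle : Q ≤ Q') (hc : Q.comap φ = Q'.comap φ) : Q = Q' := by
  by_contra hne
  have hlt : Q < Q' := lt_of_le_of_ne hle hne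
  letI := φ.toAlgebra
  haveI : Algebra.IsIntegral R S := ⟨hφ⟩
  have h1 := Ideal.IsIntegral.comap_lt_comap (R := R) hlt
  exact h1.ne hc

/-- going-up. -/
theorem exists_over (φ : R →+* S) (hφ : φ.IsIntegral) (p : Ideal R) [p.IsPrime] (Q : Ideal S)
    (h : Q.comap φ ≤ p) : ∃ Q' : Ideal S, Q'.IsPrime ∧ Q ≤ Q' ∧ Q'.comap φ = p := by
  letI := φ.toAlgebra
  haveI : Algebra.IsIntegral R S := ⟨hφ⟩
  obtain ⟨Q', hQ', hpr, hc⟩ := Ideal.exists_ideal_over_prime_of_isIntegral p Q h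
  exact ⟨Q', hpr, hQ', hc⟩

/-- going-down between two primes, when the quotient of the base by the lower contraction is
integrally closed. -/
theorem mid (φ : R →+* S) (hφ : φ.IsIntegral) (p p' : Ideal R) [p.IsPrime] [p'.IsPrime]
    [IsIntegrallyClosed (R ⧸ p)] (Q Q'' : Ideal S) [Q.IsPrime] [Q''.IsPrime]
    (hQ : Q.comap φ = p) (hQQ : Q ≤ Q'') (hpp : p ≤ p') (hp' : p' ≤ Q''.comap φ) :
    ∃ Q' : Ideal S, Q'.IsPrime ∧ Q ≤ Q' ∧ Q' ≤ Q'' ∧ Q'.comap φ = p' := by
  letI := φ.toAlgebra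
  haveI : Algebra.IsIntegral R S := ⟨hφ⟩
  haveI : Q.LiesOver p := ⟨hQ.symm⟩
  set mS := Ideal.Quotient.mk Q with hmS
  set mR := Ideal.Quotient.mk p with hmR
  have hsurjS : Function.Surjective mS := Ideal.Quotient.mk_surjective
  have hsurjR : Function.Surjective mR := Ideal.Quotient.mk_surjective
  let Qb'' : Ideal (S ⧸ Q) := Q''.map mS
  have hcomapQ'' : Qb''.comap mS = Q'' := by
    rw [Ideal.comap_map_of_surjective mS hsurjS, ← RingHom.ker_eq_comap_bot, Ideal.mk_ker,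
      sup_eq_left.2 hQQ]
  haveI : Qb''.IsPrime :=
    Ideal.map_isPrime_of_surjective hsurjS (by rw [Ideal.mk_ker]; exact hQQ)
  let pb' : Ideal (R ⧸ p) := p'.map mR
  have hcomapp' : pb'.comap mR = p' := by
    rw [Ideal.comap_map_of_surjective mR hsurjR, ← RingHom.ker_eq_comap_bot, Ideal.mk_ker,
      sup_eq_left.2 hpp]
  haveI : pb'.IsPrime :=
    Ideal.map_isPrime_of_surjective hsurjR (by rw [Ideal.mk_ker]; exact hpp)
  have hle : pb' ≤ Qb''.under (R ⧸ p) := by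
    rw [Ideal.map_le_iff_le_comap]
    intro x hx
    show algebraMap (R ⧸ p) (S ⧸ Q) (mR x) ∈ Qb''
    rw [Ideal.Quotient.algebraMap_mk_of_liesOver]
    exact Ideal.mem_map_of_mem mS (hp' hx)
  obtain ⟨Pb, hPbQ, hPbprime, hPbover⟩ :=
    Ideal.exists_ideal_le_liesOver_of_le (p := pb') (q := Qb''.under (R ⧸ p)) Qb'' hle
  refine ⟨Pb.comap mS, Ideal.comap_isPrime mS Pb, ?_, ?_, ?_⟩
  · intro x hx
    show mS x ∈ Pb
    rw [Ideal.Quotient.eq_zero_iff_mem.2 hx]
    exact Pb.zero_mem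
  · rw [← hcomapQ'']
    exact Ideal.comap_mono hPbQ
  · rw [← hcomapp']
    ext x
    rw [Ideal.mem_comap, Ideal.mem_comap, Ideal.mem_comap]
    have h1 : pb' = Pb.under (R ⧸ p) := hPbover.over
    rw [h1, Ideal.under_def, Ideal.mem_comap, Ideal.Quotient.algebraMap_mk_of_liesOver]
    rfl

end Groth.Agent.Lib.Helper20.NNChainD
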