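import Groth.Agent.Lib.Helper20.NNChainB
import Groth.Agent.Lib.Helper20.NNChainC
import Groth.Agent.Lib.Helper20.NNChainD

/-!
# Noether normalization adapted to a chain of primes: existence (helper20, for S12439)
-/

set_option autoImplicit false
universe u

namespace Groth.Agent.Lib.Helper20.NNChainE

open MvPolynomial Groth.Agent.Lib.Helper20.NNChainA Groth.Agent.Lib.Helper20.NNChainB
  Groth.Agent.Lib.Helper20.NNChainC Groth.Agent.Lib.Helper20.NNChainD

variable {k A : Type u} [Field k] [CommRing A] [IsDomain A] [Algebra k A]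

theorem injective_of_isIntegral (d : ℕ) (hd : ringKrullDim A = (d : WithBot ℕ∞))
    (φ : MvPolynomial (Fin d) k →ₐ[k] A) (hφ : φ.toRingHom.IsIntegral) :
    Function.Injective φ := by
  have hker : RingHom.ker φ.toRingHom = ⊥ := by
    by_contra hne
    obtain ⟨x, hxmem, hx0⟩ := Submodule.exists_mem_ne_zero_of_ne_bot hne
    have h1 : ringKrullDim (MvPolynomial (Fin d) k ⧸ RingHom.ker φ.toRingHom) =
        (d : WithBot ℕ∞) := by
      rw [dim_quot_ker φ.toRingHom hφ, hd]
    have h2 := ringKrullDim_succ_le_of_surjective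
      (Ideal.Quotient.mk (RingHom.ker φ.toRingHom)) Ideal.Quotient.mk_surjective
      (mem_nonZeroDivisors_of_ne_zero hx0) (Ideal.Quotient.eq_zero_iff_mem.2 hxmem)
    rw [h1, MvPolynomial.ringKrullDim_of_isNoetherianRing, ringKrullDim_eq_zero_of_field,
      zero_add, Nat.card_eq_fintype_card, Fintype.card_fin] at h2
    have h3 : (d + 1 : ℕ) ≤ d := by exact_mod_cast h2
    omega
  exact (RingHom.injective_iff_ker_eq_bot φ.toRingHom).2 hker

theorem comap_eq_P (d : ℕ) (φ : MvPolynomial (Fin d) k →ₐ[k] A) (hφ : φ.toRingHom.IsIntegral)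
    (q : Ideal A) [q.IsPrime] (h : ℕ)
    (hdim : ringKrullDim (A ⧸ q) = ((d - h : ℕ) : WithBot ℕ∞))
    (hle : (P d h : Ideal (MvPolynomial (Fin d) k)) ≤ q.comap φ) : q.comap φ = P d h := by
  by_contra hne
  have hlt : (P d h : Ideal (MvPolynomial (Fin d) k)) < q.comap φ :=
    lt_of_le_of_ne hle (Ne.symm hne)
  obtain ⟨x, hxq, hxP⟩ := SetLike.exists_of_lt hlt
  have h1 : ringKrullDim (MvPolynomial (Fin d) k ⧸ q.comap φ) =
      ((d - h : ℕ) : WithBot ℕ∞) := by
    have := dim_quot_comap φ.toRingHom hφ q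
    rw [hdim] at this
    exact this
  have hx0 : Ideal.Quotient.mk (P d h) x ≠ 0 :=
    fun h0 => hxP (Ideal.Quotient.eq_zero_iff_mem.1 h0)
  have h2 := ringKrullDim_succ_le_of_surjective (Ideal.Quotient.factor hle)
    (Ideal.Quotient.factor_surjective hle) (mem_nonZeroDivisors_of_ne_zero hx0)
    (by rw [Ideal.Quotient.factor_mk]; exact Ideal.Quotient.eq_zero_iff_mem.2 hxq)
  rw [dim_quot, h1] at h2
  have h3 : (d - h + 1 : ℕ) ≤ d - h := by exact_mod_cast h2
  omega

variable [Algebra.FiniteType k A]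

theorem part1 (d : ℕ) (hd : ringKrullDim A = (d : WithBot ℕ∞)) (r : ℕ)
    (q : Fin r → PrimeSpectrum A) (hq : StrictMono q) (h : Fin r → ℕ)
    (hdim : ∀ i, ringKrullDim (A ⧸ (q i).asIdeal) = ((d - h i : ℕ) : WithBot ℕ∞)) :
    ∃ φ : MvPolynomial (Fin d) k →ₐ[k] A, φ.toRingHom.Finite ∧ Function.Injective φ ∧
      ∀ i, (q i).asIdeal.comap φ = Ideal.span (X '' {l : Fin d | (l : ℕ) < h i}) := by
  obtain ⟨s, g, hginj, hgint⟩ := exists_integral_inj_algHom_of_fg k A
  have hgint' : g.toRingHom.IsIntegral := hgint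
  have hs : s = d := by
    have h1 := dim_quot_ker g.toRingHom hgint'
    have h2 : RingHom.ker g.toRingHom = ⊥ := (RingHom.injective_iff_ker_eq_bot _).1 hginj
    rw [h2, ringKrullDim_eq_of_ringEquiv (RingEquiv.quotientBot _),
      MvPolynomial.ringKrullDim_of_isNoetherianRing, ringKrullDim_eq_zero_of_field, zero_add,
      Nat.card_eq_fintype_card, Fintype.card_fin, hd] at h1
    exact_mod_cast h1
  subst hs
  let Kf : ℕ → Ideal A := fun l => ⨅ i : Fin r, ⨅ _ : l < h i, (q i).asIdeal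
  have hKmono : ∀ l l', l ≤ l' → Kf l ≤ Kf l' := fun l l' hll =>
    le_iInf fun i => le_iInf fun hi => iInf_le_of_le i (iInf_le _ (lt_of_le_of_lt hll hi))
  have hKdim : ∀ l, ringKrullDim (A ⧸ Kf l) ≤ ((s - (l + 1) : ℕ) : WithBot ℕ∞) := by
    intro l
    by_cases hex : ∃ i, l < h i
    · let F := Finset.univ.filter (fun i : Fin r => l < h i)
      have hF : F.Nonempty := by
        obtain ⟨i, hi⟩ := hex
        exact ⟨i, Finset.mem_filter.2 ⟨Finset.mem_univ _, hi⟩⟩
      set i₀ := F.min' hF with hi₀def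
      have hi₀ : l < h i₀ := (Finset.mem_filter.1 (F.min'_mem hF)).2
      have hmin : ∀ i, l < h i → i₀ ≤ i := fun i hi =>
        F.min'_le i (Finset.mem_filter.2 ⟨Finset.mem_univ _, hi⟩)
      have hKeq : Kf l = (q i₀).asIdeal := by
        apply le_antisymm
        · exact iInf_le_of_le i₀ (iInf_le _ hi₀)
        · exact le_iInf fun i => le_iInf fun hi =>
            (PrimeSpectrum.asIdeal_le_asIdeal _ _).2 (hq.monotone (hmin i hi))
      rw [hKeq, hdim i₀]
      exact_mod_cast (by omega : s - h i₀ ≤ s - (l + 1))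
    · have hKtop : Kf l = ⊤ :=
        eq_top_iff.2 (le_iInf fun i => le_iInf fun hi => absurd ⟨i, hi⟩ hex)
      rw [hKtop]
      haveI : Subsingleton (A ⧸ (⊤ : Ideal A)) := Ideal.Quotient.subsingleton_iff.2 rfl
      rw [ringKrullDim_eq_bot_of_subsingleton]
      exact bot_le
  obtain ⟨θ, hθint, hθ⟩ := flag s g (fun l : Fin s => Kf l.val)
    (fun a b hab => hKmono _ _ hab)
    (fun l => mk_comp_isIntegral g.toRingHom hgint' _) (fun l => hKdim l.val)
  let φ := g.comp θ
  have hφint : φ.toRingHom.IsIntegral := RingHom.IsIntegral.trans _ _ hθint hgint'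
  refine ⟨φ, ?_, injective_of_isIntegral s hd φ hφint, ?_⟩
  · have h0 : algebraMap k A = φ.toRingHom.comp (algebraMap k (MvPolynomial (Fin s) k)) := by
      ext a
      exact (φ.commutes a).symm
    exact hφint.to_finite
      (h0 ▸ RingHom.finiteType_algebraMap.mpr (inferInstance : Algebra.FiniteType k A)).of_comp_finiteType
  · intro i
    apply comap_eq_P s φ hφint (q i).asIdeal (h i) (hdim i)
    rw [P_def, Ideal.span_le]
    rintro _ ⟨l, hl, rfl⟩
    show φ (X l) ∈ (q i).asIdeal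
    exact (iInf_le_of_le i (iInf_le _ hl) : Kf l.val ≤ (q i).asIdeal) (hθ l)

end Groth.Agent.Lib.Helper20.NNChainE
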