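import Groth.Agent.Lib.Helper20.NNChainE

/-!
# Extending a chain of primes over the coordinate flag (helper20, for S12439)
-/

set_option autoImplicit false
universe u

namespace Groth.Agent.Lib.Helper20.NNChainF

open MvPolynomial Groth.Agent.Lib.Helper20.NNChainA Groth.Agent.Lib.Helper20.NNChainC
  Groth.Agent.Lib.Helper20.NNChainD

variable {k A : Type u} [Field k] [CommRing A] [IsDomain A] [Algebra k A]

theorem part2 (d : ℕ) (r : ℕ) (q : Fin r → PrimeSpectrum A) (hq : StrictMono q)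
    (h : Fin r → ℕ) (hh : ∀ i, h i ≤ d)
    (φ : MvPolynomial (Fin d) k →ₐ[k] A) (hfin : φ.toRingHom.Finite)
    (hinj : Function.Injective φ)
    (hcomap : ∀ i, (q i).asIdeal.comap φ = Ideal.span (X '' {l : Fin d | (l : ℕ) < h i})) :
    ∃ Q : ℕ → PrimeSpectrum A,
      (∀ j, j ≤ d → (Q j).asIdeal.comap φ = Ideal.span (X '' {l : Fin d | (l : ℕ) < j})) ∧
      (∀ j, j < d → Q j < Q (j + 1)) ∧ (∀ i, Q (h i) = q i) := by
  have hint : φ.toRingHom.IsIntegral := hfin.to_isIntegral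
  have e : ∀ I : Ideal A, I.comap φ.toRingHom = I.comap φ := fun I => rfl
  let Inv : ℕ → PrimeSpectrum A → Prop := fun j Q =>
    (j ≤ d → Q.asIdeal.comap φ = P d j) ∧ (∀ i, h i = j → Q = q i) ∧ (∀ i, j ≤ h i → Q ≤ q i)
  have hbase : Inv 0 ⟨⊥, Ideal.isPrime_bot⟩ := by
    refine ⟨fun _ => ?_, fun i hi => ?_, fun i _ => ?_⟩
    · rw [P_zero]
      exact (RingHom.injective_iff_ker_eq_bot φ.toRingHom).1 hinj
    · have h1 : (q i).asIdeal.comap φ = ⊥ := by rw [hcomap i, hi, ← P_def, P_zero]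
      have h2 : (q i).asIdeal = ⊥ := by
        letI := φ.toRingHom.toAlgebra
        haveI : Algebra.IsIntegral (MvPolynomial (Fin d) k) A := ⟨hint⟩
        exact Ideal.eq_bot_of_comap_eq_bot (R := MvPolynomial (Fin d) k) h1
      exact PrimeSpectrum.ext h2.symm
    · exact (PrimeSpectrum.asIdeal_le_asIdeal _ _).1 bot_le
  have hstep : ∀ j (Q : PrimeSpectrum A), Inv j Q →
      ∃ Q' : PrimeSpectrum A, Inv (j + 1) Q' ∧ (j < d → Q < Q') := by
    intro j Q hQ
    by_cases hjd : j < d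
    · have hQc : Q.asIdeal.comap φ = P d j := hQ.1 hjd.le
      haveI := Q.isPrime
      have hlt_of : ∀ Q' : Ideal A, Q.asIdeal ≤ Q' → Q'.comap φ.toRingHom = P d (j + 1) →
          Q.asIdeal < Q' := by
        intro Q' hQQ' hQ'c
        refine lt_of_le_of_ne hQQ' (fun heq => P_ne_succ (k := k) d j hjd ?_)
        rw [← hQc, ← hQ'c, e, heq]
      by_cases hex : ∃ i, j + 1 ≤ h i
      · let F := Finset.univ.filter (fun i : Fin r => j + 1 ≤ h i)
        have hF : F.Nonempty := by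
          obtain ⟨i, hi⟩ := hex
          exact ⟨i, Finset.mem_filter.2 ⟨Finset.mem_univ _, hi⟩⟩
        set i₀ := F.min' hF with hi₀def
        have hi₀ : j + 1 ≤ h i₀ := (Finset.mem_filter.1 (F.min'_mem hF)).2
        have hmin : ∀ i, j + 1 ≤ h i → i₀ ≤ i := fun i hi =>
          F.min'_le i (Finset.mem_filter.2 ⟨Finset.mem_univ _, hi⟩)
        have hQle : Q.asIdeal ≤ (q i₀).asIdeal :=
          (PrimeSpectrum.asIdeal_le_asIdeal _ _).2 (hQ.2.2 i₀ (by omega))
        haveI := (q i₀).isPrime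
        obtain ⟨Q', hQ'prime, hQQ', hQ'q, hQ'c⟩ := mid φ.toRingHom hint (P d j) (P d (j + 1))
          Q.asIdeal (q i₀).asIdeal hQc hQle (P_mono d (Nat.le_succ j))
          (by rw [e, hcomap i₀, ← P_def]; exact P_mono d hi₀)
        refine ⟨⟨Q', hQ'prime⟩, ⟨fun _ => hQ'c, fun i hi => ?_, fun i hi => ?_⟩, fun _ => ?_⟩
        · have hle : Q' ≤ (q i).asIdeal :=
            hQ'q.trans ((PrimeSpectrum.asIdeal_le_asIdeal _ _).2 (hq.monotone (hmin i hi.ge)))
          have hc : Q'.comap φ.toRingHom = (q i).asIdeal.comap φ.toRingHom := by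
            rw [hQ'c, e, hcomap i, hi, P_def]
          exact PrimeSpectrum.ext (eq_of_le_of_comap_eq φ.toRingHom hint Q' (q i).asIdeal hle hc)
        · exact (PrimeSpectrum.asIdeal_le_asIdeal _ _).1
            (hQ'q.trans ((PrimeSpectrum.asIdeal_le_asIdeal _ _).2 (hq.monotone (hmin i hi))))
        · exact (PrimeSpectrum.asIdeal_lt_asIdeal _ _).1 (hlt_of Q' hQQ' hQ'c)
      · obtain ⟨Q', hQ'prime, hQQ', hQ'c⟩ := exists_over φ.toRingHom hint (P d (j + 1)) Q.asIdeal
          (by rw [e, hQc]; exact P_mono d (Nat.le_succ j))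
        refine ⟨⟨Q', hQ'prime⟩, ⟨fun _ => hQ'c, fun i hi => absurd ⟨i, hi.ge⟩ hex,
          fun i hi => absurd ⟨i, hi⟩ hex⟩, fun _ => ?_⟩
        exact (PrimeSpectrum.asIdeal_lt_asIdeal _ _).1 (hlt_of Q' hQQ' hQ'c)
    · refine ⟨Q, ⟨fun hle => absurd hle (by omega), fun i hi => absurd (hh i) (by omega),
        fun i hi => absurd (hh i) (by omega)⟩, fun hlt => absurd hlt hjd⟩
  let seq : (j : ℕ) → {Q : PrimeSpectrum A // Inv j Q} := fun j =>
    Nat.rec (motive := fun j => {Q : PrimeSpectrum A // Inv j Q})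
      ⟨⟨⊥, Ideal.isPrime_bot⟩, hbase⟩
      (fun j Qj => ⟨Classical.choose (hstep j Qj.1 Qj.2),
        (Classical.choose_spec (hstep j Qj.1 Qj.2)).1⟩) j
  refine ⟨fun j => (seq j).1, fun j hj => ?_, fun j hj => ?_, fun i => ?_⟩
  · rw [← P_def]
    exact (seq j).2.1 hj
  · exact (Classical.choose_spec (hstep j (seq j).1 (seq j).2)).2 hj
  · exact (seq (h i)).2.2.1 i rfl

end Groth.Agent.Lib.Helper20.NNChainF
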