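import Mathlib
import Groth.Prelude.Def_GSzCSA
import Groth.Agent.Lib.Helper20.H90
import Groth.Agent.Lib.Helper20.Kr

set_option autoImplicit false
universe u v w

namespace Groth.Agent.Helper20.PCoc
open scoped Kronecker TensorProduct MatrixGroups

section Defs
variable {k : Type u} {K : Type v} [Field k] [Field K] [Algebra k K]

/-- Galois action on units -/
def uact (σ : K ≃ₐ[k] K) : Kˣ →* Kˣ := Units.map (σ : K →* K)

@[simp] theorem uact_val (σ : K ≃ₐ[k] K) (u : Kˣ) : ((uact σ u : Kˣ) : K) = σ (u : K) := rfl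

/-- 2-coboundaries -/
def cobSubgroup (k : Type u) (K : Type v) [Field k] [Field K] [Algebra k K] :
    Subgroup ((K ≃ₐ[k] K) → (K ≃ₐ[k] K) → Kˣ) where
  carrier := {c | ∃ b : (K ≃ₐ[k] K) → Kˣ, ∀ σ τ, c σ τ * b (σ * τ) = b σ * uact σ (b τ)}
  one_mem' := ⟨fun _ => 1, fun σ τ => by simp⟩
  mul_mem' := by
    rintro c c' ⟨b, hb⟩ ⟨b', hb'⟩
    refine ⟨fun σ => b σ * b' σ, fun σ τ => ?_⟩
    show c σ τ * c' σ τ * (b (σ * τ) * b' (σ * τ)) = b σ * b' σ * uact σ (b τ * b' τ)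
    rw [map_mul, mul_mul_mul_comm, hb, hb', mul_mul_mul_comm]
  inv_mem' := by
    rintro c ⟨b, hb⟩
    refine ⟨fun σ => (b σ)⁻¹, fun σ τ => ?_⟩
    show (c σ τ)⁻¹ * (b (σ * τ))⁻¹ = (b σ)⁻¹ * uact σ (b τ)⁻¹
    rw [map_inv, ← mul_inv, ← mul_inv, hb]

/-- `c` is a 2-coboundary -/
def IsCob (c : (K ≃ₐ[k] K) → (K ≃ₐ[k] K) → Kˣ) : Prop := c ∈ cobSubgroup k K

theorem isCob_iff (c : (K ≃ₐ[k] K) → (K ≃ₐ[k] K) → Kˣ) :
    IsCob c ↔ ∃ b : (K ≃ₐ[k] K) → Kˣ, ∀ σ τ, c σ τ * b (σ * τ) = b σ * uact σ (b τ) := Iff.rfl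

/-- the 2-cocycle identity -/
def IsCoc (c : (K ≃ₐ[k] K) → (K ≃ₐ[k] K) → Kˣ) : Prop :=
  ∀ σ τ υ : K ≃ₐ[k] K, uact σ (c τ υ) * c σ (τ * υ) = c σ τ * c (σ * τ) υ

theorem mapMatrix_smul {r : ℕ} (σ : K ≃ₐ[k] K) (x : K) (M : Matrix (Fin r) (Fin r) K) :
    σ.mapMatrix (x • M) = σ x • σ.mapMatrix M := by
  ext i j
  simp

theorem mapMatrix_mul_apply {r : ℕ} (σ τ : K ≃ₐ[k] K) (M : Matrix (Fin r) (Fin r) K) :
    (σ * τ).mapMatrix M = σ.mapMatrix (τ.mapMatrix M) := by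
  ext i j
  simp [AlgEquiv.mul_apply]

theorem det_mapMatrix {r : ℕ} (σ : K ≃ₐ[k] K) (M : Matrix (Fin r) (Fin r) K) :
    (σ.mapMatrix M).det = σ M.det := (AlgEquiv.map_det σ M).symm

/-- A projective semilinear matrix representation of the Galois group with multiplier `c`,
commuting with a matrix representation `ρ` of `A`. -/
structure PDatum (A : Type w) [Ring A] [Algebra k A] (r : ℕ)
    (c : (K ≃ₐ[k] K) → (K ≃ₐ[k] K) → Kˣ) where
  ρ : A →ₐ[k] Matrix (Fin r) (Fin r) K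
  g : (K ≃ₐ[k] K) → Matrix (Fin r) (Fin r) K
  hdet : ∀ σ, (g σ).det ≠ 0
  comm : ∀ σ a, g σ * σ.mapMatrix (ρ a) = ρ a * g σ
  rel : ∀ σ τ, g σ * σ.mapMatrix (g τ) = ((c σ τ : Kˣ) : K) • g (σ * τ)

variable {A : Type w} [Ring A] [Algebra k A] {r : ℕ} {c : (K ≃ₐ[k] K) → (K ≃ₐ[k] K) → Kˣ}

theorem PDatum.g_ne_zero (D : PDatum A r c) (hr : 0 < r) (σ : K ≃ₐ[k] K) : D.g σ ≠ 0 := by
  haveI : Nonempty (Fin r) := ⟨⟨0, hr⟩⟩
  intro h
  exact D.hdet σ (by rw [h]; exact Matrix.det_zero)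

theorem PDatum.isCoc (D : PDatum A r c) (hr : 0 < r) : IsCoc c := by
  intro σ τ υ
  have h1 : D.g σ * σ.mapMatrix (D.g τ) * (σ * τ).mapMatrix (D.g υ) =
      (((c σ τ * c (σ * τ) υ : Kˣ) : K)) • D.g (σ * τ * υ) := by
    rw [D.rel, smul_mul_assoc, D.rel, smul_smul, Units.val_mul]
  have h2 : D.g σ * σ.mapMatrix (D.g τ) * (σ * τ).mapMatrix (D.g υ) =
      (((uact σ (c τ υ) * c σ (τ * υ) : Kˣ) : K)) • D.g (σ * τ * υ) := by
    rw [mapMatrix_mul_apply, mul_assoc, ← map_mul, D.rel, mapMatrix_smul, mul_smul_comm, D.rel,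
      smul_smul, Units.val_mul, uact_val, mul_assoc]
  rw [h1] at h2
  have h3 : ((((c σ τ * c (σ * τ) υ : Kˣ) : K)) - (((uact σ (c τ υ) * c σ (τ * υ) : Kˣ) : K))) •
      D.g (σ * τ * υ) = 0 := by rw [sub_smul, h2, sub_self]
  rcases smul_eq_zero.mp h3 with h | h
  · exact (Units.ext (sub_eq_zero.mp h)).symm
  · exact absurd h (D.g_ne_zero hr _)

/-- the determinant trick: `c ^ r` is a coboundary -/
theorem PDatum.isCob_pow (D : PDatum A r c) : IsCob (c ^ r) := by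
  refine ⟨fun σ => Units.mk0 _ (D.hdet σ), fun σ τ => ?_⟩
  apply Units.ext
  have := congrArg Matrix.det (D.rel σ τ)
  rw [Matrix.det_mul, det_mapMatrix, Matrix.det_smul, Fintype.card_fin] at this
  simp only [Pi.pow_apply, Units.val_mul, Units.val_pow_eq_pow_val, Units.val_mk0, uact_val]
  exact this.symm

end Defs

end Groth.Agent.Helper20.PCoc
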