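import Groth.Agent.Lib.Helper20.PCoc

set_option autoImplicit false
universe u v w

namespace Groth.Agent.Helper20.PCoc
open scoped Kronecker TensorProduct MatrixGroups

section Order
variable {k : Type u} {K : Type v} [Field k] [Field K] [Algebra k K] [FiniteDimensional k K]
  {c : (K ≃ₐ[k] K) → (K ≃ₐ[k] K) → Kˣ}

/-- a 2-cocycle is killed by the group order -/
theorem isCob_pow_card (hc : IsCoc c) : IsCob (c ^ Fintype.card (K ≃ₐ[k] K)) := by
  classical
  refine ⟨fun σ => ∏ υ, c σ υ, fun σ τ => ?_⟩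
  have h := congrArg (fun f : (K ≃ₐ[k] K) → Kˣ => ∏ υ, f υ) (funext fun υ => hc σ τ υ)
  simp only [Finset.prod_mul_distrib, Finset.prod_const, Finset.card_univ] at h
  have h5 : ∏ x, c σ (τ * x) = ∏ x, c σ x := Equiv.prod_comp (Equiv.mulLeft τ) (fun υ => c σ υ)
  rw [← map_prod, h5] at h
  show (c σ τ) ^ Fintype.card (K ≃ₐ[k] K) * (∏ υ, c (σ * τ) υ) = (∏ υ, c σ υ) * uact σ (∏ υ, c τ υ)
  rw [← h, mul_comm]

end Order

section Conj
variable {k : Type u} {K : Type v} [Field k] [Field K] [Algebra k K]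
  {A : Type w} [Ring A] [Algebra k A] {r : ℕ}

/-- conjugate a matrix representation by an invertible matrix -/
def conjHom (P : GL (Fin r) K) (ρ : A →ₐ[k] Matrix (Fin r) (Fin r) K) :
    A →ₐ[k] Matrix (Fin r) (Fin r) K where
  toFun a := ((P⁻¹ : GL (Fin r) K) : Matrix (Fin r) (Fin r) K) * ρ a * (P : Matrix (Fin r) (Fin r) K)
  map_one' := by
    rw [map_one, mul_one, ← Units.val_mul, inv_mul_cancel, Units.val_one]
  map_mul' a a' := by
    rw [map_mul]
    simp only [mul_assoc]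
    rw [← mul_assoc (P : Matrix (Fin r) (Fin r) K), ← Units.val_mul, mul_inv_cancel, Units.val_one, one_mul]
  map_zero' := by rw [map_zero, mul_zero, zero_mul]
  map_add' a a' := by rw [map_add, mul_add, add_mul]
  commutes' x := by
    rw [AlgHom.commutes, ← Algebra.commutes, mul_assoc, ← Units.val_mul, inv_mul_cancel,
      Units.val_one, mul_one]

theorem conjHom_apply (P : GL (Fin r) K) (ρ : A →ₐ[k] Matrix (Fin r) (Fin r) K) (a : A) :
    conjHom P ρ a = ((P⁻¹ : GL (Fin r) K) : Matrix (Fin r) (Fin r) K) * ρ a * (P : Matrix (Fin r) (Fin r) K) := rfl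

end Conj

section Split
variable {k : Type u} {K : Type v} [Field k] [Field K] [Algebra k K] [FiniteDimensional k K]
  [IsGalois k K] {A : Type w} [Ring A] [Algebra k A] {r : ℕ}
  {c : (K ≃ₐ[k] K) → (K ≃ₐ[k] K) → Kˣ}

theorem mem_range_of_fixed {M : Matrix (Fin r) (Fin r) K}
    (h : ∀ σ : K ≃ₐ[k] K, σ.mapMatrix M = M) :
    M ∈ ((Algebra.ofId k K).mapMatrix : Matrix (Fin r) (Fin r) k →ₐ[k] Matrix (Fin r) (Fin r) K).range := by
  have h1 : ∀ i j, ∃ x : k, algebraMap k K x = M i j := by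
    intro i j
    apply (IsGalois.mem_range_algebraMap_iff_fixed (M i j)).mpr
    intro σ
    have := congrFun (congrFun (h σ) i) j
    simpa using this
  choose x hx using h1
  refine ⟨Matrix.of x, ?_⟩
  ext i j
  simp [hx, Algebra.ofId_apply]

/-- a datum with coboundary multiplier and full degree splits `A` -/
theorem PDatum.splits_of_isCob [IsSimpleRing A] (D : PDatum A r c) (hr : r ≠ 0)
    (hdim : Module.finrank k A = r ^ 2) (hc : IsCob c) : Curves.Splits k A k := by
  classical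
  obtain ⟨b, hb⟩ := hc
  haveI : NeZero r := ⟨hr⟩
  -- the honest cocycle
  have hBdet : ∀ σ, IsUnit ((((b σ)⁻¹ : Kˣ) : K) • D.g σ).det := by
    intro σ
    rw [Matrix.det_smul]
    exact (IsUnit.mk0 _ (by simp)).mul (IsUnit.mk0 _ (D.hdet σ))
  let B : (K ≃ₐ[k] K) → GL (Fin r) K := fun σ =>
    Matrix.GeneralLinearGroup.mk'' _ (hBdet σ)
  have hBval : ∀ σ, (B σ : Matrix (Fin r) (Fin r) K) = (((b σ)⁻¹ : Kˣ) : K) • D.g σ := fun σ => rfl
  have hB : ∀ σ τ : K ≃ₐ[k] K, (B (σ * τ) : Matrix (Fin r) (Fin r) K) =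
      (B σ : Matrix (Fin r) (Fin r) K) * ((B τ : Matrix (Fin r) (Fin r) K).map σ) := by
    intro σ τ
    have e1 : ((B τ : Matrix (Fin r) (Fin r) K).map σ) = σ.mapMatrix (B τ : Matrix (Fin r) (Fin r) K) := rfl
    rw [e1, hBval, hBval, hBval, mapMatrix_smul, smul_mul_smul_comm, D.rel, smul_smul]
    congr 1
    have h2 := congrArg (fun u : Kˣ => (u : K)) (hb σ τ)
    simp only [Units.val_mul, uact_val] at h2
    have hne1 : ((b σ : Kˣ) : K) ≠ 0 := (b σ).ne_zero
    have hne2 : ((b τ : Kˣ) : K) ≠ 0 := (b τ).ne_zero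
    have hne3 : ((b (σ * τ) : Kˣ) : K) ≠ 0 := (b (σ * τ)).ne_zero
    have hne4 : σ ((b τ : Kˣ) : K) ≠ 0 := by
      rw [Ne, map_eq_zero_iff σ σ.injective]; exact hne2
    simp only [Units.val_inv_eq_inv_val, map_inv₀]
    field_simp
    rw [← h2, mul_comm]
  obtain ⟨P, hP⟩ := H90.exists_GL B hB
  have hP' : ∀ σ : K ≃ₐ[k] K, (B σ : Matrix (Fin r) (Fin r) K) * σ.mapMatrix (P : Matrix (Fin r) (Fin r) K) = P :=
    fun σ => hP σ
  -- the conjugated representation
  let ρ' : A →ₐ[k] Matrix (Fin r) (Fin r) K := conjHom P D.ρ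
  have hfix : ∀ (a : A) (σ : K ≃ₐ[k] K), σ.mapMatrix (ρ' a) = ρ' a := by
    intro a σ
    have hPu : IsUnit (P : Matrix (Fin r) (Fin r) K) := P.isUnit
    apply hPu.mul_left_cancel
    have hcomm : (B σ : Matrix (Fin r) (Fin r) K) * σ.mapMatrix (D.ρ a) = D.ρ a * (B σ : Matrix (Fin r) (Fin r) K) := by
      rw [hBval, smul_mul_assoc, D.comm, mul_smul_comm]
    have h1 : σ.mapMatrix ((P⁻¹ : GL (Fin r) K) : Matrix (Fin r) (Fin r) K) * σ.mapMatrix (P : Matrix (Fin r) (Fin r) K) = 1 := by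
      rw [← map_mul, ← Units.val_mul, inv_mul_cancel, Units.val_one, map_one]
    have h2 : σ.mapMatrix (P : Matrix (Fin r) (Fin r) K) * σ.mapMatrix ((P⁻¹ : GL (Fin r) K) : Matrix (Fin r) (Fin r) K) = 1 := by
      rw [← map_mul, ← Units.val_mul, mul_inv_cancel, Units.val_one, map_one]
    calc (P : Matrix (Fin r) (Fin r) K) * σ.mapMatrix (ρ' a)
        = (B σ : Matrix (Fin r) (Fin r) K) * σ.mapMatrix (P : Matrix (Fin r) (Fin r) K) *
            (σ.mapMatrix ((P⁻¹ : GL (Fin r) K) : Matrix (Fin r) (Fin r) K) * σ.mapMatrix (D.ρ a) *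
              σ.mapMatrix (P : Matrix (Fin r) (Fin r) K)) := by
          rw [hP' σ, conjHom_apply, map_mul, map_mul]
      _ = (B σ : Matrix (Fin r) (Fin r) K) * σ.mapMatrix (D.ρ a) * σ.mapMatrix (P : Matrix (Fin r) (Fin r) K) := by
          simp only [mul_assoc]
          rw [← mul_assoc (σ.mapMatrix (P : Matrix (Fin r) (Fin r) K)), h2, one_mul]
      _ = D.ρ a * ((B σ : Matrix (Fin r) (Fin r) K) * σ.mapMatrix (P : Matrix (Fin r) (Fin r) K)) := by
          rw [hcomm, mul_assoc]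
      _ = (P : Matrix (Fin r) (Fin r) K) * ρ' a := by
          rw [hP' σ, conjHom_apply]
          simp only [← mul_assoc]
          rw [← Units.val_mul, mul_inv_cancel, Units.val_one, one_mul]
  -- descend to `k`
  let j : Matrix (Fin r) (Fin r) k →ₐ[k] Matrix (Fin r) (Fin r) K := (Algebra.ofId k K).mapMatrix
  have hj : Function.Injective j := by
    intro M N h
    ext i l
    have := congrFun (congrFun h i) l
    exact (algebraMap k K).injective (by simpa [j, Algebra.ofId_apply] using this)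
  have hmem : ∀ a, ρ' a ∈ j.range := fun a => mem_range_of_fixed (hfix a)
  let ρ'' : A →ₐ[k] Matrix (Fin r) (Fin r) k :=
    ((AlgEquiv.ofInjective j hj).symm : j.range →ₐ[k] _).comp (ρ'.codRestrict j.range hmem)
  have hinj : Function.Injective ρ'' := (ρ'' : A →+* Matrix (Fin r) (Fin r) k).injective
  haveI : FiniteDimensional k A := Module.finite_of_finrank_pos (by rw [hdim]; positivity)
  have hbij : Function.Bijective ρ'' := by
    refine ⟨hinj, ?_⟩
    have hfr : Module.finrank k A = Module.finrank k (Matrix (Fin r) (Fin r) k) := by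
      rw [hdim, Module.finrank_matrix]
      simp [sq]
    exact (LinearMap.injective_iff_surjective_of_finrank_eq_finrank (f := ρ''.toLinearMap) hfr).mp hinj
  exact ⟨r, hr, ⟨(Algebra.TensorProduct.lid k A).trans (AlgEquiv.ofBijective ρ'' hbij)⟩⟩

end Split

end Groth.Agent.Helper20.PCoc
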