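import Groth.Agent.Lib.Helper20.CycAlg4

set_option autoImplicit false
open scoped TensorProduct
namespace Groth.Agent.Helper20.TPow

section PiMul

variable {ι : Type*} {R : Type*} [CommSemiring R] {A : ι → Type*} [∀ i, Semiring (A i)]
  [∀ i, Algebra R (A i)]

open PiTensorProduct

/-- a linear map out of a `PiTensorProduct` algebra that is multiplicative on pure tensors is
multiplicative -/
theorem map_mul_of_tprod {S : Type*} [Semiring S] [Algebra R S] (l : (⨂[R] i, A i) →ₗ[R] S)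
    (h : ∀ f g : (i : ι) → A i, l (tprod R (f * g)) = l (tprod R f) * l (tprod R g))
    (x y : ⨂[R] i, A i) : l (x * y) = l x * l y := by
  induction x using PiTensorProduct.induction_on with
  | add x x' hx hx' => rw [add_mul, map_add, map_add, add_mul, hx, hx']
  | smul_tprod r f =>
    induction y using PiTensorProduct.induction_on with
    | add y y' hy hy' => rw [mul_add, map_add, map_add, mul_add, hy, hy']
    | smul_tprod r' g =>
      rw [smul_mul_assoc, mul_smul_comm, tprod_mul_tprod, map_smul, map_smul, map_smul, map_smul, h,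
        smul_mul_assoc, mul_smul_comm]

end PiMul

section TPowEquiv

variable (k : Type*) [Field k] (A : Type*) [Ring A] [Algebra k A]

open PiTensorProduct

/-- `A^{⊗ 1} ≃ A` as algebras -/
noncomputable def tpowOne : CSAGal.tpow k A 1 ≃ₐ[k] A :=
  AlgEquiv.ofLinearEquiv (subsingletonEquiv (R := k) (s := fun _ : Fin 1 => A) (0 : Fin 1))
    (by
      rw [PiTensorProduct.one_def, subsingletonEquiv_apply_tprod]
      rfl)
    (by
      apply map_mul_of_tprod
      intro f g
      show subsingletonEquiv (R := k) (s := fun _ : Fin 1 => A) (0 : Fin 1) _ = _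
      rw [LinearEquiv.coe_coe, subsingletonEquiv_apply_tprod, subsingletonEquiv_apply_tprod,
        subsingletonEquiv_apply_tprod]
      rfl)

/-- the underlying linear equivalence of `tpowSucc` -/
noncomputable def tpowSuccLin (e : ℕ) : CSAGal.tpow k A (e + 1) ≃ₗ[k] (CSAGal.tpow k A e) ⊗[k] A :=
  (reindex k (fun _ : Fin (e + 1) => A) (finSumFinEquiv (m := e) (n := 1)).symm).trans <|
    (tmulEquiv (ι := Fin e) (ι₂ := Fin 1) k A).symm.trans <|
    TensorProduct.congr (LinearEquiv.refl k _)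
      (subsingletonEquiv (R := k) (s := fun _ : Fin 1 => A) (0 : Fin 1))

theorem tpowSuccLin_tprod (e : ℕ) (f : Fin (e + 1) → A) :
    tpowSuccLin k A e (tprod k f) =
      (tprod k fun i : Fin e => f (Fin.castAdd 1 i)) ⊗ₜ[k] f (Fin.natAdd e 0) := by
  unfold tpowSuccLin
  rw [LinearEquiv.trans_apply, LinearEquiv.trans_apply, reindex_tprod]
  erw [tmulEquiv_symm_apply]
  rw [TensorProduct.congr_tmul, subsingletonEquiv_apply_tprod]
  rfl

/-- `A^{⊗ (e+1)} ≃ A^{⊗ e} ⊗ A` as algebras -/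
noncomputable def tpowSucc (e : ℕ) : CSAGal.tpow k A (e + 1) ≃ₐ[k] (CSAGal.tpow k A e) ⊗[k] A :=
  AlgEquiv.ofLinearEquiv (tpowSuccLin k A e)
    (by
      rw [PiTensorProduct.one_def, tpowSuccLin_tprod, Algebra.TensorProduct.one_def,
        PiTensorProduct.one_def]
      rfl)
    (by
      apply map_mul_of_tprod
      intro f g
      rw [LinearEquiv.coe_coe, tpowSuccLin_tprod, tpowSuccLin_tprod, tpowSuccLin_tprod,
        Algebra.TensorProduct.tmul_mul_tmul, tprod_mul_tprod]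
      rfl)

end TPowEquiv

section BrEqSec

variable (k : Type*) [Field k]

/-- Brauer equivalence for arbitrary algebras -/
def BrEq (X Y : Type*) [Ring X] [Algebra k X] [Ring Y] [Algebra k Y] : Prop :=
  ∃ n m : ℕ, n ≠ 0 ∧ m ≠ 0 ∧
    Nonempty (Matrix (Fin n) (Fin n) X ≃ₐ[k] Matrix (Fin m) (Fin m) Y)

variable {k}
variable {X Y Z : Type*} [Ring X] [Algebra k X] [Ring Y] [Algebra k Y] [Ring Z] [Algebra k Z]

theorem BrEq.of_algEquiv (e : X ≃ₐ[k] Y) : BrEq k X Y :=
  ⟨1, 1, one_ne_zero, one_ne_zero, ⟨e.mapMatrix⟩⟩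

theorem BrEq.symm (h : BrEq k X Y) : BrEq k Y X := by
  obtain ⟨n, m, hn, hm, ⟨e⟩⟩ := h
  exact ⟨m, n, hm, hn, ⟨e.symm⟩⟩

open Matrix in
theorem BrEq.trans (hXY : BrEq k X Y) (hYZ : BrEq k Y Z) : BrEq k X Z := by
  obtain ⟨n, m, hn, hm, ⟨iso1⟩⟩ := hXY
  obtain ⟨p, q, hp, hq, ⟨iso2⟩⟩ := hYZ
  exact ⟨p * n, m * q, by simp_all, by simp_all,
    ⟨reindexAlgEquiv _ _ finProdFinEquiv |>.symm.trans <| compAlgEquiv _ _ _ _|>.symm.trans <|
    iso1.mapMatrix (m := Fin p)|>.trans <| compAlgEquiv _ _ _ _|>.trans <|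
    reindexAlgEquiv k Y (.prodComm (Fin p) (Fin m))|>.trans <| compAlgEquiv _ _ _ _|>.symm.trans <|
    iso2.mapMatrix.trans <| compAlgEquiv _ _ _ _|>.trans <| reindexAlgEquiv _ _ finProdFinEquiv⟩⟩

/-- `M_n(X ⊗ A) ≃ M_n(X) ⊗ A` -/
noncomputable def matrixTensor (k : Type*) [Field k] (X A : Type*) [Ring X] [Algebra k X] [Ring A] [Algebra k A]
    (n : ℕ) : Matrix (Fin n) (Fin n) (X ⊗[k] A) ≃ₐ[k] (Matrix (Fin n) (Fin n) X) ⊗[k] A :=
  (matrixEquivTensor (Fin n) k (X ⊗[k] A)).trans <|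
    (Algebra.TensorProduct.assoc k k k X A (Matrix (Fin n) (Fin n) k)).trans <|
    (Algebra.TensorProduct.congr AlgEquiv.refl
      (Algebra.TensorProduct.comm k A (Matrix (Fin n) (Fin n) k))).trans <|
    (Algebra.TensorProduct.assoc k k k X (Matrix (Fin n) (Fin n) k) A).symm.trans <|
    Algebra.TensorProduct.congr (matrixEquivTensor (Fin n) k X).symm AlgEquiv.refl

theorem BrEq.tensor_right (A : Type*) [Ring A] [Algebra k A] (h : BrEq k X Y) :
    BrEq k (X ⊗[k] A) (Y ⊗[k] A) := by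
  obtain ⟨n, m, hn, hm, ⟨e⟩⟩ := h
  exact ⟨n, m, hn, hm, ⟨(matrixTensor k X A n).trans <|
    (Algebra.TensorProduct.congr e AlgEquiv.refl).trans (matrixTensor k Y A m).symm⟩⟩

end BrEqSec

end Groth.Agent.Helper20.TPow

namespace Groth.Agent.Helper20.TPow
open Groth.Agent.Helper20.Morita

section WedUniq

/-- two simple modules over a simple artinian ring are isomorphic -/
theorem simple_linearEquiv' (C : Type*) [Ring C] [IsSimpleRing C] [IsArtinianRing C]
    (P : Type*) [AddCommGroup P] [Module C P] (Q : Type*) [AddCommGroup Q] [Module C Q]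
    [IsSimpleModule C P] [IsSimpleModule C Q] : Nonempty (P ≃ₗ[C] Q) := by
  haveI : IsSimpleModule C (⊤ : Submodule C P) := IsSimpleModule.congr Submodule.topEquiv
  haveI : IsSimpleModule C (⊤ : Submodule C Q) := IsSimpleModule.congr Submodule.topEquiv
  obtain ⟨e⟩ := simple_linearEquiv C P Q ⊤ ⊤
  exact ⟨Submodule.topEquiv.symm.trans (e.trans Submodule.topEquiv)⟩

/-- pulling back a simple module along a surjective algebra hom -/
theorem Tw.isSimpleModule {k : Type*} [Field k] {C : Type*} [Ring C] [Algebra k C]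
    {V : Type*} [AddCommGroup V] [Module k V] (ψ : C →ₐ[k] Module.End k V)
    (hψ : Function.Surjective ψ) [IsSimpleModule (Module.End k V) V] :
    IsSimpleModule C (Tw ψ) := by
  rw [isSimpleModule_iff_toSpanSingleton_surjective]
  have h := (isSimpleModule_iff_toSpanSingleton_surjective (R := Module.End k V) (M := V)).mp
    inferInstance
  refine ⟨h.1, fun x hx w => ?_⟩
  obtain ⟨f, hf⟩ := h.2 x hx w
  obtain ⟨c, rfl⟩ := hψ f
  exact ⟨c, hf⟩

set_option backward.isDefEq.respectTransparency false in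
theorem finrank_eq_one_of_matrix_equiv (k : Type*) [Field k] (D : Type*) [DivisionRing D]
    [Algebra k D] [FiniteDimensional k D] (a s : ℕ) (ha : 0 < a) (hs : 0 < s)
    (e : Matrix (Fin a) (Fin a) D ≃ₐ[k] Matrix (Fin s) (Fin s) k) : Module.finrank k D = 1 := by
  classical
  haveI : Nonempty (Fin a) := ⟨⟨0, ha⟩⟩
  haveI : Nonempty (Fin s) := ⟨⟨0, hs⟩⟩
  -- the ring `R₁ = End_{Dᵐᵒᵖ}((Dᵐᵒᵖ)^a) ≃ M_a(D)`
  let e₁ : Module.End Dᵐᵒᵖ (Fin a → Dᵐᵒᵖ) ≃ₐ[k] Matrix (Fin a) (Fin a) D :=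
    (endVecAlgEquivMatrixEnd (Fin a) k Dᵐᵒᵖ Dᵐᵒᵖ).trans <|
      ((AlgEquiv.moduleEndSelf k (A := Dᵐᵒᵖ)).symm.mapMatrix (m := Fin a)).trans
      ((AlgEquiv.opOp k D).symm.mapMatrix (m := Fin a))
  let ψ : Module.End Dᵐᵒᵖ (Fin a → Dᵐᵒᵖ) ≃ₐ[k] Module.End k (Fin s → k) :=
    e₁.trans (e.trans (Matrix.toLinAlgEquiv' (R := k) (n := Fin s)))
  let ψh : Module.End Dᵐᵒᵖ (Fin a → Dᵐᵒᵖ) →ₐ[k] Module.End k (Fin s → k) := ψ.toAlgHom
  haveI : IsSimpleRing (Module.End Dᵐᵒᵖ (Fin a → Dᵐᵒᵖ)) := by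
    haveI : IsSimpleRing (Matrix (Fin a) (Fin a) D) := IsSimpleRing.matrix (Fin a) D
    exact IsSimpleRing.of_ringEquiv e₁.symm.toRingEquiv inferInstance
  haveI : Module.Finite k (Module.End Dᵐᵒᵖ (Fin a → Dᵐᵒᵖ)) :=
    Module.Finite.equiv e₁.symm.toLinearEquiv
  haveI : IsArtinianRing (Module.End Dᵐᵒᵖ (Fin a → Dᵐᵒᵖ)) := IsArtinianRing.of_finite k _
  haveI : IsSimpleModule (Module.End Dᵐᵒᵖ (Fin a → Dᵐᵒᵖ)) (Tw ψh) :=
    Tw.isSimpleModule ψh ψ.surjective
  obtain ⟨l⟩ := simple_linearEquiv' (Module.End Dᵐᵒᵖ (Fin a → Dᵐᵒᵖ)) (Fin a → Dᵐᵒᵖ)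
    (Tw ψh)
  have h1 : Module.finrank k (Fin a → Dᵐᵒᵖ) = Module.finrank k (Fin s → k) :=
    (l.restrictScalars k).finrank_eq
  rw [Module.finrank_pi_fintype, Module.finrank_pi_fintype] at h1
  simp only [Finset.sum_const, Finset.card_univ, Fintype.card_fin, smul_eq_mul,
    Module.finrank_self, mul_one] at h1
  have hop : Module.finrank k Dᵐᵒᵖ = Module.finrank k D :=
    (MulOpposite.opLinearEquiv k (M := D)).symm.finrank_eq
  rw [hop] at h1
  have h2 : a * a * Module.finrank k D = s * s := by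
    have := e.toLinearEquiv.finrank_eq
    rw [Module.finrank_matrix, Module.finrank_matrix] at this
    simpa using this
  have hd : 0 < Module.finrank k D := Module.finrank_pos
  have h3 : a * a * Module.finrank k D * Module.finrank k D = a * a * Module.finrank k D * 1 := by
    calc a * a * Module.finrank k D * Module.finrank k D
        = (a * Module.finrank k D) * (a * Module.finrank k D) := by ring
      _ = s * s := by rw [h1]
      _ = a * a * Module.finrank k D * 1 := by rw [h2, mul_one]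
  exact Nat.eq_of_mul_eq_mul_left (by positivity) h3

/-- a simple algebra some matrix algebra over which is split is itself split -/
theorem splits_of_matrix_equiv (k : Type*) [Field k] (X : Type*) [Ring X] [Algebra k X]
    [IsSimpleRing X] [FiniteDimensional k X] (n s : ℕ) (hn : n ≠ 0) (hs : s ≠ 0)
    (e : Matrix (Fin n) (Fin n) X ≃ₐ[k] Matrix (Fin s) (Fin s) k) : Curves.Splits k X k := by
  classical
  haveI : IsArtinianRing X := IsArtinianRing.of_finite k X
  obtain ⟨r, hr, D, _, _, _, ⟨eX⟩⟩ := IsSimpleRing.exists_algEquiv_matrix_divisionRing_finite k X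
  have hr0 : 0 < r := Nat.pos_of_ne_zero hr.out
  let e' : Matrix (Fin (n * r)) (Fin (n * r)) D ≃ₐ[k] Matrix (Fin s) (Fin s) k :=
    (Matrix.reindexAlgEquiv k D (finProdFinEquiv (m := n) (n := r)).symm).trans <|
      (Matrix.compAlgEquiv (Fin n) (Fin r) D k).symm.trans <|
      (eX.symm.mapMatrix (m := Fin n)).trans e
  have hd : Module.finrank k D = 1 :=
    finrank_eq_one_of_matrix_equiv k D (n * r) s (Nat.mul_pos (Nat.pos_of_ne_zero hn) hr0)
      (Nat.pos_of_ne_zero hs) e'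
  have hinj : Function.Injective (Algebra.ofId k D) := (algebraMap k D).injective
  have hfr : Module.finrank k k = Module.finrank k D := by rw [hd, Module.finrank_self]
  have hbij : Function.Bijective (Algebra.ofId k D) :=
    ⟨hinj, (LinearMap.injective_iff_surjective_of_finrank_eq_finrank
      (f := (Algebra.ofId k D).toLinearMap) hfr).mp hinj⟩
  let eD : k ≃ₐ[k] D := AlgEquiv.ofBijective (Algebra.ofId k D) hbij
  exact ⟨r, hr.out, ⟨(Algebra.TensorProduct.lid k X).trans (eX.trans (eD.symm.mapMatrix (m := Fin r)))⟩⟩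

theorem splits_of_brEq {k : Type*} [Field k] {X : Type*} [Ring X] [Algebra k X]
    [IsSimpleRing X] [FiniteDimensional k X] {Y : Type*} [Ring Y] [Algebra k Y]
    (h : BrEq k X Y) (hY : Curves.Splits k Y k) : Curves.Splits k X k := by
  obtain ⟨n, m, hn, hm, ⟨e⟩⟩ := h
  obtain ⟨t, ht, ⟨f⟩⟩ := hY
  let f' : Y ≃ₐ[k] Matrix (Fin t) (Fin t) k := (Algebra.TensorProduct.lid k Y).symm.trans f
  refine splits_of_matrix_equiv k X n (m * t) hn (Nat.mul_ne_zero hm ht) ?_
  exact e.trans <| (f'.mapMatrix (m := Fin m)).trans <|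
    (Matrix.compAlgEquiv (Fin m) (Fin t) k k).trans
    (Matrix.reindexAlgEquiv k k (finProdFinEquiv (m := m) (n := t)))

end WedUniq

end Groth.Agent.Helper20.TPow
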