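import Groth.Agent.Lib.Helper20.PCoc2
import Groth.Agent.Lib.Helper20.TPow

set_option autoImplicit false
universe u v w w'

namespace Groth.Agent.Helper20.PCoc
open scoped Kronecker TensorProduct MatrixGroups
open Groth.Agent.Helper20.TPow

section Tensor
variable {k : Type u} {K : Type v} [Field k] [Field K] [Algebra k K]
  {A : Type w} [Ring A] [Algebra k A] {A' : Type w'} [Ring A'] [Algebra k A'] {r s : ℕ}
  {c c' : (K ≃ₐ[k] K) → (K ≃ₐ[k] K) → Kˣ}

theorem mapMatrix_kr (σ : K ≃ₐ[k] K) (M : Matrix (Fin r) (Fin r) K) (N : Matrix (Fin s) (Fin s) K) :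
    σ.mapMatrix (kr M N) = kr (σ.mapMatrix M) (σ.mapMatrix N) :=
  kr_map (σ : K →+* K) M N

/-- tensor product of data: multipliers multiply -/
noncomputable def PDatum.tensor (D : PDatum A r c) (D' : PDatum A' s c') :
    PDatum (A ⊗[k] A') (r * s) (c * c') where
  ρ := krHom D.ρ D'.ρ
  g σ := kr (D.g σ) (D'.g σ)
  hdet σ := by
    rw [det_kr]
    exact mul_ne_zero (pow_ne_zero _ (D.hdet σ)) (pow_ne_zero _ (D'.hdet σ))
  comm σ z := by
    induction z using TensorProduct.induction_on with
    | zero => simp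
    | tmul a a' =>
      rw [krHom_tmul, mapMatrix_kr, ← kr_mul, D.comm, D'.comm, kr_mul]
    | add x y hx hy => rw [map_add, map_add, mul_add, hx, hy, add_mul]
  rel σ τ := by
    rw [mapMatrix_kr, ← kr_mul, D.rel, D'.rel, kr_smul_left, kr_smul_right, smul_smul]
    rfl

/-- transport along an algebra isomorphism -/
def PDatum.congr (e : A ≃ₐ[k] A') (D : PDatum A r c) : PDatum A' r c where
  ρ := D.ρ.comp (e.symm : A' →ₐ[k] A)
  g := D.g
  hdet := D.hdet
  comm σ a' := D.comm σ (e.symm a')
  rel := D.rel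

/-- cast along equalities -/
def PDatum.cast {r' : ℕ} {c'' : (K ≃ₐ[k] K) → (K ≃ₐ[k] K) → Kˣ} (h : r = r') (h' : c = c'')
    (D : PDatum A r c) : PDatum A r' c'' := h ▸ h' ▸ D

/-- tensor powers of data -/
theorem PDatum.pow (D : PDatum A r c) (e : ℕ) (he : 1 ≤ e) :
    Nonempty (PDatum (CSAGal.tpow k A e) (r ^ e) (c ^ e)) := by
  induction e, he using Nat.le_induction with
  | base => exact ⟨(D.congr (tpowOne k A).symm).cast (pow_one r).symm (pow_one c).symm⟩
  | succ e he ih =>
    obtain ⟨De⟩ := ih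
    exact ⟨((De.tensor D).congr (tpowSucc k A e).symm).cast (pow_succ r e).symm (pow_succ c e).symm⟩

variable (k K) in
/-- the trivial datum of a split algebra -/
def PDatum.triv (m : ℕ) : PDatum (k := k) (K := K) (Matrix (Fin m) (Fin m) k) m 1 where
  ρ := (Algebra.ofId k K).mapMatrix
  g _ := 1
  hdet _ := by rw [Matrix.det_one]; exact one_ne_zero
  comm σ M := by
    rw [one_mul, mul_one]
    ext i j
    simp [Algebra.ofId_apply]
  rel σ τ := by
    rw [map_one, mul_one]
    simp

/-- data for matrix algebras -/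
noncomputable def PDatum.matrix (D : PDatum A r c) (m : ℕ) :
    PDatum (Matrix (Fin m) (Fin m) A) (r * m) c :=
  ((D.tensor (PDatum.triv k K m)).congr (matrixEquivTensor (Fin m) k A).symm).cast rfl (mul_one c)

end Tensor

end Groth.Agent.Helper20.PCoc
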