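import Groth.Agent.Lib.Helper20.PCoc3
import Groth.Agent.Lib.Helper20.Morita

set_option autoImplicit false
universe u v w w'

namespace Groth.Agent.Helper20.PCoc
open scoped Kronecker TensorProduct MatrixGroups
open Groth.Agent.Helper20.Morita

section Scalar
variable {K : Type v} [Field K] {n : ℕ}

/-- a matrix commuting with all matrices is scalar -/
theorem exists_scalar_of_commute (Z : Matrix (Fin n) (Fin n) K)
    (hZ : ∀ i j : Fin n, Z * Matrix.single i j (1 : K) = Matrix.single i j (1 : K) * Z) :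
    ∃ z : K, Z = z • (1 : Matrix (Fin n) (Fin n) K) := by
  obtain ⟨z, hz⟩ := Matrix.mem_range_scalar_of_commute_single (M := Z)
    (fun i j _ => (hZ i j).symm)
  refine ⟨z, ?_⟩
  rw [← hz]
  ext i j
  simp [Matrix.one_apply, Matrix.diagonal_apply]

/-- if `X M X' = Y M Y'` for all `M`, with `X' X = 1`, `Y' Y = 1`, then `Y = z • X` -/
theorem exists_scalar_of_conj_eq (hn : n ≠ 0) (X X' Y Y' : Matrix (Fin n) (Fin n) K)
    (hX : X * X' = 1) (hX' : X' * X = 1) (hY : Y * Y' = 1) (hY' : Y' * Y = 1)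
    (h : ∀ i j : Fin n, X * Matrix.single i j (1 : K) * X' = Y * Matrix.single i j (1 : K) * Y') :
    ∃ z : Kˣ, Y = (z : K) • X := by
  haveI : NeZero n := ⟨hn⟩
  obtain ⟨z, hz⟩ := exists_scalar_of_commute (X' * Y) (by
    intro i j
    have := congrArg (fun M => X' * M * Y) (h i j)
    simp only [mul_assoc] at this
    rw [← mul_assoc X' X, hX', one_mul, hY', mul_one] at this
    rw [mul_assoc]
    exact this.symm)
  have hYX : Y = z • X := by
    have := congrArg (fun M => X * M) hz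
    simp only [← mul_assoc, hX, one_mul, mul_smul_comm, mul_one] at this
    exact this
  have hz0 : z ≠ 0 := by
    rintro rfl
    rw [zero_smul] at hYX
    rw [hYX, zero_mul] at hY
    exact zero_ne_one hY
  exact ⟨Units.mk0 z hz0, hYX⟩

end Scalar

section Exists
variable {k : Type u} {K : Type v} [Field k] [Field K] [Algebra k K]
  {A : Type w} [Ring A] [Algebra k A] {n : ℕ}

/-- the Galois action on `K ⊗ A` through the first factor -/
noncomputable def sigmaT (σ : K ≃ₐ[k] K) : K ⊗[k] A ≃ₐ[k] K ⊗[k] A :=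
  Algebra.TensorProduct.congr σ (AlgEquiv.refl : A ≃ₐ[k] A)

theorem sigmaT_tmul (σ : K ≃ₐ[k] K) (x : K) (a : A) :
    sigmaT σ (x ⊗ₜ[k] a) = σ x ⊗ₜ[k] a := rfl

theorem sigmaT_mul (σ τ : K ≃ₐ[k] K) (z : K ⊗[k] A) :
    sigmaT (σ * τ) z = sigmaT σ (sigmaT τ z) := by
  induction z using TensorProduct.induction_on with
  | zero => simp
  | tmul x a => rfl
  | add x y hx hy => rw [map_add, hx, hy, map_add, map_add]

/-- the transported semilinear automorphisms of the matrix algebra, made `K`-linear -/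
noncomputable def Theta (e : K ⊗[k] A ≃ₐ[K] Matrix (Fin n) (Fin n) K) (σ : K ≃ₐ[k] K) :
    Matrix (Fin n) (Fin n) K →ₐ[K] Matrix (Fin n) (Fin n) K where
  toFun M := e (sigmaT σ (e.symm (σ.symm.mapMatrix M)))
  map_one' := by simp
  map_mul' M N := by simp
  map_zero' := by simp
  map_add' M N := by rw [map_add, map_add, map_add, map_add]
  commutes' x := by
    have h1 : σ.symm.mapMatrix (algebraMap K (Matrix (Fin n) (Fin n) K) x) =
        algebraMap K (Matrix (Fin n) (Fin n) K) (σ.symm x) := by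
      ext i j
      simp only [AlgEquiv.mapMatrix_apply, Matrix.map_apply, Matrix.algebraMap_matrix_apply]
      split_ifs <;> simp
    have h2 : ∀ y : K, y ⊗ₜ[k] (1 : A) = algebraMap K (K ⊗[k] A) y := by
      intro y
      rw [Algebra.TensorProduct.algebraMap_apply]
      rfl
    rw [h1, e.symm.commutes, ← h2, sigmaT_tmul, AlgEquiv.apply_symm_apply, h2, e.commutes]

theorem Theta_apply (e : K ⊗[k] A ≃ₐ[K] Matrix (Fin n) (Fin n) K) (σ : K ≃ₐ[k] K)
    (M : Matrix (Fin n) (Fin n) K) :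
    Theta e σ M = e (sigmaT σ (e.symm (σ.symm.mapMatrix M))) := rfl

theorem mapMatrix_single (σ : K ≃ₐ[k] K) (i j : Fin n) :
    σ.mapMatrix (Matrix.single i j (1 : K)) = Matrix.single i j (1 : K) := by
  rw [AlgEquiv.mapMatrix_apply, Matrix.map_single, map_one]

theorem mapMatrix_symm_apply (σ : K ≃ₐ[k] K) (M : Matrix (Fin n) (Fin n) K) :
    σ.symm.mapMatrix (σ.mapMatrix M) = M := by
  ext i j
  simp

/-- a splitting over `K` gives a projective datum -/
theorem exists_datum (hn : n ≠ 0) (e : K ⊗[k] A ≃ₐ[K] Matrix (Fin n) (Fin n) K) :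
    ∃ c : (K ≃ₐ[k] K) → (K ≃ₐ[k] K) → Kˣ, Nonempty (PDatum A n c) := by
  classical
  haveI : NeZero n := ⟨hn⟩
  have hSN : ∀ σ : K ≃ₐ[k] K, ∃ u w : Matrix (Fin n) (Fin n) K, u * w = 1 ∧ w * u = 1 ∧
      ∀ M, e (sigmaT σ (e.symm M)) = u * σ.mapMatrix M * w := by
    intro σ
    obtain ⟨u, w, huw, hwu, h⟩ := skolem_noether K (Matrix (Fin n) (Fin n) K)
      (Matrix (Fin n) (Fin n) K) (AlgHom.id K _) (Theta e σ)
    refine ⟨u, w, huw, hwu, fun M => ?_⟩
    have := h (σ.mapMatrix M)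
    rw [Theta_apply, mapMatrix_symm_apply] at this
    exact this
  choose u w huw hwu hconj using hSN
  let ρ : A →ₐ[k] Matrix (Fin n) (Fin n) K :=
    (e.toAlgHom.restrictScalars k).comp Algebra.TensorProduct.includeRight
  have hρ : ∀ a, ρ a = e (1 ⊗ₜ a) := fun a => rfl
  have hcomm : ∀ σ a, u σ * σ.mapMatrix (ρ a) = ρ a * u σ := by
    intro σ a
    have h1 := hconj σ (ρ a)
    rw [hρ, e.symm_apply_apply, sigmaT_tmul, map_one, ← hρ] at h1
    calc u σ * σ.mapMatrix (ρ a) = u σ * σ.mapMatrix (ρ a) * (w σ * u σ) := by rw [hwu, mul_one]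
      _ = (u σ * σ.mapMatrix (ρ a) * w σ) * u σ := by simp only [mul_assoc]
      _ = ρ a * u σ := by rw [← h1]
  have hcomp : ∀ σ τ N, u (σ * τ) * (σ * τ).mapMatrix N * w (σ * τ) =
      u σ * σ.mapMatrix (u τ) * (σ * τ).mapMatrix N * (σ.mapMatrix (w τ) * w σ) := by
    intro σ τ N
    rw [← hconj (σ * τ) N, sigmaT_mul]
    have h2 : sigmaT τ (e.symm N) = e.symm (u τ * τ.mapMatrix N * w τ) := by
      rw [← hconj τ N, e.symm_apply_apply]
    rw [h2, hconj σ, map_mul, map_mul, mapMatrix_mul_apply]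
    simp only [mul_assoc]
  have hrel : ∀ σ τ, ∃ z : Kˣ, u σ * σ.mapMatrix (u τ) = (z : K) • u (σ * τ) := by
    intro σ τ
    refine exists_scalar_of_conj_eq hn (u (σ * τ)) (w (σ * τ)) (u σ * σ.mapMatrix (u τ))
      (σ.mapMatrix (w τ) * w σ) (huw _) (hwu _) ?_ ?_ ?_
    · calc u σ * σ.mapMatrix (u τ) * (σ.mapMatrix (w τ) * w σ)
          = u σ * (σ.mapMatrix (u τ) * σ.mapMatrix (w τ)) * w σ := by simp only [mul_assoc]
        _ = 1 := by rw [← map_mul, huw, map_one, mul_one, huw]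
    · calc σ.mapMatrix (w τ) * w σ * (u σ * σ.mapMatrix (u τ))
          = σ.mapMatrix (w τ) * (w σ * u σ) * σ.mapMatrix (u τ) := by simp only [mul_assoc]
        _ = 1 := by rw [hwu, mul_one, ← map_mul, hwu, map_one]
    · intro i j
      have := hcomp σ τ (Matrix.single i j 1)
      rw [mapMatrix_single] at this
      exact this
  choose c hc using hrel
  refine ⟨c, ⟨{ ρ := ρ, g := u, hdet := ?_, comm := hcomm, rel := hc }⟩⟩
  intro σ h0
  have := congrArg Matrix.det (huw σ)
  rw [Matrix.det_mul, h0, zero_mul, Matrix.det_one] at this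
  exact zero_ne_one this

end Exists

end Groth.Agent.Helper20.PCoc
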