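import Groth.Agent.Lib.Helper20.PCoc4
import Groth.Agent.Lib.Helper17.SN1

set_option autoImplicit false
universe u v w w'

namespace Groth.Agent.Helper20.PCoc
open scoped Kronecker TensorProduct MatrixGroups
open Groth.Agent.Helper20.Morita

section CobOfSplit
variable {k : Type u} {K : Type v} [Field k] [Field K] [Algebra k K]
  {r : ℕ} {c : (K ≃ₐ[k] K) → (K ≃ₐ[k] K) → Kˣ}

theorem mapMatrix_ofId (σ : K ≃ₐ[k] K) (M : Matrix (Fin r) (Fin r) k) :
    σ.mapMatrix ((Algebra.ofId k K).mapMatrix M) = (Algebra.ofId k K).mapMatrix M := by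
  ext i j
  simp [Algebra.ofId_apply]

/-- a datum on a split algebra has coboundary multiplier -/
theorem PDatum.isCob_of_matrix [FiniteDimensional k K]
    (D : PDatum (k := k) (K := K) (Matrix (Fin r) (Fin r) k) r c) (hr : r ≠ 0) : IsCob c := by
  classical
  haveI : NeZero r := ⟨hr⟩
  let Mk := Matrix (Fin r) (Fin r) k
  let MK := Matrix (Fin r) (Fin r) K
  let j : Mk →ₐ[k] MK := (Algebra.ofId k K).mapMatrix
  let f₁ : K ⊗[k] Mk →ₐ[K] MK :=
    Algebra.TensorProduct.lift (Algebra.ofId K MK) j (fun x a => Algebra.commutes x (j a))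
  let f₂ : K ⊗[k] Mk →ₐ[K] MK :=
    Algebra.TensorProduct.lift (Algebra.ofId K MK) D.ρ (fun x a => Algebra.commutes x (D.ρ a))
  haveI : IsSimpleRing (K ⊗[k] Mk) := Groth.Agent.Helper17.isSimpleRing_tensor k K Mk
  obtain ⟨u, w, huw, hwu, h⟩ := skolem_noether K (K ⊗[k] Mk) MK f₁ f₂
  have hρ : ∀ a : Mk, D.ρ a = u * j a * w := by
    intro a
    have := h (1 ⊗ₜ a)
    simpa [f₁, f₂] using this
  -- the scalars
  have hZ : ∀ σ : K ≃ₐ[k] K, ∃ z : Kˣ, D.g σ * σ.mapMatrix u = (z : K) • u := by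
    intro σ
    have hgu : IsUnit (D.g σ).det := IsUnit.mk0 _ (D.hdet σ)
    have hsu : σ.mapMatrix u * σ.mapMatrix w = 1 := by rw [← map_mul, huw, map_one]
    have hsw : σ.mapMatrix w * σ.mapMatrix u = 1 := by rw [← map_mul, hwu, map_one]
    refine exists_scalar_of_conj_eq hr u w (D.g σ * σ.mapMatrix u) (σ.mapMatrix w * (D.g σ)⁻¹) huw hwu ?_ ?_ ?_
    · calc D.g σ * σ.mapMatrix u * (σ.mapMatrix w * (D.g σ)⁻¹)
          = D.g σ * (σ.mapMatrix u * σ.mapMatrix w) * (D.g σ)⁻¹ := by simp only [mul_assoc]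
        _ = 1 := by rw [hsu, mul_one, Matrix.mul_nonsing_inv _ hgu]
    · calc σ.mapMatrix w * (D.g σ)⁻¹ * (D.g σ * σ.mapMatrix u)
          = σ.mapMatrix w * ((D.g σ)⁻¹ * D.g σ) * σ.mapMatrix u := by simp only [mul_assoc]
        _ = 1 := by rw [Matrix.nonsing_inv_mul _ hgu, mul_one, hsw]
    · intro i l
      have hE : j (Matrix.single i l (1 : k)) = Matrix.single i l (1 : K) := by
        show (Matrix.single i l (1 : k)).map (Algebra.ofId k K) = _
        rw [Matrix.map_single, map_one]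
      have h1 := D.comm σ (Matrix.single i l (1 : k))
      rw [hρ, hE, map_mul, map_mul, mapMatrix_single] at h1
      calc u * Matrix.single i l 1 * w
          = u * Matrix.single i l 1 * w * (D.g σ * (D.g σ)⁻¹) := by
            rw [Matrix.mul_nonsing_inv _ hgu, mul_one]
        _ = (u * Matrix.single i l 1 * w * D.g σ) * (D.g σ)⁻¹ := by simp only [mul_assoc]
        _ = (D.g σ * (σ.mapMatrix u * Matrix.single i l 1 * σ.mapMatrix w)) * (D.g σ)⁻¹ := by rw [h1]
        _ = D.g σ * σ.mapMatrix u * Matrix.single i l 1 * (σ.mapMatrix w * (D.g σ)⁻¹) := by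
            simp only [mul_assoc]
  choose b hb using hZ
  have hu0 : u ≠ 0 := by
    rintro rfl
    rw [zero_mul] at huw
    exact zero_ne_one huw
  refine ⟨b, fun σ τ => ?_⟩
  apply Units.ext
  simp only [Units.val_mul, uact_val]
  have h1 : (D.g σ * σ.mapMatrix (D.g τ)) * (σ * τ).mapMatrix u =
      (σ ((b τ : Kˣ) : K) * ((b σ : Kˣ) : K)) • u := by
    rw [mapMatrix_mul_apply, mul_assoc, ← map_mul, hb τ, mapMatrix_smul, mul_smul_comm, hb σ,
      smul_smul]
  have h2 : (D.g σ * σ.mapMatrix (D.g τ)) * (σ * τ).mapMatrix u =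
      (((c σ τ : Kˣ) : K) * ((b (σ * τ) : Kˣ) : K)) • u := by
    rw [D.rel, smul_mul_assoc, hb (σ * τ), smul_smul]
  rw [h1] at h2
  have h3 : ((σ ((b τ : Kˣ) : K) * ((b σ : Kˣ) : K)) - (((c σ τ : Kˣ) : K) * ((b (σ * τ) : Kˣ) : K))) • u = 0 := by
    rw [sub_smul, h2, sub_self]
  rcases smul_eq_zero.mp h3 with h | h
  · rw [← sub_eq_zero.mp h, mul_comm]
  · exact absurd h hu0

/-- a datum of full degree on a split algebra has coboundary multiplier -/
theorem PDatum.isCob_of_splits [FiniteDimensional k K] {A : Type w} [Ring A] [Algebra k A]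
    (D : PDatum A r c) (hr : r ≠ 0) (hdim : Module.finrank k A = r ^ 2)
    (hs : Curves.Splits k A k) : IsCob c := by
  obtain ⟨n, hn, ⟨φ⟩⟩ := hs
  let ψ : A ≃ₐ[k] Matrix (Fin n) (Fin n) k := (Algebra.TensorProduct.lid k A).symm.trans φ
  have h1 : Module.finrank k A = n ^ 2 := by
    rw [ψ.toLinearEquiv.finrank_eq, Module.finrank_matrix]
    simp [sq]
  have hnr : n = r := by
    rw [hdim] at h1
    exact (Nat.pow_left_injective (n := 2) (by norm_num) h1).symm
  subst hnr
  exact (D.congr ψ).isCob_of_matrix hr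

end CobOfSplit

section Restrict
variable {k : Type u} {K : Type v} [Field k] [Field K] [Algebra k K]
  {A : Type w} [Ring A] [Algebra k A] {r : ℕ} {c : (K ≃ₐ[k] K) → (K ≃ₐ[k] K) → Kˣ}

/-- restriction of the multiplier to the Galois group over an intermediate field -/
def resCoc (F : IntermediateField k K) (c : (K ≃ₐ[k] K) → (K ≃ₐ[k] K) → Kˣ) :
    (K ≃ₐ[F] K) → (K ≃ₐ[F] K) → Kˣ :=
  fun σ τ => c (σ.restrictScalars k) (τ.restrictScalars k)

theorem resCoc_pow (F : IntermediateField k K) (c : (K ≃ₐ[k] K) → (K ≃ₐ[k] K) → Kˣ) (e : ℕ) :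
    resCoc F (c ^ e) = (resCoc F c) ^ e := rfl

theorem isCob_resCoc (F : IntermediateField k K) (hc : IsCob c) : IsCob (resCoc F c) := by
  obtain ⟨b, hb⟩ := hc
  exact ⟨fun σ => b (σ.restrictScalars k), fun σ τ => hb _ _⟩

/-- restriction of a datum to an intermediate field -/
noncomputable def PDatum.restrict (F : IntermediateField k K) (D : PDatum A r c) :
    PDatum (k := F) (K := K) (F ⊗[k] A) r (resCoc F c) where
  ρ := Algebra.TensorProduct.lift (Algebra.ofId F (Matrix (Fin r) (Fin r) K)) D.ρ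
    (fun x a => Algebra.commutes x (D.ρ a))
  g σ := D.g (σ.restrictScalars k)
  hdet σ := D.hdet _
  comm σ z := by
    induction z using TensorProduct.induction_on with
    | zero => simp
    | tmul x a =>
      rw [Algebra.TensorProduct.lift_tmul, map_mul, Algebra.ofId_apply, AlgEquiv.commutes]
      have h1 : σ.mapMatrix (D.ρ a) = (σ.restrictScalars k).mapMatrix (D.ρ a) := rfl
      rw [h1, ← mul_assoc, ← Algebra.commutes, mul_assoc, D.comm, mul_assoc]
    | add x y hx hy => rw [map_add, map_add, mul_add, hx, hy, add_mul]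
  rel σ τ := D.rel (σ.restrictScalars k) (τ.restrictScalars k)

end Restrict

end Groth.Agent.Helper20.PCoc
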