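import Mathlib
import Groth.Agent.Lib.Helper20.PLLoc

set_option autoImplicit false
universe u
open scoped TensorProduct

namespace Groth.Agent.Helper20.PLKer

open Polynomial

variable {A : Type u} [CommRing A] {B : Type u} [CommRing B] [Algebra A B]

theorem idem_zero_or_one [ConnectedSpace (PrimeSpectrum A)] (a : A) (h : a * a = a) :
    a = 0 ∨ a = 1 := by
  have hidem : IsIdempotentElem a := h
  have hclopen : IsClopen ((PrimeSpectrum.basicOpen a : TopologicalSpace.Opens (PrimeSpectrum A)) :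
      Set (PrimeSpectrum A)) := PrimeSpectrum.isClopen_iff.mpr ⟨a, hidem, rfl⟩
  rcases isClopen_iff.mp hclopen with h0 | h1
  · left
    apply PrimeSpectrum.basicOpen_injOn_isIdempotentElem hidem (IsIdempotentElem.zero)
    apply TopologicalSpace.Opens.ext
    rw [h0, PrimeSpectrum.basicOpen_zero]
    rfl
  · right
    apply PrimeSpectrum.basicOpen_injOn_isIdempotentElem hidem (IsIdempotentElem.one)
    apply TopologicalSpace.Opens.ext
    rw [h1, PrimeSpectrum.basicOpen_one]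
    rfl

theorem ridA_tmul_one (S : Type u) [CommSemiring S] [Algebra A S] (z : S ⊗[A] A) :
    (ridA S z) ⊗ₜ[A] (1 : A) = z := by
  induction z using TensorProduct.induction_on with
  | zero => simp
  | tmul s a =>
    rw [ridA_tmul, mul_comm, ← Algebra.smul_def, TensorProduct.smul_tmul, smul_eq_mul, mul_one]
  | add x y hx hy => rw [map_add, TensorProduct.add_tmul, hx, hy]

theorem idem_mul {T : Type*} [CommSemiring T] (ê ê' x y : T) (h1 : ê * ê = ê) (h2 : ê * ê' = 0)
    (h3 : ê' * ê' = ê') : (x * ê + ê') * (y * ê + ê') = x * y * ê + ê' := by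
  calc (x * ê + ê') * (y * ê + ê') = x * y * (ê * ê) + (x + y) * (ê * ê') + ê' * ê' := by ring
    _ = _ := by rw [h1, h2, h3, mul_zero, add_zero]

theorem idem_split {T : Type*} [CommSemiring T] (ê ê' x : T) (h1 : ê * ê = ê) (h2 : ê * ê' = 0)
    (h3 : ê' * ê' = ê') (h4 : ê + ê' = 1) : (x * ê + ê') * (x * ê' + ê) = x := by
  calc (x * ê + ê') * (x * ê' + ê) = x * x * (ê * ê') + x * (ê * ê) + x * (ê' * ê') + ê * ê' := by
        ring
    _ = x * (ê + ê') := by rw [h1, h2, h3]; ring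
    _ = x := by rw [h4, mul_one]


section PolyLemma

theorem aeval_CX (P : A[X]) : aeval (C X : A[X][X]) P = C P := by
  have := Polynomial.aeval_algebraMap_apply (A := A[X]) (B := A[X][X]) (X : A[X]) P
  rw [Polynomial.aeval_X_left_apply] at this
  exact this

theorem aeval_XX (P : A[X]) : aeval (X : A[X][X]) P = P.map (C : A →+* A[X]) := by
  rw [Polynomial.aeval_def, Polynomial.map]
  rfl

theorem coeff_aeval_CX_mul_X (P : A[X]) (l : ℕ) :
    (aeval (C X * X : A[X][X]) P).coeff l = monomial l (P.coeff l) := by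
  induction P using Polynomial.induction_on' with
  | add p q hp hq => rw [map_add, coeff_add, hp, hq, coeff_add, map_add]
  | monomial k a =>
    have e1 : aeval (C X * X : A[X][X]) (monomial k a) = C (monomial k a) * X ^ k := by
      rw [Polynomial.aeval_monomial, mul_pow, ← mul_assoc]
      congr 1
      rw [← C_pow, Polynomial.algebraMap_apply, Polynomial.algebraMap_apply,
        Algebra.algebraMap_self, RingHom.id_apply, ← C_mul, C_mul_X_pow_eq_monomial]
    rw [e1, Polynomial.coeff_C_mul_X_pow, Polynomial.coeff_monomial]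
    by_cases h : k = l
    · subst h
      simp
    · rw [if_neg h, if_neg (Ne.symm h), map_zero]

theorem eq_X_pow_of_mult [ConnectedSpace (PrimeSpectrum A)] (P : A[X])
    (hmul : aeval (C X : A[X][X]) P * aeval (X : A[X][X]) P = aeval (C X * X : A[X][X]) P)
    (hone : aeval (1 : A) P = 1) : ∃ k, P = X ^ k := by
  have hnt : Nontrivial A := by
    by_contra hA
    rw [not_nontrivial_iff_subsingleton] at hA
    haveI := hA
    have : IsEmpty (PrimeSpectrum A) := inferInstance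
    exact (not_isEmpty_of_nonempty (PrimeSpectrum A)) this
  -- orthogonality of the coefficients
  have horth : ∀ k l, P.coeff k * P.coeff l = if l = k then P.coeff l else 0 := by
    intro k l
    have h1 : ((aeval (C X : A[X][X]) P * aeval (X : A[X][X]) P).coeff l).coeff k =
        ((aeval (C X * X : A[X][X]) P).coeff l).coeff k := by rw [hmul]
    rw [aeval_CX, aeval_XX, coeff_C_mul, coeff_map, coeff_aeval_CX_mul_X, coeff_mul_C,
      coeff_monomial] at h1
    exact h1
  have hP0 : P ≠ 0 := by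
    rintro rfl
    rw [map_zero] at hone
    exact zero_ne_one hone
  obtain ⟨k, hk⟩ : ∃ k, P.coeff k ≠ 0 := by
    by_contra hall
    push Not at hall
    exact hP0 (Polynomial.ext (fun n => by rw [hall n, coeff_zero]))
  have hk1 : P.coeff k = 1 := by
    have hid : P.coeff k * P.coeff k = P.coeff k := by rw [horth k k, if_pos rfl]
    rcases idem_zero_or_one _ hid with h | h
    · exact absurd h hk
    · exact h
  refine ⟨k, Polynomial.ext (fun l => ?_)⟩
  rw [coeff_X_pow]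
  by_cases hl : l = k
  · rw [if_pos hl, hl, hk1]
  · rw [if_neg hl]
    have := horth k l
    rw [hk1, one_mul, if_neg hl] at this
    exact this

end PolyLemma

section Idem
variable (F : B →ₚₗ[A] A) (e e' : B)

/-- the polynomial `F (t e + e')` -/
noncomputable def Pe : A[X] :=
  ridA A[X] (F.toFun' A[X] ((X : A[X]) ⊗ₜ[A] e + (1 : A[X]) ⊗ₜ[A] e'))

theorem ridA_idem (S : Type u) [CommSemiring S] [Algebra A S] (s : S) :
    ridA S (F.toFun' S (s ⊗ₜ[A] e + (1 : S) ⊗ₜ[A] e')) = Polynomial.aeval s (Pe F e e') := by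
  have h := compat F (Polynomial.aeval (R := A) s) ((X : A[X]) ⊗ₜ[A] e + (1 : A[X]) ⊗ₜ[A] e')
  rw [map_add, Algebra.TensorProduct.map_tmul, Algebra.TensorProduct.map_tmul, Polynomial.aeval_X,
    map_one] at h
  have h2 := congrArg (ridA S) h
  rw [rid_map] at h2
  exact h2

theorem toFun_idem (S : Type u) [CommSemiring S] [Algebra A S] (s : S) :
    F.toFun' S (s ⊗ₜ[A] e + (1 : S) ⊗ₜ[A] e') =
      (Polynomial.aeval s (Pe F e e')) ⊗ₜ[A] (1 : A) := by
  rw [← ridA_idem, ridA_tmul_one]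

variable {F e e'}

theorem tensor_idem (he : e * e' = 0) (hsum : e + e' = 1) (S : Type u) [CommSemiring S]
    [Algebra A S] :
    ((1 : S) ⊗ₜ[A] e) * ((1 : S) ⊗ₜ[A] e) = (1 : S) ⊗ₜ[A] e ∧
    ((1 : S) ⊗ₜ[A] e) * ((1 : S) ⊗ₜ[A] e') = 0 ∧
    ((1 : S) ⊗ₜ[A] e') * ((1 : S) ⊗ₜ[A] e') = (1 : S) ⊗ₜ[A] e' ∧
    ((1 : S) ⊗ₜ[A] e) + ((1 : S) ⊗ₜ[A] e') = 1 := by
  have h1 : e * e = e := by
    have : e * (e + e') = e := by rw [hsum, mul_one]
    rwa [mul_add, he, add_zero] at this
  have h3 : e' * e' = e' := by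
    have : (e + e') * e' = e' := by rw [hsum, one_mul]
    rwa [add_mul, he, zero_add] at this
  refine ⟨?_, ?_, ?_, ?_⟩
  · rw [Algebra.TensorProduct.tmul_mul_tmul, one_mul, h1]
  · rw [Algebra.TensorProduct.tmul_mul_tmul, one_mul, he, TensorProduct.tmul_zero]
  · rw [Algebra.TensorProduct.tmul_mul_tmul, one_mul, h3]
  · rw [← TensorProduct.tmul_add, hsum]
    rfl

theorem aeval_Pe_mul (hM : PolLaw.IsMult F) (he : e * e' = 0) (hsum : e + e' = 1)
    (S : Type u) [CommSemiring S] [Algebra A S] (s s' : S) :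
    Polynomial.aeval s (Pe F e e') * Polynomial.aeval s' (Pe F e e') =
      Polynomial.aeval (s * s') (Pe F e e') := by
  obtain ⟨h1, h2, h3, -⟩ := tensor_idem (A := A) he hsum S
  rw [← ridA_idem F e e' S, ← ridA_idem F e e' S, ← ridA_idem F e e' S, ← map_mul, ← (hM S).2]
  congr 2
  have hs : ∀ r : S, r ⊗ₜ[A] e = (r ⊗ₜ[A] (1 : B)) * ((1 : S) ⊗ₜ[A] e) := fun r => by
    rw [Algebra.TensorProduct.tmul_mul_tmul, mul_one, one_mul]
  rw [hs s, hs s', hs (s * s'), idem_mul _ _ _ _ h1 h2 h3, Algebra.TensorProduct.tmul_mul_tmul,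
    mul_one]

theorem aeval_Pe_one (hM : PolLaw.IsMult F) (hsum : e + e' = 1)
    (S : Type u) [CommSemiring S] [Algebra A S] :
    Polynomial.aeval (1 : S) (Pe F e e') = 1 := by
  rw [← ridA_idem F e e' S, ← TensorProduct.tmul_add, hsum]
  have : ((1 : S) ⊗ₜ[A] (1 : B) : S ⊗[A] B) = 1 := rfl
  rw [this, (hM S).1, map_one]

end Idem


section Ge
variable (F : B →ₚₗ[A] A) (e e' : B)

/-- the law `x ↦ F (x e + e')` -/
noncomputable def Ge : B →ₚₗ[A] A where
  toFun' S _ _ := fun x => F.toFun' S (x * ((1 : S) ⊗ₜ[A] e) + (1 : S) ⊗ₜ[A] e')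
  isCompat' {S} _ _ {S'} _ _ φ := by
    funext x
    simp only [Function.comp_apply]
    have h := congrFun (F.isCompat' φ) (x * ((1 : S) ⊗ₜ[A] e) + (1 : S) ⊗ₜ[A] e')
    simp only [Function.comp_apply] at h
    rw [h]
    congr 1
    rw [rTensor_eq_map, rTensor_eq_map, map_add, map_mul, Algebra.TensorProduct.map_tmul,
      Algebra.TensorProduct.map_tmul, map_one]
    rfl

theorem Ge_toFun' (S : Type u) [CommSemiring S] [Algebra A S] (x : S ⊗[A] B) :
    (Ge F e e').toFun' S x = F.toFun' S (x * ((1 : S) ⊗ₜ[A] e) + (1 : S) ⊗ₜ[A] e') := rfl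

variable {F e e'}

theorem Ge_mult (hM : PolLaw.IsMult F) (he : e * e' = 0) (hsum : e + e' = 1) :
    PolLaw.IsMult (Ge F e e') := by
  intro S _ _
  obtain ⟨h1, h2, h3, h4⟩ := tensor_idem (A := A) he hsum S
  refine ⟨?_, fun x y => ?_⟩
  · rw [Ge_toFun', one_mul, h4, (hM S).1]
  · rw [Ge_toFun', Ge_toFun', Ge_toFun', ← (hM S).2, idem_mul _ _ _ _ h1 h2 h3]

theorem Ge_homog (hM : PolLaw.IsMult F) (he : e * e' = 0) (hsum : e + e' = 1) (k : ℕ)
    (hk : Pe F e e' = X ^ k) : PolLaw.IsHomog (Ge F e e') k := by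
  intro S _ _ s x
  obtain ⟨h1, h2, h3, h4⟩ := tensor_idem (A := A) he hsum S
  rw [Ge_toFun', Ge_toFun']
  have hsm : ∀ z : S ⊗[A] B, s • z = (s ⊗ₜ[A] (1 : B)) * z := by
    intro z
    induction z using TensorProduct.induction_on with
    | zero => simp
    | tmul p b =>
      rw [TensorProduct.smul_tmul', Algebra.TensorProduct.tmul_mul_tmul, smul_eq_mul, one_mul]
    | add z₁ z₂ h₁ h₂ => rw [smul_add, mul_add, h₁, h₂]
  have hsmA : ∀ (r : S) (z : S ⊗[A] A), r • z = (r ⊗ₜ[A] (1 : A)) * z := by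
    intro r z
    induction z using TensorProduct.induction_on with
    | zero => simp
    | tmul p b =>
      rw [TensorProduct.smul_tmul', Algebra.TensorProduct.tmul_mul_tmul, smul_eq_mul, one_mul]
    | add z₁ z₂ h₁ h₂ => rw [smul_add, mul_add, h₁, h₂]
  have e1 : s • x * ((1 : S) ⊗ₜ[A] e) + (1 : S) ⊗ₜ[A] e' =
      ((s ⊗ₜ[A] (1 : B)) * ((1 : S) ⊗ₜ[A] e) + (1 : S) ⊗ₜ[A] e') *
        (x * ((1 : S) ⊗ₜ[A] e) + (1 : S) ⊗ₜ[A] e') := by
    rw [idem_mul _ _ _ _ h1 h2 h3, hsm]
  rw [e1, (hM S).2, Algebra.TensorProduct.tmul_mul_tmul, mul_one, one_mul, toFun_idem, hk,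
    Polynomial.aeval_X_pow, hsmA]

theorem F_eq_Ge_mul (hM : PolLaw.IsMult F) (he : e * e' = 0) (hsum : e + e' = 1)
    (S : Type u) [CommSemiring S] [Algebra A S] (x : S ⊗[A] B) :
    F.toFun' S x = (Ge F e e').toFun' S x * (Ge F e' e).toFun' S x := by
  obtain ⟨h1, h2, h3, h4⟩ := tensor_idem (A := A) he hsum S
  rw [Ge_toFun', Ge_toFun', ← (hM S).2, idem_split _ _ _ h1 h2 h3 h4]

theorem degree_add [Nontrivial A] {d : ℕ} (hM : PolLaw.IsMult F) (hH : PolLaw.IsHomog F d)
    (he : e * e' = 0) (hsum : e + e' = 1) (k k' : ℕ)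
    (hk : Pe F e e' = X ^ k) (hk' : Pe F e' e = X ^ k') : k + k' = d := by
  obtain ⟨h1, h2, h3, h4⟩ := tensor_idem (A := A) he hsum A[X]
  have he' : e' * e = 0 := by rw [mul_comm]; exact he
  have hsum' : e' + e = 1 := by rw [add_comm]; exact hsum
  have hsm : (X : A[X]) • (1 : A[X] ⊗[A] B) = (X : A[X]) ⊗ₜ[A] (1 : B) := by
    rw [Algebra.TensorProduct.one_def, TensorProduct.smul_tmul', smul_eq_mul, mul_one]
  have e1 : F.toFun' A[X] ((X : A[X]) • (1 : A[X] ⊗[A] B)) = (X ^ d : A[X]) ⊗ₜ[A] (1 : A) := by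
    rw [hH A[X], (hM A[X]).1, Algebra.TensorProduct.one_def, TensorProduct.smul_tmul', smul_eq_mul,
      mul_one]
  have e2 : (X : A[X]) ⊗ₜ[A] (1 : B) =
      ((X : A[X]) ⊗ₜ[A] e + (1 : A[X]) ⊗ₜ[A] e') * ((X : A[X]) ⊗ₜ[A] e' + (1 : A[X]) ⊗ₜ[A] e) := by
    have hs : ∀ b : B, (X : A[X]) ⊗ₜ[A] b = ((X : A[X]) ⊗ₜ[A] (1 : B)) * ((1 : A[X]) ⊗ₜ[A] b) :=
      fun b => by rw [Algebra.TensorProduct.tmul_mul_tmul, mul_one, one_mul]
    rw [hs e, hs e', idem_split _ _ _ h1 h2 h3 h4]
  rw [hsm, e2, (hM A[X]).2, toFun_idem, toFun_idem, hk, hk', Polynomial.aeval_X_pow,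
    Polynomial.aeval_X_pow, Algebra.TensorProduct.tmul_mul_tmul, mul_one, ← pow_add] at e1
  have e3 := congrArg (ridA A[X]) e1
  rw [ridA_tmul, ridA_tmul, map_one, mul_one, mul_one] at e3
  have := congrArg Polynomial.natDegree e3
  rwa [Polynomial.natDegree_X_pow, Polynomial.natDegree_X_pow] at this

end Ge


section Restrict
variable (F : B →ₚₗ[A] A) (e e' : B)
variable {B₁ : Type u} [CommRing B₁] [Algebra A B₁] (g : B₁ →ₗ[A] B) (q : B →ₗ[A] B₁)

theorem lTensor_mul (hg_mul : ∀ b b', g (b * b') = g b * g b') (S : Type u) [CommSemiring S]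
    [Algebra A S] (x y : S ⊗[A] B₁) :
    g.lTensor S (x * y) = g.lTensor S x * g.lTensor S y := by
  induction x using TensorProduct.induction_on with
  | zero => simp
  | tmul s b =>
    induction y using TensorProduct.induction_on with
    | zero => simp
    | tmul s' b' =>
      rw [Algebra.TensorProduct.tmul_mul_tmul, LinearMap.lTensor_tmul, LinearMap.lTensor_tmul,
        LinearMap.lTensor_tmul, Algebra.TensorProduct.tmul_mul_tmul, hg_mul]
    | add y₁ y₂ h₁ h₂ => rw [mul_add, map_add, h₁, h₂, map_add, mul_add]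
  | add x₁ x₂ h₁ h₂ => rw [add_mul, map_add, h₁, h₂, map_add, add_mul]

theorem lTensor_smul' (S : Type u) [CommSemiring S] [Algebra A S] (s : S) (x : S ⊗[A] B₁) :
    g.lTensor S (s • x) = s • g.lTensor S x := by
  induction x using TensorProduct.induction_on with
  | zero => simp
  | tmul s' b =>
    rw [TensorProduct.smul_tmul', LinearMap.lTensor_tmul, LinearMap.lTensor_tmul,
      TensorProduct.smul_tmul']
  | add x₁ x₂ h₁ h₂ => rw [smul_add, map_add, h₁, h₂, map_add, smul_add]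

theorem lTensor_gq (hgq : ∀ b, g (q b) = b * e) (S : Type u) [CommSemiring S]
    [Algebra A S] (x : S ⊗[A] B) :
    g.lTensor S (q.lTensor S x) = x * ((1 : S) ⊗ₜ[A] e) := by
  induction x using TensorProduct.induction_on with
  | zero => simp
  | tmul s b =>
    rw [LinearMap.lTensor_tmul, LinearMap.lTensor_tmul, hgq, Algebra.TensorProduct.tmul_mul_tmul,
      mul_one]
  | add x₁ x₂ h₁ h₂ => rw [map_add, map_add, h₁, h₂, add_mul]

/-- the restriction of `Ge` along `g` -/
noncomputable def restr : B₁ →ₚₗ[A] A := PolLaw.precomp (Ge F e e') g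

theorem restr_toFun' (S : Type u) [CommSemiring S] [Algebra A S] (x : S ⊗[A] B₁) :
    (restr F e e' g).toFun' S x = (Ge F e e').toFun' S (g.lTensor S x) := rfl

variable {F e e' g q}

theorem restr_mult (hM : PolLaw.IsMult F) (he : e * e' = 0) (hsum : e + e' = 1)
    (hg_mul : ∀ b b', g (b * b') = g b * g b') (hg_one : g 1 = e) :
    PolLaw.IsMult (restr F e e' g) := by
  intro S _ _
  obtain ⟨h1, h2, h3, h4⟩ := tensor_idem (A := A) he hsum S
  refine ⟨?_, fun x y => ?_⟩
  · rw [restr_toFun', Algebra.TensorProduct.one_def, LinearMap.lTensor_tmul, hg_one, Ge_toFun',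
      h1, h4, (hM S).1]
  · rw [restr_toFun', restr_toFun', restr_toFun', lTensor_mul g hg_mul,
      ((Ge_mult hM he hsum) S).2]

theorem restr_homog (hM : PolLaw.IsMult F) (he : e * e' = 0) (hsum : e + e' = 1) (k : ℕ)
    (hk : Pe F e e' = X ^ k) : PolLaw.IsHomog (restr F e e' g) k := by
  intro S _ _ s x
  rw [restr_toFun', restr_toFun', lTensor_smul', Ge_homog hM he hsum k hk S]

theorem restr_lTensor (he : e * e' = 0) (hsum : e + e' = 1) (hgq : ∀ b, g (q b) = b * e)
    (S : Type u) [CommSemiring S] [Algebra A S] (x : S ⊗[A] B) :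
    (restr F e e' g).toFun' S (q.lTensor S x) = (Ge F e e').toFun' S x := by
  obtain ⟨h1, h2, h3, h4⟩ := tensor_idem (A := A) he hsum S
  rw [restr_toFun', lTensor_gq e g q hgq, Ge_toFun', Ge_toFun', mul_assoc, h1]

end Restrict


section Prod
variable {B₁ : Type u} [CommRing B₁] [Algebra A B₁] {B₂ : Type u} [CommRing B₂] [Algebra A B₂]

theorem prod_decomp [ConnectedSpace (PrimeSpectrum A)] {d : ℕ}
    (F : PolLaw.MulLaw A (B₁ × B₂) A d) :
    ∃ d₁ d₂ : ℕ, d₁ + d₂ = d ∧
      (∃ (F₁ : PolLaw.MulLaw A B₁ A d₁) (F₂ : PolLaw.MulLaw A B₂ A d₂),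
        ∀ (S : Type u) [CommSemiring S] [Algebra A S] (x : S ⊗[A] (B₁ × B₂)),
          F.law.toFun' S x = F₁.law.toFun' S (LinearMap.lTensor S (LinearMap.fst A B₁ B₂) x) *
            F₂.law.toFun' S (LinearMap.lTensor S (LinearMap.snd A B₁ B₂) x)) ∧
      ∀ (e₁ e₂ : ℕ) (G₁ : PolLaw.MulLaw A B₁ A e₁) (G₂ : PolLaw.MulLaw A B₂ A e₂),
        (∀ (S : Type u) [CommSemiring S] [Algebra A S] (x : S ⊗[A] (B₁ × B₂)),
          F.law.toFun' S x = G₁.law.toFun' S (LinearMap.lTensor S (LinearMap.fst A B₁ B₂) x) *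
            G₂.law.toFun' S (LinearMap.lTensor S (LinearMap.snd A B₁ B₂) x)) →
          e₁ = d₁ ∧ e₂ = d₂ := by
  have hnt : Nontrivial A := by
    by_contra hA
    rw [not_nontrivial_iff_subsingleton] at hA
    haveI := hA
    have : IsEmpty (PrimeSpectrum A) := inferInstance
    exact (not_isEmpty_of_nonempty (PrimeSpectrum A)) this
  set e : B₁ × B₂ := (1, 0) with he_def
  set e' : B₁ × B₂ := (0, 1) with he'_def
  have he : e * e' = 0 := by ext <;> simp [e, e']
  have he' : e' * e = 0 := by rw [mul_comm]; exact he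
  have hsum : e + e' = 1 := by ext <;> simp [e, e']
  have hsum' : e' + e = 1 := by rw [add_comm]; exact hsum
  have hM := F.mult
  have hH := F.homog
  obtain ⟨d₁, hd₁⟩ := eq_X_pow_of_mult (Pe F.law e e')
    (aeval_Pe_mul hM he hsum _ _ _) (aeval_Pe_one hM hsum A)
  obtain ⟨d₂, hd₂⟩ := eq_X_pow_of_mult (Pe F.law e' e)
    (aeval_Pe_mul hM he' hsum' _ _ _) (aeval_Pe_one hM hsum' A)
  have hadd : d₁ + d₂ = d := degree_add hM hH he hsum d₁ d₂ hd₁ hd₂
  -- the two restrictions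
  have hg1_mul : ∀ b b' : B₁, LinearMap.inl A B₁ B₂ (b * b') =
      LinearMap.inl A B₁ B₂ b * LinearMap.inl A B₁ B₂ b' := by
    intro b b'; ext <;> simp
  have hg2_mul : ∀ b b' : B₂, LinearMap.inr A B₁ B₂ (b * b') =
      LinearMap.inr A B₁ B₂ b * LinearMap.inr A B₁ B₂ b' := by
    intro b b'; ext <;> simp
  have hg1_one : LinearMap.inl A B₁ B₂ 1 = e := rfl
  have hg2_one : LinearMap.inr A B₁ B₂ 1 = e' := rfl
  have hgq1 : ∀ b : B₁ × B₂, LinearMap.inl A B₁ B₂ (LinearMap.fst A B₁ B₂ b) = b * e := by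
    intro b; ext <;> simp [e]
  have hgq2 : ∀ b : B₁ × B₂, LinearMap.inr A B₁ B₂ (LinearMap.snd A B₁ B₂ b) = b * e' := by
    intro b; ext <;> simp [e']
  let F₁ : PolLaw.MulLaw A B₁ A d₁ :=
    { law := restr F.law e e' (LinearMap.inl A B₁ B₂)
      homog := restr_homog hM he hsum d₁ hd₁
      mult := restr_mult hM he hsum hg1_mul hg1_one }
  let F₂ : PolLaw.MulLaw A B₂ A d₂ :=
    { law := restr F.law e' e (LinearMap.inr A B₁ B₂)
      homog := restr_homog hM he' hsum' d₂ hd₂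
      mult := restr_mult hM he' hsum' hg2_mul hg2_one }
  refine ⟨d₁, d₂, hadd, ⟨F₁, F₂, fun S _ _ x => ?_⟩, ?_⟩
  · show F.law.toFun' S x =
      (restr F.law e e' (LinearMap.inl A B₁ B₂)).toFun' S
        (LinearMap.lTensor S (LinearMap.fst A B₁ B₂) x) *
      (restr F.law e' e (LinearMap.inr A B₁ B₂)).toFun' S
        (LinearMap.lTensor S (LinearMap.snd A B₁ B₂) x)
    rw [restr_lTensor he hsum hgq1, restr_lTensor he' hsum' hgq2]
    exact F_eq_Ge_mul hM he hsum S x
  · intro e₁ e₂ G₁ G₂ hG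
    have hsmX : ((X : A[X]) ⊗ₜ[A] (1 : B₁) : A[X] ⊗[A] B₁) = (X : A[X]) • (1 : A[X] ⊗[A] B₁) := by
      rw [Algebra.TensorProduct.one_def, TensorProduct.smul_tmul', smul_eq_mul, mul_one]
    have hsmX2 : ((X : A[X]) ⊗ₜ[A] (1 : B₂) : A[X] ⊗[A] B₂) = (X : A[X]) • (1 : A[X] ⊗[A] B₂) := by
      rw [Algebra.TensorProduct.one_def, TensorProduct.smul_tmul', smul_eq_mul, mul_one]
    constructor
    · have h1 := hG A[X] ((X : A[X]) ⊗ₜ[A] e + (1 : A[X]) ⊗ₜ[A] e')
      rw [toFun_idem, hd₁, Polynomial.aeval_X_pow, map_add, map_add, LinearMap.lTensor_tmul,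
        LinearMap.lTensor_tmul, LinearMap.lTensor_tmul, LinearMap.lTensor_tmul] at h1
      have f1 : LinearMap.fst A B₁ B₂ e = 1 := rfl
      have f2 : LinearMap.fst A B₁ B₂ e' = 0 := rfl
      have f3 : LinearMap.snd A B₁ B₂ e = 0 := rfl
      have f4 : LinearMap.snd A B₁ B₂ e' = 1 := rfl
      rw [f1, f2, f3, f4, TensorProduct.tmul_zero, TensorProduct.tmul_zero, add_zero, zero_add,
        hsmX, G₁.homog A[X], (G₁.mult A[X]).1, ← Algebra.TensorProduct.one_def,
        (G₂.mult A[X]).1, mul_one, Algebra.TensorProduct.one_def, TensorProduct.smul_tmul',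
        smul_eq_mul, mul_one] at h1
      have h2 := congrArg (ridA A[X]) h1
      rw [ridA_tmul, ridA_tmul, map_one, mul_one, mul_one] at h2
      have := congrArg Polynomial.natDegree h2
      rw [Polynomial.natDegree_X_pow, Polynomial.natDegree_X_pow] at this
      exact this.symm
    · have h1 := hG A[X] ((X : A[X]) ⊗ₜ[A] e' + (1 : A[X]) ⊗ₜ[A] e)
      rw [toFun_idem, hd₂, Polynomial.aeval_X_pow, map_add, map_add, LinearMap.lTensor_tmul,
        LinearMap.lTensor_tmul, LinearMap.lTensor_tmul, LinearMap.lTensor_tmul] at h1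
      have f1 : LinearMap.fst A B₁ B₂ e = 1 := rfl
      have f2 : LinearMap.fst A B₁ B₂ e' = 0 := rfl
      have f3 : LinearMap.snd A B₁ B₂ e = 0 := rfl
      have f4 : LinearMap.snd A B₁ B₂ e' = 1 := rfl
      rw [f1, f2, f3, f4, TensorProduct.tmul_zero, TensorProduct.tmul_zero, add_zero, zero_add,
        hsmX2, G₂.homog A[X], (G₂.mult A[X]).1, ← Algebra.TensorProduct.one_def,
        (G₁.mult A[X]).1, one_mul, Algebra.TensorProduct.one_def, TensorProduct.smul_tmul',
        smul_eq_mul, mul_one] at h1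
      have h2 := congrArg (ridA A[X]) h1
      rw [ridA_tmul, ridA_tmul, map_one, mul_one, mul_one] at h2
      have := congrArg Polynomial.natDegree h2
      rw [Polynomial.natDegree_X_pow, Polynomial.natDegree_X_pow] at this
      exact this.symm

end Prod

end Groth.Agent.Helper20.PLKer
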