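import Mathlib
import Groth.Agent.Lib.Helper20.PLIdem

set_option autoImplicit false
universe u
open scoped TensorProduct

namespace Groth.Agent.Helper20.PLKer

open Polynomial

variable {A : Type u} [CommRing A] {B : Type u} [CommRing B] [Algebra A B]

section ModKer
variable {F : B →ₚₗ[A] A} {e e' : B}

theorem absorb₁ {n₁ : B} (h₁ : n₁ ∈ PolLaw.ker F) (S : Type u) [CommSemiring S] [Algebra A S]
    (z a : S ⊗[A] B) : F.toFun' S (z + a * ((1 : S) ⊗ₜ[A] n₁)) = F.toFun' S z :=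
  (mem_ker_iff F n₁).mp h₁ S z a

theorem absorb₃ {n₁ n₂ n₃ : B} (h₁ : n₁ ∈ PolLaw.ker F) (h₂ : n₂ ∈ PolLaw.ker F)
    (h₃ : n₃ ∈ PolLaw.ker F) (S : Type u) [CommSemiring S] [Algebra A S]
    (z a b c : S ⊗[A] B) :
    F.toFun' S (z + (a * ((1 : S) ⊗ₜ[A] n₁) + b * ((1 : S) ⊗ₜ[A] n₂) + c * ((1 : S) ⊗ₜ[A] n₃))) =
      F.toFun' S z := by
  rw [← add_assoc, ← add_assoc, absorb₁ h₃, absorb₁ h₂, absorb₁ h₁]

/-- the three error terms -/
theorem err_mem (hk : e * e' ∈ PolLaw.ker F) (hsum : e + e' = 1) :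
    e * e - e ∈ PolLaw.ker F ∧ e' * e' - e' ∈ PolLaw.ker F := by
  have h1 : e * e - e = -(e * e') := by
    have : e' = 1 - e := by rw [← hsum]; ring
    rw [this]; ring
  have h2 : e' * e' - e' = -(e * e') := by
    have : e = 1 - e' := by rw [← hsum]; ring
    rw [this]; ring
  rw [h1, h2]
  exact ⟨neg_mem hk, neg_mem hk⟩

theorem tensor_idem' (S : Type u) [CommSemiring S] [Algebra A S] :
    ((1 : S) ⊗ₜ[A] e) * ((1 : S) ⊗ₜ[A] e) = (1 : S) ⊗ₜ[A] e + (1 : S) ⊗ₜ[A] (e * e - e) ∧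
    ((1 : S) ⊗ₜ[A] e) * ((1 : S) ⊗ₜ[A] e') = (1 : S) ⊗ₜ[A] (e * e') ∧
    ((1 : S) ⊗ₜ[A] e') * ((1 : S) ⊗ₜ[A] e') = (1 : S) ⊗ₜ[A] e' + (1 : S) ⊗ₜ[A] (e' * e' - e') := by
  refine ⟨?_, ?_, ?_⟩
  · rw [Algebra.TensorProduct.tmul_mul_tmul, one_mul, ← TensorProduct.tmul_add]
    congr 1; ring
  · rw [Algebra.TensorProduct.tmul_mul_tmul, one_mul]
  · rw [Algebra.TensorProduct.tmul_mul_tmul, one_mul, ← TensorProduct.tmul_add]
    congr 1; ring

theorem idem_mul' {T : Type*} [CommSemiring T] (ê ê' n₁ n₂ n₃ x y : T) (h1 : ê * ê = ê + n₁)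
    (h2 : ê * ê' = n₂) (h3 : ê' * ê' = ê' + n₃) :
    (x * ê + ê') * (y * ê + ê') = (x * y * ê + ê') + (x * y * n₁ + (x + y) * n₂ + 1 * n₃) := by
  calc (x * ê + ê') * (y * ê + ê') = x * y * (ê * ê) + (x + y) * (ê * ê') + ê' * ê' := by ring
    _ = _ := by rw [h1, h2, h3]; ring

theorem idem_split' {T : Type*} [CommSemiring T] (ê ê' n₁ n₂ n₃ x : T) (h1 : ê * ê = ê + n₁)
    (h2 : ê * ê' = n₂) (h3 : ê' * ê' = ê' + n₃) (h4 : ê + ê' = 1) :
    (x * ê + ê') * (x * ê' + ê) = x + (x * n₁ + (x * x + 1) * n₂ + x * n₃) := by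
  calc (x * ê + ê') * (x * ê' + ê) = (x * x + 1) * (ê * ê') + x * (ê * ê) + x * (ê' * ê') := by
        ring
    _ = x * (ê + ê') + (x * n₁ + (x * x + 1) * n₂ + x * n₃) := by rw [h1, h2, h3]; ring
    _ = _ := by rw [h4, mul_one]

theorem F_idem_mul (hM : PolLaw.IsMult F) (hk : e * e' ∈ PolLaw.ker F) (hsum : e + e' = 1)
    (S : Type u) [CommSemiring S] [Algebra A S] (x y : S ⊗[A] B) :
    F.toFun' S (x * ((1 : S) ⊗ₜ[A] e) + (1 : S) ⊗ₜ[A] e') *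
      F.toFun' S (y * ((1 : S) ⊗ₜ[A] e) + (1 : S) ⊗ₜ[A] e') =
    F.toFun' S (x * y * ((1 : S) ⊗ₜ[A] e) + (1 : S) ⊗ₜ[A] e') := by
  obtain ⟨h1, h2, h3⟩ := tensor_idem' (A := A) (e := e) (e' := e') S
  obtain ⟨k1, k3⟩ := err_mem hk hsum
  rw [← (hM S).2, idem_mul' _ _ _ _ _ _ _ h1 h2 h3, absorb₃ k1 hk k3]

theorem F_idem_split (hM : PolLaw.IsMult F) (hk : e * e' ∈ PolLaw.ker F) (hsum : e + e' = 1)
    (S : Type u) [CommSemiring S] [Algebra A S] (x : S ⊗[A] B) :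
    F.toFun' S (x * ((1 : S) ⊗ₜ[A] e) + (1 : S) ⊗ₜ[A] e') *
      F.toFun' S (x * ((1 : S) ⊗ₜ[A] e') + (1 : S) ⊗ₜ[A] e) = F.toFun' S x := by
  obtain ⟨h1, h2, h3⟩ := tensor_idem' (A := A) (e := e) (e' := e') S
  obtain ⟨k1, k3⟩ := err_mem hk hsum
  have h4 : ((1 : S) ⊗ₜ[A] e) + ((1 : S) ⊗ₜ[A] e') = 1 := by
    rw [← TensorProduct.tmul_add, hsum]; rfl
  rw [← (hM S).2, idem_split' _ _ _ _ _ _ h1 h2 h3 h4, absorb₃ k1 hk k3]

theorem aeval_Pe_mul' (hM : PolLaw.IsMult F) (hk : e * e' ∈ PolLaw.ker F) (hsum : e + e' = 1)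
    (S : Type u) [CommSemiring S] [Algebra A S] (s s' : S) :
    Polynomial.aeval s (Pe F e e') * Polynomial.aeval s' (Pe F e e') =
      Polynomial.aeval (s * s') (Pe F e e') := by
  rw [← ridA_idem F e e' S, ← ridA_idem F e e' S, ← ridA_idem F e e' S, ← map_mul]
  congr 1
  have hs : ∀ r : S, r ⊗ₜ[A] e = (r ⊗ₜ[A] (1 : B)) * ((1 : S) ⊗ₜ[A] e) := fun r => by
    rw [Algebra.TensorProduct.tmul_mul_tmul, mul_one, one_mul]
  rw [hs s, hs s', hs (s * s'), F_idem_mul hM hk hsum, Algebra.TensorProduct.tmul_mul_tmul,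
    mul_one]

theorem exists_degree [ConnectedSpace (PrimeSpectrum A)] (hM : PolLaw.IsMult F)
    (hk : e * e' ∈ PolLaw.ker F) (hsum : e + e' = 1) : ∃ k : ℕ, Pe F e e' = X ^ k :=
  eq_X_pow_of_mult (Pe F e e') (aeval_Pe_mul' hM hk hsum _ _ _) (aeval_Pe_one hM hsum A)

theorem Ge_mult' (hM : PolLaw.IsMult F) (hk : e * e' ∈ PolLaw.ker F) (hsum : e + e' = 1) :
    PolLaw.IsMult (Ge F e e') := by
  intro S _ _
  refine ⟨?_, fun x y => ?_⟩
  · rw [Ge_toFun', one_mul, ← TensorProduct.tmul_add, hsum]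
    exact (hM S).1
  · rw [Ge_toFun', Ge_toFun', Ge_toFun', F_idem_mul hM hk hsum]

theorem Ge_homog' (hM : PolLaw.IsMult F) (hk : e * e' ∈ PolLaw.ker F) (hsum : e + e' = 1) (k : ℕ)
    (hPk : Pe F e e' = X ^ k) : PolLaw.IsHomog (Ge F e e') k := by
  intro S _ _ s x
  rw [Ge_toFun', Ge_toFun']
  have hsm : ∀ z : S ⊗[A] B, s • z = (s ⊗ₜ[A] (1 : B)) * z := by
    intro z
    induction z using TensorProduct.induction_on with
    | zero => simp
    | tmul p b =>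
      rw [TensorProduct.smul_tmul', Algebra.TensorProduct.tmul_mul_tmul, smul_eq_mul, one_mul]
    | add z₁ z₂ h₁ h₂ => rw [smul_add, mul_add, h₁, h₂]
  have hsmA : ∀ (r : S) (z : S ⊗[A] A), r • z = (r ⊗ₜ[A] (1 : A)) * z := by
    intro r z
    induction z using TensorProduct.induction_on with
    | zero => simp
    | tmul p b =>
      rw [TensorProduct.smul_tmul', Algebra.TensorProduct.tmul_mul_tmul, smul_eq_mul, one_mul]
    | add z₁ z₂ h₁ h₂ => rw [smul_add, mul_add, h₁, h₂]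
  rw [hsm, ← F_idem_mul hM hk hsum, Algebra.TensorProduct.tmul_mul_tmul, mul_one, one_mul,
    toFun_idem, hPk, Polynomial.aeval_X_pow, hsmA]

theorem F_eq_Ge_mul' (hM : PolLaw.IsMult F) (hk : e * e' ∈ PolLaw.ker F) (hsum : e + e' = 1)
    (S : Type u) [CommSemiring S] [Algebra A S] (x : S ⊗[A] B) :
    F.toFun' S x = (Ge F e e').toFun' S x * (Ge F e' e).toFun' S x := by
  rw [Ge_toFun', Ge_toFun', F_idem_split hM hk hsum]

theorem degree_add' [Nontrivial A] {d : ℕ} (hM : PolLaw.IsMult F) (hH : PolLaw.IsHomog F d)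
    (hk : e * e' ∈ PolLaw.ker F) (hsum : e + e' = 1) (k k' : ℕ)
    (hPk : Pe F e e' = X ^ k) (hPk' : Pe F e' e = X ^ k') : k + k' = d := by
  have e1 : F.toFun' A[X] ((X : A[X]) • (1 : A[X] ⊗[A] B)) = (X ^ d : A[X]) ⊗ₜ[A] (1 : A) := by
    rw [hH A[X], (hM A[X]).1, Algebra.TensorProduct.one_def, TensorProduct.smul_tmul', smul_eq_mul,
      mul_one]
  have hsm : (X : A[X]) • (1 : A[X] ⊗[A] B) = (X : A[X]) ⊗ₜ[A] (1 : B) := by
    rw [Algebra.TensorProduct.one_def, TensorProduct.smul_tmul', smul_eq_mul, mul_one]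
  have hs : ∀ b : B, (X : A[X]) ⊗ₜ[A] b = ((X : A[X]) ⊗ₜ[A] (1 : B)) * ((1 : A[X]) ⊗ₜ[A] b) :=
    fun b => by rw [Algebra.TensorProduct.tmul_mul_tmul, mul_one, one_mul]
  have e2 := F_idem_split hM hk hsum A[X] ((X : A[X]) ⊗ₜ[A] (1 : B))
  rw [← hs, ← hs, toFun_idem, toFun_idem, hPk, hPk', Polynomial.aeval_X_pow,
    Polynomial.aeval_X_pow, Algebra.TensorProduct.tmul_mul_tmul, mul_one, ← pow_add, ← hsm,
    e1] at e2
  have e3 := congrArg (ridA A[X]) e2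
  rw [ridA_tmul, ridA_tmul, map_one, mul_one, mul_one] at e3
  have := congrArg Polynomial.natDegree e3
  rwa [Polynomial.natDegree_X_pow, Polynomial.natDegree_X_pow] at this

theorem ker_le_ker_Ge : PolLaw.ker F ≤ PolLaw.ker (Ge F e e') := by
  intro n hn
  rw [mem_ker_iff]
  intro S _ _ x w
  rw [Ge_toFun', Ge_toFun']
  have : (x + w * ((1 : S) ⊗ₜ[A] n)) * ((1 : S) ⊗ₜ[A] e) + (1 : S) ⊗ₜ[A] e' =
      (x * ((1 : S) ⊗ₜ[A] e) + (1 : S) ⊗ₜ[A] e') + (w * ((1 : S) ⊗ₜ[A] e)) * ((1 : S) ⊗ₜ[A] n) := by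
    ring
  rw [this, absorb₁ hn]

theorem compl_mem_ker_Ge (hk : e * e' ∈ PolLaw.ker F) : e' ∈ PolLaw.ker (Ge F e e') := by
  rw [mem_ker_iff]
  intro S _ _ x w
  rw [Ge_toFun', Ge_toFun']
  have : (x + w * ((1 : S) ⊗ₜ[A] e')) * ((1 : S) ⊗ₜ[A] e) + (1 : S) ⊗ₜ[A] e' =
      (x * ((1 : S) ⊗ₜ[A] e) + (1 : S) ⊗ₜ[A] e') + w * ((1 : S) ⊗ₜ[A] (e * e')) := by
    have h2 : ((1 : S) ⊗ₜ[A] (e * e') : S ⊗[A] B) = ((1 : S) ⊗ₜ[A] e) * ((1 : S) ⊗ₜ[A] e') := by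
      rw [Algebra.TensorProduct.tmul_mul_tmul, one_mul]
    rw [h2]; ring
  rw [this, absorb₁ hk]

/-- an element orthogonal to `e` and in the kernel of the complementary law is in the kernel -/
theorem mem_ker_of_mem_ker_Ge (hM : PolLaw.IsMult F) (hk : e * e' ∈ PolLaw.ker F)
    (hsum : e + e' = 1) (c : B) (hce : c * e ∈ PolLaw.ker F)
    (hc : c ∈ PolLaw.ker (Ge F e' e)) : c ∈ PolLaw.ker F := by
  rw [mem_ker_iff]
  intro S _ _ x w
  rw [F_eq_Ge_mul' hM hk hsum S (x + w * ((1 : S) ⊗ₜ[A] c)), F_eq_Ge_mul' hM hk hsum S x,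
    (mem_ker_iff _ c).mp hc S x w]
  congr 1
  rw [Ge_toFun', Ge_toFun']
  have : (x + w * ((1 : S) ⊗ₜ[A] c)) * ((1 : S) ⊗ₜ[A] e) + (1 : S) ⊗ₜ[A] e' =
      (x * ((1 : S) ⊗ₜ[A] e) + (1 : S) ⊗ₜ[A] e') + w * ((1 : S) ⊗ₜ[A] (c * e)) := by
    have h2 : ((1 : S) ⊗ₜ[A] (c * e) : S ⊗[A] B) = ((1 : S) ⊗ₜ[A] c) * ((1 : S) ⊗ₜ[A] e) := by
      rw [Algebra.TensorProduct.tmul_mul_tmul, one_mul]
    rw [h2]; ring
  rw [this, absorb₁ hce]

/-- if the multiplicity of `e` is zero then `e` lies in the kernel -/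
theorem mem_ker_of_degree_zero (hM : PolLaw.IsMult F) (hk : e * e' ∈ PolLaw.ker F)
    (hsum : e + e' = 1) (hP : Pe F e e' = X ^ 0) : e ∈ PolLaw.ker F := by
  have hk' : e' * e ∈ PolLaw.ker F := by rw [mul_comm]; exact hk
  have hsum' : e' + e = 1 := by rw [add_comm]; exact hsum
  -- `Ge F e e'` is constantly `1`
  have hone : ∀ (S : Type u) [CommSemiring S] [Algebra A S] (x : S ⊗[A] B),
      (Ge F e e').toFun' S x = 1 := by
    intro S _ _ x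
    have h1 := Ge_homog' hM hk hsum 0 hP S (0 : S) x
    have h2 := Ge_homog' hM hk hsum 0 hP S (0 : S) (1 : S ⊗[A] B)
    rw [zero_smul, pow_zero, one_smul] at h1 h2
    rw [← h1, h2]
    exact ((Ge_mult' hM hk hsum) S).1
  apply mem_ker_of_mem_ker_Ge hM hk' hsum' e
  · have : e * e' = e * e' := rfl
    exact hk
  · rw [mem_ker_iff]
    intro S _ _ x w
    rw [hone, hone]

end ModKer


section Count

/-- a family of pairwise orthogonal idempotents modulo the kernel, none of them in the kernel and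
with sum one modulo the kernel, has at most `d` members -/
theorem card_le_degree [ConnectedSpace (PrimeSpectrum A)] :
    ∀ (m d : ℕ) (F : B →ₚₗ[A] A), PolLaw.IsMult F → PolLaw.IsHomog F d →
      ∀ e : Fin m → B, (∀ i j, i ≠ j → e i * e j ∈ PolLaw.ker F) →
        (∑ i, e i) - 1 ∈ PolLaw.ker F → (∀ i, e i ∉ PolLaw.ker F) → m ≤ d := by
  have hnt : Nontrivial A := by
    by_contra hA
    rw [not_nontrivial_iff_subsingleton] at hA
    haveI := hA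
    have : IsEmpty (PrimeSpectrum A) := inferInstance
    exact (not_isEmpty_of_nonempty (PrimeSpectrum A)) this
  intro m
  induction m with
  | zero => intro d _ _ _ _ _ _ _; exact Nat.zero_le d
  | succ m ih =>
    intro d F hM hH e horth hsum hnz
    set e₀ := e 0 with he₀
    set e₀' := 1 - e₀ with he₀'
    have hsum₀ : e₀ + e₀' = 1 := by rw [he₀']; ring
    have hsum₀' : e₀' + e₀ = 1 := by rw [add_comm]; exact hsum₀
    have hk : e₀ * e₀' ∈ PolLaw.ker F := by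
      have h1 : e₀ * e₀' = -(e₀ * ((∑ i, e i) - 1)) + ∑ i : Fin m, e₀ * e i.succ := by
        rw [Fin.sum_univ_succ, ← Finset.mul_sum, he₀']
        ring
      rw [h1]
      refine add_mem (neg_mem (Ideal.mul_mem_left _ _ hsum)) (Ideal.sum_mem _ (fun i _ => ?_))
      exact horth 0 i.succ (Fin.succ_ne_zero i).symm
    have hk' : e₀' * e₀ ∈ PolLaw.ker F := by rw [mul_comm]; exact hk
    obtain ⟨d₀, hd₀⟩ := exists_degree hM hk hsum₀
    obtain ⟨d₀', hd₀'⟩ := exists_degree hM hk' hsum₀'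
    have hadd : d₀ + d₀' = d := degree_add' hM hH hk hsum₀ d₀ d₀' hd₀ hd₀'
    have hd₀pos : d₀ ≠ 0 := by
      rintro rfl
      exact hnz 0 (mem_ker_of_degree_zero hM hk hsum₀ hd₀)
    -- the complementary law
    have hGM := Ge_mult' hM hk' hsum₀'
    have hGH := Ge_homog' hM hk' hsum₀' d₀' hd₀'
    have hle : PolLaw.ker F ≤ PolLaw.ker (Ge F e₀' e₀) := ker_le_ker_Ge
    have he₀mem : e₀ ∈ PolLaw.ker (Ge F e₀' e₀) := compl_mem_ker_Ge hk'
    have := ih d₀' (Ge F e₀' e₀) hGM hGH (fun i => e i.succ)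
      (fun i j hij => hle (horth i.succ j.succ (fun h => hij (Fin.succ_injective _ h))))
      (by
        have h1 : (∑ i : Fin m, e i.succ) - 1 = ((∑ i, e i) - 1) - e₀ := by
          rw [Fin.sum_univ_succ]; ring
        rw [h1]
        exact sub_mem (hle hsum) he₀mem)
      (fun i hi => hnz i.succ (mem_ker_of_mem_ker_Ge hM hk hsum₀ (e i.succ)
        (horth i.succ 0 (Fin.succ_ne_zero i)) hi))
    omega

end Count

end Groth.Agent.Helper20.PLKer
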