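import Mathlib
import Groth.Agent.Lib.Helper20.PLLoc

set_option autoImplicit false
universe u
open scoped TensorProduct

namespace Groth.Agent.Helper20.PLKer

variable {A : Type u} [CommRing A] {B : Type u} [CommRing B] [Algebra A B]

section Delta
variable {n : ℕ} (s : Fin n → B)

/-- the universal defect of `β` over `A₁` -/
noncomputable def delta (F : B →ₚₗ[A] A) (A₁ : Type u) [CommRing A₁] [Algebra A A₁]
    (β : A₁ ⊗[A] B) : MvPolynomial (Fin n ⊕ Fin n) A₁ :=
  ridA _ (F.toFun' (MvPolynomial (Fin n ⊕ Fin n) A₁)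
    (x₀ s A₁ + w₀ s A₁ * Algebra.TensorProduct.map
      (IsScalarTower.toAlgHom A A₁ (MvPolynomial (Fin n ⊕ Fin n) A₁)) (AlgHom.id A B) β)) -
  ridA _ (F.toFun' (MvPolynomial (Fin n ⊕ Fin n) A₁) (x₀ s A₁))

theorem delta_eq_zero_of_mem (F : B →ₚₗ[A] A) (A₁ : Type u) [CommRing A₁] [Algebra A A₁]
    (β : A₁ ⊗[A] B) (h : β ∈ PolLaw.kerBC F A₁) : delta s F A₁ β = 0 := by
  unfold delta
  rw [(mem_kerBC_iff F A₁ β).mp h (MvPolynomial (Fin n ⊕ Fin n) A₁), sub_self]

theorem mem_of_delta_eq_zero (hs : Submodule.span A (Set.range s) = ⊤) (F : B →ₚₗ[A] A)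
    (A₁ : Type u) [CommRing A₁] [Algebra A A₁]
    (β : A₁ ⊗[A] B) (h : delta s F A₁ β = 0) : β ∈ PolLaw.kerBC F A₁ := by
  apply mem_kerBC_of_universal s hs
  unfold delta at h
  rw [sub_eq_zero] at h
  exact ridA_injective _ h

theorem map_delta (F : B →ₚₗ[A] A) {A₁ A₂ : Type u} [CommRing A₁] [Algebra A A₁] [CommRing A₂]
    [Algebra A A₂] (f : A₁ →ₐ[A] A₂) (β : A₁ ⊗[A] B) :
    MvPolynomial.map (f : A₁ →+* A₂) (delta s F A₁ β) =
      delta s F A₂ (Algebra.TensorProduct.map f (AlgHom.id A B) β) := by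
  have hmap : ∀ p, MvPolynomial.map (f : A₁ →+* A₂) p =
      (MvPolynomial.mapAlgHom f : MvPolynomial (Fin n ⊕ Fin n) A₁ →ₐ[A] _) p := fun p => rfl
  unfold delta
  rw [hmap, map_sub, ← rid_map, ← rid_map, ← compat, ← compat, map_add, map_mul, map_x₀, map_w₀]
  have hX : ∀ j, (MvPolynomial.mapAlgHom f : MvPolynomial (Fin n ⊕ Fin n) A₁ →ₐ[A] _)
      (MvPolynomial.X j) = MvPolynomial.X j := fun j => by
    rw [MvPolynomial.mapAlgHom_apply, MvPolynomial.map_X]
  simp only [hX]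
  have hβ : Algebra.TensorProduct.map
      (MvPolynomial.mapAlgHom f : MvPolynomial (Fin n ⊕ Fin n) A₁ →ₐ[A] _) (AlgHom.id A B)
      (Algebra.TensorProduct.map
        (IsScalarTower.toAlgHom A A₁ (MvPolynomial (Fin n ⊕ Fin n) A₁)) (AlgHom.id A B) β) =
      Algebra.TensorProduct.map
        (IsScalarTower.toAlgHom A A₂ (MvPolynomial (Fin n ⊕ Fin n) A₂)) (AlgHom.id A B)
        (Algebra.TensorProduct.map f (AlgHom.id A B) β) := by
    rw [← AlgHom.comp_apply, ← Algebra.TensorProduct.map_comp, ← AlgHom.comp_apply,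
      ← Algebra.TensorProduct.map_comp]
    congr 2
    refine AlgHom.ext (fun a => ?_)
    show MvPolynomial.map (f : A₁ →+* A₂) (MvPolynomial.C a) = MvPolynomial.C (f a)
    rw [MvPolynomial.map_C]
    rfl
  rw [hβ]
  rfl

end Delta


section Lim
variable {A' : Type u} [CommRing A'] [Algebra A A'] {ι : Type u} [Preorder ι]
    [IsDirected ι (fun i j => i ≤ j)] [Nonempty ι]
    (Ai : ι → Type u) [∀ i, CommRing (Ai i)] [∀ i, Algebra A (Ai i)]
    (t : ∀ i j : ι, i ≤ j → (Ai i →ₐ[A] Ai j)) (φ : ∀ i : ι, Ai i →ₐ[A] A')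

include t in
theorem exists_lift_left
    (hcomp : ∀ (i j : ι) (h : i ≤ j), (φ j).comp (t i j h) = φ i)
    (hsurj : ∀ a : A', ∃ (i : ι) (x : Ai i), φ i x = a) (β : A' ⊗[A] B) :
    ∃ (i : ι) (βi : Ai i ⊗[A] B), Algebra.TensorProduct.map (φ i) (AlgHom.id A B) βi = β := by
  induction β using TensorProduct.induction_on with
  | zero => exact ⟨Classical.arbitrary ι, 0, map_zero _⟩
  | tmul a b =>
    obtain ⟨i, x, rfl⟩ := hsurj a
    exact ⟨i, x ⊗ₜ[A] b, by rw [Algebra.TensorProduct.map_tmul]; rfl⟩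
  | add β₁ β₂ h₁ h₂ =>
    obtain ⟨i₁, y₁, rfl⟩ := h₁
    obtain ⟨i₂, y₂, rfl⟩ := h₂
    obtain ⟨j, h1, h2⟩ := exists_ge_ge i₁ i₂
    refine ⟨j, Algebra.TensorProduct.map (t i₁ j h1) (AlgHom.id A B) y₁ +
      Algebra.TensorProduct.map (t i₂ j h2) (AlgHom.id A B) y₂, ?_⟩
    rw [map_add, ← AlgHom.comp_apply, ← Algebra.TensorProduct.map_comp, hcomp,
      ← AlgHom.comp_apply, ← Algebra.TensorProduct.map_comp, hcomp, AlgHom.comp_id]

theorem exists_kill
    (hzero : ∀ (i : ι) (x : Ai i), φ i x = 0 → ∃ (j : ι) (h : i ≤ j), t i j h x = 0)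
    (htrans : ∀ (i j k : ι) (hij : i ≤ j) (hjk : j ≤ k),
      (t j k hjk).comp (t i j hij) = t i k (hij.trans hjk))
    (i : ι) (T : Finset (Ai i)) (hT : ∀ c ∈ T, φ i c = 0) :
    ∃ (k : ι) (h : i ≤ k), ∀ c ∈ T, t i k h c = 0 := by
  classical
  induction T using Finset.induction_on with
  | empty => exact ⟨i, le_rfl, fun c hc => absurd hc (Finset.notMem_empty c)⟩
  | insert c T hc ih =>
    obtain ⟨k₁, hk₁, hkill⟩ := ih (fun c' hc' => hT c' (Finset.mem_insert_of_mem hc'))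
    obtain ⟨j, hj, hcj⟩ := hzero i c (hT c (Finset.mem_insert_self c T))
    obtain ⟨k, h1, h2⟩ := exists_ge_ge k₁ j
    refine ⟨k, hk₁.trans h1, fun c' hc' => ?_⟩
    rcases Finset.mem_insert.mp hc' with rfl | hc'
    · have := congrArg (fun f => f c') (htrans i j k hj h2)
      simp only [AlgHom.comp_apply] at this
      rw [← this, hcj, map_zero]
    · have := congrArg (fun f => f c') (htrans i k₁ k hk₁ h1)
      simp only [AlgHom.comp_apply] at this
      rw [← this, hkill c' hc', map_zero]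

theorem exists_kill_poly {σ : Type*}
    (hzero : ∀ (i : ι) (x : Ai i), φ i x = 0 → ∃ (j : ι) (h : i ≤ j), t i j h x = 0)
    (htrans : ∀ (i j k : ι) (hij : i ≤ j) (hjk : j ≤ k),
      (t j k hjk).comp (t i j hij) = t i k (hij.trans hjk))
    (i : ι) (p : MvPolynomial σ (Ai i))
    (hp : MvPolynomial.map (φ i : Ai i →+* A') p = 0) :
    ∃ (k : ι) (h : i ≤ k), MvPolynomial.map (t i k h : Ai i →+* Ai k) p = 0 := by
  classical
  obtain ⟨k, hk, hkill⟩ := exists_kill Ai t φ hzero htrans i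
    (p.support.image (fun e => p.coeff e)) (by
      intro c hc
      obtain ⟨e, _, rfl⟩ := Finset.mem_image.mp hc
      have := congrArg (MvPolynomial.coeff e) hp
      rwa [MvPolynomial.coeff_map, MvPolynomial.coeff_zero] at this)
  refine ⟨k, hk, ?_⟩
  ext e
  rw [MvPolynomial.coeff_map, MvPolynomial.coeff_zero]
  by_cases he : e ∈ p.support
  · exact hkill _ (Finset.mem_image_of_mem _ he)
  · rw [MvPolynomial.notMem_support_iff.mp he]
    exact map_zero _

theorem map_kerBC_le (F : B →ₚₗ[A] A) (i : ι) :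
    (PolLaw.kerBC F (Ai i)).map (Algebra.TensorProduct.map (φ i) (AlgHom.id A B)) ≤
      PolLaw.kerBC F A' := by
  rw [Ideal.map_le_iff_le_comap]
  intro βi hβi
  rw [Ideal.mem_comap, mem_kerBC_iff]
  intro R _ _ _ _ x w
  letI algR : Algebra (Ai i) R := ((algebraMap A' R).comp (φ i : Ai i →+* A')).toAlgebra
  haveI : IsScalarTower A (Ai i) R := IsScalarTower.of_algebraMap_eq (fun a => by
    show algebraMap A R a = algebraMap A' R (φ i (algebraMap A (Ai i) a))
    rw [AlgHom.commutes, ← IsScalarTower.algebraMap_apply])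
  have h1 := (mem_kerBC_iff F (Ai i) βi).mp hβi R x w
  have h2 : Algebra.TensorProduct.map (IsScalarTower.toAlgHom A A' R) (AlgHom.id A B)
      (Algebra.TensorProduct.map (φ i) (AlgHom.id A B) βi) =
      Algebra.TensorProduct.map (IsScalarTower.toAlgHom A (Ai i) R) (AlgHom.id A B) βi := by
    rw [← AlgHom.comp_apply, ← Algebra.TensorProduct.map_comp]
    congr 2
  rw [h2]
  exact h1

/-- for a finite algebra, the kernel of the base change of a law to a filtered colimit of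
algebras is the union of the kernels at the finite stages -/
theorem kerBC_eq_iSup [Module.Finite A B] (F : B →ₚₗ[A] A)
    (hcomp : ∀ (i j : ι) (h : i ≤ j), (φ j).comp (t i j h) = φ i)
    (hsurj : ∀ a : A', ∃ (i : ι) (x : Ai i), φ i x = a)
    (hzero : ∀ (i : ι) (x : Ai i), φ i x = 0 → ∃ (j : ι) (h : i ≤ j), t i j h x = 0)
    (htrans : ∀ (i j k : ι) (hij : i ≤ j) (hjk : j ≤ k),
      (t j k hjk).comp (t i j hij) = t i k (hij.trans hjk)) :
    PolLaw.kerBC F A' =
      ⨆ i : ι, (PolLaw.kerBC F (Ai i)).map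
        (Algebra.TensorProduct.map (φ i) (AlgHom.id A B)) := by
  apply le_antisymm
  · intro β hβ
    obtain ⟨n, s, hs⟩ := Module.Finite.exists_fin (R := A) (M := B)
    obtain ⟨i, βi, rfl⟩ := exists_lift_left Ai t φ hcomp hsurj β
    have h0 := delta_eq_zero_of_mem s F A' _ hβ
    rw [← map_delta s F (φ i) βi] at h0
    obtain ⟨k, hk, hkill⟩ := exists_kill_poly Ai t φ hzero htrans i _ h0
    rw [map_delta s F (t i k hk) βi] at hkill
    have hmem := mem_of_delta_eq_zero s hs F (Ai k) _ hkill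
    have h3 : Algebra.TensorProduct.map (φ i) (AlgHom.id A B) βi =
        Algebra.TensorProduct.map (φ k) (AlgHom.id A B)
          (Algebra.TensorProduct.map (t i k hk) (AlgHom.id A B) βi) := by
      rw [← AlgHom.comp_apply, ← Algebra.TensorProduct.map_comp, hcomp, AlgHom.comp_id]
    rw [h3]
    exact (le_iSup (fun i => (PolLaw.kerBC F (Ai i)).map
      (Algebra.TensorProduct.map (φ i) (AlgHom.id A B))) k) (Ideal.mem_map_of_mem _ hmem)
  · exact iSup_le (fun i => map_kerBC_le Ai φ F i)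

end Lim

end Groth.Agent.Helper20.PLKer
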