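import Groth.Agent.Lib.Helper20.PCoc5
import Groth.Agent.Lib.Helper20.CycAlg2

set_option autoImplicit false
universe u v w w'

namespace Groth.Agent.Helper20.PerInd
open scoped TensorProduct
open Groth.Agent.Helper20.PCoc Groth.Agent.Helper20.TPow

section Central
variable (k : Type u) [Field k] (A : Type w) [Ring A] [Algebra k A] (B : Type w') [Ring B] [Algebra k B]

variable {k A B} in
/-- universe-polymorphic transport of centrality -/
theorem isCentral_of_algEquiv (e : A ≃ₐ[k] B) [Algebra.IsCentral k A] : Algebra.IsCentral k B := by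
  constructor
  intro z hz
  rw [Subalgebra.mem_center_iff] at hz
  have h1 : e.symm z ∈ Subalgebra.center k A := by
    rw [Subalgebra.mem_center_iff]
    intro a
    apply e.injective
    rw [map_mul, map_mul, e.apply_symm_apply]
    exact hz (e a)
  obtain ⟨x, hx⟩ := (Algebra.IsCentral.center_eq_bot k A ▸ h1 : e.symm z ∈ (⊥ : Subalgebra k A))
  refine ⟨x, ?_⟩
  have : e (algebraMap k A x) = z := by
    have hx' : algebraMap k A x = e.symm z := hx
    rw [hx', e.apply_symm_apply]
  rw [← this, e.commutes]
  rfl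

/-- the tensor product of central algebras over a field is central -/
theorem isCentral_tensor [Nontrivial A] [Algebra.IsCentral k A] [Algebra.IsCentral k B] :
    Algebra.IsCentral k (A ⊗[k] B) := by
  constructor
  intro z hz
  have h1 : z ∈ Subalgebra.centralizer k
      ((Algebra.TensorProduct.includeLeft : A →ₐ[k] A ⊗[k] B).range : Set (A ⊗[k] B)) :=
    Subalgebra.center_le_centralizer k _ hz
  rw [Subalgebra.centralizer_coe_range_includeLeft_eq_center_tensorProduct] at h1
  obtain ⟨w, hw⟩ := h1
  have hw' : Algebra.TensorProduct.map (Subalgebra.center k A).val (AlgHom.id k B) w = z := hw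
  -- `w` comes from `1 ⊗ b`
  have h2 : ∀ w : (Subalgebra.center k A) ⊗[k] B, ∃ b : B,
      Algebra.TensorProduct.map (Subalgebra.center k A).val (AlgHom.id k B) w = (1 : A) ⊗ₜ[k] b := by
    intro w
    induction w using TensorProduct.induction_on with
    | zero => exact ⟨0, by simp⟩
    | tmul c b =>
      obtain ⟨x, hx⟩ := (Algebra.IsCentral.center_eq_bot k A ▸ c.2 : (c : A) ∈ (⊥ : Subalgebra k A))
      refine ⟨x • b, ?_⟩
      rw [Algebra.TensorProduct.map_tmul, TensorProduct.tmul_smul, TensorProduct.smul_tmul',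
        ← Algebra.algebraMap_eq_smul_one]
      show (c : A) ⊗ₜ[k] b = _
      rw [← hx]
      rfl
    | add x y hx hy =>
      obtain ⟨b, hb⟩ := hx
      obtain ⟨b', hb'⟩ := hy
      exact ⟨b + b', by rw [map_add, hb, hb', TensorProduct.tmul_add]⟩
  obtain ⟨b, hb⟩ := h2 w
  rw [hb] at hw'
  subst hw'
  rw [Subalgebra.mem_center_iff] at hz
  have hinj : Function.Injective (Algebra.TensorProduct.includeRight : B →ₐ[k] A ⊗[k] B) :=
    Algebra.TensorProduct.includeRight_injective (FaithfulSMul.algebraMap_injective k A)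
  have hbc : b ∈ Subalgebra.center k B := by
    rw [Subalgebra.mem_center_iff]
    intro b'
    apply hinj
    have := hz ((1 : A) ⊗ₜ[k] b')
    rw [Algebra.TensorProduct.tmul_mul_tmul, Algebra.TensorProduct.tmul_mul_tmul, mul_one] at this
    exact this
  obtain ⟨x, hx⟩ := (Algebra.IsCentral.center_eq_bot k B ▸ hbc : b ∈ (⊥ : Subalgebra k B))
  refine ⟨x, ?_⟩
  rw [← hx]
  show algebraMap k (A ⊗[k] B) x = _
  rw [Algebra.algebraMap_eq_smul_one, Algebra.TensorProduct.one_def, ← TensorProduct.tmul_smul,
    ← Algebra.algebraMap_eq_smul_one]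
  rfl

end Central

section TPowCSA
variable (k : Type u) [Field k] (A : Type w) [Ring A] [Algebra k A]
  [Algebra.IsCentral k A] [IsSimpleRing A] [FiniteDimensional k A]

/-- tensor powers of a central simple algebra are central simple -/
theorem tpow_csa (e : ℕ) (he : 1 ≤ e) :
    IsSimpleRing (CSAGal.tpow k A e) ∧ Algebra.IsCentral k (CSAGal.tpow k A e) ∧
    FiniteDimensional k (CSAGal.tpow k A e) ∧
    Module.finrank k (CSAGal.tpow k A e) = Module.finrank k A ^ e := by
  induction e, he using Nat.le_induction with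
  | base =>
    refine ⟨IsSimpleRing.of_ringEquiv (tpowOne k A).symm.toRingEquiv inferInstance,
      isCentral_of_algEquiv (tpowOne k A).symm,
      Module.Finite.equiv (tpowOne k A).symm.toLinearEquiv, ?_⟩
    rw [(tpowOne k A).toLinearEquiv.finrank_eq, pow_one]
  | succ e he ih =>
    obtain ⟨h1, h2, h3, h4⟩ := ih
    haveI : IsSimpleRing (CSAGal.tpow k A e ⊗[k] A) :=
      Groth.Agent.Helper17.isSimpleRing_tensor k (CSAGal.tpow k A e) A
    haveI : Algebra.IsCentral k (CSAGal.tpow k A e ⊗[k] A) := isCentral_tensor k _ A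
    refine ⟨IsSimpleRing.of_ringEquiv (tpowSucc k A e).symm.toRingEquiv inferInstance,
      isCentral_of_algEquiv (tpowSucc k A e).symm,
      Module.Finite.equiv (tpowSucc k A e).symm.toLinearEquiv, ?_⟩
    rw [(tpowSucc k A e).toLinearEquiv.finrank_eq, Module.finrank_tensorProduct, h4, pow_succ]

end TPowCSA

section Main
variable {k : Type u} {K : Type v} [Field k] [Field K] [Algebra k K] [FiniteDimensional k K]
  [IsGalois k K] {A : Type w} [Ring A] [Algebra k A]
  [Algebra.IsCentral k A] [IsSimpleRing A] [FiniteDimensional k A]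
  {r : ℕ} {c : (K ≃ₐ[k] K) → (K ≃ₐ[k] K) → Kˣ}

/-- a tensor power splits iff the corresponding power of the multiplier is a coboundary -/
theorem splits_tpow_iff (D : PDatum A r c) (hr : r ≠ 0) (hdim : Module.finrank k A = r ^ 2)
    (e : ℕ) (he : 1 ≤ e) : Curves.Splits k (CSAGal.tpow k A e) k ↔ IsCob (c ^ e) := by
  obtain ⟨h1, h2, h3, h4⟩ := tpow_csa k A e he
  obtain ⟨De⟩ := D.pow e he
  have hdim' : Module.finrank k (CSAGal.tpow k A e) = (r ^ e) ^ 2 := by
    rw [h4, hdim, ← pow_mul, ← pow_mul, mul_comm]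
  exact ⟨fun h => De.isCob_of_splits (pow_ne_zero _ hr) hdim' h,
    fun h => De.splits_of_isCob (pow_ne_zero _ hr) hdim' h⟩

end Main

end Groth.Agent.Helper20.PerInd
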