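import Groth.Agent.Lib.Helper20.PerInd

set_option autoImplicit false
universe u v w w'

namespace Groth.Agent.Helper20.PerInd
open scoped TensorProduct
open Groth.Agent.Helper20.PCoc Groth.Agent.Helper20.TPow

section MainA
variable {k : Type u} {K : Type v} [Field k] [Field K] [Algebra k K] [FiniteDimensional k K]
  [IsGalois k K] {A : Type w} [Ring A] [Algebra k A]
  [Algebra.IsCentral k A] [IsSimpleRing A] [FiniteDimensional k A]

/-- datum from a splitting, with its size -/
theorem exists_datum_of_splits (hA : Curves.Splits k A K) :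
    ∃ (r : ℕ) (c : (K ≃ₐ[k] K) → (K ≃ₐ[k] K) → Kˣ), r ≠ 0 ∧ Module.finrank k A = r ^ 2 ∧
      Nonempty (PDatum A r c) := by
  obtain ⟨n, hn, ⟨φ⟩⟩ := hA
  obtain ⟨c, ⟨D⟩⟩ := exists_datum hn φ
  exact ⟨n, c, hn, Groth.Agent.Helper20.CycAlg.size_eq' φ, ⟨D⟩⟩

/-- the relative Brauer group of a Galois extension of degree `n` is killed by `n` -/
theorem splits_tpow_finrank (hA : Curves.Splits k A K) :
    Curves.Splits k (CSAGal.tpow k A (Module.finrank k K)) k := by
  obtain ⟨r, c, hr, hdim, ⟨D⟩⟩ := exists_datum_of_splits hA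
  have hpos : 1 ≤ Module.finrank k K := Module.finrank_pos
  rw [splits_tpow_iff D hr hdim _ hpos]
  have h1 := isCob_pow_card (D.isCoc (Nat.pos_of_ne_zero hr))
  have h2 : Fintype.card (K ≃ₐ[k] K) = Module.finrank k K := by
    rw [← Nat.card_eq_fintype_card]
    exact IsGalois.card_aut_eq_finrank k K
  rwa [h2] at h1

end MainA

end Groth.Agent.Helper20.PerInd
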