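import Groth.Agent.Lib.Helper20.PerInd2
import Groth.Agent.S0201

set_option autoImplicit false
universe u v w w'

namespace Groth.Agent.Helper20.PerInd
open scoped TensorProduct
open Groth.Agent.Helper20.PCoc Groth.Agent.Helper20.TPow

section MainB
variable {k : Type u} [Field k] {A : Type w} [Ring A] [Algebra k A]
  [Algebra.IsCentral k A] [IsSimpleRing A] [FiniteDimensional k A]
  {D : Type w'} [DivisionRing D] [Algebra k D] [Algebra.IsCentral k D] [FiniteDimensional k D]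

/-- Galois splitting data for `A ≃ M_m(D)`: data of sizes `d` for `D` and `d * m` for `A`
with a common multiplier. -/
theorem exists_galois_datum {m : ℕ} (iso : A ≃ₐ[k] Matrix (Fin m) (Fin m) D) {d : ℕ}
    (hd : Module.finrank k D = d ^ 2) :
    ∃ (K : Type u) (_ : Field K) (_ : Algebra k K) (_ : FiniteDimensional k K) (_ : IsGalois k K)
      (c : (K ≃ₐ[k] K) → (K ≃ₐ[k] K) → Kˣ), d ≠ 0 ∧ m ≠ 0 ∧ Nonempty (PDatum D d c) ∧
        Nonempty (PDatum A (d * m) c) ∧ Module.finrank k A = (d * m) ^ 2 := by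
  obtain ⟨K, _, _, hfin, hgal, hs⟩ := Groth.Agent.S0201.result k D
  obtain ⟨r, c, hr, hdim, ⟨D₀⟩⟩ := exists_datum_of_splits hs
  have hrd : r = d := by
    rw [hd] at hdim
    exact (Nat.pow_left_injective (n := 2) (by norm_num) hdim).symm
  subst hrd
  have hm : m ≠ 0 := by
    rintro rfl
    have : Subsingleton A := iso.toEquiv.subsingleton
    exact not_subsingleton A this
  refine ⟨K, _, _, hfin, hgal, c, hr, hm, ⟨D₀⟩, ⟨(D₀.matrix m).congr iso.symm⟩, ?_⟩
  rw [iso.toLinearEquiv.finrank_eq, Module.finrank_matrix, hd]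
  simp only [Fintype.card_fin]
  ring

/-- the period divides the index: the `d`-th tensor power is split -/
theorem splits_tpow_index {m : ℕ} (iso : A ≃ₐ[k] Matrix (Fin m) (Fin m) D) {d : ℕ}
    (hd : Module.finrank k D = d ^ 2) : Curves.Splits k (CSAGal.tpow k A d) k := by
  obtain ⟨K, _, _, hfin, hgal, c, hd0, hm0, ⟨D₀⟩, ⟨DA⟩, hdimA⟩ := exists_galois_datum iso hd
  rw [splits_tpow_iff DA (mul_ne_zero hd0 hm0) hdimA d (Nat.pos_of_ne_zero hd0)]
  exact D₀.isCob_pow

end MainB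

section Order
variable {k : Type u} {K : Type v} [Field k] [Field K] [Algebra k K] [FiniteDimensional k K]
  [IsGalois k K] {A : Type w} [Ring A] [Algebra k A]
  [Algebra.IsCentral k A] [IsSimpleRing A] [FiniteDimensional k A]
  {r : ℕ} {c : (K ≃ₐ[k] K) → (K ≃ₐ[k] K) → Kˣ}

/-- the class of a multiplier modulo coboundaries -/
def cls (c : (K ≃ₐ[k] K) → (K ≃ₐ[k] K) → Kˣ) :
    ((K ≃ₐ[k] K) → (K ≃ₐ[k] K) → Kˣ) ⧸ cobSubgroup k K := QuotientGroup.mk c

omit [FiniteDimensional k K] [IsGalois k K] in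
theorem isCob_pow_iff (c : (K ≃ₐ[k] K) → (K ≃ₐ[k] K) → Kˣ) (e : ℕ) :
    IsCob (c ^ e) ↔ orderOf (cls c) ∣ e := by
  rw [orderOf_dvd_iff_pow_eq_one]
  show _ ↔ (QuotientGroup.mk c : _ ⧸ cobSubgroup k K) ^ e = 1
  rw [← QuotientGroup.mk_pow, QuotientGroup.eq_one_iff]
  rfl

theorem splits_tpow_iff_dvd (D : PDatum A r c) (hr : r ≠ 0) (hdim : Module.finrank k A = r ^ 2)
    (e : ℕ) (he : 1 ≤ e) : Curves.Splits k (CSAGal.tpow k A e) k ↔ orderOf (cls c) ∣ e := by
  rw [splits_tpow_iff D hr hdim e he, isCob_pow_iff]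

/-- the period is the order of the class of the multiplier -/
theorem isPeriod_iff (D : PDatum A r c) (hr : r ≠ 0) (hdim : Module.finrank k A = r ^ 2) (p : ℕ) :
    CSAGal.IsPeriod k A p ↔ 0 < p ∧ orderOf (cls c) = p := by
  constructor
  · rintro ⟨hp, hs, hmin⟩
    refine ⟨hp, ?_⟩
    rw [splits_tpow_iff_dvd D hr hdim p hp] at hs
    have ho : 0 < orderOf (cls c) := Nat.pos_of_dvd_of_pos hs hp
    by_contra hne
    have hlt : orderOf (cls c) < p := lt_of_le_of_ne (Nat.le_of_dvd hp hs) hne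
    exact hmin _ ho hlt ((splits_tpow_iff_dvd D hr hdim _ ho).mpr dvd_rfl)
  · rintro ⟨hp, rfl⟩
    refine ⟨hp, (splits_tpow_iff_dvd D hr hdim _ hp).mpr dvd_rfl, fun e' he' hlt hs => ?_⟩
    rw [splits_tpow_iff_dvd D hr hdim e' he'] at hs
    exact absurd (Nat.le_of_dvd he' hs) (not_le.mpr hlt)

end Order

end Groth.Agent.Helper20.PerInd
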