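import Groth.Agent.Lib.Helper20.PerInd3

set_option autoImplicit false
universe u v w w'

namespace Groth.Agent.Helper20.PerInd
open scoped TensorProduct
open Groth.Agent.Helper20.PCoc Groth.Agent.Helper20.TPow

section Rep
variable {k : Type u} [Field k] {F : Type v} [Field F] [Algebra k F] [FiniteDimensional k F]
  {D : Type w'} [DivisionRing D] [Algebra k D]

omit [FiniteDimensional k F] in
/-- splitting over the base field itself gives a matrix algebra -/
theorem algEquiv_of_splits_self {B : Type w} [Ring B] [Algebra F B] (h : Curves.Splits F B F) :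
    ∃ n : ℕ, n ≠ 0 ∧ Nonempty (B ≃ₐ[F] Matrix (Fin n) (Fin n) F) := by
  obtain ⟨n, hn, ⟨φ⟩⟩ := h
  exact ⟨n, hn, ⟨(Algebra.TensorProduct.lid F B).symm.trans φ⟩⟩

/-- a matrix representation of a division algebra of degree `d` over `F` in `d × d` matrices
forces `d ∣ [F : k]` -/
theorem dvd_finrank_of_rep {d : ℕ} (hd0 : d ≠ 0) (hd : Module.finrank k D = d ^ 2)
    (ρ : D →ₐ[k] Matrix (Fin d) (Fin d) F) : d ∣ Module.finrank k F := by
  let _ : Module D (Fin d → F) := Module.compHom _ ρ.toRingHom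
  have hsmul : ∀ (x : D) (v : Fin d → F), x • v = ρ x • v := fun _ _ ↦ rfl
  have : IsScalarTower k D (Fin d → F) :=
    ⟨fun c x v ↦ by rw [hsmul, hsmul, map_smul, smul_assoc]⟩
  have h2 := Module.finrank_mul_finrank k D (Fin d → F)
  have h3 : Module.finrank k (Fin d → F) = d * Module.finrank k F := by
    rw [Module.finrank_pi_fintype]
    simp
  rw [hd, h3] at h2
  refine ⟨Module.finrank D (Fin d → F), ?_⟩
  apply Nat.eq_of_mul_eq_mul_left (Nat.pos_of_ne_zero hd0)
  rw [← h2]
  ring

end Rep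

section MainC
variable {k : Type u} [Field k] {A : Type w} [Ring A] [Algebra k A]
  [Algebra.IsCentral k A] [IsSimpleRing A] [FiniteDimensional k A]
  {D : Type w'} [DivisionRing D] [Algebra k D] [Algebra.IsCentral k D] [FiniteDimensional k D]

/-- period and index have the same prime factors -/
theorem prime_dvd_of_splits_tpow {m : ℕ} (iso : A ≃ₐ[k] Matrix (Fin m) (Fin m) D) {d : ℕ}
    (hd : Module.finrank k D = d ^ 2) {e : ℕ} (he : 0 < e)
    (hsplit : Curves.Splits k (CSAGal.tpow k A e) k) {p : ℕ} (hp : p.Prime) (hpd : p ∣ d) :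
    p ∣ e := by
  classical
  obtain ⟨K, _, _, hfin, hgal, c, hd0, hm0, ⟨D₀⟩, ⟨DA⟩, hdimA⟩ := exists_galois_datum iso hd
  have hcobe : IsCob (c ^ e) := (splits_tpow_iff DA (mul_ne_zero hd0 hm0) hdimA e he).mp hsplit
  by_contra hpe
  haveI : Fact p.Prime := ⟨hp⟩
  obtain ⟨P⟩ : Nonempty (Sylow p (K ≃ₐ[k] K)) := inferInstance
  let F : IntermediateField k K := IntermediateField.fixedField (P : Subgroup (K ≃ₐ[k] K))
  let DF := D₀.restrict F
  have hcardF : Fintype.card (K ≃ₐ[F] K) = Nat.card (P : Subgroup (K ≃ₐ[k] K)) := by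
    rw [← Nat.card_eq_fintype_card, IsGalois.card_aut_eq_finrank]
    exact IntermediateField.finrank_fixedField_eq_card _
  have h1 : IsCob ((resCoc F c) ^ Nat.card (P : Subgroup (K ≃ₐ[k] K))) := by
    rw [← hcardF]
    exact isCob_pow_card (DF.isCoc (Nat.pos_of_ne_zero hd0))
  have h2 : IsCob ((resCoc F c) ^ e) := by
    rw [← resCoc_pow]
    exact isCob_resCoc F hcobe
  rw [isCob_pow_iff] at h1 h2
  obtain ⟨a, ha⟩ := IsPGroup.iff_card.mp P.2
  rw [ha] at h1
  obtain ⟨b, hb, hob⟩ := (Nat.dvd_prime_pow hp).mp h1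
  have hb0 : b = 0 := by
    by_contra hb0
    apply hpe
    refine dvd_trans ?_ h2
    rw [hob]
    exact dvd_pow_self p hb0
  rw [hb0, pow_zero] at hob
  have hcob : IsCob (resCoc F c) := by
    have := (isCob_pow_iff (resCoc F c) 1).mpr (by rw [hob])
    rwa [pow_one] at this
  haveI : IsSimpleRing (F ⊗[k] D) := Groth.Agent.Helper17.isSimpleRing_tensor k F D
  have hdimF : Module.finrank F (F ⊗[k] D) = d ^ 2 := by
    rw [Module.finrank_baseChange, hd]
  obtain ⟨n, hn, ⟨φ⟩⟩ := algEquiv_of_splits_self (DF.splits_of_isCob hd0 hdimF hcob)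
  have hnd : n = d := by
    have h3 : Module.finrank F (F ⊗[k] D) = n ^ 2 := by
      rw [φ.toLinearEquiv.finrank_eq, Module.finrank_matrix]
      simp [sq]
    rw [hdimF] at h3
    exact (Nat.pow_left_injective (n := 2) (by norm_num) h3).symm
  subst hnd
  let ρ : D →ₐ[k] Matrix (Fin n) (Fin n) F :=
    (φ.toAlgHom.restrictScalars k).comp (Algebra.TensorProduct.includeRight : D →ₐ[k] F ⊗[k] D)
  have hdvd : n ∣ Module.finrank k F := dvd_finrank_of_rep hd0 hd ρ
  have hidx : Module.finrank k F = (P : Subgroup (K ≃ₐ[k] K)).index := by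
    have h4 := Module.finrank_mul_finrank k F K
    rw [IntermediateField.finrank_fixedField_eq_card, ← IsGalois.card_aut_eq_finrank k K,
      ← Subgroup.index_mul_card (P : Subgroup (K ≃ₐ[k] K))] at h4
    exact Nat.eq_of_mul_eq_mul_right Nat.card_pos h4
  exact P.not_dvd_index (hidx ▸ dvd_trans hpd hdvd)

end MainC

end Groth.Agent.Helper20.PerInd
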