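import Groth.Agent.Lib.Helper20.PerInd4

set_option autoImplicit false
universe u v w w'

namespace Groth.Agent.Helper20.PerInd
open scoped TensorProduct
open Groth.Agent.Helper20.PCoc Groth.Agent.Helper20.TPow

theorem dvd_pow_pred {d e : ℕ} (hd : 0 < d) (he : 0 < e)
    (h : ∀ p : ℕ, p.Prime → p ∣ d → p ∣ e) : d ∣ e ^ (d - 1) := by
  rw [← Nat.factorization_le_iff_dvd hd.ne' (pow_ne_zero _ he.ne')]
  intro p
  rw [Nat.factorization_pow, Finsupp.smul_apply, smul_eq_mul]
  by_cases hp : p.Prime
  · by_cases hpd : p ∣ d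
    · have h1 : 0 < e.factorization p := hp.factorization_pos_of_dvd he.ne' (h p hp hpd)
      have h2 : d.factorization p < d := Nat.factorization_lt p hd.ne'
      calc d.factorization p ≤ d - 1 := by omega
        _ = (d - 1) * 1 := (mul_one _).symm
        _ ≤ (d - 1) * e.factorization p := Nat.mul_le_mul_left _ h1
    · rw [Nat.factorization_eq_zero_of_not_dvd hpd]
      exact Nat.zero_le _
  · rw [Nat.factorization_eq_zero_of_not_prime _ hp]
    exact Nat.zero_le _

section Index
variable {k : Type u} [Field k] {A : Type w} [Ring A] [Algebra k A]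
  [Algebra.IsCentral k A] [IsSimpleRing A] [FiniteDimensional k A]

/-- unpack `IsIndex` with the instances on the division algebra -/
theorem IsIndex.exists {d : ℕ} (h : CSAGal.IsIndex k A d) :
    ∃ (m : ℕ) (D : Type w) (_ : DivisionRing D) (_ : Algebra k D) (_ : Algebra.IsCentral k D)
      (_ : FiniteDimensional k D), 0 < d ∧ 0 < m ∧ Module.finrank k D = d ^ 2 ∧
        Nonempty (A ≃ₐ[k] Matrix (Fin m) (Fin m) D) := by
  obtain ⟨hd0, m, D, _, _, hm, hd, ⟨iso⟩⟩ := h
  haveI : Algebra.IsCentral k (Matrix (Fin m) (Fin m) D) := isCentral_of_algEquiv iso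
  haveI : Algebra.IsCentral k D := Groth.Agent.Helper20.CycAlg.isCentral_of_matrix k D m hm
  haveI : FiniteDimensional k D := Module.finite_of_finrank_pos (by rw [hd]; positivity)
  exact ⟨m, D, _, _, inferInstance, inferInstance, hd0, hm, hd, ⟨iso⟩⟩

/-- the period divides the index, and the index divides a power of the period -/
theorem period_index {d e : ℕ} (hd : CSAGal.IsIndex k A d) (he : CSAGal.IsPeriod k A e) :
    e ∣ d ∧ d ∣ e ^ (d - 1) := by
  obtain ⟨m, D, _, _, _, _, hd0, hm, hdD, ⟨iso⟩⟩ := IsIndex.exists hd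
  constructor
  · obtain ⟨K, _, _, hfin, hgal, c, hd0', hm0, ⟨D₀⟩, ⟨DA⟩, hdimA⟩ := exists_galois_datum iso hdD
    obtain ⟨he0, hord⟩ := (isPeriod_iff DA (mul_ne_zero hd0' hm0) hdimA e).mp he
    rw [← hord, ← splits_tpow_iff_dvd DA (mul_ne_zero hd0' hm0) hdimA d hd0]
    exact splits_tpow_index iso hdD
  · exact dvd_pow_pred hd0 he.1 fun p hp hpd =>
      prime_dvd_of_splits_tpow iso hdD he.1 he.2.1 hp hpd

end Index

end Groth.Agent.Helper20.PerInd
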