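import Mathlib

/-!
# The pentagon Pfaffian matrix of a cubic through the five standard points (towards S16349)

* `det_skew6`: the determinant of a `6 × 6` alternating matrix is the square of its Pfaffian.
* `cubic4_expand`: a quaternary cubic form as an explicit combination of the twenty monomials.
* `std_position`: a quaternary cubic form vanishing at `e₀, e₁, e₂, e₃` and `(1, 1, 1, 1)` is the
  Pfaffian of a `6 × 6` alternating matrix of linear forms.
-/

open MvPolynomial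

namespace Groth.Agent.Helper20.PfB

section Skew

variable {R : Type*} [CommRing R]

/-- The general `6 × 6` alternating matrix. -/
def skew6 (a b c d e f g h i j k l m n o : R) : Matrix (Fin 6) (Fin 6) R :=
  !![0, a, b, c, d, e; -a, 0, f, g, h, i; -b, -f, 0, j, k, l; -c, -g, -j, 0, m, n;
    -d, -h, -k, -m, 0, o; -e, -i, -l, -n, -o, 0]

theorem det_skew6 (a b c d e f g h i j k l m n o : R) :
    (skew6 a b c d e f g h i j k l m n o).det =
    (a*j*o - a*k*n + a*l*m - b*g*o + b*h*n - b*i*m + c*f*o - c*h*l + c*i*k - d*f*n + d*g*l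
      - d*i*j + e*f*m - e*g*k + e*h*j)^2 := by
  simp [skew6, Matrix.det_succ_row_zero, Fin.sum_univ_succ, Fin.succAbove, Matrix.submatrix]
  ring

theorem skew6_transpose (a b c d e f g h i j k l m n o : R) :
    (skew6 a b c d e f g h i j k l m n o).transpose = -(skew6 a b c d e f g h i j k l m n o) := by
  ext p q
  fin_cases p <;> fin_cases q <;> simp [skew6]

theorem skew6_diag (a b c d e f g h i j k l m n o : R) (p : Fin 6) :
    skew6 a b c d e f g h i j k l m n o p p = 0 := by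
  fin_cases p <;> simp [skew6]

theorem skew6_entry (P : R → Prop) (h0 : P 0) (hneg : ∀ x, P x → P (-x))
    (a b c d e f g h i j k l m n o : R)
    (ha : P a) (hb : P b) (hc : P c) (hd : P d) (he : P e) (hf : P f) (hg : P g) (hh : P h)
    (hi : P i) (hj : P j) (hk : P k) (hl : P l) (hm : P m) (hn : P n) (ho : P o) (p q : Fin 6) :
    P (skew6 a b c d e f g h i j k l m n o p q) := by
  fin_cases p <;> fin_cases q <;> simp [skew6] <;> first | assumption | (apply hneg; assumption)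

end Skew

section Expand

theorem sum_AT43 {M : Type*} [AddCommMonoid M] (f : (Fin 4 → ℕ) → M) :
    ∑ t ∈ Finset.Nat.antidiagonalTuple 4 3, f t =
      ((List.Nat.antidiagonalTuple 4 3).map f).sum := by
  rfl

theorem list_AT43 : List.Nat.antidiagonalTuple 4 3 =
    [![0,0,0,3], ![0,0,1,2], ![0,0,2,1], ![0,0,3,0], ![0,1,0,2], ![0,1,1,1], ![0,1,2,0], ![0,2,0,1],
     ![0,2,1,0], ![0,3,0,0], ![1,0,0,2], ![1,0,1,1], ![1,0,2,0], ![1,1,0,1], ![1,1,1,0], ![1,2,0,0],
     ![2,0,0,1], ![2,0,1,0], ![2,1,0,0], ![3,0,0,0]] := by decide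

variable {R : Type*} [CommRing R]

theorem cubic4_expand_sum (G : MvPolynomial (Fin 4) R) (hG : G.IsHomogeneous 3) :
    G = ∑ t ∈ Finset.Nat.antidiagonalTuple 4 3,
      C (coeff (Finsupp.equivFunOnFinite.symm t) G) *
        (X 0 ^ t 0 * X 1 ^ t 1 * X 2 ^ t 2 * X 3 ^ t 3) := by
  classical
  have hsub : G.support ⊆ (Finset.Nat.antidiagonalTuple 4 3).map
      ⟨_, (Finsupp.equivFunOnFinite (α := Fin 4) (M := ℕ)).symm.injective⟩ := by
    intro d hd
    rw [Finset.mem_map]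
    refine ⟨⇑d, ?_, ?_⟩
    · rw [Finset.Nat.mem_antidiagonalTuple]
      have := hG (mem_support_iff.mp hd)
      rw [Finsupp.weight_apply] at this
      rw [← this, Finsupp.sum_fintype]
      · simp
      · intro i; simp
    · ext i
      simp
  conv_lhs => rw [G.as_sum]
  rw [Finset.sum_subset hsub (fun d _ hd => by
    rw [notMem_support_iff.mp hd, monomial_zero]), Finset.sum_map]
  refine Finset.sum_congr rfl fun t _ => ?_
  rw [monomial_eq, Finsupp.prod_fintype]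
  · simp [Fin.prod_univ_four, mul_assoc]
  · intro i; simp

/-- The coefficient of `x₀^e0 x₁^e1 x₂^e2 x₃^e3`. -/
noncomputable def cf (G : MvPolynomial (Fin 4) R) (e0 e1 e2 e3 : ℕ) : R :=
  coeff (Finsupp.equivFunOnFinite.symm ![e0, e1, e2, e3]) G

theorem cubic4_expand (G : MvPolynomial (Fin 4) R) (hG : G.IsHomogeneous 3) :
    G = C (cf G 0 0 0 3) * X 3 ^ 3 + C (cf G 0 0 1 2) * (X 2 * X 3 ^ 2)
      + C (cf G 0 0 2 1) * (X 2 ^ 2 * X 3) + C (cf G 0 0 3 0) * X 2 ^ 3
      + C (cf G 0 1 0 2) * (X 1 * X 3 ^ 2) + C (cf G 0 1 1 1) * (X 1 * X 2 * X 3)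
      + C (cf G 0 1 2 0) * (X 1 * X 2 ^ 2) + C (cf G 0 2 0 1) * (X 1 ^ 2 * X 3)
      + C (cf G 0 2 1 0) * (X 1 ^ 2 * X 2) + C (cf G 0 3 0 0) * X 1 ^ 3
      + C (cf G 1 0 0 2) * (X 0 * X 3 ^ 2) + C (cf G 1 0 1 1) * (X 0 * X 2 * X 3)
      + C (cf G 1 0 2 0) * (X 0 * X 2 ^ 2) + C (cf G 1 1 0 1) * (X 0 * X 1 * X 3)
      + C (cf G 1 1 1 0) * (X 0 * X 1 * X 2) + C (cf G 1 2 0 0) * (X 0 * X 1 ^ 2)
      + C (cf G 2 0 0 1) * (X 0 ^ 2 * X 3) + C (cf G 2 0 1 0) * (X 0 ^ 2 * X 2)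
      + C (cf G 2 1 0 0) * (X 0 ^ 2 * X 1) + C (cf G 3 0 0 0) * X 0 ^ 3 := by
  conv_lhs => rw [cubic4_expand_sum G hG, sum_AT43, list_AT43]
  simp only [List.map_cons, List.map_nil, List.sum_cons, List.sum_nil, cf]
  simp
  ring

end Expand

section Pentagon

variable {k : Type*} [CommRing k]

/-- A linear form with given coefficients. -/
noncomputable def linF (c : Fin 4 → k) : MvPolynomial (Fin 4) k :=
  C (c 0) * X 0 + C (c 1) * X 1 + C (c 2) * X 2 + C (c 3) * X 3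

lemma linF_isHomogeneous (c : Fin 4 → k) : (linF c).IsHomogeneous 1 := by
  unfold linF
  exact (((isHomogeneous_C_mul_X _ _).add (isHomogeneous_C_mul_X _ _)).add
    (isHomogeneous_C_mul_X _ _)).add (isHomogeneous_C_mul_X _ _)

/-- The pentagon matrix. -/
noncomputable def pentM
    (g2100 g2010 g2001 g1200 g1101 g1020 g1011 g1002 g0210 g0201 g0120 g0111 g0102 g0021
      g0012 : k) : Matrix (Fin 6) (Fin 6) (MvPolynomial (Fin 4) k) :=
  skew6 (linF ![0, 1, -1, 0]) 0 0 (linF ![1, -1, 0, 0])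
    (linF ![g2100 + g2010, -g2100 - g2010 - g2001 - g1101 - g1020 - g1011 - g1002 - g0201 - g0120
      - g0111 - g0102 - g0021 - g0012, g1020 + g0120, -g1002 - g0102 - g0012])
    (linF ![0, 0, 1, -1]) 0 0
    (linF ![-g2100 - g2010 - g2001, g0210 + g0201 + g0120 + g0111 + g0021, 0, g0102 + g0012])
    (linF ![0, 0, 0, 1]) 0 (linF ![g2100, g1200, 0, 0]) (linF ![1, 0, 0, 0])
    (linF ![0, g0210, g0120, 0])
    (linF ![-g1020 - g1011 - g1002 - g0102 - g0012, -g0120 - g0111 - g0021, -g0021, -g0012])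

theorem pent_det
    (g2100 g2010 g2001 g1200 g1110 g1101 g1020 g1011 g1002 g0210 g0201 g0120 g0111 g0102 g0021
      g0012 : k)
    (hsum : g2100 + g2010 + g2001 + g1200 + g1110 + g1101 + g1020 + g1011 + g1002 + g0210 + g0201
      + g0120 + g0111 + g0102 + g0021 + g0012 = 0) :
    (pentM g2100 g2010 g2001 g1200 g1101 g1020 g1011 g1002 g0210 g0201 g0120 g0111 g0102 g0021
      g0012).det =
    (C g2100 * (X 0 ^ 2 * X 1) + C g2010 * (X 0 ^ 2 * X 2) + C g2001 * (X 0 ^ 2 * X 3)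
      + C g1200 * (X 0 * X 1 ^ 2) + C g1110 * (X 0 * X 1 * X 2) + C g1101 * (X 0 * X 1 * X 3)
      + C g1020 * (X 0 * X 2 ^ 2) + C g1011 * (X 0 * X 2 * X 3) + C g1002 * (X 0 * X 3 ^ 2)
      + C g0210 * (X 1 ^ 2 * X 2) + C g0201 * (X 1 ^ 2 * X 3) + C g0120 * (X 1 * X 2 ^ 2)
      + C g0111 * (X 1 * X 2 * X 3) + C g0102 * (X 1 * X 3 ^ 2) + C g0021 * (X 2 ^ 2 * X 3)
      + C g0012 * (X 2 * X 3 ^ 2)) ^ 2 := by
  rw [pentM, det_skew6]
  congr 1
  have hg : g1110 = -(g2100 + g2010 + g2001 + g1200 + g1101 + g1020 + g1011 + g1002 + g0210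
      + g0201 + g0120 + g0111 + g0102 + g0021 + g0012) := by
    linear_combination hsum
  rw [hg]
  have e0 : ∀ a b c d : k, (![a, b, c, d] : Fin 4 → k) 0 = a := fun _ _ _ _ => rfl
  have e1 : ∀ a b c d : k, (![a, b, c, d] : Fin 4 → k) 1 = b := fun _ _ _ _ => rfl
  have e2 : ∀ a b c d : k, (![a, b, c, d] : Fin 4 → k) 2 = c := fun _ _ _ _ => rfl
  have e3 : ∀ a b c d : k, (![a, b, c, d] : Fin 4 → k) 3 = d := fun _ _ _ _ => rfl
  simp only [linF, e0, e1, e2, e3]
  simp only [map_neg, map_sub, map_add, map_zero, map_one]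
  ring

end Pentagon

end Groth.Agent.Helper20.PfB
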