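import Groth.Agent.Lib.Helper20.PfB
import Groth.Agent.Lib.Helper2.MvPolyHom

/-!
# A cubic surface through five points in general position is a linear Pfaffian (towards S16349)
-/

open MvPolynomial

namespace Groth.Agent.Helper20.PfC

open Groth.Agent.Helper20.PfB Groth.Agent.Lib.Helper2.MvPolyHom

universe u

variable {k : Type u} [Field k]

/-- A quaternary cubic form vanishing at the four coordinate points and at `(1, 1, 1, 1)` is the
Pfaffian of a `6 × 6` alternating matrix of linear forms. -/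
theorem std_position (G : MvPolynomial (Fin 4) k) (hG : G.IsHomogeneous 3)
    (h0 : eval (Pi.single (0 : Fin 4) (1 : k)) G = 0)
    (h1 : eval (Pi.single (1 : Fin 4) (1 : k)) G = 0)
    (h2 : eval (Pi.single (2 : Fin 4) (1 : k)) G = 0)
    (h3 : eval (Pi.single (3 : Fin 4) (1 : k)) G = 0)
    (hu : eval (fun _ : Fin 4 => (1 : k)) G = 0) :
    ∃ M : Matrix (Fin 6) (Fin 6) (MvPolynomial (Fin 4) k), (∀ i j, (M i j).IsHomogeneous 1) ∧
      M.transpose = -M ∧ (∀ i, M i i = 0) ∧ M.det = G ^ 2 := by
  have hE := cubic4_expand G hG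
  have c0 : cf G 3 0 0 0 = 0 := by
    have := congrArg (eval (Pi.single (0 : Fin 4) (1 : k))) hE
    rw [h0] at this
    simp at this
    exact this.symm
  have c1 : cf G 0 3 0 0 = 0 := by
    have := congrArg (eval (Pi.single (1 : Fin 4) (1 : k))) hE
    rw [h1] at this
    simp at this
    exact this.symm
  have c2 : cf G 0 0 3 0 = 0 := by
    have := congrArg (eval (Pi.single (2 : Fin 4) (1 : k))) hE
    rw [h2] at this
    simp at this
    exact this.symm
  have c3 : cf G 0 0 0 3 = 0 := by
    have := congrArg (eval (Pi.single (3 : Fin 4) (1 : k))) hE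
    rw [h3] at this
    simp at this
    exact this.symm
  have hsum : cf G 2 1 0 0 + cf G 2 0 1 0 + cf G 2 0 0 1 + cf G 1 2 0 0 + cf G 1 1 1 0
      + cf G 1 1 0 1 + cf G 1 0 2 0 + cf G 1 0 1 1 + cf G 1 0 0 2 + cf G 0 2 1 0 + cf G 0 2 0 1
      + cf G 0 1 2 0 + cf G 0 1 1 1 + cf G 0 1 0 2 + cf G 0 0 2 1 + cf G 0 0 1 2 = 0 := by
    have := congrArg (eval (fun _ : Fin 4 => (1 : k))) hE
    rw [hu] at this
    simp only [map_add, map_mul, map_pow, eval_C, eval_X, one_pow, mul_one, c0, c1, c2, c3] at this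
    linear_combination -this
  refine ⟨pentM (cf G 2 1 0 0) (cf G 2 0 1 0) (cf G 2 0 0 1) (cf G 1 2 0 0)
    (cf G 1 1 0 1) (cf G 1 0 2 0) (cf G 1 0 1 1) (cf G 1 0 0 2) (cf G 0 2 1 0) (cf G 0 2 0 1)
    (cf G 0 1 2 0) (cf G 0 1 1 1) (cf G 0 1 0 2) (cf G 0 0 2 1) (cf G 0 0 1 2), ?_, ?_, ?_, ?_⟩
  · intro i j
    exact skew6_entry (fun p : MvPolynomial (Fin 4) k => p.IsHomogeneous 1) (isHomogeneous_zero _ _ _)
      (fun x hx => hx.neg) _ _ _ _ _ _ _ _ _ _ _ _ _ _ _
      (linF_isHomogeneous _) (isHomogeneous_zero _ _ _) (isHomogeneous_zero _ _ _)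
      (linF_isHomogeneous _) (linF_isHomogeneous _) (linF_isHomogeneous _)
      (isHomogeneous_zero _ _ _) (isHomogeneous_zero _ _ _) (linF_isHomogeneous _)
      (linF_isHomogeneous _) (isHomogeneous_zero _ _ _) (linF_isHomogeneous _)
      (linF_isHomogeneous _) (linF_isHomogeneous _) (linF_isHomogeneous _) i j
  · exact skew6_transpose _ _ _ _ _ _ _ _ _ _ _ _ _ _ _
  · intro i
    exact skew6_diag _ _ _ _ _ _ _ _ _ _ _ _ _ _ _ i
  · rw [pent_det _ _ _ _ (cf G 1 1 1 0) _ _ _ _ _ _ _ _ _ _ _ hsum]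
    congr 1
    conv_rhs => rw [hE]
    rw [c0, c1, c2, c3]
    simp only [C_0, zero_mul]
    ring

section Sub

/-- The linear substitution `x ↦ A x`. -/
noncomputable def sub (A : Matrix (Fin 4) (Fin 4) k) :
    MvPolynomial (Fin 4) k →ₐ[k] MvPolynomial (Fin 4) k :=
  aeval (fun i => ∑ j, C (A i j) * X j)

lemma eval_sub (A : Matrix (Fin 4) (Fin 4) k) (y : Fin 4 → k) (G : MvPolynomial (Fin 4) k) :
    eval y (sub A G) = eval (A.mulVec y) G := by
  rw [sub, eval_aeval]
  have : (fun i => eval y (∑ j, C (A i j) * X j)) = A.mulVec y := by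
    funext i
    simp [Matrix.mulVec, dotProduct]
  rw [this]

lemma sub_X (A : Matrix (Fin 4) (Fin 4) k) (i : Fin 4) :
    sub A (X i) = ∑ j, C (A i j) * X j := by
  rw [sub, aeval_X]

lemma sub_sub (A B : Matrix (Fin 4) (Fin 4) k) (G : MvPolynomial (Fin 4) k) :
    sub A (sub B G) = sub (B * A) G := by
  have h : (sub A).comp (sub B) = sub (B * A) := by
    apply MvPolynomial.algHom_ext
    intro i
    rw [AlgHom.comp_apply, sub_X, sub_X, map_sum]
    simp only [map_mul, sub_X, Matrix.mul_apply, map_sum, Finset.sum_mul, Finset.mul_sum]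
    rw [Finset.sum_comm]
    refine Finset.sum_congr rfl fun l _ => Finset.sum_congr rfl fun j _ => ?_
    have : (sub A) (C (B i j)) = C (B i j) := by
      rw [sub, aeval_C]
      rfl
    rw [this]
    ring
  exact AlgHom.congr_fun h G

lemma sub_one (G : MvPolynomial (Fin 4) k) : sub (1 : Matrix (Fin 4) (Fin 4) k) G = G := by
  have h : sub (1 : Matrix (Fin 4) (Fin 4) k) = AlgHom.id k _ := by
    apply MvPolynomial.algHom_ext
    intro i
    rw [sub_X]
    simp [Matrix.one_apply]
  rw [h]
  rfl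

lemma sub_isHomogeneous (A : Matrix (Fin 4) (Fin 4) k) {G : MvPolynomial (Fin 4) k} {d : ℕ}
    (hG : G.IsHomogeneous d) : (sub A G).IsHomogeneous d := by
  have := hG.aeval (fun i => (∑ j, C (A i j) * X j : MvPolynomial (Fin 4) k)) (n := 1)
    (fun i => IsHomogeneous.sum _ _ _ fun j _ => isHomogeneous_C_mul_X _ _)
  rw [one_mul] at this
  exact this

/-- Transport of a Pfaffian representation along a linear change of coordinates. -/
theorem transport (A Ainv : Matrix (Fin 4) (Fin 4) k) (hA : A * Ainv = 1)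
    (F : MvPolynomial (Fin 4) k)
    (h : ∃ M : Matrix (Fin 6) (Fin 6) (MvPolynomial (Fin 4) k),
      (∀ i j, (M i j).IsHomogeneous 1) ∧ M.transpose = -M ∧ (∀ i, M i i = 0) ∧
        M.det = (sub A F) ^ 2) :
    ∃ M : Matrix (Fin 6) (Fin 6) (MvPolynomial (Fin 4) k),
      (∀ i j, (M i j).IsHomogeneous 1) ∧ M.transpose = -M ∧ (∀ i, M i i = 0) ∧
        M.det = F ^ 2 := by
  obtain ⟨M', hh, ht, hd, hdet⟩ := h
  refine ⟨M'.map (sub Ainv), fun i j => sub_isHomogeneous _ (hh i j), ?_, ?_, ?_⟩
  · rw [← Matrix.transpose_map, ht]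
    ext i j
    simp
  · intro i
    rw [Matrix.map_apply, hd i, map_zero]
  · have := (sub Ainv).toRingHom.map_det M'
    rw [RingHom.mapMatrix_apply] at this
    have h2 : M'.map (sub Ainv) = M'.map ((sub Ainv).toRingHom) := rfl
    rw [h2, ← this, hdet]
    show (sub Ainv) ((sub A F) ^ 2) = F ^ 2
    rw [map_pow, sub_sub, hA, sub_one]

end Sub

/-- A cubic form vanishing at five points in general position is the Pfaffian of a `6 × 6`
alternating matrix of linear forms. -/
theorem of_five_points (F : MvPolynomial (Fin 4) k) (hF : F.IsHomogeneous 3)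
    (p : Fin 5 → (Fin 4 → k)) (hp : ∀ j : Fin 5, eval (p j) F = 0)
    (hgen : ∀ j : Fin 5, LinearIndependent k (fun i : Fin 4 => p (j.succAbove i))) :
    ∃ M : Matrix (Fin 6) (Fin 6) (MvPolynomial (Fin 4) k),
      (∀ i j, (M i j).IsHomogeneous 1) ∧ M.transpose = -M ∧ (∀ i, M i i = 0) ∧
        M.det = F ^ 2 := by
  classical
  have li : LinearIndependent k (fun i : Fin 4 => p i.castSucc) := by
    have := hgen (Fin.last 4)
    simp only [Fin.succAbove_last] at this
    exact this
  set b := basisOfLinearIndependentOfCardEqFinrank li (by simp) with hb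
  have hbv : ∀ i, b i = p i.castSucc := by
    intro i
    rw [hb, coe_basisOfLinearIndependentOfCardEqFinrank]
  set u : Fin 4 → k := b.equivFun (p (Fin.last 4)) with hu
  have hsum : ∑ i, u i • p i.castSucc = p (Fin.last 4) := by
    have := b.sum_equivFun (p (Fin.last 4))
    simp only [hbv] at this
    exact this
  have hu0 : ∀ j, u j ≠ 0 := by
    intro j huj
    set coef : Fin 5 → k := fun l => Fin.lastCases (-1 : k) (fun i => u i) l with hcoef
    have hrel : ∑ l : Fin 5, coef l • p l = 0 := by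
      rw [Fin.sum_univ_castSucc]
      simp only [hcoef, Fin.lastCases_castSucc, Fin.lastCases_last]
      rw [hsum]
      simp
    rw [Fin.sum_univ_succAbove _ j.castSucc] at hrel
    have hcj : coef j.castSucc = 0 := by
      simp only [hcoef, Fin.lastCases_castSucc]
      exact huj
    rw [hcj, zero_smul, zero_add] at hrel
    have hall := Fintype.linearIndependent_iff.mp (hgen j.castSucc)
      (fun i => coef (j.castSucc.succAbove i)) hrel
    obtain ⟨z, hz⟩ := Fin.exists_succAbove_eq (x := Fin.last 4) (y := j.castSucc)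
      (by
        intro h
        have := congrArg Fin.val h
        simp at this
        omega)
    have := hall z
    simp only [hz, hcoef, Fin.lastCases_last] at this
    exact one_ne_zero (neg_eq_zero.mp this)
  set b' := b.unitsSMul (fun j => Units.mk0 (u j) (hu0 j)) with hb'
  have hb'v : ∀ j, b' j = u j • p j.castSucc := by
    intro j
    rw [hb', Module.Basis.unitsSMul_apply, hbv]
    rfl
  set A := (Pi.basisFun k (Fin 4)).toMatrix b' with hAdef
  set Ainv := b'.toMatrix (Pi.basisFun k (Fin 4)) with hAinv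
  have hA : A * Ainv = 1 := Module.Basis.toMatrix_mul_toMatrix_flip _ _
  have hAij : ∀ i j, A i j = u j * p j.castSucc i := by
    intro i j
    rw [hAdef, Module.Basis.toMatrix_apply, Pi.basisFun_repr, hb'v]
    rfl
  have hAe : ∀ j, A.mulVec (Pi.single j 1) = u j • p j.castSucc := by
    intro j
    rw [Matrix.mulVec_single_one]
    funext i
    rw [Matrix.col_apply, hAij]
    rfl
  have hA1 : A.mulVec (fun _ => (1 : k)) = p (Fin.last 4) := by
    funext i
    rw [← hsum]
    simp only [Matrix.mulVec, dotProduct, hAij, mul_one, Finset.sum_apply, Pi.smul_apply,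
      smul_eq_mul]
  have hz : ∀ j : Fin 4, eval (Pi.single j (1 : k)) (sub A F) = 0 := by
    intro j
    rw [eval_sub, hAe, eval_smul_of_isHomogeneous hF, hp, mul_zero]
  apply transport A Ainv hA F
  apply std_position (sub A F) (sub_isHomogeneous A hF) (hz 0) (hz 1) (hz 2) (hz 3)
  rw [eval_sub, hA1, hp]

end Groth.Agent.Helper20.PfC
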