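import Mathlib

set_option autoImplicit false
universe u

namespace Groth.Agent.Helper20.PiLoc

open Classical in

noncomputable def ind {ι : Type u} (R : ι → Type u) [∀ i, CommRing (R i)] (S : Set ι) : ∀ i, R i :=
  fun i => if i ∈ S then 1 else 0

section
variable {ι : Type u} (R : ι → Type u) [∀ i, CommRing (R i)]

theorem ind_mem {S : Set ι} {i : ι} (h : i ∈ S) : ind R S i = 1 := by
  simp [ind, h]

theorem ind_not_mem {S : Set ι} {i : ι} (h : i ∉ S) : ind R S i = 0 := by
  simp [ind, h]

theorem ind_add_compl (S : Set ι) : ind R S + ind R Sᶜ = 1 := by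
  funext i
  by_cases h : i ∈ S
  · simp [ind, h]
  · simp [ind, h]

theorem ind_mul_compl (S : Set ι) : ind R S * ind R Sᶜ = 0 := by
  funext i
  by_cases h : i ∈ S
  · simp [ind, h]
  · simp [ind, h]

theorem ind_inter (S T : Set ι) : ind R (S ∩ T) = ind R S * ind R T := by
  funext i
  by_cases h : i ∈ S <;> by_cases h' : i ∈ T <;> simp [ind, h, h']

variable {R}
variable (P : Ideal (∀ i, R i))

theorem ind_or_compl [P.IsPrime] (S : Set ι) : ind R S ∉ P ∨ ind R Sᶜ ∉ P := by
  by_contra h
  push Not at h
  have : (1 : ∀ i, R i) ∈ P := by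
    rw [← ind_add_compl R S]
    exact P.add_mem h.1 h.2
  exact (Ideal.IsPrime.ne_top inferInstance) ((Ideal.eq_top_iff_one P).mpr this)

theorem ind_inter_not_mem [P.IsPrime] {S T : Set ι} (hS : ind R S ∉ P) (hT : ind R T ∉ P) : ind R (S ∩ T) ∉ P := by
  rw [ind_inter]
  intro h
  rcases (Ideal.IsPrime.mem_or_mem inferInstance h) with h | h
  · exact hS h
  · exact hT h


theorem ind_support_not_mem {x : ∀ i, R i} (hx : x ∉ P) : ind R {i | x i ≠ 0} ∉ P := by
  intro h
  apply hx
  have : x = x * ind R {i | x i ≠ 0} := by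
    funext i
    by_cases hi : x i = 0
    · simp [hi]
    · have : i ∈ {i | x i ≠ 0} := hi
      simp [ind_mem R this]
  rw [this]
  exact P.mul_mem_left _ h


theorem algebraMap_eq_of_eqOn [P.IsPrime] {S : Set ι} (hS : ind R S ∉ P) {x y : ∀ i, R i}
    (h : ∀ i ∈ S, x i = y i) :
    algebraMap (∀ i, R i) (Localization.AtPrime P) x = algebraMap _ (Localization.AtPrime P) y := by
  rw [IsLocalization.eq_iff_exists P.primeCompl]
  refine ⟨⟨ind R S, hS⟩, ?_⟩
  funext i
  by_cases hi : i ∈ S
  · simp [ind_mem R hi, h i hi]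
  · simp [ind_not_mem R hi]


theorem ind_support_not_mem_of_algebraMap_ne_zero [P.IsPrime] {x : ∀ i, R i}
    (hx : algebraMap (∀ i, R i) (Localization.AtPrime P) x ≠ 0) : ind R {i | x i ≠ 0} ∉ P := by
  intro h
  apply hx
  have h2 : ind R {i | x i ≠ 0}ᶜ ∉ P := by
    rcases ind_or_compl P {i | x i ≠ 0} with h' | h'
    · exact absurd h h'
    · exact h'
  rw [← map_zero (algebraMap (∀ i, R i) (Localization.AtPrime P))]
  apply algebraMap_eq_of_eqOn P h2
  intro i hi
  simpa using hi

theorem isDomain [P.IsPrime] [∀ i, IsDomain (R i)] : IsDomain (Localization.AtPrime P) := by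
  have : NoZeroDivisors (Localization.AtPrime P) := by
    refine ⟨fun {a b} hab => ?_⟩
    by_contra hne
    push Not at hne
    obtain ⟨⟨x, s⟩, rfl⟩ := IsLocalization.mk'_surjective P.primeCompl a
    obtain ⟨⟨y, t⟩, rfl⟩ := IsLocalization.mk'_surjective P.primeCompl b
    have hx : algebraMap (∀ i, R i) (Localization.AtPrime P) x ≠ 0 := by
      intro h0
      apply hne.1
      simp only
      rw [IsLocalization.mk'_eq_mul_mk'_one, h0, zero_mul]
    have hy : algebraMap (∀ i, R i) (Localization.AtPrime P) y ≠ 0 := by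
      intro h0
      apply hne.2
      simp only
      rw [IsLocalization.mk'_eq_mul_mk'_one, h0, zero_mul]
    simp only at hab
    rw [← IsLocalization.mk'_mul, IsLocalization.mk'_eq_zero_iff] at hab
    obtain ⟨c, hc⟩ := hab
    have h1 := ind_support_not_mem_of_algebraMap_ne_zero P hx
    have h2 := ind_support_not_mem_of_algebraMap_ne_zero P hy
    have h3 := ind_support_not_mem P c.2
    have h4 := ind_inter_not_mem P (ind_inter_not_mem P h1 h2) h3
    apply h4
    have : ind R ({i | x i ≠ 0} ∩ {i | y i ≠ 0} ∩ {i | (c : ∀ i, R i) i ≠ 0}) = 0 := by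
      funext i
      by_cases hi : i ∈ ({i | x i ≠ 0} ∩ {i | y i ≠ 0} ∩ {i | (c : ∀ i, R i) i ≠ 0})
      · exfalso
        obtain ⟨⟨hxi, hyi⟩, hci⟩ := hi
        have := congrFun hc i
        simp only [Pi.mul_apply, Pi.zero_apply] at this
        rcases mul_eq_zero.mp this with h | h
        · exact hci h
        · rcases mul_eq_zero.mp h with h | h
          · exact hxi h
          · exact hyi h
      · exact ind_not_mem R hi
    rw [this]
    exact P.zero_mem
  exact NoZeroDivisors.to_isDomain _

end

open Polynomial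

theorem aux1 {F : Type*} [Field F] (a X Y Z : F) (hY : Y ≠ 0) : a * (X / Y) * (Y * Z) = a * X * Z := by
  field_simp

theorem aux2 {F : Type*} [Field F] (a X Y : F) (hY : Y ≠ 0) : a * (X / Y) * Y = a * X := by
  field_simp

theorem pointwise_dvd {D : Type u} [CommRing D] [IsDomain D] [IsIntegrallyClosed D]
    (p : D[X]) (n : ℕ) (hdeg : p.natDegree ≤ n) (hn : p.coeff n ≠ 0) (x y : D) (hy : y ≠ 0)
    (h : ∑ j ∈ Finset.range (n + 1), p.coeff j * x ^ j * y ^ (n - j) = 0) :
    ∃ w : D, w * y = p.coeff n * x := by
  let K := FractionRing D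
  have hyK : algebraMap D K y ≠ 0 := by
    rw [Ne, map_eq_zero_iff _ (IsFractionRing.injective D K)]
    exact hy
  set ζ : K := algebraMap D K x / algebraMap D K y with hζ
  have hnat : p.natDegree = n := by
    apply le_antisymm hdeg
    exact Polynomial.le_natDegree_of_ne_zero hn
  have hroot : aeval ζ p = 0 := by
    rw [aeval_def, eval₂_eq_sum_range' (algebraMap D K) (Nat.lt_succ_of_le hdeg)]
    have h2 : (∑ j ∈ Finset.range (n + 1), algebraMap D K (p.coeff j) * ζ ^ j) * algebraMap D K y ^ n = 0 := by
      rw [Finset.sum_mul]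
      have := congrArg (algebraMap D K) h
      rw [map_sum, map_zero] at this
      rw [← this]
      apply Finset.sum_congr rfl
      intro j hj
      have hjn : j ≤ n := Nat.lt_succ_iff.mp (Finset.mem_range.mp hj)
      rw [map_mul, map_mul, map_pow, map_pow, hζ, div_pow]
      have : algebraMap D K y ^ n = algebraMap D K y ^ j * algebraMap D K y ^ (n - j) := by
        rw [← pow_add, Nat.add_sub_cancel' hjn]
      rw [this]
      exact aux1 _ _ _ _ (pow_ne_zero _ hyK)
    rcases mul_eq_zero.mp h2 with h3 | h3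
    · exact h3
    · exact absurd (pow_eq_zero_iff (Nat.pos_iff_ne_zero.mp (by
        by_contra h0
        have : n = 0 := by omega
        subst this
        simp at h3)) |>.mp h3) hyK
  have hint := isIntegral_leadingCoeff_smul p ζ hroot
  obtain ⟨w, hw⟩ := IsIntegrallyClosed.isIntegral_iff.mp hint
  refine ⟨w, ?_⟩
  apply IsFractionRing.injective D K
  rw [map_mul, hw, Polynomial.leadingCoeff, hnat, Algebra.smul_def, hζ, map_mul]
  exact aux2 _ _ _ hyK

theorem aux3 {F : Type*} [Field F] (A B T S : F) (hB : B ≠ 0) : (A / B) * (B * T * S) = A * S * T := by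
  field_simp

theorem isIntegrallyClosed_aux {ι : Type u} {R : ι → Type u} [∀ i, CommRing (R i)] [∀ i, IsDomain (R i)]
    [∀ i, IsIntegrallyClosed (R i)] (P : Ideal (∀ i, R i)) [P.IsPrime]
    [IsDomain (Localization.AtPrime P)]
    (K : Type u) [Field K] [Algebra (Localization.AtPrime P) K] [IsFractionRing (Localization.AtPrime P) K]
    (z : K) (hz : IsIntegral (Localization.AtPrime P) z) :
    ∃ y, algebraMap (Localization.AtPrime P) K y = z := by
  obtain ⟨a, b, hb, hzab⟩ := IsFractionRing.div_surjective (A := Localization.AtPrime P) z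
  obtain ⟨⟨x, s⟩, hxs⟩ := IsLocalization.surj P.primeCompl a
  obtain ⟨⟨y, t⟩, hyt⟩ := IsLocalization.surj P.primeCompl b
  simp only at hxs hyt
  have hbne : b ≠ 0 := nonZeroDivisors.ne_zero hb
  have hbK : algebraMap (Localization.AtPrime P) K b ≠ 0 := by
    rw [Ne, map_eq_zero_iff _ (IsFractionRing.injective (Localization.AtPrime P) K)]
    exact hbne
  have hsu : IsUnit (algebraMap (∀ i, R i) (Localization.AtPrime P) s) :=
    IsLocalization.map_units (Localization.AtPrime P) s
  have htu : IsUnit (algebraMap (∀ i, R i) (Localization.AtPrime P) t) :=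
    IsLocalization.map_units (Localization.AtPrime P) t
  set φ : (∀ i, R i) →+* K := (algebraMap (Localization.AtPrime P) K).comp
    (algebraMap (∀ i, R i) (Localization.AtPrime P)) with hφ
  set x' := x * (t : ∀ i, R i) with hx'
  set y' := y * (s : ∀ i, R i) with hy'
  have hy'ne : algebraMap (∀ i, R i) (Localization.AtPrime P) y' ≠ 0 := by
    rw [hy', map_mul, ← hyt]
    exact mul_ne_zero (mul_ne_zero hbne htu.ne_zero) hsu.ne_zero
  have hφy' : φ y' ≠ 0 := by
    rw [hφ, RingHom.comp_apply, Ne, map_eq_zero_iff _ (IsFractionRing.injective (Localization.AtPrime P) K)]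
    exact hy'ne
  have hz' : z * φ y' = φ x' := by
    have e1 : φ y' = algebraMap (Localization.AtPrime P) K b *
        algebraMap (Localization.AtPrime P) K (algebraMap (∀ i, R i) (Localization.AtPrime P) t) *
        algebraMap (Localization.AtPrime P) K (algebraMap (∀ i, R i) (Localization.AtPrime P) s) := by
      rw [hφ, RingHom.comp_apply, hy', map_mul, ← hyt, map_mul, map_mul]
    have e2 : φ x' = algebraMap (Localization.AtPrime P) K a *
        algebraMap (Localization.AtPrime P) K (algebraMap (∀ i, R i) (Localization.AtPrime P) s) *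
        algebraMap (Localization.AtPrime P) K (algebraMap (∀ i, R i) (Localization.AtPrime P) t) := by
      rw [hφ, RingHom.comp_apply, hx', map_mul, ← hxs, map_mul, map_mul]
    rw [e1, e2, ← hzab]
    exact aux3 _ _ _ _ hbK
  obtain ⟨p, hpm, hpz⟩ := hz
  set q := IsLocalization.integerNormalization P.primeCompl p with hq
  obtain ⟨u0, hu0, hu⟩ := IsLocalization.integerNormalization_spec P.primeCompl p
  set u : P.primeCompl := ⟨u0, hu0⟩ with hu'
  replace hu : q.map (algebraMap (∀ i, R i) (Localization.AtPrime P)) = (u : ∀ i, R i) • p := hu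
  set n := p.natDegree with hn
  have hqdeg : q.natDegree ≤ n := by
    rw [Polynomial.natDegree_le_iff_coeff_eq_zero]
    intro N hN
    have h1 : N ∉ p.support := Polynomial.notMem_support_iff.mpr
      (Polynomial.coeff_eq_zero_of_natDegree_lt hN)
    exact Polynomial.notMem_support_iff.mp
      (fun h => h1 (IsLocalization.integerNormalization_support P.primeCompl p h))
  have hqn : algebraMap (∀ i, R i) (Localization.AtPrime P) (q.coeff n) =
      algebraMap (∀ i, R i) (Localization.AtPrime P) u := by
    have := congrArg (fun r => Polynomial.coeff r n) hu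
    simp only [Polynomial.coeff_map, Polynomial.coeff_smul] at this
    rw [this, hn, hpm.coeff_natDegree, Algebra.smul_def, mul_one]
  have hq0 : eval₂ φ z q = 0 :=
    IsLocalization.integerNormalization_eval₂_eq_zero P.primeCompl
      (algebraMap (Localization.AtPrime P) K) p hpz
  rw [eval₂_eq_sum_range' φ (Nat.lt_succ_of_le hqdeg)] at hq0
  set G : ∀ i, R i := ∑ j ∈ Finset.range (n + 1), q.coeff j * x' ^ j * y' ^ (n - j) with hG
  have hφG : φ G = 0 := by
    have h1 : φ G = (∑ j ∈ Finset.range (n + 1), φ (q.coeff j) * z ^ j) * φ y' ^ n := by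
      rw [hG, map_sum, Finset.sum_mul]
      apply Finset.sum_congr rfl
      intro j hj
      have hjn : j ≤ n := Nat.lt_succ_iff.mp (Finset.mem_range.mp hj)
      rw [map_mul, map_mul, map_pow, map_pow, ← hz', mul_pow]
      have : φ y' ^ n = φ y' ^ j * φ y' ^ (n - j) := by
        rw [← pow_add, Nat.add_sub_cancel' hjn]
      rw [this]
      ring
    rw [h1, hq0, zero_mul]
  have hLG : algebraMap (∀ i, R i) (Localization.AtPrime P) G = 0 := by
    apply IsFractionRing.injective (Localization.AtPrime P) K
    rw [map_zero]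
    exact hφG
  obtain ⟨c, hc⟩ := (IsLocalization.map_eq_zero_iff P.primeCompl (Localization.AtPrime P) G).mp hLG
  have hT1 := ind_support_not_mem P c.2
  have hT2 := ind_support_not_mem_of_algebraMap_ne_zero P hy'ne
  have hT3 : ind R {i | (q.coeff n) i ≠ 0} ∉ P := by
    apply ind_support_not_mem_of_algebraMap_ne_zero P
    rw [hqn]
    exact (IsLocalization.map_units (Localization.AtPrime P) u).ne_zero
  have hT := ind_inter_not_mem P (ind_inter_not_mem P hT1 hT2) hT3
  have hpt : ∀ i, ∃ w : R i, i ∈ ({i | (c : ∀ i, R i) i ≠ 0} ∩ {i | y' i ≠ 0} ∩ {i | (q.coeff n) i ≠ 0}) →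
      w * y' i = (q.coeff n) i * x' i := by
    intro i
    by_cases hi : i ∈ ({i | (c : ∀ i, R i) i ≠ 0} ∩ {i | y' i ≠ 0} ∩ {i | (q.coeff n) i ≠ 0})
    · obtain ⟨⟨hci, hyi⟩, hqi⟩ := hi
      have hGi : G i = 0 := by
        have := congrFun hc i
        simp only [Pi.mul_apply, Pi.zero_apply] at this
        rcases mul_eq_zero.mp this with h | h
        · exact absurd h hci
        · exact h
      obtain ⟨w, hw⟩ := pointwise_dvd (q.map (Pi.evalRingHom R i)) n
        (le_trans (Polynomial.natDegree_map_le) hqdeg) (by simpa using hqi) (x' i) (y' i) hyi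
        (by
          rw [← hGi, hG, Finset.sum_apply]
          apply Finset.sum_congr rfl
          intro j _
          simp)
      exact ⟨w, fun _ => by simpa using hw⟩
    · exact ⟨0, fun h => absurd h hi⟩
  choose w hw using hpt
  have hwy : algebraMap (∀ i, R i) (Localization.AtPrime P) (w * y') =
      algebraMap (∀ i, R i) (Localization.AtPrime P) (q.coeff n * x') := by
    apply algebraMap_eq_of_eqOn P hT
    intro i hi
    simp only [Pi.mul_apply]
    exact hw i hi
  refine ⟨IsLocalization.mk' (Localization.AtPrime P) w u, ?_⟩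
  have huL : algebraMap (∀ i, R i) (Localization.AtPrime P) u ≠ 0 :=
    (IsLocalization.map_units (Localization.AtPrime P) u).ne_zero
  have key : IsLocalization.mk' (Localization.AtPrime P) w u *
      algebraMap (∀ i, R i) (Localization.AtPrime P) y' =
      algebraMap (∀ i, R i) (Localization.AtPrime P) x' := by
    apply mul_right_cancel₀ huL
    rw [mul_assoc, mul_comm (algebraMap (∀ i, R i) (Localization.AtPrime P) y'), ← mul_assoc,
      IsLocalization.mk'_spec, ← map_mul, hwy, map_mul, hqn, mul_comm]
  apply mul_right_cancel₀ hφy'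
  rw [hz', hφ, RingHom.comp_apply, RingHom.comp_apply, ← map_mul, key]

theorem isIntegrallyClosed {ι : Type u} {R : ι → Type u} [∀ i, CommRing (R i)] [∀ i, IsDomain (R i)]
    [∀ i, IsIntegrallyClosed (R i)] (P : Ideal (∀ i, R i)) [P.IsPrime] :
    IsIntegrallyClosed (Localization.AtPrime P) := by
  have := isDomain P
  rw [isIntegrallyClosed_iff (FractionRing (Localization.AtPrime P))]
  intro z hz
  exact isIntegrallyClosed_aux P _ z hz

end Groth.Agent.Helper20.PiLoc
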