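import Mathlib
import Groth.Prelude.Def_CohB1
import Groth.Agent.Lib.Helper26.ProjChart

/-!
# `P^n_R ⟶ Spec R` is flat (any ring `R`)
-/

set_option autoImplicit false
set_option linter.style.haveILetI false
universe u
open CategoryTheory CategoryTheory.Limits AlgebraicGeometry Opposite TopologicalSpace

noncomputable section

namespace Groth.Agent.Helper20.PnFlat

open MvPolynomial HomogeneousLocalization Groth.Agent.Lib.Helper26.ProjChart

variable (n : ℕ) (R : Type u) [CommRing R]

local notation "𝒜" => CohB1.polyGrading n R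

/-- the ring map `R → R[T]_(T_i)` is flat. -/
theorem flat_chart (i : Fin (n + 1)) :
    ((HomogeneousLocalization.fromZeroRingHom 𝒜 (Submonoid.powers (X i))).comp
        (algebraMap R (𝒜 0))).Flat := by
  have h1 : (HomogeneousLocalization.fromZeroRingHom 𝒜 (Submonoid.powers (X i))).comp
        (algebraMap R (𝒜 0)) = (φ n R i).comp (C : R →+* MvPolynomial {j : Fin (n + 1) // j ≠ i} R) := by
    ext r
    simp [φ]
  rw [h1]
  have h2 : (C : R →+* MvPolynomial {j : Fin (n + 1) // j ≠ i} R).Flat := by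
    have : (algebraMap R (MvPolynomial {j : Fin (n + 1) // j ≠ i} R)).Flat := by
      rw [RingHom.flat_algebraMap_iff]
      infer_instance
    exact this
  exact h2.comp (RingHom.Flat.of_bijective (φ_bijective n R i))

theorem flat_aux : Flat (Proj.toSpecZero 𝒜 ≫
    Spec.map (CommRingCat.ofHom (algebraMap R (𝒜 0)))) := by
  haveI : IsZariskiLocalAtSource @Flat :=
    HasRingHomProperty.instIsZariskiLocalAtSource (P := @Flat) (Q := RingHom.Flat)
  apply IsZariskiLocalAtSource.of_iSup_eq_top (P := @Flat)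
    (fun i : Fin (n + 1) => Proj.basicOpen 𝒜 (X i : MvPolynomial (Fin (n + 1)) R)) (iSup_basicOpen n R)
  intro i
  have h1 : (Proj.basicOpen 𝒜 (X i : MvPolynomial (Fin (n + 1)) R)).ι =
      (Proj.basicOpenIsoSpec 𝒜 (X i : MvPolynomial (Fin (n + 1)) R) (X_mem n R i) one_pos).hom ≫
        Proj.awayι 𝒜 (X i : MvPolynomial (Fin (n + 1)) R) (X_mem n R i) one_pos := by
    rw [← Proj.basicOpenIsoSpec_inv_ι, Iso.hom_inv_id_assoc]
  have h2 : (Proj.basicOpen 𝒜 (X i : MvPolynomial (Fin (n + 1)) R)).ι ≫ (Proj.toSpecZero 𝒜 ≫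
      Spec.map (CommRingCat.ofHom (algebraMap R (𝒜 0)))) =
      (Proj.basicOpenIsoSpec 𝒜 (X i : MvPolynomial (Fin (n + 1)) R) (X_mem n R i) one_pos).hom ≫
        Spec.map (CommRingCat.ofHom
          ((HomogeneousLocalization.fromZeroRingHom 𝒜 (Submonoid.powers (X i))).comp
            (algebraMap R (𝒜 0)))) := by
    rw [h1, Category.assoc, Proj.awayι_toSpecZero_assoc, ← Spec.map_comp]
    rfl
  show Flat ((Proj.basicOpen 𝒜 (X i : MvPolynomial (Fin (n + 1)) R)).ι ≫ (Proj.toSpecZero 𝒜 ≫
      Spec.map (CommRingCat.ofHom (algebraMap R (𝒜 0)))))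
  rw [h2]
  haveI : Flat (Spec.map (CommRingCat.ofHom
      ((HomogeneousLocalization.fromZeroRingHom 𝒜 (Submonoid.powers (X i))).comp
        (algebraMap R (𝒜 0))))) := by
    rw [HasRingHomProperty.Spec_iff (P := @Flat)]
    exact flat_chart n R i
  infer_instance

instance flat_toSpec : Flat (CohB1.ProjSpace.toSpec n R) := flat_aux n R

end Groth.Agent.Helper20.PnFlat
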