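import Groth.Agent.Lib.Helper26.KosG
import Groth.Agent.Lib.Helper13.PullbackLocal
import Groth.Agent.Lib.Helper13.PbTensor
import Groth.Agent.Lib.Helper13.PbAmple
import Groth.Agent.Lib.Helper13.PbUnit
import Groth.Agent.Lib.Helper13.PbInv

/-!
# The Koszul system `u^* O(a)` for a scheme `u : X ⟶ P^n_R` over projective space,
and Castelnuovo–Mumford regularity for it
-/

set_option autoImplicit false
set_option linter.unusedSectionVars false
universe u
open CategoryTheory CategoryTheory.Limits AlgebraicGeometry Opposite TopologicalSpace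

namespace Groth.Agent.Helper20.PnSys

open Groth.Agent.Helper13 Groth.Agent.Helper13.Tensor
open Groth.Agent.Helper26.Kos

section Sys

variable (n : ℕ) (R : Type u) [CommRing R] {X : Scheme.{u}} (f : X ⟶ CohB1.ProjSpace n R)

/-- `f^* O(a)`. -/
noncomputable def L (a : ℤ) : X.Modules :=
  (Scheme.Modules.pullback f).obj (Twist.twistProjSpace n R a)

/-- multiplication by the `i`-th coordinate `f^*O(a) ⟶ f^*O(a+1)`. -/
noncomputable def xU (i : Fin (n + 1)) (a : ℤ) : L n R f a ⟶ L n R f (a + 1) :=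
  (Scheme.Modules.pullback f).map (xmul n R i a)

theorem xU_comm (i j : Fin (n + 1)) (a : ℤ) :
    xU n R f i a ≫ xU n R f j (a + 1) = xU n R f j a ≫ xU n R f i (a + 1) := by
  have h := congrArg (fun φ => (Scheme.Modules.pullback f).map φ) (xmul_comm n R i j a)
  simp only [Functor.map_comp] at h
  exact h

theorem hlocU (p : X) : ∃ (i : Fin (n + 1)) (U : X.Opens), p ∈ U ∧
    ∀ a : ℤ, IsIso ((Scheme.Modules.restrictFunctor U.ι).map (xU n R f i a)) := by
  obtain ⟨i, U, hpU, hU⟩ := hloc n R (f p)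
  refine ⟨i, f ⁻¹ᵁ U, hpU, fun a => ?_⟩
  have h : (f ⁻¹ᵁ U).ι ≫ f = (f ∣_ U) ≫ U.ι := (morphismRestrict_ι _ U).symm
  have e := Groth.Agent.Helper13.Pullback.pullbackRestrictIso f (f ⁻¹ᵁ U).ι U.ι (f ∣_ U) h
  have h1 : IsIso ((Scheme.Modules.restrictFunctor U.ι ⋙
      Scheme.Modules.pullback (f ∣_ U)).map (xmul n R i a)) := by
    have := hU a
    change IsIso ((Scheme.Modules.pullback (f ∣_ U)).map
      ((Scheme.Modules.restrictFunctor U.ι).map (xmul n R i a)))
    infer_instance
  exact (NatIso.isIso_map_iff e (xmul n R i a)).mpr h1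

theorem isInvertible_L (a : ℤ) : PicF.IsInvertible (L n R f a) :=
  Groth.Agent.Helper13.PbInv.isInvertible_pullback f _
    (Groth.Agent.Helper26.PnTwist.isInvertible_twist n R a)

theorem L_tensor_iso (a b : ℤ) :
    Nonempty (CohB1.tensorMod (L n R f a) (L n R f b) ≅ L n R f (a + b)) := by
  obtain ⟨e⟩ := Groth.Agent.Helper26.PnTwist.twist_tensor_iso n R a b
  exact ⟨(Groth.Agent.Helper13.PbTensor.pullbackTensorIso f _ _
    (Groth.Agent.Helper26.PnTwist.isInvertible_twist n R a)
    (Groth.Agent.Helper26.PnTwist.isInvertible_twist n R b)).symm ≪≫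
    (Scheme.Modules.pullback f).mapIso e⟩

theorem L_zero_iso : Nonempty (Coh.structureModule X ≅ L n R f 0) :=
  ⟨(Groth.Agent.Helper13.PbUnit.pullbackUnitIso f).symm ≪≫
    (Scheme.Modules.pullback f).mapIso
      (Groth.Agent.Helper28.TwistMul.zeroIso (CohB1.polyGrading n R))⟩

theorem twist_twist_iso (F : X.Modules) (a b : ℤ) :
    Nonempty (CohB1.tensorMod (CohB1.tensorMod F (L n R f a)) (L n R f b) ≅
      CohB1.tensorMod F (L n R f (a + b))) := by
  obtain ⟨e⟩ := L_tensor_iso n R f a b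
  exact ⟨Groth.Agent.Helper13.Tensor.assoc _ _ _ ≪≫
    Groth.Agent.Helper13.Tensor.mapIso (Iso.refl F) e⟩

theorem L_pow_iso (d : ℕ) :
    Nonempty (L n R f (d : ℤ) ≅ CohB1.tensorPow (L n R f 1) d) := by
  obtain ⟨e⟩ : Nonempty (Twist.twistProjSpace n R (d : ℤ) ≅
      CohB1.tensorPow (Twist.twistProjSpace n R 1) d) :=
    (Groth.Agent.Helper28.TwistMul.twist_all_of_degree_one
      (CohB1.polyGrading n R) (Groth.Agent.Helper26.PnTwist.hcov n R)).2.2 d
  exact ⟨(Scheme.Modules.pullback f).mapIso e ≪≫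
    Groth.Agent.Helper13.PbTensor.pullbackPowIso f _
      (Groth.Agent.Helper26.PnTwist.isInvertible_twist n R 1) d⟩

/-- Mumford: regularity propagates (all cohomological degrees). -/
theorem mumford_all (F : X.Modules) (m : ℤ)
    (hreg : ∀ i : ℕ, 1 ≤ i → Subsingleton (Coh.HH X (CohB1.tensorMod F (L n R f (m - i))) i)) :
    ∀ (d i : ℕ), 1 ≤ i → Subsingleton (Coh.HH X (CohB1.tensorMod F (L n R f (m + d - i))) i) := by
  intro d
  induction d with
  | zero =>
    intro i hi
    have := hreg i hi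
    simpa using this
  | succ d ih =>
    intro i hi
    apply koszul_vanishing (L n R f) (xU n R f) (xU_comm n R f) (hlocU n R f)
      (List.finRange (n + 1)) List.mem_finRange F _ i
    intro k
    have h := ih (i + k) (by omega)
    have e1 : m + ((d + 1 : ℕ) : ℤ) - (i : ℤ) - ((k : ℤ) + 1) = m + (d : ℤ) - ((i + k : ℕ) : ℤ) := by
      push_cast; ring
    rw [e1]
    exact h

theorem vanish_all (F : X.Modules) (m : ℤ)
    (hreg : ∀ i : ℕ, 1 ≤ i → Subsingleton (Coh.HH X (CohB1.tensorMod F (L n R f (m - i))) i)) :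
    ∀ (i : ℕ) (r : ℤ), 1 ≤ i → m - i ≤ r →
      Subsingleton (Coh.HH X (CohB1.tensorMod F (L n R f r)) i) := by
  intro i r hi hr
  have h := mumford_all n R f F m hreg (r - (m - i)).toNat i hi
  have e1 : m + (((r - (m - i)).toNat : ℕ) : ℤ) - (i : ℤ) = r := by
    rw [Int.toNat_of_nonneg (by omega)]; ring
  rwa [e1] at h

/-- **Castelnuovo–Mumford**: surjectivity of the multiplication maps. -/
theorem mult_surjective (F : X.Modules) (m d : ℤ) (hd : m ≤ d)
    (hreg : ∀ i : ℕ, 1 ≤ i → Subsingleton (Coh.HH X (CohB1.tensorMod F (L n R f (m - i))) i))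
    (e : ℕ) :
    Function.Surjective ((Tensor.ηpre (CohB1.tensorMod F (L n R f d))
      (L n R f (e : ℤ))).app (op ⊤)) := by
  induction e with
  | zero =>
    obtain ⟨z⟩ := L_zero_iso n R f
    exact mult_surjective_of_iso _ _ z ⊤
  | succ e ih =>
    have hc : ((e + 1 : ℕ) : ℤ) = (e : ℤ) + 1 := by push_cast; ring
    rw [hc]
    refine mult_surjective_step (L n R f) (xU n R f) (xU_comm n R f)
      (hlocU n R f) (List.finRange (n + 1)) List.mem_finRange
      (CohB1.tensorMod F (L n R f d)) (e : ℤ) ?_ ih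
    intro j hj
    obtain ⟨iso⟩ := twist_twist_iso n R f F d ((e : ℤ) + 1 - ((j : ℤ) + 1))
    refine Groth.Agent.Helper9.AffStrat.HH_subsingleton_of_iso iso j ?_
    exact vanish_all n R f F m hreg j _ hj (by omega)

end Sys

end Groth.Agent.Helper20.PnSys
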