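import Groth.Agent.Lib.Helper20.PnSys

/-!
# Castelnuovo–Mumford: global generation for a regular sheaf on a scheme affine over `P^n_k`
-/

set_option autoImplicit false
set_option linter.unusedSectionVars false
universe u
open CategoryTheory CategoryTheory.Limits AlgebraicGeometry Opposite TopologicalSpace

namespace Groth.Agent.Helper20.PnSys

open Groth.Agent.Helper13 Groth.Agent.Helper13.Tensor Groth.Agent.Helper13.GlobGen
open Groth.Agent.Helper26.Kos

section GG

variable (n : ℕ) (R : Type u) [CommRing R] {X : Scheme.{u}} (f : X ⟶ CohB1.ProjSpace n R)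

theorem isCoh_tensor_L (F : X.Modules) (hF : Coh.IsCoh F) (d : ℤ) :
    Coh.IsCoh (CohB1.tensorMod F (L n R f d)) := by
  have := hF.1
  have := hF.2
  have hL := isInvertible_L n R f d
  have : (L n R f d).IsQuasicoherent :=
    Groth.Agent.Helper13.Inv.isQuasicoherent_of_isInvertible _ hL
  have : SheafOfModules.IsFiniteType (R := X.ringCatSheaf) (L n R f d) :=
    Groth.Agent.Helper13.GlobGen.isFiniteType_of_isInvertible _ hL
  exact ⟨inferInstance, Groth.Agent.Helper13.Tensor.isFiniteType_tensorMod _ _⟩

end GG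

section Field

variable (k : Type u) [Field k] (n : ℕ) {X : Scheme.{u}} (f : X ⟶ CohB1.ProjSpace n k)

/-- **Castelnuovo–Mumford**: an `m`-regular coherent module `F` on a scheme affine over `P^n_k`
has `F(m)` globally generated. -/
theorem globallyGenerated [IsAffineHom f] (F : X.Modules) (hF : Coh.IsCoh F) (m : ℤ)
    (hreg : ∀ i : ℕ, 1 ≤ i → Subsingleton (Coh.HH X (CohB1.tensorMod F (L n k f (m - i))) i)) :
    Curv2.IsGloballyGenerated (CohB1.tensorMod F (L n k f m)) := by
  have := Groth.Agent.Helper26.PnReg.isNoetherian_projSpace k n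
  have : CompactSpace (Proj (CohB1.polyGrading n k)) :=
    inferInstanceAs (CompactSpace (CohB1.ProjSpace n k))
  have hG := isCoh_tensor_L n k f F hF m
  have := hG.1
  have := hG.2
  have hcov := Groth.Agent.Helper26.PnTwist.hcov n k
  have hample0 : CohB1.IsAmple (Twist.twistProjSpace n k 1) :=
    Groth.Agent.Helper28.TwistMul.twist_one_isAmple' (CohB1.polyGrading n k) hcov
  have hample : CohB1.IsAmple (L n k f 1) :=
    Groth.Agent.Helper13.PbAmple.isAmple_pullback_of_isAffineHom f _ hample0
  obtain ⟨n₀, hn₀⟩ := exists_isGloballyGenerated_twist (L n k f 1) hample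
    (CohB1.tensorMod F (L n k f m))
  obtain ⟨e⟩ := L_pow_iso n k f n₀
  have hgg : Curv2.IsGloballyGenerated (CohB1.tensorMod
      (CohB1.tensorMod F (L n k f m)) (L n k f (n₀ : ℤ))) :=
    isGloballyGenerated_of_iso (Tensor.mapIso (Iso.refl _) e.symm) (hn₀ n₀ le_rfl)
  rw [isGloballyGenerated_iff] at hgg ⊢
  intro y
  exact ggAt_of_tensor _ _ (isInvertible_L n k f (n₀ : ℤ)) y
    (mult_surjective n k f F m m le_rfl hreg n₀) (hgg y)

end Field

end Groth.Agent.Helper20.PnSys
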