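import Groth.Agent.Lib.Helper20.PnSys2
import Groth.Agent.Lib.Helper20.GGMult

/-!
# Castelnuovo–Mumford: global generation for a regular quasi-coherent sheaf on a scheme affine
over `P^n_R` (no finiteness hypothesis)
-/

set_option autoImplicit false
set_option linter.unusedSectionVars false
universe u
open CategoryTheory CategoryTheory.Limits AlgebraicGeometry Opposite TopologicalSpace

namespace Groth.Agent.Helper20.PnSys

open Groth.Agent.Helper13 Groth.Agent.Helper13.Tensor Groth.Agent.Helper13.GlobGen
open Groth.Agent.Helper26.Kos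

section QC

variable (n : ℕ) (R : Type u) [CommRing R] {X : Scheme.{u}} (f : X ⟶ CohB1.ProjSpace n R)

theorem isAmple_L_one [IsAffineHom f] : CohB1.IsAmple (L n R f 1) := by
  have hc : CompactSpace (CohB1.ProjSpace n R) :=
    QuasiCompact.compactSpace_of_compactSpace (CohB1.ProjSpace.toSpec n R)
  have : CompactSpace (Proj (CohB1.polyGrading n R)) := hc
  have hcov := Groth.Agent.Helper26.PnTwist.hcov n R
  have hample0 : CohB1.IsAmple (Twist.twistProjSpace n R 1) :=
    Groth.Agent.Helper28.TwistMul.twist_one_isAmple' (CohB1.polyGrading n R) hcov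
  exact Groth.Agent.Helper13.PbAmple.isAmple_pullback_of_isAffineHom f _ hample0

theorem isQuasicoherent_tensor_L (F : X.Modules) [F.IsQuasicoherent] (d : ℤ) :
    (CohB1.tensorMod F (L n R f d)).IsQuasicoherent := by
  have hL := isInvertible_L n R f d
  have : (L n R f d).IsQuasicoherent :=
    Groth.Agent.Helper13.Inv.isQuasicoherent_of_isInvertible _ hL
  infer_instance

/-- **Castelnuovo–Mumford**: an `m`-regular quasi-coherent module `F` on a scheme affine over
`P^n_R` has `F(m)` globally generated. -/
theorem globallyGenerated_qc [IsAffineHom f] (F : X.Modules) [F.IsQuasicoherent] (m : ℤ)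
    (hreg : ∀ i : ℕ, 1 ≤ i → Subsingleton (Coh.HH X (CohB1.tensorMod F (L n R f (m - i))) i)) :
    Curv2.IsGloballyGenerated (CohB1.tensorMod F (L n R f m)) := by
  have := isQuasicoherent_tensor_L n R f F m
  refine Groth.Agent.Helper20.GGMult.isGloballyGenerated_of_mult _ (L n R f 1)
    (isAmple_L_one n R f) (fun e => ?_)
  obtain ⟨z⟩ := L_pow_iso n R f e
  exact Groth.Agent.Helper20.GGMult.mult_surjective_iso _ z
    (mult_surjective n R f F m m le_rfl hreg e)

/-- the case `m = 0`: a `0`-regular quasi-coherent module is globally generated. -/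
theorem globallyGenerated_zero [IsAffineHom f] (F : X.Modules) [F.IsQuasicoherent]
    (hreg : ∀ i : ℕ, 1 ≤ i → Subsingleton (Coh.HH X (CohB1.tensorMod F (L n R f (0 - i))) i)) :
    Curv2.IsGloballyGenerated F := by
  have h := globallyGenerated_qc n R f F 0 hreg
  obtain ⟨z⟩ := L_zero_iso n R f
  exact isGloballyGenerated_of_iso
    (Tensor.mapIso (Iso.refl F) z.symm ≪≫ Tensor.rid F) h

end QC

end Groth.Agent.Helper20.PnSys
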