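import Groth.Prelude.Def_Twist2
import Mathlib

/-!
# Global sections of `O(d)` on `Proj` of an integrally closed graded domain: algebra part
(helper20, for S10908)
-/

set_option autoImplicit false
universe u
open DirectSum

namespace Groth.Agent.Lib.Helper20.ProjNormalA

variable {R A : Type u} [CommRing R] [CommRing A] [IsDomain A] [Algebra R A]
  (𝒜 : ℕ → Submodule R A) [GradedAlgebra 𝒜]

/-- degree lemma: if `s` is nonzero homogeneous of degree `j` and `s * z` is homogeneous of degree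
`j + e`, then `z` is homogeneous of degree `e`. -/
theorem mem_of_mul_mem {j e : ℕ} {s z : A} (hs : s ∈ 𝒜 j) (hs0 : s ≠ 0) (h : s * z ∈ 𝒜 (j + e)) :
    z ∈ 𝒜 e := by
  classical
  have hz : ∀ i, i ≠ e → (decompose 𝒜 z i : A) = 0 := by
    intro i hi
    have h1 : (decompose 𝒜 (s * z) (j + i) : A) = s * decompose 𝒜 z i :=
      coe_decompose_mul_add_of_left_mem 𝒜 hs
    have h2 : (decompose 𝒜 (s * z) (j + i) : A) = 0 := by
      have hne : j + e ≠ j + i := fun hh => hi (by omega)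
      rw [DirectSum.decompose_of_mem_ne 𝒜 h hne]
    rw [h1] at h2
    exact (mul_eq_zero.mp h2).resolve_left hs0
  rw [← DirectSum.sum_support_decompose 𝒜 z]
  refine Submodule.sum_mem _ (fun i hi => ?_)
  by_cases hie : i = e
  · rw [hie]; exact (decompose 𝒜 z e).2
  · rw [hz i hie]; exact Submodule.zero_mem _

variable {𝒜}

/-- `𝒜 m ⊆ (span 𝒜 1)^m` when the algebra is generated in degree one. -/
theorem le_span_pow (hgen : ∀ i : ℕ, 𝒜 1 * 𝒜 i = 𝒜 (i + 1)) (m : ℕ) :
    ∀ b ∈ 𝒜 m, b ∈ (Ideal.span (𝒜 1 : Set A)) ^ m := by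
  induction m with
  | zero => intro b _; rw [pow_zero, Ideal.one_eq_top]; trivial
  | succ m ih =>
    intro b hb
    rw [← hgen m] at hb
    refine Submodule.mul_induction_on hb ?_ ?_
    · intro y hy c hc
      rw [pow_succ']
      exact Ideal.mul_mem_mul (Ideal.subset_span hy) (ih c hc)
    · intro y z hy hz
      exact Ideal.add_mem _ hy hz

/-- the generic point of `Proj` of a graded domain. -/
noncomputable def gen (h1 : 𝒜 1 ≠ ⊥) : ProjectiveSpectrum 𝒜 where
  asHomogeneousIdeal := ⊥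
  isPrime := by
    rw [HomogeneousIdeal.toIdeal_bot]
    exact Ideal.isPrime_bot
  not_irrelevant_le := by
    intro hle
    apply h1
    rw [eq_bot_iff]
    intro y hy
    have hy' : y ∈ HomogeneousIdeal.irrelevant 𝒜 := by
      rw [HomogeneousIdeal.mem_irrelevant_iff, GradedRing.proj_apply,
        DirectSum.decompose_of_mem_ne 𝒜 hy (by norm_num : (1:ℕ) ≠ 0)]
    have h2 := hle hy'
    have h3 : y ∈ (⊥ : HomogeneousIdeal 𝒜).toIdeal := h2
    rw [HomogeneousIdeal.toIdeal_bot] at h3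
    exact h3

theorem mem_gen_iff (h1 : 𝒜 1 ≠ ⊥) (a : A) : a ∈ (gen h1).asHomogeneousIdeal ↔ a = 0 := by
  show a ∈ (⊥ : HomogeneousIdeal 𝒜).toIdeal ↔ a = 0
  rw [HomogeneousIdeal.toIdeal_bot]
  exact Ideal.mem_bot

/-- the conductor ideal of an element of the fraction field. -/
def cond (q : FractionRing A) : Ideal A where
  carrier := {b | ∃ a : A, algebraMap A (FractionRing A) b * q = algebraMap A (FractionRing A) a}
  add_mem' := by
    rintro b b' ⟨a, ha⟩ ⟨a', ha'⟩
    exact ⟨a + a', by rw [map_add, add_mul, ha, ha', map_add]⟩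
  zero_mem' := ⟨0, by rw [map_zero, zero_mul]⟩
  smul_mem' := by
    rintro c b ⟨a, ha⟩
    exact ⟨c * a, by rw [smul_eq_mul, map_mul, mul_assoc, ha, map_mul]⟩

theorem mem_cond (q : FractionRing A) (b : A) :
    b ∈ cond q ↔ ∃ a : A, algebraMap A (FractionRing A) b * q = algebraMap A (FractionRing A) a :=
  Iff.rfl

theorem exists_mem_of_local [IsNoetherianRing A] [IsIntegrallyClosed A]
    (hgen : ∀ i : ℕ, 𝒜 1 * 𝒜 i = 𝒜 (i + 1)) (h1 : 𝒜 1 ≠ ⊥) (d : ℕ) (q : FractionRing A)
    (hq : ∀ x : ProjectiveSpectrum 𝒜, ∃ (i j : ℕ) (a : A) (s : A), a ∈ 𝒜 i ∧ s ∈ 𝒜 j ∧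
      s ∉ x.asHomogeneousIdeal ∧ ((i:ℤ) = j + d ∨ a = 0) ∧
        algebraMap A (FractionRing A) s * q = algebraMap A (FractionRing A) a) :
    ∃ z ∈ 𝒜 d, algebraMap A (FractionRing A) z = q := by
  have hinj : Function.Injective (algebraMap A (FractionRing A)) := IsFractionRing.injective _ _
  -- data at the generic point
  obtain ⟨i₀, j₀, a₀, s₀, ha₀, hs₀, hs₀nin, hdeg₀, heq₀⟩ := hq (gen h1)
  have hs₀0 : s₀ ≠ 0 := fun h => hs₀nin ((mem_gen_iff h1 s₀).mpr h)
  -- homogeneity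
  have hhom : ∀ (m : ℕ) (b a : A), b ∈ 𝒜 m →
      algebraMap A (FractionRing A) b * q = algebraMap A (FractionRing A) a → a ∈ 𝒜 (m + d) := by
    intro m b a hb hba
    have h2 : s₀ * a = b * a₀ := by
      apply hinj
      rw [map_mul, map_mul, ← hba, ← heq₀]; ring
    rcases hdeg₀ with hdeg | ha0
    · have hi₀ : i₀ = j₀ + d := by exact_mod_cast hdeg
      have h3 : s₀ * a ∈ 𝒜 (j₀ + (m + d)) := by
        rw [h2]
        have : m + i₀ = j₀ + (m + d) := by omega
        rw [← this]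
        exact SetLike.mul_mem_graded hb ha₀
      exact mem_of_mul_mem 𝒜 hs₀ hs₀0 h3
    · rw [ha0, mul_zero] at h2
      have : a = 0 := (mul_eq_zero.mp h2).resolve_left hs₀0
      rw [this]; exact Submodule.zero_mem _
  -- the homogeneous part of the conductor
  obtain ⟨I', hI'def⟩ : ∃ I' : Ideal A,
      I' = Ideal.span {b | SetLike.IsHomogeneousElem 𝒜 b ∧ b ∈ cond q} := ⟨_, rfl⟩
  have hI'hom : I'.IsHomogeneous 𝒜 := by
    rw [hI'def]
    exact Ideal.homogeneous_span 𝒜 _ (fun x hx => hx.1)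
  have hI'le : I' ≤ cond q := by
    rw [hI'def, Ideal.span_le]
    exact fun b hb => hb.2
  have hrad : ∀ y ∈ 𝒜 1, y ∈ I'.radical := by
    intro y hy
    by_contra hny
    rw [hI'hom.radical_eq, Ideal.mem_sInf] at hny
    push Not at hny
    obtain ⟨J, ⟨hJhom, hJle, hJprime⟩, hyJ⟩ := hny
    have hnirr : ¬ HomogeneousIdeal.irrelevant 𝒜 ≤ (⟨J, hJhom⟩ : HomogeneousIdeal 𝒜) := by
      intro hle
      apply hyJ
      have hy' : y ∈ HomogeneousIdeal.irrelevant 𝒜 := by
        rw [HomogeneousIdeal.mem_irrelevant_iff, GradedRing.proj_apply,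
          DirectSum.decompose_of_mem_ne 𝒜 hy (by norm_num : (1:ℕ) ≠ 0)]
      exact hle hy'
    obtain ⟨i, j, a, s, ha, hs, hsnin, hdeg, heq⟩ :=
      hq ⟨⟨J, hJhom⟩, hJprime, hnirr⟩
    apply hsnin
    apply hJle
    rw [hI'def]
    exact Ideal.subset_span ⟨⟨j, hs⟩, ⟨a, heq⟩⟩
  have hPle : Ideal.span (𝒜 1 : Set A) ≤ (cond q).radical := by
    rw [Ideal.span_le]
    intro y hy
    exact Ideal.radical_mono hI'le (hrad y hy)
  obtain ⟨N, hN⟩ := Ideal.exists_pow_le_of_le_radical_of_fg hPle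
    (IsNoetherian.noetherian (Ideal.span (𝒜 1 : Set A)))
  have hcond : ∀ m, N ≤ m → ∀ b ∈ 𝒜 m, b ∈ cond q := by
    intro m hm b hb
    exact hN (Ideal.pow_le_pow_right hm (le_span_pow hgen m b hb))
  -- the ideal J of elements of degree ≥ N
  obtain ⟨J, hJdef⟩ : ∃ J : Ideal A, J = Ideal.span {b | ∃ m, N ≤ m ∧ b ∈ 𝒜 m} := ⟨_, rfl⟩
  obtain ⟨Nsub, hNsubdef⟩ : ∃ Nsub : Submodule A (FractionRing A),
      Nsub = Submodule.map (Algebra.linearMap A (FractionRing A)) J := ⟨_, rfl⟩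
  have hNsub_fg : Nsub.FG := by
    rw [hNsubdef]
    exact Submodule.FG.map _ (IsNoetherian.noetherian J)
  have hNsub_ne : Nsub ≠ ⊥ := by
    obtain ⟨y, hy, hy0⟩ : ∃ y ∈ 𝒜 1, y ≠ 0 := by
      by_contra hcon
      push Not at hcon
      apply h1
      rw [eq_bot_iff]
      intro y hy
      exact hcon y hy
    have hyN : y ^ N ∈ 𝒜 N := by
      have := SetLike.pow_mem_graded N hy
      rwa [smul_eq_mul, mul_one] at this
    have hmem : algebraMap A (FractionRing A) (y ^ N) ∈ Nsub := by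
      rw [hNsubdef]
      refine ⟨y ^ N, ?_, rfl⟩
      rw [hJdef]
      exact Ideal.subset_span ⟨N, le_refl _, hyN⟩
    intro hbot
    rw [hbot, Submodule.mem_bot] at hmem
    have : y ^ N = 0 := hinj (by rw [hmem, map_zero])
    exact pow_ne_zero N hy0 this
  have hstab : ∀ n ∈ Nsub, q • n ∈ Nsub := by
    intro n hn
    rw [hNsubdef] at hn
    obtain ⟨c, hc, rfl⟩ := hn
    have hcJ : c ∈ J := hc
    have key : ∀ c ∈ J, q • (Algebra.linearMap A (FractionRing A) c) ∈ Nsub := by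
      intro c hc
      rw [hJdef] at hc
      refine Submodule.span_induction ?_ ?_ ?_ ?_ hc
      · rintro b ⟨m, hm, hb⟩
        obtain ⟨a, ha⟩ := (mem_cond q b).mp (hcond m hm b hb)
        have haJ : a ∈ J := by
          rw [hJdef]
          exact Ideal.subset_span ⟨m + d, by omega, hhom m b a hb ha⟩
        rw [hNsubdef]
        refine ⟨a, haJ, ?_⟩
        rw [Algebra.linearMap_apply, Algebra.linearMap_apply, smul_eq_mul, mul_comm, ha]
      · rw [map_zero, smul_zero]; exact Submodule.zero_mem _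
      · intro c c' _ _ h h'
        rw [map_add, smul_add]; exact Submodule.add_mem _ h h'
      · intro r c _ h
        rw [map_smul, smul_comm]
        exact Submodule.smul_mem _ r h
    exact key c hcJ
  have hint : IsIntegral A q :=
    isIntegral_of_smul_mem_submodule (R := A) (A := FractionRing A) (M := FractionRing A) Nsub
      hNsub_ne hNsub_fg q hstab
  obtain ⟨z, hz⟩ := IsIntegrallyClosed.isIntegral_iff.mp hint
  refine ⟨z, ?_, hz⟩
  have h2 : s₀ * z = a₀ := by
    apply hinj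
    rw [map_mul, hz, heq₀]
  rcases hdeg₀ with hdeg | ha0
  · have hi₀ : i₀ = j₀ + d := by exact_mod_cast hdeg
    refine mem_of_mul_mem 𝒜 hs₀ hs₀0 ?_
    rw [h2, ← hi₀]; exact ha₀
  · rw [ha0] at h2
    have : z = 0 := (mul_eq_zero.mp h2).resolve_left hs₀0
    rw [this]; exact Submodule.zero_mem _

end Groth.Agent.Lib.Helper20.ProjNormalA
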