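import Groth.Agent.Lib.Helper20.ProjNormalA
import Groth.Prelude.Def_Twist2
import Mathlib

/-!
# Global sections of `O(d)` on `Proj` of an integrally closed graded domain: sheaf part
(helper20, for S10908)
-/

set_option autoImplicit false
universe u
open CategoryTheory TopologicalSpace Opposite TopCat AlgebraicGeometry
open Groth.Agent.Lib.Helper20.ProjNormalA

namespace Groth.Agent.Lib.Helper20.ProjNormalB

variable {R A : Type u} [CommRing R] [CommRing A] [IsDomain A] [Algebra R A]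
  {𝒜 : ℕ → Submodule R A} [GradedAlgebra 𝒜]

theorem isUnit_algebraMap_of_mem_primeCompl (x : ProjectiveSpectrum 𝒜)
    (y : x.asHomogeneousIdeal.toIdeal.primeCompl) :
    IsUnit (algebraMap A (FractionRing A) y) := by
  have h0 : (y : A) ≠ 0 := fun h => y.2 (h ▸ Ideal.zero_mem _)
  have : algebraMap A (FractionRing A) y ≠ 0 := by
    intro h
    apply h0
    exact IsFractionRing.injective A (FractionRing A) (by rw [h, map_zero])
  exact IsUnit.mk0 _ this

/-- the embedding `A_x → Frac A`. -/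
noncomputable def ι (x : ProjectiveSpectrum 𝒜) : Twist.Loc 𝒜 x →+* FractionRing A :=
  IsLocalization.lift (M := x.asHomogeneousIdeal.toIdeal.primeCompl) (S := Twist.Loc 𝒜 x)
    (g := algebraMap A (FractionRing A)) (isUnit_algebraMap_of_mem_primeCompl x)

theorem ι_mk (x : ProjectiveSpectrum 𝒜) (a : A) (s : x.asHomogeneousIdeal.toIdeal.primeCompl) :
    algebraMap A (FractionRing A) s * ι x (Localization.mk a s) = algebraMap A (FractionRing A) a := by
  rw [Localization.mk_eq_mk']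
  exact ((IsLocalization.lift_mk'_spec (M := x.asHomogeneousIdeal.toIdeal.primeCompl)
    (S := Twist.Loc 𝒜 x) (g := algebraMap A (FractionRing A))
    (hg := isUnit_algebraMap_of_mem_primeCompl x) a _ s).mp rfl).symm

theorem ι_injective (x : ProjectiveSpectrum 𝒜) : Function.Injective (ι x) := by
  unfold ι
  rw [IsLocalization.lift_injective_iff]
  intro a b
  have h1 : Function.Injective (algebraMap A (Twist.Loc 𝒜 x)) :=
    IsLocalization.injective _ (Ideal.primeCompl_le_nonZeroDivisors x.asHomogeneousIdeal.toIdeal)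
  have h2 : Function.Injective (algebraMap A (FractionRing A)) := IsFractionRing.injective _ _
  exact ⟨fun h => by rw [h1 h], fun h => by rw [h2 h]⟩

theorem gen_mem_of_mem (h1 : 𝒜 1 ≠ ⊥) (V : Opens (ProjectiveSpectrum.top 𝒜))
    (x : ProjectiveSpectrum 𝒜) (hx : x ∈ V.1) : gen h1 ∈ V.1 := by
  obtain ⟨s, hs⟩ := (ProjectiveSpectrum.isOpen_iff 𝒜 (V.1 : Set (ProjectiveSpectrum 𝒜))).mp V.2
  by_contra hgen
  have h2 : gen h1 ∈ ProjectiveSpectrum.zeroLocus 𝒜 s := by
    rw [← hs]; exact hgen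
  have h2' := (ProjectiveSpectrum.mem_zeroLocus 𝒜 (gen h1) s).mp h2
  have h3 : x ∈ ProjectiveSpectrum.zeroLocus 𝒜 s := by
    refine (ProjectiveSpectrum.mem_zeroLocus 𝒜 x s).mpr ?_
    intro a ha
    have := h2' ha
    have h0 : a = 0 := (mem_gen_iff h1 a).mp this
    rw [h0]
    exact Ideal.zero_mem _
  rw [← hs] at h3
  exact h3 hx

theorem main [IsNoetherianRing A] (hgen : ∀ i : ℕ, 𝒜 1 * 𝒜 i = 𝒜 (i + 1)) (h1 : 𝒜 1 ≠ ⊥)
    (hint : IsIntegrallyClosed A) (d : ℕ) :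
    Function.Bijective (fun a : ↥(𝒜 d) => Twist.globalOf 𝒜 a) := by
  have hinj : Function.Injective (algebraMap A (FractionRing A)) := IsFractionRing.injective _ _
  constructor
  · intro a a' h
    have h2 : ((Twist.globalOf 𝒜 a).1 ⟨gen h1, trivial⟩).1 =
        ((Twist.globalOf 𝒜 a').1 ⟨gen h1, trivial⟩).1 := by
      have h' : Twist.globalOf 𝒜 a = Twist.globalOf 𝒜 a' := h
      rw [h']
    have hone : (1 : A) ∉ (gen h1 : ProjectiveSpectrum 𝒜).asHomogeneousIdeal.toIdeal :=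
      fun h => (gen h1).isPrime.ne_top ((Ideal.eq_top_iff_one _).mpr h)
    have h3 : (Localization.mk a.1 ⟨1, hone⟩ : Twist.Loc 𝒜 (gen h1)) =
        Localization.mk a'.1 ⟨1, hone⟩ := h2
    have e1 := ι_mk (gen h1) a.1 ⟨1, hone⟩
    have e2 := ι_mk (gen h1) a'.1 ⟨1, hone⟩
    rw [h3] at e1
    apply Subtype.ext
    apply hinj
    rw [← e1, ← e2]
  · intro f
    obtain ⟨q, hqdef⟩ : ∃ q : FractionRing A, q = ι (gen h1) (f.1 ⟨gen h1, trivial⟩).1 := ⟨_, rfl⟩
    have hloc : ∀ x : ProjectiveSpectrum 𝒜, ∃ (i j : ℕ) (a : A) (s : A), a ∈ 𝒜 i ∧ s ∈ 𝒜 j ∧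
        s ∉ x.asHomogeneousIdeal ∧ ((i:ℤ) = j + d ∨ a = 0) ∧
        algebraMap A (FractionRing A) s * q = algebraMap A (FractionRing A) a ∧
        algebraMap A (FractionRing A) s * ι x (f.1 ⟨x, trivial⟩).1 =
          algebraMap A (FractionRing A) a := by
      intro x
      obtain ⟨V, hxV, iV, i, j, a, s, s_nin, hcond, hw⟩ := f.2 ⟨x, trivial⟩
      have hgV : (gen h1 : ProjectiveSpectrum.top 𝒜) ∈ V := gen_mem_of_mem h1 V x hxV
      refine ⟨i, j, a.1, s.1, a.2, s.2, s_nin ⟨x, hxV⟩, hcond, ?_, ?_⟩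
      · have e := hw ⟨gen h1, hgV⟩
        have e' : (f.1 ⟨gen h1, trivial⟩).1 = Localization.mk a.1 ⟨s.1, s_nin ⟨gen h1, hgV⟩⟩ := e
        rw [hqdef, e']
        exact ι_mk (gen h1) a.1 ⟨s.1, s_nin ⟨gen h1, hgV⟩⟩
      · have e := hw ⟨x, hxV⟩
        have e' : (f.1 ⟨x, trivial⟩).1 = Localization.mk a.1 ⟨s.1, s_nin ⟨x, hxV⟩⟩ := e
        rw [e']
        exact ι_mk x a.1 ⟨s.1, s_nin ⟨x, hxV⟩⟩
    obtain ⟨z, hz, hzq⟩ := exists_mem_of_local hgen h1 d q (fun x => by
      obtain ⟨i, j, a, s, ha, hs, hsn, hc, h, _⟩ := hloc x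
      exact ⟨i, j, a, s, ha, hs, hsn, hc, h⟩)
    refine ⟨⟨z, hz⟩, ?_⟩
    apply Subtype.ext
    funext ⟨x, hx⟩
    apply Subtype.ext
    apply ι_injective x
    obtain ⟨i, j, a, s, ha, hs, hsn, hc, h, h'⟩ := hloc x
    have hs0 : algebraMap A (FractionRing A) s ≠ 0 := by
      intro h0
      have : s = 0 := hinj (by rw [h0, map_zero])
      exact hsn (this ▸ Ideal.zero_mem _)
    have hone : (1 : A) ∉ x.asHomogeneousIdeal.toIdeal :=
      fun h => x.isPrime.ne_top ((Ideal.eq_top_iff_one _).mpr h)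
    have e1 := ι_mk x z ⟨1, hone⟩
    have hl : ι x (((Twist.globalOf 𝒜 (⟨z, hz⟩ : 𝒜 d)).1 ⟨x, hx⟩).1) = q := by
      show ι x (Localization.mk z ⟨1, hone⟩) = q
      rw [← hzq, ← e1]
      simp
    rw [hl]
    apply mul_left_cancel₀ hs0
    rw [h, h']
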