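import Mathlib
import Groth.Agent.Lib.Helper20.IsoBC

/-!
# Base change of a property `P` of morphisms of `S`-schemes (generic version of `IsoBC`)

For a morphism property `P` of schemes and `u : G ⟶ H` in `Over S`, the property
`P ((Over.pullback t).map u).left` of the base change of `u` along `t : T ⟶ S` is
`(PB1)` stable under further base change `π ≫ t` if `P` is stable under base change,
`(PB2)` descends along fpqc `q` if `P` does, `(PB3)` Zariski local on `T` if `P` is Zariski local at
the target.  `Flat ∧ Surjective` versions at the end.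
-/

set_option autoImplicit false
universe u
open CategoryTheory CategoryTheory.Limits AlgebraicGeometry MorphismProperty

namespace Groth.Agent.Helper20.PropBC

open Groth.Agent.Helper20.IsoBC

variable {S : Scheme.{u}} {G H : Over S} (u : G ⟶ H)

/-- the underlying morphisms of `(Over.pullback (π ≫ t)).map u` and of
`(Over.pullback π).map ((Over.pullback t).map u)` are isomorphic as arrows. -/
theorem prop_comp_iff (P : MorphismProperty Scheme.{u}) [P.RespectsIso]
    {T T2 : Scheme.{u}} (t : T ⟶ S) (π : T2 ⟶ T) :
    P ((Over.pullback (π ≫ t)).map u).left ↔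
      P ((Over.pullback π).map ((Over.pullback t).map u)).left := by
  have hnat := (CategoryTheory.Over.pullbackComp π t).hom.naturality u
  have hnat' : ((Over.pullback (π ≫ t)).map u).left ≫
      ((CategoryTheory.Over.pullbackComp π t).hom.app H).left =
      ((CategoryTheory.Over.pullbackComp π t).hom.app G).left ≫
        ((Over.pullback π).map ((Over.pullback t).map u)).left := by
    exact congrArg (fun m => m.left) hnat
  haveI h1 : IsIso ((CategoryTheory.Over.pullbackComp π t).hom.app H).left :=
    (isIso_iff_left _).mp inferInstance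
  haveI h2 : IsIso ((CategoryTheory.Over.pullbackComp π t).hom.app G).left :=
    (isIso_iff_left _).mp inferInstance
  rw [← P.cancel_right_of_respectsIso ((Over.pullback (π ≫ t)).map u).left
    ((CategoryTheory.Over.pullbackComp π t).hom.app H).left, hnat', P.cancel_left_of_respectsIso]

/-- (PB1) -/
theorem prop_comp (P : MorphismProperty Scheme.{u}) [P.IsStableUnderBaseChange]
    {T T2 : Scheme.{u}} (t : T ⟶ S) (π : T2 ⟶ T)
    (h : P ((Over.pullback t).map u).left) : P ((Over.pullback (π ≫ t)).map u).left := by
  rw [prop_comp_iff u P t π]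
  exact P.of_isPullback (isPullback_overPullback_map π ((Over.pullback t).map u)).flip h

/-- (PB2) -/
theorem prop_descend (P : MorphismProperty Scheme.{u}) [P.RespectsIso]
    [P.DescendsAlong (@Surjective ⊓ @Flat ⊓ @QuasiCompact)]
    {T T2 : Scheme.{u}} (t : T ⟶ S) (q : T2 ⟶ T) [Flat q] [Surjective q]
    [QuasiCompact q] (h : P ((Over.pullback (q ≫ t)).map u).left) :
    P ((Over.pullback t).map u).left := by
  rw [prop_comp_iff u P t q] at h
  have hpb := isPullback_overPullback_map q ((Over.pullback t).map u)
  have hQ : (@Surjective ⊓ @Flat ⊓ @QuasiCompact : MorphismProperty Scheme.{u})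
      (pullback.fst ((Over.pullback t).obj H).hom q) :=
    ⟨⟨inferInstance, inferInstance⟩, inferInstance⟩
  exact MorphismProperty.of_isPullback_of_descendsAlong (P := P)
    (Q := @Surjective ⊓ @Flat ⊓ @QuasiCompact) hpb hQ h

/-- (PB3) -/
theorem prop_of_local (P : MorphismProperty Scheme.{u}) [IsZariskiLocalAtTarget P]
    {T : Scheme.{u}} (t : T ⟶ S)
    (h : ∀ x : T, ∃ W : T.Opens, x ∈ W ∧ P ((Over.pullback (W.ι ≫ t)).map u).left) :
    P ((Over.pullback t).map u).left := by
  choose W hxW hW using h
  let 𝒰 : ((Over.pullback t).obj H).left.OpenCover :=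
    Scheme.Cover.mkOfCovers (P := @IsOpenImmersion) T
      (fun x => pullback ((Over.pullback t).obj H).hom (W x).ι)
      (fun x => pullback.fst ((Over.pullback t).obj H).hom (W x).ι)
      (fun b => by
        refine ⟨((Over.pullback t).obj H).hom b, ?_⟩
        have hb : b ∈ Set.range (pullback.fst ((Over.pullback t).obj H).hom
            (W (((Over.pullback t).obj H).hom b)).ι) := by
          rw [Scheme.Pullback.range_fst]
          simp only [Set.mem_preimage, Scheme.Opens.range_ι, SetLike.mem_coe]
          exact hxW _
        exact hb)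
      (fun x => inferInstance)
  refine IsZariskiLocalAtTarget.of_openCover (P := P) 𝒰 fun x => ?_
  have hpb := (isPullback_overPullback_map (W x).ι ((Over.pullback t).map u)).flip
  have hx : P ((Over.pullback (W x).ι).map ((Over.pullback t).map u)).left :=
    (prop_comp_iff u P t (W x).ι).mp (hW x)
  have e : hpb.isoPullback.hom ≫ pullback.snd ((Over.pullback t).map u).left
      (pullback.fst ((Over.pullback t).obj H).hom (W x).ι) =
      ((Over.pullback (W x).ι).map ((Over.pullback t).map u)).left := hpb.isoPullback_hom_snd
  have h3 : P (pullback.snd ((Over.pullback t).map u).left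
      (pullback.fst ((Over.pullback t).obj H).hom (W x).ι)) := by
    rw [← P.cancel_left_of_respectsIso hpb.isoPullback.hom, e]
    exact hx
  exact h3

/-! ### `Flat ∧ Surjective` -/

/-- (a) base change -/
theorem ff_comp {T T2 : Scheme.{u}} (t : T ⟶ S) (π : T2 ⟶ T)
    (h : Flat ((Over.pullback t).map u).left ∧ Surjective ((Over.pullback t).map u).left) :
    Flat ((Over.pullback (π ≫ t)).map u).left ∧
      Surjective ((Over.pullback (π ≫ t)).map u).left :=
  ⟨prop_comp u @Flat t π h.1, prop_comp u @Surjective t π h.2⟩

/-- (c) Zariski local on the base -/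
theorem ff_of_local {T : Scheme.{u}} (t : T ⟶ S)
    (h : ∀ x : T, ∃ W : T.Opens, x ∈ W ∧ (Flat ((Over.pullback (W.ι ≫ t)).map u).left ∧
      Surjective ((Over.pullback (W.ι ≫ t)).map u).left)) :
    Flat ((Over.pullback t).map u).left ∧ Surjective ((Over.pullback t).map u).left :=
  haveI : IsZariskiLocalAtTarget (@Flat.{u}) :=
    HasRingHomProperty.instIsZariskiLocalAtTarget (P := @Flat) (Q := RingHom.Flat)
  ⟨prop_of_local u @Flat t fun x => by
      obtain ⟨W, hx, h1, _⟩ := h x; exact ⟨W, hx, h1⟩,
    prop_of_local u @Surjective t fun x => by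
      obtain ⟨W, hx, _, h2⟩ := h x; exact ⟨W, hx, h2⟩⟩

end Groth.Agent.Helper20.PropBC
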