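import Mathlib
import Groth.Agent.Lib.Helper20.PnFlat
import Groth.Agent.Lib.Helper13.PnSerreUnif
import Groth.Agent.Lib.Helper13.FinTypeRestrict
import Groth.Agent.Lib.Helper13.LocFree4
import Groth.Agent.Lib.Helper13.LocGen3
import Groth.Agent.Lib.Helper13.StalkBasis5
import Groth.Agent.Lib.Helper13.FinAffine2
import Groth.Agent.Lib.Lead.KerFree2
import Groth.Agent.Lib.Helper9.ResVan
import Groth.Agent.Lib.Helper22.Pinch2
import Groth.Agent.Lib.Helper13.PbUnit

/-!
# Cohomology of `q^* N ⊗ O(d)` on `P^n_A` for a coherent module `N` on `Spec A` (`A` Noetherian)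
-/

set_option autoImplicit false
set_option linter.unusedSectionVars false
set_option linter.style.haveILetI false
universe u
open CategoryTheory CategoryTheory.Limits AlgebraicGeometry Opposite TopologicalSpace

namespace Groth.Agent.Helper20.PullReg

open Groth.Agent.Helper13 Groth.Agent.Helper13.Tensor
open Groth.Agent.Helper13.QCoh Groth.Agent.Helper13.FinType Groth.Agent.Helper13.LocFree

section Gen

variable {Y : Scheme.{u}}

/-- coherent modules on an affine scheme are quotients of finite free modules. -/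
theorem exists_epi_free' [IsAffine Y] (M : Y.Modules) (hM : Coh.IsCoh M) :
    ∃ (m : ℕ) (π : FlatMod.freeMod Y m ⟶ M), Epi π := by
  haveI := hM.1
  haveI := hM.2
  haveI : Module.Finite Γ(Y, ⊤) Γ(M, ⊤) :=
    finite_sections_of_isFiniteType M (isAffineOpen_top Y)
  obtain ⟨n, s, hs⟩ := Module.Finite.exists_fin (R := Γ(Y, ⊤)) (M := Γ(M, ⊤))
  refine ⟨n, descSec M s, ?_⟩
  rw [Groth.Agent.Helper13.StalkBasis.epi_descSec_iff]
  intro y
  exact Groth.Agent.Helper13.StalkBasis.comb_surjective_of_span M s y trivial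
    (genOn_of_span_eq_top M (isAffineOpen_top Y) s hs y trivial)

end Gen

section Affine

variable (n : ℕ) (A : Type u) [CommRing A]

/-- `H^p(P^n_A, q^*(O^m) ⊗ O(d)) = 0` for `p > 0`, `d ≥ -n`. -/
theorem subsingleton_HH_pull_free (m : ℕ) (d : ℤ) (hd : -(n : ℤ) ≤ d) (p : ℕ) (hp : 0 < p) :
    Subsingleton (Coh.HH (CohB1.ProjSpace n A)
      (CohB1.tensorMod ((Scheme.Modules.pullback (CohB1.ProjSpace.toSpec n A)).obj
        (FlatMod.freeMod (Spec (CommRingCat.of A)) m)) (Twist.twistProjSpace n A d)) p) := by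
  refine Groth.Agent.Helper13.PnSerreUnif.subsingleton_sigma' A
    (fun _ : Fin m => Coh.structureModule (Spec (CommRingCat.of A)))
    (Scheme.Modules.pullback (CohB1.ProjSpace.toSpec n A) ⋙
      Groth.Agent.Helper13.TensorFunctor.tensorRight (Twist.twistProjSpace n A d))
    p (fun _ => ?_)
  have e : CohB1.tensorMod ((Scheme.Modules.pullback (CohB1.ProjSpace.toSpec n A)).obj
      (Coh.structureModule (Spec (CommRingCat.of A)))) (Twist.twistProjSpace n A d) ≅
      Twist.twistProjSpace n A d :=
    Tensor.mapIso (Groth.Agent.Helper13.PbUnit.pullbackUnitIso (CohB1.ProjSpace.toSpec n A))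
      (Iso.refl _) ≪≫ Tensor.lid _
  refine Groth.Agent.Helper9.AffStrat.HH_subsingleton_of_iso e p ?_
  exact Groth.Agent.S0844.result A n d p (by omega) (by omega)

variable [IsNoetherianRing A]

/-- `H^p(P^n_A, q^* N ⊗ O(d)) = 0` for `p > 0`, `d ≥ -n`, `N` coherent on `Spec A`. -/
theorem subsingleton_HH_pull_coh_aux (d : ℤ) (hd : -(n : ℤ) ≤ d) :
    ∀ a : ℕ, ∀ N : (Spec (CommRingCat.of A)).Modules, Coh.IsCoh N → ∀ p : ℕ, 0 < p → n < p + a →
      Subsingleton (Coh.HH (CohB1.ProjSpace n A)
        (CohB1.tensorMod ((Scheme.Modules.pullback (CohB1.ProjSpace.toSpec n A)).obj N)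
          (Twist.twistProjSpace n A d)) p) := by
  have hLd := Groth.Agent.Helper26.PnTwist.isInvertible_twist n A d
  haveI : (Twist.twistProjSpace n A d).IsQuasicoherent :=
    Groth.Agent.Helper13.Inv.isQuasicoherent_of_isInvertible _ hLd
  intro a
  induction a with
  | zero =>
    intro N hN p _ hpn
    haveI : N.IsQuasicoherent := hN.1
    haveI : Coh.IsQCoh (CohB1.tensorMod ((Scheme.Modules.pullback (CohB1.ProjSpace.toSpec n A)).obj N)
        (Twist.twistProjSpace n A d)) :=
      Groth.Agent.Helper13.Tensor.isQuasicoherent_tensorMod _ _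
    exact Groth.Agent.S0022.result n A _ p (by omega)
  | succ a ih =>
    intro N hN p hp hpn
    obtain ⟨m, π, hπ⟩ := exists_epi_free' N hN
    haveI := hπ
    have hEcoh : Coh.IsCoh (FlatMod.freeMod (Spec (CommRingCat.of A)) m) :=
      Groth.Agent.Helper9.ResVan.isCoh_of_isFinLocFree _
        (Groth.Agent.Helper13.LocFree.isFinLocFree_freeMod m)
    have hK : Coh.IsCoh (kernel π) := Groth.Agent.Lead.KerFree.isCoh_kernel hEcoh hN π
    haveI : Epi (ShortComplex.mk (kernel.ι π) π (kernel.condition π)).g := hπ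
    have hS : (ShortComplex.mk (kernel.ι π) π (kernel.condition π)).ShortExact :=
      { exact := ShortComplex.exact_of_f_is_kernel _ (kernelIsKernel π) }
    haveI : PreservesFiniteLimits (Scheme.Modules.pullback (CohB1.ProjSpace.toSpec n A)) :=
      Groth.Agent.Helper24.FlatPull.preservesFiniteLimits_pullback _
    have hS' := hS.map_of_exact (Scheme.Modules.pullback (CohB1.ProjSpace.toSpec n A))
    have hS'' := Groth.Agent.Helper13.TwistSES.tensorSC_shortExact _ hS'
      (Twist.twistProjSpace n A d) hLd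
    exact Groth.Agent.Helper13.QAffAcyc.HH_right _ hS'' p
      (subsingleton_HH_pull_free n A m d hd p hp)
      (ih (kernel π) hK (p + 1) (by omega) (by omega))

/-- `H^p(P^n_A, q^* N ⊗ O(d)) = 0` for `p > 0` and (`p > n` or `d ≥ -n`), `N` coherent. -/
theorem subsingleton_HH_pull_coh (N : (Spec (CommRingCat.of A)).Modules) (hN : Coh.IsCoh N)
    (d : ℤ) (p : ℕ) (hp : 0 < p) (hpd : n < p ∨ -(n : ℤ) ≤ d) :
    Subsingleton (Coh.HH (CohB1.ProjSpace n A)
      (CohB1.tensorMod ((Scheme.Modules.pullback (CohB1.ProjSpace.toSpec n A)).obj N)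
        (Twist.twistProjSpace n A d)) p) := by
  by_cases hnp : n < p
  · have hLd := Groth.Agent.Helper26.PnTwist.isInvertible_twist n A d
    haveI : (Twist.twistProjSpace n A d).IsQuasicoherent :=
      Groth.Agent.Helper13.Inv.isQuasicoherent_of_isInvertible _ hLd
    haveI : N.IsQuasicoherent := hN.1
    haveI : Coh.IsQCoh (CohB1.tensorMod ((Scheme.Modules.pullback (CohB1.ProjSpace.toSpec n A)).obj N)
        (Twist.twistProjSpace n A d)) :=
      Groth.Agent.Helper13.Tensor.isQuasicoherent_tensorMod _ _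
    exact Groth.Agent.S0022.result n A _ p hnp
  · have hd : -(n : ℤ) ≤ d := by
      rcases hpd with h | h
      · exact absurd h hnp
      · exact h
    exact subsingleton_HH_pull_coh_aux n A d hd (n + 1) N hN p hp (by omega)

end Affine

end Groth.Agent.Helper20.PullReg
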