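import Mathlib
import Groth.Agent.Lib.Helper20.PullReg1
import Groth.Agent.Lib.Helper13.PnOverLoc
import Groth.Agent.Lib.Helper13.TensorRestrict

/-!
# `R^i pr_*(pr^* G ⊗ O(d)) = 0` on `P^r_Y` (`Y` locally Noetherian, `G` coherent)
-/

set_option autoImplicit false
set_option linter.unusedSectionVars false
set_option linter.style.haveILetI false
universe u
open CategoryTheory CategoryTheory.Limits AlgebraicGeometry Opposite TopologicalSpace

namespace Groth.Agent.Helper20.PullReg

open Groth.Agent.Helper13 Groth.Agent.Helper13.Tensor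
open Groth.Agent.Helper17.QP Groth.Agent.Helper13.PnOverLoc

section Rel

variable (Y : Scheme.{u}) (r : ℕ) (d : ℤ) (G : Y.Modules)

/-- the module `pr^* G ⊗ O(d)` on `P^r_Y`. -/
noncomputable abbrev pullTw : (CohB1.ProjSpaceOver r Y).Modules :=
  CohB1.tensorMod ((Scheme.Modules.pullback (CohB1.ProjSpaceOver.toBase r Y)).obj G)
    (Twist.twistOver r Y d)

instance isQuasicoherent_pullTw [G.IsQuasicoherent] : (pullTw Y r d G).IsQuasicoherent :=
  Groth.Agent.Helper13.Tensor.isQuasicoherent_tensorMod _ _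

variable [IsLocallyNoetherian Y]

theorem HU_pullTw_subsingleton (hG : Coh.IsCoh G) (i : ℕ) (hi : 0 < i)
    (hid : r < i ∨ -(r : ℤ) ≤ d) (V : Y.Opens) (hV : IsAffineOpen V) :
    Subsingleton (CohTop.HU (X := (CohB1.ProjSpaceOver r Y).toTopCat)
      (Coh.toAb (pullTw Y r d G)) i (CohB1.ProjSpaceOver.toBase r Y ⁻¹ᵁ V)) := by
  haveI : G.IsQuasicoherent := hG.1
  haveI : SheafOfModules.IsFiniteType (R := Y.ringCatSheaf) G := hG.2
  let A : Type u := Γ(Y, V)
  haveI : IsNoetherianRing A := IsLocallyNoetherian.component_noetherian ⟨V, hV⟩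
  let φ : Spec (CommRingCat.of A) ⟶ Y := hV.fromSpec
  haveI : IsOpenImmersion φ := inferInstanceAs (IsOpenImmersion hV.fromSpec)
  have t : IsPullback
      (pullback.fst (CohB1.ProjSpace.toSpec r (ULift.{u} ℤ)) (specULiftZIsTerminal.from Y))
      (pullback.snd (CohB1.ProjSpace.toSpec r (ULift.{u} ℤ)) (specULiftZIsTerminal.from Y))
      (CohB1.ProjSpace.toSpec r (ULift.{u} ℤ)) (specULiftZIsTerminal.from Y) :=
    IsPullback.of_hasPullback _ _
  have hs : IsPullback (gmap r A) (CohB1.ProjSpace.toSpec r A)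
      (CohB1.ProjSpace.toSpec r (ULift.{u} ℤ)) (φ ≫ specULiftZIsTerminal.from Y) := by
    have h0 := projSpace_isPullback r A
    rw [show Spec.map (CommRingCat.ofHom (rho A)) = φ ≫ specULiftZIsTerminal.from Y from
      specULiftZIsTerminal.hom_ext _ _] at h0
    exact h0
  have sq := IsPullback.of_right' hs t
  let j : CohB1.ProjSpace r A ⟶ CohB1.ProjSpaceOver r Y :=
    t.lift (gmap r A) (CohB1.ProjSpace.toSpec r A ≫ φ) (hs.w.trans (Category.assoc _ _ _).symm)
  have hjfst : j ≫ pullback.fst (CohB1.ProjSpace.toSpec r (ULift.{u} ℤ))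
      (specULiftZIsTerminal.from Y) = gmap r A := t.lift_fst _ _ _
  have hjsnd : j ≫ CohB1.ProjSpaceOver.toBase r Y = CohB1.ProjSpace.toSpec r A ≫ φ :=
    t.lift_snd _ _ _
  haveI hopen : IsOpenImmersion j :=
    MorphismProperty.of_isPullback (P := @IsOpenImmersion) sq.flip inferInstance
  have hrange : Set.range j =
      ((CohB1.ProjSpaceOver.toBase r Y ⁻¹ᵁ V : (CohB1.ProjSpaceOver r Y).Opens) :
        Set (CohB1.ProjSpaceOver r Y)) := by
    have h1 := range_fst_of_isPullback sq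
    have h2 : Set.range φ = (V : Set Y) := hV.range_fromSpec
    rw [h2] at h1
    exact h1
  refine HU_subsingleton_of_openImmersion j (pullTw Y r d G) i _ hrange ?_
  obtain ⟨ε⟩ := gmap_pullback_twist r A d
  let ψ : (Scheme.Modules.pullback j).obj (Twist.twistOver r Y d) ≅ Twist.twistProjSpace r A d :=
    (Scheme.Modules.pullbackComp j (pullback.fst (CohB1.ProjSpace.toSpec r (ULift.{u} ℤ))
      (specULiftZIsTerminal.from Y))).app (Twist.twistProjSpace r (ULift.{u} ℤ) d) ≪≫
    (Scheme.Modules.pullbackCongr hjfst).app _ ≪≫ ε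
  let N : (Spec (CommRingCat.of A)).Modules := (Scheme.Modules.pullback φ).obj G
  have hN : Coh.IsCoh N := ⟨inferInstance, Groth.Agent.Helper22.Pinch.isFiniteType_pullback φ G⟩
  let χ : (Scheme.Modules.pullback j).obj
      ((Scheme.Modules.pullback (CohB1.ProjSpaceOver.toBase r Y)).obj G) ≅
      (Scheme.Modules.pullback (CohB1.ProjSpace.toSpec r A)).obj N :=
    (Scheme.Modules.pullbackComp j (CohB1.ProjSpaceOver.toBase r Y)).app G ≪≫
    (Scheme.Modules.pullbackCongr hjsnd).app G ≪≫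
    ((Scheme.Modules.pullbackComp (CohB1.ProjSpace.toSpec r A) φ).app G).symm
  let θ : (Scheme.Modules.pullback j).obj (pullTw Y r d G) ≅
      CohB1.tensorMod ((Scheme.Modules.pullback (CohB1.ProjSpace.toSpec r A)).obj N)
        (Twist.twistProjSpace r A d) :=
    ((Scheme.Modules.restrictFunctorIsoPullback j).app (pullTw Y r d G)).symm ≪≫
    restrictIso j _ _ ≪≫
    Tensor.mapIso ((Scheme.Modules.restrictFunctorIsoPullback j).app _ ≪≫ χ)
      ((Scheme.Modules.restrictFunctorIsoPullback j).app _ ≪≫ ψ)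
  exact Groth.Agent.Helper9.AffStrat.HH_subsingleton_of_iso θ i
    (subsingleton_HH_pull_coh r A N hN d i hi hid)

/-- `R^i pr_*(pr^* G ⊗ O(d)) = 0` for `i > 0` and (`i > r` or `d ≥ -r`). -/
theorem isZero_RpushAb_pullTw (hG : Coh.IsCoh G) (i : ℕ) (hi : 0 < i)
    (hid : r < i ∨ -(r : ℤ) ≤ d) :
    IsZero ((Coh.RpushAb (CohB1.ProjSpaceOver.toBase r Y) i).obj
      (Coh.toAb (pullTw Y r d G))) := by
  obtain ⟨e⟩ := Groth.Agent.Helper13.RpushShf.main
    (Opens.grothendieckTopology (CohB1.ProjSpaceOver r Y))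
    (Opens.grothendieckTopology Y)
    (TopologicalSpace.Opens.map (CohB1.ProjSpaceOver.toBase r Y).base)
    (Coh.toAb (pullTw Y r d G)) i
  refine IsZero.of_iso ?_ e
  refine Groth.Agent.Helper13.ShfZero.isZero_presheafToSheaf_of_basis (Y := Y.toTopCat) _
    {U | IsAffineOpen U} Y.isBasis_affineOpens ?_
  intro W hW
  exact HU_pullTw_subsingleton Y r d G hG i hi hid W hW

end Rel

end Groth.Agent.Helper20.PullReg
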