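import Mathlib
import Groth.Agent.Lib.Helper20.PullReg2
import Groth.Agent.Lib.Helper20.KRRCounit1
import Groth.Agent.Lib.Helper13.RpushCoh2
import Groth.Agent.Lib.Helper24.ModGroth

/-!
# Pullbacks of coherent modules to `P^n_Y` are regular; the kernel of the counit of a regular
coherent module
-/

set_option autoImplicit false
set_option linter.unusedSectionVars false
set_option linter.style.haveILetI false
universe u
open CategoryTheory CategoryTheory.Limits AlgebraicGeometry Opposite TopologicalSpace

namespace Groth.Agent.Helper20.PullReg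

open Groth.Agent.Helper13 Groth.Agent.Helper13.Tensor
open Groth.Agent.Helper20.KRRReg Groth.Agent.Helper20.KRRCounit

/-- the direct image of a coherent module under a proper morphism to a locally Noetherian scheme
is coherent. -/
theorem isCoh_pushforward_of_isProper {X S : Scheme.{u}} (f : X ⟶ S) [IsProper f]
    [IsLocallyNoetherian S] (M : X.Modules) (hM : Coh.IsCoh M) :
    Coh.IsCoh ((Scheme.Modules.pushforward f).obj M) := by
  haveI : EnoughInjectives X.Modules :=
    Groth.Agent.Helper24.ModGroth.enoughInjectives_sheafOfModules X.ringCatSheaf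
  haveI : HasInjectiveResolutions X.Modules := inferInstance
  have h := Groth.Agent.Helper13.RpushCoh.isCoh_Rpush f M hM 0
  exact Groth.Agent.Helper24.CohExt.isCoh_of_iso
    ((Functor.rightDerivedZeroIsoSelf (Scheme.Modules.pushforward f)).app M) h

section Pn

variable (n : ℕ) (Y : Scheme.{u}) [IsLocallyNoetherian Y]

/-- the pullback to `P^n_Y` of a coherent module on `Y` is regular. -/
theorem isRegSheaf_pullback (G : Y.Modules) (hG : Coh.IsCoh G) :
    KRR.IsRegSheaf n Y ((Scheme.Modules.pullback (KRR.pr n Y)).obj G) := by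
  intro i hi
  have hid : n < i ∨ -(n : ℤ) ≤ -(i : ℤ) := by
    by_cases h : n < i
    · exact Or.inl h
    · right; omega
  have h := isZero_RpushAb_pullTw Y n (-(i : ℤ)) G hG i hi hid
  exact isZero_RpushAb_of_iso (KRR.pr n Y) (braid _ _) i h

/-- for a coherent regular module `F` on `P^n_Y`, the kernel `Z` of `p^* p_* F ⟶ F` has `Z(1)`
regular. -/
theorem isRegSheaf_twF_one_kernel_counit (F : (KRR.PY n Y).Modules) (hF : Coh.IsCoh F)
    (hreg : KRR.IsRegSheaf n Y F) :
    KRR.IsRegSheaf n Y (KRR.twF n Y 1
      (kernel ((Scheme.Modules.pullbackPushforwardAdjunction (KRR.pr n Y)).counit.app F))) := by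
  haveI hepi : Epi ((Scheme.Modules.pullbackPushforwardAdjunction (KRR.pr n Y)).counit.app F) :=
    epi_counit n Y F hF.1 hreg
  haveI : IsProper (KRR.pr n Y) := inferInstance
  have hG : Coh.IsCoh ((Scheme.Modules.pushforward (KRR.pr n Y)).obj F) :=
    isCoh_pushforward_of_isProper (KRR.pr n Y) F hF
  have hreg₂ : KRR.IsRegSheaf n Y (KRR.twF n Y 1 ((Scheme.Modules.pullback (KRR.pr n Y)).obj
      ((Scheme.Modules.pushforward (KRR.pr n Y)).obj F))) := by
    have h := isRegSheaf_twF n Y _ (isRegSheaf_pullback n Y _ hG) 1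
    simpa using h
  let S : ShortComplex (KRR.PY n Y).Modules :=
    ShortComplex.mk (kernel.ι ((Scheme.Modules.pullbackPushforwardAdjunction (KRR.pr n Y)).counit.app F))
      ((Scheme.Modules.pullbackPushforwardAdjunction (KRR.pr n Y)).counit.app F)
      (kernel.condition _)
  haveI : Epi S.g := hepi
  have hS : S.ShortExact :=
    { exact := ShortComplex.exact_of_f_is_kernel _ (kernelIsKernel _) }
  have hsplit : Epi ((Scheme.Modules.pushforward (KRR.pr n Y)).map S.g) := by
    have h := (Scheme.Modules.pullbackPushforwardAdjunction (KRR.pr n Y)).right_triangle_components F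
    haveI : IsSplitEpi ((Scheme.Modules.pushforward (KRR.pr n Y)).map
        ((Scheme.Modules.pullbackPushforwardAdjunction (KRR.pr n Y)).counit.app F)) :=
      IsSplitEpi.mk' ⟨_, h⟩
    exact inferInstanceAs (Epi ((Scheme.Modules.pushforward (KRR.pr n Y)).map
        ((Scheme.Modules.pullbackPushforwardAdjunction (KRR.pr n Y)).counit.app F)))
  exact isRegSheaf_twF_one_X₁ n Y S hS hreg₂ hreg hsplit

end Pn

end Groth.Agent.Helper20.PullReg
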