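import Mathlib

/-!
# An irreducible polynomial over a perfect field has a nonzero partial derivative
(towards S14312)
-/

open MvPolynomial

namespace Groth.Agent.Helper20.QSingA

variable {K : Type*} [Field K] {σ : Type*}

/-- If all partial derivatives of `p` vanish, all exponents occurring in `p` are zero in `K`. -/
lemma exponent_cast_eq_zero {p : MvPolynomial σ K} (h : ∀ i, pderiv i p = 0)
    (n : σ →₀ ℕ) (hn : n ∈ p.support) (i : σ) : ((n i : ℕ) : K) = 0 := by
  classical
  by_cases hni : n i = 0
  · rw [hni, Nat.cast_zero]
  · have h1 := coeff_pderiv (i := i) p (n - Finsupp.single i 1)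
    rw [h i, coeff_zero] at h1
    have h2 : n - Finsupp.single i 1 + Finsupp.single i 1 = n := by
      ext j
      by_cases hj : j = i
      · subst hj
        simp only [Finsupp.coe_add, Finsupp.coe_tsub, Pi.add_apply, Pi.sub_apply,
          Finsupp.single_eq_same]
        omega
      · simp [Finsupp.single_apply, Ne.symm hj]
    rw [h2] at h1
    have h3 : (((n - Finsupp.single i 1 : σ →₀ ℕ) i : ℕ) : K) + 1 = ((n i : ℕ) : K) := by
      simp only [Finsupp.coe_tsub, Pi.sub_apply, Finsupp.single_eq_same]
      have : n i - 1 + 1 = n i := by omega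
      exact_mod_cast congrArg (Nat.cast : ℕ → K) this
    rw [h3] at h1
    rcases mul_eq_zero.mp h1.symm with h4 | h4
    · exact absurd h4 (mem_support_iff.mp hn)
    · exact h4

/-- An irreducible polynomial over a perfect field has a nonzero partial derivative. -/
theorem exists_pderiv_ne_zero [PerfectField K] {p : MvPolynomial σ K} (hp : Irreducible p) :
    ∃ i, pderiv i p ≠ 0 := by
  classical
  by_contra hcon
  push Not at hcon
  have hexp := exponent_cast_eq_zero hcon
  obtain ⟨ℓ, hE⟩ := ExpChar.exists (R := K)
  rcases hE with _ | ⟨hprime⟩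
  · -- characteristic zero: `p` is constant
    have hsupp : ∀ n ∈ p.support, n = 0 := by
      intro n hn
      ext i
      have := hexp n hn i
      simpa using this
    have hC : p = C (coeff 0 p) := by
      ext n
      rw [coeff_C]
      by_cases hn : n ∈ p.support
      · rw [hsupp n hn]
        simp
      · rw [notMem_support_iff.mp hn]
        split_ifs with h0
        · rw [← h0] at hn
          exact (notMem_support_iff.mp hn).symm
        · rfl
    have hnu := hp.not_isUnit
    rw [hC] at hnu
    apply hnu
    apply IsUnit.map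
    rw [isUnit_iff_ne_zero]
    intro h0
    apply hp.ne_zero
    rw [hC, h0, C_0]
  · -- characteristic `ℓ`: `p` is an `ℓ`-th power
    haveI : Fact ℓ.Prime := ⟨hprime⟩
    haveI : ExpChar K ℓ := ExpChar.prime hprime
    haveI : PerfectRing K ℓ := PerfectField.toPerfectRing ℓ
    have hdvd : ∀ n ∈ p.support, ∀ i, ℓ ∣ n i := by
      intro n hn i
      exact (CharP.cast_eq_zero_iff K ℓ (n i)).mp (hexp n hn i)
    set r : MvPolynomial σ K := ∑ n ∈ p.support,
      monomial (n.mapRange (· / ℓ) (Nat.zero_div ℓ)) ((frobeniusEquiv K ℓ).symm (coeff n p)) with hr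
    have hpow : r ^ ℓ = p := by
      rw [← map_frobenius_expand (p := ℓ), hr, map_sum, map_sum]
      conv_rhs => rw [← support_sum_monomial_coeff p]
      refine Finset.sum_congr rfl fun n hn => ?_
      rw [expand_monomial, map_monomial]
      have e1 : ℓ • Finsupp.mapRange (· / ℓ) (Nat.zero_div ℓ) n = n := by
        ext i
        rw [Finsupp.smul_apply, Finsupp.mapRange_apply, smul_eq_mul]
        exact Nat.mul_div_cancel' (hdvd n hn i)
      rw [e1, frobenius_apply_frobeniusEquiv_symm]
    have hℓ2 : 2 ≤ ℓ := hprime.two_le
    have hfac : p = r * r ^ (ℓ - 1) := by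
      rw [← pow_succ', Nat.sub_add_cancel (by omega), hpow]
    rcases hp.isUnit_or_isUnit hfac with hu | hu
    · apply hp.not_isUnit
      rw [← hpow]
      exact hu.pow ℓ
    · apply hp.not_isUnit
      rw [← hpow]
      exact ((isUnit_pow_iff (by omega)).mp hu).pow ℓ

end Groth.Agent.Helper20.QSingA
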