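import Groth.Agent.Lib.Helper20.QSingA
import Groth.Agent.Lib.Helper2.MvPolyHom

/-!
# A general polar of a squarefree form is coprime to it (towards S14312)
-/

open MvPolynomial

namespace Groth.Agent.Helper20.QSingB

open Groth.Agent.Helper20.QSingA Groth.Agent.Lib.Helper2.MvPolyHom

variable {K : Type*} [Field K] {σ : Type*} [Fintype σ]

/-- The directional derivative. -/
noncomputable def Dv (v : σ → K) (p : MvPolynomial σ K) : MvPolynomial σ K :=
  ∑ i, C (v i) * pderiv i p

lemma Dv_mul (v : σ → K) (p q : MvPolynomial σ K) :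
    Dv v (p * q) = p * Dv v q + q * Dv v p := by
  simp only [Dv, Derivation.leibniz, smul_eq_mul, Finset.mul_sum, ← Finset.sum_add_distrib]
  refine Finset.sum_congr rfl fun i _ => ?_
  ring

lemma Dv_C (v : σ → K) (c : K) : Dv v (C c : MvPolynomial σ K) = 0 := by
  simp [Dv]

lemma Dv_isHomogeneous {p : MvPolynomial σ K} {d : ℕ} (hp : p.IsHomogeneous d) (v : σ → K) :
    (Dv v p).IsHomogeneous (d - 1) := by
  apply IsHomogeneous.sum
  intro i _
  exact (hp.pderiv).C_mul _

lemma eval_Dv (v y : σ → K) (p : MvPolynomial σ K) :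
    eval y (Dv v p) = ∑ i, v i * eval y (pderiv i p) := by
  simp [Dv]

/-- The linear map `v ↦ Dv v p`. -/
noncomputable def DvLin (p : MvPolynomial σ K) : (σ → K) →ₗ[K] MvPolynomial σ K :=
  ∑ i, (LinearMap.proj i : (σ → K) →ₗ[K] K).smulRight (pderiv i p)

lemma DvLin_apply (p : MvPolynomial σ K) (v : σ → K) : DvLin p v = Dv v p := by
  simp [DvLin, Dv, MvPolynomial.smul_eq_C_mul]

lemma not_dvd_Dv {f : MvPolynomial σ K} {d : ℕ} (hf : f.IsHomogeneous d) (hsq : Squarefree f)
    (hf0 : f ≠ 0) {q : MvPolynomial σ K} (hq : Irreducible q) (hqf : q ∣ f) (v : σ → K)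
    (hv : Dv v q ≠ 0) : ¬ q ∣ Dv v f := by
  intro hdvd
  obtain ⟨r, hr⟩ := hqf
  have hqr : ¬ q ∣ r := by
    rintro ⟨s, hs⟩
    have : q * q ∣ f := ⟨s, by rw [hr, hs]; ring⟩
    exact hq.not_isUnit (hsq q this)
  have hprime : Prime q := hq.prime
  rw [hr, Dv_mul] at hdvd
  have h1 : q ∣ r * Dv v q := (dvd_add_right (dvd_mul_right q (Dv v r))).mp hdvd
  rcases hprime.dvd_or_dvd h1 with h | h
  · exact hqr h
  · obtain ⟨t, ht⟩ := h
    have hqhom : q.IsHomogeneous q.totalDegree :=
      (isHomogeneous_of_mul (hr ▸ hf) (hr ▸ hf0)).1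
    have hD := Dv_isHomogeneous hqhom v
    rw [ht] at hD hv
    obtain ⟨-, -, hdeg⟩ := isHomogeneous_of_mul hD hv
    have h0 : q.totalDegree = 0 := by omega
    have hC := totalDegree_eq_zero_iff_eq_C.mp h0
    apply hq.not_isUnit
    rw [hC]
    apply IsUnit.map
    rw [isUnit_iff_ne_zero]
    intro hc
    apply hq.ne_zero
    rw [hC, hc, C_0]

/-- For a squarefree form `f` over an infinite perfect field some polar `Dv v f` is nonzero and
coprime to `f`. -/
theorem exists_polar_coprime [Infinite K] [PerfectField K] {f : MvPolynomial σ K} {d : ℕ}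
    (hf : f.IsHomogeneous d) (hsq : Squarefree f) (hnu : ¬ IsUnit f) :
    ∃ v : σ → K, Dv v f ≠ 0 ∧ IsRelPrime (Dv v f) f := by
  classical
  have hf0 : f ≠ 0 := hsq.ne_zero
  set P := UniqueFactorizationMonoid.factors f with hP
  set s : Finset (Submodule K (σ → K)) :=
    P.toFinset.image (fun q => LinearMap.ker (DvLin q)) with hs
  have hstop : ⊤ ∉ s := by
    intro h
    obtain ⟨q, hq, hker⟩ := Finset.mem_image.mp h
    have hqirr := UniqueFactorizationMonoid.irreducible_of_factor q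
      (Multiset.mem_toFinset.mp hq)
    obtain ⟨i, hi⟩ := exists_pderiv_ne_zero hqirr
    have hmem : (Pi.single i 1 : σ → K) ∈ LinearMap.ker (DvLin q) := by
      rw [hker]
      trivial
    rw [LinearMap.mem_ker, DvLin_apply] at hmem
    apply hi
    have : Dv (Pi.single i 1) q = pderiv i q := by
      rw [Dv, Finset.sum_eq_single i]
      · simp
      · intro j _ hji
        simp [Pi.single_apply, hji]
      · intro h
        exact absurd (Finset.mem_univ i) h
    rw [← this]
    exact hmem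
  have hne := Subspace.biUnion_ne_univ_of_top_notMem hstop
  obtain ⟨v, hv⟩ : ∃ v, v ∉ ⋃ p ∈ s, (p : Set (σ → K)) := by
    by_contra hcon
    push Not at hcon
    exact hne (Set.eq_univ_of_forall hcon)
  have hvq : ∀ q ∈ P, Dv v q ≠ 0 := by
    intro q hq h0
    apply hv
    simp only [Set.mem_iUnion]
    refine ⟨LinearMap.ker (DvLin q),
      Finset.mem_image.mpr ⟨q, Multiset.mem_toFinset.mpr hq, rfl⟩, ?_⟩
    rw [SetLike.mem_coe, LinearMap.mem_ker, DvLin_apply]
    exact h0
  have hirr : ∀ q, Irreducible q → q ∣ f → ¬ q ∣ Dv v f := by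
    intro q hq hqf
    obtain ⟨q', hq'P, hassoc⟩ :=
      UniqueFactorizationMonoid.exists_mem_factors_of_dvd hf0 hq hqf
    apply not_dvd_Dv hf hsq hf0 hq hqf v
    obtain ⟨u, hu⟩ := hassoc
    intro h0
    apply hvq q' hq'P
    rw [← hu, Dv_mul, h0, mul_zero, add_zero]
    obtain ⟨c, -, huc⟩ := (MvPolynomial.isUnit_iff_eq_C_of_isReduced).mp u.isUnit
    rw [huc, Dv_C, mul_zero]
  obtain ⟨q₀, hq₀, hq₀f⟩ := WfDvdMonoid.exists_irreducible_factor hnu hf0
  refine ⟨v, ?_, ?_⟩
  · intro h0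
    apply hirr q₀ hq₀ hq₀f
    rw [h0]
    exact dvd_zero _
  · intro d' hd1 hd2
    by_contra hdu
    have hd0 : d' ≠ 0 := by
      rintro rfl
      exact hf0 (zero_dvd_iff.mp hd2)
    obtain ⟨q, hq, hqd⟩ := WfDvdMonoid.exists_irreducible_factor hdu hd0
    exact hirr q hq (hqd.trans hd2) (hqd.trans hd1)

end Groth.Agent.Helper20.QSingB
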