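import Groth.Agent.Lib.Helper20.CubicSing
import Groth.Agent.Lib.Helper20.QSingB

/-!
# Bezout with multiplicity two at singular points (towards S14312)

If `f, g` are coprime ternary forms of degrees `n, m`, and `y_k` are pairwise distinct points of the
projective plane at which `g` vanishes and `f` is singular, then `2 * #points ≤ n * m`.
-/

open MvPolynomial

namespace Groth.Agent.Helper20.QSingC

open Groth.Agent.Helper20.CubicTaylor Groth.Agent.Helper20.CubicPolar
  Groth.Agent.Helper20.CubicSing

universe u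

variable {K : Type u} [Field K]

/-- The derivative at `y` in the direction `w`. -/
noncomputable def dAt (y w : Fin 3 → K) (p : MvPolynomial (Fin 3) K) : K :=
  ∑ i, w i * eval y (pderiv i p)

lemma dAt_add (y w : Fin 3 → K) (p q : MvPolynomial (Fin 3) K) :
    dAt y w (p + q) = dAt y w p + dAt y w q := by
  simp only [dAt, map_add, mul_add, Finset.sum_add_distrib]

lemma dAt_smul (y w : Fin 3 → K) (c : K) (p : MvPolynomial (Fin 3) K) :
    dAt y w (c • p) = c * dAt y w p := by
  simp only [dAt, Finset.mul_sum]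
  refine Finset.sum_congr rfl fun i _ => ?_
  rw [Derivation.map_smul, smul_eval]
  ring

lemma dAt_mul (y w : Fin 3 → K) (p q : MvPolynomial (Fin 3) K) :
    dAt y w (p * q) = eval y p * dAt y w q + eval y q * dAt y w p := by
  simp only [dAt, Derivation.leibniz, smul_eq_mul, map_add, map_mul, Finset.mul_sum,
    ← Finset.sum_add_distrib]
  refine Finset.sum_congr rfl fun i _ => ?_
  ring

lemma dAt_sum {ι : Type*} (s : Finset ι) (y w : Fin 3 → K) (p : ι → MvPolynomial (Fin 3) K) :
    dAt y w (∑ k ∈ s, p k) = ∑ k ∈ s, dAt y w (p k) := by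
  classical
  induction s using Finset.induction_on with
  | empty => simp [dAt]
  | insert a s ha ih => rw [Finset.sum_insert ha, Finset.sum_insert ha, dAt_add, ih]

lemma dAt_linPoly (y w : Fin 3 → K) (φ : (Fin 3 → K) →ₗ[K] K) :
    dAt y w (linPoly φ) = φ w := by
  classical
  rw [LinearMap.pi_apply_eq_sum_univ φ w, dAt]
  refine Finset.sum_congr rfl fun i _ => ?_
  have : pderiv i (linPoly φ) = C (φ (fun j => if i = j then 1 else 0)) := by
    rw [linPoly, map_sum, Finset.sum_eq_single i]
    · rw [pderiv_C_mul, pderiv_X_self, mul_one]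
    · intro j _ hji
      rw [pderiv_C_mul, pderiv_X_of_ne hji, mul_zero]
    · intro h
      exact absurd (Finset.mem_univ i) h
  rw [this, eval_C, smul_eq_mul]

lemma dAt_sq_eq_zero (y w : Fin 3 → K) (p : MvPolynomial (Fin 3) K) (hp : eval y p = 0) :
    dAt y w (p ^ 2) = 0 := by
  rw [pow_two, dAt_mul, hp]
  ring

theorem card_le_of_sing (f g : MvPolynomial (Fin 3) K) (n m e : ℕ) (hf : f.IsHomogeneous n)
    (hg : g.IsHomogeneous m) (hg0 : g ≠ 0) (hrel : IsRelPrime f g)
    {ι' : Type*} [Fintype ι'] [DecidableEq ι']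
    (y : ι' → (Fin 3 → K)) (hy0 : ∀ k, y k ≠ 0)
    (hsep : ∀ k l, k ≠ l → y k ∉ Submodule.span K {y l})
    (hfy : ∀ k, eval (y k) f = 0) (hfy' : ∀ k i, eval (y k) (pderiv i f) = 0)
    (hgy : ∀ k, eval (y k) g = 0)
    (hdeg : 2 * (Fintype.card ι' - 1) + 1 = n + m + e) :
    2 * Fintype.card ι' ≤ n * m := by
  classical
  have hbez := Groth.Agent.Helper25.BezoutA.main n m e f g hf hg hg0 hrel
  set S := homogeneousSubmodule (Fin 3) K (n + m + e) with hS
  set J := Submodule.comap S.subtype
    ((Ideal.span ({f, g} : Set (MvPolynomial (Fin 3) K))).restrictScalars K) with hJ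
  -- tangent directions of `g`
  have hw : ∀ k, ∃ w : Fin 3 → K, (∑ i, w i * eval (y k) (pderiv i g) = 0) ∧
      w ∉ Submodule.span K {y k} := by
    intro k
    set L : (Fin 3 → K) →ₗ[K] K := ∑ i, (eval (y k) (pderiv i g)) • LinearMap.proj i with hL
    have hLx : ∀ x : Fin 3 → K, L x = ∑ i, x i * eval (y k) (pderiv i g) := by
      intro x
      simp [hL, mul_comm]
    have h1 := LinearMap.finrank_range_add_finrank_ker L
    rw [Module.finrank_fintype_fun_eq_card, Fintype.card_fin] at h1
    have h2 : Module.finrank K (LinearMap.range L) ≤ 1 := by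
      have := Submodule.finrank_le (LinearMap.range L)
      rwa [Module.finrank_self] at this
    by_contra hcon
    push Not at hcon
    have hle : LinearMap.ker L ≤ Submodule.span K {y k} := by
      intro x hx
      apply hcon x
      rw [← hLx]
      exact hx
    have h3 := Submodule.finrank_mono hle
    rw [finrank_span_singleton (hy0 k)] at h3
    omega
  choose w hw0 hwy using hw
  -- separating forms
  obtain ⟨h', hh', hh'0, hh'1⟩ := exists_sep y hsep
  have hμ : ∀ k, ∃ μ : Module.Dual K (Fin 3 → K), μ (y k) ≠ 0 := by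
    intro k
    obtain ⟨i, hi⟩ : ∃ i, y k i ≠ 0 := by
      by_contra h
      push Not at h
      exact hy0 k (funext h)
    exact ⟨LinearMap.proj i, hi⟩
  choose μ hμ using hμ
  have hlam : ∀ k, ∃ φ : Module.Dual K (Fin 3 → K), φ (y k) = 0 ∧ φ (w k) ≠ 0 := by
    intro k
    obtain ⟨φ, hφ1, hφ2⟩ := Submodule.exists_dual_map_eq_bot_of_notMem (hwy k) inferInstance
    refine ⟨φ, ?_, hφ1⟩
    have : φ (y k) ∈ (Submodule.span K {y k}).map φ :=
      Submodule.mem_map_of_mem (Submodule.mem_span_singleton_self _)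
    rw [hφ2] at this
    exact (Submodule.mem_bot K).mp this
  choose lam hlam0 hlam1 using hlam
  set A : ι' → MvPolynomial (Fin 3) K := fun k => h' k ^ 2 * linPoly (μ k) with hA
  set B : ι' → MvPolynomial (Fin 3) K := fun k => h' k ^ 2 * linPoly (lam k) with hB
  have hsq : ∀ k, (h' k ^ 2).IsHomogeneous (2 * (Fintype.card ι' - 1)) := by
    intro k
    have := (hh' k).pow 2
    rwa [mul_comm] at this
  have hAhom : ∀ k, (A k).IsHomogeneous (n + m + e) := by
    intro k
    rw [← hdeg]
    exact (hsq k).mul (linPoly_isHomogeneous _)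
  have hBhom : ∀ k, (B k).IsHomogeneous (n + m + e) := by
    intro k
    rw [← hdeg]
    exact (hsq k).mul (linPoly_isHomogeneous _)
  -- values
  have hAl : ∀ k l, k ≠ l → eval (y l) (A k) = 0 := by
    intro k l hkl
    rw [hA, map_mul, map_pow, hh'0 k l hkl]
    ring
  have hBl : ∀ k l, k ≠ l → eval (y l) (B k) = 0 := by
    intro k l hkl
    rw [hB, map_mul, map_pow, hh'0 k l hkl]
    ring
  have hdAl : ∀ k l, k ≠ l → dAt (y l) (w l) (A k) = 0 := by
    intro k l hkl
    rw [hA, dAt_mul, dAt_sq_eq_zero _ _ _ (hh'0 k l hkl), map_pow, hh'0 k l hkl]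
    ring
  have hdBl : ∀ k l, k ≠ l → dAt (y l) (w l) (B k) = 0 := by
    intro k l hkl
    rw [hB, dAt_mul, dAt_sq_eq_zero _ _ _ (hh'0 k l hkl), map_pow, hh'0 k l hkl]
    ring
  have hAk : ∀ k, eval (y k) (A k) ≠ 0 := by
    intro k
    rw [hA, map_mul, map_pow, eval_linPoly]
    exact mul_ne_zero (pow_ne_zero 2 (hh'1 k)) (hμ k)
  have hBk : ∀ k, eval (y k) (B k) = 0 := by
    intro k
    rw [hB, map_mul, eval_linPoly, hlam0 k, mul_zero]
  have hdBk : ∀ k, dAt (y k) (w k) (B k) ≠ 0 := by
    intro k
    rw [hB, dAt_mul, dAt_linPoly, eval_linPoly, hlam0 k, zero_mul, add_zero, map_pow]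
    exact mul_ne_zero (pow_ne_zero 2 (hh'1 k)) (hlam1 k)
  -- the evaluation map
  let E : S →ₗ[K] (ι' → K) × (ι' → K) :=
    { toFun := fun p => (fun k => eval (y k) p.1, fun k => dAt (y k) (w k) p.1)
      map_add' := by
        intro p q
        ext k
        · simp
        · simp [dAt_add]
      map_smul' := by
        intro c p
        ext k
        · simp [smul_eval]
        · simp [dAt_smul] }
  have hE1 : ∀ (p : S) (k : ι'), (E p).1 k = eval (y k) p.1 := fun _ _ => rfl
  have hE2 : ∀ (p : S) (k : ι'), (E p).2 k = dAt (y k) (w k) p.1 := fun _ _ => rfl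
  have hEJ : J ≤ LinearMap.ker E := by
    intro p hp
    rw [LinearMap.mem_ker]
    have hp' : p.1 ∈ Ideal.span ({f, g} : Set (MvPolynomial (Fin 3) K)) := hp
    obtain ⟨c, e', hce⟩ := Ideal.mem_span_pair.mp hp'
    have hdf : ∀ k, dAt (y k) (w k) f = 0 := by
      intro k
      rw [dAt]
      apply Finset.sum_eq_zero
      intro i _
      rw [hfy' k i, mul_zero]
    ext k
    · rw [hE1, ← hce, map_add, map_mul, map_mul, hfy, hgy, mul_zero, mul_zero, add_zero]
      rfl
    · rw [hE2, ← hce, dAt_add, dAt_mul, dAt_mul, hdf, hfy, hgy]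
      have : dAt (y k) (w k) g = 0 := hw0 k
      rw [this]
      simp
  have hsurj : Function.Surjective (J.liftQ E hEJ) := by
    rintro ⟨u, u'⟩
    set α : ι' → K := fun k => u k / eval (y k) (A k) with hα
    set β : ι' → K := fun k => (u' k - α k * dAt (y k) (w k) (A k)) / dAt (y k) (w k) (B k)
      with hβ
    set p : S := ∑ k, (α k • (⟨A k, (mem_homogeneousSubmodule _ _).mpr (hAhom k)⟩ : S) +
      β k • (⟨B k, (mem_homogeneousSubmodule _ _).mpr (hBhom k)⟩ : S)) with hp
    have hp1 : p.1 = ∑ k, (α k • A k + β k • B k) := by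
      rw [hp]
      simp
    refine ⟨Submodule.Quotient.mk p, ?_⟩
    rw [Submodule.liftQ_apply]
    ext l
    · rw [hE1, hp1, map_sum, Finset.sum_eq_single l]
      · rw [map_add, smul_eval, smul_eval, hBk, mul_zero, add_zero, hα]
        exact div_mul_cancel₀ _ (hAk l)
      · intro k _ hkl
        rw [map_add, smul_eval, smul_eval, hAl k l hkl, hBl k l hkl]
        ring
      · intro hl
        exact absurd (Finset.mem_univ l) hl
    · rw [hE2, hp1, dAt_sum, Finset.sum_eq_single l]
      · rw [dAt_add, dAt_smul, dAt_smul, hβ]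
        field_simp [hdBk l]
        ring
      · intro k _ hkl
        rw [dAt_add, dAt_smul, dAt_smul, hdAl k l hkl, hdBl k l hkl]
        ring
      · intro hl
        exact absurd (Finset.mem_univ l) hl
  have hfin := LinearMap.finrank_le_finrank_of_surjective hsurj
  rw [Module.finrank_prod, Module.finrank_fintype_fun_eq_card, hbez] at hfin
  omega

end Groth.Agent.Helper20.QSingC
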