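import Groth.Agent.Lib.Helper20.QSingC

/-!
# A reduced plane quartic has at most six singular points (S14312)
-/

open MvPolynomial

namespace Groth.Agent.Helper20.QSingD

open Groth.Agent.Helper20.CubicSing Groth.Agent.Helper20.QSingB Groth.Agent.Helper20.QSingC

universe u

theorem main {k : Type u} [Field k] [IsAlgClosed k] (f : MvPolynomial (Fin 3) k)
    (hf : f.IsHomogeneous 4) (hred : Squarefree f) :
    ∃ s : Finset (Projectivization k (Fin 3 → k)), s.card ≤ 6 ∧
      ∀ p : Projectivization k (Fin 3 → k),
        MvPolynomial.eval p.rep f = 0 →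
          (∀ i : Fin 3, MvPolynomial.eval p.rep (MvPolynomial.pderiv i f) = 0) → p ∈ s := by
  classical
  have hnu : ¬ IsUnit f := by
    intro hu
    exact eval_zero_ne_zero_of_isUnit hu (eval_zero_of_isHomogeneous hf (by norm_num))
  obtain ⟨v, hg0, hrel⟩ := exists_polar_coprime hf hred hnu
  set g := Dv v f with hg
  have hghom : g.IsHomogeneous 3 := Dv_isHomogeneous hf v
  set Sg : Set (Projectivization k (Fin 3 → k)) :=
    {p | MvPolynomial.eval p.rep f = 0 ∧
      ∀ i : Fin 3, MvPolynomial.eval p.rep (MvPolynomial.pderiv i f) = 0} with hSg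
  have key : ∀ T : Finset (Projectivization k (Fin 3 → k)), (T : Set _) ⊆ Sg → T.card ≤ 6 := by
    intro T hT
    by_contra hcon
    rw [not_le] at hcon
    obtain ⟨T', hT'T, hT'card⟩ := Finset.exists_subset_card_eq (show 7 ≤ T.card by omega)
    have hT' : ∀ p : ↥T', p.1 ∈ Sg := fun p => hT (Finset.mem_coe.mpr (hT'T p.2))
    have hcard : Fintype.card ↥T' = 7 := by rw [Fintype.card_coe, hT'card]
    have := card_le_of_sing f g 4 3 6 hf hghom hg0 hrel.symm
      (fun p : ↥T' => p.1.rep) (fun p => p.1.rep_nonzero)
      (by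
        intro p q hpq hmem
        obtain ⟨c, hc⟩ := Submodule.mem_span_singleton.mp hmem
        apply hpq
        apply Subtype.ext
        rw [← Projectivization.mk_rep p.1, ← Projectivization.mk_rep q.1,
          Projectivization.mk_eq_mk_iff']
        exact ⟨c, hc⟩)
      (fun p => (hT' p).1) (fun p i => (hT' p).2 i)
      (by
        intro p
        rw [hg, eval_Dv]
        apply Finset.sum_eq_zero
        intro i _
        rw [(hT' p).2 i, mul_zero])
      (by rw [hcard])
    rw [hcard] at this
    omega
  have hfin : Sg.Finite := by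
    by_contra hinf
    obtain ⟨T, hTs, hTcard⟩ := Set.Infinite.exists_subset_card_eq hinf 7
    have := key T hTs
    omega
  refine ⟨hfin.toFinset, key _ (by simp), ?_⟩
  intro p hp1 hp2
  rw [Set.Finite.mem_toFinset]
  exact ⟨hp1, hp2⟩

end Groth.Agent.Helper20.QSingD
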