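import Mathlib
import Groth.Prelude
import Groth.Agent.Lib.Helper20.GrInj2

/-!
# The ℤ-grading of the extended Rees algebra of a filtration (helper20)
-/

set_option autoImplicit false

open Polynomial LaurentPolynomial DirectSum

namespace Groth.Agent.Helper20.RE

universe u

variable {A : Type u} [CommRing A] (𝓕 : FiltBl.IdealFiltration A)

theorem mem_extRees {f : A[T;T⁻¹]} : f ∈ 𝓕.extRees ↔ ∀ n : ℤ, f.coeff n ∈ 𝓕.F n.toNat := Iff.rfl

/-- the monomial `a T^n` of the extended Rees algebra -/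
noncomputable def mono (n : ℤ) (a : A) (ha : a ∈ 𝓕.F n.toNat) : 𝓕.extRees :=
  ⟨AddMonoidAlgebra.single n a, fun m => by
    classical
    rw [AddMonoidAlgebra.coeff_single, Finsupp.single_apply]
    split_ifs with h
    · subst h; exact ha
    · exact Ideal.zero_mem _⟩

@[simp] theorem coe_mono (n : ℤ) (a : A) (ha : a ∈ 𝓕.F n.toNat) :
    ((mono 𝓕 n a ha : 𝓕.extRees) : A[T;T⁻¹]) = AddMonoidAlgebra.single n a := rfl

/-- the homogeneous pieces of the extended Rees algebra -/
def piece (n : ℤ) : AddSubgroup 𝓕.extRees where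
  carrier := {x | ∀ m, m ≠ n → (x : A[T;T⁻¹]).coeff m = 0}
  add_mem' := by
    intro x y hx hy m hm
    simp only [Subalgebra.coe_add, AddMonoidAlgebra.coeff_add, Finsupp.add_apply]
    rw [hx m hm, hy m hm, add_zero]
  zero_mem' := by
    intro m _
    simp
  neg_mem' := by
    intro x hx m hm
    simp only [Subalgebra.coe_neg]
    have : ((-(x : A[T;T⁻¹])).coeff m) = - ((x : A[T;T⁻¹]).coeff m) := rfl
    rw [this, hx m hm, neg_zero]

theorem mem_piece {n : ℤ} {x : 𝓕.extRees} :
    x ∈ piece 𝓕 n ↔ ∀ m, m ≠ n → (x : A[T;T⁻¹]).coeff m = 0 := Iff.rfl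

theorem mem_piece_iff {n : ℤ} {x : 𝓕.extRees} :
    x ∈ piece 𝓕 n ↔ (x : A[T;T⁻¹]) = AddMonoidAlgebra.single n ((x : A[T;T⁻¹]).coeff n) := by
  classical
  constructor
  · intro h
    ext m
    rw [AddMonoidAlgebra.coeff_single, Finsupp.single_apply]
    split_ifs with hm
    · subst hm; rfl
    · exact h m (fun h' => hm h'.symm)
  · intro h m hm
    rw [h, AddMonoidAlgebra.coeff_single, Finsupp.single_apply, if_neg (fun h' => hm h'.symm)]

theorem mono_mem_piece (n : ℤ) (a : A) (ha : a ∈ 𝓕.F n.toNat) : mono 𝓕 n a ha ∈ piece 𝓕 n := by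
  classical
  intro m hm
  rw [coe_mono, AddMonoidAlgebra.coeff_single, Finsupp.single_apply, if_neg (fun h' => hm h'.symm)]

instance piece_gradedMonoid : SetLike.GradedMonoid (piece 𝓕) where
  one_mem := by
    classical
    intro m hm
    rw [Subalgebra.coe_one, ← LaurentPolynomial.T_zero, LaurentPolynomial.T_apply,
      if_neg (fun h' => hm h'.symm)]
  mul_mem := by
    classical
    intro i j x y hx hy
    rw [mem_piece_iff] at hx hy ⊢
    have h : ((x * y : 𝓕.extRees) : A[T;T⁻¹]) = AddMonoidAlgebra.single (i + j)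
        ((x : A[T;T⁻¹]).coeff i * (y : A[T;T⁻¹]).coeff j) := by
      rw [Subalgebra.coe_mul]
      conv_lhs => rw [hx, hy]
      rw [AddMonoidAlgebra.single_mul_single]
    rw [h, AddMonoidAlgebra.coeff_single, Finsupp.single_apply, if_pos rfl]

theorem coe_sum {ι : Type*} (s : Finset ι) (c : ι → 𝓕.extRees) :
    ((∑ i ∈ s, c i : 𝓕.extRees) : A[T;T⁻¹]) = ∑ i ∈ s, (c i : A[T;T⁻¹]) :=
  AddSubmonoidClass.coe_finsetSum c s

theorem piece_isInternal : DirectSum.IsInternal (piece 𝓕) := by
  classical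
  apply Groth.Agent.Helper20.GrInj.isInternal_of
  · intro x
    refine ⟨(x : A[T;T⁻¹]).coeff.support, fun i => mono 𝓕 i ((x : A[T;T⁻¹]).coeff i) (x.2 i),
      fun i => mono_mem_piece 𝓕 _ _ _, ?_⟩
    apply Subtype.ext
    rw [coe_sum]
    simp only [coe_mono]
    exact (AddMonoidAlgebra.sum_coeff_single (x : A[T;T⁻¹])).symm
  · intro s c hc hsum i₀ hi₀
    have h1 := congrArg (fun z : 𝓕.extRees => (z : A[T;T⁻¹]).coeff i₀) hsum
    simp only [coe_sum, AddMonoidAlgebra.coeff_sum, Finsupp.coe_finsetSum, Finset.sum_apply,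
      ZeroMemClass.coe_zero, AddMonoidAlgebra.coeff_zero, Finsupp.coe_zero, Pi.zero_apply] at h1
    rw [Finset.sum_eq_single i₀ (fun j _ hj => hc j i₀ (fun h => hj h.symm))
      (fun h => absurd hi₀ h)] at h1
    apply Subtype.ext
    rw [(mem_piece_iff 𝓕).1 (hc i₀), h1]
    simp

/-- the ℤ-grading of the extended Rees algebra -/
noncomputable instance piece_gradedRing : GradedRing (piece 𝓕) :=
  { piece_gradedMonoid 𝓕 with
    toDecomposition := (piece_isInternal 𝓕).chooseDecomposition }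

end Groth.Agent.Helper20.RE
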