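import Mathlib
import Groth.Prelude
import Groth.Agent.Lib.Helper20.RE1

/-!
# The extended Rees algebra: Noetherianity, the element `u`, the *maximal ideal (helper20)
-/

set_option autoImplicit false

open Polynomial LaurentPolynomial DirectSum IsLocalRing

namespace Groth.Agent.Helper20.RE

universe u

variable {A : Type u} [CommRing A] (𝓕 : FiltBl.IdealFiltration A)

theorem single_mem_extRees (n : ℤ) (a : A) (ha : a ∈ 𝓕.F n.toNat) :
    (AddMonoidAlgebra.single n a : A[T;T⁻¹]) ∈ 𝓕.extRees := (mono 𝓕 n a ha).2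

theorem toLaurent_mem_extRees (f : A[X]) (hf : f ∈ 𝓕.rees) : toLaurent f ∈ 𝓕.extRees := by
  rw [f.as_sum_support_C_mul_X_pow, map_sum]
  refine Subalgebra.sum_mem _ fun i _ => ?_
  rw [Polynomial.toLaurent_C_mul_X_pow, ← LaurentPolynomial.single_eq_C_mul_T]
  exact single_mem_extRees 𝓕 _ _ (by simpa using hf i)

/-- the inclusion of the Rees algebra into the extended Rees algebra -/
noncomputable def reesHom : 𝓕.rees →+* 𝓕.extRees where
  toFun f := ⟨toLaurent (f : A[X]), toLaurent_mem_extRees 𝓕 _ f.2⟩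
  map_one' := by
    apply Subtype.ext
    simp
  map_mul' x y := by
    apply Subtype.ext
    simp
  map_zero' := by
    apply Subtype.ext
    simp
  map_add' x y := by
    apply Subtype.ext
    simp

@[simp] theorem coe_reesHom (f : 𝓕.rees) :
    ((reesHom 𝓕 f : 𝓕.extRees) : A[T;T⁻¹]) = toLaurent (f : A[X]) := rfl

theorem coe_u : ((𝓕.u : 𝓕.extRees) : A[T;T⁻¹]) = T (-1) := rfl

theorem C_mul_X_pow_mem_rees (n : ℕ) (a : A) (ha : a ∈ 𝓕.F n) :
    (Polynomial.C a * Polynomial.X ^ n : A[X]) ∈ 𝓕.rees := by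
  intro m
  rw [Polynomial.coeff_C_mul_X_pow]
  split_ifs with h
  · subst h; exact ha
  · exact Ideal.zero_mem _

theorem C_mem_rees (a : A) : (Polynomial.C a : A[X]) ∈ 𝓕.rees := by
  have := C_mul_X_pow_mem_rees 𝓕 0 a (by rw [𝓕.zero_eq]; trivial)
  simpa using this

/-- the extended Rees algebra is generated over the Rees algebra by `u` -/
theorem evalHom_surjective :
    Function.Surjective (Polynomial.eval₂RingHom (reesHom 𝓕) 𝓕.u) := by
  classical
  intro x
  obtain ⟨s, c, hc, rfl⟩ : ∃ (s : Finset ℤ) (c : ℤ → 𝓕.extRees),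
      (∀ i : ℤ, ∃ (a : A) (ha : a ∈ 𝓕.F i.toNat), c i = mono 𝓕 i a ha) ∧ x = ∑ i ∈ s, c i := by
    refine ⟨(x : A[T;T⁻¹]).coeff.support, fun i => mono 𝓕 i ((x : A[T;T⁻¹]).coeff i) (x.2 i),
      fun i => ⟨_, _, rfl⟩, ?_⟩
    apply Subtype.ext
    rw [coe_sum]
    simp only [coe_mono]
    exact (AddMonoidAlgebra.sum_coeff_single (x : A[T;T⁻¹])).symm
  suffices h : ∀ i, ∃ p, Polynomial.eval₂RingHom (reesHom 𝓕) 𝓕.u p = c i by
    choose p hp using h
    exact ⟨∑ i ∈ s, p i, by rw [map_sum]; exact Finset.sum_congr rfl (fun i _ => hp i)⟩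
  intro i
  obtain ⟨a, ha, hci⟩ := hc i
  rw [hci]
  rcases le_or_gt 0 i with hi | hi
  · refine ⟨Polynomial.C ⟨Polynomial.C a * Polynomial.X ^ i.toNat,
      C_mul_X_pow_mem_rees 𝓕 _ _ ha⟩, ?_⟩
    rw [Polynomial.coe_eval₂RingHom, Polynomial.eval₂_C]
    apply Subtype.ext
    rw [coe_reesHom, coe_mono, Polynomial.toLaurent_C_mul_X_pow,
      ← LaurentPolynomial.single_eq_C_mul_T, Int.toNat_of_nonneg hi]
  · refine ⟨Polynomial.C ⟨Polynomial.C a, C_mem_rees 𝓕 a⟩ * Polynomial.X ^ (-i).toNat, ?_⟩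
    rw [Polynomial.coe_eval₂RingHom, Polynomial.eval₂_mul, Polynomial.eval₂_C,
      Polynomial.eval₂_X_pow]
    apply Subtype.ext
    rw [Subalgebra.coe_mul, Subalgebra.coe_pow, coe_reesHom, coe_mono, coe_u,
      Polynomial.toLaurent_C, LaurentPolynomial.T_pow, LaurentPolynomial.single_eq_C_mul_T]
    congr 2
    rw [Int.toNat_of_nonneg (by omega)]
    ring

theorem isNoetherianRing_extRees [IsNoetherianRing A] (hfg : Algebra.FiniteType A 𝓕.rees) :
    IsNoetherianRing 𝓕.extRees := by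
  haveI : IsNoetherianRing 𝓕.rees := Algebra.FiniteType.isNoetherianRing A 𝓕.rees
  exact isNoetherianRing_of_surjective _ _ _ (evalHom_surjective 𝓕)

theorem u_mem_nonZeroDivisors : 𝓕.u ∈ nonZeroDivisors 𝓕.extRees := by
  rw [mem_nonZeroDivisors_iff]
  have key : ∀ x : 𝓕.extRees, x * 𝓕.u = 0 → x = 0 := by
    intro x hx
    have h1 := congrArg (fun z : 𝓕.extRees => (z : A[T;T⁻¹])) hx
    simp only [Subalgebra.coe_mul, coe_u, ZeroMemClass.coe_zero] at h1
    apply Subtype.ext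
    have h2 := congrArg (fun z => z * (T 1 : A[T;T⁻¹])) h1
    simp only [LaurentPolynomial.mul_T_assoc, zero_mul] at h2
    simpa using h2
  refine ⟨fun x hx => key x (by rwa [mul_comm] at hx), key⟩

section Local

variable [IsLocalRing A]

/-- if the filtration is separated then `F 1` is a proper ideal -/
theorem F_one_le_maximalIdeal (hsep : ⨅ n, 𝓕.F n = ⊥) : 𝓕.F 1 ≤ maximalIdeal A := by
  apply le_maximalIdeal
  intro h1
  have hall : ∀ n, 𝓕.F n = ⊤ := by
    intro n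
    induction n with
    | zero => exact 𝓕.zero_eq
    | succ n ih =>
      have := 𝓕.mul_le n 1
      rw [ih, h1, Ideal.top_mul] at this
      exact top_le_iff.mp this
  have : (⊤ : Ideal A) = ⊥ := by
    rw [← hsep]
    simp [hall]
  exact top_ne_bot this

theorem F_le_maximalIdeal (hsep : ⨅ n, 𝓕.F n = ⊥) {n : ℕ} (hn : 0 < n) :
    𝓕.F n ≤ maximalIdeal A :=
  (𝓕.antitone (Nat.one_le_iff_ne_zero.mpr hn.ne')).trans (F_one_le_maximalIdeal 𝓕 hsep)

theorem coeff_mul_mem (hsep : ⨅ n, 𝓕.F n = ⊥) (x y : 𝓕.extRees) (i j : ℤ) (hij : i + j = 0)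
    (hi : i ≠ 0) :
    (x : A[T;T⁻¹]).coeff i * (y : A[T;T⁻¹]).coeff j ∈ maximalIdeal A := by
  rcases lt_or_gt_of_ne hi with h | h
  · have hj : 0 < j.toNat := by omega
    exact Ideal.mul_mem_left _ _ (F_le_maximalIdeal 𝓕 hsep hj (y.2 j))
  · have hi' : 0 < i.toNat := by omega
    exact Ideal.mul_mem_right _ _ (F_le_maximalIdeal 𝓕 hsep hi' (x.2 i))

theorem mk_coeff_zero_mul (hsep : ⨅ n, 𝓕.F n = ⊥) (x y : 𝓕.extRees) :
    Ideal.Quotient.mk (maximalIdeal A) (((x * y : 𝓕.extRees) : A[T;T⁻¹]).coeff 0) =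
      Ideal.Quotient.mk (maximalIdeal A) ((x : A[T;T⁻¹]).coeff 0) *
        Ideal.Quotient.mk (maximalIdeal A) ((y : A[T;T⁻¹]).coeff 0) := by
  classical
  rw [Subalgebra.coe_mul, AddMonoidAlgebra.coeff_mul]
  simp only [Finsupp.sum, map_sum]
  rw [Finset.sum_eq_single 0]
  · rw [Finset.sum_eq_single 0]
    · rw [if_pos (by simp), map_mul]
    · intro j _ hj
      rw [if_neg (by simpa using hj), map_zero]
    · intro h0
      rw [Finsupp.notMem_support_iff] at h0
      rw [h0, mul_zero]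
      simp
  · intro i _ hi
    apply Finset.sum_eq_zero
    intro j _
    split_ifs with hij
    · exact Ideal.Quotient.eq_zero_iff_mem.mpr (coeff_mul_mem 𝓕 hsep x y i j hij hi)
    · exact map_zero _
  · intro h0
    rw [Finsupp.notMem_support_iff] at h0
    apply Finset.sum_eq_zero
    intro j _
    rw [h0, zero_mul]
    simp

/-- the residue homomorphism `x ↦ x₀ mod m` of the extended Rees algebra of a separated filtration
of a local ring -/
noncomputable def resHom (hsep : ⨅ n, 𝓕.F n = ⊥) : 𝓕.extRees →+* A ⧸ maximalIdeal A where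
  toFun x := Ideal.Quotient.mk (maximalIdeal A) ((x : A[T;T⁻¹]).coeff 0)
  map_one' := by
    rw [Subalgebra.coe_one, ← LaurentPolynomial.T_zero, LaurentPolynomial.T_apply, if_pos rfl,
      map_one]
  map_mul' x y := mk_coeff_zero_mul 𝓕 hsep x y
  map_zero' := by simp
  map_add' x y := by
    simp only [Subalgebra.coe_add, AddMonoidAlgebra.coeff_add, Finsupp.add_apply, map_add]

/-- the *maximal ideal of the extended Rees algebra -/
noncomputable def starMax (hsep : ⨅ n, 𝓕.F n = ⊥) : Ideal 𝓕.extRees := RingHom.ker (resHom 𝓕 hsep)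

theorem mem_starMax (hsep : ⨅ n, 𝓕.F n = ⊥) (x : 𝓕.extRees) :
    x ∈ starMax 𝓕 hsep ↔ (x : A[T;T⁻¹]).coeff 0 ∈ maximalIdeal A := by
  rw [starMax, RingHom.mem_ker]
  exact Ideal.Quotient.eq_zero_iff_mem

instance starMax_isPrime (hsep : ⨅ n, 𝓕.F n = ⊥) : (starMax 𝓕 hsep).IsPrime :=
  RingHom.ker_isPrime _

theorem u_mem_starMax (hsep : ⨅ n, 𝓕.F n = ⊥) : 𝓕.u ∈ starMax 𝓕 hsep := by
  rw [mem_starMax, coe_u, LaurentPolynomial.T_apply, if_neg (by decide)]
  exact Ideal.zero_mem _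

theorem coe_decompose (x : 𝓕.extRees) (n : ℤ) :
    ((decompose (piece 𝓕) x n : 𝓕.extRees) : A[T;T⁻¹]) =
      AddMonoidAlgebra.single n ((x : A[T;T⁻¹]).coeff n) := by
  classical
  have h1 := sum_support_decompose (piece 𝓕) x
  have h2 := congrArg (fun z : 𝓕.extRees => (z : A[T;T⁻¹]).coeff n) h1
  simp only [coe_sum, AddMonoidAlgebra.coeff_sum, Finsupp.coe_finsetSum, Finset.sum_apply] at h2
  rw [Finset.sum_eq_single n] at h2
  · rw [(mem_piece_iff 𝓕).1 (decompose (piece 𝓕) x n).2, h2]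
  · intro j _ hj
    exact (decompose (piece 𝓕) x j).2 n (fun h => hj h.symm)
  · intro hn
    rw [DFinsupp.notMem_support_iff] at hn
    rw [hn]
    simp

/-- every homogeneous prime ideal lies in the *maximal ideal -/
theorem le_starMax (hsep : ⨅ n, 𝓕.F n = ⊥) (q : Ideal 𝓕.extRees) (hq : q.IsPrime)
    (hqh : q.IsHomogeneous (piece 𝓕)) : q ≤ starMax 𝓕 hsep := by
  intro x hx
  rw [mem_starMax]
  by_contra hx0
  have hunit : IsUnit ((x : A[T;T⁻¹]).coeff 0) := by
    by_contra h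
    exact hx0 ((mem_maximalIdeal _).2 h)
  obtain ⟨b, hb⟩ := hunit.exists_right_inv
  have h0 := hqh 0 hx
  have htop : (0 : ℤ).toNat = 0 := rfl
  have hmem : ∀ a : A, a ∈ 𝓕.F (0 : ℤ).toNat := fun a => by rw [htop, 𝓕.zero_eq]; trivial
  have h1 : (decompose (piece 𝓕) x 0 : 𝓕.extRees) * mono 𝓕 0 b (hmem b) = 1 := by
    apply Subtype.ext
    rw [Subalgebra.coe_mul, coe_decompose, coe_mono, AddMonoidAlgebra.single_mul_single, hb,
      add_zero]
    rfl
  apply hq.ne_top
  rw [Ideal.eq_top_iff_one, ← h1]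
  exact Ideal.mul_mem_right _ _ h0

end Local

end Groth.Agent.Helper20.RE
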