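import Mathlib
import Groth.Prelude
import Groth.Agent.Lib.Helper20.RE2
import Groth.Agent.Lib.Helper20.RE4

/-!
# Depth and dimension of the local rings of the extended Rees algebra (helper20)
-/

set_option autoImplicit false

open Polynomial LaurentPolynomial IsLocalRing LocCoh TensorProduct

namespace Groth.Agent.Helper20.RE

universe u

open Groth.Agent.Lead.Depth Groth.Agent.Lead.FibLoc Groth.Agent.Helper20.GA

section DD

/-- `B` has dimension `n` and depth `m` -/
def IsDD (B : Type u) [CommRing B] [IsLocalRing B] (n m : ℕ) : Prop :=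
  ringKrullDim B = (n : WithBot ℕ∞) ∧ LocCoh.depth B B = (m : ℕ∞)

theorem exists_isDD (B : Type u) [CommRing B] [IsLocalRing B] [IsNoetherianRing B] :
    ∃ n m : ℕ, IsDD B n m := by
  have h1 : ringKrullDim B ≠ ⊤ := ringKrullDim_lt_top.ne
  have h2 : ringKrullDim B ≠ ⊥ := ringKrullDim_ne_bot
  have h3 : LocCoh.depth B B ≠ ⊤ := depth_ne_top B
  obtain ⟨m, hm⟩ := ENat.ne_top_iff_exists.mp h3
  obtain ⟨d, hd⟩ := WithBot.ne_bot_iff_exists.mp h2
  have h4 : d ≠ ⊤ := by
    intro h
    apply h1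
    rw [← hd, h]
    rfl
  obtain ⟨n, hn⟩ := ENat.ne_top_iff_exists.mp h4
  refine ⟨n, m, ?_, hm.symm⟩
  rw [← hd, ← hn]
  rfl

theorem IsDD.unique {B : Type u} [CommRing B] [IsLocalRing B] {n m n' m' : ℕ}
    (h : IsDD B n m) (h' : IsDD B n' m') : n = n' ∧ m = m' := by
  obtain ⟨h1, h2⟩ := h
  obtain ⟨h1', h2'⟩ := h'
  rw [h1] at h1'
  rw [h2] at h2'
  exact ⟨by exact_mod_cast h1', by exact_mod_cast h2'⟩

theorem isDD_of_ringEquiv {B C : Type u} [CommRing B] [CommRing C] [IsLocalRing B]
    [IsLocalRing C] [IsNoetherianRing B] (e : B ≃+* C) {n m : ℕ} (h : IsDD B n m) :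
    IsDD C n m := by
  obtain ⟨h1, h2⟩ := h
  exact ⟨by rw [← ringKrullDim_eq_of_ringEquiv e]; exact h1,
    by rw [← depth_self_eq_of_ringEquiv e]; exact h2⟩

theorem isCohenMacaulayLocalRing_iff_isDD {B : Type u} [CommRing B] [IsLocalRing B]
    [IsNoetherianRing B] {n m : ℕ} (h : IsDD B n m) :
    LocCoh.IsCohenMacaulayLocalRing B ↔ n = m := by
  rw [isCohenMacaulayLocalRing_iff, h.1, h.2]
  constructor
  · intro h
    exact_mod_cast h
  · rintro rfl
    rfl

theorem isDD_localization_congr {C : Type u} [CommRing C] {q q' : Ideal C} [q.IsPrime]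
    [q'.IsPrime] (h : q = q') {n m : ℕ} (hG : IsDD (Localization.AtPrime q) n m) :
    IsDD (Localization.AtPrime q') n m := by
  subst h
  exact hG

end DD

section SkSelf

variable (R : Type u) [CommRing R] [IsNoetherianRing R]

theorem hasSk_self_iff (k : ℕ) :
    LocCoh.HasSk k R R ↔ ∀ (p : Ideal R) [p.IsPrime] (n m : ℕ),
      IsDD (Localization.AtPrime p) n m → min k n ≤ m := by
  constructor
  · intro h p _ n m hnm
    have h1 := h p
    rw [depth_localizedModule_self, supportDim_localizedModule_self,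
      ← IsLocalization.AtPrime.ringKrullDim_eq_height p (Localization.AtPrime p), hnm.1, hnm.2] at h1
    have h2 : ((min k n : ℕ) : WithBot ℕ∞) ≤ ((m : ℕ) : WithBot ℕ∞) := by
      have : ((min k n : ℕ) : WithBot ℕ∞) = min ((k : ℕ) : WithBot ℕ∞) ((n : ℕ) : WithBot ℕ∞) := by
        rcases le_total k n with hkn | hkn
        · rw [min_eq_left hkn, min_eq_left (by exact_mod_cast hkn)]
        · rw [min_eq_right hkn, min_eq_right (by exact_mod_cast hkn)]
      rw [this]
      exact h1
    exact_mod_cast h2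
  · intro h p _
    obtain ⟨n, m, hnm⟩ := exists_isDD (Localization.AtPrime p)
    have h1 := h p n m hnm
    rw [depth_localizedModule_self, supportDim_localizedModule_self,
      ← IsLocalization.AtPrime.ringKrullDim_eq_height p (Localization.AtPrime p), hnm.1, hnm.2]
    have h2 : ((min k n : ℕ) : WithBot ℕ∞) ≤ ((m : ℕ) : WithBot ℕ∞) := by exact_mod_cast h1
    have : ((min k n : ℕ) : WithBot ℕ∞) = min ((k : ℕ) : WithBot ℕ∞) ((n : ℕ) : WithBot ℕ∞) := by
      rcases le_total k n with hkn | hkn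
      · rw [min_eq_left hkn, min_eq_left (by exact_mod_cast hkn)]
      · rw [min_eq_right hkn, min_eq_right (by exact_mod_cast hkn)]
    rw [this] at h2
    exact h2

end SkSelf

section QuotDD

variable {B : Type u} [CommRing B] [IsNoetherianRing B]

/-- dimension and depth of `(B/t)_{q/t}` versus `B_q` -/
theorem isDD_quotient_localization_iff (t : B) (ht : t ∈ nonZeroDivisors B) (q : Ideal B)
    [q.IsPrime] (htq : t ∈ q) [(q.map (Ideal.Quotient.mk (Ideal.span {t}))).IsPrime] (n m : ℕ) :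
    IsDD (Localization.AtPrime (q.map (Ideal.Quotient.mk (Ideal.span {t})))) n m ↔
      IsDD (Localization.AtPrime q) (n + 1) (m + 1) := by
  obtain ⟨e⟩ := nonempty_quotLocEquiv t q htq
  have hmem := (IsLocalization.AtPrime.to_map_mem_maximal_iff (Localization.AtPrime q) q t).mpr htq
  have hreg := isSMulRegular_algebraMap_localization t ht q
  have h1 := ringKrullDim_quotient_span_singleton_succ_eq_ringKrullDim hreg hmem
  have h2 := depth_localization_quotient_add_one t ht q htq
  rw [ringKrullDim_eq_of_ringEquiv e.symm] at h1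
  unfold IsDD
  rw [← h1, ← h2]
  constructor
  · rintro ⟨h3, h4⟩
    rw [h3, h4]
    exact ⟨rfl, rfl⟩
  · rintro ⟨h3, h4⟩
    refine ⟨?_, ?_⟩
    · apply withBot_enat_add_one_inj.mp
      rw [h3]
      rfl
    · have h5 : ((LocCoh.depth (Localization.AtPrime (q.map (Ideal.Quotient.mk (Ideal.span {t}))))
          (Localization.AtPrime (q.map (Ideal.Quotient.mk (Ideal.span {t})))) : ℕ∞) :
          WithBot ℕ∞) + 1 = ((m : ℕ∞) : WithBot ℕ∞) + 1 := by
        have := congrArg (fun x : ℕ∞ => (x : WithBot ℕ∞)) h4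
        simpa using this
      exact WithBot.coe_injective (withBot_enat_add_one_inj.mp h5)

end QuotDD

section Laurent

variable {A : Type u} [CommRing A] [IsNoetherianRing A]

/-- dimension and depth of the local rings of `A[T;T⁻¹]` -/
theorem laurent_isDD (P : Ideal A[T;T⁻¹]) [P.IsPrime] (n m : ℕ)
    (h : IsDD (Localization.AtPrime (P.comap (algebraMap A A[T;T⁻¹]))) n m) :
    ∃ δ : ℕ, IsDD (Localization.AtPrime P) (n + δ) (m + δ) ∧
      (P = (P.comap (algebraMap A A[T;T⁻¹])).map (algebraMap A A[T;T⁻¹]) → δ = 0) := by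
  haveI : IsNoetherianRing A[T;T⁻¹] := isNoetherianRing_addMonoidAlgebra A ℤ
  obtain ⟨h1, h2⟩ := depth_dim_tensor A A[T;T⁻¹] P A A[T;T⁻¹]
  obtain ⟨h3, h4⟩ := depth_supportDim_transport (RingEquiv.refl A[T;T⁻¹])
    (TensorProduct.AlgebraTensorModule.rid A A[T;T⁻¹] A[T;T⁻¹]).toAddEquiv
    (fun b x => map_smul (TensorProduct.AlgebraTensorModule.rid A A[T;T⁻¹] A[T;T⁻¹]) b x)
    P P rfl
  have hnt : Nontrivial (LocalizedModule (P.comap (algebraMap A A[T;T⁻¹])).primeCompl A) := by
    have e := (IsLocalizedModule.linearEquiv (P.comap (algebraMap A A[T;T⁻¹])).primeCompl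
      (LocalizedModule.mkLinearMap (P.comap (algebraMap A A[T;T⁻¹])).primeCompl A)
      (Algebra.linearMap A (Localization.AtPrime (P.comap (algebraMap A A[T;T⁻¹])))))
    exact e.toEquiv.nontrivial
  have h2' := h2 hnt
  rw [h3, depth_localizedModule_self, depth_localizedModule_self, h.2] at h1
  rw [h4, supportDim_localizedModule_self, supportDim_localizedModule_self,
    ← IsLocalization.AtPrime.ringKrullDim_eq_height P (Localization.AtPrime P),
    ← IsLocalization.AtPrime.ringKrullDim_eq_height (P.comap (algebraMap A A[T;T⁻¹]))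
      (Localization.AtPrime (P.comap (algebraMap A A[T;T⁻¹]))), h.1] at h2'
  have hcm := fibLocMod_cm A ℤ P
  have hfin : LocCoh.depth (Localization.AtPrime P)
      (EGA4.FibLocMod A A[T;T⁻¹] P A[T;T⁻¹]) ≠ ⊤ := by
    intro htop
    rw [htop] at hcm
    have hle := Module.supportDim_le_ringKrullDim (Localization.AtPrime P)
      (EGA4.FibLocMod A A[T;T⁻¹] P A[T;T⁻¹])
    rw [← hcm] at hle
    have hlt : ringKrullDim (Localization.AtPrime P) < ⊤ := ringKrullDim_lt_top
    exact absurd (lt_of_le_of_lt hle hlt) (lt_irrefl _)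
  obtain ⟨δ, hδ⟩ := ENat.ne_top_iff_exists.mp hfin
  refine ⟨δ, ⟨?_, ?_⟩, ?_⟩
  · rw [h2', ← hcm, ← hδ]
    push_cast
    rfl
  · rw [h1, ← hδ]
    push_cast
    rfl
  · intro hP
    have h0 := (fibLocMod_of_eq_map A A[T;T⁻¹] P hP).1
    rw [← hδ] at h0
    exact_mod_cast h0

end Laurent

end Groth.Agent.Helper20.RE
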