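import Mathlib
import Groth.Prelude
import Groth.Agent.Lib.Helper20.RE5

/-!
# The local rings of the extended Rees algebra away from `u` (helper20)
-/

set_option autoImplicit false

open Polynomial LaurentPolynomial IsLocalRing LocCoh

namespace Groth.Agent.Helper20.RE

universe u

open Groth.Agent.Lead.Depth Groth.Agent.Helper20.GA

section Equiv

/-- a ring isomorphism induces isomorphisms of the localizations at corresponding primes -/
theorem nonempty_localizationEquiv {R R' : Type u} [CommRing R] [CommRing R'] (ψ : R ≃+* R')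
    (p : Ideal R) [p.IsPrime] (p' : Ideal R') [p'.IsPrime]
    (h : p = p'.comap (ψ : R →+* R')) :
    Nonempty (Localization.AtPrime p ≃+* Localization.AtPrime p') := by
  have hmem : ∀ b : R, b ∈ p ↔ ψ b ∈ p' := by
    intro b
    rw [h]
    rfl
  have hmap : p.primeCompl.map (ψ.toMonoidHom) = p'.primeCompl := by
    ext y
    constructor
    · rintro ⟨x, hx, rfl⟩
      intro hy
      exact hx ((hmem x).2 hy)
    · intro hy
      refine ⟨ψ.symm y, ?_, ψ.apply_symm_apply y⟩
      intro hx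
      apply hy
      have := (hmem (ψ.symm y)).1 hx
      rwa [ψ.apply_symm_apply] at this
  exact ⟨IsLocalization.ringEquivOfRingEquiv (Localization.AtPrime p) (Localization.AtPrime p') ψ
    hmap⟩

theorem exists_isDD_quotient {B : Type u} [CommRing B] [IsNoetherianRing B] (t : B) (P : Ideal B)
    [P.IsPrime] [(P.map (Ideal.Quotient.mk (Ideal.span {t}))).IsPrime] :
    ∃ n m : ℕ, IsDD (Localization.AtPrime (P.map (Ideal.Quotient.mk (Ideal.span {t})))) n m :=
  exists_isDD _

theorem exists_isDD_map {B G : Type u} [CommRing B] [CommRing G] [IsNoetherianRing G]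
    (φ : B →+* G) (P : Ideal B) [(P.map φ).IsPrime] :
    ∃ n m : ℕ, IsDD (Localization.AtPrime (P.map φ)) n m :=
  exists_isDD _

/-- dimension and depth of `G_{φ(P)}` versus `B_P` for `G = B/(t)` -/
theorem isDD_map_iff {B G : Type u} [CommRing B] [CommRing G] [IsNoetherianRing B]
    (φ : B →+* G) (hφ : Function.Surjective φ) (t : B) (hker : RingHom.ker φ = Ideal.span {t})
    (ht : t ∈ nonZeroDivisors B) (P : Ideal B) [P.IsPrime] (htP : t ∈ P) [(P.map φ).IsPrime]
    (n m : ℕ) :
    IsDD (Localization.AtPrime (P.map φ)) n m ↔ IsDD (Localization.AtPrime P) (n + 1) (m + 1) := by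
  have hIq : Ideal.span {t} ≤ P := (Ideal.span_singleton_le_iff_mem _).mpr htP
  haveI : (P.map (Ideal.Quotient.mk (Ideal.span {t}))).IsPrime :=
    Ideal.map_isPrime_of_surjective Ideal.Quotient.mk_surjective (by rw [Ideal.mk_ker]; exact hIq)
  let ψ : (B ⧸ Ideal.span {t}) ≃+* G :=
    (Ideal.quotEquivOfEq hker.symm).trans (RingHom.quotientKerEquivOfSurjective hφ)
  have hψ : ∀ x : B, ψ (Ideal.Quotient.mk (Ideal.span {t}) x) = φ x := fun x => rfl
  have hcomp : (ψ : (B ⧸ Ideal.span {t}) →+* G).comp (Ideal.Quotient.mk (Ideal.span {t})) = φ :=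
    RingHom.ext hψ
  have hcomap : P.map (Ideal.Quotient.mk (Ideal.span {t})) =
      (P.map φ).comap (ψ : (B ⧸ Ideal.span {t}) →+* G) := by
    rw [← hcomp, ← Ideal.map_map]
    exact (Ideal.comap_map_of_bijective (ψ : (B ⧸ Ideal.span {t}) →+* G) ψ.bijective).symm
  obtain ⟨e⟩ := nonempty_localizationEquiv ψ _ (P.map φ) hcomap
  rw [← isDD_quotient_localization_iff t ht P htP n m]
  haveI : IsNoetherianRing G := isNoetherianRing_of_surjective B G φ hφ
  exact ⟨fun h => isDD_of_ringEquiv e.symm h, fun h => isDD_of_ringEquiv e h⟩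

end Equiv

variable {A : Type u} [CommRing A] (𝓕 : FiltBl.IdealFiltration A)

theorem algebraMap_extRees_apply (x : 𝓕.extRees) :
    algebraMap 𝓕.extRees A[T;T⁻¹] x = (x : A[T;T⁻¹]) := rfl

theorem coe_algebraMap_extRees (a : A) :
    ((algebraMap A 𝓕.extRees a : 𝓕.extRees) : A[T;T⁻¹]) = LaurentPolynomial.C a := rfl

/-- `A[T;T⁻¹]` is the localization of the extended Rees algebra at `u` -/
theorem isLocalization_away_u : IsLocalization (Submonoid.powers 𝓕.u) A[T;T⁻¹] := by
  classical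
  rw [isLocalization_iff]
  refine ⟨?_, ?_, ?_⟩
  · rintro ⟨y, n, rfl⟩
    rw [map_pow, algebraMap_extRees_apply, coe_u]
    exact (isUnit_T (-1)).pow n
  · intro z
    obtain ⟨M, hM⟩ := z.coeff.support.exists_le
    have hmem : z * T (-(M.toNat : ℤ)) ∈ 𝓕.extRees := by
      intro k
      have hk : (z * T (-(M.toNat : ℤ))).coeff k = z.coeff (k + M.toNat) := by
        rw [T, AddMonoidAlgebra.coeff_mul_single_apply, mul_one]
        congr 1
        ring
      rw [hk]
      rcases le_or_gt k 0 with h0 | h0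
      · have : k.toNat = 0 := by omega
        rw [this, 𝓕.zero_eq]
        trivial
      · have : z.coeff (k + M.toNat) = 0 := by
          by_contra hne
          have := hM _ (Finsupp.mem_support_iff.mpr hne)
          omega
        rw [this]
        exact Ideal.zero_mem _
    refine ⟨⟨⟨z * T (-(M.toNat : ℤ)), hmem⟩, ⟨𝓕.u ^ M.toNat, M.toNat, rfl⟩⟩, ?_⟩
    show z * algebraMap 𝓕.extRees A[T;T⁻¹] (𝓕.u ^ M.toNat) = z * T (-(M.toNat : ℤ))
    rw [map_pow, algebraMap_extRees_apply, coe_u, T_pow]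
    congr 2
    ring
  · intro x y hxy
    exact ⟨1, by rw [Subtype.ext hxy]⟩

/-- a monomial `a T^k` lies in a prime not containing `u` as soon as `a` does -/
theorem mem_of_coe_eq_C_mul_T (P : Ideal 𝓕.extRees) [P.IsPrime] (hu : 𝓕.u ∉ P) (x : 𝓕.extRees)
    (a : A) (k : ℤ) (hx : (x : A[T;T⁻¹]) = LaurentPolynomial.C a * T k)
    (ha : algebraMap A 𝓕.extRees a ∈ P) : x ∈ P := by
  haveI := isLocalization_away_u 𝓕
  have hdisj : Disjoint (Submonoid.powers 𝓕.u : Set 𝓕.extRees) (P : Set 𝓕.extRees) := by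
    rw [Set.disjoint_left]
    rintro x ⟨k, rfl⟩ hx
    exact hu (Ideal.IsPrime.mem_of_pow_mem inferInstance k hx)
  have hcomap : (P.map (algebraMap 𝓕.extRees A[T;T⁻¹])).comap
      (algebraMap 𝓕.extRees A[T;T⁻¹]) = P :=
    IsLocalization.under_map_of_isPrime_disjoint (Submonoid.powers 𝓕.u) _ inferInstance hdisj
  rw [← hcomap, Ideal.mem_comap, algebraMap_extRees_apply, hx, ← coe_algebraMap_extRees 𝓕 a]
  exact Ideal.mul_mem_right _ _ (Ideal.mem_map_of_mem _ ha)

section Noeth

variable [IsNoetherianRing A]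

theorem comap_comap_extRees (P' : Ideal A[T;T⁻¹]) :
    (P'.comap (algebraMap 𝓕.extRees A[T;T⁻¹])).comap (algebraMap A 𝓕.extRees) =
      P'.comap (algebraMap A A[T;T⁻¹]) := by
  rw [Ideal.comap_comap]
  rfl

/-- the local rings of the extended Rees algebra at primes not containing `u` -/
theorem extRees_isDD (P : Ideal 𝓕.extRees) [P.IsPrime] (hu : 𝓕.u ∉ P) (n m : ℕ)
    (h : IsDD (Localization.AtPrime (P.comap (algebraMap A 𝓕.extRees))) n m) :
    ∃ δ : ℕ, IsDD (Localization.AtPrime P) (n + δ) (m + δ) := by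
  haveI := isLocalization_away_u 𝓕
  haveI : IsNoetherianRing A[T;T⁻¹] := isNoetherianRing_addMonoidAlgebra A ℤ
  have hdisj : Disjoint (Submonoid.powers 𝓕.u : Set 𝓕.extRees) (P : Set 𝓕.extRees) := by
    rw [Set.disjoint_left]
    rintro x ⟨k, rfl⟩ hx
    exact hu (Ideal.IsPrime.mem_of_pow_mem inferInstance k hx)
  haveI hprime : (P.map (algebraMap 𝓕.extRees A[T;T⁻¹])).IsPrime :=
    IsLocalization.isPrime_of_isPrime_disjoint (Submonoid.powers 𝓕.u) _ P inferInstance hdisj
  have hcomap : (P.map (algebraMap 𝓕.extRees A[T;T⁻¹])).comap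
      (algebraMap 𝓕.extRees A[T;T⁻¹]) = P :=
    IsLocalization.under_map_of_isPrime_disjoint (Submonoid.powers 𝓕.u) _ inferInstance hdisj
  have hq : (P.map (algebraMap 𝓕.extRees A[T;T⁻¹])).comap (algebraMap A A[T;T⁻¹]) =
      P.comap (algebraMap A 𝓕.extRees) := by
    rw [← comap_comap_extRees, hcomap]
  obtain ⟨δ, hδ, -⟩ := laurent_isDD (P.map (algebraMap 𝓕.extRees A[T;T⁻¹])) n m
    (isDD_localization_congr hq.symm h)
  haveI hcp : ((P.map (algebraMap 𝓕.extRees A[T;T⁻¹])).comap
      (algebraMap 𝓕.extRees A[T;T⁻¹])).IsPrime := Ideal.comap_isPrime _ _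
  haveI : IsLocalization.AtPrime (Localization.AtPrime (P.map (algebraMap 𝓕.extRees A[T;T⁻¹])))
      ((P.map (algebraMap 𝓕.extRees A[T;T⁻¹])).comap (algebraMap 𝓕.extRees A[T;T⁻¹])) :=
    IsLocalization.isLocalization_isLocalization_atPrime_isLocalization (Submonoid.powers 𝓕.u)
      (Localization.AtPrime (P.map (algebraMap 𝓕.extRees A[T;T⁻¹])))
      (P.map (algebraMap 𝓕.extRees A[T;T⁻¹]))
  have e := IsLocalization.algEquiv ((P.map (algebraMap 𝓕.extRees A[T;T⁻¹])).comap
      (algebraMap 𝓕.extRees A[T;T⁻¹])).primeCompl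
    (Localization.AtPrime ((P.map (algebraMap 𝓕.extRees A[T;T⁻¹])).comap
      (algebraMap 𝓕.extRees A[T;T⁻¹])))
    (Localization.AtPrime (P.map (algebraMap 𝓕.extRees A[T;T⁻¹])))
  exact ⟨δ, isDD_localization_congr hcomap (isDD_of_ringEquiv e.symm.toRingEquiv hδ)⟩

/-- the prime of the extended Rees algebra attached to a prime `q` of `A`: the elements all of
whose coefficients lie in `q` -/
noncomputable def primeOf (q : Ideal A) : Ideal 𝓕.extRees :=
  (q.map (algebraMap A A[T;T⁻¹])).comap (algebraMap 𝓕.extRees A[T;T⁻¹])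

omit [IsNoetherianRing A] in
theorem mem_primeOf (q : Ideal A) (x : 𝓕.extRees) :
    x ∈ primeOf 𝓕 q ↔ ∀ k : ℤ, (x : A[T;T⁻¹]).coeff k ∈ q := by
  rw [primeOf, Ideal.mem_comap, algebraMap_extRees_apply]
  exact mem_map_algebraMap_iff

omit [IsNoetherianRing A] in
theorem primeOf_isPrime (q : Ideal A) [q.IsPrime] : (primeOf 𝓕 q).IsPrime := by
  haveI := uniqueSums ℤ
  haveI : (q.map (algebraMap A A[T;T⁻¹])).IsPrime := isPrime_map_algebraMap q
  exact Ideal.comap_isPrime _ _

omit [IsNoetherianRing A] in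
theorem u_notMem_primeOf (q : Ideal A) [q.IsPrime] : 𝓕.u ∉ primeOf 𝓕 q := by
  rw [mem_primeOf]
  intro h
  have := h (-1)
  rw [coe_u, T_apply, if_pos rfl] at this
  exact (Ideal.IsPrime.ne_top inferInstance) ((Ideal.eq_top_iff_one q).mpr this)

theorem primeOf_isDD (q : Ideal A) [q.IsPrime] [(primeOf 𝓕 q).IsPrime] (n m : ℕ)
    (h : IsDD (Localization.AtPrime q) n m) : IsDD (Localization.AtPrime (primeOf 𝓕 q)) n m := by
  haveI := isLocalization_away_u 𝓕
  haveI := uniqueSums ℤ
  haveI : IsNoetherianRing A[T;T⁻¹] := isNoetherianRing_addMonoidAlgebra A ℤ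
  haveI : (q.map (algebraMap A A[T;T⁻¹])).IsPrime := isPrime_map_algebraMap q
  have hq : (q.map (algebraMap A A[T;T⁻¹])).comap (algebraMap A A[T;T⁻¹]) = q :=
    comap_map_algebraMap q
  obtain ⟨δ, hδ, hδ0⟩ := laurent_isDD (q.map (algebraMap A A[T;T⁻¹])) n m
    (isDD_localization_congr hq.symm h)
  have hδ' : δ = 0 := hδ0 (by rw [hq])
  subst hδ'
  haveI hcp : ((q.map (algebraMap A A[T;T⁻¹])).comap
      (algebraMap 𝓕.extRees A[T;T⁻¹])).IsPrime := Ideal.comap_isPrime _ _
  haveI : IsLocalization.AtPrime (Localization.AtPrime (q.map (algebraMap A A[T;T⁻¹])))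
      ((q.map (algebraMap A A[T;T⁻¹])).comap (algebraMap 𝓕.extRees A[T;T⁻¹])) :=
    IsLocalization.isLocalization_isLocalization_atPrime_isLocalization (Submonoid.powers 𝓕.u)
      (Localization.AtPrime (q.map (algebraMap A A[T;T⁻¹])))
      (q.map (algebraMap A A[T;T⁻¹]))
  have e := IsLocalization.algEquiv ((q.map (algebraMap A A[T;T⁻¹])).comap
      (algebraMap 𝓕.extRees A[T;T⁻¹])).primeCompl
    (Localization.AtPrime ((q.map (algebraMap A A[T;T⁻¹])).comap
      (algebraMap 𝓕.extRees A[T;T⁻¹])))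
    (Localization.AtPrime (q.map (algebraMap A A[T;T⁻¹])))
  exact isDD_localization_congr rfl (isDD_of_ringEquiv e.symm.toRingEquiv hδ)

end Noeth

end Groth.Agent.Helper20.RE
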