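import Mathlib
import Groth.Agent.Lib.Helper14.RegSmooth
import Groth.Agent.Lib.Helper12.FieldSm
import Groth.Agent.Lib.Helper9.SepFS

/-!
# A scheme locally of finite type over a perfect field with regular local rings is smooth

(the pointwise statement follows helper16's `NonsingOmega.mem_smoothLocus_of_regular`; repeated here
to avoid its heavy import closure.)
-/

set_option autoImplicit false
set_option linter.style.haveILetI false
universe u

open CategoryTheory AlgebraicGeometry IsLocalRing

namespace Groth.Agent.Helper20.RegCurve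

variable (k : Type u) [Field k] {X : Scheme.{u}}

/-- over a perfect field, a point with regular local ring is a smooth point. -/
theorem mem_smoothLocus_of_regular [PerfectField k] (q : X ⟶ Spec (CommRingCat.of k))
    [LocallyOfFiniteType q] (x : X) (hreg : IsRegularLocalRing (X.presheaf.stalk x)) :
    x ∈ q.smoothLocus := by
  haveI : LocallyOfFinitePresentation q := Groth.Agent.Helper12.FieldSm.lfp q
  obtain ⟨_, ⟨V, hV, rfl⟩, hxV, -⟩ :=
    X.isBasis_affineOpens.exists_subset_of_mem_open (Set.mem_univ x) isOpen_univ
  have hV' : IsAffineOpen V := hV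
  letI := (Groth.Agent.Helper12.FieldSm.secHom q V).toAlgebra
  rw [Groth.Agent.Helper12.FieldSm.mem_smoothLocus_iff_isSmoothAt q V hV' x hxV]
  haveI : Algebra.FiniteType k Γ(X, V) := Groth.Agent.Helper12.FieldSm.finiteType_secHom q V hV'
  haveI : (hV'.primeIdealOf ⟨x, hxV⟩).asIdeal.IsPrime := (hV'.primeIdealOf ⟨x, hxV⟩).isPrime
  haveI : Algebra.IsGeometricallyReduced k (hV'.primeIdealOf ⟨x, hxV⟩).asIdeal.ResidueField :=
    Groth.Agent.Helper9.SepFS.isGeometricallyReduced_of_perfectField
  haveI : IsRegularLocalRing (Localization.AtPrime (hV'.primeIdealOf ⟨x, hxV⟩).asIdeal) := by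
    letI := X.presheaf.algebra_section_stalk (⟨x, hxV⟩ : V)
    haveI := hV'.isLocalization_stalk ⟨x, hxV⟩
    exact IsRegularLocalRing.of_ringEquiv
      (IsLocalization.algEquiv (hV'.primeIdealOf ⟨x, hxV⟩).asIdeal.primeCompl
        (X.presheaf.stalk x) (Localization.AtPrime (hV'.primeIdealOf ⟨x, hxV⟩).asIdeal)).toRingEquiv
  exact Groth.Agent.Helper14.RegSmooth.isSmoothAt_of_regular k Γ(X, V)
    (hV'.primeIdealOf ⟨x, hxV⟩).asIdeal

/-- over a perfect field, a scheme locally of finite type all of whose local rings are regular is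
smooth. -/
theorem smooth_of_regular [PerfectField k] (q : X ⟶ Spec (CommRingCat.of k))
    [LocallyOfFiniteType q] (hreg : ∀ x : X, IsRegularLocalRing (X.presheaf.stalk x)) :
    Smooth q := by
  haveI : LocallyOfFinitePresentation q := Groth.Agent.Helper12.FieldSm.lfp q
  rw [← Scheme.Hom.smoothLocus_eq_top_iff]
  ext x
  simp only [TopologicalSpace.Opens.coe_top, Set.mem_univ, iff_true]
  exact mem_smoothLocus_of_regular k q x (hreg x)

end Groth.Agent.Helper20.RegCurve
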