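import Mathlib
import Groth.Agent.Lib.Helper20.IrrQ

/-!
The quartic `e₁e₄ - e₂e₃` in four variables is prime (helper20).
-/

set_option autoImplicit false
universe u

namespace Groth.Agent.Helper20.S24

open MvPolynomial Groth.Agent.Helper20.IrrQ

variable (k : Type u) [Field k]

/-- `X i + X j` is irreducible for `i ≠ j` -/
theorem irreducible_X_add_X {n : ℕ} (i j : Fin n) (hij : i ≠ j) :
    Irreducible (X i + X j : MvPolynomial (Fin n) k) := by
  have h := irreducible_mul_X_add (1 : MvPolynomial (Fin n) k) (X j) i one_ne_zero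
    (by simp [vars_one]) (by simp [vars_X, hij]) isRelPrime_one_left
  simpa using h

section three

/-- elementary symmetric polynomials in three variables -/
noncomputable def s1 : MvPolynomial (Fin 3) k := X 0 + X 1 + X 2
noncomputable def s2 : MvPolynomial (Fin 3) k := X 0 * X 1 + X 0 * X 2 + X 1 * X 2
noncomputable def s3 : MvPolynomial (Fin 3) k := X 0 * X 1 * X 2

theorem eval_s1 (p : Fin 3 → k) : eval p (s1 k) = p 0 + p 1 + p 2 := by simp [s1]
theorem eval_s2 (p : Fin 3 → k) : eval p (s2 k) = p 0 * p 1 + p 0 * p 2 + p 1 * p 2 := by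
  simp [s2]
theorem eval_s3 (p : Fin 3 → k) : eval p (s3 k) = p 0 * p 1 * p 2 := by simp [s3]

variable [CharZero k]

theorem irreducible_s2 : Irreducible (s2 k) := by
  have hirr : Irreducible (X 1 + X 2 : MvPolynomial (Fin 3) k) :=
    irreducible_X_add_X k 1 2 (by decide)
  have hnd : ¬ (X 1 + X 2 : MvPolynomial (Fin 3) k) ∣ X 1 * X 2 := by
    apply not_dvd_of_eval (![0, 1, -1] : Fin 3 → k)
    · simp
    · simp
  have h := irreducible_mul_X_add (X 1 + X 2 : MvPolynomial (Fin 3) k) (X 1 * X 2) 0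
    (hirr.ne_zero)
    (fun hmem => by
      have := vars_add_subset _ _ hmem
      simp [vars_X] at this)
    (fun hmem => by
      have := vars_mul _ _ hmem
      simp [vars_X] at this)
    (hirr.isRelPrime_iff_not_dvd.mpr hnd)
  have e : s2 k = (X 1 + X 2) * X 0 + X 1 * X 2 := by unfold s2; ring
  rw [e]
  exact h

theorem prime_s2 : Prime (s2 k) := prime_of_irreducible (irreducible_s2 k)

/-- the coefficients of the quartic as a quadratic polynomial in the first variable -/
noncomputable def qa : MvPolynomial (Fin 3) k := s3 k - s1 k * s2 k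
noncomputable def qb : MvPolynomial (Fin 3) k := -(s2 k) ^ 2
noncomputable def qc : MvPolynomial (Fin 3) k := -(s2 k * s3 k)

theorem qa_eq : qa k = -((X 0 + X 1) * (X 0 + X 2) * (X 1 + X 2)) := by
  unfold qa s1 s2 s3; ring

theorem qa_ne_zero : qa k ≠ 0 := by
  apply ne_zero_of_eval (![1, 1, 1] : Fin 3 → k)
  unfold qa
  rw [map_sub, map_mul, eval_s1, eval_s2, eval_s3]
  simp
  norm_num

theorem lin_not_dvd_s2 (i j : Fin 3) (hij : i ≠ j) (p : Fin 3 → k) (hp : p i + p j = 0)
    (hp2 : p 0 * p 1 + p 0 * p 2 + p 1 * p 2 ≠ 0) :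
    IsRelPrime (X i + X j : MvPolynomial (Fin 3) k) (qb k) := by
  have hirr := irreducible_X_add_X k i j hij
  rw [hirr.isRelPrime_iff_not_dvd]
  intro hd
  unfold qb at hd
  rw [dvd_neg] at hd
  have hd' := (prime_of_irreducible hirr).dvd_of_dvd_pow hd
  revert hd'
  apply not_dvd_of_eval p
  · simp [hp]
  · rw [eval_s2]; exact hp2

theorem isRelPrime_qa_qb : IsRelPrime (qa k) (qb k) := by
  rw [qa_eq]
  apply IsRelPrime.neg_left
  apply IsRelPrime.mul_left
  apply IsRelPrime.mul_left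
  · apply lin_not_dvd_s2 k 0 1 (by decide) (![1, -1, 1] : Fin 3 → k)
    · simp
    · simp
  · apply lin_not_dvd_s2 k 0 2 (by decide) (![1, 1, -1] : Fin 3 → k)
    · simp
    · simp
  · apply lin_not_dvd_s2 k 1 2 (by decide) (![1, 1, -1] : Fin 3 → k)
    · simp
    · simp

theorem disc_eq : (qb k) ^ 2 - 4 * qa k * qc k =
    s2 k * ((s2 k) ^ 3 + 4 * (s3 k) ^ 2 - 4 * s1 k * s2 k * s3 k) := by
  unfold qa qb qc; ring

theorem not_isSquare_disc : ¬ IsSquare ((qb k) ^ 2 - 4 * qa k * qc k) := by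
  rw [disc_eq]
  rintro ⟨r, hr⟩
  have h1 : s2 k ∣ r * r := ⟨_, hr.symm⟩
  have h2 : s2 k ∣ r := by
    rcases (prime_s2 k).dvd_or_dvd h1 with h | h <;> exact h
  obtain ⟨r', rfl⟩ := h2
  have h3 : (s2 k) ^ 3 + 4 * (s3 k) ^ 2 - 4 * s1 k * s2 k * s3 k = s2 k * (r' * r') := by
    apply mul_left_cancel₀ (prime_s2 k).ne_zero
    rw [hr]; ring
  have h4 : s2 k ∣ 4 * (s3 k) ^ 2 := by
    refine ⟨r' * r' - (s2 k) ^ 2 + 4 * s1 k * s3 k, ?_⟩
    linear_combination h3
  revert h4
  apply not_dvd_of_eval (![2, 2, -1] : Fin 3 → k)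
  · rw [eval_s2]; simp; norm_num
  · rw [map_mul, map_pow, eval_s3]; simp

end three

end Groth.Agent.Helper20.S24
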