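import Mathlib
import Groth.Agent.Lib.Helper20.IrrQ
import Groth.Agent.Lib.Helper20.S24A
import Groth.Agent.Lib.Helper20.KosP

/-!
Elementary symmetric polynomials in four variables: the conditions making
`(e₁ X + e₂, e₃ X + e₄)` prime (helper20).
-/

set_option autoImplicit false
universe u

namespace Groth.Agent.Helper20.S24

open MvPolynomial Groth.Agent.Helper20.IrrQ

variable (k : Type u) [Field k]

section four

noncomputable def E1 : MvPolynomial (Fin 4) k := X 0 + X 1 + X 2 + X 3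
noncomputable def E2 : MvPolynomial (Fin 4) k :=
  X 0 * X 1 + X 0 * X 2 + X 0 * X 3 + X 1 * X 2 + X 1 * X 3 + X 2 * X 3
noncomputable def E3 : MvPolynomial (Fin 4) k :=
  X 0 * X 1 * X 2 + X 0 * X 1 * X 3 + X 0 * X 2 * X 3 + X 1 * X 2 * X 3
noncomputable def E4 : MvPolynomial (Fin 4) k := X 0 * X 1 * X 2 * X 3
noncomputable def G4 : MvPolynomial (Fin 4) k := E1 k * E4 k - E2 k * E3 k

theorem eval_E1 (p : Fin 4 → k) : eval p (E1 k) = p 0 + p 1 + p 2 + p 3 := by simp [E1]
theorem eval_E2 (p : Fin 4 → k) : eval p (E2 k) =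
    p 0 * p 1 + p 0 * p 2 + p 0 * p 3 + p 1 * p 2 + p 1 * p 3 + p 2 * p 3 := by simp [E2]
theorem eval_E3 (p : Fin 4 → k) : eval p (E3 k) =
    p 0 * p 1 * p 2 + p 0 * p 1 * p 3 + p 0 * p 2 * p 3 + p 1 * p 2 * p 3 := by simp [E3]
theorem eval_E4 (p : Fin 4 → k) : eval p (E4 k) = p 0 * p 1 * p 2 * p 3 := by simp [E4]

theorem fin4_one : (1 : Fin 4) = Fin.succ 0 := rfl
theorem fin4_two : (2 : Fin 4) = Fin.succ 1 := rfl
theorem fin4_three : (3 : Fin 4) = Fin.succ 2 := rfl

theorem fse_E1 : finSuccEquiv k 3 (E1 k) = Polynomial.X + Polynomial.C (s1 k) := by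
  unfold E1 s1
  rw [fin4_one, fin4_two, fin4_three]
  simp only [map_add, finSuccEquiv_X_zero, finSuccEquiv_X_succ]
  ring

theorem fse_E2 : finSuccEquiv k 3 (E2 k) =
    Polynomial.C (s1 k) * Polynomial.X + Polynomial.C (s2 k) := by
  unfold E2 s1 s2
  rw [fin4_one, fin4_two, fin4_three]
  simp only [map_add, map_mul, finSuccEquiv_X_zero, finSuccEquiv_X_succ]
  ring

theorem fse_E3 : finSuccEquiv k 3 (E3 k) =
    Polynomial.C (s2 k) * Polynomial.X + Polynomial.C (s3 k) := by
  unfold E3 s2 s3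
  rw [fin4_one, fin4_two, fin4_three]
  simp only [map_add, map_mul, finSuccEquiv_X_zero, finSuccEquiv_X_succ]
  ring

theorem fse_E4 : finSuccEquiv k 3 (E4 k) = Polynomial.C (s3 k) * Polynomial.X := by
  unfold E4 s3
  rw [fin4_one, fin4_two, fin4_three]
  simp only [map_mul, finSuccEquiv_X_zero, finSuccEquiv_X_succ]
  ring

theorem fse_G4 : finSuccEquiv k 3 (G4 k) =
    Polynomial.C (qa k) * Polynomial.X ^ 2 + Polynomial.C (qb k) * Polynomial.X +
      Polynomial.C (qc k) := by
  unfold G4 qa qb qc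
  rw [map_sub, map_mul, map_mul, fse_E1, fse_E2, fse_E3, fse_E4]
  simp only [map_sub, map_mul, map_neg, map_pow]
  ring

variable [CharZero k]

theorem irreducible_G4 : Irreducible (G4 k) := by
  have h := irreducible_quadratic (qa k) (qb k) (qc k) (qa_ne_zero k)
    (fun r hra hrb _ => isRelPrime_qa_qb k hra hrb) (not_isSquare_disc k)
  rw [← fse_G4] at h
  exact (MulEquiv.irreducible_iff (finSuccEquiv k 3)).mp h

theorem prime_G4 : Prime (G4 k) := prime_of_irreducible (irreducible_G4 k)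

theorem not_G4_dvd_E1 : ¬ G4 k ∣ E1 k := by
  apply not_dvd_of_eval (![1, 0, 0, 0] : Fin 4 → k)
  · unfold G4
    rw [map_sub, map_mul, map_mul, eval_E1, eval_E2, eval_E3, eval_E4]
    simp
  · rw [eval_E1]; simp

theorem irreducible_E1 : Irreducible (E1 k) := by
  have h := irreducible_mul_X_add (1 : MvPolynomial (Fin 4) k) (X 1 + X 2 + X 3) 0 one_ne_zero
    (by simp [vars_one])
    (fun hmem => by
      have h1 := vars_add_subset _ _ hmem
      rw [Finset.mem_union] at h1
      rcases h1 with h1 | h1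
      · have h2 := vars_add_subset _ _ h1
        simp [vars_X] at h2
      · simp [vars_X] at h1)
    isRelPrime_one_left
  have e : E1 k = 1 * X 0 + (X 1 + X 2 + X 3) := by unfold E1; ring
  rw [e]
  exact h

theorem prime_E1 : Prime (E1 k) := prime_of_irreducible (irreducible_E1 k)

theorem not_E1_dvd_E2 : ¬ E1 k ∣ E2 k := by
  apply not_dvd_of_eval (![1, -1, 1, -1] : Fin 4 → k)
  · rw [eval_E1]; simp
  · rw [eval_E2]; simp

end four

end Groth.Agent.Helper20.S24
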