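import Mathlib
import Groth.Agent.Lib.Helper20.IrrQ
import Groth.Agent.Lib.Helper20.S24A
import Groth.Agent.Lib.Helper20.S24B
import Groth.Agent.Lib.Helper20.KosP

/-!
The ideal `(e₁, e₂)` of `k[x₁, …, x₄]` is prime; the ideal `(σ₂, σ₄)` of `k[x₀, …, x₄]` is prime
(helper20).
-/

set_option autoImplicit false
universe u

namespace Groth.Agent.Helper20.S24

open MvPolynomial Groth.Agent.Helper20.IrrQ

variable (k : Type u) [Field k]

section quadric

/-- the ternary quadric `s₁² - s₂` -/
noncomputable def q3 : MvPolynomial (Fin 3) k := (s1 k) ^ 2 - s2 k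

theorem fin3_one : (1 : Fin 3) = Fin.succ 0 := rfl
theorem fin3_two : (2 : Fin 3) = Fin.succ 1 := rfl

theorem fse_q3 : finSuccEquiv k 2 (q3 k) =
    Polynomial.C (1 : MvPolynomial (Fin 2) k) * Polynomial.X ^ 2 +
      Polynomial.C (X 0 + X 1) * Polynomial.X +
      Polynomial.C (X 0 ^ 2 + X 0 * X 1 + X 1 ^ 2) := by
  unfold q3 s1 s2
  rw [fin3_one, fin3_two]
  simp only [map_add, map_mul, map_sub, map_pow, map_one, finSuccEquiv_X_zero,
    finSuccEquiv_X_succ]
  ring

variable [CharZero k] [IsAlgClosed k]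

theorem not_isSquare_disc_q3 : ¬ IsSquare ((X 0 + X 1) ^ 2 -
    4 * 1 * (X 0 ^ 2 + X 0 * X 1 + X 1 ^ 2) : MvPolynomial (Fin 2) k) := by
  obtain ⟨w, hw⟩ := IsAlgClosed.exists_pow_nat_eq (-8 : k) (n := 2) (by norm_num)
  have hw0 : w ≠ 0 := by
    rintro rfl
    norm_num at hw
  have h4 : pderiv (0 : Fin 2) (4 : MvPolynomial (Fin 2) k) = 0 := by
    rw [show (4 : MvPolynomial (Fin 2) k) = C 4 from (map_ofNat C 4).symm]
    exact pderiv_C
  apply not_isSquare_of_eval_pderiv _ (![(-1 + w) / 3, 1] : Fin 2 → k) 0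
  · simp
    field_simp
    linear_combination (-3 : k) * hw
  · simp [Derivation.leibniz, Derivation.leibniz_pow, pderiv_X, h4]
    intro h
    apply hw0
    field_simp at h
    linear_combination (-1 / 6 : k) * h

theorem irreducible_q3 : Irreducible (q3 k) := by
  have h := irreducible_quadratic (1 : MvPolynomial (Fin 2) k) (X 0 + X 1)
    (X 0 ^ 2 + X 0 * X 1 + X 1 ^ 2) one_ne_zero
    (fun r hr _ _ => isUnit_of_dvd_one hr) (not_isSquare_disc_q3 k)
  rw [← fse_q3] at h
  exact (MulEquiv.irreducible_iff (finSuccEquiv k 2)).mp h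

theorem prime_q3 : Prime (q3 k) := prime_of_irreducible (irreducible_q3 k)

end quadric

section reduce

/-- substitute `x₁ = -(x₂ + x₃ + x₄)` -/
noncomputable def psi : MvPolynomial (Fin 4) k →ₐ[k] MvPolynomial (Fin 3) k :=
  aeval (Fin.cons (-(s1 k)) X : Fin 4 → MvPolynomial (Fin 3) k)

/-- the inclusion of the last three variables -/
noncomputable def iota : MvPolynomial (Fin 3) k →ₐ[k] MvPolynomial (Fin 4) k :=
  rename Fin.succ

theorem psi_X_zero : psi k (X 0) = -(s1 k) := by simp [psi]
theorem psi_X_succ (i : Fin 3) : psi k (X i.succ) = X i := by simp [psi]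

theorem iota_s1 : iota k (s1 k) = X 1 + X 2 + X 3 := by
  unfold iota s1
  simp only [map_add, rename_X]
  rfl

theorem psi_E1 : psi k (E1 k) = 0 := by
  unfold E1
  rw [fin4_one, fin4_two, fin4_three]
  simp only [map_add, psi_X_zero, psi_X_succ]
  unfold s1
  ring

theorem psi_E2 : psi k (E2 k) = -(q3 k) := by
  unfold E2 q3
  rw [fin4_one, fin4_two, fin4_three]
  simp only [map_add, map_mul, psi_X_zero, psi_X_succ]
  unfold s1 s2
  ring

theorem sub_iota_psi_mem (f : MvPolynomial (Fin 4) k) :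
    f - iota k (psi k f) ∈ Ideal.span ({E1 k} : Set (MvPolynomial (Fin 4) k)) := by
  induction f using MvPolynomial.induction_on with
  | C a =>
    have : iota k (psi k (C a)) = C a := by
      unfold iota psi
      simp
    rw [this, sub_self]
    exact zero_mem _
  | add p q hp hq =>
    have : p + q - iota k (psi k (p + q)) = (p - iota k (psi k p)) + (q - iota k (psi k q)) := by
      rw [map_add, map_add]; ring
    rw [this]
    exact add_mem hp hq
  | mul_X p i hp =>
    have hX : X i - iota k (psi k (X i)) ∈ Ideal.span ({E1 k} : Set (MvPolynomial (Fin 4) k)) := by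
      refine Fin.cases ?_ (fun j => ?_) i
      · rw [psi_X_zero, map_neg, iota_s1]
        have : (X 0 - -(X 1 + X 2 + X 3) : MvPolynomial (Fin 4) k) = E1 k := by
          unfold E1; ring
        rw [this]
        exact Ideal.subset_span rfl
      · rw [psi_X_succ]
        have : iota k (X j) = X j.succ := by unfold iota; simp
        rw [this, sub_self]
        exact zero_mem _
    have : p * X i - iota k (psi k (p * X i)) =
        (p - iota k (psi k p)) * X i + iota k (psi k p) * (X i - iota k (psi k (X i))) := by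
      rw [map_mul, map_mul]; ring
    rw [this]
    exact add_mem (Ideal.mul_mem_right _ _ hp) (Ideal.mul_mem_left _ _ hX)

theorem span_E1_E2_eq :
    Ideal.span ({E1 k, E2 k} : Set (MvPolynomial (Fin 4) k)) =
      Ideal.comap (psi k : MvPolynomial (Fin 4) k →+* MvPolynomial (Fin 3) k)
        (Ideal.span {q3 k}) := by
  have hE1 : E1 k ∈ Ideal.span ({E1 k, E2 k} : Set (MvPolynomial (Fin 4) k)) :=
    Ideal.subset_span (by simp)
  have hE2 : E2 k ∈ Ideal.span ({E1 k, E2 k} : Set (MvPolynomial (Fin 4) k)) :=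
    Ideal.subset_span (by simp)
  have hle : Ideal.span ({E1 k} : Set (MvPolynomial (Fin 4) k)) ≤
      Ideal.span ({E1 k, E2 k} : Set (MvPolynomial (Fin 4) k)) :=
    Ideal.span_mono (by simp)
  apply le_antisymm
  · rw [Ideal.span_le]
    rintro x (rfl | rfl)
    · rw [SetLike.mem_coe, Ideal.mem_comap]
      change psi k (E1 k) ∈ Ideal.span ({q3 k} : Set (MvPolynomial (Fin 3) k))
      rw [psi_E1]
      exact zero_mem _
    · rw [SetLike.mem_coe, Ideal.mem_comap]
      change psi k (E2 k) ∈ Ideal.span ({q3 k} : Set (MvPolynomial (Fin 3) k))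
      rw [psi_E2]
      exact neg_mem (Ideal.subset_span rfl)
  · intro f hf
    have hf' : psi k f ∈ Ideal.span ({q3 k} : Set (MvPolynomial (Fin 3) k)) := hf
    obtain ⟨w, hw⟩ := Ideal.mem_span_singleton'.mp hf'
    have hq : iota k (q3 k) ∈ Ideal.span ({E1 k, E2 k} : Set (MvPolynomial (Fin 4) k)) := by
      have h1 := sub_iota_psi_mem k (E2 k)
      rw [psi_E2, map_neg, sub_neg_eq_add] at h1
      have : iota k (q3 k) = (E2 k + iota k (q3 k)) - E2 k := by ring
      rw [this]
      exact sub_mem (hle h1) hE2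
    have : f = (f - iota k (psi k f)) + iota k w * iota k (q3 k) := by
      rw [← hw, map_mul]; ring
    rw [this]
    exact add_mem (hle (sub_iota_psi_mem k f)) (Ideal.mul_mem_left _ _ hq)

variable [CharZero k] [IsAlgClosed k]

theorem isPrime_span_E1_E2 :
    (Ideal.span ({E1 k, E2 k} : Set (MvPolynomial (Fin 4) k))).IsPrime := by
  rw [span_E1_E2_eq]
  haveI : (Ideal.span ({q3 k} : Set (MvPolynomial (Fin 3) k))).IsPrime :=
    (Ideal.span_singleton_prime (prime_q3 k).ne_zero).mpr (prime_q3 k)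
  exact Ideal.comap_isPrime _ _

theorem E4_not_mem : E4 k ∉ Ideal.span ({E1 k, E2 k} : Set (MvPolynomial (Fin 4) k)) := by
  obtain ⟨z, hz⟩ := IsAlgClosed.exists_pow_nat_eq (-1 : k) (n := 2) (by norm_num)
  apply not_mem_span_pair_of_eval (![1, z, -1, -z] : Fin 4 → k)
  · rw [eval_E1]; simp
  · rw [eval_E2]; simp
    linear_combination (-1 : k) * hz
  · rw [eval_E4]; simp
    intro h
    rw [h] at hz
    norm_num at hz

end reduce

section main

variable [CharZero k] [IsAlgClosed k]

/-- the ideal `(e₁ X + e₂, e₃ X + e₄)` of `k[x₁, …, x₄][X]` is prime -/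
theorem isPrime_J : (Ideal.span ({Polynomial.C (E1 k) * Polynomial.X + Polynomial.C (E2 k),
    Polynomial.C (E3 k) * Polynomial.X + Polynomial.C (E4 k)} :
      Set (Polynomial (MvPolynomial (Fin 4) k)))).IsPrime :=
  KosP.isPrime_span_pair (E1 k) (E2 k) (E3 k) (E4 k) (prime_E1 k) (not_E1_dvd_E2 k)
    (isPrime_span_E1_E2 k) (Or.inr (E4_not_mem k)) (prime_G4 k) (not_G4_dvd_E1 k)

end main

end Groth.Agent.Helper20.S24
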