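import Mathlib
import Groth.Agent.Lib.Helper20.S24C

/-!
The ideal `(σ₂, σ₄)` of `k[x₀, …, x₄]` is prime (helper20).
-/

set_option autoImplicit false
universe u

namespace Groth.Agent.Helper20.S24

open MvPolynomial

variable (k : Type u) [Field k]

theorem esymm5_two : esymm (Fin 5) k 2 =
    X 0 * X 1 + X 0 * X 2 + X 0 * X 3 + X 0 * X 4 + X 1 * X 2 + X 1 * X 3 + X 1 * X 4
    + X 2 * X 3 + X 2 * X 4 + X 3 * X 4 := by
  have h : Finset.powersetCard 2 (Finset.univ : Finset (Fin 5)) =
      {{0,1},{0,2},{0,3},{0,4},{1,2},{1,3},{1,4},{2,3},{2,4},{3,4}} := by decide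
  rw [esymm, h]
  repeat rw [Finset.sum_insert (by decide)]
  rw [Finset.sum_singleton]
  repeat rw [Finset.prod_insert (by decide)]
  simp only [Finset.prod_singleton]
  ring

theorem esymm5_four : esymm (Fin 5) k 4 =
    X 0 * X 1 * X 2 * X 3 + X 0 * X 1 * X 2 * X 4 + X 0 * X 1 * X 3 * X 4 + X 0 * X 2 * X 3 * X 4
    + X 1 * X 2 * X 3 * X 4 := by
  have h : Finset.powersetCard 4 (Finset.univ : Finset (Fin 5)) =
      {{0,1,2,3},{0,1,2,4},{0,1,3,4},{0,2,3,4},{1,2,3,4}} := by decide
  rw [esymm, h]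
  repeat rw [Finset.sum_insert (by decide)]
  rw [Finset.sum_singleton]
  repeat rw [Finset.prod_insert (by decide)]
  simp only [Finset.prod_singleton]
  ring

theorem fin5_one : (1 : Fin 5) = Fin.succ 0 := rfl
theorem fin5_two : (2 : Fin 5) = Fin.succ 1 := rfl
theorem fin5_three : (3 : Fin 5) = Fin.succ 2 := rfl
theorem fin5_four : (4 : Fin 5) = Fin.succ 3 := rfl

theorem fse_esymm5_two : finSuccEquiv k 4 (esymm (Fin 5) k 2) =
    Polynomial.C (E1 k) * Polynomial.X + Polynomial.C (E2 k) := by
  rw [esymm5_two]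
  unfold E1 E2
  rw [fin5_one, fin5_two, fin5_three, fin5_four]
  simp only [map_add, map_mul, finSuccEquiv_X_zero, finSuccEquiv_X_succ]
  ring

theorem fse_esymm5_four : finSuccEquiv k 4 (esymm (Fin 5) k 4) =
    Polynomial.C (E3 k) * Polynomial.X + Polynomial.C (E4 k) := by
  rw [esymm5_four]
  unfold E3 E4
  rw [fin5_one, fin5_two, fin5_three, fin5_four]
  simp only [map_add, map_mul, finSuccEquiv_X_zero, finSuccEquiv_X_succ]
  ring

variable [CharZero k] [IsAlgClosed k]

/-- the ideal `(σ₂, σ₄)` of `k[x₀, …, x₄]` is prime -/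
theorem isPrime_span_esymm :
    (Ideal.span ({esymm (Fin 5) k 2, esymm (Fin 5) k 4} :
      Set (MvPolynomial (Fin 5) k))).IsPrime := by
  have hJ := isPrime_J k
  have hmap : Ideal.span ({esymm (Fin 5) k 2, esymm (Fin 5) k 4} :
      Set (MvPolynomial (Fin 5) k)) =
      Ideal.comap ((finSuccEquiv k 4 : MvPolynomial (Fin 5) k ≃ₐ[k]
          Polynomial (MvPolynomial (Fin 4) k)) :
        MvPolynomial (Fin 5) k →+* Polynomial (MvPolynomial (Fin 4) k))
        (Ideal.span ({Polynomial.C (E1 k) * Polynomial.X + Polynomial.C (E2 k),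
          Polynomial.C (E3 k) * Polynomial.X + Polynomial.C (E4 k)} :
            Set (Polynomial (MvPolynomial (Fin 4) k)))) := by
    apply le_antisymm
    · rw [Ideal.span_le]
      rintro x (rfl | rfl)
      · rw [SetLike.mem_coe, Ideal.mem_comap]
        change finSuccEquiv k 4 (esymm (Fin 5) k 2) ∈ _
        rw [fse_esymm5_two]
        exact Ideal.subset_span (by simp)
      · rw [SetLike.mem_coe, Ideal.mem_comap]
        change finSuccEquiv k 4 (esymm (Fin 5) k 4) ∈ _
        rw [fse_esymm5_four]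
        exact Ideal.subset_span (by simp)
    · intro f hf
      rw [Ideal.mem_comap] at hf
      have hf' : finSuccEquiv k 4 f ∈ Ideal.span
          ({Polynomial.C (E1 k) * Polynomial.X + Polynomial.C (E2 k),
          Polynomial.C (E3 k) * Polynomial.X + Polynomial.C (E4 k)} :
            Set (Polynomial (MvPolynomial (Fin 4) k))) := hf
      obtain ⟨g, h, hgh⟩ := Ideal.mem_span_pair.mp hf'
      have : f = (finSuccEquiv k 4).symm g * esymm (Fin 5) k 2 +
          (finSuccEquiv k 4).symm h * esymm (Fin 5) k 4 := by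
        apply (finSuccEquiv k 4).injective
        rw [map_add, map_mul, map_mul, fse_esymm5_two, fse_esymm5_four,
          AlgEquiv.apply_symm_apply, AlgEquiv.apply_symm_apply, hgh]
      rw [this]
      exact add_mem (Ideal.mul_mem_left _ _ (Ideal.subset_span (by simp)))
        (Ideal.mul_mem_left _ _ (Ideal.subset_span (by simp)))
  rw [hmap]
  exact Ideal.comap_isPrime _ _

end Groth.Agent.Helper20.S24
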