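import Mathlib

/-!
# Extending derivations to the total ring of fractions (helper20, for S8738)
-/

set_option autoImplicit false
universe u
open scoped KaehlerDifferential

namespace Groth.Agent.Lib.Helper20.SeidA

variable (k : Type u) [Field k] (A : Type u) [CommRing A] [Algebra k A]

theorem isUnit_end (s : nonZeroDivisors A) :
    IsUnit ((algebraMap A (Module.End A (FractionRing A))) s) := by
  have hu : IsUnit (algebraMap A (FractionRing A) s) := IsLocalization.map_units _ s
  obtain ⟨u, hu'⟩ := hu
  refine ⟨⟨algebraMap A (Module.End A (FractionRing A)) s,
    { toFun := fun x => (u⁻¹ : (FractionRing A)ˣ) * x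
      map_add' := fun x y => mul_add _ _ _
      map_smul' := fun a x => by simp [Algebra.smul_def, mul_left_comm] }, ?_, ?_⟩, rfl⟩
  · ext x
    simp only [Module.End.mul_apply, LinearMap.coe_mk, AddHom.coe_mk, Module.algebraMap_end_apply,
      Module.End.one_apply]
    rw [Algebra.smul_def, ← hu', ← mul_assoc, Units.mul_inv, one_mul]
  · ext x
    simp only [Module.End.mul_apply, LinearMap.coe_mk, AddHom.coe_mk, Module.algebraMap_end_apply,
      Module.End.one_apply]
    rw [Algebra.smul_def, ← hu', ← mul_assoc, Units.inv_mul, one_mul]

/-- the extension of a derivation of `A` to its total ring of fractions. -/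
noncomputable def extendDer (D : Derivation k A A) :
    Derivation k (FractionRing A) (FractionRing A) :=
  let l' : Ω[A⁄k] →ₗ[A] FractionRing A :=
    (Algebra.linearMap A (FractionRing A)).comp D.liftKaehlerDifferential
  let L : Ω[FractionRing A⁄k] →ₗ[A] FractionRing A :=
    IsLocalizedModule.lift (nonZeroDivisors A) (KaehlerDifferential.map k k A (FractionRing A)) l'
      (isUnit_end A)
  let LQ : Ω[FractionRing A⁄k] →ₗ[FractionRing A] FractionRing A :=
    LinearMap.extendScalarsOfIsLocalization (nonZeroDivisors A) (FractionRing A) L
  LQ.compDer (KaehlerDifferential.D k (FractionRing A))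

theorem extendDer_algebraMap (D : Derivation k A A) (a : A) :
    extendDer k A D (algebraMap A (FractionRing A) a) = algebraMap A (FractionRing A) (D a) := by
  unfold extendDer
  show (IsLocalizedModule.lift (nonZeroDivisors A)
      (KaehlerDifferential.map k k A (FractionRing A))
      ((Algebra.linearMap A (FractionRing A)).comp D.liftKaehlerDifferential) (isUnit_end A))
      (KaehlerDifferential.D k (FractionRing A) (algebraMap A (FractionRing A) a)) = _
  have h1 : KaehlerDifferential.D k (FractionRing A) (algebraMap A (FractionRing A) a) =
      KaehlerDifferential.map k k A (FractionRing A) (KaehlerDifferential.D k A a) :=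
    (KaehlerDifferential.map_D k k A (FractionRing A) a).symm
  rw [h1, IsLocalizedModule.lift_apply]
  simp

end Groth.Agent.Lib.Helper20.SeidA
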