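import Mathlib

/-!
# Seidenberg's lemma: derivations preserve almost integral elements in characteristic zero
(helper20, for S8738)
-/

set_option autoImplicit false
universe u
open Finset Nat PowerSeries

namespace Groth.Agent.Lib.Helper20.SeidB

variable {k : Type u} [Field k] [CharZero k] {Q : Type u} [CommRing Q] [Algebra k Q]
  (D : Derivation k Q Q)

/-- The general Leibniz rule. -/
theorem iterate_mul (n : ℕ) (a b : Q) :
    (⇑D)^[n] (a * b) = ∑ ij ∈ antidiagonal n, choose n ij.1 • ((⇑D)^[ij.1] a * (⇑D)^[ij.2] b) := by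
  induction n with
  | zero => simp
  | succ n ih =>
    rw [sum_antidiagonal_choose_succ_nsmul (M := Q) (fun i j => (⇑D)^[i] a * (⇑D)^[j] b) n]
    simp only [Function.iterate_succ_apply', ih, map_sum, map_nsmul, Derivation.leibniz, smul_add,
      sum_add_distrib, smul_eq_mul]
    congr 1
    refine sum_congr rfl fun ⟨i, j⟩ hij => ?_
    rw [n.choose_symm_of_eq_add (mem_antidiagonal.1 hij).symm, mul_comm]

/-- `exp(tD) x` as a power series. -/
noncomputable def E (x : Q) : PowerSeries Q :=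
  PowerSeries.mk fun i => algebraMap k Q ((i.factorial : k)⁻¹) * (⇑D)^[i] x

theorem coeff_E (x : Q) (i : ℕ) :
    coeff i (E D x) = algebraMap k Q ((i.factorial : k)⁻¹) * (⇑D)^[i] x := by
  unfold E
  rw [coeff_mk]

theorem E_mul (x y : Q) : E D (x * y) = E D x * E D y := by
  ext n
  rw [coeff_E, coeff_mul, iterate_mul, Finset.mul_sum]
  refine sum_congr rfl fun ⟨i, j⟩ hij => ?_
  rw [coeff_E, coeff_E]
  have hn : i + j = n := mem_antidiagonal.1 hij
  have hfac : ((n.factorial : k)⁻¹) * (n.choose i : k) = (i.factorial : k)⁻¹ * (j.factorial : k)⁻¹ := by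
    have h1 : (n.choose i : k) * (i.factorial : k) * (j.factorial : k) = (n.factorial : k) := by
      rw [← hn]
      have := Nat.add_choose_mul_factorial_mul_factorial i j
      rw [← Nat.choose_symm_add] at this
      exact_mod_cast this
    have hi : (i.factorial : k) ≠ 0 := by exact_mod_cast i.factorial_ne_zero
    have hj : (j.factorial : k) ≠ 0 := by exact_mod_cast j.factorial_ne_zero
    have hn' : (n.factorial : k) ≠ 0 := by exact_mod_cast n.factorial_ne_zero
    field_simp
    rw [← h1]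
  show algebraMap k Q ((n.factorial : k)⁻¹) * (n.choose i • ((⇑D)^[i] x * (⇑D)^[j] y)) =
    algebraMap k Q ((i.factorial : k)⁻¹) * (⇑D)^[i] x * (algebraMap k Q ((j.factorial : k)⁻¹) * (⇑D)^[j] y)
  rw [nsmul_eq_mul, ← mul_assoc]
  have h2 : algebraMap k Q ((n.factorial : k)⁻¹) * (n.choose i : Q) =
      algebraMap k Q ((i.factorial : k)⁻¹) * algebraMap k Q ((j.factorial : k)⁻¹) := by
    rw [← map_natCast (algebraMap k Q), ← map_mul, ← map_mul, hfac]
  rw [h2]; ring

theorem iterate_one_eq_zero (i : ℕ) (hi : 0 < i) : (⇑D)^[i] (1 : Q) = 0 := by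
  obtain ⟨j, rfl⟩ := Nat.exists_eq_succ_of_ne_zero hi.ne'
  rw [Function.iterate_succ_apply, Derivation.map_one_eq_zero]
  exact iterate_map_zero D j

theorem E_one : E D (1 : Q) = 1 := by
  ext n
  rw [coeff_E, coeff_one]
  by_cases hn : n = 0
  · subst hn; simp
  · rw [if_neg hn, iterate_one_eq_zero D n (Nat.pos_of_ne_zero hn), mul_zero]

theorem E_pow (x : Q) (n : ℕ) : E D (x ^ n) = E D x ^ n := by
  induction n with
  | zero => rw [pow_zero, pow_zero, E_one]
  | succ n ih => rw [pow_succ, pow_succ, E_mul, ih]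

theorem coeff_zero_E (x : Q) : coeff 0 (E D x) = x := by
  rw [coeff_E]; simp

theorem coeff_one_E (x : Q) : coeff 1 (E D x) = D x := by
  rw [coeff_E]; simp

section Main

variable (O : Subalgebra k Q)

/-- all coefficients lie in `O`. -/
def InO (f : PowerSeries Q) : Prop := ∀ i, coeff i f ∈ O

theorem InO.mul {O : Subalgebra k Q} {f g : PowerSeries Q} (hf : InO O f) (hg : InO O g) :
    InO O (f * g) := by
  intro i
  rw [coeff_mul]
  exact Subalgebra.sum_mem _ (fun ij _ => O.mul_mem (hf _) (hg _))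

theorem InO.sum {O : Subalgebra k Q} {ι : Type*} (s : Finset ι) (f : ι → PowerSeries Q)
    (hf : ∀ i ∈ s, InO O (f i)) : InO O (∑ i ∈ s, f i) := by
  intro j
  rw [map_sum]
  exact Subalgebra.sum_mem _ (fun i hi => hf i hi j)

theorem InO.C {O : Subalgebra k Q} {o : Q} (ho : o ∈ O) : InO O (PowerSeries.C o) := by
  intro i
  rw [coeff_C]
  split_ifs
  · exact ho
  · exact O.zero_mem

theorem InO.natCast {O : Subalgebra k Q} (n : ℕ) : InO O (n : PowerSeries Q) := by
  have : (n : PowerSeries Q) = PowerSeries.C (n : Q) := by rw [map_natCast]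
  rw [this]
  exact InO.C (natCast_mem O n)

omit [CharZero k] in
theorem iterate_mem {O : Subalgebra k Q} (hD : ∀ a ∈ O, D a ∈ O) {x : Q} (hx : x ∈ O) (i : ℕ) :
    (⇑D)^[i] x ∈ O := by
  induction i with
  | zero => exact hx
  | succ i ih => rw [Function.iterate_succ_apply']; exact hD _ ih

theorem InO_E {O : Subalgebra k Q} (hD : ∀ a ∈ O, D a ∈ O) {x : Q} (hx : x ∈ O) :
    InO O (E D x) := by
  intro i
  rw [coeff_E]
  exact O.mul_mem (O.algebraMap_mem _) (iterate_mem D hD hx i)

theorem main_aux {O : Subalgebra k Q} (hD : ∀ a ∈ O, D a ∈ O) (x c : Q)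
    (hcx : ∀ n, c * x ^ n ∈ O) (n : ℕ) : c * c * (D x) ^ n ∈ O := by
  have hc : c ∈ O := by have := hcx 0; rwa [pow_zero, mul_one] at this
  obtain ⟨h, hh⟩ : ∃ h : PowerSeries Q, h = PowerSeries.mk fun i => coeff (i + 1) (E D x) :=
    ⟨_, rfl⟩
  have hEx : E D x = PowerSeries.C x + PowerSeries.X * h := by
    ext i
    cases i with
    | zero => rw [coeff_zero_E, map_add, coeff_zero_C, coeff_zero_X_mul, add_zero]
    | succ i =>
      rw [map_add, coeff_succ_X_mul, hh, coeff_mk, coeff_C, if_neg (Nat.succ_ne_zero i), zero_add]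
  have hcoeff0h : constantCoeff h = D x := by
    rw [← coeff_zero_eq_constantCoeff_apply, hh, coeff_mk, zero_add, coeff_one_E]
  obtain ⟨P, hP⟩ : ∃ P : PowerSeries Q,
      P = PowerSeries.C c * E D c * (E D x - PowerSeries.C x) ^ n := ⟨_, rfl⟩
  have hP1 : P = PowerSeries.X ^ n * (PowerSeries.C c * E D c * h ^ n) := by
    rw [hP, hEx, add_sub_cancel_left, mul_pow]; ring
  have hP2 : coeff n P = c * c * (D x) ^ n := by
    rw [hP1]
    have := coeff_X_pow_mul (PowerSeries.C c * E D c * h ^ n) n 0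
    rw [zero_add] at this
    rw [this, coeff_zero_eq_constantCoeff_apply, map_mul, map_mul, map_pow, constantCoeff_C,
      hcoeff0h, ← coeff_zero_eq_constantCoeff_apply, coeff_zero_E]
  have hP3 : InO O P := by
    have hexp : P = ∑ m ∈ range (n + 1),
        E D (c * x ^ m) * PowerSeries.C (c * (-x) ^ (n - m)) * ((n.choose m : ℕ) : PowerSeries Q) := by
      rw [hP, sub_eq_add_neg, add_pow, Finset.mul_sum]
      refine sum_congr rfl fun m _ => ?_
      rw [E_mul, E_pow, map_mul, map_pow, map_neg]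
      ring
    rw [hexp]
    refine InO.sum _ _ (fun m _ => ?_)
    refine InO.mul (InO.mul (InO_E D hD (hcx m)) (InO.C ?_)) (InO.natCast _)
    rw [neg_pow, mul_left_comm]
    exact O.mul_mem (Subalgebra.pow_mem _ (O.neg_mem O.one_mem) _) (hcx _)
  rw [← hP2]
  exact hP3 n

end Main

/-- Seidenberg: a derivation in characteristic zero preserving `A` preserves almost integral
elements. -/
theorem isAlmostIntegral_derivation {A : Type u} [CommRing A] [Algebra k A] [Algebra A Q]
    [IsScalarTower k A Q] (hD : ∀ a : A, D (algebraMap A Q a) ∈ (algebraMap A Q).range)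
    {x : Q} (hx : IsAlmostIntegral A x) : IsAlmostIntegral A (D x) := by
  obtain ⟨r, hr, hr'⟩ := hx
  refine ⟨r * r, mul_mem hr hr, fun n => ?_⟩
  obtain ⟨O, hO⟩ : ∃ O : Subalgebra k Q, O = (IsScalarTower.toAlgHom k A Q).range := ⟨_, rfl⟩
  have hmem : ∀ y : Q, y ∈ O ↔ y ∈ (algebraMap A Q).range := by
    intro y
    rw [hO]
    constructor
    · rintro ⟨a, rfl⟩; exact ⟨a, rfl⟩
    · rintro ⟨a, rfl⟩; exact ⟨a, rfl⟩
  have hD' : ∀ a ∈ O, D a ∈ O := by
    intro a ha
    obtain ⟨a', rfl⟩ := (hmem a).mp ha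
    exact (hmem _).mpr (hD a')
  have hcx : ∀ n, algebraMap A Q r * x ^ n ∈ O := by
    intro n
    rw [hmem, ← Algebra.smul_def]
    exact hr' n
  have := main_aux D hD' x (algebraMap A Q r) hcx n
  rw [hmem] at this
  rwa [Algebra.smul_def, map_mul]

end Groth.Agent.Lib.Helper20.SeidB
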