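import Mathlib
import Groth.Agent.Lib.Helper20.SeidA
import Groth.Agent.Lib.Helper20.SeidB

/-!
# Seidenberg: derivations extend to the normalization in characteristic zero (helper20, for S8738)
-/

set_option autoImplicit false
universe u

namespace Groth.Agent.Lib.Helper20.SeidC

open Groth.Agent.Lib.Helper20

variable (k : Type u) [Field k] [CharZero k] (A : Type u) [CommRing A] [Algebra k A]
  [IsNoetherianRing A]

theorem extendDer_mem (D : Derivation k A A) {x : FractionRing A}
    (hx : x ∈ integralClosure A (FractionRing A)) :
    SeidA.extendDer k A D x ∈ integralClosure A (FractionRing A) := by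
  have hx' : IsIntegral A x := hx
  have h1 : IsAlmostIntegral A x := hx'.isAlmostIntegral
  have h2 : IsAlmostIntegral A (SeidA.extendDer k A D x) := by
    refine SeidB.isAlmostIntegral_derivation (SeidA.extendDer k A D) ?_ h1
    intro a
    rw [SeidA.extendDer_algebraMap]
    exact ⟨D a, rfl⟩
  refine h2.isIntegral_of_nonZeroDivisors_le_comap ?_
  intro s hs
  rw [Submonoid.mem_comap]
  exact (IsLocalization.map_units (FractionRing A) (⟨s, hs⟩ : nonZeroDivisors A)).mem_nonZeroDivisors

/-- the restricted derivation on the integral closure -/
noncomputable def restrictDer (D : Derivation k A A) :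
    Derivation k ↥(integralClosure A (FractionRing A)) ↥(integralClosure A (FractionRing A)) where
  toFun x := ⟨SeidA.extendDer k A D x, extendDer_mem k A D x.2⟩
  map_add' x y := by
    apply Subtype.ext
    simp
  map_smul' c x := by
    apply Subtype.ext
    simp
  map_one_eq_zero' := by
    apply Subtype.ext
    simp
  leibniz' x y := by
    apply Subtype.ext
    simp [Derivation.leibniz]

theorem restrictDer_apply (D : Derivation k A A) (a : A) :
    ((restrictDer k A D (algebraMap A ↥(integralClosure A (FractionRing A)) a) :
      ↥(integralClosure A (FractionRing A))) : FractionRing A) =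
      algebraMap A (FractionRing A) (D a) := by
  show SeidA.extendDer k A D
    ((algebraMap A ↥(integralClosure A (FractionRing A)) a : _) : FractionRing A) = _
  rw [← SeidA.extendDer_algebraMap]
  rfl

end Groth.Agent.Lib.Helper20.SeidC
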