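import Mathlib

/-!
# The difference of two extensions of `A` by `A` in an abelian category

For two short exact sequences `0 → A → E → A → 0` and `0 → A → E' → A → 0` we form the fibre
product `G = E ×_A E'` and its quotient `Gb` by the diagonal copy of `A`: the "difference"
extension `0 → A → Gb → A → 0`.  A retraction of `A → Gb` produces a morphism `E ⟶ E'` of
extensions.
-/

set_option autoImplicit false
universe v u
open CategoryTheory CategoryTheory.Limits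

namespace Groth.Agent.Helper20.SelfExt

/-- two short exact sequences `0 → A → E → A → 0`, `0 → A → E' → A → 0`. -/
structure Pair (C : Type u) [Category.{v} C] [Abelian C] where
  A : C
  E : C
  E' : C
  i : A ⟶ E
  p : E ⟶ A
  i' : A ⟶ E'
  p' : E' ⟶ A
  w : i ≫ p = 0
  w' : i' ≫ p' = 0
  hS : (ShortComplex.mk i p w).ShortExact
  hS' : (ShortComplex.mk i' p' w').ShortExact

namespace Pair

variable {C : Type u} [Category.{v} C] [Abelian C] (D : Pair C)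

instance : Mono D.i := D.hS.mono_f
instance : Epi D.p := D.hS.epi_g
instance : Mono D.i' := D.hS'.mono_f
instance : Epi D.p' := D.hS'.epi_g

/-- the fibre product `E ×_A E'`. -/
noncomputable def G : C := pullback D.p D.p'
noncomputable def f₁ : D.G ⟶ D.E := pullback.fst D.p D.p'
noncomputable def f₂ : D.G ⟶ D.E' := pullback.snd D.p D.p'

lemma cond : D.f₁ ≫ D.p = D.f₂ ≫ D.p' := pullback.condition

instance : Epi D.f₁ := inferInstanceAs (Epi (pullback.fst D.p D.p'))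
instance : Epi D.f₂ := inferInstanceAs (Epi (pullback.snd D.p D.p'))

lemma hom_ext {T : C} {y z : T ⟶ D.G} (h₁ : y ≫ D.f₁ = z ≫ D.f₁) (h₂ : y ≫ D.f₂ = z ≫ D.f₂) :
    y = z := pullback.hom_ext h₁ h₂

noncomputable def lift {T : C} (a : T ⟶ D.E) (b : T ⟶ D.E') (h : a ≫ D.p = b ≫ D.p') : T ⟶ D.G :=
  pullback.lift a b h

lemma lift_f₁ {T : C} (a : T ⟶ D.E) (b : T ⟶ D.E') (h : a ≫ D.p = b ≫ D.p') :
    D.lift a b h ≫ D.f₁ = a := pullback.lift_fst _ _ _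

lemma lift_f₂ {T : C} (a : T ⟶ D.E) (b : T ⟶ D.E') (h : a ≫ D.p = b ≫ D.p') :
    D.lift a b h ≫ D.f₂ = b := pullback.lift_snd _ _ _

noncomputable def k₁ : D.A ⟶ D.G := D.lift D.i 0 (by rw [D.w, zero_comp])
noncomputable def k₂ : D.A ⟶ D.G := D.lift 0 D.i' (by rw [D.w', zero_comp])
noncomputable def dg : D.A ⟶ D.G := D.lift D.i D.i' (by rw [D.w, D.w'])

lemma k₁_f₁ : D.k₁ ≫ D.f₁ = D.i := D.lift_f₁ _ _ _
lemma k₁_f₂ : D.k₁ ≫ D.f₂ = 0 := D.lift_f₂ _ _ _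
lemma k₂_f₁ : D.k₂ ≫ D.f₁ = 0 := D.lift_f₁ _ _ _
lemma k₂_f₂ : D.k₂ ≫ D.f₂ = D.i' := D.lift_f₂ _ _ _
lemma dg_f₁ : D.dg ≫ D.f₁ = D.i := D.lift_f₁ _ _ _
lemma dg_f₂ : D.dg ≫ D.f₂ = D.i' := D.lift_f₂ _ _ _

lemma dg_eq : D.dg = D.k₁ + D.k₂ := by
  apply D.hom_ext
  · rw [Preadditive.add_comp, dg_f₁, k₁_f₁, k₂_f₁, add_zero]
  · rw [Preadditive.add_comp, dg_f₂, k₁_f₂, k₂_f₂, zero_add]

lemma eq_of_comps {T : C} (y : T ⟶ D.G) (a b : T ⟶ D.A)
    (h₁ : y ≫ D.f₁ = a ≫ D.i) (h₂ : y ≫ D.f₂ = b ≫ D.i') : y = a ≫ D.k₁ + b ≫ D.k₂ := by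
  apply D.hom_ext
  · rw [Preadditive.add_comp, Category.assoc, Category.assoc, k₁_f₁, k₂_f₁, comp_zero, add_zero, h₁]
  · rw [Preadditive.add_comp, Category.assoc, Category.assoc, k₁_f₂, k₂_f₂, comp_zero, zero_add, h₂]

lemma exists_lift {T : C} (x : T ⟶ D.E) (hx : x ≫ D.p = 0) : ∃ a : T ⟶ D.A, a ≫ D.i = x := by
  haveI : Mono (ShortComplex.mk D.i D.p D.w).f := D.hS.mono_f
  exact ⟨D.hS.exact.lift x hx, D.hS.exact.lift_f x hx⟩

lemma exists_lift' {T : C} (x : T ⟶ D.E') (hx : x ≫ D.p' = 0) : ∃ a : T ⟶ D.A, a ≫ D.i' = x := by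
  haveI : Mono (ShortComplex.mk D.i' D.p' D.w').f := D.hS'.mono_f
  exact ⟨D.hS'.exact.lift x hx, D.hS'.exact.lift_f x hx⟩

/-- every map to `G` killed by `G → A` comes from `A ⊕ A`. -/
lemma exists_comps {T : C} (y : T ⟶ D.G) (hy : y ≫ D.f₁ ≫ D.p = 0) :
    ∃ a b : T ⟶ D.A, y ≫ D.f₁ = a ≫ D.i ∧ y ≫ D.f₂ = b ≫ D.i' ∧
      y = a ≫ D.k₁ + b ≫ D.k₂ := by
  obtain ⟨a, ha⟩ := D.exists_lift (y ≫ D.f₁) (by rw [Category.assoc, hy])
  obtain ⟨b, hb⟩ := D.exists_lift' (y ≫ D.f₂) (by rw [Category.assoc, ← D.cond, hy])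
  exact ⟨a, b, ha.symm, hb.symm, D.eq_of_comps y a b ha.symm hb.symm⟩

/-- the projection `G → A`. -/
noncomputable def q : D.G ⟶ D.A := D.f₁ ≫ D.p

instance : Epi D.q := by
  unfold q
  infer_instance

/-- the sequence `0 → ker q → G → A → 0`. -/
noncomputable def TT : ShortComplex C :=
  ShortComplex.mk (kernel.ι D.q) D.q (kernel.condition D.q)

lemma TT_shortExact : D.TT.ShortExact :=
  ShortComplex.ShortExact.mk' (ShortComplex.exact_kernel D.q)
    (inferInstanceAs (Mono (kernel.ι D.q))) (inferInstanceAs (Epi D.q))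

lemma exists_α : ∃ a b : kernel D.q ⟶ D.A, kernel.ι D.q ≫ D.f₁ = a ≫ D.i ∧
    kernel.ι D.q ≫ D.f₂ = b ≫ D.i' ∧ kernel.ι D.q = a ≫ D.k₁ + b ≫ D.k₂ :=
  D.exists_comps (kernel.ι D.q) (kernel.condition D.q)

noncomputable def α₁ : kernel D.q ⟶ D.A := D.exists_α.choose
noncomputable def α₂ : kernel D.q ⟶ D.A := D.exists_α.choose_spec.choose

lemma α₁_i : D.α₁ ≫ D.i = kernel.ι D.q ≫ D.f₁ := D.exists_α.choose_spec.choose_spec.1.symm
lemma α₂_i' : D.α₂ ≫ D.i' = kernel.ι D.q ≫ D.f₂ := D.exists_α.choose_spec.choose_spec.2.1.symm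
lemma ι_eq : kernel.ι D.q = D.α₁ ≫ D.k₁ + D.α₂ ≫ D.k₂ := D.exists_α.choose_spec.choose_spec.2.2

/-- the projection of `0 → ker q → G → A → 0` to the first extension. -/
noncomputable def Φ₁ : D.TT ⟶ ShortComplex.mk D.i D.p D.w where
  τ₁ := D.α₁
  τ₂ := D.f₁
  τ₃ := 𝟙 D.A
  comm₁₂ := D.α₁_i
  comm₂₃ := by
    show D.f₁ ≫ D.p = D.q ≫ 𝟙 D.A
    rw [Category.comp_id]
    rfl

/-- the projection of `0 → ker q → G → A → 0` to the second extension. -/
noncomputable def Φ₂ : D.TT ⟶ ShortComplex.mk D.i' D.p' D.w' where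
  τ₁ := D.α₂
  τ₂ := D.f₂
  τ₃ := 𝟙 D.A
  comm₁₂ := D.α₂_i'
  comm₂₃ := by
    show D.f₂ ≫ D.p' = D.q ≫ 𝟙 D.A
    rw [Category.comp_id, ← D.cond]
    rfl

/-- the difference extension `Gb = G / A`. -/
noncomputable def Gb : C := cokernel D.dg
noncomputable def c : D.G ⟶ D.Gb := cokernel.π D.dg

instance : Epi D.c := inferInstanceAs (Epi (cokernel.π D.dg))
instance : Mono D.dg := mono_of_mono_fac D.dg_f₁

lemma dg_c : D.dg ≫ D.c = 0 := cokernel.condition D.dg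

lemma dg_q : D.dg ≫ D.q = 0 := by
  unfold q
  rw [← Category.assoc, dg_f₁, D.w]

noncomputable def qb : D.Gb ⟶ D.A := cokernel.desc D.dg D.q D.dg_q

lemma c_qb : D.c ≫ D.qb = D.q := cokernel.π_desc _ _ _

noncomputable def ib : D.A ⟶ D.Gb := D.k₂ ≫ D.c

lemma k₂_c : D.k₂ ≫ D.c = D.ib := rfl

lemma k₁_c : D.k₁ ≫ D.c = - D.ib := by
  have h := D.dg_c
  rw [dg_eq, Preadditive.add_comp] at h
  exact eq_neg_of_add_eq_zero_left h

lemma k₂_q : D.k₂ ≫ D.q = 0 := by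
  unfold q
  rw [← Category.assoc, k₂_f₁, zero_comp]

lemma ib_qb : D.ib ≫ D.qb = 0 := by
  unfold ib
  rw [Category.assoc, c_qb, k₂_q]

/-- the difference extension `0 → A → Gb → A → 0`. -/
noncomputable def BB : ShortComplex C := ShortComplex.mk D.ib D.qb D.ib_qb

instance : Epi D.qb := epi_of_epi_fac D.c_qb

instance : Mono D.ib := by
  apply Preadditive.mono_of_cancel_zero
  intro T t ht
  have h0 : (t ≫ D.k₂) ≫ cokernel.π D.dg = 0 := by
    rw [Category.assoc]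
    exact ht
  haveI : Mono (ShortComplex.mk D.dg (cokernel.π D.dg) (cokernel.condition D.dg)).f :=
    inferInstanceAs (Mono D.dg)
  have hex : (ShortComplex.mk D.dg (cokernel.π D.dg) (cokernel.condition D.dg)).Exact :=
    ShortComplex.exact_cokernel D.dg
  obtain ⟨u, hu⟩ : ∃ u : T ⟶ D.A, u ≫ D.dg = t ≫ D.k₂ :=
    ⟨hex.lift (t ≫ D.k₂) h0, hex.lift_f (t ≫ D.k₂) h0⟩
  have h1 : u ≫ D.i = 0 := by
    have := congrArg (fun z => z ≫ D.f₁) hu
    simp only [Category.assoc, dg_f₁, k₂_f₁, comp_zero] at this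
    exact this
  have hu0 : u = 0 := by rw [← cancel_mono D.i, h1, zero_comp]
  have h2 : t ≫ D.i' = 0 := by
    have := congrArg (fun z => z ≫ D.f₂) hu
    simp only [Category.assoc, dg_f₂, k₂_f₂] at this
    rw [hu0, zero_comp] at this
    exact this.symm
  rw [← cancel_mono D.i', h2, zero_comp]

lemma BB_exact_aux {T : C} (x : T ⟶ D.Gb) (hx' : x ≫ D.qb = 0) :
    ∃ (T' : C) (π : T' ⟶ T) (_ : Epi π) (x₁ : T' ⟶ D.A), π ≫ x = x₁ ≫ D.ib := by
  obtain ⟨T', π, hπ, y, hy⟩ := surjective_up_to_refinements_of_epi D.c x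
  have hyq : y ≫ D.f₁ ≫ D.p = 0 := by
    have h : y ≫ D.q = 0 := by
      rw [← D.c_qb, ← Category.assoc, ← hy, Category.assoc, hx', comp_zero]
    exact h
  obtain ⟨a, b, -, -, hab⟩ := D.exists_comps y hyq
  refine ⟨T', π, hπ, b - a, ?_⟩
  rw [hy, hab, Preadditive.add_comp, Category.assoc, Category.assoc, k₁_c, k₂_c,
    Preadditive.sub_comp, Preadditive.comp_neg]
  abel

lemma BB_exact : D.BB.Exact := by
  rw [ShortComplex.exact_iff_exact_up_to_refinements]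
  intro T x hx
  exact D.BB_exact_aux x hx

lemma BB_shortExact : D.BB.ShortExact :=
  ShortComplex.ShortExact.mk' D.BB_exact (inferInstanceAs (Mono D.ib)) (inferInstanceAs (Epi D.qb))

/-- the projection of `0 → ker q → G → A → 0` to the difference extension; on the kernels it is
the difference of the two projections. -/
noncomputable def Φ₃ : D.TT ⟶ D.BB where
  τ₁ := D.α₂ - D.α₁
  τ₂ := D.c
  τ₃ := 𝟙 D.A
  comm₁₂ := by
    show (D.α₂ - D.α₁) ≫ D.ib = kernel.ι D.q ≫ D.c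
    rw [D.ι_eq, Preadditive.add_comp, Category.assoc, Category.assoc, k₁_c, k₂_c,
      Preadditive.sub_comp, Preadditive.comp_neg]
    abel
  comm₂₃ := by
    show D.c ≫ D.qb = D.q ≫ 𝟙 D.A
    rw [Category.comp_id, c_qb]

/-- a retraction of `A → Gb` gives a morphism of extensions `E ⟶ E'`. -/
theorem exists_map (r : D.Gb ⟶ D.A) (hr : D.ib ≫ r = 𝟙 D.A) :
    ∃ φ : D.E ⟶ D.E', φ ≫ D.p' = D.p ∧ D.i ≫ φ = D.i' := by
  have hk₂ψ : D.k₂ ≫ (D.f₂ - (D.c ≫ r) ≫ D.i') = 0 := by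
    rw [Preadditive.comp_sub, k₂_f₂, ← Category.assoc, ← Category.assoc, k₂_c, hr,
      Category.id_comp, sub_self]
  have hker : kernel.ι D.f₁ ≫ (D.f₂ - (D.c ≫ r) ≫ D.i') = 0 := by
    obtain ⟨b, hb⟩ := D.exists_lift' (kernel.ι D.f₁ ≫ D.f₂)
      (by rw [Category.assoc, ← D.cond, ← Category.assoc, kernel.condition, zero_comp])
    have hz : kernel.ι D.f₁ = b ≫ D.k₂ := by
      apply D.hom_ext
      · rw [kernel.condition, Category.assoc, k₂_f₁, comp_zero]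
      · rw [Category.assoc, k₂_f₂, hb]
    rw [hz, Category.assoc, hk₂ψ, comp_zero]
  have hex : (ShortComplex.mk (kernel.ι D.f₁) D.f₁ (kernel.condition D.f₁)).Exact :=
    ShortComplex.exact_kernel D.f₁
  haveI : Epi (ShortComplex.mk (kernel.ι D.f₁) D.f₁ (kernel.condition D.f₁)).g :=
    inferInstanceAs (Epi D.f₁)
  obtain ⟨φ, hφ⟩ : ∃ φ : D.E ⟶ D.E', D.f₁ ≫ φ = D.f₂ - (D.c ≫ r) ≫ D.i' :=
    ⟨hex.desc _ hker, hex.g_desc _ hker⟩
  refine ⟨φ, ?_, ?_⟩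
  · rw [← cancel_epi D.f₁, ← Category.assoc, hφ, Preadditive.sub_comp, Category.assoc, D.w',
      comp_zero, sub_zero]
    exact D.cond.symm
  · have h1 : D.i = D.k₁ ≫ D.f₁ := D.k₁_f₁.symm
    rw [h1, Category.assoc, hφ, Preadditive.comp_sub, k₁_f₂, ← Category.assoc, ← Category.assoc,
      k₁_c, Preadditive.neg_comp, hr, Preadditive.neg_comp, Category.id_comp, zero_sub, neg_neg]

/-- a morphism of extensions is a monomorphism. -/
theorem mono_of_map (φ : D.E ⟶ D.E') (h₁ : φ ≫ D.p' = D.p) (h₂ : D.i ≫ φ = D.i') : Mono φ := by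
  apply Preadditive.mono_of_cancel_zero
  intro T t ht
  have h0 : t ≫ D.p = 0 := by rw [← h₁, ← Category.assoc, ht, zero_comp]
  obtain ⟨a, ha⟩ := D.exists_lift t h0
  have h3 : a ≫ D.i' = 0 := by rw [← h₂, ← Category.assoc, ha, ht]
  have ha0 : a = 0 := by rw [← cancel_mono D.i', h3, zero_comp]
  rw [← ha, ha0, zero_comp]

end Pair

end Groth.Agent.Helper20.SelfExt
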