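import Mathlib
import Groth.Agent.Lib.Helper20.SelfExt1
import Groth.Agent.Lib.Helper20.Crux1
import Groth.Agent.Lib.Helper20.SimpleSub

/-!
# Two extensions of `O` by `O` with the same class in `H¹(O)` are isomorphic
-/

set_option autoImplicit false
set_option maxHeartbeats 1600000
set_option linter.style.haveILetI false
set_option linter.unusedSectionVars false
set_option linter.unusedVariables false
universe u
open CategoryTheory CategoryTheory.Limits AlgebraicGeometry Opposite TopologicalSpace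
open Groth.Agent.Helper13 Groth.Agent.Helper13.PnFin Groth.Agent.Helper24.LinLES
open Groth.Agent.Helper20.Untwist Groth.Agent.Helper20.Crux

namespace Groth.Agent.Helper20.SelfExt

variable (k : Type u) [Field k] {X : Scheme.{u}} [X.Over (Spec (CommRingCat.of k))]

/-- the map on cohomology induced by a scalar endomorphism is multiplication by the scalar. -/
lemma hstar_smul_id (M : X.Modules) (μ : k) (p : ℕ) (z : Coh.HH X M p) :
    hstar k (μ • 𝟙 M) p z = μ • z := by
  show Sheaf.H.map ((SheafOfModules.toSheaf X.ringCatSheaf).map (μ • 𝟙 M)) p z = μ • z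
  rw [Groth.Agent.Helper20.VBIndec.toSheaf_map_smul_id k M μ]
  rfl

/-- multiplication by a nonzero scalar, as an automorphism. -/
noncomputable def smulIso (M : X.Modules) (μ : k) (hμ : μ ≠ 0) : M ≅ M where
  hom := μ • 𝟙 M
  inv := μ⁻¹ • 𝟙 M
  hom_inv_id := by
    rw [Groth.Agent.Helper20.SimpleSub.smul_id_comp, mul_inv_cancel₀ hμ, one_smul]
  inv_hom_id := by
    rw [Groth.Agent.Helper20.SimpleSub.smul_id_comp, inv_mul_cancel₀ hμ, one_smul]

/-- two extensions of `O` by `O` whose classes `δ(1) ∈ H¹(O)` agree are isomorphic as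
extensions. -/
theorem exists_map_of_same_class (E E' : X.Modules)
    (i : Coh.structureModule X ⟶ E) (p : E ⟶ Coh.structureModule X)
    (i' : Coh.structureModule X ⟶ E') (p' : E' ⟶ Coh.structureModule X)
    (w : i ≫ p = 0) (w' : i' ≫ p' = 0)
    (hS : (ShortComplex.mk i p w).ShortExact) (hS' : (ShortComplex.mk i' p' w').ShortExact)
    (y : Coh.HH X (Coh.structureModule X) 0)
    (hy : homOfH0 (Coh.structureModule X) y = 𝟙 (Coh.structureModule X))
    (hcls : hdelta k (ShortComplex.mk i p w) hS 0 1 rfl y =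
      hdelta k (ShortComplex.mk i' p' w') hS' 0 1 rfl y) :
    ∃ φ : E ⟶ E', φ ≫ p' = p ∧ i ≫ φ = i' ∧ Mono φ := by
  let D : Pair X.Modules := ⟨Coh.structureModule X, E, E', i, p, i', p', w, w', hS, hS'⟩
  have hT := D.TT_shortExact
  have hB := D.BB_shortExact
  have n₁ : hdelta k (ShortComplex.mk i p w) hS 0 1 rfl
      (hstar k (𝟙 (Coh.structureModule X)) 0 y) =
      hstar k D.α₁ 1 (hdelta k D.TT hT 0 1 rfl y) :=
    hdelta_naturality k D.TT (ShortComplex.mk i p w) hT hS D.Φ₁ 0 1 rfl y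
  have n₂ : hdelta k (ShortComplex.mk i' p' w') hS' 0 1 rfl
      (hstar k (𝟙 (Coh.structureModule X)) 0 y) =
      hstar k D.α₂ 1 (hdelta k D.TT hT 0 1 rfl y) :=
    hdelta_naturality k D.TT (ShortComplex.mk i' p' w') hT hS' D.Φ₂ 0 1 rfl y
  have n₃ : hdelta k D.BB hB 0 1 rfl (hstar k (𝟙 (Coh.structureModule X)) 0 y) =
      hstar k (D.α₂ - D.α₁) 1 (hdelta k D.TT hT 0 1 rfl y) :=
    hdelta_naturality k D.TT D.BB hT hB D.Φ₃ 0 1 rfl y
  have hid : hstar k (𝟙 (Coh.structureModule X)) 0 y = y := by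
    rw [hstar_id]
    rfl
  rw [hid] at n₁ n₂ n₃
  have hadd : hstar k D.α₂ 1 = hstar k (D.α₂ - D.α₁) 1 + hstar k D.α₁ 1 := by
    rw [← hstar_add, sub_add_cancel]
  have hδ0 : hdelta k D.BB hB 0 1 rfl y = 0 := by
    have h := (LinearMap.congr_fun hadd (hdelta k D.TT hT 0 1 rfl y)).trans
      (LinearMap.add_apply _ _ _)
    rw [← n₂, ← n₃, ← n₁, ← hcls] at h
    have h3 : ∀ (a b : Coh.HH X (Coh.structureModule X) 1), b = a + b → a = 0 := by
      intro a b hab
      exact add_right_cancel (hab.symm.trans (zero_add b).symm)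
    exact h3 _ _ h
  have hmem : y ∈ LinearMap.range (hstar k D.BB.g 0) := by
    rw [range_g_eq_ker_δ k D.BB hB 0 1 rfl]
    exact hδ0
  obtain ⟨w₀, hw₀⟩ := hmem
  have hs : homOfH0 D.Gb w₀ ≫ D.qb = 𝟙 (Coh.structureModule X) := by
    refine (homOfH0_comp k D.qb w₀).trans ?_
    have e : hstar k D.qb 0 w₀ = y := hw₀
    exact (congrArg (homOfH0 D.A) e).trans hy
  have sp := ShortComplex.Splitting.ofExactOfSection D.BB hB.exact (homOfH0 D.Gb w₀) hs hB.mono_f
  obtain ⟨φ, h₁, h₂⟩ := D.exists_map sp.r sp.f_r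
  exact ⟨φ, h₁, h₂, D.mono_of_map φ h₁ h₂⟩

/-- rescaling the inclusion of an extension rescales its class. -/
theorem rescale (E' : X.Modules) (i' : Coh.structureModule X ⟶ E')
    (p' : E' ⟶ Coh.structureModule X) (w' : i' ≫ p' = 0)
    (hS' : (ShortComplex.mk i' p' w').ShortExact) (μ : k) (hμ : μ ≠ 0) :
    ∃ (w'' : (μ • i') ≫ p' = 0) (hS'' : (ShortComplex.mk (μ • i') p' w'').ShortExact),
      ∀ y, μ • hdelta k (ShortComplex.mk (μ • i') p' w'') hS'' 0 1 rfl y =
        hdelta k (ShortComplex.mk i' p' w') hS' 0 1 rfl y := by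
  have w'' : (μ • i') ≫ p' = 0 := by rw [Linear.smul_comp, w', smul_zero]
  let e' : ShortComplex.mk (μ • i') p' w'' ≅ ShortComplex.mk i' p' w' :=
    ShortComplex.isoMk (smulIso k (Coh.structureModule X) μ hμ) (Iso.refl _) (Iso.refl _)
      (by
        show (μ • 𝟙 (Coh.structureModule X)) ≫ i' = (μ • i') ≫ 𝟙 E'
        rw [Linear.smul_comp, Category.id_comp, Category.comp_id])
      (by
        show 𝟙 E' ≫ p' = p' ≫ 𝟙 (Coh.structureModule X)
        rw [Category.id_comp, Category.comp_id])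
  have hS'' := ShortComplex.shortExact_of_iso e'.symm hS'
  refine ⟨w'', hS'', fun y => ?_⟩
  have n : hdelta k (ShortComplex.mk i' p' w') hS' 0 1 rfl
      (hstar k (𝟙 (Coh.structureModule X)) 0 y) =
      hstar k (μ • 𝟙 (Coh.structureModule X)) 1
        (hdelta k (ShortComplex.mk (μ • i') p' w'') hS'' 0 1 rfl y) :=
    hdelta_naturality k _ _ hS'' hS' e'.hom 0 1 rfl y
  rw [hstar_smul_id] at n
  have hid : hstar k (𝟙 (Coh.structureModule X)) 0 y = y := by
    rw [hstar_id]
    rfl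
  rw [hid] at n
  exact n.symm

end Groth.Agent.Helper20.SelfExt
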