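import Mathlib
import Groth.Agent.Lib.Helper20.SelfExt2
import Groth.Agent.Lib.Helper20.Crux4

/-!
# Genus one: the normalized indecomposable bundle of rank two and degree zero is unique
-/

set_option autoImplicit false
set_option maxHeartbeats 1600000
set_option linter.style.haveILetI false
set_option linter.unusedSectionVars false
set_option linter.unusedVariables false
universe u
open CategoryTheory CategoryTheory.Limits AlgebraicGeometry Opposite TopologicalSpace
open Groth.Agent.Helper20.RankFn Groth.Agent.Helper13 Groth.Agent.Helper13.TwistSES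
open Groth.Agent.Helper13.QCoh Groth.Agent.Helper13.FinType Groth.Agent.Helper13.LocFree
open Groth.Agent.Helper20.VBMap Groth.Agent.Helper20.Untwist Groth.Agent.Helper20.StablePair
open Groth.Agent.Helper13.PnFin Groth.Agent.Helper24.LinLES Groth.Agent.Helper20.Crux

namespace Groth.Agent.Helper20.SelfExt

variable (k : Type u) [Field k] {X : Scheme.{u}} [X.Over (Spec (CommRingCat.of k))] [IsIntegral X]
  [IsProper (X ↘ Spec (CommRingCat.of k))] [Smooth (X ↘ Spec (CommRingCat.of k))]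

/-- a non-split extension of line bundles of the same degree on a curve of genus one has
isomorphic ends. -/
theorem iso_of_nonsplit [IsAlgClosed k] (hdim : topologicalKrullDim X = 1)
    (hg : Curv2.genus k X = 1) (E : X.Modules)
    (J' : X.Modules) (hJ' : PicF.IsInvertible J') (j' : J' ⟶ E) [Mono j']
    (hq' : PicF.IsInvertible (cokernel j'))
    (hdeq : Curv2.deg k X (cokernel j') 1 = Curv2.deg k X J' 1)
    (hns : ¬ Nonempty (E ≅ J' ⊞ cokernel j')) : ∃ f : cokernel j' ⟶ J', IsIso f := by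
  have hN : IsLocallyNoetherian X := isLocallyNoetherian_of_proper k
  haveI : IsNoetherianRing k := inferInstance
  have hO1 : FlatMod.IsFinLocFreeOfRank 1 (Coh.structureModule X) :=
    Groth.Agent.Helper26.IntLF.isFinLocFreeOfRank_one_of_isInvertible _
      (Groth.Agent.Helper13.Inv.isInvertible_structureModule (X := X))
  have hJ1 := Groth.Agent.Helper26.IntLF.isFinLocFreeOfRank_one_of_isInvertible J' hJ'
  have hQ1 := Groth.Agent.Helper26.IntLF.isFinLocFreeOfRank_one_of_isInvertible (cokernel j') hq'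
  obtain ⟨N, hNinv, ⟨eQN⟩, ⟨eNQ⟩⟩ :=
    Groth.Agent.Helper13.InvDual.exists_inverse (cokernel j') hq'
  have hdN : Curv2.deg k X N 1 = - Curv2.deg k X (cokernel j') 1 :=
    Groth.Agent.Helper26.HiggsSS.deg_inverse k hdim (cokernel j') N hq' hNinv eQN
  obtain ⟨hJNinv, hdJN⟩ := Groth.Agent.Helper20.IndecSub.tensor_invertible k hdim J' N hJ' hNinv
  have hdJN0 : Curv2.deg k X (CohB1.tensorMod J' N) 1 = 0 := by
    rw [hdJN, hdN, hdeq]
    ring
  have hnt : ¬ Subsingleton (Coh.HH X (CohB1.tensorMod J' N) 1) := by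
    intro hsub
    exact hns (Groth.Agent.Helper20.SplitH1.nonempty_iso_biprod k hdim E J' j' hq' N hNinv
      eQN eNQ hsub)
  rw [not_subsingleton_iff_nontrivial] at hnt
  have hJNc := Groth.Agent.Helper13.CurveDeg.isCoh_of_isInvertible _ hJNinv
  haveI := hJNc.1
  haveI : Module.Finite k (Coh.HH X (CohB1.tensorMod J' N) 1) :=
    Groth.Agent.Helper13.FinProj.finite_HH_of_isProper k X _ hJNc 1
  have hO := Groth.Agent.Helper26.CurveDeg.euler_structure k X hdim.le
  have h0 := Groth.Agent.Helper3.CurveHopf.finrank_h0_of_isAlgClosed k X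
  rw [h0, hg] at hO
  have he := Groth.Agent.Helper20.SimpleSub.euler_eq k hdim (CohB1.tensorMod J' N)
  have hdef : Curv2.deg k X (CohB1.tensorMod J' N) 1 =
      Curv2.euler k X (CohB1.tensorMod J' N) - Curv2.euler k X (Coh.structureModule X) := by
    unfold Curv2.deg
    simp
  have hpos1 : 0 < Module.finrank k (Coh.HH X (CohB1.tensorMod J' N) 1) := Module.finrank_pos
  have hpos0 : 0 < Module.finrank k (Coh.HH X (CohB1.tensorMod J' N) 0) := by
    push_cast at hO he
    omega
  haveI : Nontrivial (Coh.HH X (CohB1.tensorMod J' N) 0) :=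
    Module.nontrivial_of_finrank_pos (R := k) hpos0
  obtain ⟨z, hz⟩ := exists_ne (0 : Coh.HH X (CohB1.tensorMod J' N) 0)
  have hs := homOfH0_ne_zero (CohB1.tensorMod J' N) z hz
  have hJN1 := Groth.Agent.Helper26.IntLF.isFinLocFreeOfRank_one_of_isInvertible _ hJNinv
  haveI : Mono (homOfH0 (CohB1.tensorMod J' N) z) :=
    Groth.Agent.Helper20.VeryStable.mono_of_ne_zero_of_rank_one k hdim hO1
      (VBIndec.isFinLocFree_of_rank 1 _ hJN1) _ hs
  haveI : Mono (Tensor.map (homOfH0 (CohB1.tensorMod J' N) z) (𝟙 (cokernel j'))) :=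
    mono_map_id _ (cokernel j') hq'
  haveI hfm : Mono ((Tensor.lid (cokernel j')).inv ≫
      Tensor.map (homOfH0 (CohB1.tensorMod J' N) z) (𝟙 (cokernel j')) ≫
        (rho J' N (cokernel j') eNQ).hom) := inferInstance
  have hf : (Tensor.lid (cokernel j')).inv ≫
      Tensor.map (homOfH0 (CohB1.tensorMod J' N) z) (𝟙 (cokernel j')) ≫
        (rho J' N (cokernel j') eNQ).hom ≠ 0 := by
    intro hf0
    exact VBIndec.not_isZero_of_isFinLocFreeOfRank 1 (by norm_num) (cokernel j') hQ1
      (IsZero.of_mono_eq_zero _ hf0)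
  exact ⟨_, isIso_of_ne_zero_of_deg_eq k hdim hQ1 hJ1 hdeq _ hf⟩

/-- a normalized indecomposable bundle of rank two and degree zero on a curve of genus one is a
non-split extension of `O` by `O`. -/
theorem selfext_of_normalized [IsAlgClosed k] (hdim : topologicalKrullDim X = 1)
    (hg : Curv2.genus k X = 1)
    (E : X.Modules) (hE : FlatMod.IsFinLocFreeOfRank 2 E)
    (hn0 : Nontrivial (Coh.HH X E 0))
    (hneg : ∀ M : X.Modules, PicF.IsInvertible M → Curv2.deg k X M 1 < 0 →
      Subsingleton (Coh.HH X (CohB1.tensorMod E M) 0))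
    (hind : ∀ L₁ L₂ : X.Modules, PicF.IsInvertible L₁ → PicF.IsInvertible L₂ →
      IsEmpty (E ≅ L₁ ⊞ L₂))
    (hdeg : Curv2.deg k X E 2 = 0) :
    ∃ (i : Coh.structureModule X ⟶ E) (p : E ⟶ Coh.structureModule X) (w : i ≫ p = 0),
      (ShortComplex.mk i p w).ShortExact ∧
        ∀ σ : Coh.structureModule X ⟶ E, σ ≫ p ≠ 𝟙 (Coh.structureModule X) := by
  have hN : IsLocallyNoetherian X := isLocallyNoetherian_of_proper k
  haveI : IsNoetherianRing k := inferInstance
  have hOinv := Groth.Agent.Helper13.Inv.isInvertible_structureModule (X := X)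
  have hO1 : FlatMod.IsFinLocFreeOfRank 1 (Coh.structureModule X) :=
    Groth.Agent.Helper26.IntLF.isFinLocFreeOfRank_one_of_isInvertible _ hOinv
  obtain ⟨z, hz⟩ := exists_ne (0 : Coh.HH X E 0)
  have hs := homOfH0_ne_zero E z hz
  haveI : Mono (homOfH0 E z) :=
    Groth.Agent.Helper20.VeryStable.mono_of_ne_zero_of_rank_one k hdim hO1
      (VBIndec.isFinLocFree_of_rank 2 _ hE) _ hs
  obtain ⟨J, a, j, rQ, hjm, haj, hJ1, hQr, hr, hdE, hle, hiso, -⟩ :=
    sat_pkg k hdim 1 2 hO1 hE (homOfH0 E z)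
  have hrQ : rQ = 1 := by omega
  subst hrQ
  haveI : Mono j := hjm
  have hJinv : PicF.IsInvertible J := Groth.Agent.Helper26.NefExt.isInvertible_of_rank_one _ hJ1
  have hq : PicF.IsInvertible (cokernel j) :=
    Groth.Agent.Helper26.NefExt.isInvertible_of_rank_one _ hQr
  have hdO : Curv2.deg k X (Coh.structureModule X) 1 = 0 := by
    unfold Curv2.deg
    simp
  have hJle := Groth.Agent.Helper20.NormIndec.deg_sub_le_zero k hdim E hneg J hJinv j
  have hdJ : Curv2.deg k X J 1 = 0 := by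
    rw [hdO] at hle
    omega
  haveI : IsIso a := hiso (by rw [hdJ, hdO])
  have hdQ : Curv2.deg k X (cokernel j) 1 = 0 := by omega
  have hns : ¬ Nonempty (E ≅ J ⊞ cokernel j) := fun ⟨φ⟩ => (hind J (cokernel j) hJinv hq).false φ
  obtain ⟨f, hf⟩ := iso_of_nonsplit k hdim hg E J hJinv j hq (by rw [hdQ, hdJ]) hns
  haveI := hf
  have w : homOfH0 E z ≫ cokernel.π j ≫ f ≫ inv a = 0 := by
    rw [← haj, Category.assoc, cokernel.condition_assoc, zero_comp, comp_zero]
  let S₀ : ShortComplex X.Modules := ShortComplex.mk j (cokernel.π j) (cokernel.condition j)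
  have hS₀ : S₀.ShortExact :=
    ShortComplex.ShortExact.mk' (ShortComplex.exact_cokernel j)
      (inferInstanceAs (Mono j)) (inferInstanceAs (Epi (cokernel.π j)))
  let e : S₀ ≅ ShortComplex.mk (homOfH0 E z) (cokernel.π j ≫ f ≫ inv a) w :=
    ShortComplex.isoMk (asIso a).symm (Iso.refl E) (asIso f ≪≫ (asIso a).symm)
      (by
        show inv a ≫ homOfH0 E z = j ≫ 𝟙 E
        rw [← haj, IsIso.inv_hom_id_assoc, Category.comp_id])
      (by
        show 𝟙 E ≫ cokernel.π j ≫ f ≫ inv a = cokernel.π j ≫ f ≫ inv a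
        rw [Category.id_comp])
  have hS := ShortComplex.shortExact_of_iso e hS₀
  refine ⟨homOfH0 E z, cokernel.π j ≫ f ≫ inv a, w, hS, ?_⟩
  intro σ hσ
  have sp : (ShortComplex.mk (homOfH0 E z) (cokernel.π j ≫ f ≫ inv a) w).Splitting :=
    ShortComplex.Splitting.ofExactOfSection _ hS.exact σ hσ hS.mono_f
  exact (hind _ _ hOinv hOinv).false sp.isoBinaryBiproduct

/-- uniqueness of the normalized indecomposable bundle of rank two and degree zero. -/
theorem main12431 [IsAlgClosed k] (hdim : topologicalKrullDim X = 1) (hg : Curv2.genus k X = 1)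
    (E : X.Modules) (hE : FlatMod.IsFinLocFreeOfRank 2 E)
    (hE0 : Nontrivial (Coh.HH X E 0))
    (hEneg : ∀ M : X.Modules, PicF.IsInvertible M → Curv2.deg k X M 1 < 0 →
      Subsingleton (Coh.HH X (CohB1.tensorMod E M) 0))
    (hEind : ∀ L₁ L₂ : X.Modules, PicF.IsInvertible L₁ → PicF.IsInvertible L₂ →
      IsEmpty (E ≅ L₁ ⊞ L₂))
    (hEdeg : Curv2.deg k X E 2 = 0)
    (E' : X.Modules) (hE' : FlatMod.IsFinLocFreeOfRank 2 E')
    (hE'0 : Nontrivial (Coh.HH X E' 0))
    (hE'neg : ∀ M : X.Modules, PicF.IsInvertible M → Curv2.deg k X M 1 < 0 →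
      Subsingleton (Coh.HH X (CohB1.tensorMod E' M) 0))
    (hE'ind : ∀ L₁ L₂ : X.Modules, PicF.IsInvertible L₁ → PicF.IsInvertible L₂ →
      IsEmpty (E' ≅ L₁ ⊞ L₂))
    (hE'deg : Curv2.deg k X E' 2 = 0) :
    Nonempty (E ≅ E') := by
  obtain ⟨i, p, w, hS, hns⟩ := selfext_of_normalized k hdim hg E hE hE0 hEneg hEind hEdeg
  obtain ⟨i', p', w', hS', hns'⟩ :=
    selfext_of_normalized k hdim hg E' hE' hE'0 hE'neg hE'ind hE'deg
  obtain ⟨y, hy⟩ := homOfH0_surjective k (Coh.structureModule X) (𝟙 (Coh.structureModule X))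
  have hne : ∀ (F : X.Modules) (i₀ : Coh.structureModule X ⟶ F) (p₀ : F ⟶ Coh.structureModule X)
      (w₀ : i₀ ≫ p₀ = 0) (hS₀ : (ShortComplex.mk i₀ p₀ w₀).ShortExact),
      (∀ σ : Coh.structureModule X ⟶ F, σ ≫ p₀ ≠ 𝟙 (Coh.structureModule X)) →
      hdelta k (ShortComplex.mk i₀ p₀ w₀) hS₀ 0 1 rfl y ≠ 0 := by
    intro F i₀ p₀ w₀ hS₀ hns₀ h0
    have hmem : y ∈ LinearMap.range (hstar k (ShortComplex.mk i₀ p₀ w₀).g 0) := by
      rw [range_g_eq_ker_δ k _ hS₀ 0 1 rfl]
      exact h0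
    obtain ⟨w₁, hw₁⟩ := hmem
    apply hns₀ (homOfH0 F w₁)
    refine (homOfH0_comp k p₀ w₁).trans ?_
    have e : hstar k p₀ 0 w₁ = y := hw₁
    exact (congrArg (homOfH0 (Coh.structureModule X)) e).trans hy
  have hξ := hne E i p w hS hns
  have hξ' := hne E' i' p' w' hS' hns'
  have hfr : Module.finrank k (Coh.HH X (Coh.structureModule X) 1) = 1 := hg
  have h1dim : ∀ (a b : Coh.HH X (Coh.structureModule X) 1), a ≠ 0 → ∃ c : k, c • a = b := by
    intro a b ha
    exact (finrank_eq_one_iff_of_nonzero' a ha).1 hfr b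
  have hsm : ∀ (c : k) (a b : Coh.HH X (Coh.structureModule X) 1), c • a = b → b ≠ 0 →
      c ≠ 0 := by
    intro c a b h hb hc
    apply hb
    rw [← h, hc, zero_smul]
  have hcancel : ∀ (c : k) (a b d : Coh.HH X (Coh.structureModule X) 1), c ≠ 0 → c • a = b →
      c • d = b → d = a := by
    intro c a b d hc h1 h2
    exact smul_right_injective _ hc (h2.trans h1.symm)
  obtain ⟨c, hc⟩ := h1dim _ (hdelta k (ShortComplex.mk i' p' w') hS' 0 1 rfl y) hξ
  have hc0 := hsm c _ _ hc hξ'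
  obtain ⟨w'', hS'', hres⟩ := rescale k E' i' p' w' hS' c hc0
  have hcls : hdelta k (ShortComplex.mk i p w) hS 0 1 rfl y =
      hdelta k (ShortComplex.mk (c • i') p' w'') hS'' 0 1 rfl y :=
    (hcancel c _ _ _ hc0 hc (hres y)).symm
  obtain ⟨φ, -, -, hφ⟩ :=
    exists_map_of_same_class k E E' i p (c • i') p' w w'' hS hS'' y hy hcls
  haveI := hφ
  have heul : Curv2.euler k X E = Curv2.euler k X E' := by
    unfold Curv2.deg at hEdeg hE'deg
    push_cast at hEdeg hE'deg
    linarith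
  haveI := isIso_of_mono_of_rank_euler k hdim 2 hE hE' φ heul
  exact ⟨asIso φ⟩

end Groth.Agent.Helper20.SelfExt
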