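import Mathlib

set_option autoImplicit false
universe u

namespace Groth.Agent.Helper20.SpecComp

variable {C : Type u} [CommRing C]

/-- complete orthogonal family of nonzero idempotents -/
def IsCOF {m : ℕ} (e : Fin m → C) : Prop :=
  (∀ i, e i * e i = e i) ∧ (∀ i j, i ≠ j → e i * e j = 0) ∧ ∑ i, e i = 1 ∧ ∀ i, e i ≠ 0

theorem exists_cof : ∃ (m : ℕ) (e : Fin m → C), IsCOF e := by
  by_cases h : Subsingleton C
  · exact ⟨0, Fin.elim0, fun i => i.elim0, fun i => i.elim0, Subsingleton.elim _ _,
      fun i => i.elim0⟩
  · rw [not_subsingleton_iff_nontrivial] at h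
    refine ⟨1, fun _ => 1, fun _ => one_mul 1, fun i j hij => ?_, by simp, fun _ => one_ne_zero⟩
    exact absurd (Subsingleton.elim i j) hij

/-- splitting one member of a family -/
theorem split_cof {m : ℕ} (e : Fin m → C) (he : IsCOF e) (i : Fin m) (f : C) (hf : f * f = f)
    (hfe : f * e i = f) (hf0 : f ≠ 0) (hfi : f ≠ e i) :
    ∃ g : Fin (m + 1) → C, IsCOF g := by
  classical
  obtain ⟨hid, horth, hsum, hnz⟩ := he
  let tl : Fin m → C := fun j => e j - if j = i then f else 0
  have htl_i : tl i = e i - f := by simp [tl]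
  have htl_ne : ∀ j, j ≠ i → tl j = e j := fun j hj => by simp [tl, hj]
  have hfej : ∀ j, j ≠ i → f * e j = 0 := by
    intro j hj
    rw [← hfe, mul_assoc, horth i j (Ne.symm hj), mul_zero]
  have hf_tl : ∀ j, f * tl j = 0 := by
    intro j
    by_cases hj : j = i
    · subst hj
      rw [htl_i, mul_sub, hfe, hf, sub_self]
    · rw [htl_ne j hj, hfej j hj]
  refine ⟨Fin.cons f tl, ?_, ?_, ?_, ?_⟩
  · intro j
    refine Fin.cases ?_ (fun j => ?_) j
    · simpa using hf
    · simp only [Fin.cons_succ]
      by_cases hj : j = i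
      · subst hj
        rw [htl_i]
        have : (e j - f) * (e j - f) = e j * e j - f * e j - f * e j + f * f := by ring
        rw [this, hid, hfe, hf]
        ring
      · rw [htl_ne j hj, hid]
  · intro j j'
    refine Fin.cases ?_ (fun j => ?_) j
    · refine Fin.cases ?_ (fun j' => ?_) j'
      · intro h; exact absurd rfl h
      · intro _
        simp only [Fin.cons_zero, Fin.cons_succ]
        exact hf_tl j'
    · refine Fin.cases ?_ (fun j' => ?_) j'
      · intro _
        simp only [Fin.cons_zero, Fin.cons_succ]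
        rw [mul_comm]; exact hf_tl j
      · intro h
        have hne : j ≠ j' := fun h' => h (by rw [h'])
        simp only [Fin.cons_succ]
        by_cases hj : j = i
        · subst hj
          rw [htl_i, htl_ne j' (Ne.symm hne), sub_mul, horth j j' hne, hfej j' (Ne.symm hne),
            sub_zero]
        · by_cases hj' : j' = i
          · subst hj'
            rw [htl_i, htl_ne j hj, mul_sub, horth j j' hne, mul_comm, hfej j hj, sub_zero]
          · rw [htl_ne j hj, htl_ne j' hj', horth j j' hne]
  · rw [Fin.sum_univ_succ]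
    simp only [Fin.cons_zero, Fin.cons_succ, tl]
    rw [Finset.sum_sub_distrib, hsum, Finset.sum_ite_eq' Finset.univ i (fun _ => f),
      if_pos (Finset.mem_univ i)]
    ring
  · intro j
    refine Fin.cases ?_ (fun j => ?_) j
    · simpa using hf0
    · simp only [Fin.cons_succ]
      by_cases hj : j = i
      · subst hj
        rw [htl_i]
        intro h
        exact hfi (sub_eq_zero.mp h).symm
      · rw [htl_ne j hj]
        exact hnz j


open PrimeSpectrum

/-- a primitive idempotent has a preconnected basic open set -/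
theorem isPreconnected_basicOpen (e : C) (he : e * e = e)
    (hprim : ∀ f : C, f * f = f → f * e = f → f = 0 ∨ f = e) :
    IsPreconnected ((basicOpen e : TopologicalSpace.Opens (PrimeSpectrum C)) :
      Set (PrimeSpectrum C)) := by
  set s : Set (PrimeSpectrum C) :=
    ((basicOpen e : TopologicalSpace.Opens (PrimeSpectrum C)) : Set (PrimeSpectrum C)) with hs
  have hsclopen : IsClopen s := PrimeSpectrum.isClopen_iff.mpr ⟨e, he, rfl⟩
  intro u v hu hv hsub hsu hsv
  by_contra hempty
  rw [Set.not_nonempty_iff_eq_empty] at hempty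
  -- `W = s ∩ u` is clopen
  have hWeq : s ∩ u = s ∩ vᶜ := by
    ext x
    constructor
    · rintro ⟨hxs, hxu⟩
      refine ⟨hxs, fun hxv => ?_⟩
      have : x ∈ s ∩ (u ∩ v) := ⟨hxs, hxu, hxv⟩
      rw [hempty] at this
      exact this
    · rintro ⟨hxs, hxv⟩
      refine ⟨hxs, ?_⟩
      rcases hsub hxs with h | h
      · exact h
      · exact absurd h hxv
  have hWclopen : IsClopen (s ∩ u) :=
    ⟨by rw [hWeq]; exact hsclopen.1.inter hv.isClosed_compl, hsclopen.2.inter hu⟩
  obtain ⟨f, hf, hfW⟩ := PrimeSpectrum.isClopen_iff.mp hWclopen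
  have hfe : f * e = f := by
    have hidem : IsIdempotentElem (f * e) := IsIdempotentElem.mul hf he
    apply PrimeSpectrum.basicOpen_injOn_isIdempotentElem hidem hf
    rw [PrimeSpectrum.basicOpen_mul]
    apply TopologicalSpace.Opens.ext
    show ((basicOpen f : TopologicalSpace.Opens (PrimeSpectrum C)) : Set (PrimeSpectrum C)) ∩ s = _
    rw [← hfW]
    ext x
    simp only [Set.mem_inter_iff]
    tauto
  rcases hprim f hf hfe with h0 | h1
  · rw [h0, PrimeSpectrum.basicOpen_zero] at hfW
    obtain ⟨x, hx⟩ := hsu
    rw [hfW] at hx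
    exact hx
  · rw [h1] at hfW
    obtain ⟨x, hxs, hxv⟩ := hsv
    have hxu : x ∈ s ∩ u := by rw [hfW]; exact hxs
    have : x ∈ s ∩ (u ∩ v) := ⟨hxs, hxu.2, hxv⟩
    rw [hempty] at this
    exact this

/-- a bound on the size of complete orthogonal families of nonzero idempotents bounds the number of
connected components of the spectrum -/
theorem card_connectedComponents_le (N : ℕ)
    (hN : ∀ (m : ℕ) (e : Fin m → C), IsCOF e → m ≤ N) :
    Finite (ConnectedComponents (PrimeSpectrum C)) ∧
      Nat.card (ConnectedComponents (PrimeSpectrum C)) ≤ N := by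
  classical
  let P : ℕ → Prop := fun m => ∃ e : Fin m → C, IsCOF e
  obtain ⟨m₁, e₁, he₁⟩ := exists_cof (C := C)
  have hm₁ : m₁ ≤ N := hN m₁ e₁ he₁
  have hP : P (Nat.findGreatest P N) := Nat.findGreatest_spec hm₁ ⟨e₁, he₁⟩
  set m := Nat.findGreatest P N with hm
  obtain ⟨e, he⟩ := hP
  have hmax : ¬ P (m + 1) := by
    intro hP1
    obtain ⟨g, hg⟩ := hP1
    exact Nat.findGreatest_is_greatest (Nat.lt_succ_self m) (hN (m + 1) g hg) ⟨g, hg⟩
  have hprim : ∀ i f, f * f = f → f * e i = f → f = 0 ∨ f = e i := by
    intro i f hf hfe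
    by_contra hcon
    push Not at hcon
    exact hmax (split_cof e he i f hf hfe hcon.1 hcon.2)
  obtain ⟨hid, horth, hsum, hnz⟩ := he
  let U : Fin m → Set (PrimeSpectrum C) := fun i =>
    ((basicOpen (e i) : TopologicalSpace.Opens (PrimeSpectrum C)) : Set (PrimeSpectrum C))
  have hUclopen : ∀ i, IsClopen (U i) := fun i =>
    PrimeSpectrum.isClopen_iff.mpr ⟨e i, hid i, rfl⟩
  have hUpre : ∀ i, IsPreconnected (U i) := fun i =>
    isPreconnected_basicOpen (e i) (hid i) (hprim i)
  have hcover : ∀ x : PrimeSpectrum C, ∃ i, x ∈ U i := by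
    intro x
    by_contra hall
    push Not at hall
    have h1 : (∑ i, e i) ∈ x.asIdeal := by
      refine Ideal.sum_mem _ (fun i _ => ?_)
      have := hall i
      simpa [U, PrimeSpectrum.mem_basicOpen] using this
    rw [hsum] at h1
    exact x.isPrime.ne_top ((Ideal.eq_top_iff_one _).mpr h1)
  have hdisj : ∀ (x : PrimeSpectrum C) i j, x ∈ U i → x ∈ U j → i = j := by
    intro x i j hi hj
    by_contra hij
    have h0 : e i * e j ∈ x.asIdeal := by rw [horth i j hij]; exact zero_mem _
    rcases x.isPrime.mem_or_mem h0 with h | h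
    · exact hi h
    · exact hj h
  choose idx hidx using hcover
  have hcomp : ∀ x, connectedComponent x = U (idx x) := by
    intro x
    apply Set.Subset.antisymm
    · exact (hUclopen (idx x)).connectedComponent_subset (hidx x)
    · exact (hUpre (idx x)).subset_connectedComponent (hidx x)
  let g : ConnectedComponents (PrimeSpectrum C) → Fin m :=
    Quotient.lift idx (by
      intro x y hxy
      have hxy' : connectedComponent x = connectedComponent y := hxy
      have hy : y ∈ U (idx x) := by
        rw [← hcomp x, hxy']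
        exact mem_connectedComponent
      exact (hdisj y _ _ hy (hidx y)))
  have hginj : Function.Injective g := by
    intro a b hab
    induction a using Quotient.inductionOn with
    | h x =>
    induction b using Quotient.inductionOn with
    | h y =>
    have h1 : idx x = idx y := hab
    apply Quotient.sound
    show connectedComponent x = connectedComponent y
    rw [hcomp x, hcomp y, h1]
  haveI : Finite (ConnectedComponents (PrimeSpectrum C)) := Finite.of_injective g hginj
  refine ⟨inferInstance, ?_⟩
  have h2 := Nat.card_le_card_of_injective g hginj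
  rw [Nat.card_fin] at h2
  exact h2.trans (Nat.findGreatest_le N)

end Groth.Agent.Helper20.SpecComp
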