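import Groth.Agent.Lib.Helper20.Emb

set_option autoImplicit false
universe u v w
open scoped TensorProduct
open Curves

namespace Groth.Agent.Helper20.CycAlg
open Groth.Agent.Helper20.TPow

theorem splits_iff_embedding (k : Type u) [Field k] (A : CSA.{u, u} k)
    (k' : Type u) [Field k'] [Algebra k k'] [FiniteDimensional k k'] :
    Curves.Splits k A k' ↔ ∃ (B : CSA.{u, u} k) (_ : k' →ₐ[k] B), IsBrauerEquivalent A B ∧
      Module.finrank k B = Module.finrank k k' ^ 2 := by
  classical
  constructor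
  · rintro ⟨n, hn, ⟨φ⟩⟩
    obtain ⟨D, _, _, _, _, a, r, ha, hr, ⟨ι⟩, hdim, ⟨eA⟩⟩ := exists_embedding_brEq hn φ
    haveI : Nonempty (Fin a) := ⟨⟨0, ha⟩⟩
    haveI : IsSimpleRing (Matrix (Fin a) (Fin a) D) := IsSimpleRing.matrix (Fin a) D
    haveI : Algebra.IsCentral k (Matrix (Fin a) (Fin a) D) := by
      constructor
      intro x hx
      rw [Subalgebra.mem_center_iff] at hx
      obtain ⟨d, hd⟩ := Matrix.mem_range_scalar_of_commute_single (M := x)
        (fun i j _ => (hx (Matrix.single i j 1)))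
      have hdc : d ∈ Subalgebra.center k D := by
        rw [Subalgebra.mem_center_iff]
        intro y
        have h1 := hx (Matrix.scalar (Fin a) y)
        rw [← hd] at h1
        have h2 := congrFun (congrFun h1 ⟨0, ha⟩) ⟨0, ha⟩
        simpa [Matrix.mul_apply, Matrix.scalar_apply, Matrix.diagonal_apply] using h2
      obtain ⟨c, hc⟩ := Algebra.mem_bot.mp (Algebra.IsCentral.out hdc)
      rw [Algebra.mem_bot]
      refine ⟨c, ?_⟩
      rw [← hd, ← hc]
      ext i j
      simp [Matrix.algebraMap_matrix_apply, Matrix.diagonal_apply]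
    let B : CSA.{u, u} k := { AlgCat.of k (Matrix (Fin a) (Fin a) D) with }
    refine ⟨B, ι, ⟨a, r, ha.ne', hr.ne', ⟨?_⟩⟩, hdim⟩
    exact (eA.mapMatrix (m := Fin a)).trans <|
      (Matrix.compAlgEquiv (Fin a) (Fin r) D k).trans <|
      (Matrix.reindexAlgEquiv k D (Equiv.prodComm (Fin a) (Fin r))).trans
      (Matrix.compAlgEquiv (Fin r) (Fin a) D k).symm
  · rintro ⟨B, ι, hBr, hdim⟩
    exact splits_of_brEq_field (X := A) (Y := B) hBr (splits_of_embedding ι hdim)

end Groth.Agent.Helper20.CycAlg
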