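import Mathlib
import Groth.Agent.Lib.Helper20.StablePair1

/-!
# A stable pair of rank two with twist of degree zero, not of order two, has stable bundle
-/

set_option autoImplicit false
set_option maxHeartbeats 1600000
set_option linter.style.haveILetI false
set_option linter.unusedSectionVars false
set_option linter.unusedVariables false
universe u
open CategoryTheory CategoryTheory.Limits AlgebraicGeometry Opposite TopologicalSpace
open Groth.Agent.Helper20.RankFn Groth.Agent.Helper13 Groth.Agent.Helper13.TwistSES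
open Groth.Agent.Helper13.QCoh Groth.Agent.Helper13.FinType Groth.Agent.Helper13.LocFree
open Groth.Agent.Helper20.VBMap

namespace Groth.Agent.Helper20.StablePair

variable (k : Type u) [Field k] {X : Scheme.{u}} [X.Over (Spec (CommRingCat.of k))] [IsIntegral X]
  [IsProper (X ↘ Spec (CommRingCat.of k))] [Smooth (X ↘ Spec (CommRingCat.of k))]

theorem stable_of_stablePair (hdim : topologicalKrullDim X = 1)
    (L : X.Modules) (hL : PicF.IsInvertible L) (hL0 : Curv2.deg k X L 1 = 0)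
    (hL2 : ¬ Nonempty (CohB1.tensorMod L L ≅ Coh.structureModule X))
    (E : X.Modules) (hE : FlatMod.IsFinLocFreeOfRank 2 E)
    (φ : E ⟶ CohB1.tensorMod E L)
    (hst : ∀ (G : X.Modules) (n : ℕ) (j : G ⟶ E) (χ : G ⟶ CohB1.tensorMod G L), Mono j → 0 < n →
      n < 2 → FlatMod.IsFinLocFreeOfRank n G → χ ≫ Tensor.map j (𝟙 L) = j ≫ φ →
      Curv2.deg k X G n * (2 : ℤ) < Curv2.deg k X E 2 * (n : ℤ)) :
    ∀ (G : X.Modules) (n : ℕ) (j : G ⟶ E), Mono j → 0 < n → n < 2 →
      FlatMod.IsFinLocFreeOfRank n G →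
      Curv2.deg k X G n * (2 : ℤ) < Curv2.deg k X E 2 * (n : ℤ) := by
  have hN : IsLocallyNoetherian X := isLocallyNoetherian_of_proper k
  have hEl := VBIndec.isFinLocFree_of_rank 2 E hE
  -- `E` is semistable
  have hss : ∀ (G : X.Modules) (n : ℕ) (j : G ⟶ E), Mono j → 0 < n →
      FlatMod.IsFinLocFreeOfRank n G →
      Curv2.deg k X G n * ((2 : ℕ) : ℤ) ≤ Curv2.deg k X E 2 * (n : ℤ) := by
    refine Groth.Agent.Helper26.HiggsSS.main16004 k hdim L hL hL0.le 2 (by norm_num) E hE φ ?_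
    intro G n j χ hj hn hG hχ
    haveI := hj
    have hle : n ≤ 2 := Groth.Agent.Helper26.CurveDeg.rank_le_of_mono G E n 2 hG hE j
    rcases Nat.lt_or_ge n 2 with h | h
    · have := hst G n j χ hj hn h hG hχ
      push_cast
      linarith
    · have hn2 : n = 2 := by omega
      subst hn2
      have := deg_le_of_mono_of_rank k hdim 2 hG hE j
      push_cast
      linarith
  intro M n ι hι hn hn2 hM
  have hn1 : n = 1 := by omega
  subst hn1
  haveI := hι
  by_contra hnot
  push Not at hnot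
  have h1 := hss M 1 ι hι one_pos hM
  have heq : Curv2.deg k X M 1 * 2 = Curv2.deg k X E 2 := by
    push_cast at h1 hnot
    linarith
  -- saturation
  obtain ⟨J, a, j', rQ, hjm, haj, hJr, hQr, hrT, hdT, hle, hiso, hQ0⟩ :=
    sat_pkg k hdim 1 2 hM hE ι
  have hrQ : rQ = 1 := by omega
  rw [hrQ] at hQr hdT
  have hJ := hss J 1 j' hjm one_pos hJr
  have hJeq : Curv2.deg k X J 1 = Curv2.deg k X M 1 := by
    push_cast at hJ
    linarith
  haveI := hiso hJeq
  let δ : cokernel ι ≅ cokernel j' := cokernelIsoOfEq haj.symm ≪≫ cokernelEpiComp a j'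
  have hQ : FlatMod.IsFinLocFreeOfRank 1 (cokernel ι) := isFinLocFreeOfRank_of_iso δ.symm hQr
  have hQc : Coh.IsCoh (cokernel ι) :=
    Groth.Agent.Helper9.ResVan.isCoh_of_isFinLocFree _ (VBIndec.isFinLocFree_of_rank 1 _ hQ)
  have hdQ : Curv2.deg k X (cokernel ι) 1 = Curv2.deg k X M 1 := by
    have h1 : Curv2.deg k X (cokernel j') 1 = Curv2.deg k X (cokernel ι) 1 :=
      deg_eq_of_iso k δ hQc 1
    linarith
  -- twists
  obtain ⟨hQL, hdQL⟩ := twist_pkg k hdim L hL hL0 (cokernel ι) hQ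
  obtain ⟨hML, hdML⟩ := twist_pkg k hdim L hL hL0 M hM
  let S : ShortComplex X.Modules := ShortComplex.mk ι (cokernel.π ι) (cokernel.condition ι)
  have hS : S.ShortExact :=
    ShortComplex.ShortExact.mk' (ShortComplex.exact_cokernel ι)
      (inferInstanceAs (Mono ι)) (inferInstanceAs (Epi (cokernel.π ι)))
  haveI := hS.mono_f
  obtain ⟨p, hp⟩ : ∃ p : E ⟶ CohB1.tensorMod (cokernel ι) L,
      p = φ ≫ Tensor.map (cokernel.π ι) (𝟙 L) := ⟨_, rfl⟩
  have hψ0 : ι ≫ p ≠ 0 := by
    intro h0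
    obtain ⟨χ, hχ⟩ := exists_lift_tensor S hS L hL (ι ≫ φ) (by
      rw [Category.assoc]
      change ι ≫ φ ≫ Tensor.map (cokernel.π ι) (𝟙 L) = 0
      rw [← hp]
      exact h0)
    have := hst M 1 ι χ hι one_pos (by norm_num) hM hχ
    push_cast at this
    linarith
  haveI hψiso : IsIso (ι ≫ p) :=
    isIso_of_ne_zero_of_deg_eq k hdim hM hQL (by rw [hdQL, hdQ]) _ hψ0
  haveI : Epi p := epi_of_epi ι p
  obtain ⟨rK, hKr, hrK, hdK, -, -⟩ := epi_pkg k hdim 2 1 hE hQL p
  have hrK1 : rK = 1 := by omega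
  rw [hrK1] at hKr hdK
  have hdK' : Curv2.deg k X (kernel p) 1 = Curv2.deg k X M 1 := by linarith
  -- the restriction of `φ` to `K` lands in `M ⊗ L`
  obtain ⟨θ, hθ⟩ := exists_lift_tensor S hS L hL (kernel.ι p ≫ φ) (by
    rw [Category.assoc]
    change kernel.ι p ≫ φ ≫ Tensor.map (cokernel.π ι) (𝟙 L) = 0
    rw [← hp, kernel.condition])
  have hθ0 : θ ≠ 0 := by
    intro h0
    have h2 : kernel.ι p ≫ φ = 0 := by rw [← hθ, h0, zero_comp]
    have := hst (kernel p) 1 (kernel.ι p) 0 inferInstance one_pos (by norm_num) hKr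
      (by rw [zero_comp, h2])
    push_cast at this
    linarith
  haveI hθiso : IsIso θ :=
    isIso_of_ne_zero_of_deg_eq k hdim hKr hML (by rw [hdML, hdK']) θ hθ0
  -- `K ⟶ E ⟶ E/M` is an isomorphism
  have hκπ : kernel.ι p ≫ cokernel.π ι ≠ 0 := by
    intro h0
    have hc : hS.exact.lift (kernel.ι p) h0 ≫ ι = kernel.ι p := hS.exact.lift_f _ _
    have hc0 : hS.exact.lift (kernel.ι p) h0 = 0 := by
      have h3 : hS.exact.lift (kernel.ι p) h0 ≫ (ι ≫ p) = 0 := by
        rw [← Category.assoc, hc, kernel.condition]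
      rw [← cancel_mono (ι ≫ p), h3, zero_comp]
    have hκ0 : kernel.ι p = 0 := by rw [← hc, hc0, zero_comp]
    apply VBIndec.not_isZero_of_isFinLocFreeOfRank 1 one_pos _ hKr
    rw [IsZero.iff_id_eq_zero, ← cancel_mono (kernel.ι p), hκ0, comp_zero, comp_zero]
  haveI hκπiso : IsIso (kernel.ι p ≫ cokernel.π ι) :=
    isIso_of_ne_zero_of_deg_eq k hdim hKr hQ (by rw [hdK', hdQ]) _ hκπ
  -- conclusion
  apply hL2
  have f : M ≅ CohB1.tensorMod M (CohB1.tensorMod L L) :=
    asIso (ι ≫ p) ≪≫ Tensor.mapIso (asIso (kernel.ι p ≫ cokernel.π ι)).symm (Iso.refl L) ≪≫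
      Tensor.mapIso (asIso θ) (Iso.refl L) ≪≫ Tensor.assoc M L L
  exact nonempty_iso_of_cancel M _
    (Groth.Agent.Helper26.NefExt.isInvertible_of_rank_one M hM) f

end Groth.Agent.Helper20.StablePair
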