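import Mathlib
import Groth.Prelude.Def_CAlg

/-!
# Dual lattices in `K^n` over a domain `O` with fraction field `K` (helper20)

For an `O`-submodule `L` of `K^n` the dual lattice is `D L = {y | ∀ x ∈ L, y ⬝ x ∈ O}`.  If `L`
contains `O^n` then `D L ≃ Hom_O(L, O)`.
-/

set_option autoImplicit false
set_option linter.unusedSectionVars false
universe u

namespace Groth.Agent.Helper20.TFDual

open Matrix

variable (O : Type u) [CommRing O] [IsDomain O] (K : Type u) [Field K] [Algebra O K]
  [IsFractionRing O K] (n : ℕ)

/-- the dual lattice -/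
def D (L : Submodule O (Fin n → K)) : Submodule O (Fin n → K) where
  carrier := {y | ∀ x ∈ L, y ⬝ᵥ x ∈ (1 : Submodule O K)}
  add_mem' := by
    intro a b ha hb x hx
    rw [add_dotProduct]
    exact Submodule.add_mem _ (ha x hx) (hb x hx)
  zero_mem' := by
    intro x _
    rw [zero_dotProduct]
    exact Submodule.zero_mem _
  smul_mem' := by
    intro c y hy x hx
    rw [smul_dotProduct]
    exact Submodule.smul_mem _ c (hy x hx)

variable {O K n}

theorem mem_D {L : Submodule O (Fin n → K)} {y : Fin n → K} :
    y ∈ D O K n L ↔ ∀ x ∈ L, y ⬝ᵥ x ∈ (1 : Submodule O K) := Iff.rfl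

/-- the standard lattice `O^n` -/
abbrev std (O : Type u) [CommRing O] (K : Type u) [Field K] [Algebra O K] (n : ℕ) :
    Submodule O (Fin n → K) :=
  Submodule.pi Set.univ (fun _ : Fin n => (1 : Submodule O K))

theorem single_mem_std (i : Fin n) (a : O) :
    (Pi.single i (algebraMap O K a) : Fin n → K) ∈ std O K n := by
  classical
  intro j _
  by_cases h : j = i
  · subst h
    rw [Pi.single_eq_same]
    exact Submodule.mem_one.mpr ⟨a, rfl⟩
  · rw [Pi.single_eq_of_ne h]
    exact Submodule.zero_mem _

theorem D_le_std {L : Submodule O (Fin n → K)} (hL : std O K n ≤ L) : D O K n L ≤ std O K n := by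
  classical
  intro y hy i _
  have h := hy (Pi.single i 1) (hL (by simpa using single_mem_std (O := O) (K := K) i 1))
  rwa [dotProduct_single, mul_one] at h

/-- `C^n ≤ D L` whenever `L ≤ B^n` where `C = (O : B)` -/
theorem pi_colon_le_D (B : Submodule O K) {L : Submodule O (Fin n → K)}
    (hL : L ≤ Submodule.pi Set.univ (fun _ : Fin n => B)) :
    Submodule.pi Set.univ (fun _ : Fin n => ((1 : Submodule O K).colon B) • (1 : Submodule O K))
      ≤ D O K n L := by
  intro y hy x hx
  refine Submodule.sum_mem _ fun i _ => ?_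
  have hyi := hy i (Set.mem_univ i)
  have hxi : x i ∈ B := hL hx i (Set.mem_univ i)
  refine Submodule.smul_induction_on hyi ?_ ?_
  · intro r hr m hm
    obtain ⟨a, rfl⟩ := Submodule.mem_one.mp hm
    have h1 : r • x i ∈ (1 : Submodule O K) := Submodule.mem_colon.mp hr (x i) hxi
    have : r • (algebraMap O K a) * x i = a • (r • x i) := by
      simp only [Algebra.smul_def]; ring
    rw [this]
    exact Submodule.smul_mem _ a h1
  · intro a b ha hb
    rw [add_mul]
    exact Submodule.add_mem _ ha hb

theorem algebraMap_inj' : Function.Injective (algebraMap O K) := IsFractionRing.injective O K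

/-- common denominators: every vector of `K^n` has a nonzero multiple in `O^n` -/
theorem exists_denom (x : Fin n → K) :
    ∃ (d : O) (a : Fin n → O), d ≠ 0 ∧ ∀ i, algebraMap O K d * x i = algebraMap O K (a i) := by
  obtain ⟨b, hb⟩ := IsLocalization.exist_integer_multiples_of_finite (nonZeroDivisors O) x
  choose a ha using hb
  refine ⟨(b : O), a, nonZeroDivisors.coe_ne_zero b, fun i => ?_⟩
  rw [ha i, Algebra.smul_def]


/-- the `O`-valued pairing of `y ∈ D L` with `x ∈ L` -/
noncomputable def pair (L : Submodule O (Fin n → K)) (y : ↥(D O K n L)) (x : ↥L) : O :=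
  Classical.choose (Submodule.mem_one.mp (y.2 x.1 x.2))

theorem pair_spec (L : Submodule O (Fin n → K)) (y : ↥(D O K n L)) (x : ↥L) :
    algebraMap O K (pair L y x) = (y : Fin n → K) ⬝ᵥ (x : Fin n → K) :=
  Classical.choose_spec (Submodule.mem_one.mp (y.2 x.1 x.2))

/-- the map `D L → Hom_O(L, O)` -/
noncomputable def toDual (L : Submodule O (Fin n → K)) : ↥(D O K n L) →ₗ[O] (↥L →ₗ[O] O) where
  toFun y :=
    { toFun := fun x => pair L y x
      map_add' := by
        intro x x'
        apply algebraMap_inj' (O := O) (K := K)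
        rw [map_add, pair_spec, pair_spec, pair_spec, Submodule.coe_add, dotProduct_add]
      map_smul' := by
        intro c x
        apply algebraMap_inj' (O := O) (K := K)
        rw [RingHom.id_apply, smul_eq_mul, map_mul, pair_spec, pair_spec, Submodule.coe_smul,
          dotProduct_smul, Algebra.smul_def] }
  map_add' := by
    intro y y'
    ext x
    apply algebraMap_inj' (O := O) (K := K)
    simp only [LinearMap.coe_mk, AddHom.coe_mk, LinearMap.add_apply]
    rw [map_add, pair_spec, pair_spec, pair_spec, Submodule.coe_add, add_dotProduct]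
  map_smul' := by
    intro c y
    ext x
    apply algebraMap_inj' (O := O) (K := K)
    simp only [LinearMap.coe_mk, AddHom.coe_mk, LinearMap.smul_apply, RingHom.id_apply]
    rw [smul_eq_mul, map_mul, pair_spec, pair_spec, Submodule.coe_smul, smul_dotProduct,
      Algebra.smul_def]

theorem toDual_apply (L : Submodule O (Fin n → K)) (y : ↥(D O K n L)) (x : ↥L) :
    algebraMap O K (toDual L y x) = (y : Fin n → K) ⬝ᵥ (x : Fin n → K) := pair_spec L y x

theorem toDual_injective {L : Submodule O (Fin n → K)} (hL : std O K n ≤ L) :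
    Function.Injective (toDual (O := O) (K := K) L) := by
  classical
  rw [injective_iff_map_eq_zero]
  intro y hy
  apply Subtype.ext
  funext i
  have hmem : (Pi.single i 1 : Fin n → K) ∈ L :=
    hL (by simpa using single_mem_std (O := O) (K := K) i 1)
  have h := toDual_apply L y ⟨_, hmem⟩
  rw [hy, LinearMap.zero_apply, map_zero] at h
  rw [dotProduct_single, mul_one] at h
  simpa using h.symm

theorem toDual_surjective {L : Submodule O (Fin n → K)} (hL : std O K n ≤ L) :
    Function.Surjective (toDual (O := O) (K := K) L) := by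
  classical
  intro φ
  have hmem : ∀ i (a : O), (Pi.single i (algebraMap O K a) : Fin n → K) ∈ L :=
    fun i a => hL (single_mem_std i a)
  let y : Fin n → K := fun i => algebraMap O K (φ ⟨_, hmem i 1⟩)
  have key : ∀ x : ↥L, y ⬝ᵥ (x : Fin n → K) = algebraMap O K (φ x) := by
    intro x
    obtain ⟨d, a, hd, ha⟩ := exists_denom (O := O) (K := K) (x : Fin n → K)
    have hd' : algebraMap O K d ≠ 0 := fun h => hd (algebraMap_inj' (O := O) (K := K)
      (by rw [h, map_zero]))
    -- `d • x = ∑ a i • e_i`
    have hx : d • x = ∑ i, a i • (⟨_, hmem i 1⟩ : ↥L) := by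
      apply Subtype.ext
      funext j
      rw [Submodule.coe_smul, Pi.smul_apply, Algebra.smul_def, ha j, Submodule.coe_sum,
        Finset.sum_apply]
      simp only [Submodule.coe_smul, Pi.smul_apply, map_one]
      rw [Finset.sum_eq_single j]
      · rw [Pi.single_eq_same, Algebra.smul_def, mul_one]
      · intro b _ hb
        rw [Pi.single_eq_of_ne (Ne.symm hb), smul_zero]
      · intro h; exact absurd (Finset.mem_univ j) h
    have h1 : d * φ x = ∑ i, a i * φ ⟨_, hmem i 1⟩ := by
      have := congrArg φ hx
      rw [map_smul, map_sum] at this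
      simp only [map_smul, smul_eq_mul] at this
      exact this
    apply mul_left_cancel₀ hd'
    rw [← map_mul, h1, map_sum]
    have h2 : algebraMap O K d * (y ⬝ᵥ (x : Fin n → K)) =
        ∑ i, y i * (algebraMap O K d * (x : Fin n → K) i) := by
      unfold dotProduct
      rw [Finset.mul_sum]
      exact Finset.sum_congr rfl fun i _ => by ring
    rw [h2]
    refine Finset.sum_congr rfl fun i _ => ?_
    rw [ha i, map_mul]
    ring
  have hy : y ∈ D O K n L := fun x hx => by
    rw [key ⟨x, hx⟩]
    exact Submodule.mem_one.mpr ⟨_, rfl⟩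
  refine ⟨⟨y, hy⟩, ?_⟩
  ext x
  apply algebraMap_inj' (O := O) (K := K)
  rw [toDual_apply]
  exact key x

/-- `D L ≃ Hom_O(L, O)` when `O^n ≤ L` -/
noncomputable def dualEquiv {L : Submodule O (Fin n → K)} (hL : std O K n ≤ L) :
    ↥(D O K n L) ≃ₗ[O] (↥L →ₗ[O] O) :=
  LinearEquiv.ofBijective (toDual L) ⟨toDual_injective hL, toDual_surjective hL⟩

end Groth.Agent.Helper20.TFDual
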