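import Mathlib
import Groth.Agent.Lib.Helper20.TFDual1
import Groth.Agent.Lib.Helper19.TFCurv.Lattice2
import Groth.Agent.Lib.Helper7.TorsionlessPID
import Groth.Agent.Lib.Helper8.CanonId2
import Groth.Agent.Lib.Helper12.TFEmbed

/-!
# Torsion-free modules over a one-dimensional Gorenstein local domain between `C^n` and `O^n`
(helper20, for S15035)
-/

set_option autoImplicit false
set_option linter.unusedSectionVars false
set_option linter.style.haveILetI false
universe u

namespace Groth.Agent.Helper20.TFDual

open Matrix TensorProduct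

variable (O : Type u) [CommRing O] [IsDomain O] [LocCoh.IsGorensteinLocalRing O]
  (K : Type u) [Field K] [Algebra O K] [IsFractionRing O K]

theorem isGorensteinRing : LocCoh.IsGorensteinRing O :=
  { isGorensteinLocalRing_localization := fun p _ =>
      Groth.Agent.Helper8.CanonId.isGorensteinLocalRing_localization O p }

include K in
/-- finitely generated torsion-free modules over a one-dimensional Gorenstein local domain are
reflexive -/
theorem eval_bijective (hdim : ringKrullDim O = 1) (M : Type u) [AddCommGroup M] [Module O M]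
    [Module.Finite O M] [NoZeroSMulDivisors O M] :
    Function.Bijective (Module.Dual.eval O M) := by
  haveI := isGorensteinRing O
  obtain ⟨m, ι, hι⟩ := Groth.Agent.Helper12.TFEmbed.exists_embedding_of_torsionFree O K M
  have hinj : Function.Injective (Module.Dual.eval O M) := by
    rw [injective_iff_map_eq_zero]
    intro x hx
    apply hι
    rw [map_zero]
    funext j
    have := LinearMap.congr_fun hx ((LinearMap.proj j).comp ι)
    simpa using this
  exact ⟨hinj, Groth.Agent.Helper7.TorsionlessPID.eval_surjective_of_injective hdim.le M hinj⟩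

omit [LocCoh.IsGorensteinLocalRing O] in
/-- the conductor is nonzero -/
theorem exists_ne_zero_mem_colon (hfin : Module.Finite O ↥(integralClosure O K)) :
    ∃ c : O, c ≠ 0 ∧
      c ∈ (1 : Submodule O K).colon (Subalgebra.toSubmodule (integralClosure O K)) := by
  classical
  obtain ⟨G, hG⟩ := (Module.Finite.fg_top : (⊤ : Submodule O ↥(integralClosure O K)).FG)
  obtain ⟨t, ht⟩ := IsLocalization.exist_integer_multiples_of_finset (nonZeroDivisors O)
    (G.image (fun z : ↥(integralClosure O K) => (z : K)))
  refine ⟨(t : O), nonZeroDivisors.coe_ne_zero t, ?_⟩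
  rw [Submodule.mem_colon]
  intro p hp
  let f : ↥(integralClosure O K) →ₗ[O] K := (t : O) • (integralClosure O K).val.toLinearMap
  have hle : Submodule.span O (G : Set ↥(integralClosure O K))
      ≤ Submodule.comap f (1 : Submodule O K) := by
    rw [Submodule.span_le]
    intro g hg
    obtain ⟨a, ha⟩ := ht (g : K) (Finset.mem_image_of_mem _ hg)
    exact Submodule.mem_one.mpr ⟨a, ha⟩
  have hz : (⟨p, hp⟩ : ↥(integralClosure O K)) ∈
      Submodule.span O (G : Set ↥(integralClosure O K)) := by rw [hG]; trivial
  exact hle hz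

omit [LocCoh.IsGorensteinLocalRing O] in
theorem span_D_eq_top (hfin : Module.Finite O ↥(integralClosure O K)) (n : ℕ)
    {L : Submodule O (Fin n → K)}
    (hL : L ≤ Submodule.pi Set.univ
      (fun _ : Fin n => Subalgebra.toSubmodule (integralClosure O K))) :
    Submodule.span K ((D O K n L : Submodule O (Fin n → K)) : Set (Fin n → K)) = ⊤ := by
  classical
  obtain ⟨c, hc0, hc⟩ := exists_ne_zero_mem_colon O K hfin
  have hc' : algebraMap O K c ≠ 0 := fun h => hc0 (algebraMap_inj' (O := O) (K := K)
    (by rw [h, map_zero]))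
  have key : ∀ i, (Pi.single i 1 : Fin n → K) ∈
      Submodule.span K ((D O K n L : Submodule O (Fin n → K)) : Set (Fin n → K)) := by
    intro i
    have h1 : (Pi.single i (algebraMap O K c) : Fin n → K) ∈ D O K n L := by
      refine pi_colon_le_D _ hL ?_
      intro j _
      by_cases h : j = i
      · subst h
        rw [Pi.single_eq_same]
        have : algebraMap O K c = c • (1 : K) := by rw [Algebra.smul_def, mul_one]
        rw [this]
        exact Submodule.smul_mem_smul hc (Submodule.one_le.mp le_rfl)
      · rw [Pi.single_eq_of_ne h]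
        exact Submodule.zero_mem _
    have h2 : (Pi.single i 1 : Fin n → K) =
        (algebraMap O K c)⁻¹ • (Pi.single i (algebraMap O K c) : Fin n → K) := by
      rw [← Pi.single_smul, smul_eq_mul, inv_mul_cancel₀ hc']
    rw [h2]
    exact Submodule.smul_mem _ _ (Submodule.subset_span h1)
  rw [eq_top_iff, ← (Pi.basisFun K (Fin n)).span_eq, Submodule.span_le]
  rintro _ ⟨i, rfl⟩
  rw [Pi.basisFun_apply]
  exact key i

/-- **S15035**: every finitely generated torsion-free module of rank `n` sits between `C^n` and
`O^n`. -/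
theorem main (hdim : ringKrullDim O = 1) [Infinite (IsLocalRing.ResidueField O)]
    (hfin : Module.Finite O ↥(integralClosure O K))
    (M : Type u) [AddCommGroup M] [Module O M] [Module.Finite O M] [NoZeroSMulDivisors O M]
    (n : ℕ) (hn : Module.finrank K (K ⊗[O] M) = n) :
    ∃ M'' : Submodule O (Fin n → K),
      Submodule.pi Set.univ (fun _ : Fin n =>
        (((1 : Submodule O K).colon (Subalgebra.toSubmodule (integralClosure O K))) •
          (1 : Submodule O K))) ≤ M'' ∧
      M'' ≤ Submodule.pi Set.univ (fun _ : Fin n => (1 : Submodule O K)) ∧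
      Nonempty (M ≃ₗ[O] ↥M'') := by
  classical
  obtain ⟨M', hM'1, hM'2, ⟨e⟩⟩ :=
    Groth.Agent.Helper19.TFCurv.main_lattice O K M hdim hfin n hn
  -- the dual lattice of `M'`
  haveI : Module.Finite O ↥M' := Module.Finite.equiv e
  haveI : Module.Finite O ↥(D O K n M') := Module.Finite.equiv (dualEquiv hM'1).symm
  have hspan : Submodule.span K (LinearMap.range (D O K n M').subtype : Set (Fin n → K)) = ⊤ := by
    rw [Submodule.range_subtype]
    exact span_D_eq_top O K hfin n hM'2
  obtain ⟨N, hN1, hN2, ⟨e₂⟩⟩ := Groth.Agent.Helper19.TFCurv.exists_lattice O K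
    (D O K n M').subtype (Submodule.injective_subtype _) hspan hdim hfin n
    (by rw [Module.finrank_fin_fun])
  refine ⟨D O K n N, pi_colon_le_D _ hN2, D_le_std hN1, ⟨?_⟩⟩
  -- `M ≃ M** ≃ (M'*)* ≃ (D M')* ≃ N* ≃ D N`
  have e0 : M ≃ₗ[O] Module.Dual O (Module.Dual O M) :=
    LinearEquiv.ofBijective (Module.Dual.eval O M) (eval_bijective O K hdim M)
  have e1 : Module.Dual O M ≃ₗ[O] ↥N :=
    e.symm.dualMap ≪≫ₗ (dualEquiv hM'1).symm ≪≫ₗ e₂
  exact e0 ≪≫ₗ e1.symm.dualMap ≪≫ₗ (dualEquiv hN1).symm

end Groth.Agent.Helper20.TFDual
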