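import Groth.Agent.Lib.Helper20.CubicSing
import Groth.Agent.Lib.Helper2.MvPolyHom

/-!
# T-points of a cubic surface: the pointwise criterion (towards S19500)

For a cubic form `F` in four variables and a smooth point `b` of `F = 0`, with tangent linear form
`tl F b` and polar quadric `pq F b`, the section of the surface by the tangent plane is a product of
three linear forms iff the polar quadric vanishes on the tangent plane or divides `F` there.
-/

open MvPolynomial

namespace Groth.Agent.Helper20.TPtA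

open Groth.Agent.Helper20.CubicTaylor Groth.Agent.Helper20.CubicPolar
  Groth.Agent.Helper20.CubicSing

universe u

variable {K : Type u} [Field K]

/-- The tangent linear form at `b`. -/
noncomputable def tl (F : MvPolynomial (Fin 4) K) (b : Fin 4 → K) : MvPolynomial (Fin 4) K :=
  ∑ i : Fin 4, C (eval b (pderiv i F)) * X i

/-- The polar quadric at `b`. -/
noncomputable def pq (F : MvPolynomial (Fin 4) K) (b : Fin 4 → K) : MvPolynomial (Fin 4) K :=
  ∑ i : Fin 4, b i • pderiv i F

/-- The tangent plane section at `b` is a product of three linear forms. -/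
def TP (F : MvPolynomial (Fin 4) K) (b : Fin 4 → K) : Prop :=
  ∃ L₁ L₂ L₃ : MvPolynomial (Fin 4) K, L₁.IsHomogeneous 1 ∧ L₂.IsHomogeneous 1 ∧
    L₃.IsHomogeneous 1 ∧ F - L₁ * L₂ * L₃ ∈ Ideal.span {tl F b}

lemma eval_tl (F : MvPolynomial (Fin 4) K) (b x : Fin 4 → K) :
    eval x (tl F b) = ∑ i, eval b (pderiv i F) * x i := by
  simp [tl]

lemma eval_pq (F : MvPolynomial (Fin 4) K) (b x : Fin 4 → K) :
    eval x (pq F b) = ∑ i, b i * eval x (pderiv i F) := by
  simp [pq, smul_eval]

lemma tl_isHomogeneous (F : MvPolynomial (Fin 4) K) (b : Fin 4 → K) :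
    (tl F b).IsHomogeneous 1 := by
  apply IsHomogeneous.sum
  intro i _
  exact isHomogeneous_C_mul_X _ _

lemma pq_isHomogeneous {F : MvPolynomial (Fin 4) K} (hF : F.IsHomogeneous 3) (b : Fin 4 → K) :
    (pq F b).IsHomogeneous 2 := by
  apply IsHomogeneous.sum
  intro i _
  rw [MvPolynomial.smul_eq_C_mul]
  exact (hF.pderiv).C_mul _

lemma pq_eq (F : MvPolynomial (Fin 4) K) (b : Fin 4 → K) :
    pq F b = ∑ i : Fin 4, C (b i) * pderiv i F := by
  simp [pq, MvPolynomial.smul_eq_C_mul]

/-- Euler: `b` lies on its tangent plane. -/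
lemma eval_tl_self [CharZero K] {F : MvPolynomial (Fin 4) K} (hF : F.IsHomogeneous 3)
    (b : Fin 4 → K) (hFb : eval b F = 0) : eval b (tl F b) = 0 := by
  have he := hF.sum_X_mul_pderiv
  have := congrArg (eval b) he
  simp only [map_sum, map_mul, eval_X, hFb, nsmul_eq_mul, mul_zero] at this
  rw [eval_tl]
  simpa [mul_comm] using this

lemma ne_zero_of_smooth {F : MvPolynomial (Fin 4) K} (hF : F.IsHomogeneous 3)
    (b : Fin 4 → K) (i₀ : Fin 4) (hb : eval b (pderiv i₀ F) ≠ 0) : b ≠ 0 := by
  intro h0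
  apply hb
  rw [h0]
  exact eval_zero_of_isHomogeneous (hF.pderiv (i := i₀)) (by norm_num)

section Expand

variable [Infinite K]

/-- Expansion of `F` along `b` on the tangent plane. -/
lemma expand_F {F : MvPolynomial (Fin 4) K} (hF : F.IsHomogeneous 3)
    (b : Fin 4 → K) (hFb : eval b F = 0) (y : Fin 4 → K) (hy : eval y (tl F b) = 0) (r : K) :
    eval (y + r • b) F = r * eval y (pq F b) + eval y F := by
  have := cubic_expand F hF b y r 1
  rw [one_smul, add_comm] at this
  rw [eval_tl] at hy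
  have hy' : ∑ i, y i * eval b (pderiv i F) = 0 := by
    rw [← hy]
    exact Finset.sum_congr rfl fun i _ => mul_comm _ _
  rw [this, hFb, hy', eval_pq]
  ring

/-- The polar quadric is constant along `b` on the tangent plane. -/
lemma expand_pq {F : MvPolynomial (Fin 4) K} (hF : F.IsHomogeneous 3)
    (b : Fin 4 → K) (hFb : eval b F = 0) (y : Fin 4 → K) (hy : eval y (tl F b) = 0) (r : K) :
    eval (y + r • b) (pq F b) = eval y (pq F b) := by
  classical
  have hG : lineP y b F = Polynomial.C (eval y F) +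
      Polynomial.C (eval y (pq F b)) * Polynomial.X := by
    apply Polynomial.funext
    intro r
    rw [eval_lineP, expand_F hF b hFb y hy r]
    simp
    ring
  have := eval_derivative_lineP y b F r
  rw [hG] at this
  simp at this
  rw [eval_pq (x := y + r • b), ← this]

end Expand

/-- A form of degree one is the polynomial of a linear functional. -/
lemma exists_linear_of_hom_one {n : ℕ} (p : MvPolynomial (Fin n) K) (hp : p.IsHomogeneous 1) :
    ∃ φ : (Fin n → K) →ₗ[K] K, p = linPoly φ := by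
  classical
  have hc : ∀ i : Fin n, pderiv i p = C (coeff 0 (pderiv i p)) := by
    intro i
    have h0 : (pderiv i p).IsHomogeneous (1 - 1) := hp.pderiv
    have h1 : (pderiv i p).totalDegree ≤ 0 := h0.totalDegree_le
    exact (totalDegree_eq_zero_iff_eq_C.mp (Nat.le_zero.mp h1))
  refine ⟨∑ i, (coeff 0 (pderiv i p)) • LinearMap.proj i, ?_⟩
  have he := hp.sum_X_mul_pderiv
  rw [one_smul] at he
  rw [linPoly]
  conv_lhs => rw [← he]
  refine Finset.sum_congr rfl fun i _ => ?_
  have : (∑ l, (coeff 0 (pderiv l p)) • (LinearMap.proj l : (Fin n → K) →ₗ[K] K))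
      (fun j => if i = j then (1 : K) else 0) = coeff 0 (pderiv i p) := by
    simp
  rw [this, mul_comm]
  congr 1
  exact hc i

/-- A multiple of a linear form which is homogeneous has a homogeneous cofactor. -/
lemma exists_hom_cofactor {G ℓ : MvPolynomial (Fin 4) K} {e : ℕ} (hG : G.IsHomogeneous (e + 1))
    (hℓ : ℓ.IsHomogeneous 1) (h : G ∈ Ideal.span {ℓ}) :
    ∃ n : MvPolynomial (Fin 4) K, n.IsHomogeneous e ∧ G = n * ℓ := by
  obtain ⟨c, hc⟩ := Ideal.mem_span_singleton'.mp h
  refine ⟨homogeneousComponent e c, homogeneousComponent_isHomogeneous e c, ?_⟩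
  rw [← Groth.Agent.Helper25.BezoutA.hc_mul_right c ℓ 1 e hℓ, hc]
  exact (homogeneousComponent_of_mem ((mem_homogeneousSubmodule _ _).mpr hG)).symm ▸ (by simp)


lemma eval_tl_add_smul (F : MvPolynomial (Fin 4) K) (b y v : Fin 4 → K) (r : K) :
    eval (y + r • v) (tl F b) = eval y (tl F b) + r * eval v (tl F b) := by
  simp only [eval_tl, Pi.add_apply, Pi.smul_apply, smul_eq_mul, mul_add, Finset.sum_add_distrib,
    Finset.mul_sum]
  congr 1
  refine Finset.sum_congr rfl fun i _ => ?_
  ring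

lemma eval_tl_comb (F : MvPolynomial (Fin 4) K) (b u v w : Fin 4 → K) (r s t : K) :
    eval (r • u + s • v + t • w) (tl F b) =
      r * eval u (tl F b) + s * eval v (tl F b) + t * eval w (tl F b) := by
  simp only [eval_tl, Pi.add_apply, Pi.smul_apply, smul_eq_mul, mul_add, Finset.sum_add_distrib,
    Finset.mul_sum]
  congr 1
  · congr 1
    · refine Finset.sum_congr rfl fun i _ => ?_
      ring
    · refine Finset.sum_congr rfl fun i _ => ?_
      ring
  · refine Finset.sum_congr rfl fun i _ => ?_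
    ring

/-- Extend a nonzero vector of a three-dimensional subspace to a basis, with all three coordinate
functionals on the ambient space. -/
lemma exists_basis_ext3 {V : Type*} [AddCommGroup V] [Module K V] (H : Submodule K V)
    (hfin : Module.finrank K H = 3) (a : V) (haH : a ∈ H) (ha : a ≠ 0) :
    ∃ (h₁ h₂ : V) (c₀ cα cβ : V →ₗ[K] K), h₁ ∈ H ∧ h₂ ∈ H ∧
      (∀ c₀ c₁ c₂ : K, c₀ • a + c₁ • h₁ + c₂ • h₂ = 0 → c₀ = 0 ∧ c₁ = 0 ∧ c₂ = 0) ∧
      ∀ x ∈ H, x = c₀ x • a + cα x • h₁ + cβ x • h₂ := by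
  haveI : FiniteDimensional K H := Module.finite_of_finrank_pos (by omega)
  have ha' : (⟨a, haH⟩ : H) ≠ 0 := by
    intro h
    exact ha (congrArg Subtype.val h)
  obtain ⟨y, hy⟩ := exists_linearIndependent_pair_of_one_lt_finrank (R := K) (M := H)
    (by rw [hfin]; norm_num) ha'
  obtain ⟨z, hz⟩ := exists_linearIndependent_cons_of_lt_finrank hy (by rw [hfin]; norm_num)
  have hz' : LinearIndependent K ![z, ⟨a, haH⟩, y] := hz
  set b := basisOfLinearIndependentOfCardEqFinrank hz' (by simp [hfin]) with hb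
  have hbv : ∀ i, b i = ![z, ⟨a, haH⟩, y] i := by
    intro i
    rw [hb, coe_basisOfLinearIndependentOfCardEqFinrank]
  obtain ⟨c₀, hc₀⟩ := LinearMap.exists_extend (b.coord 1)
  obtain ⟨cα, hcα⟩ := LinearMap.exists_extend (b.coord 2)
  obtain ⟨cβ, hcβ⟩ := LinearMap.exists_extend (b.coord 0)
  refine ⟨y.1, z.1, c₀, cα, cβ, y.2, z.2, ?_, ?_⟩
  · intro c₀ c₁ c₂ h
    have hli := Fintype.linearIndependent_iff.mp hz' ![c₂, c₀, c₁] (by
      rw [Fin.sum_univ_three]
      apply Subtype.ext
      simp only [Matrix.cons_val_zero, Matrix.cons_val_one, Matrix.cons_val_two,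
        Submodule.coe_add, Submodule.coe_smul, Submodule.coe_zero]
      rw [← h]
      abel)
    have h0 := hli 0
    have h1 := hli 1
    have h2 := hli 2
    simp at h0 h1 h2
    exact ⟨h1, h2, h0⟩
  · intro x hx
    have hsum := b.sum_repr ⟨x, hx⟩
    rw [Fin.sum_univ_three, hbv 0, hbv 1, hbv 2] at hsum
    have hx' := congrArg Subtype.val hsum
    simp only [Matrix.cons_val_zero, Matrix.cons_val_one, Matrix.cons_val_two,
      Submodule.coe_add, Submodule.coe_smul] at hx'
    have h0 : c₀ x = b.repr ⟨x, hx⟩ 1 := by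
      have := LinearMap.congr_fun hc₀ ⟨x, hx⟩
      simpa using this
    have h1 : cα x = b.repr ⟨x, hx⟩ 2 := by
      have := LinearMap.congr_fun hcα ⟨x, hx⟩
      simpa using this
    have h2 : cβ x = b.repr ⟨x, hx⟩ 0 := by
      have := LinearMap.congr_fun hcβ ⟨x, hx⟩
      simpa using this
    rw [h0, h1, h2]
    calc x = _ := hx'.symm
      _ = _ := by abel

section Coords

variable [CharZero K]

/-- Coordinates on the tangent plane at a smooth point. -/
lemma tangent_coords {F : MvPolynomial (Fin 4) K} (hF : F.IsHomogeneous 3)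
    (b : Fin 4 → K) (hFb : eval b F = 0) (i₀ : Fin 4) (hb : eval b (pderiv i₀ F) ≠ 0) :
    ∃ (h₁ h₂ : Fin 4 → K) (c₀ cα cβ : (Fin 4 → K) →ₗ[K] K),
      eval h₁ (tl F b) = 0 ∧ eval h₂ (tl F b) = 0 ∧
      (∀ s α β : K, s • b + α • h₁ + β • h₂ = 0 → s = 0 ∧ α = 0 ∧ β = 0) ∧
      ∀ x, eval x (tl F b) = 0 → x = c₀ x • b + cα x • h₁ + cβ x • h₂ := by
  classical
  set dF : Fin 4 → K := fun i => eval b (pderiv i F) with hdF
  set lf : Module.Dual K (Fin 4 → K) := ∑ i, dF i • LinearMap.proj i with hlf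
  have hlfx : ∀ x : Fin 4 → K, lf x = eval x (tl F b) := by
    intro x
    rw [eval_tl]
    simp [hlf, hdF]
  have hlf0 : lf ≠ 0 := by
    intro h0
    have := hlfx (Pi.single i₀ 1)
    rw [h0, eval_tl] at this
    simp [Pi.single_apply] at this
    exact hb this.symm
  have hfin : Module.finrank K (LinearMap.ker lf) = 3 := by
    have := Module.Dual.finrank_ker_add_one_of_ne_zero hlf0
    rw [Module.finrank_fintype_fun_eq_card, Fintype.card_fin] at this
    omega
  have hbH : b ∈ LinearMap.ker lf := by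
    rw [LinearMap.mem_ker, hlfx]
    exact eval_tl_self hF b hFb
  obtain ⟨h₁, h₂, c₀, cα, cβ, hh₁, hh₂, hind, hspan⟩ :=
    exists_basis_ext3 (LinearMap.ker lf) hfin b hbH (ne_zero_of_smooth hF b i₀ hb)
  refine ⟨h₁, h₂, c₀, cα, cβ, ?_, ?_, hind, ?_⟩
  · rw [← hlfx]
    exact hh₁
  · rw [← hlfx]
    exact hh₂
  · intro x hx
    apply hspan
    rw [LinearMap.mem_ker, hlfx]
    exact hx

variable [IsAlgClosed K]

/-- If the polar quadric vanishes on the tangent plane, the point is a T-point. -/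
lemma TP_of_pq_vanish {F : MvPolynomial (Fin 4) K} (hF : F.IsHomogeneous 3)
    (b : Fin 4 → K) (hFb : eval b F = 0) (i₀ : Fin 4) (hb : eval b (pderiv i₀ F) ≠ 0)
    (h : ∀ x, eval x (tl F b) = 0 → eval x (pq F b) = 0) : TP F b := by
  classical
  haveI : Infinite K := Infinite.of_injective (Nat.cast : ℕ → K) Nat.cast_injective
  obtain ⟨h₁, h₂, c₀, cα, cβ, hh₁, hh₂, -, hspan⟩ := tangent_coords hF b hFb i₀ hb
  have hcomb : ∀ α β : K, eval (α • h₁ + β • h₂) (tl F b) = 0 := by
    intro α β
    have := eval_tl_comb F b h₁ h₂ 0 α β 0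
    rw [zero_smul, add_zero] at this
    rw [this, hh₁, hh₂]
    ring
  obtain ⟨c, hc⟩ := binary_form F hF h₁ h₂
  have hc' : ∀ α β : K, eval (α • h₁ + β • h₂) F =
      c 0 * β ^ 3 + c 1 * α * β ^ 2 + c 2 * α ^ 2 * β + c 3 * α ^ 3 := by
    intro α β
    rw [hc α β]
    simp [Finset.sum_range_succ]
  obtain ⟨l₁, m₁, l₂, m₂, l₃, m₃, hfac⟩ := cubic_factor (c 0) (c 1) (c 2) (c 3)
  refine ⟨linPoly (l₁ • cα + m₁ • cβ), linPoly (l₂ • cα + m₂ • cβ),
    linPoly (l₃ • cα + m₃ • cβ), linPoly_isHomogeneous _, linPoly_isHomogeneous _,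
    linPoly_isHomogeneous _, ?_⟩
  apply mem_span_of_vanish (fun i => eval b (pderiv i F)) i₀ hb
  intro x hx
  have hxT : eval x (tl F b) = 0 := by
    rw [eval_tl]
    exact hx
  rw [map_sub, map_mul, map_mul, eval_linPoly, eval_linPoly, eval_linPoly, sub_eq_zero]
  have hxdecomp : x = (cα x • h₁ + cβ x • h₂) + c₀ x • b := by
    calc x = c₀ x • b + cα x • h₁ + cβ x • h₂ := hspan x hxT
      _ = _ := by abel
  have hFx : eval x F = eval (cα x • h₁ + cβ x • h₂) F := by
    conv_lhs => rw [hxdecomp]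
    rw [expand_F hF b hFb _ (hcomb _ _), h _ (hcomb _ _), mul_zero, zero_add]
  rw [hFx, hc', hfac]
  simp only [LinearMap.add_apply, LinearMap.smul_apply, smul_eq_mul]

/-- If `F` is the polar quadric times a linear form on the tangent plane, the point is a
T-point. -/
lemma TP_of_pq_mul {F : MvPolynomial (Fin 4) K} (hF : F.IsHomogeneous 3)
    (b : Fin 4 → K) (hFb : eval b F = 0) (i₀ : Fin 4) (hb : eval b (pderiv i₀ F) ≠ 0)
    (m : MvPolynomial (Fin 4) K) (hm : m.IsHomogeneous 1)
    (h : ∀ x, eval x (tl F b) = 0 → eval x F = eval x (pq F b) * eval x m) : TP F b := by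
  classical
  haveI : Infinite K := Infinite.of_injective (Nat.cast : ℕ → K) Nat.cast_injective
  obtain ⟨h₁, h₂, c₀, cα, cβ, hh₁, hh₂, -, hspan⟩ := tangent_coords hF b hFb i₀ hb
  have hcomb : ∀ α β : K, eval (α • h₁ + β • h₂) (tl F b) = 0 := by
    intro α β
    have := eval_tl_comb F b h₁ h₂ 0 α β 0
    rw [zero_smul, add_zero] at this
    rw [this, hh₁, hh₂]
    ring
  obtain ⟨B, hB⟩ := quad_expand (pq F b) (pq_isHomogeneous hF b) h₁ h₂
  obtain ⟨l₁, m₁, l₂, m₂, hfac⟩ := quad_factor (eval h₁ (pq F b)) B (eval h₂ (pq F b))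
  refine ⟨linPoly (l₁ • cα + m₁ • cβ), linPoly (l₂ • cα + m₂ • cβ), m,
    linPoly_isHomogeneous _, linPoly_isHomogeneous _, hm, ?_⟩
  apply mem_span_of_vanish (fun i => eval b (pderiv i F)) i₀ hb
  intro x hx
  have hxT : eval x (tl F b) = 0 := by
    rw [eval_tl]
    exact hx
  rw [map_sub, map_mul, map_mul, eval_linPoly, eval_linPoly, sub_eq_zero, h x hxT]
  have hxdecomp : x = (cα x • h₁ + cβ x • h₂) + c₀ x • b := by
    calc x = c₀ x • b + cα x • h₁ + cβ x • h₂ := hspan x hxT
      _ = _ := by abel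
  have hPx : eval x (pq F b) = eval (cα x • h₁ + cβ x • h₂) (pq F b) := by
    conv_lhs => rw [hxdecomp]
    rw [expand_pq hF b hFb _ (hcomb _ _)]
  rw [hPx, hB]
  have := hfac (cα x) (cβ x)
  simp only [LinearMap.add_apply, LinearMap.smul_apply, smul_eq_mul]
  congr 1
  linear_combination this

end Coords

section Converse

variable [CharZero K]

/-- At a T-point the polar quadric vanishes on the tangent plane or divides `F` there. -/
lemma of_TP {F : MvPolynomial (Fin 4) K} (hF : F.IsHomogeneous 3)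
    (b : Fin 4 → K) (hFb : eval b F = 0) (hT : TP F b) :
    (∀ x, eval x (tl F b) = 0 → eval x (pq F b) = 0) ∨
      ∃ m : MvPolynomial (Fin 4) K, m.IsHomogeneous 1 ∧
        ∀ x, eval x (tl F b) = 0 → eval x F = eval x (pq F b) * eval x m := by
  classical
  haveI : Infinite K := Infinite.of_injective (Nat.cast : ℕ → K) Nat.cast_injective
  obtain ⟨L₁, L₂, L₃, hL₁, hL₂, hL₃, hmem⟩ := hT
  obtain ⟨φ₁, rfl⟩ := exists_linear_of_hom_one L₁ hL₁
  obtain ⟨φ₂, rfl⟩ := exists_linear_of_hom_one L₂ hL₂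
  obtain ⟨φ₃, rfl⟩ := exists_linear_of_hom_one L₃ hL₃
  obtain ⟨q, hq⟩ := Ideal.mem_span_singleton'.mp hmem
  have hfun : ∀ x, eval x (tl F b) = 0 → eval x F = φ₁ x * φ₂ x * φ₃ x := by
    intro x hx
    have := congrArg (eval x) hq
    rw [map_mul, hx, mul_zero, map_sub, map_mul, map_mul, eval_linPoly, eval_linPoly,
      eval_linPoly] at this
    linear_combination -this
  have hbT : eval b (tl F b) = 0 := eval_tl_self hF b hFb
  have key : ∀ w, eval w (tl F b) = 0 → ∀ s : K,
      s * eval w (pq F b) + eval w F =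
        (φ₁ w + s * φ₁ b) * (φ₂ w + s * φ₂ b) * (φ₃ w + s * φ₃ b) := by
    intro w hw s
    have hws : eval (w + s • b) (tl F b) = 0 := by
      rw [eval_tl_add_smul, hw, hbT]
      ring
    have := hfun _ hws
    rw [expand_F hF b hFb w hw s] at this
    rw [this]
    simp only [map_add, map_smul, smul_eq_mul]
  set e₁ := φ₁ b with he₁
  set e₂ := φ₂ b with he₂
  set e₃ := φ₃ b with he₃
  have K3 : e₁ * e₂ * e₃ = 0 := by
    have h0 := key b hbT 0
    have h1 := key b hbT 1
    have hm1 := key b hbT (-1)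
    have h2 := key b hbT 2
    linear_combination (-1 / 6 : K) * h2 + (1 / 2 : K) * h1 + (1 / 6 : K) * hm1 - (1 / 2 : K) * h0
  have K2 : ∀ w, eval w (tl F b) = 0 →
      e₁ * e₂ * φ₃ w + e₁ * e₃ * φ₂ w + e₂ * e₃ * φ₁ w = 0 := by
    intro w hw
    have h0 := key w hw 0
    have h1 := key w hw 1
    have hm1 := key w hw (-1)
    linear_combination (-1 / 2 : K) * h1 - (1 / 2 : K) * hm1 + h0
  have K1 : ∀ w, eval w (tl F b) = 0 → eval w (pq F b) =
      e₁ * φ₂ w * φ₃ w + e₂ * φ₁ w * φ₃ w + e₃ * φ₁ w * φ₂ w := by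
    intro w hw
    have h0 := key w hw 0
    have h1 := key w hw 1
    have hm1 := key w hw (-1)
    have h2 := key w hw 2
    linear_combination h1 - (1 / 6 : K) * h2 - (1 / 3 : K) * hm1 - (1 / 2 : K) * h0
  have K0 : ∀ w, eval w (tl F b) = 0 → eval w F = φ₁ w * φ₂ w * φ₃ w := hfun
  by_cases h1 : e₁ = 0
  · by_cases h2 : e₂ = 0
    · by_cases h3 : e₃ = 0
      · left
        intro w hw
        rw [K1 w hw, h1, h2, h3]
        ring
      · right
        refine ⟨C e₃⁻¹ * linPoly φ₃, (linPoly_isHomogeneous φ₃).C_mul _, fun w hw => ?_⟩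
        rw [K0 w hw, K1 w hw, h1, h2, map_mul, eval_C, eval_linPoly]
        field_simp
        ring
    · by_cases h3 : e₃ = 0
      · right
        refine ⟨C e₂⁻¹ * linPoly φ₂, (linPoly_isHomogeneous φ₂).C_mul _, fun w hw => ?_⟩
        rw [K0 w hw, K1 w hw, h1, h3, map_mul, eval_C, eval_linPoly]
        field_simp
        ring
      · left
        intro w hw
        have := K2 w hw
        rw [h1] at this
        have hl : φ₁ w = 0 := by
          have h' : e₂ * e₃ * φ₁ w = 0 := by linear_combination this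
          rcases mul_eq_zero.mp h' with h'' | h''
          · exact absurd h'' (mul_ne_zero h2 h3)
          · exact h''
        rw [K1 w hw, h1, hl]
        ring
  · by_cases h2 : e₂ = 0
    · by_cases h3 : e₃ = 0
      · right
        refine ⟨C e₁⁻¹ * linPoly φ₁, (linPoly_isHomogeneous φ₁).C_mul _, fun w hw => ?_⟩
        rw [K0 w hw, K1 w hw, h2, h3, map_mul, eval_C, eval_linPoly]
        field_simp
        ring
      · left
        intro w hw
        have := K2 w hw
        rw [h2] at this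
        have hl : φ₂ w = 0 := by
          have h' : e₁ * e₃ * φ₂ w = 0 := by linear_combination this
          rcases mul_eq_zero.mp h' with h'' | h''
          · exact absurd h'' (mul_ne_zero h1 h3)
          · exact h''
        rw [K1 w hw, h2, hl]
        ring
    · by_cases h3 : e₃ = 0
      · left
        intro w hw
        have := K2 w hw
        rw [h3] at this
        have hl : φ₃ w = 0 := by
          have h' : e₁ * e₂ * φ₃ w = 0 := by linear_combination this
          rcases mul_eq_zero.mp h' with h'' | h''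
          · exact absurd h'' (mul_ne_zero h1 h2)
          · exact h''
        rw [K1 w hw, h3, hl]
        ring
      · exfalso
        exact mul_ne_zero (mul_ne_zero h1 h2) h3 K3

end Converse

end Groth.Agent.Helper20.TPtA
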