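import Mathlib

/-!
# Semicontinuity of injectivity for a polynomial family of linear maps (towards S19500)
-/

open MvPolynomial

namespace Groth.Agent.Helper20.TPtB

universe u

variable {K : Type u} [Field K] {σ : Type*}

/-- The determinant of a square matrix of forms of the same degree is a form. -/
lemma det_isHomogeneous {ι : Type*} [Fintype ι] [DecidableEq ι]
    (M : Matrix ι ι (MvPolynomial σ K)) (d : ℕ) (hM : ∀ i j, (M i j).IsHomogeneous d) :
    (M.det).IsHomogeneous (d * Fintype.card ι) := by
  rw [Matrix.det_apply]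
  apply IsHomogeneous.sum
  intro τ _
  have hprod : (∏ i, M (τ i) i).IsHomogeneous (d * Fintype.card ι) := by
    have := IsHomogeneous.prod Finset.univ (fun i => M (τ i) i) (fun _ => d)
      (fun i _ => hM (τ i) i)
    simpa [Finset.sum_const, mul_comm] using this
  rcases Int.units_eq_one_or (Equiv.Perm.sign τ) with h | h
  · rw [h, one_smul]
    exact hprod
  · rw [h, Units.neg_smul, one_smul]
    exact hprod.neg

/-- Let `Λ b : E → W` be a family of linear maps depending polynomially (through forms of degree
`d`) on `b`. If `Λ a` is injective, there is a form `D` with `D a ≠ 0` such that `Λ b` is injective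
whenever `D b ≠ 0`. -/
theorem semicont {E W : Type*} [AddCommGroup E] [Module K E] [FiniteDimensional K E]
    [AddCommGroup W] [Module K W] (Λ : (σ → K) → (E →ₗ[K] W)) (d : ℕ)
    (hpoly : ∀ (e : E) (φ : W →ₗ[K] K), ∃ p : MvPolynomial σ K, p.IsHomogeneous d ∧
      ∀ b, eval b p = φ (Λ b e))
    (a : σ → K) (ha : Function.Injective (Λ a)) :
    ∃ D : MvPolynomial σ K, D.IsHomogeneous (d * Module.finrank K E) ∧ eval a D ≠ 0 ∧
      ∀ b, eval b D ≠ 0 → Function.Injective (Λ b) := by
  classical
  set N := Module.finrank K E with hN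
  let ε : Module.Basis (Fin N) K E := Module.finBasis K E
  have hli : LinearIndependent K (fun i => Λ a (ε i)) :=
    ε.linearIndependent.map' (Λ a) (LinearMap.ker_eq_bot.mpr ha)
  have hφ : ∀ j, ∃ φ : W →ₗ[K] K, ∀ i, φ (Λ a (ε i)) = if i = j then 1 else 0 := by
    intro j
    let B := Module.Basis.span hli
    obtain ⟨φ, hφ⟩ := LinearMap.exists_extend (B.coord j)
    refine ⟨φ, fun i => ?_⟩
    have hmem : Λ a (ε i) ∈ Submodule.span K (Set.range fun i => Λ a (ε i)) :=
      Submodule.subset_span ⟨i, rfl⟩
    have h1 := LinearMap.congr_fun hφ ⟨_, hmem⟩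
    simp only [LinearMap.comp_apply, Submodule.subtype_apply] at h1
    rw [h1]
    have h2 : (⟨Λ a (ε i), hmem⟩ : Submodule.span K (Set.range fun i => Λ a (ε i))) = B i := by
      apply Subtype.ext
      rw [Module.Basis.span_apply]
    rw [h2, Module.Basis.coord_apply, Module.Basis.repr_self, Finsupp.single_apply]
  choose φ hφ using hφ
  choose p hp_hom hp_eval using fun (ij : Fin N × Fin N) => hpoly (ε ij.2) (φ ij.1)
  set M : Matrix (Fin N) (Fin N) (MvPolynomial σ K) := Matrix.of fun j i => p (j, i) with hM
  have hMb : ∀ b j i, (eval b).mapMatrix M j i = φ j (Λ b (ε i)) := by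
    intro b j i
    simp [hM, hp_eval]
  refine ⟨M.det, ?_, ?_, ?_⟩
  · have := det_isHomogeneous M d (fun j i => hp_hom (j, i))
    simpa using this
  · have h1 : eval a M.det = ((eval a).mapMatrix M).det := RingHom.map_det _ _
    have h2 : (eval a).mapMatrix M = 1 := by
      ext j i
      rw [hMb, hφ, Matrix.one_apply]
      simp [eq_comm]
    rw [h1, h2, Matrix.det_one]
    exact one_ne_zero
  · intro b hb
    have h1 : eval b M.det = ((eval b).mapMatrix M).det := RingHom.map_det _ _
    rw [h1] at hb
    rw [← LinearMap.ker_eq_bot, LinearMap.ker_eq_bot']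
    intro e he
    have hc : ((eval b).mapMatrix M).mulVec (fun i => ε.repr e i) = 0 := by
      funext j
      have : ((eval b).mapMatrix M).mulVec (fun i => ε.repr e i) j = φ j (Λ b e) := by
        conv_rhs => rw [← ε.sum_repr e]
        simp only [map_sum, map_smul, smul_eq_mul, Matrix.mulVec, dotProduct]
        refine Finset.sum_congr rfl fun i _ => ?_
        rw [hMb, mul_comm]
      rw [this, he, map_zero]
      rfl
    have h0 := Matrix.eq_zero_of_mulVec_eq_zero hb hc
    have h3 : ε.repr e = 0 := by
      ext i
      exact congrFun h0 i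
    exact (LinearEquiv.map_eq_zero_iff _).mp h3

end Groth.Agent.Helper20.TPtB
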