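import Groth.Agent.Lib.Helper20.TPtA
import Groth.Agent.Lib.Helper20.TPtB

/-!
# T-points of a cubic surface: the linear-algebra criterion (towards S19500)

A polynomial family of linear maps `Lam F k i₁ b` which is injective iff `b` is not a T-point (near
a given smooth point).
-/

open MvPolynomial

namespace Groth.Agent.Helper20.TPtC

open Groth.Agent.Helper20.CubicTaylor Groth.Agent.Helper20.CubicPolar
  Groth.Agent.Helper20.CubicSing Groth.Agent.Helper20.TPtA

universe u

variable {K : Type u} [Field K]

section Psi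

variable (a h₁ h₂ : Fin 4 → K)

/-- Restriction of a polynomial to the span of three vectors. -/
noncomputable def psi : MvPolynomial (Fin 4) K →ₐ[K] MvPolynomial (Fin 3) K :=
  aeval (fun i => C (a i) * X 0 + C (h₁ i) * X 1 + C (h₂ i) * X 2)

lemma eval_psi (y : Fin 3 → K) (G : MvPolynomial (Fin 4) K) :
    eval y (psi a h₁ h₂ G) = eval (y 0 • a + y 1 • h₁ + y 2 • h₂) G := by
  rw [psi, eval_aeval_poly]
  have : (fun j => eval y (C (a j) * X 0 + C (h₁ j) * X 1 + C (h₂ j) * X 2)) =
      y 0 • a + y 1 • h₁ + y 2 • h₂ := by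
    funext i
    simp [mul_comm]
  rw [this]

lemma psi_isHomogeneous {G : MvPolynomial (Fin 4) K} {d : ℕ} (hG : G.IsHomogeneous d) :
    (psi a h₁ h₂ G).IsHomogeneous d := by
  have := hG.aeval (fun i => (C (a i) * X 0 + C (h₁ i) * X 1 + C (h₂ i) * X 2 :
      MvPolynomial (Fin 3) K)) (n := 1)
    (fun i => by
      apply IsHomogeneous.add
      · apply IsHomogeneous.add
        · exact isHomogeneous_C_mul_X _ _
        · exact isHomogeneous_C_mul_X _ _
      · exact isHomogeneous_C_mul_X _ _)
  rw [one_mul] at this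
  exact this

end Psi

theorem setOf_degree_eq4 (e : ℕ) :
    {d : Fin 4 →₀ ℕ | d.degree = e} =
      ↑((Finset.univ : Finset (Fin 4)).finsuppAntidiag e) := by
  ext α
  rw [Set.mem_setOf_eq, Finset.mem_coe, Finset.mem_finsuppAntidiag, Finsupp.degree_eq_sum]
  exact ⟨fun h => ⟨h, Finset.subset_univ _⟩, fun h => h.1⟩

theorem S_eq (e : ℕ) : homogeneousSubmodule (Fin 4) K e =
    restrictSupport K
      (↑((Finset.univ : Finset (Fin 4)).finsuppAntidiag e) : Set (Fin 4 →₀ ℕ)) := by
  rw [← setOf_degree_eq4]
  exact homogeneousSubmodule_eq_finsupp_supported (Fin 4) K e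

instance finite_S (e : ℕ) : Module.Finite K (homogeneousSubmodule (Fin 4) K e) := by
  rw [S_eq]
  exact Module.Finite.of_basis (basisRestrictSupport K _)

/-- Quadratic forms. -/
abbrev S2 (K : Type u) [Field K] := homogeneousSubmodule (Fin 4) K 2

/-- The parameter space. -/
abbrev E (K : Type u) [Field K] := (Fin 3 → K) × (S2 K) × K

/-- Linear forms not involving the `k`-th variable. -/
noncomputable def mα (k : Fin 4) : (Fin 3 → K) →ₗ[K] MvPolynomial (Fin 4) K :=
  ∑ j : Fin 3, (LinearMap.proj j : (Fin 3 → K) →ₗ[K] K).smulRight (X (k.succAbove j))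

lemma mα_apply (k : Fin 4) (α : Fin 3 → K) :
    mα k α = ∑ j, C (α j) * X (k.succAbove j) := by
  simp [mα, MvPolynomial.smul_eq_C_mul]

lemma mα_isHomogeneous (k : Fin 4) (α : Fin 3 → K) : (mα k α).IsHomogeneous 1 := by
  rw [mα_apply]
  apply IsHomogeneous.sum
  intro j _
  exact isHomogeneous_C_mul_X _ _

lemma eval_mα (k : Fin 4) (α : Fin 3 → K) (x : Fin 4 → K) :
    eval x (mα k α) = ∑ j, α j * x (k.succAbove j) := by
  rw [mα_apply]
  simp

/-- The family of linear maps. -/
noncomputable def Lam (F : MvPolynomial (Fin 4) K) (k i₁ : Fin 4) (b : Fin 4 → K) :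
    E K →ₗ[K] MvPolynomial (Fin 4) K :=
  (∑ l : Fin 4, (b i₁ * b l) • ((LinearMap.mulRight K (pderiv l F)).comp
      ((mα k).comp (LinearMap.fst K (Fin 3 → K) (S2 K × K))))) +
  (∑ l : Fin 4, (eval b (pderiv l F)) •
      ((LinearMap.mulLeft K (X l : MvPolynomial (Fin 4) K)).comp
        ((Submodule.subtype (S2 K)).comp ((LinearMap.fst K (S2 K) K).comp
          (LinearMap.snd K (Fin 3 → K) (S2 K × K)))))) +
  (eval b (pderiv k F)) • ((LinearMap.toSpanSingleton K (MvPolynomial (Fin 4) K) F).comp
      ((LinearMap.snd K (S2 K) K).comp (LinearMap.snd K (Fin 3 → K) (S2 K × K))))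

lemma Lam_apply (F : MvPolynomial (Fin 4) K) (k i₁ : Fin 4) (b : Fin 4 → K)
    (α : Fin 3 → K) (n : S2 K) (β : K) :
    Lam F k i₁ b (α, n, β) =
      ∑ l : Fin 4, (b i₁ * b l) • (mα k α * pderiv l F) +
      ∑ l : Fin 4, (eval b (pderiv l F)) • (X l * (n : MvPolynomial (Fin 4) K)) +
      (eval b (pderiv k F)) • (β • F) := by
  simp [Lam, LinearMap.sum_apply]

lemma Lam_eq (F : MvPolynomial (Fin 4) K) (k i₁ : Fin 4) (b : Fin 4 → K)
    (α : Fin 3 → K) (n : S2 K) (β : K) :
    Lam F k i₁ b (α, n, β) =
      C (b i₁) * mα k α * pq F b + tl F b * (n : MvPolynomial (Fin 4) K) +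
        C (β * eval b (pderiv k F)) * F := by
  rw [Lam_apply, pq_eq, tl, Finset.mul_sum, Finset.sum_mul]
  congr 1
  · congr 1
    · refine Finset.sum_congr rfl fun l _ => ?_
      rw [MvPolynomial.smul_eq_C_mul, C_mul]
      ring
    · refine Finset.sum_congr rfl fun l _ => ?_
      rw [MvPolynomial.smul_eq_C_mul]
      ring
  · rw [MvPolynomial.smul_eq_C_mul, MvPolynomial.smul_eq_C_mul, C_mul]
    ring

lemma Lam_poly {F : MvPolynomial (Fin 4) K} (hF : F.IsHomogeneous 3) (k i₁ : Fin 4) (e : E K)
    (φ : MvPolynomial (Fin 4) K →ₗ[K] K) :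
    ∃ p : MvPolynomial (Fin 4) K, p.IsHomogeneous 2 ∧ ∀ b, eval b p = φ (Lam F k i₁ b e) := by
  obtain ⟨α, n, β⟩ := e
  refine ⟨∑ l : Fin 4, C (φ (mα k α * pderiv l F)) * (X i₁ * X l) +
    ∑ l : Fin 4, C (φ (X l * (n : MvPolynomial (Fin 4) K))) * pderiv l F +
    C (β * φ F) * pderiv k F, ?_, ?_⟩
  · apply IsHomogeneous.add
    · apply IsHomogeneous.add
      · apply IsHomogeneous.sum
        intro l _
        exact ((isHomogeneous_X K i₁).mul (isHomogeneous_X K l)).C_mul _
      · apply IsHomogeneous.sum
        intro l _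
        exact (hF.pderiv).C_mul _
    · exact (hF.pderiv).C_mul _
  · intro b
    rw [Lam_apply]
    simp only [map_add, map_sum, map_mul, eval_C, eval_X, map_smul, smul_eq_mul]
    congr 1
    · congr 1
      · refine Finset.sum_congr rfl fun l _ => ?_
        ring
      · refine Finset.sum_congr rfl fun l _ => ?_
        ring
    · ring

section Crit

variable [CharZero K]

theorem not_injective_of_TP {F : MvPolynomial (Fin 4) K} (hF : F.IsHomogeneous 3)
    (k i₁ : Fin 4) (b : Fin 4 → K) (hFb : eval b F = 0) (i₀ : Fin 4)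
    (hb : eval b (pderiv i₀ F) ≠ 0) (hT : TP F b) :
    ¬ Function.Injective (Lam F k i₁ b) := by
  classical
  haveI : Infinite K := Infinite.of_injective (Nat.cast : ℕ → K) Nat.cast_injective
  intro hinj
  have hker : ∀ e : E K, Lam F k i₁ b e = 0 → e = 0 := fun e he =>
    hinj (by rw [he, map_zero])
  by_cases hi₁ : b i₁ = 0
  · have := hker (Pi.single 0 1, 0, 0) (by
      rw [Lam_eq, hi₁]
      simp)
    have h0 := congrArg (fun e : E K => e.1 0) this
    simp at h0
  by_cases hk : eval b (pderiv k F) = 0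
  · have := hker (0, 0, 1) (by
      rw [Lam_eq, hk]
      simp)
    have h0 := congrArg (fun e : E K => e.2.2) this
    simp at h0
  rcases of_TP hF b hFb hT with h | ⟨m, hm, h⟩
  · have hmem : pq F b ∈ Ideal.span {tl F b} := by
      apply mem_span_of_vanish (fun i => eval b (pderiv i F)) i₀ hb
      intro x hx
      apply h
      rw [eval_tl]
      exact hx
    obtain ⟨n', hn', hpq⟩ := exists_hom_cofactor (e := 1) (pq_isHomogeneous hF b)
      (tl_isHomogeneous F b) hmem
    have hn2 : (-(C (b i₁) * X (k.succAbove 0) * n')).IsHomogeneous 2 := by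
      apply IsHomogeneous.neg
      have := ((isHomogeneous_X K (k.succAbove (0 : Fin 3))).mul hn').C_mul (b i₁)
      simpa [mul_assoc] using this
    have := hker (Pi.single 0 1, ⟨_, (mem_homogeneousSubmodule _ _).mpr hn2⟩, 0) (by
      rw [Lam_eq, hpq, mα_apply]
      simp [Fin.sum_univ_three, Pi.single_apply]
      ring)
    have h0 := congrArg (fun e : E K => e.1 0) this
    simp at h0
  · obtain ⟨φ, rfl⟩ := exists_linear_of_hom_one m hm
    set dF : Fin 4 → K := fun i => eval b (pderiv i F) with hdF
    set ei : Fin 4 → (Fin 4 → K) := fun i j => if i = j then 1 else 0 with hei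
    set γ : K := φ (ei k) / dF k with hγ
    set α : Fin 3 → K := fun j => φ (ei (k.succAbove j)) - γ * dF (k.succAbove j) with hα
    have hm₀ : linPoly φ - C γ * tl F b = mα k α := by
      rw [linPoly, tl, mα_apply, Finset.mul_sum, ← Finset.sum_sub_distrib,
        Fin.sum_univ_succAbove _ k]
      have hk0 : C (φ (ei k)) * X k - C γ * (C (dF k) * X k) = (0 : MvPolynomial (Fin 4) K) := by
        have hdk : dF k ≠ 0 := hk
        have : φ (ei k) = γ * dF k := by
          rw [hγ]
          field_simp
        rw [this, C_mul]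
        ring
      rw [hk0, zero_add]
      refine Finset.sum_congr rfl fun j _ => ?_
      simp only [hα, C_sub, C_mul]
      ring
    have hvan : F - pq F b * mα k α ∈ Ideal.span {tl F b} := by
      apply mem_span_of_vanish dF i₀ hb
      intro x hx
      have hxT : eval x (tl F b) = 0 := by
        rw [eval_tl]
        exact hx
      rw [← hm₀, map_sub, map_mul, map_sub, map_mul, hxT, mul_zero, sub_zero, h x hxT, sub_self]
    have hhom3 : (F - pq F b * mα k α).IsHomogeneous 3 :=
      hF.sub ((pq_isHomogeneous hF b).mul (mα_isHomogeneous k α))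
    obtain ⟨n'', hn'', hF'⟩ := exists_hom_cofactor (e := 2) hhom3 (tl_isHomogeneous F b) hvan
    have := hker (-(b i₁)⁻¹ • α, ⟨-n'', (mem_homogeneousSubmodule _ _).mpr hn''.neg⟩, (dF k)⁻¹) (by
      rw [Lam_eq, map_smul, MvPolynomial.smul_eq_C_mul]
      have h1 : (C (b i₁) : MvPolynomial (Fin 4) K) * (C (-(b i₁)⁻¹) * mα k α) = - mα k α := by
        rw [← mul_assoc, ← C_mul, mul_neg, mul_inv_cancel₀ hi₁]
        simp
      have h2 : (dF k)⁻¹ * eval b (pderiv k F) = 1 := inv_mul_cancel₀ hk
      rw [h1, h2, C_1, one_mul]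
      show -mα k α * pq F b + tl F b * (-n'') + F = 0
      linear_combination hF')
    have h0 := congrArg (fun e : E K => e.2.2) this
    simp at h0
    exact hk h0

variable [IsAlgClosed K]

theorem injective_of_not_TP {F : MvPolynomial (Fin 4) K} (hF : F.IsHomogeneous 3)
    (k i₁ : Fin 4) (a : Fin 4 → K) (hFa : eval a F = 0)
    (hk : eval a (pderiv k F) ≠ 0) (hi₁ : a i₁ ≠ 0) (hT : ¬ TP F a) :
    Function.Injective (Lam F k i₁ a) := by
  classical
  haveI : Infinite K := Infinite.of_injective (Nat.cast : ℕ → K) Nat.cast_injective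
  rw [← LinearMap.ker_eq_bot, LinearMap.ker_eq_bot']
  rintro ⟨α, n, β⟩ he
  rw [Lam_eq] at he
  have htl0 : tl F a ≠ 0 := by
    intro h0
    have := congrArg (eval (Pi.single k 1)) h0
    rw [eval_tl, map_zero] at this
    simp [Pi.single_apply] at this
    exact hk this
  by_cases hβ : β = 0
  · subst hβ
    rw [zero_mul, C_0, zero_mul, add_zero] at he
    have hprod : ∀ x, eval x (tl F a) = 0 → eval x (mα k α) * eval x (pq F a) = 0 := by
      intro x hx
      have := congrArg (eval x) he
      rw [map_add, map_mul, map_mul, map_mul, eval_C, hx, zero_mul, add_zero, map_zero] at this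
      rcases mul_eq_zero.mp this with h | h
      · rcases mul_eq_zero.mp h with h' | h'
        · exact absurd h' hi₁
        · rw [h', zero_mul]
      · rw [h, mul_zero]
    obtain ⟨h₁, h₂, c₀, cα, cβ, hh₁, hh₂, -, hspan⟩ := tangent_coords hF a hFa k hk
    have hcomb : ∀ y : Fin 3 → K, eval (y 0 • a + y 1 • h₁ + y 2 • h₂) (tl F a) = 0 := by
      intro y
      rw [eval_tl_comb, eval_tl_self hF a hFa, hh₁, hh₂]
      ring
    have hψ : psi a h₁ h₂ (mα k α) * psi a h₁ h₂ (pq F a) = 0 := by
      apply MvPolynomial.funext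
      intro y
      rw [map_mul, eval_psi, eval_psi, map_zero]
      exact hprod _ (hcomb y)
    have hvan_of : ∀ G : MvPolynomial (Fin 4) K, psi a h₁ h₂ G = 0 →
        ∀ x, eval x (tl F a) = 0 → eval x G = 0 := by
      intro G hG x hx
      have := congrArg (eval ![c₀ x, cα x, cβ x]) hG
      have e0 : (![c₀ x, cα x, cβ x] : Fin 3 → K) 0 = c₀ x := rfl
      have e1 : (![c₀ x, cα x, cβ x] : Fin 3 → K) 1 = cα x := rfl
      have e2 : (![c₀ x, cα x, cβ x] : Fin 3 → K) 2 = cβ x := rfl
      rw [eval_psi, map_zero, e0, e1, e2, ← hspan x hx] at this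
      exact this
    rcases mul_eq_zero.mp hψ with h | h
    · have hα : α = 0 := by
        funext j
        set z : Fin 3 → K := Pi.single j 1 with hz
        set x : Fin 4 → K := Fin.insertNth (α := fun _ => K) k
          (-(∑ j', eval a (pderiv (k.succAbove j') F) * z j') / eval a (pderiv k F)) z with hx
        have hxk : x k =
            -(∑ j', eval a (pderiv (k.succAbove j') F) * z j') / eval a (pderiv k F) := by
          simp [hx]
        have hxs : ∀ j', x (k.succAbove j') = z j' := by
          intro j'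
          simp [hx]
        have hxT : eval x (tl F a) = 0 := by
          rw [eval_tl, Fin.sum_univ_succAbove _ k]
          simp only [hxs]
          rw [hxk]
          field_simp
          ring
        have := hvan_of _ h x hxT
        rw [eval_mα] at this
        simp only [hxs] at this
        simpa [hz, Pi.single_apply] using this
      subst hα
      rw [map_zero, mul_zero, zero_mul, zero_add] at he
      have hn : (n : MvPolynomial (Fin 4) K) = 0 := (mul_eq_zero.mp he).resolve_left htl0
      have hn' : n = 0 := Subtype.ext hn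
      rw [hn']
      rfl
    · exfalso
      exact hT (TP_of_pq_vanish hF a hFa k hk (hvan_of _ h))
  · exfalso
    apply hT
    set c := β * eval a (pderiv k F) with hc
    have hc0 : c ≠ 0 := mul_ne_zero hβ hk
    refine TP_of_pq_mul hF a hFa k hk (C (-(c⁻¹ * a i₁)) * mα k α)
      ((mα_isHomogeneous k α).C_mul _) ?_
    intro x hx
    have := congrArg (eval x) he
    rw [map_add, map_add, map_mul, map_mul, map_mul, map_mul, eval_C, eval_C, hx, zero_mul,
      add_zero, map_zero] at this
    rw [map_mul, eval_C]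
    have h2 : eval x F = c⁻¹ * (c * eval x F) := by
      field_simp
    have h3 : c * eval x F = -(a i₁ * eval x (mα k α) * eval x (pq F a)) := by
      linear_combination this
    rw [h2, h3]
    ring

end Crit

end Groth.Agent.Helper20.TPtC
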