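import Groth.Agent.Lib.Helper20.TPtC

/-!
# T-points of a cubic surface: the Bezout argument on the tangent plane (towards S19500)
-/

open MvPolynomial

namespace Groth.Agent.Helper20.TPtD

open Groth.Agent.Helper20.CubicTaylor Groth.Agent.Helper20.CubicPolar
  Groth.Agent.Helper20.CubicSing Groth.Agent.Helper20.TPtA Groth.Agent.Helper20.TPtC

universe u

variable {K : Type u} [Field K]

/-- The restriction of a form of degree `d` to a line `x + r v` has degree at most `d` and
`r^d`-coefficient `p v`. -/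
lemma lineP_hom [Infinite K] {n d : ℕ} (p : MvPolynomial (Fin n) K) (hp : p.IsHomogeneous d)
    (x v : Fin n → K) :
    (lineP x v p).natDegree ≤ d ∧ (lineP x v p).coeff d = eval v p := by
  classical
  obtain ⟨c, hc⟩ := binary_form p hp x v
  have hG : lineP x v p =
      ∑ k ∈ Finset.range (d + 1), Polynomial.C (c k) * Polynomial.X ^ (d - k) := by
    apply Polynomial.funext
    intro r
    rw [eval_lineP, Polynomial.eval_finsetSum]
    have := hc 1 r
    rw [one_smul] at this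
    rw [this]
    refine Finset.sum_congr rfl fun k _ => ?_
    simp
  have hc0 : c 0 = eval v p := by
    have := hc 0 1
    rw [zero_smul, one_smul, zero_add] at this
    rw [this, Finset.sum_eq_single 0]
    · simp
    · intro k _ hk
      simp [zero_pow hk]
    · intro h
      exact absurd (Finset.mem_range.mpr (Nat.succ_pos d)) h
  constructor
  · rw [hG]
    apply Polynomial.natDegree_sum_le_of_forall_le
    intro k _
    exact (Polynomial.natDegree_C_mul_X_pow_le _ _).trans (Nat.sub_le d k)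
  · rw [hG, Polynomial.finset_sum_coeff, Finset.sum_eq_single 0]
    · simp [hc0]
    · intro k hk hk0
      rw [Polynomial.coeff_C_mul_X_pow, if_neg]
      have := Finset.mem_range.mp hk
      omega
    · intro h
      exact absurd (Finset.mem_range.mpr (Nat.succ_pos d)) h

section Factor

variable [CharZero K] [IsAlgClosed K]

/-- Every nonunit factor of the tangent plane section at a smooth non-T-point vanishes at the
point. -/
lemma factor_vanish {F : MvPolynomial (Fin 4) K} (hF : F.IsHomogeneous 3)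
    (a : Fin 4 → K) (hFa : eval a F = 0) (k : Fin 4) (hk : eval a (pderiv k F) ≠ 0)
    (hT : ¬ TP F a) (h₁ h₂ : Fin 4 → K) (c₀ cα cβ : (Fin 4 → K) →ₗ[K] K)
    (hh₁ : eval h₁ (tl F a) = 0) (hh₂ : eval h₂ (tl F a) = 0)
    (hspan : ∀ x, eval x (tl F a) = 0 → x = c₀ x • a + cα x • h₁ + cβ x • h₂)
    (p r : MvPolynomial (Fin 3) K) (hpr : psi a h₁ h₂ F = p * r) (hp : ¬ IsUnit p) :
    eval ![1, 0, 0] p = 0 := by
  classical
  haveI : Infinite K := Infinite.of_injective (Nat.cast : ℕ → K) Nat.cast_injective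
  set g := psi a h₁ h₂ F with hg
  set e₀ : Fin 3 → K := ![1, 0, 0] with he₀
  have hghom : g.IsHomogeneous 3 := psi_isHomogeneous a h₁ h₂ hF
  -- coordinates
  have hcoord : ∀ x, eval x (tl F a) = 0 → eval x F = eval ![c₀ x, cα x, cβ x] g := by
    intro x hx
    have e0 : (![c₀ x, cα x, cβ x] : Fin 3 → K) 0 = c₀ x := rfl
    have e1 : (![c₀ x, cα x, cβ x] : Fin 3 → K) 1 = cα x := rfl
    have e2 : (![c₀ x, cα x, cβ x] : Fin 3 → K) 2 = cβ x := rfl
    rw [hg, eval_psi, e0, e1, e2, ← hspan x hx]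
  have hg0 : g ≠ 0 := by
    intro h0
    apply hT
    refine ⟨0, 0, 0, isHomogeneous_zero _ _ _, isHomogeneous_zero _ _ _,
      isHomogeneous_zero _ _ _, ?_⟩
    apply mem_span_of_vanish (fun i => eval a (pderiv i F)) k hk
    intro x hx
    have hxT : eval x (tl F a) = 0 := by
      rw [eval_tl]
      exact hx
    rw [map_sub, hcoord x hxT, h0]
    simp
  have hpr0 : p * r ≠ 0 := by
    rw [← hpr]
    exact hg0
  have hp0 : p ≠ 0 := left_ne_zero_of_mul hpr0
  have hr0 : r ≠ 0 := right_ne_zero_of_mul hpr0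
  have hhom := Groth.Agent.Lib.Helper2.MvPolyHom.isHomogeneous_of_mul (hpr ▸ hghom) hpr0
  obtain ⟨hphom, hrhom, hdeg⟩ := hhom
  have hdp : 1 ≤ p.totalDegree := by
    by_contra hlt
    have h0 : p.totalDegree = 0 := by omega
    have hC := totalDegree_eq_zero_iff_eq_C.mp h0
    apply hp
    rw [hC]
    apply IsUnit.map
    rw [isUnit_iff_ne_zero]
    intro hc
    rw [hc, C_0] at hC
    exact hp0 hC
  by_contra hπ
  -- the expansion of g along e₀
  have hcombT : ∀ w : Fin 3 → K, eval (w 1 • h₁ + w 2 • h₂) (tl F a) = 0 := by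
    intro w
    have := eval_tl_comb F a h₁ h₂ 0 (w 1) (w 2) 0
    rw [zero_smul, add_zero] at this
    rw [this, hh₁, hh₂]
    ring
  have hgexp : ∀ w : Fin 3 → K, w 0 = 0 → ∀ s : K, eval (w + s • e₀) g =
      s * eval (w 1 • h₁ + w 2 • h₂) (pq F a) + eval (w 1 • h₁ + w 2 • h₂) F := by
    intro w hw s
    rw [hg, eval_psi]
    have h0 : (w + s • e₀) 0 = s := by simp [he₀, hw]
    have h1 : (w + s • e₀) 1 = w 1 := by simp [he₀]
    have h2 : (w + s • e₀) 2 = w 2 := by simp [he₀]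
    rw [h0, h1, h2]
    have : s • a + w 1 • h₁ + w 2 • h₂ = (w 1 • h₁ + w 2 • h₂) + s • a := by abel
    rw [this, expand_F hF a hFa _ (hcombT w)]
  have hglin : ∀ w : Fin 3 → K, w 0 = 0 → (lineP w e₀ g).natDegree ≤ 1 := by
    intro w hw
    have : lineP w e₀ g = Polynomial.C (eval (w 1 • h₁ + w 2 • h₂) F) +
        Polynomial.C (eval (w 1 • h₁ + w 2 • h₂) (pq F a)) * Polynomial.X := by
      apply Polynomial.funext
      intro s
      rw [eval_lineP, hgexp w hw s]
      simp
      ring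
    rw [this]
    exact (Polynomial.natDegree_add_le _ _).trans (max_le (by simp)
      ((Polynomial.natDegree_C_mul_le _ _).trans Polynomial.natDegree_X_le))
  -- degree of the restriction of p
  have hpdeg : ∀ w : Fin 3 → K, (lineP w e₀ p).natDegree = p.totalDegree ∧ lineP w e₀ p ≠ 0 := by
    intro w
    obtain ⟨h1, h2⟩ := lineP_hom p hphom w e₀
    have hne : (lineP w e₀ p).coeff p.totalDegree ≠ 0 := by
      rw [h2]
      exact hπ
    refine ⟨le_antisymm h1 (Polynomial.le_natDegree_of_ne_zero hne), ?_⟩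
    intro h0
    rw [h0, Polynomial.coeff_zero] at hne
    exact hne rfl
  have hmul : ∀ w : Fin 3 → K, lineP w e₀ g = lineP w e₀ p * lineP w e₀ r := by
    intro w
    rw [hpr, lineP_mul]
  have hrdeg : ∀ w : Fin 3 → K, w 0 = 0 → lineP w e₀ r ≠ 0 →
      p.totalDegree = 1 ∧ (lineP w e₀ r).natDegree = 0 := by
    intro w hw hr
    have h1 := hglin w hw
    rw [hmul w, Polynomial.natDegree_mul (hpdeg w).2 hr, (hpdeg w).1] at h1
    omega
  have hwy : ∀ y : Fin 3 → K, (![0, y 1, y 2] : Fin 3 → K) + y 0 • e₀ = y := by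
    intro y
    funext i
    fin_cases i <;> simp [he₀]
  obtain ⟨y₀, hy₀⟩ : ∃ y, eval y r ≠ 0 := by
    by_contra hcon
    push Not at hcon
    apply hr0
    apply MvPolynomial.funext
    intro y
    rw [hcon y, map_zero]
  have hdp1 : p.totalDegree = 1 := by
    have hne : lineP ![0, y₀ 1, y₀ 2] e₀ r ≠ 0 := by
      intro h0
      apply hy₀
      have := eval_lineP ![0, y₀ 1, y₀ 2] e₀ r (y₀ 0)
      rw [h0, Polynomial.eval_zero, hwy] at this
      exact this.symm
    exact (hrdeg _ rfl hne).1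
  have hdr2 : r.totalDegree = 2 := by omega
  have hrconst : ∀ y : Fin 3 → K, eval y r = eval ![0, y 1, y 2] r := by
    intro y
    have hnd : (lineP ![0, y 1, y 2] e₀ r).natDegree = 0 := by
      by_cases h0 : lineP ![0, y 1, y 2] e₀ r = 0
      · rw [h0, Polynomial.natDegree_zero]
      · exact (hrdeg _ rfl h0).2
    have hC := Polynomial.eq_C_of_natDegree_eq_zero hnd
    have h1 := eval_lineP ![0, y 1, y 2] e₀ r (y 0)
    have h2 := eval_lineP ![0, y 1, y 2] e₀ r 0
    rw [hwy] at h1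
    rw [zero_smul, add_zero] at h2
    rw [← h1, ← h2, hC, Polynomial.eval_C, Polynomial.eval_C]
  -- the binary quadratic form
  rw [hdr2] at hrhom
  rw [hdp1] at hphom
  set u₁ : Fin 3 → K := ![0, 1, 0] with hu₁
  set u₂ : Fin 3 → K := ![0, 0, 1] with hu₂
  obtain ⟨c, hc⟩ := binary_form r hrhom u₁ u₂
  have hc' : ∀ α β : K, eval (α • u₁ + β • u₂) r = c 2 * α ^ 2 + c 1 * α * β + c 0 * β ^ 2 := by
    intro α β
    rw [hc α β]
    simp [Finset.sum_range_succ]
    ring
  obtain ⟨l₁, m₁, l₂, m₂, hfac⟩ := quad_factor (c 2) (c 1) (c 0)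
  have hry : ∀ y : Fin 3 → K, eval y r = (l₁ * y 1 + m₁ * y 2) * (l₂ * y 1 + m₂ * y 2) := by
    intro y
    have : (![0, y 1, y 2] : Fin 3 → K) = y 1 • u₁ + y 2 • u₂ := by
      funext i
      fin_cases i <;> simp [hu₁, hu₂]
    rw [hrconst y, this, hc', ← hfac]
  obtain ⟨φp, hφp⟩ := exists_linear_of_hom_one p hphom
  set coords : (Fin 4 → K) →ₗ[K] (Fin 3 → K) := LinearMap.pi ![c₀, cα, cβ] with hcoords
  have hcoords_apply : ∀ x, coords x = ![c₀ x, cα x, cβ x] := by
    intro x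
    funext i
    fin_cases i <;> simp [hcoords]
  apply hT
  refine ⟨linPoly (l₁ • cα + m₁ • cβ), linPoly (l₂ • cα + m₂ • cβ), linPoly (φp.comp coords),
    linPoly_isHomogeneous _, linPoly_isHomogeneous _, linPoly_isHomogeneous _, ?_⟩
  apply mem_span_of_vanish (fun i => eval a (pderiv i F)) k hk
  intro x hx
  have hxT : eval x (tl F a) = 0 := by
    rw [eval_tl]
    exact hx
  rw [map_sub, map_mul, map_mul, eval_linPoly, eval_linPoly, eval_linPoly, sub_eq_zero,
    hcoord x hxT, hpr, map_mul, hry, hφp, eval_linPoly, LinearMap.comp_apply, hcoords_apply]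
  have e1 : (![c₀ x, cα x, cβ x] : Fin 3 → K) 1 = cα x := rfl
  have e2 : (![c₀ x, cα x, cβ x] : Fin 3 → K) 2 = cβ x := rfl
  rw [e1, e2]
  simp only [LinearMap.add_apply, LinearMap.smul_apply, smul_eq_mul]
  ring


lemma psiF_ne_zero {F : MvPolynomial (Fin 4) K}
    (a : Fin 4 → K) (k : Fin 4) (hk : eval a (pderiv k F) ≠ 0)
    (hT : ¬ TP F a) (h₁ h₂ : Fin 4 → K) (c₀ cα cβ : (Fin 4 → K) →ₗ[K] K)
    (hspan : ∀ x, eval x (tl F a) = 0 → x = c₀ x • a + cα x • h₁ + cβ x • h₂) :
    psi a h₁ h₂ F ≠ 0 := by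
  classical
  haveI : Infinite K := Infinite.of_injective (Nat.cast : ℕ → K) Nat.cast_injective
  intro h0
  apply hT
  refine ⟨0, 0, 0, isHomogeneous_zero _ _ _, isHomogeneous_zero _ _ _,
    isHomogeneous_zero _ _ _, ?_⟩
  apply mem_span_of_vanish (fun i => eval a (pderiv i F)) k hk
  intro x hx
  have hxT : eval x (tl F a) = 0 := by
    rw [eval_tl]
    exact hx
  have e0 : (![c₀ x, cα x, cβ x] : Fin 3 → K) 0 = c₀ x := rfl
  have e1 : (![c₀ x, cα x, cβ x] : Fin 3 → K) 1 = cα x := rfl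
  have e2 : (![c₀ x, cα x, cβ x] : Fin 3 → K) 2 = cβ x := rfl
  have := congrArg (eval ![c₀ x, cα x, cβ x]) h0
  rw [eval_psi, e0, e1, e2, ← hspan x hxT, map_zero] at this
  rw [map_sub, this]
  simp

lemma eq_span_of_finrank_one (U : Submodule K (Fin 4 → K)) (hU : Module.finrank K U = 1)
    (b : Fin 4 → K) (hb : b ∈ U) (hb0 : b ≠ 0) : U = Submodule.span K {b} := by
  symm
  apply Submodule.eq_of_le_of_finrank_eq
  · rw [Submodule.span_singleton_le_iff_mem]
    exact hb
  · rw [finrank_span_singleton hb0, hU]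

/-- A form `D` not vanishing at a smooth non-T-point `a` vanishes at only finitely many points of
the tangent plane section at `a`. -/
theorem finite_of_det {F : MvPolynomial (Fin 4) K} (hF : F.IsHomogeneous 3)
    (a : Fin 4 → K) (hFa : eval a F = 0) (k : Fin 4) (hk : eval a (pderiv k F) ≠ 0)
    (hT : ¬ TP F a) (D : MvPolynomial (Fin 4) K) (n : ℕ) (hn : 2 ≤ n) (hD : D.IsHomogeneous n)
    (hDa : eval a D ≠ 0) :
    Set.Finite {U : Submodule K (Fin 4 → K) | Module.finrank K U = 1 ∧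
      (∀ x ∈ U, eval x (tl F a) = 0) ∧ ∀ b ∈ U, b ≠ 0 → eval b F = 0 ∧ eval b D = 0} := by
  classical
  haveI : Infinite K := Infinite.of_injective (Nat.cast : ℕ → K) Nat.cast_injective
  obtain ⟨h₁, h₂, c₀, cα, cβ, hh₁, hh₂, hind, hspan⟩ := tangent_coords hF a hFa k hk
  set f := psi a h₁ h₂ D with hf
  set g := psi a h₁ h₂ F with hg
  have hfhom : f.IsHomogeneous n := psi_isHomogeneous _ _ _ hD
  have hghom : g.IsHomogeneous 3 := psi_isHomogeneous _ _ _ hF
  have hfe : eval ![1, 0, 0] f = eval a D := by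
    rw [hf, eval_psi]
    congr 1
    simp
  have hg0 : g ≠ 0 := psiF_ne_zero a k hk hT h₁ h₂ c₀ cα cβ hspan
  have hrel : IsRelPrime f g := by
    intro d hdf hdg
    by_contra hd
    obtain ⟨r, hr⟩ := hdg
    have h0 := factor_vanish hF a hFa k hk hT h₁ h₂ c₀ cα cβ hh₁ hh₂ hspan d r hr hd
    obtain ⟨f', hf'⟩ := hdf
    apply hDa
    rw [← hfe, hf', map_mul, h0, zero_mul]
  by_contra hinf
  have hinf' : Set.Infinite {U : Submodule K (Fin 4 → K) | Module.finrank K U = 1 ∧
      (∀ x ∈ U, eval x (tl F a) = 0) ∧ ∀ b ∈ U, b ≠ 0 → eval b F = 0 ∧ eval b D = 0} := hinf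
  obtain ⟨T, hTs, hTcard⟩ := hinf'.exists_subset_card_eq (3 * n + 1)
  have hpt : ∀ U : ↥T, ∃ y : Fin 3 → K, y ≠ 0 ∧ eval y f = 0 ∧ eval y g = 0 ∧
      (y 0 • a + y 1 • h₁ + y 2 • h₂) ∈ U.1 := by
    intro U
    obtain ⟨hU1, hUt, hUb⟩ := hTs (Finset.mem_coe.mpr U.2)
    have hne : U.1 ≠ ⊥ := by
      intro h
      rw [h, finrank_bot] at hU1
      omega
    obtain ⟨b, hbU, hb0⟩ := Submodule.exists_mem_ne_zero_of_ne_bot hne
    have hbT := hUt b hbU
    have hbs := hspan b hbT
    have e0 : (![c₀ b, cα b, cβ b] : Fin 3 → K) 0 = c₀ b := rfl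
    have e1 : (![c₀ b, cα b, cβ b] : Fin 3 → K) 1 = cα b := rfl
    have e2 : (![c₀ b, cα b, cβ b] : Fin 3 → K) 2 = cβ b := rfl
    refine ⟨![c₀ b, cα b, cβ b], ?_, ?_, ?_, ?_⟩
    · intro h0
      apply hb0
      have z0 := congrFun h0 0
      have z1 := congrFun h0 1
      have z2 := congrFun h0 2
      rw [e0] at z0
      rw [e1] at z1
      rw [e2] at z2
      rw [hbs, z0, z1, z2]
      simp
    · rw [hf, eval_psi, e0, e1, e2, ← hbs]
      exact (hUb b hbU hb0).2
    · rw [hg, eval_psi, e0, e1, e2, ← hbs]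
      exact (hUb b hbU hb0).1
    · rw [e0, e1, e2, ← hbs]
      exact hbU
  choose y hy0 hyf hyg hyU using hpt
  have hsep : ∀ k l : ↥T, k ≠ l → y k ∉ Submodule.span K {y l} := by
    intro k l hkl hmem
    obtain ⟨c, hc⟩ := Submodule.mem_span_singleton.mp hmem
    apply hkl
    apply Subtype.ext
    have hbk : y k 0 • a + y k 1 • h₁ + y k 2 • h₂ =
        c • (y l 0 • a + y l 1 • h₁ + y l 2 • h₂) := by
      rw [← hc]
      simp only [Pi.smul_apply, smul_eq_mul, smul_add, smul_smul]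
    have hbk0 : y k 0 • a + y k 1 • h₁ + y k 2 • h₂ ≠ 0 := by
      intro h0
      obtain ⟨z0, z1, z2⟩ := hind _ _ _ h0
      apply hy0 k
      funext i
      fin_cases i
      · exact z0
      · exact z1
      · exact z2
    have hk1 := (hTs (Finset.mem_coe.mpr k.2)).1
    have hl1 := (hTs (Finset.mem_coe.mpr l.2)).1
    rw [eq_span_of_finrank_one k.1 hk1 _ (hyU k) hbk0,
      eq_span_of_finrank_one l.1 hl1 (y k 0 • a + y k 1 • h₁ + y k 2 • h₂)
        (by rw [hbk]; exact l.1.smul_mem c (hyU l)) hbk0]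
  obtain ⟨h, hh, hh0, hh1⟩ := exists_sep y hsep
  have hcard : Fintype.card ↥T = 3 * n + 1 := by rw [Fintype.card_coe, hTcard]
  obtain ⟨e, he⟩ : ∃ e, Fintype.card ↥T - 1 = n + 3 + e := ⟨2 * n - 3, by omega⟩
  rw [he] at hh
  have hbez := Groth.Agent.Helper25.BezoutA.main n 3 e f g hfhom hghom hg0 hrel
  have := card_le_of_sep f g (n + 3 + e) (n * 3) hbez (by omega) y hyf hyg h hh hh0 hh1
  omega

end Factor

end Groth.Agent.Helper20.TPtD
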