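import Groth.Agent.Lib.Helper20.TPtD

/-!
# A tangent plane at a smooth non-T-point of a cubic surface contains finitely many T-points
(S19500)
-/

open MvPolynomial

namespace Groth.Agent.Helper20.TPtE

open Groth.Agent.Helper20.TPtA Groth.Agent.Helper20.TPtC Groth.Agent.Helper20.TPtD

universe u

theorem main (K : Type u) [Field K] [IsAlgClosed K]
    [CharZero K] (F : MvPolynomial (Fin 4) K) (hF : F.IsHomogeneous 3)
    (tp : (Fin 4 → K) → Prop)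
    (htp : ∀ b : Fin 4 → K, tp b ↔ (b ≠ 0 ∧ MvPolynomial.eval b F = 0 ∧
      (∃ i : Fin 4, MvPolynomial.eval b (MvPolynomial.pderiv i F) ≠ 0) ∧
      ∃ L₁ L₂ L₃ : MvPolynomial (Fin 4) K, L₁.IsHomogeneous 1 ∧ L₂.IsHomogeneous 1 ∧
        L₃.IsHomogeneous 1 ∧
        F - L₁ * L₂ * L₃ ∈ Ideal.span {∑ i : Fin 4,
          MvPolynomial.C (MvPolynomial.eval b (MvPolynomial.pderiv i F)) * MvPolynomial.X i}))
    (a : Fin 4 → K) (haF : MvPolynomial.eval a F = 0)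
    (hsm : ∃ i : Fin 4, MvPolynomial.eval a (MvPolynomial.pderiv i F) ≠ 0) (ha : ¬ tp a)
    (H : Submodule K (Fin 4 → K))
    (hH : ∀ x : Fin 4 → K, x ∈ H ↔ MvPolynomial.eval x (∑ i : Fin 4,
      MvPolynomial.C (MvPolynomial.eval a (MvPolynomial.pderiv i F)) * MvPolynomial.X i) = 0) :
    Set.Finite {U : Submodule K (Fin 4 → K) | Module.finrank K ↥U = 1 ∧ U ≤ H ∧
      ∀ b ∈ U, b ≠ 0 → tp b} := by
  classical
  obtain ⟨k, hk⟩ := hsm
  have ha0 : a ≠ 0 := ne_zero_of_smooth hF a k hk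
  obtain ⟨i₁, hi₁⟩ : ∃ i, a i ≠ 0 := by
    by_contra h
    push Not at h
    exact ha0 (funext h)
  have hT : ¬ TP F a := by
    intro h
    apply ha
    rw [htp]
    exact ⟨ha0, haF, ⟨k, hk⟩, h⟩
  have hinj := injective_of_not_TP hF k i₁ a haF hk hi₁ hT
  obtain ⟨D, hDhom, hDa, hDb⟩ := Groth.Agent.Helper20.TPtB.semicont (Lam F k i₁) 2
    (fun e φ => Lam_poly hF k i₁ e φ) a hinj
  haveI : Nontrivial (E K) := ⟨⟨(0, 0, 1), 0, by simp⟩⟩
  have hpos : 0 < Module.finrank K (E K) := Module.finrank_pos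
  refine (finite_of_det hF a haF k hk hT D (2 * Module.finrank K (E K)) (by omega) hDhom
    hDa).subset ?_
  rintro U ⟨hU1, hUH, hUtp⟩
  refine ⟨hU1, fun x hx => (hH x).mp (hUH hx), fun b hb hb0 => ?_⟩
  obtain ⟨-, hFb, ⟨i₀, hi₀⟩, hTb⟩ := (htp b).mp (hUtp b hb hb0)
  refine ⟨hFb, ?_⟩
  by_contra hne
  exact not_injective_of_TP hF k i₁ b hFb i₀ hi₀ hTb (hDb b hne)

end Groth.Agent.Helper20.TPtE
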