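import Mathlib
import Groth.Prelude.Def_SymTen

universe u

open scoped TensorProduct

namespace Groth.Agent.Helper20.TSColim

open SymTen

section tmapfun
variable (A : Type u) [CommRing A] {B C D : Type u} [CommRing B] [CommRing C] [CommRing D]
  [Algebra A B] [Algebra A C] [Algebra A D] (d : ℕ)

theorem tmap_comp (g : C →ₐ[A] D) (f : B →ₐ[A] C) (y : ⨂[A] _ : Fin d, B) :
    tmap A d (g.comp f) y = tmap A d g (tmap A d f y) := by
  induction y using PiTensorProduct.induction_on with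
  | smul_tprod r x => simp
  | add x y hx hy => simp [hx, hy]

theorem tmap_id (y : ⨂[A] _ : Fin d, B) : tmap A d (AlgHom.id A B) y = y := by
  induction y using PiTensorProduct.induction_on with
  | smul_tprod r x => simp
  | add x y hx hy => simp [hx, hy]

end tmapfun

/-- The hypotheses: `B` is the filtered colimit of the `Bi`. -/
structure Sys (A : Type u) [CommRing A] (B : Type u) [CommRing B] [Algebra A B]
    (ι : Type u) [Preorder ι] (Bi : ι → Type u) [∀ i, CommRing (Bi i)] [∀ i, Algebra A (Bi i)]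
    (t : ∀ i j : ι, i ≤ j → (Bi i →ₐ[A] Bi j)) (φ : ∀ i : ι, Bi i →ₐ[A] B) : Prop where
  hcomp : ∀ (i j : ι) (h : i ≤ j) x, φ j (t i j h x) = φ i x
  hsurj : ∀ b : B, ∃ (i : ι) (x : Bi i), φ i x = b
  hzero : ∀ (i : ι) (x : Bi i), φ i x = 0 → ∃ (j : ι) (h : i ≤ j), t i j h x = 0
  hid : ∀ (i : ι) (h : i ≤ i) x, t i i h x = x
  htrans : ∀ (i j k : ι) (hij : i ≤ j) (hjk : j ≤ k) x,
    t j k hjk (t i j hij x) = t i k (hij.trans hjk) x

section main
variable {A : Type u} [CommRing A] {B : Type u} [CommRing B] [Algebra A B]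
    {ι : Type u} [Preorder ι] [IsDirectedOrder ι] [Nonempty ι]
    {Bi : ι → Type u} [∀ i, CommRing (Bi i)] [∀ i, Algebra A (Bi i)]
    {t : ∀ i j : ι, i ≤ j → (Bi i →ₐ[A] Bi j)} {φ : ∀ i : ι, Bi i →ₐ[A] B}

theorem Sys.exists_lift (S : Sys A B ι Bi t φ) {κ : Type*} [Finite κ] (b : κ → B) :
    ∃ (j : ι) (x : κ → Bi j), ∀ k, φ j (x k) = b k := by
  choose i x hx using fun k => S.hsurj (b k)
  obtain ⟨j, hj⟩ := Finite.exists_le i
  exact ⟨j, fun k => t (i k) j (hj k) (x k), fun k => by rw [S.hcomp, hx]⟩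

theorem Sys.exists_eq (S : Sys A B ι Bi t φ) {κ : Type*} [Finite κ] (j : ι) (x x' : κ → Bi j)
    (h : ∀ k, φ j (x k) = φ j (x' k)) :
    ∃ (j' : ι) (hj : j ≤ j'), ∀ k, t j j' hj (x k) = t j j' hj (x' k) := by
  have h0 : ∀ k, φ j (x k - x' k) = 0 := fun k => by rw [map_sub, h k, sub_self]
  choose i hi hx using fun k => S.hzero j _ (h0 k)
  obtain ⟨j₁, hj₁⟩ := Finite.exists_le i
  obtain ⟨j', hj', hjj'⟩ := exists_ge_ge j₁ j
  refine ⟨j', hjj', fun k => ?_⟩
  have := congrArg (t (i k) j' ((hj₁ k).trans hj')) (hx k)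
  rw [S.htrans, map_zero, map_sub, sub_eq_zero] at this
  exact this

variable (A Bi) in
/-- The `d`-fold tensor powers of the `Bi`. -/
abbrev G (d : ℕ) (i : ι) : Type u := ⨂[A] _ : Fin d, Bi i

variable (A t) in
/-- Transition maps between the tensor powers. -/
noncomputable abbrev f (d : ℕ) (i j : ι) (h : i ≤ j) : G A Bi d i →ₗ[A] G A Bi d j :=
  (tmap A d (t i j h)).toLinearMap

variable (d : ℕ)

omit [IsDirectedOrder ι] [Nonempty ι] in
theorem Sys.directedSystem (S : Sys A B ι Bi t φ) :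
    DirectedSystem (G A Bi d) (fun i j h => ⇑(f A t d i j h)) where
  map_self i x := by
    show tmap A d (t i i le_rfl) x = x
    have : t i i le_rfl = AlgHom.id A (Bi i) := AlgHom.ext (S.hid i le_rfl)
    rw [this, tmap_id]
  map_map k j i hij hjk x := by
    show tmap A d (t j k hjk) (tmap A d (t i j hij) x) = tmap A d (t i k (hij.trans hjk)) x
    rw [← tmap_comp]
    have : (t j k hjk).comp (t i j hij) = t i k (hij.trans hjk) :=
      AlgHom.ext (S.htrans i j k hij hjk)
    rw [this]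

open Classical

variable (A Bi t) in
/-- The direct limit of the tensor powers. -/
abbrev L (d : ℕ) := Module.DirectLimit (G A Bi d) (f A t d)

variable (A Bi t) in
/-- Structure maps into the direct limit. -/
noncomputable abbrev ofL (d : ℕ) (i : ι) : G A Bi d i →ₗ[A] L A Bi t d :=
  Module.DirectLimit.of A ι (G A Bi d) (f A t d) i

theorem Sys.of_tprod_eq (S : Sys A B ι Bi t φ) (j j' : ι) (x : Fin d → Bi j) (x' : Fin d → Bi j')
    (h : ∀ k, φ j (x k) = φ j' (x' k)) :
    ofL A Bi t d j (PiTensorProduct.tprod A x) = ofL A Bi t d j' (PiTensorProduct.tprod A x') := by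
  obtain ⟨j₂, h₁, h₂⟩ := exists_ge_ge j j'
  obtain ⟨j₃, h₃, hx⟩ := S.exists_eq j₂ (fun k => t j j₂ h₁ (x k)) (fun k => t j' j₂ h₂ (x' k))
    (fun k => by rw [S.hcomp, S.hcomp, h k])
  unfold ofL
  rw [← Module.DirectLimit.of_f (hij := h₁.trans h₃),
    ← Module.DirectLimit.of_f (i := j') (hij := h₂.trans h₃)]
  congr 1
  show tmap A d (t j j₃ (h₁.trans h₃)) (PiTensorProduct.tprod A x) =
    tmap A d (t j' j₃ (h₂.trans h₃)) (PiTensorProduct.tprod A x')
  rw [tmap_tprod, tmap_tprod]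
  congr 1
  funext k
  have := hx k
  simp only [S.htrans] at this
  exact this

/-- The multilinear map `B^d → L` (underlying function). -/
noncomputable def Sys.mu0 (S : Sys A B ι Bi t φ) (b : Fin d → B) : L A Bi t d :=
  ofL A Bi t d (S.exists_lift b).choose
    (PiTensorProduct.tprod A (S.exists_lift b).choose_spec.choose)

theorem Sys.mu0_eq (S : Sys A B ι Bi t φ) (b : Fin d → B) (j : ι) (x : Fin d → Bi j)
    (h : ∀ k, φ j (x k) = b k) :
    S.mu0 d b = ofL A Bi t d j (PiTensorProduct.tprod A x) := by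
  unfold Sys.mu0
  exact S.of_tprod_eq d _ _ _ _
    (fun k => by rw [(S.exists_lift b).choose_spec.choose_spec k, h k])

/-- The multilinear map `B^d → L`. -/
noncomputable def Sys.mu (S : Sys A B ι Bi t φ) :
    MultilinearMap A (fun _ : Fin d => B) (L A Bi t d) where
  toFun := S.mu0 d
  map_update_add' := by
    intro _ b k c c'
    obtain ⟨j, x, hx⟩ := S.exists_lift (κ := Fin d ⊕ Fin 2) (Sum.elim b ![c, c'])
    have hb : ∀ l, φ j (x (Sum.inl l)) = b l := fun l => hx (Sum.inl l)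
    have hc : φ j (x (Sum.inr 0)) = c := hx (Sum.inr 0)
    have hc' : φ j (x (Sum.inr 1)) = c' := hx (Sum.inr 1)
    rw [S.mu0_eq d (Function.update b k (c + c')) j
        (Function.update (fun l => x (Sum.inl l)) k (x (Sum.inr 0) + x (Sum.inr 1))) ?_,
      S.mu0_eq d (Function.update b k c) j
        (Function.update (fun l => x (Sum.inl l)) k (x (Sum.inr 0))) ?_,
      S.mu0_eq d (Function.update b k c') j
        (Function.update (fun l => x (Sum.inl l)) k (x (Sum.inr 1))) ?_]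
    · rw [MultilinearMap.map_update_add, map_add]
    all_goals
      intro l
      by_cases hl : l = k
      · subst hl; simp [hc, hc']
      · simp [Function.update_of_ne hl, hb]
  map_update_smul' := by
    intro _ b k r c
    obtain ⟨j, x, hx⟩ := S.exists_lift (κ := Fin d ⊕ Fin 1) (Sum.elim b ![c])
    have hb : ∀ l, φ j (x (Sum.inl l)) = b l := fun l => hx (Sum.inl l)
    have hc : φ j (x (Sum.inr 0)) = c := hx (Sum.inr 0)
    rw [S.mu0_eq d (Function.update b k (r • c)) j
        (Function.update (fun l => x (Sum.inl l)) k (r • x (Sum.inr 0))) ?_,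
      S.mu0_eq d (Function.update b k c) j
        (Function.update (fun l => x (Sum.inl l)) k (x (Sum.inr 0))) ?_]
    · rw [MultilinearMap.map_update_smul, map_smul]
    all_goals
      intro l
      by_cases hl : l = k
      · subst hl; simp [hc]
      · simp [Function.update_of_ne hl, hb]

/-- The inverse map `T(B) → colim T(Bi)`. -/
noncomputable def Sys.Psi (S : Sys A B ι Bi t φ) : (⨂[A] _ : Fin d, B) →ₗ[A] L A Bi t d :=
  PiTensorProduct.lift (S.mu d)

theorem Sys.Psi_tmap (S : Sys A B ι Bi t φ) (i : ι) (y : G A Bi d i) :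
    S.Psi d (tmap A d (φ i) y) = ofL A Bi t d i y := by
  induction y using PiTensorProduct.induction_on with
  | smul_tprod r x =>
    rw [map_smul, map_smul, map_smul, tmap_tprod, Sys.Psi, PiTensorProduct.lift.tprod]
    congr 1
    exact S.mu0_eq d _ i x (fun k => rfl)
  | add x y hx hy => rw [map_add, map_add, map_add, hx, hy]

theorem Sys.tmap_eq_zero (S : Sys A B ι Bi t φ) (i : ι) (y : G A Bi d i)
    (h : tmap A d (φ i) y = 0) : ∃ (j : ι) (hij : i ≤ j), tmap A d (t i j hij) y = 0 := by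
  haveI := S.directedSystem d
  have h1 : ofL A Bi t d i y = 0 := by rw [← S.Psi_tmap, h, map_zero]
  exact Module.DirectLimit.of.zero_exact h1

theorem Sys.tmap_surj (S : Sys A B ι Bi t φ) (z : ⨂[A] _ : Fin d, B) :
    ∃ (i : ι) (y : G A Bi d i), tmap A d (φ i) y = z := by
  induction z using PiTensorProduct.induction_on with
  | smul_tprod r b =>
    obtain ⟨j, x, hx⟩ := S.exists_lift b
    refine ⟨j, r • PiTensorProduct.tprod A x, ?_⟩
    rw [map_smul, tmap_tprod]
    congr 2
    funext k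
    exact hx k
  | add z z' hz hz' =>
    obtain ⟨i, y, rfl⟩ := hz
    obtain ⟨i', y', rfl⟩ := hz'
    obtain ⟨j, h, h'⟩ := exists_ge_ge i i'
    refine ⟨j, tmap A d (t i j h) y + tmap A d (t i' j h') y', ?_⟩
    rw [map_add, ← tmap_comp, ← tmap_comp]
    have e1 : (φ j).comp (t i j h) = φ i := AlgHom.ext (S.hcomp i j h)
    have e2 : (φ j).comp (t i' j h') = φ i' := AlgHom.ext (S.hcomp i' j h')
    rw [e1, e2]

theorem Sys.TS_surj (S : Sys A B ι Bi t φ) (z : TS A B d) :
    ∃ (i : ι) (y : TS A (Bi i) d), TSmap A d (φ i) y = z := by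
  obtain ⟨i, y, hy⟩ := S.tmap_surj d z.1
  have hσ : ∀ σ : Equiv.Perm (Fin d),
      tmap A d (φ i) (PiTensorProduct.reindex A (fun _ : Fin d => Bi i) σ y - y) = 0 := by
    intro σ
    rw [map_sub, tmap_reindex, hy, (mem_TS_iff A B d z.1).1 z.2 σ, sub_self]
  choose jσ hjσ hz using fun σ => S.tmap_eq_zero d i _ (hσ σ)
  obtain ⟨j₁, hj₁⟩ := Finite.exists_le jσ
  have hij : i ≤ j₁ := (hjσ 1).trans (hj₁ 1)
  refine ⟨j₁, ⟨tmap A d (t i j₁ hij) y, fun σ => ?_⟩, ?_⟩
  · rw [← tmap_reindex]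
    have := congrArg (tmap A d (t (jσ σ) j₁ (hj₁ σ))) (hz σ)
    rw [← tmap_comp, map_zero, map_sub, sub_eq_zero] at this
    have e : (t (jσ σ) j₁ (hj₁ σ)).comp (t i (jσ σ) (hjσ σ)) = t i j₁ hij :=
      AlgHom.ext (S.htrans _ _ _ _ _)
    rw [e] at this
    exact this
  · apply Subtype.ext
    show tmap A d (φ j₁) (tmap A d (t i j₁ hij) y) = z.1
    rw [← tmap_comp, (AlgHom.ext (S.hcomp i j₁ hij) : (φ j₁).comp (t i j₁ hij) = φ i), hy]

theorem Sys.TS_eq_zero (S : Sys A B ι Bi t φ) (i : ι) (y : TS A (Bi i) d)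
    (h : TSmap A d (φ i) y = 0) : ∃ (j : ι) (hij : i ≤ j), TSmap A d (t i j hij) y = 0 := by
  have h1 : tmap A d (φ i) y.1 = 0 := congrArg Subtype.val h
  obtain ⟨j, hij, hj⟩ := S.tmap_eq_zero d i y.1 h1
  exact ⟨j, hij, Subtype.ext hj⟩

end main

end Groth.Agent.Helper20.TSColim
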