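import Mathlib

/-!
# Hensel-type root extraction in henselian local rings with algebraically closed residue field
-/

set_option autoImplicit false

namespace Groth.Agent.Helper20.TameK

open Polynomial IsLocalRing

universe u

section Generic

variable {B : Type*} [CommRing B] [HenselianLocalRing B]

/-- Hensel for `Y ^ n - w` when `n` is a unit. -/
theorem hensel_pow {n : ℕ} (hn : IsUnit (n : B)) (w a₀ : B) (ha₀ : IsUnit a₀)
    (h : a₀ ^ n - w ∈ maximalIdeal B) : ∃ y : B, y ^ n = w ∧ y - a₀ ∈ maximalIdeal B := by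
  rcases Nat.eq_zero_or_pos n with rfl | hnpos
  · exfalso
    simp only [Nat.cast_zero, isUnit_zero_iff] at hn
    exact zero_ne_one hn
  obtain ⟨y, hy, hya⟩ := HenselianLocalRing.is_henselian (X ^ n - C w : B[X])
    (monic_X_pow_sub_C w hnpos.ne') a₀ (by simpa using h) (by
      simp only [derivative_sub, derivative_X_pow, derivative_C, sub_zero, eval_mul, eval_C,
        eval_pow, eval_X, eval_natCast]
      exact hn.mul (ha₀.pow _))
  refine ⟨y, ?_, hya⟩
  have : y ^ n - w = 0 := by simpa [IsRoot] using hy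
  exact sub_eq_zero.mp this

end Generic

section Res

variable (O : Type u) [CommRing O] [HenselianLocalRing O]
  (p : ℕ) [Fact p.Prime] [CharP (ResidueField O) p]

theorem isUnit_natCast {n : ℕ} (hn : ¬ p ∣ n) : IsUnit (n : O) := by
  by_contra h
  have h1 : (n : O) ∈ maximalIdeal O := (mem_maximalIdeal _).mpr h
  have h2 : residue O (n : O) = 0 := (residue_eq_zero_iff _).mpr h1
  rw [map_natCast] at h2
  exact hn ((CharP.cast_eq_zero_iff (ResidueField O) p n).mp h2)

variable [IsAlgClosed (ResidueField O)]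

theorem exists_pow_eq_of_isUnit {n : ℕ} (hn0 : n ≠ 0) (hn : ¬ p ∣ n) (v : O) (hv : IsUnit v) :
    ∃ u : O, u ^ n = v ∧ IsUnit u := by
  obtain ⟨z, hz⟩ := IsAlgClosed.exists_pow_nat_eq (residue O v) (Nat.pos_of_ne_zero hn0)
  obtain ⟨u₀, rfl⟩ := residue_surjective z
  have hvr : residue O v ≠ 0 := by
    intro h0
    exact ((mem_maximalIdeal _).mp ((residue_eq_zero_iff _).mp h0)) hv
  have hu₀ : IsUnit u₀ := by
    by_contra h
    have h1 : residue O u₀ = 0 := (residue_eq_zero_iff _).mpr ((mem_maximalIdeal _).mpr h)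
    rw [h1, zero_pow hn0] at hz
    exact hvr hz.symm
  obtain ⟨y, hy, hya⟩ := hensel_pow (isUnit_natCast O p hn) v u₀ hu₀ (by
    rw [← residue_eq_zero_iff, map_sub, map_pow, hz, sub_self])
  refine ⟨y, hy, ?_⟩
  by_contra h
  have h1 : y ∈ maximalIdeal O := (mem_maximalIdeal _).mpr h
  have h2 : u₀ ∈ maximalIdeal O := by
    have := (maximalIdeal O).sub_mem h1 hya
    simpa using this
  exact ((mem_maximalIdeal _).mp h2) hu₀

theorem exists_isPrimitiveRoot {n : ℕ} (hn0 : n ≠ 0) (hn : ¬ p ∣ n) :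
    ∃ ζ : O, IsPrimitiveRoot ζ n := by
  haveI : NeZero (n : ResidueField O) := ⟨by
    intro h
    exact hn ((CharP.cast_eq_zero_iff (ResidueField O) p n).mp h)⟩
  obtain ⟨z, hz⟩ := HasEnoughRootsOfUnity.exists_primitiveRoot (ResidueField O) n
  obtain ⟨u₀, rfl⟩ := residue_surjective z
  have hu₀ : IsUnit u₀ := by
    by_contra h
    have h1 : residue O u₀ = 0 := (residue_eq_zero_iff _).mpr ((mem_maximalIdeal _).mpr h)
    have h2 := hz.pow_eq_one
    rw [h1, zero_pow hn0] at h2
    exact zero_ne_one h2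
  obtain ⟨y, hy, hya⟩ := hensel_pow (isUnit_natCast O p hn) 1 u₀ hu₀ (by
    rw [← residue_eq_zero_iff, map_sub, map_pow, hz.pow_eq_one, map_one, sub_self])
  have hres : residue O y = residue O u₀ := by
    have := (residue_eq_zero_iff _).mpr hya
    rw [map_sub, sub_eq_zero] at this
    exact this
  refine ⟨y, IsPrimitiveRoot.mk_of_lt y (Nat.pos_of_ne_zero hn0) hy ?_⟩
  intro l hl0 hln hyl
  have h3 : (residue O u₀) ^ l = 1 := by
    rw [← hres, ← map_pow, hyl, map_one]
  have h4 := hz.dvd_of_pow_eq_one l h3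
  exact absurd (Nat.le_of_dvd hl0 h4) (by omega)

end Res

end Groth.Agent.Helper20.TameK
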