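import Mathlib
import Groth.Agent.Lib.Helper1.IH1
import Groth.Agent.Lib.Helper20.TameK1

/-!
# Extracting a root of the constant term from a root of a tame Eisenstein polynomial
-/

set_option autoImplicit false

namespace Groth.Agent.Helper20.TameK

open Polynomial IsLocalRing

universe u

/-- A domain finite over a henselian local ring is local. -/
theorem isLocalRing_of_finite_of_isDomain (O : Type u) [CommRing O] [HenselianLocalRing O]
    (B : Type*) [CommRing B] [IsDomain B] [Algebra O B] [Module.Finite O B] : IsLocalRing B := by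
  apply IsLocalRing.of_unique_max_ideal
  obtain ⟨Q, hQ⟩ := Ideal.exists_maximal B
  refine ⟨Q, hQ, ?_⟩
  intro Q' hQ'
  by_contra hne
  obtain ⟨e, he, he1, he2⟩ :=
    Groth.Agent.Helper1.exists_isIdempotentElem_mem_notMem (R := O) Q' Q hne
  rcases (IsIdempotentElem.iff_eq_zero_or_one).mp he with h0 | h1
  · exact he2 (h0 ▸ Q.zero_mem)
  · exact hQ'.ne_top ((Ideal.eq_top_iff_one _).mpr (h1 ▸ he1))

/-- In a DVR, an element of `m \ m²` generates `m`. -/
theorem span_singleton_eq_maximalIdeal {O : Type*} [CommRing O] [IsDomain O]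
    [IsDiscreteValuationRing O] {a : O} (ha : a ∈ maximalIdeal O)
    (ha2 : a ∉ maximalIdeal O ^ 2) : maximalIdeal O = Ideal.span {a} := by
  obtain ⟨ϖ, hϖ⟩ := IsDiscreteValuationRing.exists_irreducible O
  have hm := (IsDiscreteValuationRing.irreducible_iff_uniformizer ϖ).mp hϖ
  rw [hm] at ha
  obtain ⟨t, rfl⟩ := Ideal.mem_span_singleton'.mp ha
  have ht : IsUnit t := by
    by_contra h
    have h1 : t ∈ maximalIdeal O := (mem_maximalIdeal _).mpr h
    rw [hm] at h1
    obtain ⟨s, rfl⟩ := Ideal.mem_span_singleton'.mp h1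
    apply ha2
    rw [hm, Ideal.span_singleton_pow]
    exact Ideal.mem_span_singleton'.mpr ⟨s, by ring⟩
  rw [hm]
  apply le_antisymm
  · rw [Ideal.span_singleton_le_iff_mem]
    obtain ⟨t', rfl⟩ := ht
    exact Ideal.mem_span_singleton'.mpr ⟨(t'⁻¹ : Oˣ), by
      rw [← mul_assoc, Units.inv_mul, one_mul]⟩
  · rw [Ideal.span_singleton_le_iff_mem]
    exact Ideal.mem_span_singleton'.mpr ⟨t, rfl⟩

/-- Key lemma: if `α` is a root of a monic Eisenstein polynomial `f` of degree `e+1` (a unit in
`O`) over a henselian DVR, then `O[α]` contains an `(e+1)`-th root of `-f(0)`. -/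
theorem exists_mem_adjoin_pow_eq (O : Type u) [CommRing O] [IsDomain O]
    [IsDiscreteValuationRing O] [HenselianLocalRing O] (L : Type u) [Field L] [Algebra O L]
    (hinj : Function.Injective (algebraMap O L))
    (f : O[X]) (hmon : f.Monic) (hf : f.IsEisensteinAt (maximalIdeal O))
    (e : ℕ) (hdeg : f.natDegree = e + 1) (he : IsUnit ((e + 1 : ℕ) : O))
    (α : L) (hα : aeval α f = 0) :
    ∃ β ∈ Algebra.adjoin O {α}, β ^ (e + 1) = algebraMap O L (-(f.coeff 0)) := by
  classical
  have hint : IsIntegral O α := ⟨f, hmon, hα⟩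
  obtain ⟨B, hB⟩ : ∃ B : Subalgebra O L, B = Algebra.adjoin O {α} := ⟨_, rfl⟩
  have : Module.Finite O B := by
    rw [hB]
    exact Module.Finite.iff_fg.mpr hint.fg_adjoin_singleton
  have : IsLocalRing B := isLocalRing_of_finite_of_isDomain O B
  have : HenselianLocalRing B := Groth.Agent.Helper1.IH.henselianLocalRing_of_finite O B
  have hinjB : Function.Injective (algebraMap O B) := by
    intro x y hxy
    apply hinj
    exact congrArg Subtype.val hxy
  have : IsLocalHom (algebraMap O B) :=
    RingHom.IsIntegral.isLocalHom (algebraMap_isIntegral_iff.mpr inferInstance) hinjB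
  have hαB : α ∈ B := by
    rw [hB]; exact Algebra.subset_adjoin (Set.mem_singleton α)
  obtain ⟨αB, hαBdef⟩ : ∃ αB : B, αB = ⟨α, hαB⟩ := ⟨_, rfl⟩
  have hαBval : (αB : L) = α := by rw [hαBdef]
  have hroot : aeval αB f = 0 := by
    apply Subtype.val_injective
    rw [← Subalgebra.aeval_coe, hαBval, hα]; rfl
  obtain ⟨a, ha⟩ : ∃ a : O, a = f.coeff 0 := ⟨_, rfl⟩
  have ham : a ∈ maximalIdeal O := by
    rw [ha]; exact hf.mem (by omega)
  have hspan : maximalIdeal O = Ideal.span {a} :=
    span_singleton_eq_maximalIdeal ham (by rw [ha]; exact hf.notMem)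
  have hex : ∀ i : ℕ, ∃ c : O, i < e → f.coeff (i + 1) = a * c := by
    intro i
    by_cases hi : i < e
    · have h1 : f.coeff (i + 1) ∈ maximalIdeal O := hf.mem (by omega)
      rw [hspan] at h1
      obtain ⟨c, hc⟩ := Ideal.mem_span_singleton'.mp h1
      exact ⟨c, fun _ => by rw [← hc, mul_comm]⟩
    · exact ⟨0, fun h => absurd h hi⟩
  choose c hc using hex
  obtain ⟨S, hS⟩ : ∃ S : B, S = ∑ i ∈ Finset.range e, algebraMap O B (c i) * αB ^ (i + 1) :=
    ⟨_, rfl⟩
  have hkey : αB ^ (e + 1) = algebraMap O B (-a) * (1 + S) := by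
    have h1 := hroot
    rw [aeval_eq_sum_range, hdeg, Finset.sum_range_succ, Finset.sum_range_succ'] at h1
    have h2 : f.coeff (e + 1) = 1 := by
      rw [← hdeg]; exact hmon.coeff_natDegree
    have h3 : ∑ i ∈ Finset.range e, f.coeff (i + 1) • αB ^ (i + 1) = algebraMap O B a * S := by
      rw [hS, Finset.mul_sum]
      apply Finset.sum_congr rfl
      intro i hi
      rw [hc i (Finset.mem_range.mp hi), Algebra.smul_def, map_mul, mul_assoc]
    rw [h3, h2, ← ha, one_smul, pow_zero, Algebra.smul_def, mul_one] at h1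
    rw [map_neg]
    linear_combination h1
  have hαm : αB ∈ maximalIdeal B := by
    rw [mem_maximalIdeal, mem_nonunits_iff]
    intro hu
    have h1 : IsUnit (algebraMap O B (-a) * (1 + S)) := hkey ▸ hu.pow (e + 1)
    have h2 : IsUnit (algebraMap O B (-a)) := isUnit_of_mul_isUnit_left h1
    have h3 : IsUnit (-a) := isUnit_of_map_unit (algebraMap O B) _ h2
    exact ((mem_maximalIdeal _).mp ham) (by simpa using h3)
  have hSm : S ∈ maximalIdeal B := by
    rw [hS]
    apply Ideal.sum_mem
    intro i _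
    apply Ideal.mul_mem_left
    exact Ideal.pow_mem_of_mem _ hαm _ (by omega)
  obtain ⟨y, hy, hy1⟩ := hensel_pow (B := B) (n := e + 1)
    (by simpa using he.map (algebraMap O B)) (1 + S) 1 isUnit_one (by
      have : (1 : B) ^ (e + 1) - (1 + S) = -S := by ring
      rw [this]
      exact neg_mem hSm)
  have hyu : IsUnit y := by
    by_contra h
    have h1 : y ∈ maximalIdeal B := (mem_maximalIdeal _).mpr h
    have h2 : (1 : B) ∈ maximalIdeal B := by
      have := (maximalIdeal B).sub_mem h1 hy1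
      simpa using this
    exact (Ideal.ne_top_iff_one _).mp (maximalIdeal.isMaximal B).ne_top h2
  obtain ⟨yu, rfl⟩ := hyu
  have hβ : (αB * ((yu⁻¹ : Bˣ) : B)) ^ (e + 1) = algebraMap O B (-a) := by
    rw [mul_pow, hkey, ← hy, mul_assoc, ← mul_pow, Units.mul_inv, one_pow, mul_one]
  refine ⟨((αB * ((yu⁻¹ : Bˣ) : B) : B) : L), ?_, ?_⟩
  · rw [← hB]; exact (αB * ((yu⁻¹ : Bˣ) : B)).2
  · have := congrArg Subtype.val hβ
    rw [← ha]
    simpa using this

end Groth.Agent.Helper20.TameK
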