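import Mathlib

/-!
# Field-theoretic core: an irreducible polynomial with a root in a Kummer extension of the same
degree has that Kummer extension as splitting field.
-/

set_option autoImplicit false

namespace Groth.Agent.Helper20.TameK

open Polynomial IntermediateField

/-- `K⟮β⟯` with `β ^ e = c ∈ K` is normal when `K` has a primitive `e`-th root of unity. -/
theorem normal_adjoin_of_pow_eq {K L : Type*} [Field K] [Field L] [Algebra K L]
    {e : ℕ} (he : 0 < e) (hζ : (primitiveRoots e K).Nonempty) (c : K) (β : L)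
    (hβ : β ^ e = algebraMap K L c) : Normal K K⟮β⟯ := by
  obtain ⟨ζ, hζ⟩ := hζ
  rw [mem_primitiveRoots he] at hζ
  have hβmem : β ∈ K⟮β⟯ := mem_adjoin_simple_self K β
  have hsplitF : ((X ^ e - C c : K[X]).map (algebraMap K K⟮β⟯)).Splits := by
    have h1 : (⟨β, hβmem⟩ : K⟮β⟯) ^ e = algebraMap K K⟮β⟯ c := by
      apply Subtype.val_injective
      simpa using hβ
    have := X_pow_sub_C_splits_of_isPrimitiveRoot
      (hζ.map_of_injective (algebraMap K K⟮β⟯).injective) h1
    simpa using this
  haveI : IsSplittingField K K⟮β⟯ (X ^ e - C c) := by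
    rw [IntermediateField.isSplittingField_iff]
    refine ⟨hsplitF, le_antisymm ?_ ?_⟩
    · rw [adjoin_simple_le_iff]
      apply subset_adjoin
      rw [mem_rootSet_of_ne (X_pow_sub_C_ne_zero he c)]
      simp [hβ]
    · rw [adjoin_le_iff, ← hsplitF.image_rootSet (K⟮β⟯).val]
      rintro _ ⟨x, _, rfl⟩
      exact x.2
  exact Normal.of_isSplittingField (X ^ e - C c)

theorem kummer_core {K L : Type*} [Field K] [Field L] [Algebra K L] (g : K[X])
    (hg : Irreducible g) (hgm : g.Monic) [hsp : IsSplittingField K L g]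
    (e : ℕ) (he : 0 < e) (hdeg : g.natDegree = e) (hζ : (primitiveRoots e K).Nonempty) (c : K)
    (hc : Irreducible (X ^ e - C c : K[X]))
    (α β : L) (hα : aeval α g = 0) (hβ : β ^ e = algebraMap K L c) (hβα : β ∈ K⟮α⟯) :
    K⟮β⟯ = ⊤ ∧ Module.finrank K L = e := by
  haveI : FiniteDimensional K L := IsSplittingField.finiteDimensional L g
  have hintα : IsIntegral K α := IsIntegral.of_finite K α
  have hintβ : IsIntegral K β := IsIntegral.of_finite K β
  have hmα : g = minpoly K α := minpoly.eq_of_irreducible_of_monic hg hα hgm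
  have hmβ : X ^ e - C c = minpoly K β :=
    minpoly.eq_of_irreducible_of_monic hc (by simp [hβ]) (monic_X_pow_sub_C c he.ne')
  have hfα : Module.finrank K K⟮α⟯ = e := by
    rw [IntermediateField.adjoin.finrank hintα, ← hmα, hdeg]
  have hfβ : Module.finrank K K⟮β⟯ = e := by
    rw [IntermediateField.adjoin.finrank hintβ, ← hmβ, natDegree_X_pow_sub_C]
  have hle : K⟮β⟯ ≤ K⟮α⟯ := adjoin_simple_le_iff.mpr hβα
  have heq : K⟮β⟯ = K⟮α⟯ := IntermediateField.eq_of_le_of_finrank_eq hle (by rw [hfα, hfβ])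
  haveI : Normal K K⟮β⟯ := normal_adjoin_of_pow_eq he hζ c β hβ
  have hαmem : α ∈ K⟮β⟯ := heq ▸ mem_adjoin_simple_self K α
  have hsplit : (g.map (algebraMap K K⟮β⟯)).Splits := by
    have h1 := Normal.splits (F := K) (K := K⟮β⟯) inferInstance (⟨α, hαmem⟩ : K⟮β⟯)
    rw [IntermediateField.minpoly_eq] at h1
    rw [hmα]
    exact h1
  have hmem := (IntermediateField.splits_iff_mem (hsp.splits)).mp hsplit
  have htop : K⟮β⟯ = ⊤ := by
    rw [eq_top_iff, ← (isSplittingField_iff_intermediateField.mp hsp).2, adjoin_le_iff]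
    exact hmem
  refine ⟨htop, ?_⟩
  rw [← IntermediateField.finrank_top', ← htop, hfβ]

end Groth.Agent.Helper20.TameK
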