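import Mathlib

/-!
# Compositum of tame radical extensions
-/

set_option autoImplicit false

namespace Groth.Agent.Helper20.TameK

open Polynomial IntermediateField

/-- Number theory: if `g ∣ N = lcm r` and `g ∣ (N / r i) * b i` for all `i` with `gcd (r i) (b i) = 1`
then `g = 1`. -/
theorem gcd_lemma {m : ℕ} (r b : Fin m → ℕ) (hr : ∀ i, 1 ≤ r i)
    (hrb : ∀ i, Nat.Coprime (r i) (b i)) (g : ℕ) (hg : g ∣ Finset.univ.lcm r)
    (hgi : ∀ i, g ∣ (Finset.univ.lcm r / r i) * b i) : g = 1 := by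
  obtain ⟨N, hNdef⟩ : ∃ N, N = Finset.univ.lcm r := ⟨_, rfl⟩
  rw [← hNdef] at hg hgi
  have hdiv : ∀ i, r i ∣ N := fun i => hNdef ▸ Finset.dvd_lcm (Finset.mem_univ i)
  have hN0 : N ≠ 0 := by
    have h1 : N ∣ ∏ i, r i := by
      rw [hNdef]
      exact Finset.lcm_dvd (fun i _ => Finset.dvd_prod_of_mem r (Finset.mem_univ i))
    have h2 : ∏ i, r i ≠ 0 := Finset.prod_ne_zero_iff.mpr (fun i _ => by have := hr i; omega)
    intro h0
    rw [h0, zero_dvd_iff] at h1
    exact h2 h1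
  by_contra hg1
  obtain ⟨q, hq, hqg⟩ := Nat.exists_prime_and_dvd hg1
  have hqN : q ∣ N := hqg.trans hg
  have hqn : ∀ i, q ∣ N / r i := by
    intro i
    have h1 : q ∣ (N / r i) * b i := hqg.trans (hgi i)
    rcases (Nat.Prime.dvd_mul hq).mp h1 with h | h
    · exact h
    · have hqr : Nat.Coprime q (r i) := by
        rw [Nat.Prime.coprime_iff_not_dvd hq]
        intro hqr
        have h3 := Nat.dvd_gcd hqr h
        rw [hrb i] at h3
        exact hq.one_lt.ne' (Nat.dvd_one.mp h3)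
      have h2 : q ∣ r i * (N / r i) := by rw [Nat.mul_div_cancel' (hdiv i)]; exact hqN
      exact hqr.dvd_of_dvd_mul_left h2
  have hall : ∀ i, r i ∣ N / q := by
    intro i
    obtain ⟨t, ht⟩ := hqn i
    have hN : N = q * (r i * t) := by
      conv_lhs => rw [← Nat.mul_div_cancel' (hdiv i), ht]
      ring
    rw [hN, Nat.mul_div_cancel_left _ hq.pos]
    exact dvd_mul_right _ _
  have h3 : N ∣ N / q := by
    rw [hNdef]
    rw [hNdef] at hall
    exact Finset.lcm_dvd (fun i _ => hall i)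
  have h4 : N / q < N := Nat.div_lt_self (Nat.pos_of_ne_zero hN0) hq.one_lt
  have h5 : 0 < N / q :=
    Nat.div_pos (Nat.le_of_dvd (Nat.pos_of_ne_zero hN0) hqN) hq.pos
  have h6 := Nat.le_of_dvd h5 h3
  omega

/-- Bezout step for powers in an intermediate field. -/
theorem pow_gcd_mem {K M : Type*} [Field K] [Field M] [Algebra K M] (F : IntermediateField K M)
    (δ : M) (hδ : δ ≠ 0) (a b : ℕ) (ha : δ ^ a ∈ F) (hb : δ ^ b ∈ F) : δ ^ (Nat.gcd a b) ∈ F := by
  have h1 : δ ^ (Nat.gcd a b) = (δ ^ a) ^ (Nat.gcdA a b) * (δ ^ b) ^ (Nat.gcdB a b) := by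
    rw [← zpow_natCast δ (Nat.gcd a b), Nat.gcd_eq_gcd_ab, zpow_add₀ hδ, zpow_mul, zpow_mul,
      zpow_natCast, zpow_natCast]
  rw [h1]
  exact F.mul_mem (zpow_mem ha _) (zpow_mem hb _)

theorem adjoin_rootSet_eq {K M : Type*} [Field K] [Field M] [Algebra K M]
    {m : ℕ} (r b n : Fin m → ℕ) (N : ℕ) (hr : ∀ i, 0 < r i)
    (hrn : ∀ i, r i * n i = N) (ϖ : K) (hϖ : ϖ ≠ 0) (w c : Fin m → K) (hw : ∀ i, w i ≠ 0)
    (hc : ∀ i, c i = w i ^ r i * ϖ ^ b i)
    (hζ : ∀ i, (primitiveRoots (r i) K).Nonempty)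
    (hgcd : ∀ g : ℕ, g ∣ N → (∀ i, g ∣ n i * b i) → g = 1)
    (δ : M) (hδ : δ ^ N = algebraMap K M ϖ) :
    IntermediateField.adjoin K ((∏ i, (X ^ r i - C (c i)) : K[X]).rootSet M) = K⟮δ⟯ := by
  classical
  have hϖM : algebraMap K M ϖ ≠ 0 := by
    rw [Ne, map_eq_zero]; exact hϖ
  have hδ0 : δ ≠ 0 := by
    intro h0
    rw [h0] at hδ
    rcases Nat.eq_zero_or_pos N with hN | hN
    · rw [hN, pow_zero] at hδ
      -- 1 = ϖ is fine; need a different argument
      exact one_ne_zero (α := M) (by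
        have : (1 : M) = 0 := by
          have h2 := hgcd 0 (by rw [hN]) (fun i => by
            have := hrn i
            rw [hN] at this
            have hn : n i = 0 := by
              rcases Nat.eq_zero_or_pos (n i) with h | h
              · exact h
              · exact absurd this (Nat.mul_pos (hr i) h).ne'
            rw [hn, zero_mul])
          omega
        exact this)
    · rw [zero_pow hN.ne'] at hδ
      exact hϖM hδ.symm
  have hP0 : (∏ i, (X ^ r i - C (c i)) : K[X]) ≠ 0 :=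
    (monic_prod_of_monic _ _ (fun i _ => monic_X_pow_sub_C (c i) (hr i).ne')).ne_zero
  have haeval : ∀ x : M, aeval x (∏ i, (X ^ r i - C (c i)) : K[X]) =
      ∏ i, (x ^ r i - algebraMap K M (c i)) := by
    intro x
    rw [map_prod]
    apply Finset.prod_congr rfl
    intro i _
    simp
  obtain ⟨γ, hγdef⟩ : ∃ γ : Fin m → M, γ = fun i => algebraMap K M (w i) * δ ^ (n i * b i) :=
    ⟨_, rfl⟩
  have hγpow : ∀ i, γ i ^ r i = algebraMap K M (c i) := by
    intro i
    rw [hγdef]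
    simp only
    rw [mul_pow, ← pow_mul, hc i, map_mul, map_pow, map_pow, ← hδ, ← pow_mul]
    congr 2
    rw [← hrn i]; ring
  have hγ0 : ∀ i, γ i ≠ 0 := by
    intro i
    rw [hγdef]
    simp only
    exact mul_ne_zero (by rw [Ne, map_eq_zero]; exact hw i) (pow_ne_zero _ hδ0)
  have hγroot : ∀ i, γ i ∈ (∏ i, (X ^ r i - C (c i)) : K[X]).rootSet M := by
    intro i
    rw [mem_rootSet_of_ne hP0, haeval]
    exact Finset.prod_eq_zero (Finset.mem_univ i) (by rw [hγpow i, sub_self])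
  apply le_antisymm
  · rw [adjoin_le_iff]
    intro x hx
    rw [mem_rootSet_of_ne hP0, haeval, Finset.prod_eq_zero_iff] at hx
    obtain ⟨i, _, hi⟩ := hx
    have hxpow : x ^ r i = algebraMap K M (c i) := sub_eq_zero.mp hi
    obtain ⟨ζ, hζi⟩ := hζ i
    rw [mem_primitiveRoots (hr i)] at hζi
    have hζM : IsPrimitiveRoot (algebraMap K M ζ) (r i) :=
      hζi.map_of_injective (algebraMap K M).injective
    have h1 : (x / γ i) ^ r i = 1 := by
      rw [div_pow, hxpow, hγpow i, div_self]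
      rw [← hγpow i]
      exact pow_ne_zero _ (hγ0 i)
    have : NeZero (r i) := ⟨(hr i).ne'⟩
    obtain ⟨j, _, hj⟩ := hζM.eq_pow_of_pow_eq_one h1
    have hx' : x = (algebraMap K M ζ) ^ j * γ i := by
      rw [hj, div_mul_cancel₀ _ (hγ0 i)]
    have hδmem : δ ∈ K⟮δ⟯ := mem_adjoin_simple_self K δ
    show x ∈ K⟮δ⟯
    rw [hx', hγdef]
    exact mul_mem (pow_mem (IntermediateField.algebraMap_mem _ _) _)
      (mul_mem (IntermediateField.algebraMap_mem _ _) (pow_mem hδmem _))
  · rw [adjoin_simple_le_iff]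
    obtain ⟨F, hF⟩ : ∃ F : IntermediateField K M,
        F = IntermediateField.adjoin K ((∏ i, (X ^ r i - C (c i)) : K[X]).rootSet M) := ⟨_, rfl⟩
    rw [← hF]
    have hγF : ∀ i, γ i ∈ F := fun i => hF ▸ subset_adjoin K _ (hγroot i)
    have hδnb : ∀ i, δ ^ (n i * b i) ∈ F := by
      intro i
      have h1 : δ ^ (n i * b i) = (algebraMap K M (w i))⁻¹ * γ i := by
        rw [hγdef]
        simp only
        rw [← mul_assoc, inv_mul_cancel₀ (by rw [Ne, map_eq_zero]; exact hw i), one_mul]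
      rw [h1]
      exact F.mul_mem (F.inv_mem (F.algebraMap_mem _)) (hγF i)
    have hδN : δ ^ N ∈ F := by rw [hδ]; exact F.algebraMap_mem _
    have hclaim : ∀ S : Finset (Fin m), ∃ g : ℕ, δ ^ g ∈ F ∧ g ∣ N ∧ ∀ i ∈ S, g ∣ n i * b i := by
      intro S
      induction S using Finset.induction_on with
      | empty => exact ⟨N, hδN, dvd_rfl, fun i hi => absurd hi (Finset.notMem_empty i)⟩
      | insert a S _ ih =>
        obtain ⟨g, hg1, hg2, hg3⟩ := ih
        refine ⟨Nat.gcd g (n a * b a), pow_gcd_mem F δ hδ0 _ _ hg1 (hδnb a),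
          (Nat.gcd_dvd_left _ _).trans hg2, ?_⟩
        intro i hi
        rcases Finset.mem_insert.mp hi with rfl | hi
        · exact Nat.gcd_dvd_right _ _
        · exact (Nat.gcd_dvd_left _ _).trans (hg3 i hi)
    obtain ⟨g, hg1, hg2, hg3⟩ := hclaim Finset.univ
    have hg : g = 1 := hgcd g hg2 (fun i => hg3 i (Finset.mem_univ i))
    rw [hg, pow_one] at hg1
    exact hg1

end Groth.Agent.Helper20.TameK
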