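import Mathlib

/-!
# Eisenstein irreducibility of `X ^ n - a` over the fraction field of a DVR
-/

set_option autoImplicit false

namespace Groth.Agent.Helper20.TameK

open Polynomial IsLocalRing

theorem irreducible_X_pow_sub_C_of_mem_of_notMem_sq (O : Type*) [CommRing O] [IsDomain O]
    [IsDiscreteValuationRing O] (K : Type*) [Field K] [Algebra O K] [IsFractionRing O K]
    (a : O) (ha : a ∈ maximalIdeal O) (ha2 : a ∉ maximalIdeal O ^ 2) (n : ℕ) (hn : 0 < n) :
    Irreducible (X ^ n - C (algebraMap O K a) : K[X]) := by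
  have hprime : (maximalIdeal O).IsPrime := inferInstance
  have hEis : (X ^ n - C a : O[X]).IsEisensteinAt (maximalIdeal O) := by
    refine ⟨?_, ?_, ?_⟩
    · rw [(monic_X_pow_sub_C _ hn.ne').leadingCoeff]
      exact fun h => (Ideal.ne_top_iff_one _).mp hprime.ne_top h
    · intro k hk
      rw [natDegree_X_pow_sub_C] at hk
      rw [coeff_sub, coeff_X_pow, coeff_C, if_neg (by omega)]
      by_cases h0 : k = 0
      · rw [if_pos h0, zero_sub]; exact neg_mem ha
      · rw [if_neg h0, sub_zero]; exact Ideal.zero_mem _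
    · rw [coeff_sub, coeff_X_pow, coeff_C, if_neg (by omega), if_pos rfl, zero_sub, neg_mem_iff]
      exact ha2
  have h0 : Irreducible (X ^ n - C a : O[X]) :=
    hEis.irreducible hprime (monic_X_pow_sub_C _ hn.ne').isPrimitive
      (by rw [natDegree_X_pow_sub_C]; exact hn)
  have h1 := ((monic_X_pow_sub_C a hn.ne').irreducible_iff_irreducible_map_fraction_map
    (K := K)).mp h0
  simpa using h1

theorem irreducible_X_pow_sub_C_of_irreducible (O : Type*) [CommRing O] [IsDomain O]
    [IsDiscreteValuationRing O] (K : Type*) [Field K] [Algebra O K] [IsFractionRing O K]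
    (ϖ : O) (hϖ : Irreducible ϖ) (n : ℕ) (hn : 0 < n) :
    Irreducible (X ^ n - C (algebraMap O K ϖ) : K[X]) := by
  have hm := (IsDiscreteValuationRing.irreducible_iff_uniformizer ϖ).mp hϖ
  apply irreducible_X_pow_sub_C_of_mem_of_notMem_sq O K ϖ _ _ n hn
  · rw [hm]; exact Ideal.mem_span_singleton_self ϖ
  · rw [hm, Ideal.span_singleton_pow]
    intro h
    obtain ⟨c, hc⟩ := Ideal.mem_span_singleton'.mp h
    have h1 : ϖ * (c * ϖ) = ϖ * 1 := by rw [mul_one]; linear_combination hc
    have h2 := mul_left_cancel₀ hϖ.ne_zero h1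
    exact hϖ.not_isUnit (IsUnit.of_mul_eq_one _ (by rw [mul_comm]; exact h2))

end Groth.Agent.Helper20.TameK
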