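import Mathlib
import Groth.Prelude.Def_W4c3tautjacobianRel

/-!
# sl2-type commutation for the operators `E`, `F` on the formal relation ring
-/

set_option autoImplicit false

namespace Groth.Agent.Helper20.TautJ

open MvPolynomial W4c3tautjacobian

variable (g : ℕ)

/-- first-degree weight, `ℤ`-valued -/
def w1 : Var g → ℤ := fun v => ((wt g v).1 : ℤ)

/-- first-degree weight, `ℕ`-valued -/
def w1N : Var g → ℕ := fun v => (wt g v).1

theorem weight_w1 (d : Var g →₀ ℕ) :
    Finsupp.weight (w1 g) d = ((Finsupp.weight (w1N g) d : ℕ) : ℤ) := by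
  rw [Finsupp.weight_apply, Finsupp.weight_apply, Finsupp.sum, Finsupp.sum, Nat.cast_sum]
  apply Finset.sum_congr rfl
  intro v _
  simp [w1, w1N]

theorem weight_w1_nonneg (d : Var g →₀ ℕ) : 0 ≤ Finsupp.weight (w1 g) d := by
  rw [weight_w1]; exact Int.natCast_nonneg _

theorem eq_zero_of_isWH_neg {P : RelRing g} {a : ℤ} (h : IsWeightedHomogeneous (w1 g) P a)
    (ha : a < 0) : P = 0 := by
  ext d
  rw [coeff_zero]
  by_contra hd
  have h1 := h hd
  have h2 := weight_w1_nonneg g d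
  omega

theorem xv_valid {p : ℕ × ℕ} (h : Valid g p) :
    xv g (p.1 : ℤ) (p.2 : ℤ) = X (some ⟨p, h⟩) := by
  unfold xv
  have h0 : ¬ ((p.1 : ℤ) = 0 ∧ (p.2 : ℤ) = 0) := by
    rintro ⟨h1, h2⟩
    apply h.2.2.2
    ext
    · exact_mod_cast h1
    · exact_mod_cast h2
  rw [if_neg h0]
  have h1 : 0 ≤ (p.1 : ℤ) ∧ 0 ≤ (p.2 : ℤ) ∧ Valid g ((p.1 : ℤ).toNat, (p.2 : ℤ).toNat) := by
    refine ⟨Int.natCast_nonneg _, Int.natCast_nonneg _, ?_⟩
    simpa using h
  rw [dif_pos h1]
  congr 2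

theorem dv_valid {p : ℕ × ℕ} (h : Valid g p) (P : RelRing g) :
    dv g p P = pderiv (some ⟨p, h⟩) P := by
  unfold dv
  rw [dif_pos h]

theorem dv_invalid {p : ℕ × ℕ} (h : ¬ Valid g p) (P : RelRing g) : dv g p P = 0 := by
  unfold dv
  rw [dif_neg h]

theorem isWH_xv (i j : ℤ) : IsWeightedHomogeneous (w1 g) (xv g i j) i := by
  unfold xv
  split_ifs with h0 h1
  · rw [h0.1]
    have : ((g : ℕ) : RelRing g) = C (g : ℚ) := by simp
    rw [this]
    exact isWeightedHomogeneous_C _ _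
  · have := isWeightedHomogeneous_X ℚ (w1 g) (some ⟨(i.toNat, j.toNat), h1.2.2⟩)
    convert this using 1
    simp only [w1, wt]
    exact (Int.toNat_of_nonneg h1.1).symm
  · exact isWeightedHomogeneous_zero _ _ _

theorem isWH_dv {P : RelRing g} {a : ℤ} (h : IsWeightedHomogeneous (w1 g) P a) (p : ℕ × ℕ) :
    IsWeightedHomogeneous (w1 g) (dv g p P) (a - p.1) := by
  by_cases hp : Valid g p
  · rw [dv_valid g hp]
    apply h.pderiv
    simp [w1, wt]
  · rw [dv_invalid g hp]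
    exact isWeightedHomogeneous_zero _ _ _

end Groth.Agent.Helper20.TautJ
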