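import Mathlib
import Groth.Prelude.Def_W4c3tautjacobianRel
import Groth.Agent.Lib.Helper20.TautJ1

/-!
# sl2-type commutation for the operators `E`, `F` on the formal relation ring, part 2
-/

set_option autoImplicit false

namespace Groth.Agent.Helper20.TautJ

open MvPolynomial W4c3tautjacobian

variable (g : ℕ)

theorem dv_add (p : ℕ × ℕ) (P Q : RelRing g) : dv g p (P + Q) = dv g p P + dv g p Q := by
  unfold dv
  split_ifs
  · rw [map_add]
  · rw [add_zero]

theorem dv_smul (p : ℕ × ℕ) (c : ℚ) (P : RelRing g) : dv g p (c • P) = c • dv g p P := by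
  unfold dv
  split_ifs
  · rw [Derivation.map_smul]
  · rw [smul_zero]

theorem dv_zero (p : ℕ × ℕ) : dv g p (0 : RelRing g) = 0 := by
  unfold dv
  split_ifs
  · rw [map_zero]
  · rfl

theorem dv_one (p : ℕ × ℕ) : dv g p (1 : RelRing g) = 0 := by
  unfold dv
  split_ifs
  · rw [← C_1, pderiv_C]
  · rfl

theorem dv_mul (p : ℕ × ℕ) (Q P : RelRing g) :
    dv g p (Q * P) = dv g p Q * P + Q * dv g p P := by
  unfold dv
  split_ifs
  · rw [Derivation.leibniz, smul_eq_mul, smul_eq_mul]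
    ring
  · ring

theorem valid_x0 (hg : 1 ≤ g) : Valid g (2, 0) := by
  refine ⟨by norm_num, by simp only; omega, by decide, by simp⟩

theorem xv_x0 (hg : 1 ≤ g) : xv g 2 0 = X (some ⟨(2, 0), valid_x0 g hg⟩) := by
  have := xv_valid g (valid_x0 g hg)
  simpa using this

theorem dv_x0 (hg : 1 ≤ g) (p : ℕ × ℕ) :
    dv g p (xv g 2 0) = if p = (2, 0) then 1 else 0 := by
  rw [xv_x0 g hg]
  by_cases hp : Valid g p
  · rw [dv_valid g hp, pderiv_X]
    by_cases h : p = (2, 0)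
    · subst h
      rw [if_pos rfl, Pi.single_eq_same]
    · rw [if_neg h, Pi.single_eq_of_ne]
      intro h'
      apply h
      have h'' := Option.some.inj h'
      exact (congrArg Subtype.val h'').symm
  · rw [dv_invalid g hp, if_neg]
    rintro rfl
    exact hp (valid_x0 g hg)

/-- the quadratic coefficient of `F` -/
noncomputable def Acoef (p q : ℕ × ℕ) : RelRing g :=
  X none * xv g ((p.1 : ℤ) - 1) ((p.2 : ℤ) - 1) * xv g ((q.1 : ℤ) - 1) ((q.2 : ℤ) - 1)
    - (mergeCoeff p.1 q.1 : RelRing g) * xv g ((p.1 : ℤ) + q.1 - 2) ((p.2 : ℤ) + q.2)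

/-- the linear coefficient of `F` -/
noncomputable def Bcoef (p : ℕ × ℕ) : RelRing g := xv g ((p.1 : ℤ) - 2) (p.2 : ℤ)

theorem F_eq (P : RelRing g) :
    F g P = (1 / 2 : ℚ) • (∑ p ∈ idx g, ∑ q ∈ idx g, Acoef g p q * dv g p (dv g q P))
      + ∑ p ∈ idx g, Bcoef g p * dv g p P := rfl

theorem xv_neg_right (i j : ℤ) (hj : j < 0) : xv g i j = 0 := by
  unfold xv
  rw [if_neg (by omega), dif_neg (by omega)]

theorem mergeCoeff_two_right (i : ℕ) : mergeCoeff i 2 = i := by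
  unfold mergeCoeff
  rcases Nat.eq_zero_or_pos i with rfl | hi
  · simp
  · rw [if_neg (by omega)]
    obtain ⟨n, rfl⟩ : ∃ n, i = n + 1 := ⟨i - 1, by omega⟩
    simp [Nat.choose_succ_self_right]

theorem mergeCoeff_two_left (k : ℕ) : mergeCoeff 2 k = k := by
  unfold mergeCoeff
  rcases Nat.eq_zero_or_pos k with rfl | hk
  · simp
  · rw [if_neg (by omega)]
    simp

theorem Acoef_x0_right (p : ℕ × ℕ) :
    Acoef g p (2, 0) = -((p.1 : ℚ) • xv g (p.1 : ℤ) (p.2 : ℤ)) := by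
  unfold Acoef
  have h1 : xv g (((2, 0) : ℕ × ℕ).1 - 1 : ℤ) ((((2, 0) : ℕ × ℕ).2 : ℤ) - 1) = 0 :=
    xv_neg_right g _ _ (by simp)
  rw [h1, mul_zero, zero_sub, mergeCoeff_two_right]
  congr 1
  rw [Algebra.smul_def]
  simp

theorem Acoef_x0_left (q : ℕ × ℕ) :
    Acoef g (2, 0) q = -((q.1 : ℚ) • xv g (q.1 : ℤ) (q.2 : ℤ)) := by
  unfold Acoef
  have h1 : xv g (((2, 0) : ℕ × ℕ).1 - 1 : ℤ) ((((2, 0) : ℕ × ℕ).2 : ℤ) - 1) = 0 :=
    xv_neg_right g _ _ (by simp)
  rw [h1, mul_zero, zero_mul, zero_sub, mergeCoeff_two_left]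
  congr 1
  rw [Algebra.smul_def]
  have : ((((2, 0) : ℕ × ℕ).1 : ℤ) + (q.1 : ℤ) - 2) = q.1 := by simp
  rw [this]
  simp

theorem Bcoef_x0 : Bcoef g (2, 0) = (g : RelRing g) := by
  unfold Bcoef xv
  rw [if_pos (by simp)]

theorem x0_mem_idx (hg : 1 ≤ g) : ((2, 0) : ℕ × ℕ) ∈ idx g := by
  unfold idx
  rw [Finset.mem_product, Finset.mem_range, Finset.mem_range]
  constructor <;> simp only <;> omega

end Groth.Agent.Helper20.TautJ
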