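import Mathlib
import Groth.Prelude.Def_W4c3tautjacobianRel
import Groth.Agent.Lib.Helper20.TautJ1
import Groth.Agent.Lib.Helper20.TautJ2

/-!
# sl2-type commutation for the operators `E`, `F` on the formal relation ring, part 3
-/

set_option autoImplicit false

namespace Groth.Agent.Helper20.TautJ

open MvPolynomial W4c3tautjacobian

variable (g : ℕ)

theorem isWH_Acoef (p q : ℕ × ℕ) :
    IsWeightedHomogeneous (w1 g) (Acoef g p q) ((p.1 : ℤ) + q.1 - 2) := by
  unfold Acoef
  apply IsWeightedHomogeneous.sub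
  · have h0 : IsWeightedHomogeneous (w1 g) (X none : RelRing g) 0 := by
      have := isWeightedHomogeneous_X ℚ (w1 g) (none : Var g)
      simpa [w1, wt] using this
    have := (h0.mul (isWH_xv g ((p.1 : ℤ) - 1) ((p.2 : ℤ) - 1))).mul
      (isWH_xv g ((q.1 : ℤ) - 1) ((q.2 : ℤ) - 1))
    have e : (p.1 : ℤ) + q.1 - 2 = 0 + ((p.1 : ℤ) - 1) + ((q.1 : ℤ) - 1) := by ring
    rw [e]
    exact this
  · have h0 : IsWeightedHomogeneous (w1 g) ((mergeCoeff p.1 q.1 : ℕ) : RelRing g) 0 := by
      have : ((mergeCoeff p.1 q.1 : ℕ) : RelRing g) = C ((mergeCoeff p.1 q.1 : ℕ) : ℚ) := by simp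
      rw [this]
      exact isWeightedHomogeneous_C _ _
    have := h0.mul (isWH_xv g ((p.1 : ℤ) + q.1 - 2) ((p.2 : ℤ) + q.2))
    rw [zero_add] at this
    exact this

theorem isWH_F {P : RelRing g} {a : ℤ} (h : IsWeightedHomogeneous (w1 g) P a) :
    IsWeightedHomogeneous (w1 g) (F g P) (a - 2) := by
  rw [F_eq]
  apply IsWeightedHomogeneous.add
  · rw [← mem_weightedHomogeneousSubmodule]
    apply Submodule.smul_mem
    rw [mem_weightedHomogeneousSubmodule]
    apply IsWeightedHomogeneous.sum
    intro p _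
    apply IsWeightedHomogeneous.sum
    intro q _
    have := (isWH_Acoef g p q).mul (isWH_dv g (isWH_dv g h q) p)
    have e : a - 2 = (p.1 : ℤ) + q.1 - 2 + (a - q.1 - p.1) := by ring
    rw [e]
    exact this
  · apply IsWeightedHomogeneous.sum
    intro p _
    have := (isWH_xv g ((p.1 : ℤ) - 2) (p.2 : ℤ)).mul (isWH_dv g h p)
    unfold Bcoef
    have e : a - 2 = (p.1 : ℤ) - 2 + (a - p.1) := by ring
    rw [e]
    exact this

theorem F_add (P Q : RelRing g) : F g (P + Q) = F g P + F g Q := by
  simp only [F_eq, dv_add, mul_add, Finset.sum_add_distrib, smul_add]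
  abel

theorem F_smul (c : ℚ) (P : RelRing g) : F g (c • P) = c • F g P := by
  simp only [F_eq, dv_smul, mul_smul_comm, ← Finset.smul_sum, smul_add]
  rw [smul_comm]

theorem F_zero : F g (0 : RelRing g) = 0 := by
  have := F_smul g 0 0
  simpa using this

theorem F_E (hg : 1 ≤ g) (P : RelRing g) :
    F g (E g P) = E g (F g P) + (g : ℚ) • P
      - ∑ p ∈ idx g, (p.1 : ℚ) • (xv g (p.1 : ℤ) (p.2 : ℤ) * dv g p P) := by
  have hδ := dv_x0 g hg
  have h1 : ∀ p, dv g p (xv g 2 0 * P) =
      (if p = (2, 0) then (1 : RelRing g) else 0) * P + xv g 2 0 * dv g p P := by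
    intro p
    rw [dv_mul, hδ]
  have hite : ∀ p q : ℕ × ℕ, dv g p (if q = (2, 0) then (1 : RelRing g) else 0) = 0 := by
    intro p q
    split_ifs
    · exact dv_one g p
    · exact dv_zero g p
  have h2 : ∀ p q, dv g p (dv g q (xv g 2 0 * P)) =
      (if q = (2, 0) then (1 : RelRing g) else 0) * dv g p P +
        ((if p = (2, 0) then (1 : RelRing g) else 0) * dv g q P
          + xv g 2 0 * dv g p (dv g q P)) := by
    intro p q
    rw [h1, dv_add, dv_mul, dv_mul, hite, hδ, zero_mul, zero_add]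
  have hx0 := x0_mem_idx g hg
  -- the quadratic part
  have hS2 : ∑ p ∈ idx g, ∑ q ∈ idx g, Acoef g p q * dv g p (dv g q (xv g 2 0 * P)) =
      xv g 2 0 * (∑ p ∈ idx g, ∑ q ∈ idx g, Acoef g p q * dv g p (dv g q P))
        - (2 : ℚ) • ∑ p ∈ idx g, (p.1 : ℚ) • (xv g (p.1 : ℤ) (p.2 : ℤ) * dv g p P) := by
    have e1 : ∀ p ∈ idx g, ∑ q ∈ idx g, Acoef g p q * dv g p (dv g q (xv g 2 0 * P)) =
        Acoef g p (2, 0) * dv g p P
          + (if p = (2, 0) then ∑ q ∈ idx g, Acoef g p q * dv g q P else 0)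
          + xv g 2 0 * ∑ q ∈ idx g, Acoef g p q * dv g p (dv g q P) := by
      intro p _
      simp only [h2, mul_add, Finset.sum_add_distrib]
      rw [add_assoc]
      congr 1
      · rw [Finset.sum_eq_single_of_mem (2, 0) hx0]
        · rw [if_pos rfl, one_mul]
        · intro q _ hq
          rw [if_neg hq, zero_mul, mul_zero]
      · congr 1
        · split_ifs with hp
          · apply Finset.sum_congr rfl
            intro q _
            rw [one_mul]
          · apply Finset.sum_eq_zero
            intro q _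
            rw [zero_mul, mul_zero]
        · rw [Finset.mul_sum]
          apply Finset.sum_congr rfl
          intro q _
          ring
    rw [Finset.sum_congr rfl e1]
    simp only [Finset.sum_add_distrib]
    rw [Finset.sum_ite_eq' (idx g) ((2, 0) : ℕ × ℕ), if_pos hx0, ← Finset.mul_sum]
    simp only [Acoef_x0_right, Acoef_x0_left]
    simp only [neg_mul, Finset.sum_neg_distrib, smul_mul_assoc]
    rw [two_smul]
    ring
  have hS1 : ∑ p ∈ idx g, Bcoef g p * dv g p (xv g 2 0 * P) =
      (g : ℚ) • P + xv g 2 0 * ∑ p ∈ idx g, Bcoef g p * dv g p P := by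
    simp only [h1, mul_add, Finset.sum_add_distrib]
    congr 1
    · rw [Finset.sum_eq_single_of_mem (2, 0) hx0]
      · rw [if_pos rfl, one_mul, Bcoef_x0, Algebra.smul_def]
        simp
      · intro q _ hq
        rw [if_neg hq, zero_mul, mul_zero]
    · rw [Finset.mul_sum]
      apply Finset.sum_congr rfl
      intro q _
      ring
  unfold E
  rw [F_eq, F_eq, hS2, hS1, smul_sub, smul_smul, mul_add, mul_smul_comm]
  norm_num
  ring

end Groth.Agent.Helper20.TautJ
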