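import Mathlib
import Groth.Prelude.Def_W4c3tautjacobianRel
import Groth.Agent.Lib.Helper20.TautJ1
import Groth.Agent.Lib.Helper20.TautJ2
import Groth.Agent.Lib.Helper20.TautJ3

/-!
# sl2-type commutation for the operators `E`, `F` on the formal relation ring, part 4:
Euler's identity and the vanishing `F^(g+1) (E β) = 0`.
-/

set_option autoImplicit false

namespace Groth.Agent.Helper20.TautJ

open MvPolynomial W4c3tautjacobian

variable (g : ℕ)

theorem mem_idx_of_valid {p : ℕ × ℕ} (h : Valid g p) : p ∈ idx g := by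
  unfold idx
  rw [Finset.mem_product, Finset.mem_range, Finset.mem_range]
  obtain ⟨h1, h2, -, -⟩ := h
  constructor <;> omega

/-- a `Fintype` structure on the admissible pairs -/
noncomputable def fintypeValid : Fintype {p : ℕ × ℕ // Valid g p} :=
  Fintype.subtype ((idx g).filter (Valid g)) (by
    intro x
    rw [Finset.mem_filter]
    exact ⟨fun h => h.2, fun h => ⟨mem_idx_of_valid g h, h⟩⟩)

theorem euler {P : RelRing g} {a : ℤ} (h : IsWeightedHomogeneous (w1 g) P a) :
    ∑ p ∈ idx g, (p.1 : ℚ) • (xv g (p.1 : ℤ) (p.2 : ℤ) * dv g p P) = (a : ℚ) • P := by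
  by_cases hP : P = 0
  · subst hP
    simp [dv_zero]
  obtain ⟨d, hd⟩ := ne_zero_iff.mp hP
  have ha : a = ((Finsupp.weight (w1N g) d : ℕ) : ℤ) := by
    rw [← weight_w1]; exact (h hd).symm
  obtain ⟨n, hn⟩ : ∃ n : ℕ, n = Finsupp.weight (w1N g) d := ⟨_, rfl⟩
  rw [← hn] at ha
  have hN : IsWeightedHomogeneous (w1N g) P n := by
    intro d' hd'
    have h3 := h hd'
    rw [weight_w1, ha] at h3
    exact_mod_cast h3
  let _ := fintypeValid g
  have key := hN.sum_weight_X_mul_pderiv
  rw [Fintype.sum_option] at key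
  have h0 : w1N g none = 0 := rfl
  rw [h0, zero_smul, zero_add] at key
  have hfilter : ∑ p ∈ idx g, (p.1 : ℚ) • (xv g (p.1 : ℤ) (p.2 : ℤ) * dv g p P) =
      ∑ p ∈ (idx g).filter (Valid g), (p.1 : ℚ) • (xv g (p.1 : ℤ) (p.2 : ℤ) * dv g p P) := by
    rw [Finset.sum_filter]
    apply Finset.sum_congr rfl
    intro p _
    split_ifs with hp
    · rfl
    · rw [dv_invalid g hp, mul_zero, smul_zero]
  rw [hfilter, Finset.sum_subtype ((idx g).filter (Valid g)) (p := Valid g) (by
    intro x
    rw [Finset.mem_filter]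
    exact ⟨fun h => h.2, fun h => ⟨mem_idx_of_valid g h, h⟩⟩)]
  rw [ha, Int.cast_natCast, Nat.cast_smul_eq_nsmul, ← key]
  apply Finset.sum_congr rfl
  intro s _
  rw [xv_valid g s.2, dv_valid g s.2, Nat.cast_smul_eq_nsmul]
  rfl

theorem iterate_F_isWH {P : RelRing g} {a : ℤ} (h : IsWeightedHomogeneous (w1 g) P a) (k : ℕ) :
    IsWeightedHomogeneous (w1 g) ((F g)^[k] P) (a - 2 * k) := by
  induction k with
  | zero => simpa using h
  | succ k ih =>
    rw [Function.iterate_succ_apply']
    have := isWH_F g ih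
    have e : a - 2 * ((k + 1 : ℕ) : ℤ) = a - 2 * (k : ℤ) - 2 := by push_cast; ring
    rw [e]
    exact this

theorem F_E_of_isWH (hg : 1 ≤ g) {P : RelRing g} {a : ℤ}
    (h : IsWeightedHomogeneous (w1 g) P a) :
    F g (E g P) = E g (F g P) + ((g : ℚ) - a) • P := by
  rw [F_E g hg, euler g h, sub_smul, add_sub_assoc]

theorem E_add (P Q : RelRing g) : E g (P + Q) = E g P + E g Q := by
  unfold E; ring

theorem iterate_F_E (hg : 1 ≤ g) {β : RelRing g} {a : ℤ}
    (h : IsWeightedHomogeneous (w1 g) β a) (k : ℕ) :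
    (F g)^[k + 1] (E g β) = E g ((F g)^[k + 1] β)
      + (((k : ℚ) + 1) * ((g : ℚ) - a + k)) • (F g)^[k] β := by
  induction k with
  | zero =>
    rw [Function.iterate_one, Function.iterate_zero, id_eq,
      F_E_of_isWH g hg h]
    congr 2
    simp
  | succ k ih =>
    rw [Function.iterate_succ_apply' (F g) (k + 1) (E g β), ih, F_add, F_smul,
      F_E_of_isWH g hg (iterate_F_isWH g h (k + 1)),
      ← Function.iterate_succ_apply' (F g) (k + 1) β,
      ← Function.iterate_succ_apply' (F g) k β, add_assoc, ← add_smul]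
    congr 2
    push_cast
    ring

theorem main (hg : 1 ≤ g) {β : RelRing g}
    (h : IsWeightedHomogeneous (w1 g) β (2 * g : ℤ)) :
    (F g)^[g + 1] (E g β) = 0 := by
  rw [iterate_F_E g hg h g]
  have h1 : (F g)^[g + 1] β = 0 := by
    apply eq_zero_of_isWH_neg g (iterate_F_isWH g h (g + 1))
    push_cast
    omega
  have h2 : ((g : ℚ) + 1) * ((g : ℚ) - ((2 * g : ℤ) : ℚ) + g) = 0 := by
    push_cast
    ring
  rw [h1, h2, zero_smul, add_zero]
  unfold E
  rw [mul_zero]

theorem isWH_w1_of_isWH_wt {P : RelRing g} {m : ℕ × ℕ}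
    (h : IsWeightedHomogeneous (wt g) P m) : IsWeightedHomogeneous (w1 g) P (m.1 : ℤ) := by
  intro d hd
  have h1 := h hd
  rw [weight_w1]
  have h2 : Finsupp.weight (w1N g) d = (Finsupp.weight (wt g) d).1 := by
    rw [Finsupp.weight_apply, Finsupp.weight_apply, Finsupp.sum, Finsupp.sum, Prod.fst_sum]
    apply Finset.sum_congr rfl
    intro v _
    simp [w1N]
  rw [h2, h1]

end Groth.Agent.Helper20.TautJ
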