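import Mathlib
import Groth.Prelude.Def_W4c3tautjacobianRel
import Groth.Agent.Lib.Helper20.TautJ4

/-!
# The formal relation ring, part 5: second degree, and vanishing of `F^k (E^j β)`
-/

set_option autoImplicit false

namespace Groth.Agent.Helper20.TautJ

open MvPolynomial W4c3tautjacobian

variable (g : ℕ)

/-- second-degree weight, `ℤ`-valued -/
def w2 : Var g → ℤ := fun v => ((wt g v).2 : ℤ)

/-- second-degree weight, `ℕ`-valued -/
def w2N : Var g → ℕ := fun v => (wt g v).2

theorem weight_w2 (d : Var g →₀ ℕ) :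
    Finsupp.weight (w2 g) d = ((Finsupp.weight (w2N g) d : ℕ) : ℤ) := by
  rw [Finsupp.weight_apply, Finsupp.weight_apply, Finsupp.sum, Finsupp.sum, Nat.cast_sum]
  apply Finset.sum_congr rfl
  intro v _
  simp [w2, w2N]

theorem isWH2_xv (i j : ℤ) : IsWeightedHomogeneous (w2 g) (xv g i j) j := by
  unfold xv
  split_ifs with h0 h1
  · rw [h0.2]
    have : ((g : ℕ) : RelRing g) = C (g : ℚ) := by simp
    rw [this]
    exact isWeightedHomogeneous_C _ _
  · have := isWeightedHomogeneous_X ℚ (w2 g) (some ⟨(i.toNat, j.toNat), h1.2.2⟩)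
    convert this using 1
    simp only [w2, wt]
    exact (Int.toNat_of_nonneg h1.2.1).symm
  · exact isWeightedHomogeneous_zero _ _ _

theorem isWH2_dv {P : RelRing g} {a : ℤ} (h : IsWeightedHomogeneous (w2 g) P a) (p : ℕ × ℕ) :
    IsWeightedHomogeneous (w2 g) (dv g p P) (a - p.2) := by
  by_cases hp : Valid g p
  · rw [dv_valid g hp]
    apply h.pderiv
    simp [w2, wt]
  · rw [dv_invalid g hp]
    exact isWeightedHomogeneous_zero _ _ _

theorem isWH2_Acoef (p q : ℕ × ℕ) :
    IsWeightedHomogeneous (w2 g) (Acoef g p q) ((p.2 : ℤ) + q.2) := by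
  unfold Acoef
  apply IsWeightedHomogeneous.sub
  · have h0 : IsWeightedHomogeneous (w2 g) (X none : RelRing g) 2 := by
      have := isWeightedHomogeneous_X ℚ (w2 g) (none : Var g)
      simpa [w2, wt] using this
    have := (h0.mul (isWH2_xv g ((p.1 : ℤ) - 1) ((p.2 : ℤ) - 1))).mul
      (isWH2_xv g ((q.1 : ℤ) - 1) ((q.2 : ℤ) - 1))
    have e : (p.2 : ℤ) + q.2 = 2 + ((p.2 : ℤ) - 1) + ((q.2 : ℤ) - 1) := by ring
    rw [e]
    exact this
  · have h0 : IsWeightedHomogeneous (w2 g) ((mergeCoeff p.1 q.1 : ℕ) : RelRing g) 0 := by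
      have : ((mergeCoeff p.1 q.1 : ℕ) : RelRing g) = C ((mergeCoeff p.1 q.1 : ℕ) : ℚ) := by simp
      rw [this]
      exact isWeightedHomogeneous_C _ _
    have := h0.mul (isWH2_xv g ((p.1 : ℤ) + q.1 - 2) ((p.2 : ℤ) + q.2))
    rw [zero_add] at this
    exact this

theorem isWH2_F {P : RelRing g} {a : ℤ} (h : IsWeightedHomogeneous (w2 g) P a) :
    IsWeightedHomogeneous (w2 g) (F g P) a := by
  rw [F_eq]
  apply IsWeightedHomogeneous.add
  · rw [← mem_weightedHomogeneousSubmodule]
    apply Submodule.smul_mem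
    rw [mem_weightedHomogeneousSubmodule]
    apply IsWeightedHomogeneous.sum
    intro p _
    apply IsWeightedHomogeneous.sum
    intro q _
    have := (isWH2_Acoef g p q).mul (isWH2_dv g (isWH2_dv g h q) p)
    have e : a = (p.2 : ℤ) + q.2 + (a - q.2 - p.2) := by ring
    rw [e]
    exact this
  · apply IsWeightedHomogeneous.sum
    intro p _
    have := (isWH2_xv g ((p.1 : ℤ) - 2) (p.2 : ℤ)).mul (isWH2_dv g h p)
    unfold Bcoef
    have e : a = (p.2 : ℤ) + (a - p.2) := by ring
    rw [e]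
    exact this

theorem iterate_F_isWH2 {P : RelRing g} {a : ℤ} (h : IsWeightedHomogeneous (w2 g) P a) (k : ℕ) :
    IsWeightedHomogeneous (w2 g) ((F g)^[k] P) a := by
  induction k with
  | zero => simpa using h
  | succ k ih =>
    rw [Function.iterate_succ_apply']
    exact isWH2_F g ih

theorem isWH_E {P : RelRing g} {a : ℤ} (h : IsWeightedHomogeneous (w1 g) P a) :
    IsWeightedHomogeneous (w1 g) (E g P) (a + 2) := by
  unfold E
  have := (isWH_xv g 2 0).mul h
  rw [add_comm]
  exact this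

theorem iterate_E_isWH {P : RelRing g} {a : ℤ} (h : IsWeightedHomogeneous (w1 g) P a) (j : ℕ) :
    IsWeightedHomogeneous (w1 g) ((E g)^[j] P) (a + 2 * j) := by
  induction j with
  | zero => simpa using h
  | succ j ih =>
    rw [Function.iterate_succ_apply']
    have := isWH_E g ih
    have e : a + 2 * ((j + 1 : ℕ) : ℤ) = a + 2 * (j : ℤ) + 2 := by push_cast; ring
    rw [e]
    exact this

theorem E_zero : E g (0 : RelRing g) = 0 := by
  unfold E; rw [mul_zero]

theorem iterate_F_zero (k : ℕ) : (F g)^[k] (0 : RelRing g) = 0 := by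
  induction k with
  | zero => rfl
  | succ k ih => rw [Function.iterate_succ_apply', ih, F_zero]

/-- the key vanishing: `F^k (E^j β) = 0` when `β` has first degree `2(k-j)` and `k - j ≤ g < k`. -/
theorem iterate_F_iterate_E (hg : 1 ≤ g) : ∀ (j k : ℕ) (β : RelRing g),
    IsWeightedHomogeneous (w1 g) β (2 * (k : ℤ) - 2 * j) → k ≤ g + j → g < k →
    (F g)^[k] ((E g)^[j] β) = 0 := by
  intro j
  induction j with
  | zero =>
    intro k β _ h1 h2
    omega
  | succ j ih =>
    intro k β hβ h1 h2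
    obtain ⟨k', rfl⟩ : ∃ k', k = k' + 1 := ⟨k - 1, by omega⟩
    rw [Function.iterate_succ_apply' (E g) j β]
    have hγ : IsWeightedHomogeneous (w1 g) ((E g)^[j] β) (2 * (k' : ℤ)) := by
      have := iterate_E_isWH g hβ j
      have e : 2 * ((k' + 1 : ℕ) : ℤ) - 2 * ((j + 1 : ℕ) : ℤ) + 2 * (j : ℤ) = 2 * (k' : ℤ) := by
        push_cast; ring
      rw [e] at this
      exact this
    rw [iterate_F_E g hg hγ k']
    have h3 : (F g)^[k' + 1] ((E g)^[j] β) = 0 := by
      apply eq_zero_of_isWH_neg g (iterate_F_isWH g hγ (k' + 1))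
      push_cast
      omega
    rw [h3, E_zero, zero_add]
    by_cases hk : k' = g
    · subst hk
      have : ((k' : ℚ) + 1) * ((k' : ℚ) - ((2 * (k' : ℤ) : ℤ) : ℚ) + k') = 0 := by
        push_cast; ring
      rw [this, zero_smul]
    · have h4 : (F g)^[k'] ((E g)^[j] β) = 0 := by
        apply ih k' β
        · have e : 2 * ((k' + 1 : ℕ) : ℤ) - 2 * ((j + 1 : ℕ) : ℤ) = 2 * (k' : ℤ) - 2 * j := by
            push_cast; ring
          rw [← e]
          exact hβ
        · omega
        · omega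
      rw [h4, smul_zero]

end Groth.Agent.Helper20.TautJ
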