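import Mathlib
import Groth.Prelude.Def_W4c3tautjacobianRel
import Groth.Agent.Lib.Helper20.TautJ5

/-!
# The formal relation ring, part 6: the relation ideal has no elements of bidegree `(0, n)`,
`3 n ≤ 2 g`.
-/

set_option autoImplicit false

namespace Groth.Agent.Helper20.TautJ

open MvPolynomial W4c3tautjacobian

variable (g : ℕ)

theorem weight_w1N_eq (d : Var g →₀ ℕ) :
    Finsupp.weight (w1N g) d = (Finsupp.weight (wt g) d).1 := by
  rw [Finsupp.weight_apply, Finsupp.weight_apply, Finsupp.sum, Finsupp.sum, Prod.fst_sum]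
  apply Finset.sum_congr rfl
  intro v _
  simp [w1N]

theorem weight_w2N_eq (d : Var g →₀ ℕ) :
    Finsupp.weight (w2N g) d = (Finsupp.weight (wt g) d).2 := by
  rw [Finsupp.weight_apply, Finsupp.weight_apply, Finsupp.sum, Finsupp.sum, Prod.snd_sum]
  apply Finset.sum_congr rfl
  intro v _
  simp [w2N]

/-- the variable `x_{2,0}` -/
def x0 (hg : 1 ≤ g) : Var g := some ⟨(2, 0), valid_x0 g hg⟩

theorem iterate_E_eq (j : ℕ) (P : RelRing g) : (E g)^[j] P = (xv g 2 0) ^ j * P := by
  induction j with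
  | zero => simp
  | succ j ih =>
    rw [Function.iterate_succ_apply', ih]
    unfold E
    ring

theorem monomial_decomp (hg : 1 ≤ g) (d : Var g →₀ ℕ) :
    monomial d (1 : ℚ) = (E g)^[d (x0 g hg)] (monomial (d.erase (x0 g hg)) 1) := by
  rw [iterate_E_eq, xv_x0 g hg, X_pow_eq_monomial, monomial_mul, one_mul]
  exact congrArg (fun e => monomial e (1 : ℚ)) (Finsupp.single_add_erase (x0 g hg) d).symm

theorem w1_x0 (hg : 1 ≤ g) : w1 g (x0 g hg) = 2 := rfl
theorem w2_x0 (hg : 1 ≤ g) : w2 g (x0 g hg) = 0 := rfl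

theorem weight_w1_erase (hg : 1 ≤ g) (d : Var g →₀ ℕ) :
    Finsupp.weight (w1 g) (d.erase (x0 g hg)) =
      Finsupp.weight (w1 g) d - 2 * (d (x0 g hg) : ℤ) := by
  conv_rhs => rw [← Finsupp.single_add_erase (x0 g hg) d]
  rw [map_add, Finsupp.weight_single, w1_x0]
  simp
  ring

theorem weight_w2_erase (hg : 1 ≤ g) (d : Var g →₀ ℕ) :
    Finsupp.weight (w2 g) (d.erase (x0 g hg)) = Finsupp.weight (w2 g) d := by
  conv_rhs => rw [← Finsupp.single_add_erase (x0 g hg) d]
  rw [map_add, Finsupp.weight_single, w2_x0]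
  simp

theorem w1_le_three_w2 (hg : 1 ≤ g) (v : Var g) (hv : v ≠ x0 g hg) :
    w1 g v ≤ 3 * w2 g v := by
  rcases v with _ | ⟨⟨i, j⟩, hval⟩
  · simp [w1, w2, wt]
  · simp only [w1, w2, wt]
    obtain ⟨h1, h2, h3, h4⟩ := hval
    have hne : ¬ (i = 2 ∧ j = 0) := by
      rintro ⟨rfl, rfl⟩
      exact hv rfl
    rcases Nat.eq_zero_or_pos j with hj | hj
    · subst hj
      obtain ⟨t, ht⟩ := h3
      have hi0 : i ≠ 0 := by
        rintro rfl
        exact h4 rfl
      omega
    · have : i ≤ 3 * j := by omega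
      exact_mod_cast this

theorem weight_w1_le (hg : 1 ≤ g) (d : Var g →₀ ℕ) (hd : d (x0 g hg) = 0) :
    Finsupp.weight (w1 g) d ≤ 3 * Finsupp.weight (w2 g) d := by
  rw [Finsupp.weight_apply, Finsupp.weight_apply, Finsupp.sum, Finsupp.sum, Finset.mul_sum]
  apply Finset.sum_le_sum
  intro v hv
  have hv' : v ≠ x0 g hg := by
    rintro rfl
    exact (Finsupp.mem_support_iff.mp hv) hd
  have := w1_le_three_w2 g hg v hv'
  rw [nsmul_eq_mul, nsmul_eq_mul]
  have h5 := mul_le_mul_of_nonneg_left this (Int.natCast_nonneg (d v))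
  nlinarith [h5]

theorem gen_eq_zero (hg : 1 ≤ g) (d : Var g →₀ ℕ) (k : ℕ)
    (h1 : Finsupp.weight (w1 g) d = 2 * (k : ℤ)) (h2 : g < k)
    (h3 : 3 * Finsupp.weight (w2 g) d ≤ 2 * (g : ℤ)) :
    (F g)^[k] (monomial d (1 : ℚ)) = 0 := by
  rw [monomial_decomp g hg d]
  have hw := weight_w1_erase g hg d
  have hle := weight_w1_le g hg (d.erase (x0 g hg)) (by simp)
  rw [weight_w2_erase] at hle
  apply iterate_F_iterate_E g hg
  · apply isWeightedHomogeneous_monomial
    rw [hw, h1]
  · have : (k : ℤ) ≤ g + (d (x0 g hg) : ℤ) := by omega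
    exact_mod_cast this
  · exact h2

theorem eq_zero_of_mem_relIdeal (hg : 1 ≤ g) (n : ℕ) (hn : 3 * n ≤ 2 * g) (P : RelRing g)
    (hP : P ∈ relIdeal g)
    (hhom : IsWeightedHomogeneous (wt g) P ((0, n) : ℕ × ℕ)) : P = 0 := by
  classical
  have key : ∀ x ∈ relIdeal g, ∀ (r : RelRing g) (d' : Var g →₀ ℕ),
      Finsupp.weight (wt g) d' = ((0, n) : ℕ × ℕ) → coeff d' (r * x) = 0 := by
    intro x hx
    unfold relIdeal at hx
    induction hx using Submodule.span_induction with
    | mem x hx =>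
      obtain ⟨d, k, hd, rfl⟩ := hx
      intro r d' hd'
      by_contra hne
      rw [coeff_mul] at hne
      obtain ⟨⟨u, v⟩, huv, hterm⟩ := Finset.exists_ne_zero_of_sum_ne_zero hne
      have huv' : u + v = d' := Finset.HasAntidiagonal.mem_antidiagonal.mp huv
      simp only at hterm
      have hv : coeff v ((F g)^[k] (monomial d (1 : ℚ))) ≠ 0 := right_ne_zero_of_mul hterm
      -- weights of v
      have hsum : Finsupp.weight (wt g) u + Finsupp.weight (wt g) v = ((0, n) : ℕ × ℕ) := by
        rw [← map_add, huv', hd']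
      have hv1 : (Finsupp.weight (wt g) v).1 = 0 := by
        have := congrArg Prod.fst hsum
        simp only [Prod.fst_add] at this
        omega
      have hv2 : (Finsupp.weight (wt g) v).2 ≤ n := by
        have := congrArg Prod.snd hsum
        simp only [Prod.snd_add] at this
        omega
      -- homogeneity of the generator
      have hm1 : IsWeightedHomogeneous (w1 g) (monomial d (1 : ℚ)) (Finsupp.weight (w1 g) d) :=
        isWeightedHomogeneous_monomial _ _ _ rfl
      have hm2 : IsWeightedHomogeneous (w2 g) (monomial d (1 : ℚ)) (Finsupp.weight (w2 g) d) :=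
        isWeightedHomogeneous_monomial _ _ _ rfl
      have e1 := (iterate_F_isWH g hm1 k) hv
      have e2 := (iterate_F_isWH2 g hm2 k) hv
      rw [weight_w1, weight_w1N_eq, hv1] at e1
      rw [weight_w2, weight_w2N_eq] at e2
      have hd1 : Finsupp.weight (w1 g) d = 2 * (k : ℤ) := by
        simp only [Nat.cast_zero] at e1
        omega
      have hdg : (2 * g : ℤ) < Finsupp.weight (w1 g) d := by
        rw [weight_w1, weight_w1N_eq]
        exact_mod_cast hd
      have hzero := gen_eq_zero g hg d k hd1 (by omega) (by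
        rw [← e2]
        have : ((Finsupp.weight (wt g) v).2 : ℤ) ≤ n := by exact_mod_cast hv2
        have hn' : (3 * n : ℤ) ≤ 2 * g := by exact_mod_cast hn
        omega)
      rw [hzero, coeff_zero] at hv
      exact hv rfl
    | zero =>
      intro r d' _
      rw [mul_zero, coeff_zero]
    | add x y _ _ hx hy =>
      intro r d' hd'
      rw [mul_add, coeff_add, hx r d' hd', hy r d' hd', add_zero]
    | smul a x _ hx =>
      intro r d' hd'
      rw [smul_eq_mul, ← mul_assoc]
      exact hx (r * a) d' hd'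
  ext d'
  rw [coeff_zero]
  by_cases hd' : Finsupp.weight (wt g) d' = ((0, n) : ℕ × ℕ)
  · have := key P hP 1 d' hd'
    rwa [one_mul] at this
  · exact hhom.coeff_eq_zero d' hd'

end Groth.Agent.Helper20.TautJ
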