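import Mathlib
import Groth.Prelude.Def_W4c3tautjacobianRel
import Groth.Agent.Lib.Helper20.TautJ6

/-!
# The formal relation ring, part 7: the cone of sign-coherent polynomials
-/

set_option autoImplicit false

namespace Groth.Agent.Helper20.TautJ

open MvPolynomial W4c3tautjacobian

variable (g : ℕ)

/-- all monomials contain `y` -/
def YOnly (P : RelRing g) : Prop := ∀ d : Var g →₀ ℕ, d none = 0 → coeff d P = 0

/-- signed coefficient -/
noncomputable def sc (σ : ℚ) (d : Var g →₀ ℕ) (P : RelRing g) : ℚ :=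
  σ * (-1) ^ (Finsupp.degree d) * coeff d P

/-- the cone of sign-coherent polynomials: every `y`-free monomial only involves variables of
second degree `≥ 1` and its coefficient has the sign `σ (-1)^(number of variables)`. -/
def Cone (σ : ℚ) (P : RelRing g) : Prop :=
  ∀ d : Var g →₀ ℕ, d none = 0 →
    ((coeff d P ≠ 0 → ∀ v ∈ d.support, 1 ≤ (wt g v).2) ∧ 0 ≤ sc g σ d P)

variable {g}

theorem sc_add (σ : ℚ) (d : Var g →₀ ℕ) (P Q : RelRing g) :
    sc g σ d (P + Q) = sc g σ d P + sc g σ d Q := by
  unfold sc; rw [coeff_add]; ring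

theorem sc_smul (σ : ℚ) (d : Var g →₀ ℕ) (c : ℚ) (P : RelRing g) :
    sc g σ d (c • P) = c * sc g σ d P := by
  unfold sc; rw [coeff_smul, smul_eq_mul]; ring

theorem sc_zero (σ : ℚ) (d : Var g →₀ ℕ) : sc g σ d (0 : RelRing g) = 0 := by
  unfold sc; rw [coeff_zero, mul_zero]

theorem sc_sum {ι : Type*} (σ : ℚ) (d : Var g →₀ ℕ) (s : Finset ι) (T : ι → RelRing g) :
    sc g σ d (∑ i ∈ s, T i) = ∑ i ∈ s, sc g σ d (T i) := by
  classical
  induction s using Finset.induction_on with
  | empty => simp [sc_zero]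
  | insert a s ha ih => rw [Finset.sum_insert ha, Finset.sum_insert ha, sc_add, ih]

theorem sc_neg_sigma (σ : ℚ) (d : Var g →₀ ℕ) (P : RelRing g) :
    sc g (-σ) d P = - sc g σ d P := by
  unfold sc; ring

theorem YOnly.cone {P : RelRing g} (h : YOnly g P) (σ : ℚ) : Cone g σ P := by
  intro d hd
  have h0 := h d hd
  refine ⟨fun hne => absurd h0 hne, ?_⟩
  unfold sc
  rw [h0, mul_zero]

theorem YOnly.sc_eq_zero {P : RelRing g} (h : YOnly g P) (σ : ℚ) (d : Var g →₀ ℕ)
    (hd : d none = 0) : sc g σ d P = 0 := by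
  unfold sc
  rw [h d hd, mul_zero]

theorem yonly_zero : YOnly g (0 : RelRing g) := fun d _ => coeff_zero d

theorem cone_zero (σ : ℚ) : Cone g σ (0 : RelRing g) := (yonly_zero).cone σ

theorem Cone.add {σ : ℚ} {P Q : RelRing g} (hP : Cone g σ P) (hQ : Cone g σ Q) :
    Cone g σ (P + Q) := by
  intro d hd
  obtain ⟨hP1, hP2⟩ := hP d hd
  obtain ⟨hQ1, hQ2⟩ := hQ d hd
  refine ⟨?_, ?_⟩
  · intro hne
    rw [coeff_add] at hne
    by_cases h : coeff d P = 0
    · rw [h, zero_add] at hne
      exact hQ1 hne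
    · exact hP1 h
  · rw [sc_add]
    exact add_nonneg hP2 hQ2

theorem Cone.sum {ι : Type*} {σ : ℚ} (s : Finset ι) (T : ι → RelRing g)
    (h : ∀ i ∈ s, Cone g σ (T i)) : Cone g σ (∑ i ∈ s, T i) := by
  classical
  induction s using Finset.induction_on with
  | empty => simpa using cone_zero σ
  | insert a s ha ih =>
    rw [Finset.sum_insert ha]
    exact (h a (Finset.mem_insert_self a s)).add
      (ih (fun i hi => h i (Finset.mem_insert_of_mem hi)))

theorem Cone.smul_nonneg {σ : ℚ} {P : RelRing g} (hP : Cone g σ P) {c : ℚ} (hc : 0 ≤ c) :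
    Cone g σ (c • P) := by
  intro d hd
  obtain ⟨hP1, hP2⟩ := hP d hd
  refine ⟨?_, ?_⟩
  · intro hne
    rw [coeff_smul, smul_eq_mul] at hne
    exact hP1 (right_ne_zero_of_mul hne)
  · rw [sc_smul]
    exact mul_nonneg hc hP2

theorem Cone.neg {σ : ℚ} {P : RelRing g} (hP : Cone g σ P) : Cone g (-σ) (-P) := by
  intro d hd
  obtain ⟨hP1, hP2⟩ := hP d hd
  refine ⟨?_, ?_⟩
  · intro hne
    rw [coeff_neg] at hne
    exact hP1 (neg_ne_zero.mp hne)
  · unfold sc at hP2 ⊢
    rw [coeff_neg]
    linarith [hP2, show -σ * (-1) ^ (Finsupp.degree d) * -(coeff d P) =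
      σ * (-1) ^ (Finsupp.degree d) * coeff d P by ring]

theorem Cone.nonneg {σ : ℚ} {P : RelRing g} (hP : Cone g σ P) (d : Var g →₀ ℕ)
    (hd : d none = 0) : 0 ≤ sc g σ d P := (hP d hd).2

/-- left multiplication preserves `YOnly` -/
theorem YOnly.mul_left {P : RelRing g} (h : YOnly g P) (A : RelRing g) : YOnly g (A * P) := by
  classical
  intro d hd
  rw [coeff_mul]
  apply Finset.sum_eq_zero
  rintro ⟨u, v⟩ huv
  have huv' : u + v = d := Finset.HasAntidiagonal.mem_antidiagonal.mp huv
  have hv : v none = 0 := by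
    have := congrArg (fun e => e none) huv'
    simp only [Finsupp.add_apply] at this
    omega
  simp only
  rw [h v hv, mul_zero]

theorem yonly_X_none_mul (A : RelRing g) : YOnly g (X none * A) := by
  classical
  intro d hd
  rw [coeff_X_mul', if_neg]
  rw [Finsupp.mem_support_iff, not_not]
  exact hd

/-- multiplying by a good variable flips the sign -/
theorem Cone.X_mul {σ : ℚ} {P : RelRing g} (hP : Cone g σ P) (r : Var g)
    (hr : 1 ≤ (wt g r).2) : Cone g (-σ) (X r * P) := by
  classical
  intro d hd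
  rw [show sc g (-σ) d (X r * P) = -σ * (-1) ^ (Finsupp.degree d) * coeff d (X r * P) from rfl,
    coeff_X_mul']
  by_cases hrd : r ∈ d.support
  · rw [if_pos hrd]
    have hle : Finsupp.single r 1 ≤ d := by
      rw [Finsupp.single_le_iff]
      exact Nat.one_le_iff_ne_zero.mpr (Finsupp.mem_support_iff.mp hrd)
    have hd' : d - Finsupp.single r 1 + Finsupp.single r 1 = d := tsub_add_cancel_of_le hle
    have hnone : (d - Finsupp.single r 1 : Var g →₀ ℕ) none = 0 := by
      rw [Finsupp.tsub_apply, hd]; simp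
    obtain ⟨h1, h2⟩ := hP (d - Finsupp.single r 1) hnone
    refine ⟨?_, ?_⟩
    · intro hne v hv
      by_cases hvr : v = r
      · subst hvr; exact hr
      · apply h1 hne v
        rw [Finsupp.mem_support_iff, Finsupp.tsub_apply, Finsupp.single_apply, if_neg (Ne.symm hvr)]
        simpa using Finsupp.mem_support_iff.mp hv
    · have hdeg : Finsupp.degree d = Finsupp.degree (d - Finsupp.single r 1) + 1 := by
        conv_lhs => rw [← hd']
        rw [map_add, Finsupp.degree_single]
      rw [hdeg, pow_succ]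
      unfold sc at h2
      linarith [h2, show -σ * ((-1) ^ (Finsupp.degree (d - Finsupp.single r 1)) * -1) *
        coeff (d - Finsupp.single r 1) P =
        σ * (-1) ^ (Finsupp.degree (d - Finsupp.single r 1)) *
          coeff (d - Finsupp.single r 1) P by ring]
  · rw [if_neg hrd]
    refine ⟨fun h => absurd rfl h, ?_⟩
    rw [mul_zero]

/-- differentiating flips the sign -/
theorem Cone.pderiv {σ : ℚ} {P : RelRing g} (hP : Cone g σ P) (r : {p : ℕ × ℕ // Valid g p}) :
    Cone g (-σ) (MvPolynomial.pderiv (some r) P) := by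
  intro d hd
  have hnone : (d + Finsupp.single (some r) 1 : Var g →₀ ℕ) none = 0 := by
    rw [Finsupp.add_apply, hd, Finsupp.single_apply, if_neg (by simp), add_zero]
  obtain ⟨h1, h2⟩ := hP (d + Finsupp.single (some r) 1) hnone
  refine ⟨?_, ?_⟩
  · intro hne v hv
    rw [coeff_pderiv] at hne
    apply h1 (left_ne_zero_of_mul hne) v
    rw [Finsupp.mem_support_iff, Finsupp.add_apply]
    have := Finsupp.mem_support_iff.mp hv
    omega
  · unfold sc at h2 ⊢
    rw [coeff_pderiv]
    rw [map_add, Finsupp.degree_single, pow_succ] at h2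
    have h3 : (0 : ℚ) ≤ (d (some r) : ℚ) + 1 := by positivity
    have := mul_nonneg h2 h3
    linarith [this, show -σ * (-1) ^ (Finsupp.degree d) *
      (coeff (d + Finsupp.single (some r) 1) P * ((d (some r) : ℚ) + 1)) =
      σ * ((-1) ^ (Finsupp.degree d) * -1) * coeff (d + Finsupp.single (some r) 1) P *
        ((d (some r) : ℚ) + 1) by ring]

/-- differentiating with respect to a variable of second degree `0` kills the `y`-free part -/
theorem Cone.pderiv_yonly {σ : ℚ} {P : RelRing g} (hP : Cone g σ P)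
    (r : {p : ℕ × ℕ // Valid g p}) (hr : r.1.2 = 0) : YOnly g (MvPolynomial.pderiv (some r) P) := by
  intro d hd
  by_contra hne
  have hnone : (d + Finsupp.single (some r) 1 : Var g →₀ ℕ) none = 0 := by
    rw [Finsupp.add_apply, hd, Finsupp.single_apply, if_neg (by simp), add_zero]
  obtain ⟨h1, -⟩ := hP (d + Finsupp.single (some r) 1) hnone
  rw [coeff_pderiv] at hne
  have h2 := h1 (left_ne_zero_of_mul hne) (some r) (by
    rw [Finsupp.mem_support_iff, Finsupp.add_apply, Finsupp.single_apply, if_pos rfl]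
    omega)
  simp only [wt] at h2
  omega

end Groth.Agent.Helper20.TautJ
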