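import Mathlib
import Groth.Prelude.Def_W4c3tautjacobianRel
import Groth.Agent.Lib.Helper20.TautJ7

/-!
# The formal relation ring, part 8: `F` preserves the cone, and lower bounds
-/

set_option autoImplicit false

namespace Groth.Agent.Helper20.TautJ

open MvPolynomial W4c3tautjacobian

variable {g : ℕ}

theorem YOnly.add {P Q : RelRing g} (hP : YOnly g P) (hQ : YOnly g Q) : YOnly g (P + Q) := by
  intro d hd
  rw [coeff_add, hP d hd, hQ d hd, add_zero]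

theorem YOnly.pderiv {P : RelRing g} (h : YOnly g P) (r : {p : ℕ × ℕ // Valid g p}) :
    YOnly g (MvPolynomial.pderiv (some r) P) := by
  intro d hd
  have hnone : (d + Finsupp.single (some r) 1 : Var g →₀ ℕ) none = 0 := by
    rw [Finsupp.add_apply, hd, Finsupp.single_apply, if_neg (by simp), add_zero]
  rw [coeff_pderiv, h _ hnone, zero_mul]

theorem YOnly.dv {P : RelRing g} (h : YOnly g P) (p : ℕ × ℕ) : YOnly g (dv g p P) := by
  by_cases hp : Valid g p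
  · rw [dv_valid g hp]; exact h.pderiv _
  · rw [dv_invalid g hp]; exact yonly_zero

theorem Cone.dv {σ : ℚ} {P : RelRing g} (hP : Cone g σ P) (p : ℕ × ℕ) :
    Cone g (-σ) (W4c3tautjacobian.dv g p P) := by
  by_cases hp : Valid g p
  · rw [dv_valid g hp]; exact hP.pderiv _
  · rw [dv_invalid g hp]; exact cone_zero _

theorem Cone.dv_yonly {σ : ℚ} {P : RelRing g} (hP : Cone g σ P) (p : ℕ × ℕ) (hp2 : p.2 = 0) :
    YOnly g (W4c3tautjacobian.dv g p P) := by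
  by_cases hp : Valid g p
  · rw [dv_valid g hp]; exact hP.pderiv_yonly ⟨p, hp⟩ hp2
  · rw [dv_invalid g hp]; exact yonly_zero

theorem xv_cases (i j : ℤ) :
    (i = 0 ∧ j = 0 ∧ xv g i j = (g : RelRing g)) ∨
    (∃ (p : ℕ × ℕ) (h : Valid g p), (p.1 : ℤ) = i ∧ (p.2 : ℤ) = j ∧
      xv g i j = X (some ⟨p, h⟩)) ∨
    xv g i j = 0 := by
  unfold xv
  split_ifs with h0 h1
  · exact Or.inl ⟨h0.1, h0.2, rfl⟩
  · refine Or.inr (Or.inl ⟨(i.toNat, j.toNat), h1.2.2, ?_, ?_, rfl⟩)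
    · simp [h1.1]
    · simp [h1.2.1]
  · exact Or.inr (Or.inr rfl)

/-- the `y`-part of a summand of `F` -/
noncomputable def yTerm (g : ℕ) (P : RelRing g) (p q : ℕ × ℕ) : RelRing g :=
  X none * (xv g ((p.1 : ℤ) - 1) ((p.2 : ℤ) - 1) * xv g ((q.1 : ℤ) - 1) ((q.2 : ℤ) - 1)
    * dv g p (dv g q P))

/-- the merging part of a summand of `F` -/
noncomputable def mergeTerm (g : ℕ) (P : RelRing g) (p q : ℕ × ℕ) : RelRing g :=
  -((mergeCoeff p.1 q.1 : RelRing g) * xv g ((p.1 : ℤ) + q.1 - 2) ((p.2 : ℤ) + q.2)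
    * dv g p (dv g q P))

theorem Acoef_mul_split (P : RelRing g) (p q : ℕ × ℕ) :
    Acoef g p q * dv g p (dv g q P) = yTerm g P p q + mergeTerm g P p q := by
  unfold Acoef yTerm mergeTerm
  ring

theorem yonly_yTerm (P : RelRing g) (p q : ℕ × ℕ) : YOnly g (yTerm g P p q) :=
  yonly_X_none_mul _

theorem cone_mergeTerm {σ : ℚ} {P : RelRing g} (hP : Cone g σ P) (p q : ℕ × ℕ) :
    Cone g σ (mergeTerm g P p q) := by
  unfold mergeTerm
  have hD : Cone g σ (dv g p (dv g q P)) := by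
    have := (hP.dv q).dv p
    rwa [neg_neg] at this
  have hY : (p.2 : ℤ) + q.2 = 0 → YOnly g (-((mergeCoeff p.1 q.1 : RelRing g) *
      xv g ((p.1 : ℤ) + q.1 - 2) ((p.2 : ℤ) + q.2) * dv g p (dv g q P))) := by
    intro h
    have hq2 : q.2 = 0 := by omega
    have := ((hP.dv_yonly q hq2).dv p).mul_left (-((mergeCoeff p.1 q.1 : RelRing g) *
      xv g ((p.1 : ℤ) + q.1 - 2) ((p.2 : ℤ) + q.2)))
    rwa [neg_mul] at this
  rcases xv_cases (g := g) ((p.1 : ℤ) + q.1 - 2) ((p.2 : ℤ) + q.2) with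
    ⟨-, h2, -⟩ | ⟨r, hr, -, hr2, hx⟩ | hx
  · exact (hY h2).cone σ
  · by_cases hr0 : r.2 = 0
    · exact (hY (by omega)).cone σ
    · rw [hx]
      have h1 : Cone g (-σ) (X (some ⟨r, hr⟩) * dv g p (dv g q P)) :=
        hD.X_mul _ (by simp only [wt]; omega)
      have h2 := (h1.neg).smul_nonneg (c := (mergeCoeff p.1 q.1 : ℚ)) (Nat.cast_nonneg _)
      rw [neg_neg] at h2
      have e : -((mergeCoeff p.1 q.1 : RelRing g) * X (some ⟨r, hr⟩) * dv g p (dv g q P)) =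
          (mergeCoeff p.1 q.1 : ℚ) • -(X (some ⟨r, hr⟩) * dv g p (dv g q P)) := by
        rw [smul_neg, ← C_mul', map_natCast, mul_assoc]
      rw [e]
      exact h2
  · rw [hx, mul_zero, zero_mul, neg_zero]
    exact cone_zero σ

theorem cone_lowerTerm {σ : ℚ} {P : RelRing g} (hP : Cone g σ P) (p : ℕ × ℕ) :
    Cone g σ (Bcoef g p * dv g p P) := by
  unfold Bcoef
  have hD : Cone g (-σ) (dv g p P) := hP.dv p
  have hY : p.2 = 0 → YOnly g (xv g ((p.1 : ℤ) - 2) (p.2 : ℤ) * dv g p P) :=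
    fun h => (hP.dv_yonly p h).mul_left _
  rcases xv_cases (g := g) ((p.1 : ℤ) - 2) (p.2 : ℤ) with
    ⟨-, h2, -⟩ | ⟨r, hr, -, hr2, hx⟩ | hx
  · exact (hY (by exact_mod_cast h2)).cone σ
  · by_cases hr0 : r.2 = 0
    · exact (hY (by omega)).cone σ
    · rw [hx]
      have := hD.X_mul (some ⟨r, hr⟩) (by simp only [wt]; omega)
      rwa [neg_neg] at this
  · rw [hx, zero_mul]
    exact cone_zero σ

/-- `F` preserves the cone -/
theorem cone_F {σ : ℚ} {P : RelRing g} (hP : Cone g σ P) : Cone g σ (F g P) := by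
  rw [F_eq]
  apply Cone.add
  · apply Cone.smul_nonneg _ (by norm_num)
    apply Cone.sum
    intro p _
    apply Cone.sum
    intro q _
    rw [Acoef_mul_split]
    exact ((yonly_yTerm P p q).cone σ).add (cone_mergeTerm hP p q)
  · apply Cone.sum
    intro p _
    exact cone_lowerTerm hP p

theorem cone_iterate_F {σ : ℚ} {P : RelRing g} (hP : Cone g σ P) (k : ℕ) :
    Cone g σ ((F g)^[k] P) := by
  induction k with
  | zero => exact hP
  | succ k ih =>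
    rw [Function.iterate_succ_apply']
    exact cone_F ih

theorem sc_F_eq {σ : ℚ} (P : RelRing g) (d : Var g →₀ ℕ) (hd : d none = 0) :
    sc g σ d (F g P) = (1 / 2 : ℚ) * (∑ p ∈ idx g, ∑ q ∈ idx g, sc g σ d (mergeTerm g P p q))
      + ∑ p ∈ idx g, sc g σ d (Bcoef g p * dv g p P) := by
  have e1 : ∀ p q, sc g σ d (Acoef g p q * dv g p (dv g q P)) = sc g σ d (mergeTerm g P p q) := by
    intro p q
    rw [Acoef_mul_split, sc_add, (yonly_yTerm P p q).sc_eq_zero σ d hd, zero_add]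
  rw [F_eq, sc_add, sc_smul, sc_sum, sc_sum]
  simp_rw [sc_sum, e1]

theorem sc_F_ge_merge {σ : ℚ} {P : RelRing g} (hP : Cone g σ P) (d : Var g →₀ ℕ)
    (hd : d none = 0) (p q : ℕ × ℕ) (hp : p ∈ idx g) (hq : q ∈ idx g) :
    (1 / 2 : ℚ) * sc g σ d (mergeTerm g P p q) ≤ sc g σ d (F g P) := by
  have hnn : ∀ p q, 0 ≤ sc g σ d (mergeTerm g P p q) :=
    fun p q => (cone_mergeTerm hP p q).nonneg d hd
  rw [sc_F_eq P d hd]
  have h1 : sc g σ d (mergeTerm g P p q) ≤ ∑ q' ∈ idx g, sc g σ d (mergeTerm g P p q') :=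
    Finset.single_le_sum (f := fun q' => sc g σ d (mergeTerm g P p q'))
      (fun q' _ => hnn p q') hq
  have h2 : ∑ q' ∈ idx g, sc g σ d (mergeTerm g P p q') ≤
      ∑ p' ∈ idx g, ∑ q' ∈ idx g, sc g σ d (mergeTerm g P p' q') :=
    Finset.single_le_sum (f := fun p' => ∑ q' ∈ idx g, sc g σ d (mergeTerm g P p' q'))
      (fun p' _ => Finset.sum_nonneg (fun q' _ => hnn p' q')) hp
  have h3 : 0 ≤ ∑ p' ∈ idx g, sc g σ d (Bcoef g p' * dv g p' P) :=
    Finset.sum_nonneg (fun p' _ => (cone_lowerTerm hP p').nonneg d hd)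
  linarith

theorem sc_F_ge_lower {σ : ℚ} {P : RelRing g} (hP : Cone g σ P) (d : Var g →₀ ℕ)
    (hd : d none = 0) (p : ℕ × ℕ) (hp : p ∈ idx g) :
    sc g σ d (Bcoef g p * dv g p P) ≤ sc g σ d (F g P) := by
  have hnn : ∀ p q, 0 ≤ sc g σ d (mergeTerm g P p q) :=
    fun p q => (cone_mergeTerm hP p q).nonneg d hd
  rw [sc_F_eq P d hd]
  have h2 : 0 ≤ ∑ p' ∈ idx g, ∑ q' ∈ idx g, sc g σ d (mergeTerm g P p' q') :=
    Finset.sum_nonneg (fun p' _ => Finset.sum_nonneg (fun q' _ => hnn p' q'))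
  have h3 : sc g σ d (Bcoef g p * dv g p P) ≤ ∑ p' ∈ idx g, sc g σ d (Bcoef g p' * dv g p' P) :=
    Finset.single_le_sum (f := fun p' => sc g σ d (Bcoef g p' * dv g p' P))
      (fun p' _ => (cone_lowerTerm hP p').nonneg d hd) hp
  linarith

theorem sc_mergeTerm {σ : ℚ} (P : RelRing g) (ν : Var g →₀ ℕ) (p q r : ℕ × ℕ)
    (hp : Valid g p) (hq : Valid g q) (hr : Valid g r)
    (hr1 : r.1 + 2 = p.1 + q.1) (hr2 : r.2 = p.2 + q.2) :
    sc g σ (ν + Finsupp.single (some ⟨r, hr⟩) 1) (mergeTerm g P p q) =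
      (mergeCoeff p.1 q.1 : ℚ) * ((ν (some ⟨p, hp⟩) : ℚ) + 1) *
        (((ν + Finsupp.single (some ⟨p, hp⟩) 1 : Var g →₀ ℕ) (some ⟨q, hq⟩) : ℚ) + 1) *
        sc g σ (ν + Finsupp.single (some ⟨p, hp⟩) 1 + Finsupp.single (some ⟨q, hq⟩) 1) P := by
  unfold mergeTerm
  have e1 : ((p.1 : ℤ) + q.1 - 2) = (r.1 : ℤ) := by omega
  have e2 : ((p.2 : ℤ) + q.2) = (r.2 : ℤ) := by omega
  rw [e1, e2, xv_valid g hr, dv_valid g hp, dv_valid g hq]
  have e : ∀ D : RelRing g, -((mergeCoeff p.1 q.1 : RelRing g) * X (some ⟨r, hr⟩) * D) =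
      C (-(mergeCoeff p.1 q.1 : ℚ)) * (X (some ⟨r, hr⟩) * D) := by
    intro D
    rw [map_neg, map_natCast]
    ring
  rw [e]
  unfold sc
  rw [coeff_C_mul,
    add_comm ν (Finsupp.single (some ⟨r, hr⟩) 1), coeff_X_mul, coeff_pderiv, coeff_pderiv]
  simp only [map_add, Finsupp.degree_single, pow_succ]
  ring

theorem merge_pos {σ : ℚ} {P : RelRing g} (hP : Cone g σ P) (ν : Var g →₀ ℕ) (hν : ν none = 0)
    (p q r : ℕ × ℕ) (hp : Valid g p) (hq : Valid g q) (hr : Valid g r)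
    (hr1 : r.1 + 2 = p.1 + q.1) (hr2 : r.2 = p.2 + q.2) (hmc : 0 < mergeCoeff p.1 q.1)
    (hpos : 0 < sc g σ (ν + Finsupp.single (some ⟨p, hp⟩) 1 + Finsupp.single (some ⟨q, hq⟩) 1) P) :
    0 < sc g σ (ν + Finsupp.single (some ⟨r, hr⟩) 1) (F g P) := by
  have hd : (ν + Finsupp.single (some ⟨r, hr⟩) 1 : Var g →₀ ℕ) none = 0 := by
    rw [Finsupp.add_apply, hν, Finsupp.single_apply, if_neg (by simp), add_zero]
  have h1 := sc_F_ge_merge hP _ hd p q (mem_idx_of_valid g hp) (mem_idx_of_valid g hq)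
  rw [sc_mergeTerm P ν p q r hp hq hr hr1 hr2] at h1
  have h2 : (0 : ℚ) < (mergeCoeff p.1 q.1 : ℚ) := by exact_mod_cast hmc
  have h3 : (0 : ℚ) < (ν (some ⟨p, hp⟩) : ℚ) + 1 := by positivity
  have h4 : (0 : ℚ) < ((ν + Finsupp.single (some ⟨p, hp⟩) 1 : Var g →₀ ℕ) (some ⟨q, hq⟩) : ℚ) + 1 := by
    positivity
  have h5 := mul_pos (mul_pos (mul_pos h2 h3) h4) hpos
  linarith

theorem sc_lowerTerm {σ : ℚ} (P : RelRing g) (ν : Var g →₀ ℕ) (p r : ℕ × ℕ)
    (hp : Valid g p) (hr : Valid g r) (hr1 : r.1 + 2 = p.1) (hr2 : r.2 = p.2) :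
    sc g σ (ν + Finsupp.single (some ⟨r, hr⟩) 1) (Bcoef g p * dv g p P) =
      ((ν (some ⟨p, hp⟩) : ℚ) + 1) * sc g σ (ν + Finsupp.single (some ⟨p, hp⟩) 1) P := by
  unfold Bcoef
  have e1 : ((p.1 : ℤ) - 2) = (r.1 : ℤ) := by omega
  have e2 : (p.2 : ℤ) = (r.2 : ℤ) := by omega
  rw [e1, e2, xv_valid g hr, dv_valid g hp]
  unfold sc
  rw [add_comm ν (Finsupp.single (some ⟨r, hr⟩) 1), coeff_X_mul, coeff_pderiv]
  simp only [map_add, Finsupp.degree_single, pow_succ]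
  ring

theorem lower_pos {σ : ℚ} {P : RelRing g} (hP : Cone g σ P) (ν : Var g →₀ ℕ) (hν : ν none = 0)
    (p r : ℕ × ℕ) (hp : Valid g p) (hr : Valid g r) (hr1 : r.1 + 2 = p.1) (hr2 : r.2 = p.2)
    (hpos : 0 < sc g σ (ν + Finsupp.single (some ⟨p, hp⟩) 1) P) :
    0 < sc g σ (ν + Finsupp.single (some ⟨r, hr⟩) 1) (F g P) := by
  have hd : (ν + Finsupp.single (some ⟨r, hr⟩) 1 : Var g →₀ ℕ) none = 0 := by
    rw [Finsupp.add_apply, hν, Finsupp.single_apply, if_neg (by simp), add_zero]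
  have h1 := sc_F_ge_lower hP _ hd p (mem_idx_of_valid g hp)
  rw [sc_lowerTerm P ν p r hp hr hr1 hr2] at h1
  have h3 : (0 : ℚ) < (ν (some ⟨p, hp⟩) : ℚ) + 1 := by positivity
  have h5 := mul_pos h3 hpos
  linarith

end Groth.Agent.Helper20.TautJ
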