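import Mathlib
import Groth.Prelude.Def_W4c3tautjacobianRel
import Groth.Agent.Lib.Helper20.TautJ8

/-!
# The formal relation ring, part 9: a chain of merges and lowerings with nonzero coefficient
-/

set_option autoImplicit false

namespace Groth.Agent.Helper20.TautJ

open MvPolynomial W4c3tautjacobian

/-- total version of the variable at a pair (`y` at a non-admissible pair) -/
noncomputable def vr (g : ℕ) (p : ℕ × ℕ) : Var g :=
  if h : Valid g p then some ⟨p, h⟩ else none

theorem vr_valid {g : ℕ} {p : ℕ × ℕ} (h : Valid g p) : vr g p = some ⟨p, h⟩ := dif_pos h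

variable {g : ℕ}

theorem sc_ne_zero {σ : ℚ} {d : Var g →₀ ℕ} {P : RelRing g} (h : 0 < sc g σ d P) :
    coeff d P ≠ 0 := by
  intro h0
  unfold sc at h
  rw [h0, mul_zero] at h
  exact lt_irrefl _ h

theorem sc_monomial_self (μ : Var g →₀ ℕ) :
    sc g ((-1) ^ (Finsupp.degree μ)) μ (monomial μ (1 : ℚ)) = 1 := by
  unfold sc
  rw [coeff_monomial, if_pos rfl, mul_one, ← pow_add]
  exact Even.neg_one_pow ⟨_, rfl⟩

theorem cone_monomial (μ : Var g →₀ ℕ) (hμ : ∀ v ∈ μ.support, 1 ≤ (wt g v).2) :
    Cone g ((-1) ^ (Finsupp.degree μ)) (monomial μ (1 : ℚ)) := by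
  classical
  intro d _
  by_cases h : μ = d
  · subst h
    refine ⟨fun _ => hμ, ?_⟩
    rw [sc_monomial_self]
    exact zero_le_one
  · refine ⟨fun hne => ?_, ?_⟩
    · rw [coeff_monomial, if_neg h] at hne
      exact absurd rfl hne
    · unfold sc
      rw [coeff_monomial, if_neg h, mul_zero]

section chain

variable (i k β : ℕ) (hk : k + i = g) (hβ : β + g = 3 * i) (hβ1 : 1 ≤ β) (hi : i + 1 ≤ g)

include hβ hβ1 hi

theorem valid31 : Valid g (3, 1) := by
  refine ⟨by simp only; omega, by simp only; omega, ⟨2, by simp only⟩, by simp⟩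

include hk

theorem validb (t : ℕ) (ht : t ≤ k) : Valid g (β + t + 2, β + t) := by
  refine ⟨by simp only; omega, by simp only; omega, ⟨β + t + 1, by simp only; omega⟩, ?_⟩
  intro h
  have := congrArg Prod.fst h
  simp only at this
  omega

omit hk in
theorem validl (u : ℕ) (hu : u ≤ i + 1) : Valid g (2 * u, 2 * i) := by
  refine ⟨by simp only; omega, by simp only; omega, ⟨u + i, by simp only; omega⟩, ?_⟩
  intro h
  have := congrArg Prod.snd h
  simp only at this
  omega

theorem phase1 {σ : ℚ} {P : RelRing g} (hP : Cone g σ P)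
    (h0 : 0 < sc g σ (Finsupp.single (vr g (3, 1)) k + Finsupp.single (vr g (β + 0 + 2, β + 0)) 1) P) :
    ∀ t j : ℕ, t + j = k →
      0 < sc g σ (Finsupp.single (vr g (3, 1)) j + Finsupp.single (vr g (β + t + 2, β + t)) 1)
        ((F g)^[t] P) := by
  intro t
  induction t with
  | zero =>
    intro j hj
    have : j = k := by omega
    subst this
    exact h0
  | succ t ih =>
    intro j hj
    have h1 := ih (j + 1) (by omega)
    have v31 := valid31 i β hβ hβ1 hi
    have vq := validb i k β hk hβ hβ1 hi t (by omega)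
    have vr' := validb i k β hk hβ hβ1 hi (t + 1) (by omega)
    rw [Finsupp.single_add, vr_valid v31, vr_valid vq] at h1
    rw [vr_valid v31, vr_valid vr', Function.iterate_succ_apply']
    have hν : (Finsupp.single (some ⟨(3, 1), v31⟩) j : Var g →₀ ℕ) none = 0 := by
      rw [Finsupp.single_apply, if_neg (by simp)]
    have hmc : 0 < mergeCoeff ((3, 1) : ℕ × ℕ).1 ((β + t + 2, β + t) : ℕ × ℕ).1 := by
      show 0 < mergeCoeff 3 (β + t + 2)
      unfold mergeCoeff
      rw [if_neg (by omega)]
      exact Nat.choose_pos (by omega)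
    exact merge_pos (cone_iterate_F hP t) _ hν (3, 1) (β + t + 2, β + t)
      (β + (t + 1) + 2, β + (t + 1)) v31 vq vr' (by simp only; omega) (by simp only; omega) hmc h1

omit hk in
theorem phase2 {σ : ℚ} {P : RelRing g} (hP : Cone g σ P)
    (h0 : 0 < sc g σ (Finsupp.single (vr g (2 * (i + 1), 2 * i)) 1) P) :
    ∀ t u : ℕ, t + u = i + 1 →
      0 < sc g σ (Finsupp.single (vr g (2 * u, 2 * i)) 1) ((F g)^[t] P) := by
  intro t
  induction t with
  | zero =>
    intro u hu
    have : u = i + 1 := by omega
    subst this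
    exact h0
  | succ t ih =>
    intro u hu
    have h1 := ih (u + 1) (by omega)
    have vp := validl i β hβ hβ1 hi (u + 1) (by omega)
    have vr' := validl i β hβ hβ1 hi u (by omega)
    rw [vr_valid vp, ← zero_add (Finsupp.single _ _)] at h1
    rw [vr_valid vr', Function.iterate_succ_apply', ← zero_add (Finsupp.single _ _)]
    exact lower_pos (cone_iterate_F hP t) 0 rfl (2 * (u + 1), 2 * i) (2 * u, 2 * i) vp vr'
      (by simp only; omega) (by simp only) h1

/-- the coefficient of `x 0 (2i)` in the chain relation is nonzero -/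
theorem chain_coeff_ne_zero :
    coeff (Finsupp.single (vr g (0, 2 * i)) 1)
      ((F g)^[g + 1] (monomial
        (Finsupp.single (vr g (3, 1)) k + Finsupp.single (vr g (β + 2, β)) 1) (1 : ℚ))) ≠ 0 := by
  classical
  set μ : Var g →₀ ℕ := Finsupp.single (vr g (3, 1)) k + Finsupp.single (vr g (β + 2, β)) 1
    with hμdef
  set σ : ℚ := (-1) ^ (Finsupp.degree μ) with hσ
  have v31 := valid31 i β hβ hβ1 hi
  have vb0 : Valid g (β + 2, β) := validb i k β hk hβ hβ1 hi 0 (by omega)
  have hcone : Cone g σ (monomial μ (1 : ℚ)) := by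
    apply cone_monomial
    intro v hv
    have hv' := Finsupp.support_add hv
    rw [Finset.mem_union] at hv'
    rcases hv' with hv' | hv'
    · have := Finsupp.support_single_subset hv'
      rw [Finset.mem_singleton] at this
      rw [this, vr_valid v31]
      simp [wt]
    · have := Finsupp.support_single_subset hv'
      rw [Finset.mem_singleton] at this
      rw [this, vr_valid vb0]
      simp only [wt]
      omega
  have h0 : 0 < sc g σ μ (monomial μ (1 : ℚ)) := by
    rw [hσ, sc_monomial_self]
    exact one_pos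
  have h1 := phase1 i k β hk hβ hβ1 hi hcone h0 k 0 (by omega)
  rw [Finsupp.single_zero, zero_add] at h1
  have e : ((β + k + 2, β + k) : ℕ × ℕ) = (2 * (i + 1), 2 * i) := by
    ext
    · simp only; omega
    · simp only; omega
  rw [e] at h1
  have h2 := phase2 i β hβ hβ1 hi (cone_iterate_F hcone k) h1 (i + 1) 0 (by omega)
  rw [← Function.iterate_add_apply] at h2
  have e2 : i + 1 + k = g + 1 := by omega
  rw [e2] at h2
  exact sc_ne_zero h2

end chain

end Groth.Agent.Helper20.TautJ
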