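import Mathlib
import Groth.Prelude.Def_W4c3tautjacobianRel
import Groth.Agent.Lib.Helper20.TautJ9

/-!
# The formal relation ring, part 10: the low generators generate the first-degree-0 part
-/

set_option autoImplicit false

namespace Groth.Agent.Helper20.TautJ

open MvPolynomial W4c3tautjacobian

variable (g : ℕ)

/-- polynomials congruent modulo the relation ideal to a polynomial in the low generators -/
noncomputable def Bsub : Subalgebra ℚ (RelRing g) :=
  ((Algebra.adjoin ℚ (lowGens g)).map (Ideal.Quotient.mkₐ ℚ (relIdeal g))).comap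
    (Ideal.Quotient.mkₐ ℚ (relIdeal g))

theorem mem_Bsub {P : RelRing g} :
    P ∈ Bsub g ↔ ∃ q ∈ Algebra.adjoin ℚ (lowGens g), P - q ∈ relIdeal g := by
  unfold Bsub
  rw [Subalgebra.mem_comap, Subalgebra.mem_map]
  constructor
  · rintro ⟨q, hq, h⟩
    refine ⟨q, hq, ?_⟩
    rw [Ideal.Quotient.mkₐ_eq_mk, Ideal.Quotient.eq] at h
    rw [← neg_sub]
    exact neg_mem h
  · rintro ⟨q, hq, h⟩
    refine ⟨q, hq, ?_⟩
    rw [Ideal.Quotient.mkₐ_eq_mk, Ideal.Quotient.eq, ← neg_sub]
    exact neg_mem h

theorem mem_Bsub_of_mem_relIdeal {P : RelRing g} (h : P ∈ relIdeal g) : P ∈ Bsub g :=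
  (mem_Bsub g).mpr ⟨0, zero_mem _, by simpa using h⟩

theorem mem_Bsub_of_mem_lowGens {P : RelRing g} (h : P ∈ lowGens g) : P ∈ Bsub g :=
  (mem_Bsub g).mpr ⟨P, Algebra.subset_adjoin h, by simp⟩

theorem X_none_mem_Bsub : (X none : RelRing g) ∈ Bsub g :=
  mem_Bsub_of_mem_lowGens g (Or.inl rfl)

theorem low_mem_Bsub (j : ℕ) (h1 : 1 ≤ j) (h3 : 3 * j ≤ g) : xv g 0 (2 * (j : ℤ)) ∈ Bsub g :=
  mem_Bsub_of_mem_lowGens g (Or.inr ⟨j, h1, h3, rfl⟩)

variable {g}

theorem weight_eq_sum (w : Var g → ℕ) (d : Var g →₀ ℕ) :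
    Finsupp.weight w d = ∑ v ∈ d.support, d v * w v := by
  rw [Finsupp.weight_apply, Finsupp.sum]
  apply Finset.sum_congr rfl
  intro v _
  rw [smul_eq_mul]

theorem w_eq_zero_of_mem_support {w : Var g → ℕ} {d : Var g →₀ ℕ}
    (h : Finsupp.weight w d = 0) {v : Var g} (hv : v ∈ d.support) : w v = 0 := by
  rw [weight_eq_sum, Finset.sum_eq_zero_iff] at h
  have h1 := h v hv
  have h2 := Finsupp.mem_support_iff.mp hv
  rcases Nat.mul_eq_zero.mp h1 with h3 | h3
  · exact absurd h3 h2
  · exact h3

theorem term_le_weight (w : Var g → ℕ) (d : Var g →₀ ℕ) (v : Var g) :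
    d v * w v ≤ Finsupp.weight w d := by
  rw [weight_eq_sum]
  by_cases hv : v ∈ d.support
  · exact Finset.single_le_sum (f := fun v => d v * w v) (fun _ _ => Nat.zero_le _) hv
  · rw [Finsupp.notMem_support_iff.mp hv, zero_mul]
    exact Nat.zero_le _

theorem eq_zero_of_weights_zero (d : Var g →₀ ℕ) (h1 : Finsupp.weight (w1N g) d = 0)
    (h2 : Finsupp.weight (w2N g) d = 0) : d = 0 := by
  rw [← Finsupp.support_eq_empty, Finset.eq_empty_iff_forall_notMem]
  intro v hv
  have e1 := w_eq_zero_of_mem_support h1 hv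
  have e2 := w_eq_zero_of_mem_support h2 hv
  rcases v with _ | ⟨p, hp⟩
  · simp [w2N, wt] at e2
  · simp only [w1N, wt] at e1
    simp only [w2N, wt] at e2
    exact hp.2.2.2 (Prod.ext e1 e2)

section chain

variable (i k β : ℕ) (hk : k + i = g) (hβ : β + g = 3 * i) (hβ1 : 1 ≤ β) (hi : i + 1 ≤ g)

include hk hβ hβ1 hi

theorem chain_case (ih : ∀ j < i, xv g 0 (2 * (j : ℤ)) ∈ Bsub g) :
    xv g 0 (2 * (i : ℤ)) ∈ Bsub g := by
  classical
  have v31 := valid31 i β hβ hβ1 hi
  have vb0 : Valid g (β + 2, β) := validb i k β hk hβ hβ1 hi 0 (by omega)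
  have vx : Valid g (0, 2 * i) := by
    have := validl i β hβ hβ1 hi 0 (by omega)
    simpa using this
  have hc := chain_coeff_ne_zero i k β hk hβ hβ1 hi
  rw [vr_valid vx] at hc
  set x : Var g := some ⟨(0, 2 * i), vx⟩ with hx
  set μ : Var g →₀ ℕ := Finsupp.single (vr g (3, 1)) k + Finsupp.single (vr g (β + 2, β)) 1
    with hμ
  set R : RelRing g := (F g)^[g + 1] (monomial μ (1 : ℚ)) with hR
  have hex : xv g 0 (2 * (i : ℤ)) = X x := by
    have := xv_valid g vx
    push_cast at this
    exact this
  -- `R` lies in the relation ideal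
  have hRmem : R ∈ relIdeal g := by
    apply Ideal.subset_span
    refine ⟨μ, g + 1, ?_, rfl⟩
    rw [hμ, map_add, Finsupp.weight_single, Finsupp.weight_single, vr_valid v31, vr_valid vb0]
    simp only [wt, Prod.fst_add, Prod.smul_fst, smul_eq_mul]
    omega
  -- homogeneity
  have hw1 : IsWeightedHomogeneous (w1 g) R 0 := by
    have hm : IsWeightedHomogeneous (w1 g) (monomial μ (1 : ℚ)) (2 * (g : ℤ) + 2) := by
      apply isWeightedHomogeneous_monomial
      rw [hμ, map_add, Finsupp.weight_single, Finsupp.weight_single, vr_valid v31, vr_valid vb0]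
      simp only [w1, wt, nsmul_eq_mul]
      push_cast
      omega
    have := iterate_F_isWH g hm (g + 1)
    have e : (0 : ℤ) = 2 * (g : ℤ) + 2 - 2 * ((g + 1 : ℕ) : ℤ) := by push_cast; ring
    rw [e]
    exact this
  have hw2 : IsWeightedHomogeneous (w2 g) R (2 * (i : ℤ)) := by
    have hm : IsWeightedHomogeneous (w2 g) (monomial μ (1 : ℚ)) (2 * (i : ℤ)) := by
      apply isWeightedHomogeneous_monomial
      rw [hμ, map_add, Finsupp.weight_single, Finsupp.weight_single, vr_valid v31, vr_valid vb0]
      simp only [w2, wt, nsmul_eq_mul]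
      push_cast
      omega
    exact iterate_F_isWH2 g hm (g + 1)
  -- every other monomial of `R` is a product of lower variables
  have key : ∀ d : Var g →₀ ℕ, coeff d R ≠ 0 → d ≠ Finsupp.single x 1 →
      monomial d (1 : ℚ) ∈ Bsub g := by
    intro d hd hne
    have h1 : Finsupp.weight (w1N g) d = 0 := by
      have := hw1 hd
      rw [weight_w1] at this
      exact_mod_cast this
    have h2 : Finsupp.weight (w2N g) d = 2 * i := by
      have := hw2 hd
      rw [weight_w2] at this
      exact_mod_cast this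
    have hdx : d x = 0 := by
      by_contra hdx
      apply hne
      have hle : Finsupp.single x 1 ≤ d := by
        rw [Finsupp.single_le_iff]
        exact Nat.one_le_iff_ne_zero.mpr hdx
      have hd' : d - Finsupp.single x 1 + Finsupp.single x 1 = d := tsub_add_cancel_of_le hle
      have h1' : Finsupp.weight (w1N g) (d - Finsupp.single x 1) = 0 := by
        have := h1
        rw [← hd', map_add] at this
        omega
      have h2' : Finsupp.weight (w2N g) (d - Finsupp.single x 1) = 0 := by
        have := h2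
        have hwx : w2N g x = 2 * i := rfl
        rw [← hd', map_add, Finsupp.weight_single, hwx, smul_eq_mul] at this
        omega
      have := eq_zero_of_weights_zero _ h1' h2'
      rw [this, zero_add] at hd'
      exact hd'.symm
    rw [monomial_eq, C_1, one_mul]
    apply Subalgebra.prod_mem
    intro v hv
    apply Subalgebra.pow_mem
    have e1 := w_eq_zero_of_mem_support h1 hv
    have e2 := term_le_weight (w2N g) d v
    rw [h2] at e2
    have hdv : 1 ≤ d v := Nat.one_le_iff_ne_zero.mpr (Finsupp.mem_support_iff.mp hv)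
    rcases v with _ | ⟨⟨a, b⟩, hval⟩
    · exact X_none_mem_Bsub g
    · simp only [w1N, wt] at e1
      subst e1
      simp only [w2N, wt] at e2
      obtain ⟨j, hj⟩ := hval.2.2.1
      simp only [zero_add] at hj
      subst hj
      have hb : j + j ≤ 2 * i := le_trans (Nat.le_mul_of_pos_left _ hdv) e2
      have hji : j ≠ i := by
        rintro rfl
        apply Finsupp.mem_support_iff.mp hv
        have hvx : (some ⟨(0, j + j), hval⟩ : Var g) = x := by
          rw [hx]
          exact congrArg some (Subtype.ext (by show ((0, j + j) : ℕ × ℕ) = (0, 2 * j); rw [two_mul]))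
        rw [hvx]
        exact hdx
      have e3 : X (some ⟨(0, j + j), hval⟩) = xv g 0 (2 * (j : ℤ)) := by
        have := xv_valid g hval
        rw [← this]
        show xv g ((0 : ℕ) : ℤ) ((j + j : ℕ) : ℤ) = _
        rw [Nat.cast_zero, Nat.cast_add, ← two_mul]
      rw [e3]
      exact ih j (by omega)
  -- isolate the monomial `x 0 (2i)`
  have hmemsupp : Finsupp.single x 1 ∈ R.support := mem_support_iff.mpr hc
  have hsum := Finset.add_sum_erase R.support (fun d => monomial d (coeff d R)) hmemsupp
  rw [support_sum_monomial_coeff] at hsum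
  have hrest : ∑ d ∈ R.support.erase (Finsupp.single x 1), monomial d (coeff d R) ∈ Bsub g := by
    apply Subalgebra.sum_mem
    intro d hd
    rw [Finset.mem_erase] at hd
    have := key d (mem_support_iff.mp hd.2) hd.1
    have e : monomial d (coeff d R) = coeff d R • monomial d (1 : ℚ) := by
      rw [smul_monomial, smul_eq_mul, mul_one]
    rw [e]
    exact Subalgebra.smul_mem _ this _
  have hcx : monomial (Finsupp.single x 1) (coeff (Finsupp.single x 1) R) =
      coeff (Finsupp.single x 1) R • (X x : RelRing g) := by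
    rw [X, smul_monomial, smul_eq_mul, mul_one]
  have h3 : coeff (Finsupp.single x 1) R • (X x : RelRing g) ∈ Bsub g := by
    rw [← hcx]
    have : monomial (Finsupp.single x 1) (coeff (Finsupp.single x 1) R) =
        R - ∑ d ∈ R.support.erase (Finsupp.single x 1), monomial d (coeff d R) :=
      eq_sub_of_add_eq hsum
    rw [this]
    exact Subalgebra.sub_mem _ (mem_Bsub_of_mem_relIdeal g hRmem) hrest
  rw [hex]
  have h4 := Subalgebra.smul_mem _ h3 (coeff (Finsupp.single x 1) R)⁻¹
  rwa [smul_smul, inv_mul_cancel₀ hc, one_smul] at h4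

end chain

variable (g)

theorem xv_mem_Bsub (i : ℕ) : xv g 0 (2 * (i : ℤ)) ∈ Bsub g := by
  induction i using Nat.strong_induction_on with
  | _ i ih =>
    rcases Nat.eq_zero_or_pos i with rfl | hi0
    · have : xv g 0 (2 * ((0 : ℕ) : ℤ)) = (g : RelRing g) := by
        unfold xv
        rw [if_pos (by simp)]
      rw [this]
      exact natCast_mem _ g
    by_cases hv : i + 1 ≤ g
    swap
    · have : xv g 0 (2 * (i : ℤ)) = 0 := by
        unfold xv
        rw [if_neg (by omega), dif_neg]
        rintro ⟨-, -, hval⟩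
        have := hval.2.1
        simp only at this
        omega
      rw [this]
      exact zero_mem _
    by_cases h3 : 3 * i ≤ g
    · exact low_mem_Bsub g i hi0 h3
    · obtain ⟨k, hk⟩ : ∃ k, k + i = g := ⟨g - i, by omega⟩
      obtain ⟨β, hβ⟩ : ∃ β, β + g = 3 * i := ⟨3 * i - g, by omega⟩
      have hβ1 : 1 ≤ β := by omega
      exact chain_case i k β hk hβ hβ1 hv ih

end Groth.Agent.Helper20.TautJ
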