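import Groth.Agent.Lib.Helper9.HomTensor
import Groth.Agent.Lib.Helper6.TorBalance
import Groth.Agent.Lib.Helper8.ExtBC1

/-!
# `Tor_i(N, E) ≅ Hom(Ext^i(N, A), E)` for `E` injective and `N` finite (helper20)
-/

set_option autoImplicit false
universe u

namespace Groth.Agent.Helper20.Td

open CategoryTheory Abelian TensorProduct MonoidalCategory
open Groth.Agent.Helper8 Groth.Agent.Helper8.LC Groth.Agent.Helper8.ExtBC
open Groth.Agent.Helper18.TorLib Groth.Agent.Helper6.TorBalance Groth.Agent.Helper9.HomTensor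

variable {A : Type u} [CommRing A]

section Lin

variable {X Y Z X' Y' W : Type u} [AddCommGroup X] [Module A X] [AddCommGroup Y] [Module A Y]
  [AddCommGroup Z] [Module A Z] [AddCommGroup X'] [Module A X'] [AddCommGroup Y'] [Module A Y']
  [AddCommGroup W] [Module A W]

/-- kernels of isomorphic maps are isomorphic -/
theorem nonempty_ker_equiv (f : X →ₗ[A] Y) (f' : X' →ₗ[A] Y') (e1 : X ≃ₗ[A] X') (e2 : Y ≃ₗ[A] Y')
    (hcomm : ∀ x, e2 (f x) = f' (e1 x)) : Nonempty (LinearMap.ker f ≃ₗ[A] LinearMap.ker f') := by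
  have hmap : (LinearMap.ker f).map (e1 : X →ₗ[A] X') = LinearMap.ker f' := by
    ext y
    constructor
    · rintro ⟨x, hx, rfl⟩
      rw [SetLike.mem_coe, LinearMap.mem_ker] at hx
      rw [LinearMap.mem_ker]
      show f' (e1 x) = 0
      rw [← hcomm, hx, map_zero]
    · intro hy
      refine ⟨e1.symm y, ?_, e1.apply_symm_apply y⟩
      rw [LinearMap.mem_ker] at hy
      rw [SetLike.mem_coe, LinearMap.mem_ker]
      apply e2.injective
      rw [hcomm, e1.apply_symm_apply, hy, map_zero]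
  exact ⟨(e1.submoduleMap (LinearMap.ker f)).trans (LinearEquiv.ofEq _ _ hmap)⟩

/-- left exactness of `Hom(-, W)` -/
theorem nonempty_hom_equiv_ker (f : X →ₗ[A] Y) (g : Y →ₗ[A] Z) (hfg : Function.Exact f g)
    (hg : Function.Surjective g) (W : Type u) [AddCommGroup W] [Module A W] :
    Nonempty ((Z →ₗ[A] W) ≃ₗ[A] LinearMap.ker (LinearMap.lcomp A W f)) := by
  let Φ : (Z →ₗ[A] W) →ₗ[A] LinearMap.ker (LinearMap.lcomp A W f) :=
    LinearMap.codRestrict _ (LinearMap.lcomp A W g) (fun ψ => by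
      rw [LinearMap.mem_ker]
      ext x
      simp only [LinearMap.lcomp_apply, LinearMap.comp_apply, LinearMap.zero_apply]
      rw [hfg.apply_apply_eq_zero, map_zero])
  refine ⟨LinearEquiv.ofBijective Φ ⟨?_, ?_⟩⟩
  · rw [injective_iff_map_eq_zero]
    intro ψ hψ
    have h1 : ψ ∘ₗ g = 0 := congrArg Subtype.val hψ
    ext z
    obtain ⟨y, rfl⟩ := hg z
    exact LinearMap.congr_fun h1 y
  · rintro ⟨χ, hχ⟩
    rw [LinearMap.mem_ker] at hχ
    have hker : LinearMap.ker g ≤ LinearMap.ker χ := by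
      intro y hy
      obtain ⟨x, rfl⟩ := (hfg y).mp hy
      exact LinearMap.congr_fun hχ x
    refine ⟨((LinearMap.ker g).liftQ χ hker) ∘ₗ
      (g.quotKerEquivOfSurjective hg).symm.toLinearMap, Subtype.ext ?_⟩
    ext y
    show (LinearMap.ker g).liftQ χ hker ((g.quotKerEquivOfSurjective hg).symm (g y)) = χ y
    have : (g.quotKerEquivOfSurjective hg).symm (g y) = Submodule.Quotient.mk y := by
      rw [LinearEquiv.symm_apply_eq]
      rfl
    rw [this, Submodule.liftQ_apply]

end Lin

section Theta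

variable (A) (E : Type u) [AddCommGroup E] [Module A E]

/-- `X ⊗ E ≃ Hom(A, E) ⊗ X` -/
noncomputable def cE (X : Type u) [AddCommGroup X] [Module A X] :
    X ⊗[A] E ≃ₗ[A] (A →ₗ[A] E) ⊗[A] X :=
  (TensorProduct.comm A X E).trans
    (TensorProduct.congr (LinearMap.ringLmapEquivSelf A A E).symm (LinearEquiv.refl A X))

theorem cE_tmul (X : Type u) [AddCommGroup X] [Module A X] (x : X) (e : E) :
    cE A E X (x ⊗ₜ[A] e) = ((LinearMap.ringLmapEquivSelf A A E).symm e) ⊗ₜ[A] x := rfl

theorem cE_nat {X X' : Type u} [AddCommGroup X] [Module A X] [AddCommGroup X'] [Module A X']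
    (v : X →ₗ[A] X') (z : X ⊗[A] E) :
    cE A E X' (v.rTensor E z) = v.lTensor (A →ₗ[A] E) (cE A E X z) := by
  induction z using TensorProduct.induction_on with
  | zero => simp
  | tmul x e => rfl
  | add x y hx hy => rw [map_add, map_add, map_add, map_add, hx, hy]

/-- the evaluation map `X ⊗ E → Hom(Hom(X, A), E)` -/
noncomputable def Theta (X : Type u) [AddCommGroup X] [Module A X] :
    X ⊗[A] E →ₗ[A] ((X →ₗ[A] A) →ₗ[A] E) :=
  (Phi A X A E) ∘ₗ (cE A E X).toLinearMap

theorem Theta_nat {X X' : Type u} [AddCommGroup X] [Module A X] [AddCommGroup X'] [Module A X']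
    (v : X →ₗ[A] X') (z : X ⊗[A] E) :
    Theta A E X' (v.rTensor E z) = (Theta A E X z) ∘ₗ (LinearMap.lcomp A A v) := by
  unfold Theta
  rw [LinearMap.comp_apply, LinearMap.comp_apply]
  show Phi A X' A E (cE A E X' (v.rTensor E z)) = _
  rw [cE_nat, Phi_nat]
  rfl

theorem Theta_bijective [IsNoetherianRing A] [Module.Injective A E] (X : Type u) [AddCommGroup X]
    [Module A X] [Module.Finite A X] : Function.Bijective (Theta A E X) := by
  haveI : Module.FinitePresentation A X := Module.finitePresentation_of_finite A X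
  unfold Theta
  exact (bijective_phi A X A E).comp (cE A E X).bijective

end Theta

section Dual

variable (A) [IsNoetherianRing A] (E : Type u) [AddCommGroup E] [Module A E] [Module.Injective A E]

/-- the property to be proved -/
def DualAt (i : ℕ) (N : Type u) [AddCommGroup N] [Module A N] : Prop :=
  Nonempty (↑(((Tor (ModuleCat.{u} A) i).obj (ModuleCat.of A N)).obj (ModuleCat.of A E)) ≃ₗ[A]
    (Ext (ModuleCat.of A N) (ModuleCat.of A A) i →ₗ[A] E))

theorem dualAt_zero (N : Type u) [AddCommGroup N] [Module A N] [Module.Finite A N] :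
    DualAt A E 0 N := by
  let e0 : ↑(((Tor (ModuleCat.{u} A) 0).obj (ModuleCat.of A N)).obj (ModuleCat.of A E)) ≃ₗ[A]
      (N ⊗[A] E) := (tor0Iso (ModuleCat.of A N) (ModuleCat.of A E)).toLinearEquiv
  let e1 : (N ⊗[A] E) ≃ₗ[A] ((N →ₗ[A] A) →ₗ[A] E) :=
    LinearEquiv.ofBijective (Theta A E N) (Theta_bijective A E N)
  let e2 : ((N →ₗ[A] A) →ₗ[A] E) ≃ₗ[A]
      (Ext (ModuleCat.of A N) (ModuleCat.of A A) 0 →ₗ[A] E) :=
    LinearEquiv.arrowCongr (ext0Equiv N A).symm (LinearEquiv.refl A E)
  exact ⟨e0.trans (e1.trans e2)⟩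

variable {A E} in
/-- a presentation of a finite module -/
theorem exists_presentation (N : Type u) [AddCommGroup N] [Module A N] [Module.Finite A N] :
    ∃ (n : ℕ) (p : (Fin n → A) →ₗ[A] N), IsSES (LinearMap.ker p).subtype p := by
  obtain ⟨n, p, hp⟩ := Module.Finite.exists_fin' A N
  exact ⟨n, p, ⟨Submodule.injective_subtype _, LinearMap.exact_subtype_ker_map p, hp⟩⟩

theorem dualAt_one (N : Type u) [AddCommGroup N] [Module A N] [Module.Finite A N] :
    DualAt A E 1 N := by
  obtain ⟨n, p, h⟩ := exists_presentation (A := A) N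
  set K := LinearMap.ker p with hK
  haveI : Module.Flat A ↑(h.sc.X₂) := (inferInstance : Module.Flat A (Fin n → A))
  obtain ⟨t1⟩ := tor_one_iso_ker h.shortExact (ModuleCat.of A E)
  let e1 : ↑(((Tor (ModuleCat.{u} A) 1).obj (ModuleCat.of A N)).obj (ModuleCat.of A E)) ≃ₗ[A]
      LinearMap.ker ((LinearMap.ker p).subtype.rTensor E) := t1.toLinearEquiv
  -- transport along `cE`
  obtain ⟨e2⟩ := nonempty_ker_equiv ((LinearMap.ker p).subtype.rTensor E)
    ((LinearMap.ker p).subtype.lTensor (A →ₗ[A] E)) (cE A E K) (cE A E (Fin n → A))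
    (fun z => cE_nat A E _ z)
  -- transport along `Phi`
  obtain ⟨e3⟩ := nonempty_ker_equiv ((LinearMap.ker p).subtype.lTensor (A →ₗ[A] E))
    (LinearMap.lcomp A E (LinearMap.lcomp A A (LinearMap.ker p).subtype))
    (LinearEquiv.ofBijective (Phi A K A E) (by
      haveI : Module.FinitePresentation A K := Module.finitePresentation_of_finite A K
      exact bijective_phi A K A E))
    (LinearEquiv.ofBijective (Phi A (Fin n → A) A E) (bijective_phi A _ A E))
    (fun z => Phi_nat A _ z)
  -- `Ext¹` as a cokernel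
  obtain ⟨e4⟩ := nonempty_hom_equiv_ker (LinearMap.lcomp A A (LinearMap.ker p).subtype)
    (bdry h A) (bdry_exact h A) (bdry_surjective h A) E
  exact ⟨e1.trans (e2.trans (e3.trans e4.symm))⟩

theorem dualAt_succ (i : ℕ)
    (ih : ∀ (N : Type u) [AddCommGroup N] [Module A N] [Module.Finite A N], DualAt A E (i + 1) N)
    (N : Type u) [AddCommGroup N] [Module A N] [Module.Finite A N] : DualAt A E (i + 2) N := by
  obtain ⟨n, p, h⟩ := exists_presentation (A := A) N
  haveI : Module.Flat A ↑(h.sc.X₂) := (inferInstance : Module.Flat A (Fin n → A))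
  have hiso := isIso_torδ h.shortExact (ModuleCat.of A E) i
  let e1 : ↑(((Tor (ModuleCat.{u} A) (i + 2)).obj (ModuleCat.of A N)).obj (ModuleCat.of A E)) ≃ₗ[A]
      ↑(((Tor (ModuleCat.{u} A) (i + 1)).obj (ModuleCat.of A (LinearMap.ker p))).obj
        (ModuleCat.of A E)) :=
    (@asIso _ _ _ _ (torδ h.shortExact (ModuleCat.of A E) (i + 1)) hiso).toLinearEquiv
  obtain ⟨e2⟩ := ih (LinearMap.ker p)
  let e3 : Ext (ModuleCat.of A (LinearMap.ker p)) (ModuleCat.of A A) (i + 1) ≃ₗ[A]
      Ext (ModuleCat.of A N) (ModuleCat.of A A) (i + 1 + 1) :=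
    LinearEquiv.ofBijective (extδ h (ModuleCat.of A A) (i + 1))
      (extδ_bijective h (ModuleCat.of A A) i)
  exact ⟨e1.trans (e2.trans (LinearEquiv.arrowCongr e3 (LinearEquiv.refl A E)))⟩

/-- **Duality**: `Tor_i(N, E) ≅ Hom(Ext^i(N, A), E)` for `E` injective and `N` finite over a
Noetherian ring. -/
theorem dualAt (i : ℕ) (N : Type u) [AddCommGroup N] [Module A N] [Module.Finite A N] :
    DualAt A E i N := by
  rcases i with _ | i
  · exact dualAt_zero A E N
  · induction i generalizing N with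
    | zero => exact dualAt_one A E N
    | succ i ih => exact dualAt_succ A E i (fun N _ _ _ => ih N) N

end Dual

end Groth.Agent.Helper20.Td
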