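import Groth.Agent.Lib.Helper20.TdA
import Groth.Agent.Lib.Helper8.Gor8

/-!
# `Tor_i(E, κ)` over a Gorenstein local ring (helper20)
-/

set_option autoImplicit false
universe u

namespace Groth.Agent.Helper20.Td

open CategoryTheory Abelian TensorProduct MonoidalCategory IsLocalRing
open Groth.Agent.Helper8 Groth.Agent.Helper8.LC Groth.Agent.Helper8.ExtBC
open Groth.Agent.Helper18.TorLib Groth.Agent.Helper6.TorBalance

section Symm

variable {R : Type u} [CommRing R]

/-- symmetry of `Tor` -/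
theorem nonempty_tor_symm (M N : ModuleCat.{u} R) (n : ℕ) :
    Nonempty (((Tor (ModuleCat.{u} R) n).obj M).obj N ≅ ((Tor (ModuleCat.{u} R) n).obj N).obj M) := by
  let P := projectiveResolution M
  obtain ⟨e1⟩ := nonempty_tor_iso M N P n
  let e2 := torIso P N n
  let α : tL N ≅ tensorRight N :=
    NatIso.ofComponents (fun X => β_ N X) (fun f => by simp)
  let e3 := (HomologicalComplex.homologyFunctor (ModuleCat.{u} R) (ComplexShape.down ℕ) n).mapIso
    ((NatIso.mapHomologicalComplex α (ComplexShape.down ℕ)).app P.complex)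
  exact ⟨e1 ≪≫ e3.symm ≪≫ e2.symm⟩

end Symm

section Gor

variable (A : Type u) [CommRing A] [hG : LocCoh.IsGorensteinLocalRing A]
  {E : Type u} [AddCommGroup E] [Module A E] {f : ResidueField A →ₗ[A] E}

/-- **`Tor_i(E, κ)` over a Gorenstein local ring of dimension `d`** -/
theorem tor_injectiveHull_residueField (d : ℕ) (hd : ringKrullDim A = d)
    (hf : InjHull.IsInjectiveHull f) :
    (∀ i : ℕ, i ≠ d → Limits.IsZero (((Tor (ModuleCat.{u} A) i).obj (ModuleCat.of A E)).obj
      (ModuleCat.of A (ResidueField A)))) ∧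
    Nonempty ((((Tor (ModuleCat.{u} A) d).obj (ModuleCat.of A E)).obj
      (ModuleCat.of A (ResidueField A))) ≅ ModuleCat.of A (ResidueField A)) := by
  haveI := hf.isInjective
  obtain ⟨h1, h2⟩ := Groth.Agent.Helper8.Gor.gorenstein_ext_facts (R := A) hd
  refine ⟨fun i hi => ?_, ?_⟩
  · obtain ⟨s⟩ := nonempty_tor_symm (ModuleCat.of A E) (ModuleCat.of A (ResidueField A)) i
    obtain ⟨e⟩ := dualAt A E i (ResidueField A)
    haveI := h1 i hi
    haveI : Subsingleton (Ext (ModuleCat.of A (ResidueField A)) (ModuleCat.of A A) i →ₗ[A] E) :=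
      ⟨fun a b => LinearMap.ext fun x => by rw [Subsingleton.elim x 0, map_zero, map_zero]⟩
    haveI : Subsingleton ↑(((Tor (ModuleCat.{u} A) i).obj (ModuleCat.of A (ResidueField A))).obj
        (ModuleCat.of A E)) := e.toEquiv.subsingleton
    exact Limits.IsZero.of_iso (ModuleCat.isZero_of_subsingleton _) s
  · obtain ⟨s⟩ := nonempty_tor_symm (ModuleCat.of A E) (ModuleCat.of A (ResidueField A)) d
    obtain ⟨e⟩ := dualAt A E d (ResidueField A)
    have hsimple : IsSimpleModule A (Ext (ModuleCat.of A (ResidueField A)) (ModuleCat.of A A) d) :=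
      Module.length_eq_one_iff.mp h2
    obtain ⟨I, hI, ⟨eI⟩⟩ := isSimpleModule_iff_quot_maximal.mp hsimple
    have hIm : I = maximalIdeal A := IsLocalRing.eq_maximalIdeal hI
    subst hIm
    let e1 : (Ext (ModuleCat.of A (ResidueField A)) (ModuleCat.of A A) d →ₗ[A] E) ≃ₗ[A]
        (ResidueField A →ₗ[A] E) := LinearEquiv.arrowCongr eI (LinearEquiv.refl A E)
    let e2 : ResidueField A ≃ₗ[A] (ResidueField A →ₗ[A] E) :=
      LinearEquiv.ofBijective (Matlis.Ψ f) (Matlis.Ψ_bijective hf.toIsEssentialInj)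
    exact ⟨s ≪≫ (e.trans (e1.trans e2.symm)).toModuleIso⟩

end Gor

end Groth.Agent.Helper20.Td
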