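import Mathlib
import Groth.Prelude.Def_ShStab
import Groth.Prelude.Def_Curv2
import Groth.Agent.Lib.Helper13.TensorPow
import Groth.Agent.Lib.Helper13.TensorAssoc
import Groth.Agent.Lib.Helper13.PnSerreUnifAmple
import Groth.Agent.Lib.Lead.EulerK0
import Groth.Agent.Lib.Lead.EffDeg

/-!
# `G ⊗ L^{n_0} ⊗ ⋯ ⊗ L^{n_{d-1}} ≅ G ⊗ L^{Σ n_i}` and the resulting equality of Euler
characteristics
-/

set_option autoImplicit false
universe u
open CategoryTheory CategoryTheory.Limits AlgebraicGeometry
open Groth.Agent.Helper13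

namespace Groth.Agent.Helper20.TensorPowsTwist

/-- iterated twisting by the same module is twisting by the sum of the exponents. -/
theorem nonempty_tensorPows_iso_twist {X : Scheme.{u}} (L G : X.Modules) :
    ∀ (d : ℕ) (n : Fin d → ℕ),
      Nonempty (Curv2.tensorPows G d (fun _ => L) n ≅ ShStab.twist X L G (∑ i, n i))
  | 0, n => by
    rw [Fin.sum_univ_zero]
    exact ⟨(Tensor.rid G).symm⟩
  | d + 1, n => by
    obtain ⟨e⟩ := nonempty_tensorPows_iso_twist L G d (fun i => n i.castSucc)
    rw [Fin.sum_univ_castSucc]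
    exact ⟨Tensor.mapIso e (Iso.refl (CohB1.tensorPow L (n (Fin.last d)))) ≪≫
      (Tensor.assoc G _ _ ≪≫ Tensor.mapIso (Iso.refl G) (Tensor.powAdd L _ _).symm)⟩

/-- (H) the Euler characteristic of an iterated twist by `L` only depends on the sum of the
exponents. -/
theorem euler_tensorPows_const (k : Type u) [Field k] (X : Scheme.{u})
    [X.Over (Spec (CommRingCat.of k))] [IsProper (X ↘ Spec (CommRingCat.of k))]
    (L : X.Modules) (hL : PicF.IsInvertible L) (G : X.Modules) (hG : Coh.IsCoh G) (d : ℕ)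
    (n : Fin d → ℕ) :
    Curv2.euler k X (Curv2.tensorPows G d (fun _ => L) n) =
      Curv2.euler k X (ShStab.twist X L G (∑ i, n i)) := by
  obtain ⟨e⟩ := nonempty_tensorPows_iso_twist L G d n
  have h2 : Coh.IsCoh (ShStab.twist X L G (∑ i, n i)) :=
    Groth.Agent.Helper13.PnSerreUnif.isCoh_tensor_pow L hL G hG _
  exact Groth.Agent.Lead.EulerK0.euler_iso k e
    (Groth.Agent.Lead.EffDeg.isCoh_of_iso e.symm h2) h2

end Groth.Agent.Helper20.TensorPowsTwist
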