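import Mathlib

/-!
# `Ext`-side dimension shifting for maps killed by all `Ext` classes (helper20, for S1741)
-/

set_option autoImplicit false
universe u

namespace Groth.Agent.Lib.Helper20.TorExtA

open CategoryTheory Abelian

variable {R : Type u} [CommRing R]

/-- precomposition with `α` kills `Ext^n(M', -)`. -/
def PA (n : ℕ) {M M' : ModuleCat.{u} R} (α : M ⟶ M') : Prop :=
  ∀ (N : ModuleCat.{u} R) (x : Ext M' N n), (Ext.mk₀ α).comp x (zero_add n) = 0

/-- `α` factors through a projective module. -/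
def Fac {M M' : ModuleCat.{u} R} (α : M ⟶ M') : Prop :=
  ∃ (P : ModuleCat.{u} R) (_ : Projective P) (s : M ⟶ P) (π : P ⟶ M'), s ≫ π = α

theorem PA_of_fac {M M' : ModuleCat.{u} R} (α : M ⟶ M') (h : Fac α) (n : ℕ) : PA (n + 1) α := by
  obtain ⟨P, hP, s, π, rfl⟩ := h
  intro N x
  rw [← Ext.mk₀_comp_mk₀_assoc]
  have : (Ext.mk₀ π).comp x (zero_add (n + 1)) = 0 := Ext.eq_zero_of_projective _
  rw [this, Ext.comp_zero]

theorem fac_of_PA {M M' : ModuleCat.{u} R} (α : M ⟶ M') (h : PA 1 α) : Fac α := by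
  let S := ModuleCat.projectiveShortComplex M'
  have hS : S.ShortExact := ModuleCat.shortExact_projectiveShortComplex M'
  have h1 : (Ext.mk₀ α).comp hS.extClass (zero_add 1) = 0 := h _ _
  obtain ⟨y, hy⟩ := Ext.covariant_sequence_exact₃ M hS (Ext.mk₀ α) (zero_add 1) h1
  obtain ⟨s, rfl⟩ := (Ext.mk₀_bijective M S.X₂).2 y
  rw [Ext.mk₀_comp_mk₀] at hy
  have h2 : s ≫ S.g = α := (Ext.mk₀_bijective M S.X₃).1 hy
  haveI : Module.Projective R S.X₂ := Module.Projective.of_free
  exact ⟨S.X₂, inferInstance, s, S.g, h2⟩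

theorem PA_one_iff_fac {M M' : ModuleCat.{u} R} (α : M ⟶ M') : PA 1 α ↔ Fac α :=
  ⟨fac_of_PA α, fun h => PA_of_fac α h 0⟩

/-- dimension shifting -/
theorem PA_succ_iff {S S' : ShortComplex (ModuleCat.{u} R)} (hS : S.ShortExact)
    (hS' : S'.ShortExact) [Projective S.X₂] [Projective S'.X₂] (f : S ⟶ S') (n : ℕ) :
    PA (n + 2) f.τ₃ ↔ PA (n + 1) f.τ₁ := by
  have hnat := ShortComplex.ShortExact.extClass_naturality hS hS' f
  constructor
  · intro h N y
    have h1 : hS.extClass.comp ((Ext.mk₀ f.τ₁).comp y (zero_add (n + 1)))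
        (show 1 + (n + 1) = n + 2 by omega) = 0 := by
      rw [← Ext.comp_assoc_of_second_deg_zero, hnat,
        Ext.comp_assoc (Ext.mk₀ f.τ₃) hS'.extClass y (zero_add 1)
          (show 1 + (n + 1) = n + 2 by omega) (by omega)]
      exact h N _
    obtain ⟨w, hw⟩ := Ext.contravariant_sequence_exact₁ hS N _ _ h1
    have hw0 : w = 0 := Ext.eq_zero_of_projective _
    rw [← hw, hw0, Ext.comp_zero]
  · intro h N x
    obtain ⟨y, hy⟩ := Ext.contravariant_sequence_exact₃ hS' N x (Ext.eq_zero_of_projective _)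
      (show 1 + (n + 1) = n + 2 by omega)
    rw [← hy, ← Ext.comp_assoc (Ext.mk₀ f.τ₃) hS'.extClass y (zero_add 1)
      (show 1 + (n + 1) = n + 2 by omega) (by omega), ← hnat,
      Ext.comp_assoc_of_second_deg_zero, h N y, Ext.comp_zero]

end Groth.Agent.Lib.Helper20.TorExtA
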