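import Groth.Agent.Lib.Helper6.TorBalance
import Groth.Agent.Lib.Helper20.TorExtA

/-!
# `Tor`-side dimension shifting for maps inducing zero on `Tor` (helper20, for S1741)
-/

set_option autoImplicit false
universe u

namespace Groth.Agent.Lib.Helper20.TorExtB

open CategoryTheory Limits MonoidalCategory Abelian
open Groth.Agent.Helper18.TorLib Groth.Agent.Helper6.TorBalance

variable {R : Type u} [CommRing R]

/-- `α` induces zero on `Tor_n(-, N)` for all `N`. -/
def PB (n : ℕ) {M M' : ModuleCat.{u} R} (α : M ⟶ M') : Prop :=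
  ∀ N : ModuleCat.{u} R, ((Tor (ModuleCat.{u} R) n).map α).app N = 0

/-- the morphism of short complexes of complexes induced by a morphism of short complexes. -/
noncomputable def cxHom {M : ModuleCat.{u} R} (P : ProjectiveResolution M)
    {S S' : ShortComplex (ModuleCat.{u} R)} (f : S ⟶ S') :
    cxShortComplex P S ⟶ cxShortComplex P S' where
  τ₁ := cxMap P f.τ₁
  τ₂ := cxMap P f.τ₂
  τ₃ := cxMap P f.τ₃
  comm₁₂ := by
    show cxMap P f.τ₁ ≫ cxMap P S'.f = cxMap P S.f ≫ cxMap P f.τ₂
    rw [← cxMap_comp, ← cxMap_comp, f.comm₁₂]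
  comm₂₃ := by
    show cxMap P f.τ₂ ≫ cxMap P S'.g = cxMap P S.g ≫ cxMap P f.τ₃
    rw [← cxMap_comp, ← cxMap_comp, f.comm₂₃]

theorem torδ_naturality {S S' : ShortComplex (ModuleCat.{u} R)} (hS : S.ShortExact)
    (hS' : S'.ShortExact) (f : S ⟶ S') (N : ModuleCat.{u} R) (n : ℕ) :
    ((Tor (ModuleCat.{u} R) (n + 1)).map f.τ₃).app N ≫ torδ hS' N n =
      torδ hS N n ≫ ((Tor (ModuleCat.{u} R) n).map f.τ₁).app N := by
  let P := projectiveResolution N
  have key := HomologicalComplex.HomologySequence.δ_naturality (cxHom P f)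
    (cxShortComplex_shortExact P hS) (cxShortComplex_shortExact P hS') (n + 1) n (hrel n)
  unfold torδ
  rw [reassoc_of% (torIso_hom_naturality P f.τ₃ (n + 1))]
  simp only [Category.assoc]
  rw [torIso_inv_naturality P f.τ₁ n]
  congr 1
  rw [← Category.assoc, ← Category.assoc]
  congr 1
  exact key.symm

theorem PB_succ_iff {S S' : ShortComplex (ModuleCat.{u} R)} (hS : S.ShortExact)
    (hS' : S'.ShortExact) [Module.Flat R S.X₂] [Module.Flat R S'.X₂] (f : S ⟶ S') (n : ℕ) :
    PB (n + 2) f.τ₃ ↔ PB (n + 1) f.τ₁ := by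
  constructor
  · intro h N
    have h1 := torδ_naturality hS hS' f N (n + 1)
    rw [h N, zero_comp] at h1
    haveI := isIso_torδ hS N n
    exact (cancel_epi (torδ hS N (n + 1))).1 (by rw [← h1, comp_zero])
  · intro h N
    have h1 := torδ_naturality hS hS' f N (n + 1)
    rw [h N, comp_zero] at h1
    haveI := isIso_torδ hS' N n
    exact (cancel_mono (torδ hS' N (n + 1))).1 (by rw [h1, zero_comp])

theorem PB_of_fac {M M' : ModuleCat.{u} R} (α : M ⟶ M') (h : TorExtA.Fac α) (n : ℕ) :
    PB (n + 1) α := by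
  obtain ⟨P, hP, s, π, rfl⟩ := h
  intro N
  haveI : Module.Flat R P := flat_of_projective P
  rw [Functor.map_comp, NatTrans.comp_app,
    (isZero_tor_succ_of_flat_left P N n).eq_of_tgt (((Tor (ModuleCat.{u} R) (n + 1)).map s).app N) 0,
    zero_comp]

end Groth.Agent.Lib.Helper20.TorExtB
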