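import Mathlib

/-!
# A relative purity lemma (helper20, for S1741)
-/

set_option autoImplicit false
universe u

namespace Groth.Agent.Lib.Helper20.TorExtC

open TensorProduct

variable {R : Type u} [CommRing R]

theorem piHom_lTensor {n m : ℕ} {K' : Type u} [AddCommGroup K'] [Module R K']
    (a : Fin m → Fin n → R) (A : (Fin n → R) →ₗ[R] (Fin m → R))
    (hA : ∀ v j, A v j = ∑ i, a j i * v i) (w : K' ⊗[R] (Fin n → R)) :
    piScalarRightHom R R K' (Fin m) ((A.lTensor K') w) =
      fun j => ∑ i, a j i • (piScalarRightHom R R K' (Fin n) w) i := by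
  induction w using TensorProduct.induction_on with
  | zero => ext j; simp
  | add x y hx hy =>
    rw [map_add, map_add, hx, hy, map_add]
    ext j
    simp [Finset.sum_add_distrib]
  | tmul x v =>
    rw [LinearMap.lTensor_tmul, piScalarRightHom_tmul, piScalarRightHom_tmul]
    ext j
    rw [hA, Finset.sum_smul]
    refine Finset.sum_congr rfl fun i _ => ?_
    rw [mul_smul]

theorem exists_extension {n : ℕ} (K : Submodule R (Fin n → R)) (hK : K.FG) {K' : Type u}
    [AddCommGroup K'] [Module R K'] (β : K →ₗ[R] K')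
    (h : ∀ (N : Type u) [AddCommGroup N] [Module R N] (z : K ⊗[R] N),
      (K.subtype.rTensor N) z = 0 → (β.rTensor N) z = 0) :
    ∃ ψ : (Fin n → R) →ₗ[R] K', ψ ∘ₗ K.subtype = β := by
  obtain ⟨m, k, hk⟩ := Submodule.fg_iff_exists_fin_generating_family.1 hK
  subst hk
  have hkmem : ∀ j, k j ∈ Submodule.span R (Set.range k) := fun j => Submodule.subset_span ⟨j, rfl⟩
  let A : (Fin n → R) →ₗ[R] (Fin m → R) := LinearMap.pi fun j => ∑ i, k j i • LinearMap.proj i
  have hA : ∀ v j, A v j = ∑ i, k j i * v i := by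
    intro v j
    simp [A]
  let N := (Fin m → R) ⧸ LinearMap.range A
  let q : (Fin m → R) →ₗ[R] N := (LinearMap.range A).mkQ
  have hqA : ∀ v, q (A v) = 0 := fun v => by
    show (LinearMap.range A).mkQ (A v) = 0
    rw [Submodule.mkQ_apply, Submodule.Quotient.mk_eq_zero]
    exact LinearMap.mem_range_self A v
  let z : ↥(Submodule.span R (Set.range k)) ⊗[R] N :=
    ∑ j, (⟨k j, hkmem j⟩ : ↥(Submodule.span R (Set.range k))) ⊗ₜ[R] q (Pi.single j 1)
  have hAe : ∀ i, A (Pi.single i 1) = ∑ j, k j i • (Pi.single j 1 : Fin m → R) := by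
    intro i
    ext j
    rw [hA, Finset.sum_apply]
    simp [Pi.single_apply]
  have hz : ((Submodule.span R (Set.range k)).subtype.rTensor N) z = 0 := by
    simp only [z, map_sum, LinearMap.rTensor_tmul, Submodule.subtype_apply]
    have hkj : ∀ j, k j = ∑ i, k j i • (Pi.single i 1 : Fin n → R) := by
      intro j
      ext i'
      rw [Finset.sum_apply]
      simp [Pi.single_apply]
    calc ∑ j, k j ⊗ₜ[R] q (Pi.single j 1)
        = ∑ j, ∑ i, (Pi.single i 1 : Fin n → R) ⊗ₜ[R] (k j i • q (Pi.single j 1)) := by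
          refine Finset.sum_congr rfl fun j _ => ?_
          conv_lhs => rw [hkj j]
          rw [TensorProduct.sum_tmul]
          refine Finset.sum_congr rfl fun i _ => ?_
          rw [TensorProduct.smul_tmul]
      _ = ∑ i, (Pi.single i 1 : Fin n → R) ⊗ₜ[R] q (A (Pi.single i 1)) := by
          rw [Finset.sum_comm]
          refine Finset.sum_congr rfl fun i _ => ?_
          rw [← TensorProduct.tmul_sum, hAe, map_sum]
          simp only [map_smul]
      _ = 0 := by simp [hqA]
  have hβz := h N z hz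
  simp only [z, map_sum, LinearMap.rTensor_tmul] at hβz
  let z' : K' ⊗[R] (Fin m → R) := ∑ j, β ⟨k j, hkmem j⟩ ⊗ₜ[R] (Pi.single j 1 : Fin m → R)
  have hz' : (q.lTensor K') z' = 0 := by
    simp only [z', map_sum, LinearMap.lTensor_tmul]
    exact hβz
  have hex : Function.Exact (A.lTensor K') (q.lTensor K') :=
    lTensor_exact K' (LinearMap.exact_map_mkQ_range A) (Submodule.mkQ_surjective _)
  obtain ⟨w, hw⟩ := (hex z').1 hz'
  let y : Fin n → K' := piScalarRightHom R R K' (Fin n) w
  have hy : ∀ j, β ⟨k j, hkmem j⟩ = ∑ i, k j i • y i := by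
    intro j
    have h1 := piHom_lTensor (K' := K') k A hA w
    rw [hw] at h1
    have h2 := congrFun h1 j
    rw [← h2]
    simp only [z', map_sum, piScalarRightHom_tmul, Finset.sum_apply]
    simp [Pi.single_apply]
  refine ⟨Fintype.linearCombination R y, ?_⟩
  ext ⟨v, hv⟩
  simp only [LinearMap.coe_comp, Function.comp_apply, Submodule.subtype_apply]
  induction hv using Submodule.span_induction with
  | mem x hx =>
    obtain ⟨j, rfl⟩ := hx
    rw [Fintype.linearCombination_apply, hy j]
  | zero =>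
    rw [map_zero]
    exact (map_zero β).symm
  | add x x' hx hx' ihx ihx' =>
    rw [map_add, ihx, ihx', ← map_add]
    rfl
  | smul c x hx ihx =>
    rw [map_smul, ihx, ← map_smul]
    rfl

/-- the factorization through the free module -/
theorem exists_lift {F M F' M' : Type u} [AddCommGroup F] [Module R F] [AddCommGroup M]
    [Module R M] [AddCommGroup F'] [Module R F'] [AddCommGroup M'] [Module R M']
    (p : F →ₗ[R] M) (hp : Function.Surjective p) (p' : F' →ₗ[R] M')
    (α : M →ₗ[R] M') (γ : F →ₗ[R] F') (hγ : p' ∘ₗ γ = α ∘ₗ p)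
    (ψ : F →ₗ[R] LinearMap.ker p')
    (hψ : ∀ x (hx : x ∈ LinearMap.ker p), (ψ x : F') = γ x) :
    ∃ s : M →ₗ[R] F', p' ∘ₗ s = α := by
  let γ' : F →ₗ[R] F' := γ - (LinearMap.ker p').subtype ∘ₗ ψ
  have hker : LinearMap.ker p ≤ LinearMap.ker γ' := by
    intro x hx
    rw [LinearMap.mem_ker]
    simp only [γ', LinearMap.sub_apply, LinearMap.coe_comp, Function.comp_apply,
      Submodule.subtype_apply]
    rw [hψ x hx, sub_self]
  let s : M →ₗ[R] F' :=
    (LinearMap.ker p).liftQ γ' hker ∘ₗ (p.quotKerEquivOfSurjective hp).symm.toLinearMap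
  have hs : ∀ x, s (p x) = γ' x := by
    intro x
    simp only [s, LinearMap.coe_comp, LinearEquiv.coe_coe, Function.comp_apply]
    have : (p.quotKerEquivOfSurjective hp).symm (p x) = (LinearMap.ker p).mkQ x := by
      rw [LinearEquiv.symm_apply_eq]
      rfl
    rw [this]
    rfl
  refine ⟨s, ?_⟩
  apply LinearMap.ext
  intro y
  obtain ⟨x, rfl⟩ := hp y
  rw [LinearMap.comp_apply, hs]
  simp only [γ', LinearMap.sub_apply, LinearMap.coe_comp, Function.comp_apply,
    Submodule.subtype_apply, map_sub]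
  have h1 : p' (ψ x : F') = 0 := (ψ x).2
  rw [h1, sub_zero]
  exact LinearMap.congr_fun hγ x

end Groth.Agent.Lib.Helper20.TorExtC
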