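import Groth.Agent.Lib.Helper20.TorExtB
import Groth.Agent.Lib.Helper20.TorExtC

/-!
# Maps killing `Ext^{e+1}` vs maps killing `Tor_{e+1}` (helper20, for S1741)
-/

set_option autoImplicit false
universe u

namespace Groth.Agent.Lib.Helper20.TorExtD

open CategoryTheory Limits MonoidalCategory Abelian TensorProduct
open Groth.Agent.Helper18.TorLib Groth.Agent.Helper6.TorBalance
open Groth.Agent.Lib.Helper20.TorExtA Groth.Agent.Lib.Helper20.TorExtB

variable {R : Type u} [CommRing R]

section Data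

variable {F M F' M' : Type u} [AddCommGroup F] [Module R F] [AddCommGroup M] [Module R M]
  [AddCommGroup F'] [Module R F'] [AddCommGroup M'] [Module R M']
  (p : F →ₗ[R] M) (p' : F' →ₗ[R] M') (α : M →ₗ[R] M') (γ : F →ₗ[R] F')
  (hγ : p' ∘ₗ γ = α ∘ₗ p)

/-- restriction of `γ` to the kernels -/
def kerMap : LinearMap.ker p →ₗ[R] LinearMap.ker p' :=
  γ.restrict (fun x hx => by
    rw [LinearMap.mem_ker] at hx ⊢
    have h1 := LinearMap.congr_fun hγ x
    simp only [LinearMap.coe_comp, Function.comp_apply] at h1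
    rw [h1, hx, map_zero])

@[simp] theorem kerMap_coe (x : LinearMap.ker p) : (kerMap p p' α γ hγ x : F') = γ x := rfl

/-- the morphism of short complexes -/
noncomputable def scHom : p.shortComplexKer ⟶ p'.shortComplexKer :=
  ShortComplex.homMk (ModuleCat.ofHom (kerMap p p' α γ hγ)) (ModuleCat.ofHom γ)
    (ModuleCat.ofHom α)
    (by
      ext x
      rfl)
    (by
      ext x
      exact LinearMap.congr_fun hγ x)

theorem scHom_τ₁ : (scHom p p' α γ hγ).τ₁ = ModuleCat.ofHom (kerMap p p' α γ hγ) := rfl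
theorem scHom_τ₃ : (scHom p p' α γ hγ).τ₃ = ModuleCat.ofHom α := rfl

end Data

section Base

variable {M F' M' : Type u} [AddCommGroup M] [Module R M]
  [AddCommGroup F'] [Module R F'] [AddCommGroup M'] [Module R M']

theorem rTensor_zero_of_PB {F : Type u} [AddCommGroup F] [Module R F]
    (p : F →ₗ[R] M) (hp : Function.Surjective p)
    (p' : F' →ₗ[R] M') (hp' : Function.Surjective p') (α : M →ₗ[R] M') (γ : F →ₗ[R] F')
    (hγ : p' ∘ₗ γ = α ∘ₗ p) (h : PB 1 (ModuleCat.ofHom α))
    (N : Type u) [AddCommGroup N] [Module R N] (z : LinearMap.ker p ⊗[R] N)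
    (hz : ((LinearMap.ker p).subtype.rTensor N) z = 0) :
    ((kerMap p p' α γ hγ).rTensor N) z = 0 := by
  let S := p.shortComplexKer
  let S' := p'.shortComplexKer
  have hS : S.ShortExact := LinearMap.shortExact_shortComplexKer hp
  have hS' : S'.ShortExact := LinearMap.shortExact_shortComplexKer hp'
  let f : S ⟶ S' := scHom p p' α γ hγ
  let NN : ModuleCat.{u} R := ModuleCat.of R N
  have nat := torδ_naturality hS hS' f NN 0
  have hα : ((Tor (ModuleCat.{u} R) (0 + 1)).map f.τ₃).app NN = 0 := h NN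
  rw [hα, zero_comp] at nat
  have e1 := tor0Iso_hom_naturality S.f NN
  have e2 := tor0Iso_hom_naturality f.τ₁ NN
  let z₀ : ↑(((Tor (ModuleCat.{u} R) 0).obj S.X₁).obj NN) := (tor0Iso S.X₁ NN).inv.hom z
  have hiso : (tor0Iso S.X₁ NN).hom.hom z₀ = z := by
    show ((tor0Iso S.X₁ NN).inv ≫ (tor0Iso S.X₁ NN).hom).hom z = z
    rw [Iso.inv_hom_id]
    rfl
  have hz' : (S.f ▷ NN).hom z = 0 := by
    rw [ModuleCat.hom_whiskerRight]
    exact hz
  have hz₀ : (((Tor (ModuleCat.{u} R) 0).map S.f).app NN).hom z₀ = 0 := by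
    have inj : Function.Injective (tor0Iso S.X₂ NN).hom.hom :=
      (ModuleCat.mono_iff_injective _).1 inferInstance
    apply inj
    have h3 := congrArg (fun φ => φ.hom z₀) e1
    simp only [ModuleCat.hom_comp, LinearMap.comp_apply] at h3
    rw [h3, hiso, hz', map_zero]
  obtain ⟨t, ht⟩ := (ShortComplex.moduleCat_exact_iff _).1 (tor_exact₁ hS NN 0) z₀ hz₀
  have h4 : (((Tor (ModuleCat.{u} R) 0).map f.τ₁).app NN).hom z₀ = 0 := by
    rw [← ht]
    have h5 := congrArg (fun φ => φ.hom t) nat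
    simp only [ModuleCat.hom_comp, LinearMap.comp_apply] at h5
    exact h5.symm.trans (by simp)
  have h6 := congrArg (fun φ => φ.hom z₀) e2
  simp only [ModuleCat.hom_comp, LinearMap.comp_apply] at h6
  rw [h4, map_zero, hiso] at h6
  have h7 : (f.τ₁ ▷ NN).hom z = 0 := h6.symm
  rw [ModuleCat.hom_whiskerRight] at h7
  exact h7

theorem fac_of_PB [IsNoetherianRing R] {n : ℕ} (p : (Fin n → R) →ₗ[R] M)
    (hp : Function.Surjective p) [Module.Free R F']
    (p' : F' →ₗ[R] M') (hp' : Function.Surjective p') (α : M →ₗ[R] M')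
    (γ : (Fin n → R) →ₗ[R] F')
    (hγ : p' ∘ₗ γ = α ∘ₗ p) (h : PB 1 (ModuleCat.ofHom α)) :
    Fac (ModuleCat.ofHom α) := by
  have hfg : (LinearMap.ker p).FG := IsNoetherian.noetherian _
  obtain ⟨ψ, hψ⟩ := TorExtC.exists_extension (LinearMap.ker p) hfg (kerMap p p' α γ hγ)
    (fun N _ _ z hz => rTensor_zero_of_PB p hp p' hp' α γ hγ h N z hz)
  obtain ⟨s, hs⟩ := TorExtC.exists_lift p hp p' α γ hγ ψ (fun x hx => by
    have h1 := LinearMap.congr_fun hψ ⟨x, hx⟩
    simp only [LinearMap.coe_comp, Function.comp_apply, Submodule.subtype_apply] at h1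
    rw [h1]
    rfl)
  haveI : Module.Projective R F' := Module.Projective.of_free
  refine ⟨ModuleCat.of R F', inferInstance, ModuleCat.ofHom s, ModuleCat.ofHom p', ?_⟩
  rw [← ModuleCat.ofHom_comp, hs]

end Base

section Main

variable [IsNoetherianRing R]

theorem exists_data (M M' : Type u) [AddCommGroup M] [Module R M] [Module.Finite R M]
    [AddCommGroup M'] [Module R M'] (α : M →ₗ[R] M') :
    ∃ (n : ℕ) (p : (Fin n → R) →ₗ[R] M) (_ : Function.Surjective p)
      (p' : (M' →₀ R) →ₗ[R] M') (_ : Function.Surjective p') (γ : (Fin n → R) →ₗ[R] (M' →₀ R)),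
      p' ∘ₗ γ = α ∘ₗ p := by
  obtain ⟨n, p, hp⟩ := Module.Finite.exists_fin' R M
  let p' : (M' →₀ R) →ₗ[R] M' := Finsupp.linearCombination R id
  have hp' : Function.Surjective p' := fun m => ⟨Finsupp.single m 1, by simp [p']⟩
  obtain ⟨γ, hγ⟩ := Module.projective_lifting_property p' (α ∘ₗ p) hp'
  exact ⟨n, p, hp, p', hp', γ, hγ⟩

theorem main (e : ℕ) : ∀ (M M' : Type u) [AddCommGroup M] [Module R M] [Module.Finite R M]
    [AddCommGroup M'] [Module R M'] (α : M →ₗ[R] M'),
    PA (e + 1) (ModuleCat.ofHom α) ↔ PB (e + 1) (ModuleCat.ofHom α) := by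
  induction e with
  | zero =>
    intro M M' _ _ _ _ _ α
    obtain ⟨n, p, hp, p', hp', γ, hγ⟩ := exists_data M M' α
    constructor
    · intro h
      exact PB_of_fac _ (fac_of_PA _ h) 0
    · intro h
      exact PA_of_fac _ (fac_of_PB p hp p' hp' α γ hγ h) 0
  | succ e ih =>
    intro M M' _ _ _ _ _ α
    obtain ⟨n, p, hp, p', hp', γ, hγ⟩ := exists_data M M' α
    let S := p.shortComplexKer
    let S' := p'.shortComplexKer
    have hS : S.ShortExact := LinearMap.shortExact_shortComplexKer hp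
    have hS' : S'.ShortExact := LinearMap.shortExact_shortComplexKer hp'
    let f : S ⟶ S' := scHom p p' α γ hγ
    haveI : Module.Projective R S.X₂ := (inferInstance : Module.Projective R (Fin n → R))
    haveI : Module.Projective R S'.X₂ := (inferInstance : Module.Projective R (M' →₀ R))
    haveI : Module.Flat R S.X₂ := (inferInstance : Module.Flat R (Fin n → R))
    haveI : Module.Flat R S'.X₂ := (inferInstance : Module.Flat R (M' →₀ R))
    haveI : Projective S.X₂ := inferInstance
    haveI : Projective S'.X₂ := inferInstance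
    have h1 : PA (e + 2) f.τ₃ ↔ PA (e + 1) f.τ₁ := PA_succ_iff hS hS' f e
    have h2 : PB (e + 2) f.τ₃ ↔ PB (e + 1) f.τ₁ := PB_succ_iff hS hS' f e
    haveI : Module.Finite R (LinearMap.ker p) := Module.Finite.of_injective _
      (LinearMap.ker p).injective_subtype
    have h3 := ih (LinearMap.ker p) (LinearMap.ker p') (kerMap p p' α γ hγ)
    exact h1.trans (h3.trans h2.symm)

end Main

end Groth.Agent.Lib.Helper20.TorExtD
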