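import Groth.Agent.Lib.Helper6.TorBalance

/-!
# Periodic `Tor` against the residue field when the maximal ideal is its own syzygy
(helper20, for S16243)
-/

set_option autoImplicit false
universe u

namespace Groth.Agent.Lib.Helper20.TorNodeA

open CategoryTheory Limits MonoidalCategory TensorProduct
open Groth.Agent.Helper18.TorLib Groth.Agent.Helper6.TorBalance

variable {R : Type u} [CommRing R]

/-- projective dimension `< n+1` forces `Tor_{n+1}(M, -) = 0`. -/
theorem isZero_tor_of_pd : ∀ (n : ℕ) (M : ModuleCat.{u} R), HasProjectiveDimensionLT M (n + 1) →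
    ∀ N : ModuleCat.{u} R, IsZero (((Tor (ModuleCat.{u} R) (n + 1)).obj M).obj N) := by
  intro n
  induction n with
  | zero =>
    intro M hM N
    haveI : Projective M := projective_iff_hasProjectiveDimensionLT_one.2 hM
    haveI : Module.Flat R M := flat_of_projective M
    exact isZero_tor_succ_of_flat_left M N 0
  | succ n ih =>
    intro M hM N
    let S := ModuleCat.projectiveShortComplex M
    have hS : S.ShortExact := ModuleCat.shortExact_projectiveShortComplex M
    haveI : Module.Projective R S.X₂ := Module.Projective.of_free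
    haveI : Projective S.X₂ := inferInstance
    have hK : HasProjectiveDimensionLT S.X₁ (n + 1) :=
      hS.hasProjectiveDimensionLT_X₁ (n + 1) inferInstance hM
    haveI : Module.Flat R S.X₂ := flat_of_projective _
    haveI := isIso_torδ hS N n
    exact (ih S.X₁ hK N).of_iso (asIso (torδ hS N (n + 1)))

section Tensor

variable (I : Ideal R) {K F M : Type u} [AddCommGroup K] [Module R K] [AddCommGroup F]
  [Module R F] [AddCommGroup M] [Module R M]

theorem rTensor_eq_zero_of_le (f : K →ₗ[R] F) (hf : ∀ k, f k ∈ I • (⊤ : Submodule R F)) :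
    f.rTensor (R ⧸ I) = 0 := by
  apply TensorProduct.ext'
  intro k t
  rw [LinearMap.rTensor_tmul, LinearMap.zero_apply]
  refine Submodule.smul_induction_on (p := fun x => x ⊗ₜ[R] t = 0) (hf k) ?_ ?_
  · intro a ha x _
    obtain ⟨t', rfl⟩ := Ideal.Quotient.mk_surjective t
    rw [TensorProduct.smul_tmul]
    have h0 : a • (Ideal.Quotient.mk I t') = 0 := by
      rw [Algebra.smul_def, Ideal.Quotient.algebraMap_eq, Ideal.Quotient.eq_zero_iff_mem.2 ha,
        zero_mul]
    rw [h0, TensorProduct.tmul_zero]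
  · intro x y hx hy
    rw [TensorProduct.add_tmul, hx, hy, add_zero]

/-- if `K → F → M → 0` is exact and `K` lands in `I F` then `F ⊗ R/I ≃ M ⊗ R/I`. -/
noncomputable def tensorEquiv (f : K →ₗ[R] F) (g : F →ₗ[R] M) (hfg : Function.Exact f g)
    (hg : Function.Surjective g) (hf : ∀ k, f k ∈ I • (⊤ : Submodule R F)) :
    (F ⊗[R] (R ⧸ I)) ≃ₗ[R] (M ⊗[R] (R ⧸ I)) :=
  LinearEquiv.ofBijective (g.rTensor (R ⧸ I)) ⟨by
    have hex := rTensor_exact (R ⧸ I) hfg hg
    rw [← LinearMap.ker_eq_bot, hex.linearMap_ker_eq, rTensor_eq_zero_of_le I f hf,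
      LinearMap.range_zero], LinearMap.rTensor_surjective _ hg⟩

theorem length_prod_tensor [I.IsMaximal] : Module.length R ((R × R) ⊗[R] (R ⧸ I)) = 2 := by
  haveI : IsSimpleModule R (R ⧸ I) :=
    isSimpleModule_iff_quot_maximal.2 ⟨I, inferInstance, ⟨LinearEquiv.refl _ _⟩⟩
  rw [(TensorProduct.prodLeft R R R R (R ⧸ I)).length_eq, Module.length_prod,
    (TensorProduct.lid R (R ⧸ I)).length_eq, Module.length_eq_one]
  rfl

end Tensor

section Main

variable (I : Ideal R)

/-- `Tor_n(X, R/I)`. -/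
noncomputable abbrev T (n : ℕ) (X : ModuleCat.{u} R) : ModuleCat.{u} R :=
  ((Tor (ModuleCat.{u} R) n).obj X).obj (ModuleCat.of R (R ⧸ I))

theorem len_congr {X Y : ModuleCat.{u} R} (i : X ≅ Y) (n : ℕ) :
    Module.length R (T I n X) = Module.length R (T I n Y) :=
  ((((Tor (ModuleCat.{u} R) n).mapIso i).app (ModuleCat.of R (R ⧸ I))).toLinearEquiv).length_eq

theorem len_tor_one {S : ShortComplex (ModuleCat.{u} R)} (hS : S.ShortExact) [Module.Flat R S.X₂]
    (hf : ∀ k, S.f.hom k ∈ I • (⊤ : Submodule R S.X₂)) :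
    Module.length R (T I 1 S.X₃) = Module.length R (S.X₁ ⊗[R] (R ⧸ I)) := by
  obtain ⟨i⟩ := tor_one_iso_ker hS (ModuleCat.of R (R ⧸ I))
  have h0 : S.f.hom.rTensor (R ⧸ I) = 0 := rTensor_eq_zero_of_le I _ hf
  have h1 : LinearMap.ker (S.f.hom.rTensor (R ⧸ I)) = ⊤ := by rw [h0, LinearMap.ker_zero]
  exact (i.toLinearEquiv ≪≫ₗ LinearEquiv.ofEq _ _ h1 ≪≫ₗ Submodule.topEquiv).length_eq

theorem main [hI : I.IsMaximal] (π : (R × R) →ₗ[R] I) (hπ : Function.Surjective π)
    (hker : ∀ z ∈ LinearMap.ker π, z ∈ I • (⊤ : Submodule R (R × R)))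
    (e : LinearMap.ker π ≃ₗ[R] I) :
    (∀ i : ℕ, 1 ≤ i → Module.length R (T I i (ModuleCat.of R (R ⧸ I))) = 2) ∧
    ∀ n : ℕ, ¬ HasProjectiveDimensionLT (ModuleCat.of R (R ⧸ I)) n := by
  have hS₁ : π.shortComplexKer.ShortExact := LinearMap.shortExact_shortComplexKer hπ
  have hq : Function.Surjective (Submodule.mkQ I) := Submodule.mkQ_surjective I
  have hS₀ : (Submodule.mkQ I).shortComplexKer.ShortExact :=
    LinearMap.shortExact_shortComplexKer hq
  haveI : Module.Flat R π.shortComplexKer.X₂ := (inferInstance : Module.Flat R (R × R))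
  haveI : Module.Flat R (Submodule.mkQ I).shortComplexKer.X₂ := (inferInstance : Module.Flat R R)
  let ε : ModuleCat.of R (LinearMap.ker π) ≅ ModuleCat.of R I := e.toModuleIso
  let ε₀ : ModuleCat.of R (LinearMap.ker (Submodule.mkQ I)) ≅ ModuleCat.of R I :=
    (LinearEquiv.ofEq _ _ (Submodule.ker_mkQ I)).toModuleIso
  have hIκ : Module.length R (I ⊗[R] (R ⧸ I)) = 2 := by
    rw [← (tensorEquiv I (LinearMap.ker π).subtype π (LinearMap.exact_subtype_ker_map π) hπ
      (fun k => hker k.1 k.2)).length_eq]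
    exact length_prod_tensor I
  have hA : ∀ n : ℕ, Module.length R (T I (n + 1) (ModuleCat.of R I)) = 2 := by
    intro n
    induction n with
    | zero =>
      have h1 := len_tor_one I hS₁ (fun k => hker k.1 k.2)
      refine h1.trans ?_
      rw [← hIκ]
      exact (TensorProduct.congr e (LinearEquiv.refl R (R ⧸ I))).length_eq
    | succ n ih =>
      haveI := isIso_torδ hS₁ (ModuleCat.of R (R ⧸ I)) n
      have h2 := (asIso (torδ hS₁ (ModuleCat.of R (R ⧸ I)) (n + 1))).toLinearEquiv.length_eq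
      exact h2.trans ((len_congr I ε (n + 1)).trans ih)
  have hB1 : Module.length R (T I 1 (ModuleCat.of R (R ⧸ I))) = 2 := by
    have h1 := len_tor_one I hS₀ (fun k => by
      have hk : (k : LinearMap.ker (Submodule.mkQ I)).1 ∈ I :=
        (Submodule.Quotient.mk_eq_zero I).1
          (LinearMap.mem_ker.1 (k : LinearMap.ker (Submodule.mkQ I)).2)
      have h2 := Submodule.smul_mem_smul hk (Submodule.mem_top : (1 : R) ∈ (⊤ : Submodule R R))
      have h3 : (k : LinearMap.ker (Submodule.mkQ I)).1 • (1 : R) =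
          (k : LinearMap.ker (Submodule.mkQ I)).1 := by rw [smul_eq_mul, mul_one]
      rw [h3] at h2
      exact h2)
    refine h1.trans ?_
    rw [← hIκ]
    exact (TensorProduct.congr (LinearEquiv.ofEq _ _ (Submodule.ker_mkQ I))
      (LinearEquiv.refl R (R ⧸ I))).length_eq
  have hB : ∀ n : ℕ, Module.length R (T I (n + 2) (ModuleCat.of R (R ⧸ I))) = 2 := by
    intro n
    haveI := isIso_torδ hS₀ (ModuleCat.of R (R ⧸ I)) n
    have h2 := (asIso (torδ hS₀ (ModuleCat.of R (R ⧸ I)) (n + 1))).toLinearEquiv.length_eq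
    exact h2.trans ((len_congr I ε₀ (n + 1)).trans (hA n))
  have hall : ∀ i : ℕ, 1 ≤ i → Module.length R (T I i (ModuleCat.of R (R ⧸ I))) = 2 := by
    intro i hi
    obtain ⟨j, rfl⟩ : ∃ j, i = j + 1 := ⟨i - 1, by omega⟩
    cases j with
    | zero => exact hB1
    | succ j => exact hB j
  refine ⟨hall, fun n hn => ?_⟩
  haveI := hn
  have h3 : HasProjectiveDimensionLT (ModuleCat.of R (R ⧸ I)) (n + 1) :=
    hasProjectiveDimensionLT_of_ge _ n (n + 1) (by omega)
  have h4 := isZero_tor_of_pd n _ h3 (ModuleCat.of R (R ⧸ I))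
  have h5 := hall (n + 1) (by omega)
  haveI : Subsingleton (T I (n + 1) (ModuleCat.of R (R ⧸ I))) := ModuleCat.subsingleton_of_isZero h4
  rw [Module.length_eq_zero] at h5
  exact absurd h5 (by norm_num)

end Main

end Groth.Agent.Lib.Helper20.TorNodeA
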