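import Mathlib

/-!
# The node `k[x,y]/(xy)`: annihilators, the maximal ideal at the origin and its syzygy
(helper20, for S16243)
-/

set_option autoImplicit false
universe u

namespace Groth.Agent.Lib.Helper20.TorNodeB

open MvPolynomial

variable (k : Type u) [Field k]

/-- the ideal `(xy)`. -/
noncomputable abbrev J : Ideal (MvPolynomial (Fin 2) k) := Ideal.span {(X 0 * X 1 : MvPolynomial (Fin 2) k)}

/-- the node. -/
noncomputable abbrev A := MvPolynomial (Fin 2) k ⧸ J k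

/-- the class of a variable. -/
noncomputable abbrev xb (l : Fin 2) : A k := Ideal.Quotient.mk (J k) (X l)

/-- the ideal of the origin. -/
noncomputable abbrev m : Ideal (A k) := Ideal.span {xb k 0, xb k 1}

variable {k}

/-- kill all variables except `i`. -/
noncomputable def φ' (i : Fin 2) : MvPolynomial (Fin 2) k →ₐ[k] Polynomial k :=
  aeval (fun l => if l = i then Polynomial.X else 0)

/-- the inclusion of `k[X_i]`. -/
noncomputable def ι (i : Fin 2) : Polynomial k →ₐ[k] MvPolynomial (Fin 2) k :=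
  Polynomial.aeval (X i)

theorem φ'_X_self (i : Fin 2) : φ' (k := k) i (X i) = Polynomial.X := by
  rw [φ', aeval_X, if_pos rfl]

theorem φ'_X_ne {i j : Fin 2} (h : i ≠ j) : φ' (k := k) i (X j) = 0 := by
  rw [φ', aeval_X, if_neg (Ne.symm h)]

theorem φ'_ι (i : Fin 2) (q : Polynomial k) : φ' i (ι i q) = q := by
  rw [ι, ← Polynomial.aeval_algHom_apply, φ'_X_self, Polynomial.aeval_X_left_apply]

theorem decomp {i j : Fin 2} (hc : ∀ l : Fin 2, l = i ∨ l = j) (p : MvPolynomial (Fin 2) k) :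
    ∃ (q : Polynomial k) (r : MvPolynomial (Fin 2) k), p = ι i q + X j * r := by
  induction p using MvPolynomial.induction_on with
  | C a =>
    refine ⟨Polynomial.C a, 0, ?_⟩
    rw [ι, Polynomial.aeval_C, mul_zero, add_zero]
    rfl
  | add p₁ p₂ h₁ h₂ =>
    obtain ⟨q₁, r₁, e₁⟩ := h₁
    obtain ⟨q₂, r₂, e₂⟩ := h₂
    refine ⟨q₁ + q₂, r₁ + r₂, ?_⟩
    rw [e₁, e₂, map_add]
    ring
  | mul_X p l h =>
    obtain ⟨q, r, e⟩ := h
    rcases hc l with rfl | rfl
    · refine ⟨q * Polynomial.X, r * X l, ?_⟩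
      rw [e, map_mul, ι, Polynomial.aeval_X]
      ring
    · refine ⟨0, p, ?_⟩
      rw [map_zero, zero_add, mul_comm]

theorem ker_φ' {i j : Fin 2} (hij : i ≠ j) (hc : ∀ l : Fin 2, l = i ∨ l = j)
    (p : MvPolynomial (Fin 2) k) (hp : φ' i p = 0) : ∃ r, p = X j * r := by
  obtain ⟨q, r, e⟩ := decomp hc p
  refine ⟨r, ?_⟩
  have h1 : φ' i p = q := by
    rw [e, map_add, map_mul, φ'_ι, φ'_X_ne hij, zero_mul, add_zero]
  rw [hp] at h1
  rw [e, ← h1, map_zero, zero_add]

theorem φ'_J (i : Fin 2) : ∀ a ∈ J k, (φ' i).toRingHom a = 0 := by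
  intro a ha
  obtain ⟨c, rfl⟩ := Ideal.mem_span_singleton'.1 ha
  show φ' i (c * (X 0 * X 1)) = 0
  rw [map_mul, map_mul]
  have : φ' (k := k) i (X 0) * φ' i (X 1) = 0 := by
    by_cases h : i = 0
    · subst h
      rw [φ'_X_ne (i := 0) (j := 1) (by decide), mul_zero]
    · rw [φ'_X_ne h, zero_mul]
  rw [this, mul_zero]

/-- the induced map on the node. -/
noncomputable def φ (i : Fin 2) : A k →+* Polynomial k :=
  Ideal.Quotient.lift (J k) (φ' i).toRingHom (φ'_J i)

theorem φ_mk (i : Fin 2) (p : MvPolynomial (Fin 2) k) :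
    φ i (Ideal.Quotient.mk (J k) p) = φ' i p := rfl

theorem φ_xb_self (i : Fin 2) : φ i (xb k i) = Polynomial.X := by
  rw [φ_mk, φ'_X_self]

theorem φ_xb_ne {i j : Fin 2} (h : i ≠ j) : φ i (xb k j) = 0 := by
  rw [φ_mk, φ'_X_ne h]

theorem xb_mul_01 : xb k 0 * xb k 1 = 0 := by
  rw [← map_mul]
  exact Ideal.Quotient.eq_zero_iff_mem.2 (Ideal.subset_span rfl)

theorem xb_mul {i j : Fin 2} (h : i ≠ j) : xb k i * xb k j = 0 := by
  fin_cases i <;> fin_cases j
  · exact absurd rfl h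
  · exact xb_mul_01
  · rw [mul_comm]; exact xb_mul_01
  · exact absurd rfl h

theorem ker_φ {i j : Fin 2} (hij : i ≠ j) (hc : ∀ l : Fin 2, l = i ∨ l = j) (a : A k)
    (ha : φ i a = 0) : ∃ c, a = xb k j * c := by
  obtain ⟨p, rfl⟩ := Ideal.Quotient.mk_surjective a
  rw [φ_mk] at ha
  obtain ⟨r, rfl⟩ := ker_φ' hij hc p ha
  exact ⟨Ideal.Quotient.mk (J k) r, map_mul _ _ _⟩

theorem ann {i j : Fin 2} (hij : i ≠ j) (hc : ∀ l : Fin 2, l = i ∨ l = j) (a : A k)
    (ha : xb k i * a = 0) : ∃ c, a = xb k j * c := by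
  apply ker_φ hij hc
  have h1 : φ i (xb k i * a) = 0 := by rw [ha, map_zero]
  rw [map_mul, φ_xb_self] at h1
  rcases mul_eq_zero.1 h1 with h | h
  · exact absurd h Polynomial.X_ne_zero
  · exact h

theorem inter {i j : Fin 2} (hij : i ≠ j) (hc : ∀ l : Fin 2, l = i ∨ l = j) (a b : A k)
    (hab : xb k i * a = xb k j * b) : xb k i * a = 0 := by
  have h1 : φ i (xb k i * a) = φ i (xb k j * b) := by rw [hab]
  rw [map_mul, map_mul, φ_xb_self, φ_xb_ne hij, zero_mul] at h1
  have h2 : φ i a = 0 := by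
    rcases mul_eq_zero.1 h1 with h | h
    · exact absurd h Polynomial.X_ne_zero
    · exact h
  obtain ⟨c, rfl⟩ := ker_φ hij hc a h2
  rw [← mul_assoc, xb_mul hij, zero_mul]

theorem cover01 : ∀ l : Fin 2, l = 0 ∨ l = 1 := by decide

theorem cover10 : ∀ l : Fin 2, l = 1 ∨ l = 0 := by decide

/-- evaluation at the origin. -/
noncomputable def ev : A k →+* k := (Polynomial.evalRingHom (0 : k)).comp (φ 0)

theorem ev_surjective : Function.Surjective (ev (k := k)) := by
  intro c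
  refine ⟨Ideal.Quotient.mk (J k) (C c), ?_⟩
  show Polynomial.eval 0 (φ' 0 (C c)) = c
  rw [φ', aeval_C]
  show Polynomial.eval 0 (Polynomial.C c) = c
  rw [Polynomial.eval_C]

theorem m_eq_ker : m k = RingHom.ker (ev (k := k)) := by
  apply le_antisymm
  · rw [Ideal.span_le]
    rintro z (rfl | rfl)
    · show Polynomial.eval 0 (φ 0 (xb k 0)) = 0
      rw [φ_xb_self, Polynomial.eval_X]
    · show Polynomial.eval 0 (φ 0 (xb k 1)) = 0
      rw [φ_xb_ne (by decide), Polynomial.eval_zero]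
  · intro a ha
    have h0 : Polynomial.eval 0 (φ 0 a) = 0 := ha
    have h1 : Polynomial.X ∣ φ 0 a := by
      rw [Polynomial.X_dvd_iff, Polynomial.coeff_zero_eq_eval_zero]
      exact h0
    obtain ⟨q, hq⟩ := h1
    have h2 : φ 0 (a - xb k 0 * Ideal.Quotient.mk (J k) (ι 0 q)) = 0 := by
      rw [map_sub, map_mul, φ_xb_self, φ_mk, φ'_ι, hq, sub_self]
    obtain ⟨c, hc⟩ := ker_φ (i := 0) (j := 1) (by decide) cover01 _ h2
    rw [Ideal.mem_span_pair]
    refine ⟨Ideal.Quotient.mk (J k) (ι 0 q), c, ?_⟩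
    rw [mul_comm c, ← hc]
    ring

theorem m_isMaximal : (m k).IsMaximal := by
  rw [m_eq_ker]
  exact RingHom.ker_isMaximal_of_surjective _ ev_surjective

theorem xb_mem (l : Fin 2) : xb k l ∈ m k := by
  fin_cases l
  · exact Ideal.subset_span (by simp)
  · exact Ideal.subset_span (by simp)

/-- `(a, b) ↦ x a + y b`. -/
noncomputable def π0 : (A k × A k) →ₗ[A k] A k :=
  xb k 0 • LinearMap.fst (A k) (A k) (A k) + xb k 1 • LinearMap.snd (A k) (A k) (A k)

theorem π0_apply (z : A k × A k) : π0 z = xb k 0 * z.1 + xb k 1 * z.2 := rfl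

noncomputable def π : (A k × A k) →ₗ[A k] m k :=
  LinearMap.codRestrict (m k) π0 (fun z => by
    rw [π0_apply]
    exact Ideal.add_mem _ (Ideal.mul_mem_right _ _ (xb_mem 0)) (Ideal.mul_mem_right _ _ (xb_mem 1)))

theorem π_coe (z : A k × A k) : ((π z : m k) : A k) = xb k 0 * z.1 + xb k 1 * z.2 := rfl

theorem π_surjective : Function.Surjective (π (k := k)) := by
  rintro ⟨z, hz⟩
  obtain ⟨c, d, rfl⟩ := Ideal.mem_span_pair.1 hz
  refine ⟨(c, d), Subtype.ext ?_⟩
  rw [π_coe]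
  ring

theorem mem_ker_π {z : A k × A k} (hz : z ∈ LinearMap.ker (π (k := k))) :
    ∃ c d, z = (xb k 1 * c, xb k 0 * d) := by
  have h0 : xb k 0 * z.1 + xb k 1 * z.2 = 0 := by
    have := congrArg Subtype.val (LinearMap.mem_ker.1 hz)
    rwa [π_coe] at this
  have h1 : xb k 0 * z.1 = xb k 1 * (-z.2) := by linear_combination h0
  have h2 : xb k 0 * z.1 = 0 := inter (by decide) cover01 _ _ h1
  have h3 : xb k 1 * z.2 = 0 := by rw [h2, zero_add] at h0; exact h0
  obtain ⟨c, hc⟩ := ann (i := 0) (j := 1) (by decide) cover01 _ h2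
  obtain ⟨d, hd⟩ := ann (i := 1) (j := 0) (by decide) cover10 _ h3
  exact ⟨c, d, Prod.ext hc hd⟩

theorem ker_π_le : ∀ z ∈ LinearMap.ker (π (k := k)),
    z ∈ m k • (⊤ : Submodule (A k) (A k × A k)) := by
  intro z hz
  obtain ⟨c, d, rfl⟩ := mem_ker_π hz
  have h1 : ((xb k 1 * c, xb k 0 * d) : A k × A k) = xb k 1 • (c, 0) + xb k 0 • (0, d) := by
    ext <;> simp
  rw [h1]
  exact Submodule.add_mem _ (Submodule.smul_mem_smul (xb_mem 1) Submodule.mem_top)
    (Submodule.smul_mem_smul (xb_mem 0) Submodule.mem_top)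

/-- `(a, b) ↦ a + b` on the syzygy module. -/
noncomputable def σ : LinearMap.ker (π (k := k)) →ₗ[A k] m k :=
  LinearMap.codRestrict (m k)
    ((LinearMap.fst (A k) (A k) (A k) + LinearMap.snd (A k) (A k) (A k)).comp
      (LinearMap.ker (π (k := k))).subtype) (fun z => by
    obtain ⟨c, d, hcd⟩ := mem_ker_π z.2
    show (z : A k × A k).1 + (z : A k × A k).2 ∈ m k
    rw [hcd]
    exact Ideal.add_mem _ (Ideal.mul_mem_right _ _ (xb_mem 1)) (Ideal.mul_mem_right _ _ (xb_mem 0)))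

theorem σ_coe (z : LinearMap.ker (π (k := k))) :
    ((σ z : m k) : A k) = (z : A k × A k).1 + (z : A k × A k).2 := rfl

theorem σ_bijective : Function.Bijective (σ (k := k)) := by
  constructor
  · rw [injective_iff_map_eq_zero]
    intro z hz
    obtain ⟨c, d, hcd⟩ := mem_ker_π z.2
    have h0 : (z : A k × A k).1 + (z : A k × A k).2 = 0 := by
      rw [← σ_coe, hz]; rfl
    rw [hcd] at h0
    have h1 : xb k 1 * c = xb k 0 * (-d) := by linear_combination h0
    have h2 : xb k 1 * c = 0 := inter (by decide) cover10 _ _ h1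
    have h3 : xb k 0 * d = 0 := by rw [h2, zero_add] at h0; exact h0
    apply Subtype.ext
    rw [hcd, h2, h3]
    rfl
  · rintro ⟨z, hz⟩
    obtain ⟨c, d, rfl⟩ := Ideal.mem_span_pair.1 hz
    have hmem : ((d * xb k 1, c * xb k 0) : A k × A k) ∈ LinearMap.ker (π (k := k)) := by
      rw [LinearMap.mem_ker]
      apply Subtype.ext
      rw [π_coe]
      show xb k 0 * (d * xb k 1) + xb k 1 * (c * xb k 0) = 0
      have e1 : xb k 0 * (d * xb k 1) = d * (xb k 0 * xb k 1) := by ring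
      have e2 : xb k 1 * (c * xb k 0) = c * (xb k 0 * xb k 1) := by ring
      rw [e1, e2, xb_mul_01, mul_zero, mul_zero, add_zero]
    refine ⟨⟨_, hmem⟩, Subtype.ext ?_⟩
    rw [σ_coe]
    show d * xb k 1 + c * xb k 0 = c * xb k 0 + d * xb k 1
    ring

theorem data : ∃ (_ : (m k).IsMaximal) (p : (A k × A k) →ₗ[A k] m k),
    Function.Surjective p ∧ (∀ z ∈ LinearMap.ker p, z ∈ m k • (⊤ : Submodule (A k) (A k × A k))) ∧
      Nonempty (LinearMap.ker p ≃ₗ[A k] m k) :=
  ⟨m_isMaximal, π, π_surjective, ker_π_le, ⟨LinearEquiv.ofBijective σ σ_bijective⟩⟩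

end Groth.Agent.Lib.Helper20.TorNodeB
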