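import Mathlib
import Groth.Agent.Lib.Helper18.CurveH0

/-!
# A geometrically connected smooth proper scheme over a field is integral
-/

set_option autoImplicit false
universe u
open CategoryTheory CategoryTheory.Limits AlgebraicGeometry Opposite TopologicalSpace

namespace Groth.Agent.Helper20.VBMap

theorem isIntegral_of_geomConn (k : Type u) [Field k] (X : Scheme.{u})
    [X.Over (Spec (CommRingCat.of k))] [QuasiCompact (X ↘ Spec (CommRingCat.of k))]
    [Smooth (X ↘ Spec (CommRingCat.of k))]
    [GeometricallyConnected (X ↘ Spec (CommRingCat.of k))] : IsIntegral X := by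
  have : ConnectedSpace X :=
    GeometricallyConnected.connectedSpace_of_subsingleton (f := X ↘ Spec (CommRingCat.of k))
  exact Groth.Agent.Helper18.CurveH0.isIntegral_of_smooth_connected k
    (X ↘ Spec (CommRingCat.of k))

end Groth.Agent.Helper20.VBMap
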