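import Mathlib
import Groth.Prelude.Def_ModFun2
import Groth.Agent.Lib.Helper20.VBMap2

/-!
# A square-zero endomorphism of a stable bundle vanishes
-/

set_option autoImplicit false
set_option maxHeartbeats 400000
set_option linter.style.haveILetI false
set_option linter.unusedSectionVars false
set_option linter.unusedVariables false
universe u
open CategoryTheory CategoryTheory.Limits AlgebraicGeometry Opposite TopologicalSpace
open Groth.Agent.Helper20.RankFn

namespace Groth.Agent.Helper20.VBMap

variable (k : Type u) [Field k] {X : Scheme.{u}} [X.Over (Spec (CommRingCat.of k))] [IsIntegral X]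
  [IsProper (X ↘ Spec (CommRingCat.of k))] [Smooth (X ↘ Spec (CommRingCat.of k))]

theorem eq_zero_of_sq_zero_of_stable (hdim : topologicalKrullDim X = 1) (r : ℕ) (E : X.Modules)
    (hE : FlatMod.IsFinLocFreeOfRank r E) (hst : ModFun.IsSlopeStable k X E r)
    (ψ : E ⟶ E) (hψ : ψ ≫ ψ = 0) : ψ = 0 := by
  by_contra hne
  obtain ⟨rK, rI, hKr, hIr, hrk, hdeg, hK0, hI0, hKdeg0, hIdeg0⟩ :=
    ker_coim_pkg k hdim r hE (VBIndec.isFinLocFree_of_rank r E hE) ψ
  have hIpos : 0 < rI := by
    rcases Nat.eq_zero_or_pos rI with h0 | h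
    · exfalso
      apply hne
      rw [← Abelian.coimage.fac ψ, (hI0 h0).eq_of_tgt (Abelian.coimage.π ψ) 0, zero_comp]
    · exact h
  have hKpos : 0 < rK := by
    rcases Nat.eq_zero_or_pos rK with h0 | h
    · exfalso
      apply hne
      have hKz := hK0 h0
      have hm : Mono ψ := by
        apply Preadditive.mono_of_cancel_zero
        intro T a ha
        have h1 : a = kernel.lift ψ a ha ≫ kernel.ι ψ := (kernel.lift_ι ψ a ha).symm
        rw [h1, hKz.eq_of_tgt (kernel.lift ψ a ha) 0, zero_comp]
      rw [← cancel_mono ψ, hψ, zero_comp]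
    · exact h
  have h1 := hst (kernel ψ) rK (kernel.ι ψ) inferInstance hKpos (by omega) hKr
  have h2 := hst (Abelian.coimage ψ) rI (Abelian.factorThruCoimage ψ) inferInstance hIpos
    (by omega) hIr
  have hrk' : (r : ℤ) = (rK : ℤ) + (rI : ℤ) := by exact_mod_cast hrk
  rw [hdeg, hrk'] at h1 h2
  nlinarith [h1, h2]

end Groth.Agent.Helper20.VBMap
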