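import Mathlib
import Groth.Agent.Lib.Helper20.VeryStable1
import Groth.Agent.Lib.Helper13.TensorFinLocFree

/-!
# Very stable bundles of rank two: criterion via line subbundles
-/

set_option autoImplicit false
set_option maxHeartbeats 800000
set_option linter.style.haveILetI false
set_option linter.unusedSectionVars false
set_option linter.unusedVariables false
universe u
open CategoryTheory CategoryTheory.Limits AlgebraicGeometry Opposite TopologicalSpace
open Groth.Agent.Helper20.RankFn Groth.Agent.Helper13 Groth.Agent.Helper13.TwistSES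
open Groth.Agent.Helper13.QCoh Groth.Agent.Helper13.FinType Groth.Agent.Helper13.LocFree
open Groth.Agent.Helper20.VBMap

namespace Groth.Agent.Helper20.VeryStable

variable (k : Type u) [Field k] {X : Scheme.{u}} [X.Over (Spec (CommRingCat.of k))] [IsIntegral X]
  [IsProper (X ↘ Spec (CommRingCat.of k))] [Smooth (X ↘ Spec (CommRingCat.of k))]

include k in
/-- **S15225**: a rank two bundle has a nonzero nilpotent `K`-twisted endomorphism iff it has a
line subbundle `L` with a nonzero map `E/L ⟶ L ⊗ K`. -/
theorem not_veryStable_iff (hdim : topologicalKrullDim X = 1) (K : X.Modules)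
    (hK : FlatMod.IsFinLocFree K) (E : X.Modules) (hE : FlatMod.IsFinLocFreeOfRank 2 E) :
    (¬ ∀ α : E ⟶ CohB1.tensorMod E K, α ≫ Tensor.map α (𝟙 K) = 0 → α = 0) ↔
      ∃ (L : X.Modules) (j : L ⟶ E), PicF.IsInvertible L ∧ Mono j ∧
        PicF.IsInvertible (cokernel j) ∧ ∃ β : cokernel j ⟶ CohB1.tensorMod L K, β ≠ 0 := by
  have hEl := VBIndec.isFinLocFree_of_rank 2 E hE
  constructor
  · intro h
    push Not at h
    obtain ⟨α, hα2, hα0⟩ := h
    have hEK : FlatMod.IsFinLocFree (CohB1.tensorMod E K) :=
      Groth.Agent.Helper13.TensorFinLocFree.isFinLocFree_tensorMod E K hEl hK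
    obtain ⟨rK, rI, hKr, hIr, hsum, -, hK0, hI0, -, -⟩ := ker_coim_pkg k hdim 2 hE hEK α
    have hfac := Abelian.coimage.fac α
    have hI : rI ≠ 0 := by
      intro h
      apply hα0
      rw [← hfac, (hI0 h).eq_of_tgt (Abelian.coimage.π α) 0, zero_comp]
    have hKne : rK ≠ 0 := by
      intro h
      haveI : Mono α := Preadditive.mono_of_kernel_zero ((hK0 h).eq_of_src _ _)
      haveI := mono_map_of_isFinLocFree α K hK
      have h1 : 𝟙 E = 0 := by
        rw [← cancel_mono (α ≫ Tensor.map α (𝟙 K)), hα2, comp_zero, comp_zero]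
      exact VBIndec.not_isZero_of_isFinLocFreeOfRank 2 (by norm_num) E hE
        ((IsZero.iff_id_eq_zero E).2 h1)
    have hK1 : rK = 1 := by omega
    have hI1 : rI = 1 := by omega
    rw [hK1] at hKr
    rw [hI1] at hIr
    let S : ShortComplex X.Modules :=
      ShortComplex.mk (kernel.ι α) (cokernel.π (kernel.ι α)) (cokernel.condition _)
    have hS : S.ShortExact :=
      ShortComplex.ShortExact.mk' (ShortComplex.exact_cokernel (kernel.ι α))
        (inferInstanceAs (Mono (kernel.ι α))) (inferInstanceAs (Epi (cokernel.π (kernel.ι α))))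
    haveI : Mono (Abelian.factorThruCoimage α) := inferInstance
    haveI := mono_map_of_isFinLocFree (Abelian.factorThruCoimage α) K hK
    have hu : Abelian.factorThruCoimage α ≫ Tensor.map S.g (𝟙 K) = 0 := by
      have e1 : Tensor.map α (𝟙 K) = Tensor.map (Abelian.coimage.π α) (𝟙 K) ≫
          Tensor.map (Abelian.factorThruCoimage α) (𝟙 K) := by
        rw [← Tensor.map_comp, Category.comp_id, hfac]
      have e2 : Abelian.coimage.π α ≫ (Abelian.factorThruCoimage α ≫
          Tensor.map (Abelian.coimage.π α) (𝟙 K)) ≫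
          Tensor.map (Abelian.factorThruCoimage α) (𝟙 K) = 0 := by
        rw [Category.assoc, ← e1, ← Category.assoc, hfac, hα2]
      have e3 := (cancel_epi (Abelian.coimage.π α)).1 (e2.trans comp_zero.symm)
      exact (cancel_mono (Tensor.map (Abelian.factorThruCoimage α) (𝟙 K))).1
        (e3.trans zero_comp.symm)
    obtain ⟨β, hβ⟩ := exists_lift_tensor' S hS K hK (Abelian.factorThruCoimage α) hu
    refine ⟨kernel α, kernel.ι α, Groth.Agent.Helper26.NefExt.isInvertible_of_rank_one _ hKr,
      inferInstance, Groth.Agent.Helper26.NefExt.isInvertible_of_rank_one _ hIr, β, ?_⟩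
    intro hβ0
    apply hα0
    rw [← hfac, ← hβ, hβ0, zero_comp, comp_zero]
  · rintro ⟨L, j, hL, hj, hQ, β, hβ⟩ hvs
    haveI := hj
    haveI := mono_map_of_isFinLocFree j K hK
    apply hβ
    have hα := hvs ((cokernel.π j ≫ β) ≫ Tensor.map j (𝟙 K)) (by
      rw [sq_eq, ← Category.assoc j, cokernel.condition, zero_comp, map_zero_left, zero_comp,
        comp_zero])
    have h1 : cokernel.π j ≫ β = 0 := by
      rw [← cancel_mono (Tensor.map j (𝟙 K)), hα, zero_comp]
    rw [← cancel_epi (cokernel.π j), h1, comp_zero]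

end Groth.Agent.Helper20.VeryStable
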