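import Mathlib
import Groth.Prelude.Def_W4c1liftfrobW2

open WittVector

namespace Groth.Agent.Helper20.W2

universe u
variable (p : ℕ) [Fact p.Prime] (R : Type u) [CommRing R]

/-- first ghost component on `W₂(R)` -/
noncomputable def gh1 : FrobAlg.W2 p R →+* R :=
  RingHom.liftOfSurjective (WittVector.truncate 2) (WittVector.truncate_surjective p 2 R)
    ⟨WittVector.ghostComponent 1, fun x hx => by
      rw [RingHom.mem_ker] at hx ⊢
      have h := (WittVector.mem_ker_truncate 2 x).1 (RingHom.mem_ker.2 hx)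
      rw [WittVector.ghostComponent_apply, wittPolynomial_one]
      simp only [map_add, map_mul, map_pow, MvPolynomial.aeval_X, MvPolynomial.aeval_C]
      rw [h 0 (by omega), h 1 (by omega)]
      have hp : p ≠ 0 := (Fact.out : p.Prime).ne_zero
      simp [hp]⟩

theorem gh1_truncate (X : WittVector p R) :
    gh1 p R (WittVector.truncate 2 X) = X.coeff 0 ^ p + (p : R) * X.coeff 1 := by
  have : gh1 p R (WittVector.truncate 2 X) = WittVector.ghostComponent 1 X :=
    RingHom.liftOfRightInverse_comp_apply _ _ _ _ X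
  rw [this, WittVector.ghostComponent_apply, wittPolynomial_one]
  simp only [map_add, map_mul, map_pow, MvPolynomial.aeval_X, MvPolynomial.aeval_C]
  simp [add_comm]

theorem gh1_apply (x : FrobAlg.W2 p R) :
    gh1 p R x = x.coeff 0 ^ p + (p : R) * x.coeff 1 := by
  obtain ⟨X, rfl⟩ := WittVector.truncate_surjective p 2 R x
  rw [gh1_truncate, WittVector.coeff_truncate, WittVector.coeff_truncate]
  rfl

variable {p R}

theorem ext2 {x y : FrobAlg.W2 p R} (h0 : x.coeff 0 = y.coeff 0) (h1 : x.coeff 1 = y.coeff 1) :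
    x = y := by
  apply TruncatedWittVector.ext
  intro i
  fin_cases i
  · exact h0
  · exact h1

variable (p) in
/-- the Witt vector `(a, b)` of length two -/
def mk2 (a b : R) : FrobAlg.W2 p R := TruncatedWittVector.mk p ![a, b]

@[simp] theorem mk2_coeff_zero (a b : R) : (mk2 p a b).coeff 0 = a := by
  unfold mk2; rw [TruncatedWittVector.coeff_mk]; rfl

@[simp] theorem mk2_coeff_one (a b : R) : (mk2 p a b).coeff 1 = b := by
  unfold mk2; rw [TruncatedWittVector.coeff_mk]; rfl

theorem coeff_zero_add (x y : FrobAlg.W2 p R) : (x + y).coeff 0 = x.coeff 0 + y.coeff 0 := by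
  have := map_add (FrobAlg.res p R) x y
  simpa only [FrobAlg.res_apply] using this

theorem coeff_zero_mul (x y : FrobAlg.W2 p R) : (x * y).coeff 0 = x.coeff 0 * y.coeff 0 := by
  have := map_mul (FrobAlg.res p R) x y
  simpa only [FrobAlg.res_apply] using this

theorem coeff_zero_sub (x y : FrobAlg.W2 p R) : (x - y).coeff 0 = x.coeff 0 - y.coeff 0 := by
  have := map_sub (FrobAlg.res p R) x y
  simpa only [FrobAlg.res_apply] using this

theorem coeff_zero_one : (1 : FrobAlg.W2 p R).coeff 0 = 1 := by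
  have := map_one (FrobAlg.res p R)
  simpa only [FrobAlg.res_apply] using this

theorem coeff_zero_natCast (n : ℕ) : (n : FrobAlg.W2 p R).coeff 0 = (n : R) := by
  have := map_natCast (FrobAlg.res p R) n
  simpa only [FrobAlg.res_apply] using this

/-- lift with a Verschiebung form -/
theorem exists_verschiebung {x : FrobAlg.W2 p R} (hx : x.coeff 0 = 0) :
    ∃ X : WittVector p R, x = WittVector.truncate 2 (verschiebung X) ∧ X.coeff 0 = x.coeff 1 := by
  obtain ⟨X, rfl⟩ := WittVector.truncate_surjective p 2 R x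
  rw [WittVector.coeff_truncate] at hx
  refine ⟨X.shift 1, ?_, ?_⟩
  · apply ext2
    · rw [WittVector.coeff_truncate, WittVector.coeff_truncate]
      show X.coeff 0 = (verschiebung (X.shift 1)).coeff 0
      rw [verschiebung_coeff_zero]
      exact hx
    · rw [WittVector.coeff_truncate, WittVector.coeff_truncate]
      show X.coeff 1 = (verschiebung (X.shift 1)).coeff 1
      rw [verschiebung_coeff_succ, shift_coeff]
  · rw [shift_coeff, WittVector.coeff_truncate]
    rfl

theorem coeff_one_add_of_coeff_zero {x y : FrobAlg.W2 p R} (hx : x.coeff 0 = 0)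
    (hy : y.coeff 0 = 0) : (x + y).coeff 1 = x.coeff 1 + y.coeff 1 := by
  obtain ⟨X, rfl, hX⟩ := exists_verschiebung hx
  obtain ⟨Y, rfl, hY⟩ := exists_verschiebung hy
  rw [← map_add, ← map_add, ← hX, ← hY, WittVector.coeff_truncate]
  show (verschiebung (X + Y)).coeff 1 = _
  rw [verschiebung_coeff_succ, WittVector.add_coeff_zero]

theorem coeff_one_sub_of_coeff_zero {x y : FrobAlg.W2 p R} (hx : x.coeff 0 = 0)
    (hy : y.coeff 0 = 0) : (x - y).coeff 1 = x.coeff 1 - y.coeff 1 := by
  have h1 : (x - y).coeff 0 = 0 := by rw [coeff_zero_sub, hx, hy, sub_zero]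
  have h2 := coeff_one_add_of_coeff_zero h1 hy
  rw [sub_add_cancel] at h2
  rw [h2, add_sub_cancel_right]

theorem coeff_one_mul_of_coeff_zero [CharP R p] (a : FrobAlg.W2 p R) {x : FrobAlg.W2 p R}
    (hx : x.coeff 0 = 0) : (a * x).coeff 1 = a.coeff 0 ^ p * x.coeff 1 := by
  obtain ⟨X, rfl, hX⟩ := exists_verschiebung hx
  obtain ⟨Y, rfl⟩ := WittVector.truncate_surjective p 2 R a
  rw [← map_mul, mul_comm, ← verschiebung_mul_frobenius, ← hX, WittVector.coeff_truncate,
    WittVector.coeff_truncate]
  show (verschiebung (X * frobenius Y)).coeff 1 = Y.coeff 0 ^ p * _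
  rw [verschiebung_coeff_succ, WittVector.mul_coeff_zero, coeff_frobenius_charP, mul_comm]

theorem coeff_one_natCast_p [CharP R p] : ((p : ℕ) : FrobAlg.W2 p R).coeff 1 = 1 := by
  rw [← map_natCast (WittVector.truncate (p := p) (R := R) 2), WittVector.coeff_truncate]
  exact WittVector.coeff_p_one p R

theorem coeff_zero_natCast_p [CharP R p] : ((p : ℕ) : FrobAlg.W2 p R).coeff 0 = 0 := by
  rw [coeff_zero_natCast]
  exact CharP.cast_eq_zero R p

theorem coeff_zero_p_mul [CharP R p] (x : FrobAlg.W2 p R) :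
    (((p : ℕ) : FrobAlg.W2 p R) * x).coeff 0 = 0 := by
  rw [coeff_zero_mul, coeff_zero_natCast_p, zero_mul]

theorem coeff_one_p_mul [CharP R p] (x : FrobAlg.W2 p R) :
    (((p : ℕ) : FrobAlg.W2 p R) * x).coeff 1 = x.coeff 0 ^ p := by
  rw [mul_comm, coeff_one_mul_of_coeff_zero _ coeff_zero_natCast_p, coeff_one_natCast_p, mul_one]

theorem p_mul_p [CharP R p] : ((p : ℕ) : FrobAlg.W2 p R) * ((p : ℕ) : FrobAlg.W2 p R) = 0 := by
  apply ext2
  · rw [coeff_zero_p_mul, TruncatedWittVector.coeff_zero]
  · rw [coeff_one_p_mul, coeff_zero_natCast_p, TruncatedWittVector.coeff_zero,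
      zero_pow (Fact.out : p.Prime).ne_zero]

end Groth.Agent.Helper20.W2
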