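import Mathlib

open TensorProduct

namespace Groth.Agent.Helper20.W2

theorem flat_of_torsion {R : Type*} [CommRing R] (ϖ : R) (hϖ : ϖ * ϖ = 0)
    (hI : ∀ I : Ideal R, I = ⊥ ∨ I = ⊤ ∨ I = Ideal.span {ϖ})
    (M : Type*) [AddCommGroup M] [Module R M]
    (hM : ∀ m : M, ϖ • m = 0 → ∃ m', m = ϖ • m') : Module.Flat R M := by
  rw [Module.Flat.iff_rTensor_injective']
  intro I
  rcases hI I with rfl | rfl | rfl
  · intro x y _
    haveI : Subsingleton ((⊥ : Ideal R) ⊗[R] M) := inferInstance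
    exact Subsingleton.elim x y
  · have h1 : (LinearMap.rTensor M (⊤ : Ideal R).subtype : _ → _) =
        (LinearEquiv.rTensor M (Submodule.topEquiv : (⊤ : Ideal R) ≃ₗ[R] R)) := by
      ext x; rfl
    rw [h1]
    exact LinearEquiv.injective _
  · rw [injective_iff_map_eq_zero]
    have hmem : ϖ ∈ Ideal.span {ϖ} := Ideal.mem_span_singleton_self ϖ
    have key : ∀ x : (Ideal.span {ϖ} : Ideal R) ⊗[R] M, ∃ m : M,
        x = (⟨ϖ, hmem⟩ : (Ideal.span {ϖ} : Ideal R)) ⊗ₜ[R] m := by
      intro x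
      induction x using TensorProduct.induction_on with
      | zero => exact ⟨0, (TensorProduct.tmul_zero _ _).symm⟩
      | tmul i m =>
        obtain ⟨i, hi⟩ := i
        obtain ⟨r, rfl⟩ := Ideal.mem_span_singleton'.1 hi
        refine ⟨r • m, ?_⟩
        rw [← TensorProduct.smul_tmul]
        congr 1
      | add x y hx hy =>
        obtain ⟨m, rfl⟩ := hx
        obtain ⟨m', rfl⟩ := hy
        exact ⟨m + m', (TensorProduct.tmul_add _ _ _).symm⟩
    intro x hx
    obtain ⟨m, rfl⟩ := key x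
    rw [LinearMap.rTensor_tmul, Submodule.subtype_apply] at hx
    have h2 : ϖ • m = 0 := by
      have := congrArg (TensorProduct.lid R M) hx
      rwa [TensorProduct.lid_tmul, map_zero] at this
    obtain ⟨m', rfl⟩ := hM m h2
    rw [← TensorProduct.smul_tmul]
    have h3 : ϖ • (⟨ϖ, hmem⟩ : (Ideal.span {ϖ} : Ideal R)) = 0 := by
      ext
      show ϖ * ϖ = 0
      exact hϖ
    rw [h3, TensorProduct.zero_tmul]

end Groth.Agent.Helper20.W2
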