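import Mathlib
import Groth.Agent.Lib.Helper20.W2

open WittVector

namespace Groth.Agent.Helper20.W2

universe u
variable {p : ℕ} [Fact p.Prime] {k : Type u} [Field k] [CharP k p]

theorem isUnit_of_coeff_zero_ne_zero {x : FrobAlg.W2 p k} (hx : x.coeff 0 ≠ 0) : IsUnit x := by
  obtain ⟨X, rfl⟩ := WittVector.truncate_surjective p 2 k x
  rw [WittVector.coeff_truncate] at hx
  exact (WittVector.isUnit_of_coeff_zero_ne_zero X hx).map (WittVector.truncate 2)

variable [PerfectRing k p]

theorem eq_p_mul_of_coeff_zero {x : FrobAlg.W2 p k} (hx : x.coeff 0 = 0) :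
    x = ((p : ℕ) : FrobAlg.W2 p k) * mk2 p ((frobeniusEquiv k p).symm (x.coeff 1)) 0 := by
  apply ext2
  · rw [coeff_zero_p_mul, hx]
  · rw [coeff_one_p_mul, mk2_coeff_zero, ← frobeniusEquiv_def, RingEquiv.apply_symm_apply]

theorem ker_res : RingHom.ker (FrobAlg.res p k) = Ideal.span {((p : ℕ) : FrobAlg.W2 p k)} := by
  apply le_antisymm
  · intro x hx
    rw [RingHom.mem_ker, FrobAlg.res_apply] at hx
    rw [Ideal.mem_span_singleton']
    exact ⟨_, by rw [mul_comm]; exact (eq_p_mul_of_coeff_zero hx).symm⟩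
  · rw [Ideal.span_le, Set.singleton_subset_iff, SetLike.mem_coe, RingHom.mem_ker, map_natCast]
    exact CharP.cast_eq_zero k p

theorem ideal_cases (I : Ideal (FrobAlg.W2 p k)) :
    I = ⊥ ∨ I = ⊤ ∨ I = Ideal.span {((p : ℕ) : FrobAlg.W2 p k)} := by
  by_cases h : ∃ x ∈ I, (x : FrobAlg.W2 p k).coeff 0 ≠ 0
  · obtain ⟨x, hxI, hx⟩ := h
    right; left
    exact Ideal.eq_top_of_isUnit_mem _ hxI (isUnit_of_coeff_zero_ne_zero hx)
  · push_neg at h
    by_cases h0 : I = ⊥
    · left; exact h0
    · right; right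
      apply le_antisymm
      · intro x hx
        rw [← ker_res, RingHom.mem_ker, FrobAlg.res_apply]
        exact h x hx
      · obtain ⟨x, hxI, hx0⟩ := Submodule.exists_mem_ne_zero_of_ne_bot h0
        have h1 := eq_p_mul_of_coeff_zero (h x hxI)
        have h2 : x.coeff 1 ≠ 0 := by
          intro h2
          apply hx0
          apply ext2
          · rw [h x hxI, TruncatedWittVector.coeff_zero]
          · rw [h2, TruncatedWittVector.coeff_zero]
        have h3 : IsUnit (mk2 p ((frobeniusEquiv k p).symm (x.coeff 1)) 0) := by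
          apply isUnit_of_coeff_zero_ne_zero
          rw [mk2_coeff_zero]
          intro h4
          apply h2
          have := congrArg (frobeniusEquiv k p) h4
          rwa [RingEquiv.apply_symm_apply, map_zero] at this
        obtain ⟨u, hu⟩ := h3
        rw [Ideal.span_le, Set.singleton_subset_iff, SetLike.mem_coe]
        have h5 : ((p : ℕ) : FrobAlg.W2 p k) = x * (↑u⁻¹ : FrobAlg.W2 p k) := by
          rw [h1, ← hu, mul_assoc, Units.mul_inv, mul_one]
        rw [h5]
        exact Ideal.mul_mem_right _ _ hxI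

theorem mem_span_p_of_p_mul_eq_zero {a : FrobAlg.W2 p k}
    (ha : ((p : ℕ) : FrobAlg.W2 p k) * a = 0) : a ∈ Ideal.span {((p : ℕ) : FrobAlg.W2 p k)} := by
  rw [← ker_res, RingHom.mem_ker, FrobAlg.res_apply]
  have h1 := coeff_one_p_mul (p := p) a
  rw [ha, TruncatedWittVector.coeff_zero] at h1
  exact (pow_eq_zero_iff (Fact.out : p.Prime).ne_zero).1 h1.symm

end Groth.Agent.Helper20.W2
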