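import Mathlib
import Groth.Agent.Lib.Helper20.W2
import Groth.Agent.Lib.Helper20.W2k

open WittVector

namespace Groth.Agent.Helper20.W2

universe u v
variable {p : ℕ} [Fact p.Prime] {R : Type u} [CommRing R]

theorem mk2_eq_teich (a : R) : mk2 p a 0 = WittVector.truncate 2 (teichmuller p a) := by
  apply ext2
  · rw [mk2_coeff_zero, WittVector.coeff_truncate]; rfl
  · rw [mk2_coeff_one, WittVector.coeff_truncate]; rfl

theorem mk2_mul (a b : R) : mk2 p (a * b) 0 = mk2 p a 0 * mk2 p b 0 := by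
  rw [mk2_eq_teich, mk2_eq_teich, mk2_eq_teich, map_mul, map_mul]

theorem mk2_one : mk2 p (1 : R) 0 = 1 := by
  rw [mk2_eq_teich, map_one, map_one]

theorem mk2_pow (a : R) (n : ℕ) : mk2 p (a ^ n) 0 = mk2 p a 0 ^ n := by
  rw [mk2_eq_teich, mk2_eq_teich, map_pow, map_pow]

theorem coeff_one_teich_add (a : R) {v : FrobAlg.W2 p R} (hv : v.coeff 0 = 0) :
    (mk2 p a 0 + v).coeff 1 = v.coeff 1 := by
  obtain ⟨X, rfl, hX⟩ := exists_verschiebung hv
  rw [mk2_eq_teich, ← map_add, ← hX, WittVector.coeff_truncate]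
  show (teichmuller p a + verschiebung X).coeff 1 = _
  rw [WittVector.coeff_add_of_disjoint]
  · rw [teichmuller_coeff_pos p a 1 one_pos, zero_add, verschiebung_coeff_succ]
  · intro n
    rcases Nat.eq_zero_or_pos n with rfl | hn
    · right; exact verschiebung_coeff_zero X
    · left; exact teichmuller_coeff_pos p a n hn

/-- Teichmüller decomposition in `W₂` -/
theorem eq_teich_add {y v : FrobAlg.W2 p R} (hv : v.coeff 0 = 0) (hv1 : v.coeff 1 = y.coeff 1) :
    y = mk2 p (y.coeff 0) 0 + v := by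
  apply ext2
  · rw [coeff_zero_add, mk2_coeff_zero, hv, add_zero]
  · rw [coeff_one_teich_add _ hv, hv1]

theorem truncMap_mk2 {R' : Type v} [CommRing R'] (f : R →+* R') (a b : R) :
    WittGrp.truncMap p 2 f (mk2 p a b) = mk2 p (f a) (f b) := by
  apply ext2
  · rw [WittGrp.coeff_truncMap, mk2_coeff_zero, mk2_coeff_zero]
  · rw [WittGrp.coeff_truncMap, mk2_coeff_one, mk2_coeff_one]

section field
variable {k : Type u} [Field k] [CharP k p] [PerfectRing k p]

theorem eq_teich_add_p_mul (y : FrobAlg.W2 p k) :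
    y = mk2 p (y.coeff 0) 0 +
      ((p : ℕ) : FrobAlg.W2 p k) * mk2 p ((frobeniusEquiv k p).symm (y.coeff 1)) 0 := by
  apply eq_teich_add
  · exact coeff_zero_p_mul _
  · rw [coeff_one_p_mul, mk2_coeff_zero, ← frobeniusEquiv_def, RingEquiv.apply_symm_apply]

theorem ringHom_ext_teich {S : Type v} [Semiring S] (f g : FrobAlg.W2 p k →+* S)
    (h : ∀ c : k, f (mk2 p c 0) = g (mk2 p c 0)) : f = g := by
  ext y
  rw [eq_teich_add_p_mul y, map_add, map_add, map_mul, map_mul, map_natCast, map_natCast, h, h]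

theorem sigma_mk2 (c : k) : FrobAlg.sigma p k (mk2 p c 0) = mk2 p c 0 ^ p := by
  rw [← mk2_pow]
  apply ext2
  · rw [WittGrp.coeff_frob, mk2_coeff_zero, mk2_coeff_zero]
  · rw [WittGrp.coeff_frob, mk2_coeff_one, mk2_coeff_one, zero_pow (Fact.out : p.Prime).ne_zero]

end field

section ghost
variable {B : Type u} {A : Type v} [CommRing B] [CommRing A] (f : B →+* A)

theorem truncMap_eq_of_gh1 (hf : ∀ b : B, (p : B) * b = 0 → f b = 0) {Z Z' : FrobAlg.W2 p B}
    (h0 : Z.coeff 0 = Z'.coeff 0) (h1 : gh1 p B Z = gh1 p B Z') :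
    WittGrp.truncMap p 2 f Z = WittGrp.truncMap p 2 f Z' := by
  apply ext2
  · rw [WittGrp.coeff_truncMap, WittGrp.coeff_truncMap, h0]
  · rw [WittGrp.coeff_truncMap, WittGrp.coeff_truncMap]
    rw [gh1_apply, gh1_apply, h0] at h1
    have h2 : (p : B) * (Z.coeff 1 - Z'.coeff 1) = 0 := by
      rw [mul_sub, sub_eq_zero]
      exact add_left_cancel h1
    have h3 := hf _ h2
    rwa [map_sub, sub_eq_zero] at h3

theorem gh1_eq_of_truncMap (hf : ∀ b : B, f b = 0 → (p : B) * b = 0) {Z Z' : FrobAlg.W2 p B}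
    (h0 : Z.coeff 0 = Z'.coeff 0)
    (h1 : WittGrp.truncMap p 2 f Z = WittGrp.truncMap p 2 f Z') :
    gh1 p B Z = gh1 p B Z' := by
  rw [gh1_apply, gh1_apply, h0]
  congr 1
  have h2 := congrArg (fun z => TruncatedWittVector.coeff 1 z) h1
  simp only [WittGrp.coeff_truncMap] at h2
  have h3 : f (Z.coeff 1 - Z'.coeff 1) = 0 := by rw [map_sub, h2, sub_self]
  have h4 := hf _ h3
  rwa [mul_sub, sub_eq_zero] at h4

end ghost

end Groth.Agent.Helper20.W2
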