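import Mathlib
import Groth.Agent.Lib.Helper20.W2teich

open WittVector

namespace Groth.Agent.Helper20.W2

universe u
variable {p : ℕ} [Fact p.Prime] {k : Type u} [Field k] [CharP k p] [PerfectRing k p]
  {A B : Type u} [CommRing A] [Algebra k A] [CommRing B] {ι : FrobAlg.W2 p k →+* B} {π : B →+* A}

theorem ker_pi (hB : FrobAlg.IsLift p k A B ι π) :
    RingHom.ker π = Ideal.span {((p : ℕ) : B)} := by
  rw [hB.ker_eq, ker_res, Ideal.map_span, Set.image_singleton, map_natCast]

omit [PerfectRing k p] in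
theorem p_mul_p_B (ι : FrobAlg.W2 p k →+* B) : ((p : ℕ) : B) * ((p : ℕ) : B) = 0 := by
  rw [← map_natCast ι, ← map_mul, p_mul_p, map_zero]

theorem p_mul_eq_zero_of_pi (hB : FrobAlg.IsLift p k A B ι π) (b : B) (h : π b = 0) :
    ((p : ℕ) : B) * b = 0 := by
  rw [← RingHom.mem_ker, ker_pi hB, Ideal.mem_span_singleton'] at h
  obtain ⟨c, rfl⟩ := h
  rw [mul_comm c, ← mul_assoc, p_mul_p_B ι, zero_mul]

theorem pi_eq_zero_of_p_mul (hB : FrobAlg.IsLift p k A B ι π) (b : B)
    (h : ((p : ℕ) : B) * b = 0) : π b = 0 := by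
  rw [← RingHom.mem_ker, ker_pi hB]
  have hflat := hB.flat
  rw [RingHom.Flat] at hflat
  letI : Module (FrobAlg.W2 p k) B := ι.toAlgebra.toModule
  have hsm : ∀ (r : FrobAlg.W2 p k) (x : B), r • x = ι r * x := fun _ _ => rfl
  have h1 : ∑ i : Unit, (fun _ : Unit => ((p : ℕ) : FrobAlg.W2 p k)) i • (fun _ : Unit => b) i = 0 := by
    rw [Finset.univ_unique, Finset.sum_singleton, hsm, map_natCast]
    exact h
  obtain ⟨n, a, y, hy, ha⟩ := Module.Flat.isTrivialRelation_of_sum_smul_eq_zero h1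
  have h2 := hy ()
  simp only at h2
  rw [h2]
  apply Ideal.sum_mem
  intro j _
  have h3 := ha j
  rw [Finset.univ_unique, Finset.sum_singleton] at h3
  have h4 := mem_span_p_of_p_mul_eq_zero h3
  rw [Ideal.mem_span_singleton'] at h4
  obtain ⟨r, hr⟩ := h4
  rw [hsm, ← hr, map_mul, map_natCast, mul_assoc,
    mul_comm]
  rw [mul_assoc]
  exact Ideal.mul_mem_right _ _ (Ideal.mem_span_singleton_self _)

theorem p_eq_zero_A (p : ℕ) (k : Type u) [Field k] [CharP k p] (A : Type u) [CommRing A]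
    [Algebra k A] : ((p : ℕ) : A) = 0 := by
  rw [← map_natCast (algebraMap k A), CharP.cast_eq_zero k p, map_zero]

end Groth.Agent.Helper20.W2
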