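import Mathlib
import Groth.Agent.Lib.Helper20.W2lift

open MvPolynomial

namespace Groth.Agent.Helper20.W2P

universe u v
variable {p : ℕ} [hp : Fact p.Prime] {k : Type u} [Field k] [CharP k p] {σ : Type v}

open Groth.Agent.Helper20.W2

local notation "W" => FrobAlg.W2 p k

omit [CharP k p] in
theorem natCast_eq_C : ((p : ℕ) : MvPolynomial σ W) = C ((p : ℕ) : W) := by
  rw [map_natCast]

theorem pp_zero : ((p : ℕ) : MvPolynomial σ W) * ((p : ℕ) : MvPolynomial σ W) = 0 := by
  rw [natCast_eq_C, ← C_mul, p_mul_p, C_0]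

/-- `p (a+b)^p = p (a^p + b^p)` -/
theorem p_mul_add_pow (a b : MvPolynomial σ W) :
    ((p : ℕ) : MvPolynomial σ W) * (a + b) ^ p = ((p : ℕ) : MvPolynomial σ W) * (a ^ p + b ^ p) := by
  obtain ⟨r, hr⟩ := exists_add_pow_prime_eq hp.out a b
  rw [hr]
  have := pp_zero (p := p) (k := k) (σ := σ)
  calc ((p : ℕ) : MvPolynomial σ W) * (a ^ p + b ^ p + ↑p * a * b * r)
      = ((p : ℕ) : MvPolynomial σ W) * (a ^ p + b ^ p) +
        (((p : ℕ) : MvPolynomial σ W) * ((p : ℕ) : MvPolynomial σ W)) * (a * b * r) := by ring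
    _ = _ := by rw [this, zero_mul, add_zero]

theorem p_mul_sigma (a : W) : ((p : ℕ) : W) * FrobAlg.sigma p k a = ((p : ℕ) : W) * a ^ p := by
  apply ext2
  · rw [coeff_zero_p_mul, coeff_zero_p_mul]
  · rw [coeff_one_p_mul, coeff_one_p_mul, WittGrp.coeff_frob]
    congr 1
    have := map_pow (FrobAlg.res p k) a p
    simpa only [FrobAlg.res_apply] using this.symm

/-- `p F'(f) = p f^p` -/
theorem p_mul_polyFrob (f : MvPolynomial σ W) :
    ((p : ℕ) : MvPolynomial σ W) * FrobAlg.polyFrob p k σ f = ((p : ℕ) : MvPolynomial σ W) * f ^ p := by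
  induction f using MvPolynomial.induction_on with
  | C a =>
    unfold FrobAlg.polyFrob
    rw [coe_eval₂Hom, eval₂_C, RingHom.comp_apply, natCast_eq_C, ← C_mul, p_mul_sigma, C_mul, C_pow]
  | add f g hf hg =>
    rw [map_add, mul_add, hf, hg, p_mul_add_pow, mul_add]
  | mul_X f i hf =>
    rw [map_mul, ← mul_assoc, hf, mul_pow, mul_assoc]
    congr 2
    unfold FrobAlg.polyFrob
    rw [coe_eval₂Hom, eval₂_X]

end Groth.Agent.Helper20.W2P
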