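import Mathlib
import Groth.Agent.Lib.Helper20.W2poly

open MvPolynomial

namespace Groth.Agent.Helper20.W2P

universe u
variable {p : ℕ} [hp : Fact p.Prime] {k : Type u} [Field k] [CharP k p] {n : ℕ}

open Groth.Agent.Helper20.W2

local notation "W" => FrobAlg.W2 p k

/-- the perturbed Frobenius lift `x_j ↦ x_j^p + p g_j` -/
noncomputable def Psi (g : Fin n → MvPolynomial (Fin n) W) :
    MvPolynomial (Fin n) W →+* MvPolynomial (Fin n) W :=
  eval₂Hom (C.comp (FrobAlg.sigma p k)) (fun j => X j ^ p + ((p : ℕ) : MvPolynomial (Fin n) W) * g j)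

theorem Psi_C (g : Fin n → MvPolynomial (Fin n) W) (a : W) :
    Psi g (C a) = C (FrobAlg.sigma p k a) := by
  unfold Psi
  rw [coe_eval₂Hom, eval₂_C, RingHom.comp_apply]

theorem Psi_X (g : Fin n → MvPolynomial (Fin n) W) (j : Fin n) :
    Psi g (X j) = X j ^ p + ((p : ℕ) : MvPolynomial (Fin n) W) * g j := by
  unfold Psi
  rw [coe_eval₂Hom, eval₂_X]

theorem polyFrob_C (a : W) : FrobAlg.polyFrob p k (Fin n) (C a) = C (FrobAlg.sigma p k a) := by
  unfold FrobAlg.polyFrob
  rw [coe_eval₂Hom, eval₂_C, RingHom.comp_apply]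

theorem polyFrob_X (j : Fin n) : FrobAlg.polyFrob p k (Fin n) (X j) = X j ^ p := by
  unfold FrobAlg.polyFrob
  rw [coe_eval₂Hom, eval₂_X]

/-- the twisted differential -/
noncomputable def Dg (g : Fin n → MvPolynomial (Fin n) W) (f : MvPolynomial (Fin n) W) :
    MvPolynomial (Fin n) W := ∑ j, pderiv j f ^ p * g j

theorem p_mul_Dg_add (g : Fin n → MvPolynomial (Fin n) W) (f f' : MvPolynomial (Fin n) W) :
    ((p : ℕ) : MvPolynomial (Fin n) W) * Dg g (f + f') =
      ((p : ℕ) : MvPolynomial (Fin n) W) * Dg g f + ((p : ℕ) : MvPolynomial (Fin n) W) * Dg g f' := by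
  unfold Dg
  rw [Finset.mul_sum, Finset.mul_sum, Finset.mul_sum, ← Finset.sum_add_distrib]
  apply Finset.sum_congr rfl
  intro j _
  rw [map_add, ← mul_assoc, p_mul_add_pow, mul_add, add_mul, mul_assoc, mul_assoc]

theorem p_mul_Dg_mul_X (g : Fin n → MvPolynomial (Fin n) W) (f : MvPolynomial (Fin n) W)
    (i : Fin n) :
    ((p : ℕ) : MvPolynomial (Fin n) W) * Dg g (f * X i) =
      ((p : ℕ) : MvPolynomial (Fin n) W) * (Dg g f * X i ^ p + f ^ p * g i) := by
  have hp0 : p ≠ 0 := hp.out.ne_zero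
  unfold Dg
  have h1 : ∀ j : Fin n, ((p : ℕ) : MvPolynomial (Fin n) W) * (pderiv j (f * X i) ^ p * g j) =
      ((p : ℕ) : MvPolynomial (Fin n) W) * (pderiv j f ^ p * g j * X i ^ p +
        (if j = i then f ^ p * g i else 0)) := by
    intro j
    rw [pderiv_mul, pderiv_X, ← mul_assoc, p_mul_add_pow, mul_pow, mul_pow]
    by_cases hji : j = i
    · subst hji
      rw [Pi.single_eq_same, one_pow, mul_one, if_pos rfl]
      ring
    · rw [Pi.single_eq_of_ne (Ne.symm hji), zero_pow hp0, mul_zero, add_zero, if_neg hji, add_zero]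
      ring
  rw [Finset.mul_sum, Finset.sum_congr rfl (fun j _ => h1 j), ← Finset.mul_sum,
    Finset.sum_add_distrib, Finset.sum_ite_eq' Finset.univ i, if_pos (Finset.mem_univ i),
    Finset.sum_mul]

/-- Taylor expansion modulo `p²` -/
theorem Psi_eq (g : Fin n → MvPolynomial (Fin n) W) (f : MvPolynomial (Fin n) W) :
    Psi g f = FrobAlg.polyFrob p k (Fin n) f + ((p : ℕ) : MvPolynomial (Fin n) W) * Dg g f := by
  have hp0 : p ≠ 0 := hp.out.ne_zero
  induction f using MvPolynomial.induction_on with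
  | C a =>
    rw [Psi_C, polyFrob_C]
    unfold Dg
    simp [pderiv_C, zero_pow hp0]
  | add f f' hf hf' =>
    rw [map_add, map_add, hf, hf', p_mul_Dg_add]
    ring
  | mul_X f i hf =>
    rw [map_mul, map_mul, hf, Psi_X, polyFrob_X, p_mul_Dg_mul_X]
    have h1 := p_mul_polyFrob (p := p) (k := k) f
    have h2 := pp_zero (p := p) (k := k) (σ := Fin n)
    calc (FrobAlg.polyFrob p k (Fin n) f + ↑p * Dg g f) * (X i ^ p + ↑p * g i)
        = FrobAlg.polyFrob p k (Fin n) f * X i ^ p + ↑p * (Dg g f * X i ^ p)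
          + (↑p * FrobAlg.polyFrob p k (Fin n) f) * g i
          + (((p : ℕ) : MvPolynomial (Fin n) W) * ((p : ℕ) : MvPolynomial (Fin n) W)) * (Dg g f * g i) := by ring
      _ = _ := by rw [h1, h2]; ring

end Groth.Agent.Helper20.W2P
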