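import Mathlib
import Groth.Agent.Lib.Helper20.W2poly2

open MvPolynomial

namespace Groth.Agent.Helper20.W2P

universe u
variable {p : ℕ} [hp : Fact p.Prime] {k : Type u} [Field k] [CharP k p] {n : ℕ}

open Groth.Agent.Helper20.W2

local notation "W" => FrobAlg.W2 p k

/-- reduction of `Psi g` is the Frobenius -/
theorem map_res_Psi (g : Fin n → MvPolynomial (Fin n) W) (f : MvPolynomial (Fin n) W) :
    MvPolynomial.map (FrobAlg.res p k) (Psi g f) = MvPolynomial.map (FrobAlg.res p k) f ^ p := by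
  have h : (MvPolynomial.map (FrobAlg.res p k)).comp (Psi g) =
      (frobenius (MvPolynomial (Fin n) k) p).comp (MvPolynomial.map (FrobAlg.res p k)) := by
    apply MvPolynomial.ringHom_ext
    · intro a
      rw [RingHom.comp_apply, RingHom.comp_apply, Psi_C, map_C, map_C, frobenius_def, ← C_pow,
        FrobAlg.res_apply, FrobAlg.res_apply, WittGrp.coeff_frob]
    · intro j
      rw [RingHom.comp_apply, RingHom.comp_apply, Psi_X, map_add, map_mul, map_natCast, map_pow,
        map_X, CharP.cast_eq_zero, zero_mul, add_zero, frobenius_def]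
  have := congrArg (fun φ => φ f) h
  simpa only [RingHom.comp_apply, frobenius_def] using this

theorem map_res_polyFrob (f : MvPolynomial (Fin n) W) :
    MvPolynomial.map (FrobAlg.res p k) (FrobAlg.polyFrob p k (Fin n) f) =
      MvPolynomial.map (FrobAlg.res p k) f ^ p := by
  have h : (MvPolynomial.map (FrobAlg.res p k)).comp (FrobAlg.polyFrob p k (Fin n)) =
      (frobenius (MvPolynomial (Fin n) k) p).comp (MvPolynomial.map (FrobAlg.res p k)) := by
    apply MvPolynomial.ringHom_ext
    · intro a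
      rw [RingHom.comp_apply, RingHom.comp_apply, polyFrob_C, map_C, map_C, frobenius_def, ← C_pow,
        FrobAlg.res_apply, FrobAlg.res_apply, WittGrp.coeff_frob]
    · intro j
      rw [RingHom.comp_apply, RingHom.comp_apply, polyFrob_X, map_pow, map_X, frobenius_def]
  have := congrArg (fun φ => φ f) h
  simpa only [RingHom.comp_apply, frobenius_def] using this

variable [PerfectRing k p]

theorem ker_map_res : RingHom.ker (MvPolynomial.map (FrobAlg.res p k) :
    MvPolynomial (Fin n) W →+* MvPolynomial (Fin n) k) =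
      Ideal.span {((p : ℕ) : MvPolynomial (Fin n) W)} := by
  rw [MvPolynomial.ker_map, ker_res, Ideal.map_span, Set.image_singleton, map_natCast]

theorem exists_eq_p_mul {x : MvPolynomial (Fin n) W}
    (hx : MvPolynomial.map (FrobAlg.res p k) x = 0) :
    ∃ y, x = ((p : ℕ) : MvPolynomial (Fin n) W) * y := by
  rw [← RingHom.mem_ker, ker_map_res, Ideal.mem_span_singleton'] at hx
  obtain ⟨y, hy⟩ := hx
  exact ⟨y, by rw [mul_comm]; exact hy.symm⟩

/-- torsion in a flat algebra -/
theorem mem_span_p_of_flat {B : Type*} [CommRing B] (ι : W →+* B) (hflat : ι.Flat) (b : B)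
    (h : ((p : ℕ) : B) * b = 0) : b ∈ Ideal.span {((p : ℕ) : B)} := by
  rw [RingHom.Flat] at hflat
  letI : Module (FrobAlg.W2 p k) B := ι.toAlgebra.toModule
  have hsm : ∀ (r : FrobAlg.W2 p k) (x : B), r • x = ι r * x := fun _ _ => rfl
  have h1 : ∑ i : Unit, (fun _ : Unit => ((p : ℕ) : FrobAlg.W2 p k)) i • (fun _ : Unit => b) i = 0 := by
    rw [Finset.univ_unique, Finset.sum_singleton, hsm, map_natCast]
    exact h
  obtain ⟨m, a, y, hy, ha⟩ := Module.Flat.isTrivialRelation_of_sum_smul_eq_zero h1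
  have h2 := hy ()
  simp only at h2
  rw [h2]
  apply Ideal.sum_mem
  intro j _
  have h3 := ha j
  rw [Finset.univ_unique, Finset.sum_singleton] at h3
  have h4 := mem_span_p_of_p_mul_eq_zero h3
  rw [Ideal.mem_span_singleton'] at h4
  obtain ⟨r, hr⟩ := h4
  rw [hsm, ← hr, map_mul, map_natCast, mul_assoc, mul_comm]
  rw [mul_assoc]
  exact Ideal.mul_mem_right _ _ (Ideal.mem_span_singleton_self _)

/-- flatness gives `J' ∩ pR' = pJ'` -/
theorem mem_p_mul_of_flat (J : Ideal (MvPolynomial (Fin n) W))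
    (hflat : ((Ideal.Quotient.mk J).comp (C : W →+* MvPolynomial (Fin n) W)).Flat)
    {y : MvPolynomial (Fin n) W} (hy : ((p : ℕ) : MvPolynomial (Fin n) W) * y ∈ J) :
    ((p : ℕ) : MvPolynomial (Fin n) W) * y ∈
      Ideal.span {((p : ℕ) : MvPolynomial (Fin n) W)} * J := by
  have h1 : ((p : ℕ) : MvPolynomial (Fin n) W ⧸ J) * Ideal.Quotient.mk J y = 0 := by
    rw [← map_natCast (Ideal.Quotient.mk J), ← map_mul, Ideal.Quotient.eq_zero_iff_mem]
    exact hy
  have h2 := mem_span_p_of_flat _ hflat _ h1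
  rw [Ideal.mem_span_singleton'] at h2
  obtain ⟨c, hc⟩ := h2
  obtain ⟨c', rfl⟩ := Ideal.Quotient.mk_surjective c
  rw [← map_natCast (Ideal.Quotient.mk J), ← map_mul, Ideal.Quotient.eq] at hc
  -- y = c' p - j with j ∈ J
  have h3 : ((p : ℕ) : MvPolynomial (Fin n) W) * y =
      ((p : ℕ) : MvPolynomial (Fin n) W) * (-(c' * ((p : ℕ) : MvPolynomial (Fin n) W) - y)) := by
    have := pp_zero (p := p) (k := k) (σ := Fin n)
    calc ((p : ℕ) : MvPolynomial (Fin n) W) * y
        = ((p : ℕ) : MvPolynomial (Fin n) W) * (-(c' * ((p : ℕ) : MvPolynomial (Fin n) W) - y)) +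
          (((p : ℕ) : MvPolynomial (Fin n) W) * ((p : ℕ) : MvPolynomial (Fin n) W)) * c' := by ring
      _ = _ := by rw [this, zero_mul, add_zero]
  rw [h3]
  exact Ideal.mul_mem_mul (Ideal.mem_span_singleton_self _) (Ideal.neg_mem_iff _ |>.2 hc)

end Groth.Agent.Helper20.W2P
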