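import Mathlib
import Groth.Agent.Lib.Helper20.W2poly3

open MvPolynomial

namespace Groth.Agent.Helper20.W2P

universe u
variable {p : ℕ} [hp : Fact p.Prime] {k : Type u} [Field k] [CharP k p] [PerfectRing k p]
  {n m : ℕ}

open Groth.Agent.Helper20.W2

local notation "W" => FrobAlg.W2 p k

theorem frob_criterion (f' : Fin m → MvPolynomial (Fin n) (FrobAlg.W2 p k))
    (hflat : ((Ideal.Quotient.mk (Ideal.span (Set.range f'))).comp
      (MvPolynomial.C : FrobAlg.W2 p k →+* MvPolynomial (Fin n) (FrobAlg.W2 p k))).Flat) :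
    (∃ Φ : (MvPolynomial (Fin n) (FrobAlg.W2 p k) ⧸ Ideal.span (Set.range f')) →+*
        (MvPolynomial (Fin n) (FrobAlg.W2 p k) ⧸ Ideal.span (Set.range f')),
      Φ.comp ((Ideal.Quotient.mk (Ideal.span (Set.range f'))).comp MvPolynomial.C) =
        ((Ideal.Quotient.mk (Ideal.span (Set.range f'))).comp MvPolynomial.C).comp (FrobAlg.sigma p k) ∧
      ∀ b, Ideal.quotientMap ((Ideal.span (Set.range f')).map (MvPolynomial.map (FrobAlg.res p k)))
          (MvPolynomial.map (FrobAlg.res p k)) Ideal.le_comap_map (Φ b) =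
        (Ideal.quotientMap ((Ideal.span (Set.range f')).map (MvPolynomial.map (FrobAlg.res p k)))
          (MvPolynomial.map (FrobAlg.res p k)) Ideal.le_comap_map b) ^ p) ↔
    ∃ h : Fin n → MvPolynomial (Fin n) (FrobAlg.W2 p k), ∀ i,
      FrobAlg.polyFrob p k (Fin n) (f' i) - f' i ^ p
        - (p : MvPolynomial (Fin n) (FrobAlg.W2 p k)) * ∑ j, MvPolynomial.pderiv j (f' i) ^ p * h j
        ∈ Ideal.span {(p : MvPolynomial (Fin n) (FrobAlg.W2 p k))} * Ideal.span (Set.range f') := by
  set J : Ideal (MvPolynomial (Fin n) W) := Ideal.span (Set.range f') with hJ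
  have hfJ : ∀ i, f' i ∈ J := fun i => Ideal.subset_span ⟨i, rfl⟩
  have hρsurj : Function.Surjective (MvPolynomial.map (FrobAlg.res p k) :
      MvPolynomial (Fin n) W → MvPolynomial (Fin n) k) := by
    apply MvPolynomial.map_surjective
    intro a
    exact ⟨mk2 p a 0, by rw [FrobAlg.res_apply, mk2_coeff_zero]⟩
  -- the expression in terms of Psi
  have hE : ∀ (g : Fin n → MvPolynomial (Fin n) W) (i : Fin m),
      FrobAlg.polyFrob p k (Fin n) (f' i) - f' i ^ p
        - (p : MvPolynomial (Fin n) W) * ∑ j, MvPolynomial.pderiv j (f' i) ^ p * (-g j) =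
      Psi g (f' i) - f' i ^ p := by
    intro g i
    rw [Psi_eq]
    unfold Dg
    simp only [mul_neg, Finset.sum_neg_distrib]
    ring
  constructor
  · rintro ⟨Φ, hsemi, hred⟩
    -- values on the variables
    have hX : ∀ j : Fin n, ∃ g : MvPolynomial (Fin n) W,
        Φ (Ideal.Quotient.mk J (X j)) = Ideal.Quotient.mk J (X j ^ p + (p : MvPolynomial (Fin n) W) * g) := by
      intro j
      obtain ⟨t, ht⟩ := Ideal.Quotient.mk_surjective (Φ (Ideal.Quotient.mk J (X j)))
      have h1 := hred (Ideal.Quotient.mk J (X j))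
      rw [← ht, Ideal.quotientMap_mk, Ideal.quotientMap_mk, ← map_pow, ← map_pow,
        Ideal.Quotient.eq] at h1
      -- map res (t - X^p) ∈ J.map
      rw [← map_sub] at h1
      have h2 : ∃ y ∈ J, MvPolynomial.map (FrobAlg.res p k) y =
          MvPolynomial.map (FrobAlg.res p k) (t - X j ^ p) := by
        have := (Ideal.mem_map_iff_of_surjective _ hρsurj).1 h1
        exact this
      obtain ⟨y, hyJ, hy⟩ := h2
      have h3 : MvPolynomial.map (FrobAlg.res p k) (t - X j ^ p - y) = 0 := by
        rw [map_sub, hy, sub_self]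
      obtain ⟨g, hg⟩ := exists_eq_p_mul h3
      refine ⟨g, ?_⟩
      rw [← ht, Ideal.Quotient.eq]
      have : t - (X j ^ p + (p : MvPolynomial (Fin n) W) * g) = y := by
        rw [← hg]; ring
      rw [this]
      exact hyJ
    choose g hg using hX
    have hcomp : Φ.comp (Ideal.Quotient.mk J) = (Ideal.Quotient.mk J).comp (Psi g) := by
      apply MvPolynomial.ringHom_ext
      · intro a
        have := congrArg (fun φ => φ a) hsemi
        simp only [RingHom.comp_apply] at this
        rw [RingHom.comp_apply, RingHom.comp_apply, Psi_C, this]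
      · intro j
        rw [RingHom.comp_apply, RingHom.comp_apply, Psi_X, hg]
    have hPsiJ : ∀ i, Psi g (f' i) ∈ J := by
      intro i
      have := congrArg (fun φ => φ (f' i)) hcomp
      simp only [RingHom.comp_apply] at this
      rw [Ideal.Quotient.eq_zero_iff_mem.2 (hfJ i), map_zero] at this
      exact Ideal.Quotient.eq_zero_iff_mem.1 this.symm
    refine ⟨fun j => -g j, fun i => ?_⟩
    rw [hE g i]
    have h1 : Psi g (f' i) - f' i ^ p ∈ J :=
      Ideal.sub_mem _ (hPsiJ i) (Ideal.pow_mem_of_mem _ (hfJ i) p hp.out.pos)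
    have h2 : MvPolynomial.map (FrobAlg.res p k) (Psi g (f' i) - f' i ^ p) = 0 := by
      rw [map_sub, map_res_Psi, map_pow, sub_self]
    obtain ⟨y, hy⟩ := exists_eq_p_mul h2
    rw [hy] at h1 ⊢
    exact mem_p_mul_of_flat J hflat h1
  · rintro ⟨h, hh⟩
    have hPsiJ : ∀ i, Psi (fun j => -h j) (f' i) ∈ J := by
      intro i
      have h1 := hh i
      have h2 := hE (fun j => -h j) i
      simp only [neg_neg] at h2
      rw [h2] at h1
      have h3 : Psi (fun j => -h j) (f' i) - f' i ^ p ∈ J := Ideal.mul_le_right h1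
      have := Ideal.add_mem _ h3 (Ideal.pow_mem_of_mem _ (hfJ i) p hp.out.pos)
      rwa [sub_add_cancel] at this
    have hle : J ≤ J.comap (Psi (fun j => -h j)) := by
      rw [hJ, Ideal.span_le]
      rintro _ ⟨i, rfl⟩
      exact hPsiJ i
    refine ⟨Ideal.quotientMap J (Psi (fun j => -h j)) hle, ?_, ?_⟩
    · refine RingHom.ext fun a => ?_
      rw [RingHom.comp_apply, RingHom.comp_apply, RingHom.comp_apply, RingHom.comp_apply,
        Ideal.quotientMap_mk, Psi_C]
    · intro b
      obtain ⟨x, rfl⟩ := Ideal.Quotient.mk_surjective b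
      rw [Ideal.quotientMap_mk, Ideal.quotientMap_mk, Ideal.quotientMap_mk, map_res_Psi, map_pow]

end Groth.Agent.Helper20.W2P
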