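import Mathlib
import Groth.Agent.Lib.Helper20.W2poly4

open MvPolynomial

namespace Groth.Agent.Helper20.W2P

universe u
variable {p : ℕ} [hp : Fact p.Prime] {k : Type u} [Field k] [CharP k p] [PerfectRing k p]
  {n : ℕ}

open Groth.Agent.Helper20.W2

local notation "W" => FrobAlg.W2 p k

theorem map_res_surjective : Function.Surjective (MvPolynomial.map (FrobAlg.res p k) :
    MvPolynomial (Fin n) W → MvPolynomial (Fin n) k) := by
  apply MvPolynomial.map_surjective
  intro a
  exact ⟨mk2 p a 0, by rw [FrobAlg.res_apply, mk2_coeff_zero]⟩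

/-- `p x = 0` in `W₂(k)[x]` forces `x ∈ (p)` -/
theorem exists_eq_p_mul_of_p_mul_eq_zero {x : MvPolynomial (Fin n) W}
    (hx : ((p : ℕ) : MvPolynomial (Fin n) W) * x = 0) :
    ∃ y, x = ((p : ℕ) : MvPolynomial (Fin n) W) * y := by
  apply exists_eq_p_mul
  ext d
  rw [coeff_map, coeff_zero, FrobAlg.res_apply]
  have h1 := congrArg (coeff d) hx
  rw [natCast_eq_C, coeff_C_mul, coeff_zero] at h1
  have h2 := mem_span_p_of_p_mul_eq_zero h1
  rw [← ker_res, RingHom.mem_ker, FrobAlg.res_apply] at h2
  exact h2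

/-- lifting a weakly regular sequence keeps the quotient `p`-torsion controlled -/
theorem torsion_of_weaklyRegular (l : List (MvPolynomial (Fin n) W))
    (hreg : RingTheory.Sequence.IsWeaklyRegular (MvPolynomial (Fin n) k)
      (l.map (MvPolynomial.map (FrobAlg.res p k)))) :
    ∀ x : MvPolynomial (Fin n) W, ((p : ℕ) : MvPolynomial (Fin n) W) * x ∈ Ideal.ofList l →
      ∃ y, x - ((p : ℕ) : MvPolynomial (Fin n) W) * y ∈ Ideal.ofList l := by
  induction l using List.reverseRecOn with
  | nil =>
    intro x hx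
    rw [Ideal.ofList_nil, Ideal.mem_bot] at hx
    obtain ⟨y, hy⟩ := exists_eq_p_mul_of_p_mul_eq_zero hx
    exact ⟨y, by rw [hy, sub_self]; exact Ideal.zero_mem _⟩
  | append_singleton l a ih =>
    intro x hx
    rw [List.map_append, RingTheory.Sequence.isWeaklyRegular_append_iff] at hreg
    obtain ⟨hreg1, hreg2⟩ := hreg
    rw [List.map_singleton, RingTheory.Sequence.isWeaklyRegular_singleton_iff] at hreg2
    rw [Ideal.ofList_append, Ideal.ofList_singleton, Submodule.mem_sup] at hx
    obtain ⟨j, hj, z, hz, hjz⟩ := hx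
    rw [Ideal.mem_span_singleton'] at hz
    obtain ⟨y, rfl⟩ := hz
    -- reduce mod p
    have h1 := congrArg (MvPolynomial.map (FrobAlg.res p k)) hjz
    rw [map_add, map_mul, map_mul, map_natCast, CharP.cast_eq_zero, zero_mul] at h1
    have hρj : MvPolynomial.map (FrobAlg.res p k) j ∈
        Ideal.ofList (l.map (MvPolynomial.map (FrobAlg.res p k))) := by
      rw [← Ideal.map_ofList]
      exact Ideal.mem_map_of_mem _ hj
    have h2 : MvPolynomial.map (FrobAlg.res p k) y ∈
        Ideal.ofList (l.map (MvPolynomial.map (FrobAlg.res p k))) := by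
      have h3 : MvPolynomial.map (FrobAlg.res p k) a • (Submodule.Quotient.mk
          (MvPolynomial.map (FrobAlg.res p k) y) : MvPolynomial (Fin n) k ⧸
            (Ideal.ofList (l.map (MvPolynomial.map (FrobAlg.res p k))) • ⊤ :
              Submodule (MvPolynomial (Fin n) k) (MvPolynomial (Fin n) k))) =
          MvPolynomial.map (FrobAlg.res p k) a • 0 := by
        rw [smul_zero, ← Submodule.Quotient.mk_smul, Submodule.Quotient.mk_eq_zero, smul_eq_mul,
          Ideal.mul_top, smul_eq_mul, mul_comm]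
        have : MvPolynomial.map (FrobAlg.res p k) y * MvPolynomial.map (FrobAlg.res p k) a =
            -(MvPolynomial.map (FrobAlg.res p k) j) := by
          rw [eq_neg_iff_add_eq_zero, add_comm]; exact h1
        rw [this]
        exact Ideal.neg_mem_iff _ |>.2 hρj
      have h4 := hreg2 h3
      rw [Submodule.Quotient.mk_eq_zero, Ideal.smul_top_eq_map, Algebra.algebraMap_self, Ideal.map_id,
        Submodule.restrictScalars_mem] at h4
      exact h4
    rw [← Ideal.map_ofList, Ideal.mem_map_iff_of_surjective _ map_res_surjective] at h2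
    obtain ⟨j₂, hj₂, hj₂y⟩ := h2
    have h5 : MvPolynomial.map (FrobAlg.res p k) (y - j₂) = 0 := by rw [map_sub, hj₂y, sub_self]
    obtain ⟨y₂, hy₂⟩ := exists_eq_p_mul h5
    have h6 : ((p : ℕ) : MvPolynomial (Fin n) W) * (x - a * y₂) ∈ Ideal.ofList l := by
      have : ((p : ℕ) : MvPolynomial (Fin n) W) * (x - a * y₂) = j + j₂ * a := by
        have e1 : y = j₂ + ((p : ℕ) : MvPolynomial (Fin n) W) * y₂ := by rw [← hy₂]; ring
        rw [mul_sub, ← hjz, e1]
        ring
      rw [this]
      exact Ideal.add_mem _ hj (Ideal.mul_mem_right _ _ hj₂)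
    obtain ⟨y₃, hy₃⟩ := ih hreg1 _ h6
    refine ⟨y₃, ?_⟩
    rw [Ideal.ofList_append, Ideal.ofList_singleton]
    have : x - ((p : ℕ) : MvPolynomial (Fin n) W) * y₃ =
        (x - a * y₂ - ((p : ℕ) : MvPolynomial (Fin n) W) * y₃) + y₂ * a := by ring
    rw [this]
    exact Ideal.add_mem _ (Ideal.mem_sup_left hy₃)
      (Ideal.mem_sup_right (Ideal.mul_mem_left _ _ (Ideal.mem_span_singleton_self a)))

end Groth.Agent.Helper20.W2P
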