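import Mathlib
import Groth.Agent.Lib.Helper20.W2reg
import Groth.Agent.Lib.Helper20.W2lift
import Groth.Agent.Lib.Helper20.W2flat
import Groth.Agent.Lib.Helper20.W2poly4

open MvPolynomial

namespace Groth.Agent.Helper20.W2P

universe u
variable {p : ℕ} [hp : Fact p.Prime] {k : Type u} [Field k] [CharP k p] [PerfectRing k p]
  {n m : ℕ}

open Groth.Agent.Helper20.W2

local notation "W" => FrobAlg.W2 p k

theorem ofList_ofFn {R : Type*} [CommRing R] (f : Fin m → R) :
    Ideal.ofList (List.ofFn f) = Ideal.span (Set.range f) := by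
  unfold Ideal.ofList
  congr 1
  ext x
  simp [List.mem_ofFn]

theorem flat_quot_of_regular (f' : Fin m → MvPolynomial (Fin n) W)
    (hreg : RingTheory.Sequence.IsWeaklyRegular (MvPolynomial (Fin n) k)
      (List.ofFn (fun i => MvPolynomial.map (FrobAlg.res p k) (f' i)))) :
    ((Ideal.Quotient.mk (Ideal.span (Set.range f'))).comp
      (MvPolynomial.C : W →+* MvPolynomial (Fin n) W)).Flat := by
  have hrfl : ((Ideal.Quotient.mk (Ideal.span (Set.range f'))).comp
      (MvPolynomial.C : W →+* MvPolynomial (Fin n) W)) =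
      algebraMap W (MvPolynomial (Fin n) W ⧸ Ideal.span (Set.range f')) := rfl
  rw [hrfl, RingHom.flat_algebraMap_iff]
  apply flat_of_torsion ((p : ℕ) : FrobAlg.W2 p k) p_mul_p ideal_cases
  intro m hm
  obtain ⟨x, rfl⟩ := Ideal.Quotient.mk_surjective m
  have h1 : ∀ y : MvPolynomial (Fin n) W ⧸ Ideal.span (Set.range f'),
      ((p : ℕ) : FrobAlg.W2 p k) • y =
        ((p : ℕ) : MvPolynomial (Fin n) W ⧸ Ideal.span (Set.range f')) * y := by
    intro y
    rw [Nat.cast_smul_eq_nsmul, nsmul_eq_mul]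
  rw [h1, ← map_natCast (Ideal.Quotient.mk (Ideal.span (Set.range f'))), ← map_mul,
    Ideal.Quotient.eq_zero_iff_mem, ← ofList_ofFn] at hm
  have hreg' : RingTheory.Sequence.IsWeaklyRegular (MvPolynomial (Fin n) k)
      ((List.ofFn f').map (MvPolynomial.map (FrobAlg.res p k))) := by
    rw [List.map_ofFn]
    exact hreg
  obtain ⟨y, hy⟩ := torsion_of_weaklyRegular (List.ofFn f') hreg' x hm
  refine ⟨Ideal.Quotient.mk _ y, ?_⟩
  rw [h1, ← map_natCast (Ideal.Quotient.mk (Ideal.span (Set.range f'))), ← map_mul,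
    Ideal.Quotient.eq, ← ofList_ofFn]
  exact hy

theorem isFLiftable_of_criterion (f' : Fin m → MvPolynomial (Fin n) W)
    (J : Ideal (MvPolynomial (Fin n) k))
    (hJ : J = (Ideal.span (Set.range f')).map (MvPolynomial.map (FrobAlg.res p k)))
    (hflat : ((Ideal.Quotient.mk (Ideal.span (Set.range f'))).comp
      (MvPolynomial.C : W →+* MvPolynomial (Fin n) W)).Flat)
    (h : Fin n → MvPolynomial (Fin n) W)
    (hh : ∀ i, FrobAlg.polyFrob p k (Fin n) (f' i) - f' i ^ p
        - (p : MvPolynomial (Fin n) W) * ∑ j, MvPolynomial.pderiv j (f' i) ^ p * h j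
        ∈ Ideal.span {(p : MvPolynomial (Fin n) W)} * Ideal.span (Set.range f')) :
    FrobAlg.IsFLiftable p k (MvPolynomial (Fin n) k ⧸ J) := by
  subst hJ
  obtain ⟨Φ, hsemi, hred⟩ := (frob_criterion f' hflat).2 ⟨h, hh⟩
  refine ⟨MvPolynomial (Fin n) W ⧸ Ideal.span (Set.range f'), inferInstance,
    (Ideal.Quotient.mk (Ideal.span (Set.range f'))).comp MvPolynomial.C,
    Ideal.quotientMap _ (MvPolynomial.map (FrobAlg.res p k)) Ideal.le_comap_map, Φ,
    ⟨⟨hflat, ?_, ?_, ?_⟩, hsemi, hred⟩⟩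
  · exact Ideal.quotientMap_surjective map_res_surjective
  · have hR : Ideal.map ((Ideal.Quotient.mk (Ideal.span (Set.range f'))).comp
        (MvPolynomial.C : W →+* MvPolynomial (Fin n) W)) (RingHom.ker (FrobAlg.res p k)) =
        Ideal.span {((p : ℕ) : MvPolynomial (Fin n) W ⧸ Ideal.span (Set.range f'))} := by
      rw [ker_res, Ideal.map_span, Set.image_singleton, map_natCast]
    rw [hR]
    apply le_antisymm
    · intro m hm
      obtain ⟨x, rfl⟩ := Ideal.Quotient.mk_surjective m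
      rw [RingHom.mem_ker, Ideal.quotientMap_mk, Ideal.Quotient.eq_zero_iff_mem,
        Ideal.mem_map_iff_of_surjective _ map_res_surjective] at hm
      obtain ⟨j, hj, hjx⟩ := hm
      have h1 : MvPolynomial.map (FrobAlg.res p k) (x - j) = 0 := by rw [map_sub, hjx, sub_self]
      obtain ⟨y, hy⟩ := exists_eq_p_mul h1
      have h2 : Ideal.Quotient.mk (Ideal.span (Set.range f')) x =
          ((p : ℕ) : MvPolynomial (Fin n) W ⧸ Ideal.span (Set.range f')) *
            Ideal.Quotient.mk (Ideal.span (Set.range f')) y := by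
        rw [← map_natCast (Ideal.Quotient.mk (Ideal.span (Set.range f'))), ← map_mul, ← hy,
          Ideal.Quotient.eq]
        rw [sub_sub_cancel]
        exact hj
      rw [h2]
      exact Ideal.mul_mem_right _ _ (Ideal.mem_span_singleton_self _)
    · rw [Ideal.span_le, Set.singleton_subset_iff, SetLike.mem_coe, RingHom.mem_ker, map_natCast]
      exact p_eq_zero_A p k _
  · refine RingHom.ext fun a => ?_
    rw [RingHom.comp_apply, RingHom.comp_apply, RingHom.comp_apply, Ideal.quotientMap_mk, map_C]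
    rfl

theorem E_eq_Psi (g : Fin n → MvPolynomial (Fin n) W) (x : MvPolynomial (Fin n) W) :
    FrobAlg.polyFrob p k (Fin n) x - x ^ p
        - (p : MvPolynomial (Fin n) W) * ∑ j, MvPolynomial.pderiv j x ^ p * (-g j) =
      Psi g x - x ^ p := by
  rw [Psi_eq]
  unfold Dg
  simp only [mul_neg, Finset.sum_neg_distrib]
  ring

theorem criterion_of_isFLiftable (f : Fin m → MvPolynomial (Fin n) k)
    (hreg : RingTheory.Sequence.IsWeaklyRegular (MvPolynomial (Fin n) k) (List.ofFn f))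
    (J : Ideal (MvPolynomial (Fin n) k)) (hJdef : J = Ideal.span (Set.range f))
    (hL : FrobAlg.IsFLiftable p k (MvPolynomial (Fin n) k ⧸ J)) :
    ∃ (f' : Fin m → MvPolynomial (Fin n) W) (h : Fin n → MvPolynomial (Fin n) W),
      (∀ i, MvPolynomial.map (FrobAlg.res p k) (f' i) = f i) ∧
      ∀ i, FrobAlg.polyFrob p k (Fin n) (f' i) - f' i ^ p
        - (p : MvPolynomial (Fin n) W) * ∑ j, MvPolynomial.pderiv j (f' i) ^ p * h j
        ∈ Ideal.span {(p : MvPolynomial (Fin n) W)} * Ideal.span (Set.range f') := by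
  obtain ⟨B, _, ι, π, Φ, hF⟩ := hL
  have hB : FrobAlg.IsLift p k _ B ι π := hF.toIsLift
  have hT : ∀ j : Fin n, ∃ t : B, π t = Ideal.Quotient.mk J (X j) := fun j => hB.surj _
  choose T hT using hT
  set ψ : MvPolynomial (Fin n) W →+* B := eval₂Hom ι T with hψdef
  have hψC : ∀ a, ψ (C a) = ι a := fun a => by rw [hψdef, coe_eval₂Hom, eval₂_C]
  have hψX : ∀ j, ψ (X j) = T j := fun j => by rw [hψdef, coe_eval₂Hom, eval₂_X]
  have hπψ : π.comp ψ = (Ideal.Quotient.mk J).comp (MvPolynomial.map (FrobAlg.res p k)) := by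
    apply MvPolynomial.ringHom_ext
    · intro a
      rw [RingHom.comp_apply, RingHom.comp_apply, hψC, map_C]
      have := congrArg (fun φ => φ a) hB.comm
      simp only [RingHom.comp_apply] at this
      rw [this]
      rfl
    · intro j
      rw [RingHom.comp_apply, RingHom.comp_apply, hψX, hT, map_X]
  have hπψ' : ∀ x, π (ψ x) = Ideal.Quotient.mk J (MvPolynomial.map (FrobAlg.res p k) x) := by
    intro x
    have := congrArg (fun φ => φ x) hπψ
    simpa only [RingHom.comp_apply] using this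
  have hpB : ∀ b : B, π b = 0 → ∃ c, b = ((p : ℕ) : B) * c := by
    intro b hb
    rw [← RingHom.mem_ker, ker_pi hB, Ideal.mem_span_singleton'] at hb
    obtain ⟨c, hc⟩ := hb
    exact ⟨c, by rw [mul_comm]; exact hc.symm⟩
  have hψp : ψ ((p : ℕ) : MvPolynomial (Fin n) W) = ((p : ℕ) : B) := map_natCast ψ p
  have hstep : ∀ b : B, ∃ r c, b = ψ r + ((p : ℕ) : B) * c := by
    intro b
    obtain ⟨r0, hr0⟩ := Ideal.Quotient.mk_surjective (π b)
    obtain ⟨r, rfl⟩ := map_res_surjective r0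
    have h1 : π (b - ψ r) = 0 := by rw [map_sub, hπψ', hr0, sub_self]
    obtain ⟨c, hc⟩ := hpB _ h1
    exact ⟨r, c, by rw [← hc]; ring⟩
  have hψsurj : Function.Surjective ψ := by
    intro b
    obtain ⟨r, c, rfl⟩ := hstep b
    obtain ⟨r2, c2, rfl⟩ := hstep c
    refine ⟨r + ((p : ℕ) : MvPolynomial (Fin n) W) * r2, ?_⟩
    rw [map_add, map_mul, hψp, mul_add, ← mul_assoc, p_mul_p_B ι, zero_mul, add_zero]
  have hf' : ∀ i, ∃ f'i : MvPolynomial (Fin n) W,
      MvPolynomial.map (FrobAlg.res p k) f'i = f i ∧ ψ f'i = 0 := by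
    intro i
    obtain ⟨r, hr⟩ := map_res_surjective (f i)
    have h1 : π (ψ r) = 0 := by
      rw [hπψ', hr, Ideal.Quotient.eq_zero_iff_mem, hJdef]
      exact Ideal.subset_span ⟨i, rfl⟩
    obtain ⟨c, hc⟩ := hpB _ h1
    obtain ⟨s, rfl⟩ := hψsurj c
    refine ⟨r - ((p : ℕ) : MvPolynomial (Fin n) W) * s, ?_, ?_⟩
    · rw [map_sub, map_mul, map_natCast, CharP.cast_eq_zero, zero_mul, sub_zero, hr]
    · rw [map_sub, map_mul, hψp, hc, sub_self]
  choose f' hf'ρ hf'ψ using hf'
  set J' : Ideal (MvPolynomial (Fin n) W) := Ideal.span (Set.range f') with hJ'def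
  have hfun : (fun i => MvPolynomial.map (FrobAlg.res p k) (f' i)) = f := funext hf'ρ
  have hJ'J : J'.map (MvPolynomial.map (FrobAlg.res p k)) = J := by
    rw [hJ'def, Ideal.map_span, ← Set.range_comp, hJdef]
    congr 1
    rw [← hfun]
    rfl
  have hflat : ((Ideal.Quotient.mk J').comp
      (MvPolynomial.C : W →+* MvPolynomial (Fin n) W)).Flat :=
    flat_quot_of_regular f' (by rw [hfun]; exact hreg)
  have hfJ' : ∀ i, f' i ∈ J' := fun i => Ideal.subset_span ⟨i, rfl⟩
  have hJ'ker : ∀ x ∈ J', ψ x = 0 := by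
    intro x hx
    have hle : J' ≤ RingHom.ker ψ := by
      rw [hJ'def, Ideal.span_le]
      rintro _ ⟨i, rfl⟩
      exact hf'ψ i
    exact hle hx
  have hdecomp : ∀ y : MvPolynomial (Fin n) W, MvPolynomial.map (FrobAlg.res p k) y ∈ J →
      ∃ j ∈ J', ∃ z, y = j + ((p : ℕ) : MvPolynomial (Fin n) W) * z := by
    intro y hy
    rw [← hJ'J, Ideal.mem_map_iff_of_surjective _ map_res_surjective] at hy
    obtain ⟨j, hj, hjy⟩ := hy
    have h1 : MvPolynomial.map (FrobAlg.res p k) (y - j) = 0 := by rw [map_sub, hjy, sub_self]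
    obtain ⟨z, hz⟩ := exists_eq_p_mul h1
    exact ⟨j, hj, z, by rw [← hz]; ring⟩
  have hker : ∀ x, ψ x = 0 → x ∈ J' := by
    intro x hx
    have h1 : MvPolynomial.map (FrobAlg.res p k) x ∈ J := by
      rw [← Ideal.Quotient.eq_zero_iff_mem, ← hπψ', hx, map_zero]
    obtain ⟨j, hj, z, rfl⟩ := hdecomp x h1
    have h2 : ((p : ℕ) : B) * ψ z = 0 := by
      have h := hx
      rw [map_add, hJ'ker j hj, zero_add, map_mul, hψp] at h
      exact h
    have h3 : π (ψ z) = 0 := pi_eq_zero_of_p_mul hB _ h2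
    have h4 : MvPolynomial.map (FrobAlg.res p k) z ∈ J := by
      rw [← Ideal.Quotient.eq_zero_iff_mem, ← hπψ', h3]
    obtain ⟨j2, hj2, z2, rfl⟩ := hdecomp z h4
    have h5 : j + ((p : ℕ) : MvPolynomial (Fin n) W) *
        (j2 + ((p : ℕ) : MvPolynomial (Fin n) W) * z2) =
        j + ((p : ℕ) : MvPolynomial (Fin n) W) * j2 := by
      rw [mul_add, ← mul_assoc, pp_zero, zero_mul, add_zero]
    rw [h5]
    exact Ideal.add_mem _ hj (Ideal.mul_mem_left _ _ hj2)
  have hg : ∀ j, ∃ g : MvPolynomial (Fin n) W,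
      Φ (T j) = ψ (X j ^ p + ((p : ℕ) : MvPolynomial (Fin n) W) * g) := by
    intro j
    have h1 : π (Φ (T j) - ψ (X j ^ p)) = 0 := by
      rw [map_sub, hF.red, hT, hπψ', map_pow, map_X, ← map_pow, sub_self]
    obtain ⟨c, hc⟩ := hpB _ h1
    obtain ⟨g, rfl⟩ := hψsurj c
    exact ⟨g, by rw [map_add, map_mul, hψp, ← hc]; ring⟩
  choose g hg using hg
  have hcomp : Φ.comp ψ = ψ.comp (Psi g) := by
    apply MvPolynomial.ringHom_ext
    · intro a
      rw [RingHom.comp_apply, RingHom.comp_apply, Psi_C, hψC, hψC]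
      exact congrArg (fun φ => φ a) hF.semi
    · intro j
      rw [RingHom.comp_apply, RingHom.comp_apply, Psi_X, hψX, hg]
  have hPsiJ : ∀ i, Psi g (f' i) ∈ J' := by
    intro i
    apply hker
    have := congrArg (fun φ => φ (f' i)) hcomp
    simp only [RingHom.comp_apply] at this
    rw [hf'ψ, map_zero] at this
    exact this.symm
  refine ⟨f', fun j => -g j, hf'ρ, fun i => ?_⟩
  rw [E_eq_Psi g (f' i)]
  have h1 : Psi g (f' i) - f' i ^ p ∈ J' :=
    Ideal.sub_mem _ (hPsiJ i) (Ideal.pow_mem_of_mem _ (hfJ' i) p hp.out.pos)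
  have h2 : MvPolynomial.map (FrobAlg.res p k) (Psi g (f' i) - f' i ^ p) = 0 := by
    rw [map_sub, map_res_Psi, map_pow, sub_self]
  obtain ⟨y, hy⟩ := exists_eq_p_mul h2
  rw [hy] at h1 ⊢
  exact mem_p_mul_of_flat J' hflat h1

end Groth.Agent.Helper20.W2P
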