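import Mathlib
import Groth.Agent.Lib.Helper20.W2lift
import Groth.Agent.Lib.Helper20.W2flat

open WittVector

namespace Groth.Agent.Helper20.W2

universe u
variable {p : ℕ} [Fact p.Prime] {k : Type u} [Field k] [CharP k p] [PerfectRing k p]
  {A B : Type u} [CommRing A] [CommRing B] [Algebra k A] [Algebra k B]
  [Algebra A B] [IsScalarTower k A B]

theorem isW2Liftable_of_retraction (r : B →ₗ[A] A) (hr : ∀ a : A, r (algebraMap A B a) = a)
    (hB : FrobAlg.IsW2Liftable p k B) : FrobAlg.IsW2Liftable p k A := by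
  obtain ⟨B', _, ιB, πB, hB⟩ := hB
  have hpB : ((p : ℕ) : B) = 0 := p_eq_zero_A p k B
  have hpA : ((p : ℕ) : A) = 0 := p_eq_zero_A p k A
  let S : Subring B' := (algebraMap A B).range.comap πB
  have hS : ∀ x : S, algebraMap A B (r (πB x)) = πB x := by
    intro x
    obtain ⟨a, ha⟩ := x.2
    rw [← ha, hr]
  have hrlin : ∀ (x : S) (c : B'), r (πB ((x : B') * c)) = r (πB x) * r (πB c) := by
    intro x c
    rw [map_mul, ← hS x, ← Algebra.smul_def, map_smul, smul_eq_mul, hS x]
  let π0 : S →+* A :=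
    { toFun := fun x => r (πB x)
      map_one' := by
        show r (πB ((1 : S) : B')) = 1
        rw [Subring.coe_one, map_one, ← map_one (algebraMap A B), hr]
      map_mul' := by
        intro x y
        show r (πB ((x * y : S) : B')) = _
        rw [Subring.coe_mul, hrlin]
      map_zero' := by
        show r (πB ((0 : S) : B')) = 0
        rw [Subring.coe_zero, map_zero, map_zero]
      map_add' := by
        intro x y
        show r (πB ((x + y : S) : B')) = _
        rw [Subring.coe_add, map_add, map_add] }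
  have hπ0 : ∀ x : S, π0 x = r (πB x) := fun _ => rfl
  let I : Ideal S :=
    { carrier := {x | ∃ c : B', r (πB c) = 0 ∧ (x : B') = ((p : ℕ) : B') * c}
      add_mem' := by
        rintro x y ⟨c, hc, hx⟩ ⟨d, hd, hy⟩
        refine ⟨c + d, by rw [map_add, map_add, hc, hd, add_zero], ?_⟩
        rw [Subring.coe_add, hx, hy, mul_add]
      zero_mem' := ⟨0, by rw [map_zero, map_zero], by rw [Subring.coe_zero, mul_zero]⟩
      smul_mem' := by
        rintro a x ⟨c, hc, hx⟩
        refine ⟨(a : B') * c, by rw [hrlin, hc, mul_zero], ?_⟩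
        rw [smul_eq_mul, Subring.coe_mul, hx]
        ring }
  have hI : ∀ x : S, x ∈ I ↔ ∃ c : B', r (πB c) = 0 ∧ (x : B') = ((p : ℕ) : B') * c :=
    fun _ => Iff.rfl
  have hιmem : ∀ y, ιB y ∈ S := by
    intro y
    have h1 := congrArg (fun f => f y) hB.comm
    simp only [RingHom.comp_apply] at h1
    show πB (ιB y) ∈ (algebraMap A B).range
    rw [h1, IsScalarTower.algebraMap_apply k A B]
    exact ⟨_, rfl⟩
  let ι0 : FrobAlg.W2 p k →+* S := ιB.codRestrict S hιmem
  have hι0 : ∀ y, ((ι0 y : S) : B') = ιB y := fun _ => rfl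
  have hπ0I : ∀ x ∈ I, π0 x = 0 := by
    rintro x ⟨c, hc, hx⟩
    rw [hπ0, hx, map_mul, map_natCast, hpB, zero_mul, map_zero]
  let πA : S ⧸ I →+* A := Ideal.Quotient.lift I π0 hπ0I
  have hπA : ∀ x : S, πA (Ideal.Quotient.mk I x) = r (πB x) := fun x => by
    show Ideal.Quotient.lift I π0 hπ0I (Ideal.Quotient.mk I x) = _
    rw [Ideal.Quotient.lift_mk, hπ0]
  -- key: kernel elements are multiples of p
  have hker : ∀ x : S, r (πB x) = 0 → ∃ c₁ : S,
      Ideal.Quotient.mk I x = ((p : ℕ) : S ⧸ I) * Ideal.Quotient.mk I c₁ := by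
    intro x hx
    have h1 : πB x = 0 := by rw [← hS x, hx, map_zero]
    rw [← RingHom.mem_ker, ker_pi hB, Ideal.mem_span_singleton'] at h1
    obtain ⟨c, hc⟩ := h1
    obtain ⟨c₁', hc₁⟩ := hB.surj (algebraMap A B (r (πB c)))
    have hc₁mem : c₁' ∈ S := by
      show πB c₁' ∈ (algebraMap A B).range
      rw [hc₁]
      exact ⟨_, rfl⟩
    refine ⟨⟨c₁', hc₁mem⟩, ?_⟩
    rw [← map_natCast (Ideal.Quotient.mk I), ← map_mul, Ideal.Quotient.eq, hI]
    refine ⟨c - c₁', by rw [map_sub, map_sub, hc₁, hr, sub_self], ?_⟩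
    rw [AddSubgroupClass.coe_sub, Subring.coe_mul, Subring.coe_natCast, ← hc]
    ring
  refine ⟨S ⧸ I, inferInstance, (Ideal.Quotient.mk I).comp ι0, πA, ?_, ?_, ?_, ?_⟩
  · rw [RingHom.Flat]
    letI := ((Ideal.Quotient.mk I).comp ι0).toAlgebra
    apply flat_of_torsion ((p : ℕ) : FrobAlg.W2 p k) p_mul_p ideal_cases
    intro m hm
    obtain ⟨x, rfl⟩ := Ideal.Quotient.mk_surjective m
    have h1 : ∀ y : S ⧸ I, ((p : ℕ) : FrobAlg.W2 p k) • y = ((p : ℕ) : S ⧸ I) * y := by
      intro y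
      rw [Algebra.smul_def, RingHom.algebraMap_toAlgebra, map_natCast]
    rw [h1, ← map_natCast (Ideal.Quotient.mk I), ← map_mul, Ideal.Quotient.eq_zero_iff_mem, hI] at hm
    obtain ⟨c, hc, hx⟩ := hm
    rw [Subring.coe_mul, Subring.coe_natCast] at hx
    have h2 : ((p : ℕ) : B') * ((x : B') - c) = 0 := by rw [mul_sub, hx, sub_self]
    have h3 := pi_eq_zero_of_p_mul hB _ h2
    rw [map_sub, sub_eq_zero] at h3
    have h4 : r (πB x) = 0 := by rw [h3, hc]
    obtain ⟨c₁, hc₁⟩ := hker x h4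
    exact ⟨Ideal.Quotient.mk I c₁, by rw [h1]; exact hc₁⟩
  · intro a
    obtain ⟨b', hb'⟩ := hB.surj (algebraMap A B a)
    have hmem : b' ∈ S := by
      show πB b' ∈ (algebraMap A B).range
      rw [hb']
      exact ⟨_, rfl⟩
    refine ⟨Ideal.Quotient.mk I ⟨b', hmem⟩, ?_⟩
    rw [hπA]
    show r (πB b') = a
    rw [hb', hr]
  · rw [ker_res, Ideal.map_span, Set.image_singleton, map_natCast]
    apply le_antisymm
    · intro m hm
      obtain ⟨x, rfl⟩ := Ideal.Quotient.mk_surjective m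
      rw [RingHom.mem_ker, hπA] at hm
      obtain ⟨c₁, hc₁⟩ := hker x hm
      rw [hc₁]
      exact Ideal.mul_mem_right _ _ (Ideal.mem_span_singleton_self _)
    · rw [Ideal.span_le, Set.singleton_subset_iff, SetLike.mem_coe, RingHom.mem_ker, map_natCast]
      exact hpA
  · refine RingHom.ext fun y => ?_
    rw [RingHom.comp_apply, RingHom.comp_apply, RingHom.comp_apply, hπA, hι0]
    have h1 := congrArg (fun f => f y) hB.comm
    simp only [RingHom.comp_apply] at h1
    rw [h1, IsScalarTower.algebraMap_apply k A B, hr]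

end Groth.Agent.Helper20.W2
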