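import Mathlib
import Groth.Agent.Lib.Helper20.W2teich

open WittVector

namespace Groth.Agent.Helper20.W2

universe u v
variable {p : ℕ} [Fact p.Prime] {R : Type u} [CommRing R]

theorem coeff_one_add_right (u : FrobAlg.W2 p R) {v : FrobAlg.W2 p R} (hv : v.coeff 0 = 0) :
    (u + v).coeff 1 = u.coeff 1 + v.coeff 1 := by
  have hw0 : (mk2 p (0 : R) (u.coeff 1)).coeff 0 = 0 := mk2_coeff_zero _ _
  have hw1 : (mk2 p (0 : R) (u.coeff 1)).coeff 1 = u.coeff 1 := mk2_coeff_one _ _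
  have h1 := eq_teich_add (y := u) hw0 hw1
  have h2 : (mk2 p (0 : R) (u.coeff 1) + v).coeff 0 = 0 := by
    rw [coeff_zero_add, hw0, hv, add_zero]
  conv_lhs => rw [h1, add_assoc]
  rw [coeff_one_teich_add _ h2, coeff_one_add_of_coeff_zero hw0 hv, hw1]

variable (p) in
/-- the carry of Witt vector addition in length two -/
noncomputable def carry (x y : R) : R := (mk2 p x 0 + mk2 p y 0).coeff 1

theorem coeff_one_add (z z' : FrobAlg.W2 p R) :
    (z + z').coeff 1 = z.coeff 1 + z'.coeff 1 + carry p (z.coeff 0) (z'.coeff 0) := by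
  have hw0 : (mk2 p (0 : R) (z.coeff 1)).coeff 0 = 0 := mk2_coeff_zero _ _
  have hw1 : (mk2 p (0 : R) (z.coeff 1)).coeff 1 = z.coeff 1 := mk2_coeff_one _ _
  have hw0' : (mk2 p (0 : R) (z'.coeff 1)).coeff 0 = 0 := mk2_coeff_zero _ _
  have hw1' : (mk2 p (0 : R) (z'.coeff 1)).coeff 1 = z'.coeff 1 := mk2_coeff_one _ _
  have h1 := eq_teich_add (y := z) hw0 hw1
  have h1' := eq_teich_add (y := z') hw0' hw1'
  have h2 : (mk2 p (0 : R) (z.coeff 1) + mk2 p (0 : R) (z'.coeff 1)).coeff 0 = 0 := by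
    rw [coeff_zero_add, hw0, hw0', add_zero]
  have h3 : z + z' = (mk2 p (z.coeff 0) 0 + mk2 p (z'.coeff 0) 0) +
      (mk2 p (0 : R) (z.coeff 1) + mk2 p (0 : R) (z'.coeff 1)) := by
    conv_lhs => rw [h1, h1']
    abel
  rw [h3, coeff_one_add_right _ h2, coeff_one_add_of_coeff_zero hw0 hw0', hw1, hw1']
  unfold carry
  ring

theorem carry_map {R' : Type v} [CommRing R'] (f : R →+* R') (x y : R) :
    f (carry p x y) = carry p (f x) (f y) := by
  unfold carry
  rw [← WittGrp.coeff_truncMap, map_add, truncMap_mk2, truncMap_mk2, map_zero]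

theorem coeff_one_mul [CharP R p] (x y : FrobAlg.W2 p R) :
    (x * y).coeff 1 = x.coeff 0 ^ p * y.coeff 1 + y.coeff 0 ^ p * x.coeff 1 := by
  have hw0 : (mk2 p (0 : R) (x.coeff 1)).coeff 0 = 0 := mk2_coeff_zero _ _
  have hw1 : (mk2 p (0 : R) (x.coeff 1)).coeff 1 = x.coeff 1 := mk2_coeff_one _ _
  have hw0' : (mk2 p (0 : R) (y.coeff 1)).coeff 0 = 0 := mk2_coeff_zero _ _
  have hw1' : (mk2 p (0 : R) (y.coeff 1)).coeff 1 = y.coeff 1 := mk2_coeff_one _ _
  have h1 := eq_teich_add (y := x) hw0 hw1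
  have h1' := eq_teich_add (y := y) hw0' hw1'
  have h2 : x * y = x * mk2 p (y.coeff 0) 0 + x * mk2 p (0 : R) (y.coeff 1) := by
    conv_lhs => rw [h1', mul_add]
  have h3 : (x * mk2 p (0 : R) (y.coeff 1)).coeff 0 = 0 := by
    rw [coeff_zero_mul, hw0', mul_zero]
  have h4 : x * mk2 p (y.coeff 0) 0 = mk2 p (x.coeff 0 * y.coeff 0) 0 +
      mk2 p (y.coeff 0) 0 * mk2 p (0 : R) (x.coeff 1) := by
    conv_lhs => rw [h1, add_mul, ← mk2_mul, mul_comm (mk2 p (0 : R) (x.coeff 1))]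
  have h5 : (mk2 p (y.coeff 0) 0 * mk2 p (0 : R) (x.coeff 1)).coeff 0 = 0 := by
    rw [coeff_zero_mul, hw0, mul_zero]
  rw [h2, coeff_one_add_right _ h3, coeff_one_mul_of_coeff_zero _ hw0', hw1', h4,
    coeff_one_teich_add _ h5, coeff_one_mul_of_coeff_zero _ hw0, hw1, mk2_coeff_zero]
  ring

end Groth.Agent.Helper20.W2

namespace Groth.Agent.Helper20.W2

universe u
variable {p : ℕ} [Fact p.Prime] {R : Type u} [CommRing R]

theorem coeff_one_mul' (hp : ((p : ℕ) : R) = 0) (x y : FrobAlg.W2 p R) :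
    (x * y).coeff 1 = x.coeff 0 ^ p * y.coeff 1 + y.coeff 0 ^ p * x.coeff 1 := by
  rcases subsingleton_or_nontrivial R with hR | hR
  · exact Subsingleton.elim _ _
  · haveI : CharP R p := (CharP.charP_iff_prime_eq_zero (Fact.out : p.Prime)).mpr hp
    exact coeff_one_mul x y

theorem coeff_one_one : (1 : FrobAlg.W2 p R).coeff 1 = 0 := by
  rw [← mk2_one, mk2_coeff_one]

theorem mk2_zero : mk2 p (0 : R) 0 = 0 := by
  apply ext2
  · rw [mk2_coeff_zero, TruncatedWittVector.coeff_zero]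
  · rw [mk2_coeff_one, TruncatedWittVector.coeff_zero]

end Groth.Agent.Helper20.W2
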