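import Mathlib
import Groth.Agent.Lib.Helper20.W2lift

open WittVector

namespace Groth.Agent.Helper20.W2

universe u
variable {p : ℕ} [Fact p.Prime] {k : Type u} [Field k] [CharP k p] [PerfectRing k p]
  {A B : Type u} [CommRing A] [Algebra k A] [CommRing B] {ι : FrobAlg.W2 p k →+* B} {π : B →+* A}

/-- from a Frobenius lift to a map to `W₂(A)` -/
theorem exists_theta (hB : FrobAlg.IsLift p k A B ι π) (Φ : B →+* B)
    (semi : Φ.comp ι = ι.comp (FrobAlg.sigma p k)) (red : ∀ b : B, π (Φ b) = π b ^ p) :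
    ∃ θ : B →+* FrobAlg.W2 p A,
      (FrobAlg.res p A).comp θ = π ∧ θ.comp ι = WittGrp.truncMap p 2 (algebraMap k A) := by
  have hδ : ∀ b : B, ∃ c : B, ((p : ℕ) : B) * c = Φ b - b ^ p := by
    intro b
    have h1 : Φ b - b ^ p ∈ RingHom.ker π := by
      rw [RingHom.mem_ker, map_sub, red, map_pow, sub_self]
    rw [ker_pi hB, Ideal.mem_span_singleton'] at h1
    obtain ⟨c, hc⟩ := h1
    exact ⟨c, by rw [mul_comm]; exact hc⟩
  choose δ hδ using hδ
  obtain ⟨s, hs0, hgh⟩ : ∃ s : B → FrobAlg.W2 p B, (∀ b, (s b).coeff 0 = b) ∧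
      (∀ b, gh1 p B (s b) = Φ b) := by
    refine ⟨fun b => mk2 p b (δ b), fun b => mk2_coeff_zero _ _, ?_⟩
    intro b
    rw [gh1_apply, mk2_coeff_zero, mk2_coeff_one, hδ]
    ring
  have hf := pi_eq_zero_of_p_mul hB
  let θ : B →+* FrobAlg.W2 p A :=
    { toFun := fun b => WittGrp.truncMap p 2 π (s b)
      map_one' := by
        rw [← map_one (WittGrp.truncMap p 2 π)]
        apply truncMap_eq_of_gh1 π hf
        · rw [hs0, coeff_zero_one]
        · rw [hgh, map_one, map_one]
      map_mul' := by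
        intro a b
        rw [← map_mul (WittGrp.truncMap p 2 π)]
        apply truncMap_eq_of_gh1 π hf
        · rw [hs0, coeff_zero_mul, hs0, hs0]
        · rw [hgh, map_mul, map_mul, hgh, hgh]
      map_zero' := by
        rw [← map_zero (WittGrp.truncMap p 2 π)]
        apply truncMap_eq_of_gh1 π hf
        · rw [hs0, TruncatedWittVector.coeff_zero]
        · rw [hgh, map_zero, map_zero]
      map_add' := by
        intro a b
        rw [← map_add (WittGrp.truncMap p 2 π)]
        apply truncMap_eq_of_gh1 π hf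
        · rw [hs0, coeff_zero_add, hs0, hs0]
        · rw [hgh, map_add, map_add, hgh, hgh] }
  have hθ : ∀ b, θ b = WittGrp.truncMap p 2 π (s b) := fun b => rfl
  refine ⟨θ, ?_, ?_⟩
  · ext b
    rw [RingHom.comp_apply, FrobAlg.res_apply, hθ, WittGrp.coeff_truncMap, hs0]
  · apply ringHom_ext_teich
    intro c
    rw [RingHom.comp_apply, hθ]
    have h1 : WittGrp.truncMap p 2 π (s (ι (mk2 p c 0))) =
        WittGrp.truncMap p 2 π (mk2 p (ι (mk2 p c 0)) 0) := by
      apply truncMap_eq_of_gh1 π hf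
      · rw [hs0, mk2_coeff_zero]
      · rw [hgh, gh1_apply, mk2_coeff_zero, mk2_coeff_one, mul_zero, add_zero]
        have := congrArg (fun f => f (mk2 p c 0)) semi
        simp only [RingHom.comp_apply] at this
        rw [this, sigma_mk2, map_pow]
    rw [h1, truncMap_mk2, truncMap_mk2, map_zero, map_zero]
    have h2 := congrArg (fun f => f (mk2 p c 0)) hB.comm
    simp only [RingHom.comp_apply, FrobAlg.res_apply, mk2_coeff_zero] at h2
    rw [h2]

end Groth.Agent.Helper20.W2

namespace Groth.Agent.Helper20.W2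

universe u
variable {p : ℕ} [Fact p.Prime] {k : Type u} [Field k] [CharP k p] [PerfectRing k p]
  {A B : Type u} [CommRing A] [Algebra k A] [CommRing B] {ι : FrobAlg.W2 p k →+* B} {π : B →+* A}

/-- from a map to `W₂(A)` to a Frobenius lift -/
theorem exists_frobLift (hB : FrobAlg.IsLift p k A B ι π) (θ : B →+* FrobAlg.W2 p A)
    (h1 : (FrobAlg.res p A).comp θ = π)
    (h2 : θ.comp ι = WittGrp.truncMap p 2 (algebraMap k A)) :
    ∃ Φ : B →+* B, FrobAlg.IsFrobLift p k A B ι π Φ := by
  have hθ0 : ∀ b, (θ b).coeff 0 = π b := by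
    intro b
    have := congrArg (fun f => f b) h1
    simpa only [RingHom.comp_apply, FrobAlg.res_apply] using this
  obtain ⟨s, hs0, hsθ, hs1⟩ : ∃ s : B → FrobAlg.W2 p B, (∀ b, (s b).coeff 0 = b) ∧
      (∀ b, WittGrp.truncMap p 2 π (s b) = θ b) ∧
      (∀ b, π ((s b).coeff 1) = (θ b).coeff 1) := by
    have hβ : ∀ b : B, ∃ c : B, π c = (θ b).coeff 1 := fun b => hB.surj _
    choose β hβ using hβ
    refine ⟨fun b => mk2 p b (β b), fun b => mk2_coeff_zero _ _, ?_, ?_⟩
    · intro b
      apply ext2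
      · rw [WittGrp.coeff_truncMap, mk2_coeff_zero, hθ0]
      · rw [WittGrp.coeff_truncMap, mk2_coeff_one, hβ]
    · intro b
      rw [mk2_coeff_one, hβ]
  have hf := p_mul_eq_zero_of_pi hB
  let Φ : B →+* B :=
    { toFun := fun b => gh1 p B (s b)
      map_one' := by
        refine (gh1_eq_of_truncMap π hf ?_ ?_).trans (map_one (gh1 p B))
        · rw [hs0, coeff_zero_one]
        · rw [hsθ, map_one, map_one]
      map_mul' := by
        intro a b
        rw [← map_mul (gh1 p B)]
        apply gh1_eq_of_truncMap π hf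
        · rw [hs0, coeff_zero_mul, hs0, hs0]
        · rw [hsθ, map_mul, map_mul, hsθ, hsθ]
      map_zero' := by
        refine (gh1_eq_of_truncMap π hf ?_ ?_).trans (map_zero (gh1 p B))
        · rw [hs0, TruncatedWittVector.coeff_zero]
        · rw [hsθ, map_zero, map_zero]
      map_add' := by
        intro a b
        rw [← map_add (gh1 p B)]
        apply gh1_eq_of_truncMap π hf
        · rw [hs0, coeff_zero_add, hs0, hs0]
        · rw [hsθ, map_add, map_add, hsθ, hsθ] }
  have hΦ : ∀ b, Φ b = gh1 p B (s b) := fun b => rfl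
  refine ⟨Φ, { toIsLift := hB, semi := ?_, red := ?_ }⟩
  · apply ringHom_ext_teich
    intro c
    rw [RingHom.comp_apply, RingHom.comp_apply, hΦ, sigma_mk2, map_pow]
    have h3 : gh1 p B (s (ι (mk2 p c 0))) = gh1 p B (mk2 p (ι (mk2 p c 0)) 0) := by
      apply gh1_eq_of_truncMap π hf
      · rw [hs0, mk2_coeff_zero]
      · rw [hsθ, truncMap_mk2, map_zero]
        have h4 := congrArg (fun f => f (mk2 p c 0)) h2
        simp only [RingHom.comp_apply] at h4
        rw [h4, truncMap_mk2, map_zero]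
        have h5 := congrArg (fun f => f (mk2 p c 0)) hB.comm
        simp only [RingHom.comp_apply, FrobAlg.res_apply, mk2_coeff_zero] at h5
        rw [h5]
    rw [h3, gh1_apply, mk2_coeff_zero, mk2_coeff_one, mul_zero, add_zero]
  · intro b
    rw [hΦ, gh1_apply, map_add, map_mul, map_pow, map_natCast, p_eq_zero_A p k A, zero_mul,
      add_zero, hs0]

end Groth.Agent.Helper20.W2
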