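import Mathlib

open MvPolynomial

namespace Groth.Agent.Helper20.W2Q

universe u v

section W
variable (S : Type u) [CommRing S]

/-- the test values `u₁, u₂, -(u₁+u₂), 0, 0, …` -/
noncomputable def Wg : ℕ → MvPolynomial (Fin 2) S
  | 0 => X 0
  | 1 => X 1
  | 2 => -(X 0 + X 1)
  | _ => 0

theorem sum_Wg {n : ℕ} (hn : 3 ≤ n) : ∑ i : Fin n, Wg S i.val = 0 := by
  rw [Fin.sum_univ_eq_sum_range (fun i => Wg S i) n]
  have h1 : ∑ i ∈ Finset.range n, Wg S i = ∑ i ∈ Finset.range 3, Wg S i := by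
    symm
    apply Finset.sum_subset (Finset.range_subset_range.2 hn)
    intro i _ hi
    rw [Finset.mem_range, not_lt] at hi
    obtain ⟨j, rfl⟩ := Nat.exists_eq_add_of_le hi
    rw [show 3 + j = j + 3 by omega]
    rfl
  rw [h1, Finset.sum_range_succ, Finset.sum_range_succ, Finset.sum_range_one]
  show (X 0 + X 1 + -(X 0 + X 1) : MvPolynomial (Fin 2) S) = 0
  ring

theorem Wg_map {S' : Type v} [CommRing S'] (f : S →+* S') (i : ℕ) :
    MvPolynomial.map f (Wg S i) = Wg S' i := by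
  match i with
  | 0 => simp [Wg]
  | 1 => simp [Wg]
  | 2 => simp [Wg]
  | _ + 3 => simp [Wg]

end W

end Groth.Agent.Helper20.W2Q
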