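import Mathlib
import Groth.Agent.Lib.Helper20.W2quad

open MvPolynomial

namespace Groth.Agent.Helper20.W2Q

universe u
variable {k : Type u} [Field k] (n : ℕ)

/-- balanced exponent vectors -/
def Bal (d : Fin n × Fin 2 →₀ ℕ) : Prop := ∀ i : Fin n, d (i, 0) = d (i, 1)

instance (d : Fin n × Fin 2 →₀ ℕ) : Decidable (Bal n d) := by unfold Bal; infer_instance

variable (k) in
/-- value of the specialisation on a balanced monomial -/
noncomputable def νmon (d : Fin n × Fin 2 →₀ ℕ) : MvPolynomial (Fin 2) k :=
  ∏ i : Fin n, Wg k i.val ^ d (i, 0)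

variable (k) in
/-- the weight zero projection followed by the specialisation -/
noncomputable def Lam : MvPolynomial (Fin n × Fin 2) k →ₗ[k] MvPolynomial (Fin 2) k :=
  (basisMonomials (Fin n × Fin 2) k).constr k (fun d => if Bal n d then νmon k n d else 0)

theorem Lam_monomial (d : Fin n × Fin 2 →₀ ℕ) (c : k) :
    Lam k n (monomial d c) = if Bal n d then c • νmon k n d else 0 := by
  have h1 : monomial d c = c • (basisMonomials (Fin n × Fin 2) k) d := by
    rw [coe_basisMonomials, smul_monomial, smul_eq_mul, mul_one]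
  rw [h1, map_smul]
  unfold Lam
  rw [Module.Basis.constr_basis]
  split_ifs
  · rfl
  · rw [smul_zero]

theorem bal_add_iff (i : Fin n) (d : Fin n × Fin 2 →₀ ℕ) :
    Bal n (Finsupp.single (i, 0) 1 + Finsupp.single (i, 1) 1 + d) ↔ Bal n d := by
  unfold Bal
  apply forall_congr'
  intro j
  simp only [Finsupp.add_apply, Finsupp.single_apply, Prod.mk.injEq]
  by_cases hij : i = j
  · simp [hij]
  · simp [hij]

theorem νmon_add (i : Fin n) (d : Fin n × Fin 2 →₀ ℕ) :
    νmon k n (Finsupp.single (i, 0) 1 + Finsupp.single (i, 1) 1 + d) =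
      Wg k i.val * νmon k n d := by
  unfold νmon
  have h1 : ∀ j : Fin n, Wg k j.val ^
      ((Finsupp.single (i, 0) 1 + Finsupp.single (i, 1) 1 + d : Fin n × Fin 2 →₀ ℕ) (j, 0)) =
      (if i = j then Wg k j.val else 1) * Wg k j.val ^ d (j, 0) := by
    intro j
    simp only [Finsupp.add_apply, Finsupp.single_apply, Prod.mk.injEq]
    by_cases hij : i = j
    · simp [hij, pow_add]
    · simp [hij]
  rw [Finset.prod_congr rfl (fun j _ => h1 j), Finset.prod_mul_distrib, Finset.prod_ite_eq]
  simp

/-- key multiplicativity -/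
theorem Lam_XX_mul (i : Fin n) (g : MvPolynomial (Fin n × Fin 2) k) :
    Lam k n (X (i, 0) * X (i, 1) * g) = Wg k i.val * Lam k n g := by
  induction g using MvPolynomial.induction_on' with
  | monomial d c =>
    have h1 : (X (i, 0) * X (i, 1) * monomial d c : MvPolynomial (Fin n × Fin 2) k) =
        monomial (Finsupp.single (i, 0) 1 + Finsupp.single (i, 1) 1 + d) c := by
      rw [X, X, monomial_mul, monomial_mul, one_mul, one_mul]
    rw [h1, Lam_monomial, Lam_monomial]
    by_cases hb : Bal n d
    · rw [if_pos hb, if_pos ((bal_add_iff n i d).2 hb), νmon_add, mul_smul_comm]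
    · rw [if_neg hb, if_neg (fun h => hb ((bal_add_iff n i d).1 h)), mul_zero]
  | add a b ha hb =>
    rw [mul_add, map_add, map_add, ha, hb, mul_add]

theorem Lam_one : Lam k n 1 = 1 := by
  have : (1 : MvPolynomial (Fin n × Fin 2) k) = monomial 0 1 := rfl
  have hb : Bal n 0 := fun i => rfl
  rw [this, Lam_monomial, if_pos hb, one_smul]
  unfold νmon
  simp

end Groth.Agent.Helper20.W2Q
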