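import Mathlib
import Groth.Agent.Lib.Helper20.W2quad2

open MvPolynomial

namespace Groth.Agent.Helper20.W2Q

universe u

section sums
variable (S : Type u) [CommRing S]

theorem sum_Wg_fun {M : Type*} [AddCommMonoid M] (F : MvPolynomial (Fin 2) S → M) (hF : F 0 = 0)
    {n : ℕ} (hn : 3 ≤ n) :
    ∑ i : Fin n, F (Wg S i.val) = F (X 0) + F (X 1) + F (-(X 0 + X 1)) := by
  rw [Fin.sum_univ_eq_sum_range (fun i => F (Wg S i)) n]
  have h1 : ∑ i ∈ Finset.range n, F (Wg S i) = ∑ i ∈ Finset.range 3, F (Wg S i) := by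
    symm
    apply Finset.sum_subset (Finset.range_subset_range.2 hn)
    intro i _ hi
    rw [Finset.mem_range, not_lt] at hi
    obtain ⟨j, rfl⟩ := Nat.exists_eq_add_of_le hi
    rw [show 3 + j = j + 3 by omega]
    exact hF
  rw [h1, Finset.sum_range_succ, Finset.sum_range_succ, Finset.sum_range_one]
  rfl

end sums

variable {k : Type u} [Field k] (p : ℕ) [Fact p.Prime] [CharP k p] (n : ℕ)

/-- the ideal `(u₁^p, u₂^p)` -/
noncomputable def J2 (k : Type u) [Field k] (p : ℕ) : Ideal (MvPolynomial (Fin 2) k) :=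
  Ideal.span {X 0 ^ p, X 1 ^ p}

theorem Wg_pow_mem (i : ℕ) : Wg k i ^ p ∈ J2 k p := by
  have hp0 : p ≠ 0 := (Fact.out : p.Prime).ne_zero
  match i with
  | 0 => exact Ideal.subset_span (by simp [Wg])
  | 1 => exact Ideal.subset_span (by simp [Wg])
  | 2 =>
    show (-(X 0 + X 1) : MvPolynomial (Fin 2) k) ^ p ∈ J2 k p
    rw [neg_pow, add_pow_char]
    apply Ideal.mul_mem_left
    exact Ideal.add_mem _ (Ideal.subset_span (by simp)) (Ideal.subset_span (by simp))
  | _ + 3 =>
    show (0 : MvPolynomial (Fin 2) k) ^ p ∈ J2 k p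
    rw [zero_pow hp0]
    exact Ideal.zero_mem _

theorem Lam_f_mul (hn : 3 ≤ n) (g : MvPolynomial (Fin n × Fin 2) k) :
    Lam k n ((∑ i : Fin n, X (i, (0 : Fin 2)) * X (i, (1 : Fin 2))) * g) = 0 := by
  rw [Finset.sum_mul, map_sum]
  simp_rw [Lam_XX_mul]
  rw [← Finset.sum_mul, sum_Wg k hn, zero_mul]

theorem Lam_Xpow_mul (v : Fin n × Fin 2) (g : MvPolynomial (Fin n × Fin 2) k) :
    Lam k n (X v ^ p * g) ∈ J2 k p := by
  induction g using MvPolynomial.induction_on' with
  | monomial d c =>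
    rw [X_pow_eq_monomial, monomial_mul, one_mul, Lam_monomial]
    split_ifs with hb
    · rw [MvPolynomial.smul_eq_C_mul]
      apply Ideal.mul_mem_left
      unfold νmon
      apply Ideal.prod_mem _ (Finset.mem_univ v.1)
      apply Ideal.pow_mem_of_pow_mem _ (Wg_pow_mem p _)
      obtain ⟨i, e⟩ := v
      have h1 := hb i
      simp only [Finsupp.add_apply, Finsupp.single_apply, Prod.mk.injEq] at h1 ⊢
      fin_cases e
      · simp
      · simp at h1
        omega
    · exact Ideal.zero_mem _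
  | add a b ha hb =>
    rw [mul_add, map_add]
    exact Ideal.add_mem _ ha hb

theorem Lam_aeval (q : MvPolynomial (Fin n) ℤ) (g : MvPolynomial (Fin n × Fin 2) k) :
    Lam k n (aeval (fun i : Fin n => (X (i, (0 : Fin 2)) * X (i, (1 : Fin 2)) :
        MvPolynomial (Fin n × Fin 2) k)) q * g) =
      aeval (fun i : Fin n => Wg k i.val) q * Lam k n g := by
  induction q using MvPolynomial.induction_on generalizing g with
  | C a =>
    rw [aeval_C, aeval_C, eq_intCast, eq_intCast, ← zsmul_eq_mul, ← zsmul_eq_mul, map_zsmul]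
  | add q r hq hr =>
    rw [map_add, map_add, add_mul, map_add, hq, hr, add_mul]
  | mul_X q i hq =>
    have e1 : aeval (fun i : Fin n => (X (i, (0 : Fin 2)) * X (i, (1 : Fin 2)) :
        MvPolynomial (Fin n × Fin 2) k)) (q * X i) =
        aeval (fun i : Fin n => (X (i, (0 : Fin 2)) * X (i, (1 : Fin 2)) :
        MvPolynomial (Fin n × Fin 2) k)) q * (X (i, 0) * X (i, 1)) := by
      rw [map_mul, aeval_X]
    have e2 : aeval (fun i : Fin n => Wg k i.val) (q * X i) =
        aeval (fun i : Fin n => Wg k i.val) q * Wg k i.val := by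
      rw [map_mul, aeval_X]
    rw [e1, e2, mul_assoc, hq, Lam_XX_mul, mul_assoc]

end Groth.Agent.Helper20.W2Q
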