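import Mathlib
import Groth.Agent.Lib.Helper20.W2quad3

open MvPolynomial

namespace Groth.Agent.Helper20.W2Q

universe u

/-- the test monomial `u₁^(p-1) u₂` -/
noncomputable def m0 (p : ℕ) : Fin 2 →₀ ℕ := Finsupp.single 0 (p - 1) + Finsupp.single 1 1

section coeffs
variable (S : Type u) [CommRing S] (p : ℕ) [hp : Fact p.Prime]

theorem coeff_m0_X0_pow : coeff (m0 p) ((X 0 : MvPolynomial (Fin 2) S) ^ p) = 0 := by
  rw [X_pow_eq_monomial, coeff_monomial, if_neg]
  intro h
  have := DFunLike.congr_fun h 1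
  simp [m0] at this

theorem coeff_m0_X1_pow : coeff (m0 p) ((X 1 : MvPolynomial (Fin 2) S) ^ p) = 0 := by
  rw [X_pow_eq_monomial, coeff_monomial, if_neg]
  intro h
  have := DFunLike.congr_fun h 0
  have hp2 := hp.out.two_le
  simp [m0] at this
  omega

theorem coeff_m0_add_pow :
    coeff (m0 p) ((X 0 + X 1 : MvPolynomial (Fin 2) S) ^ p) = (p : S) := by
  have hp2 := hp.out.two_le
  rw [add_pow, coeff_sum]
  have h1 : ∀ j ∈ Finset.range (p + 1),
      coeff (m0 p) ((X 0 : MvPolynomial (Fin 2) S) ^ j * X 1 ^ (p - j) * (p.choose j : MvPolynomial (Fin 2) S)) =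
        if j = p - 1 then ((p.choose j : ℕ) : S) else 0 := by
    intro j hj
    rw [Finset.mem_range] at hj
    have h2 : ((X 0 : MvPolynomial (Fin 2) S) ^ j * X 1 ^ (p - j) * (p.choose j : MvPolynomial (Fin 2) S)) =
        monomial (Finsupp.single 0 j + Finsupp.single 1 (p - j)) ((p.choose j : ℕ) : S) := by
      rw [X_pow_eq_monomial, X_pow_eq_monomial, monomial_mul, mul_one,
        show ((p.choose j : ℕ) : MvPolynomial (Fin 2) S) = C ((p.choose j : ℕ) : S) by simp,
        mul_comm, C_mul_monomial, mul_one]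
    rw [h2, coeff_monomial]
    by_cases hj1 : j = p - 1
    · rw [if_pos hj1, if_pos]
      subst hj1
      unfold m0
      congr 2
      omega
    · rw [if_neg hj1, if_neg]
      intro h
      have := DFunLike.congr_fun h 0
      simp [m0] at this
      exact hj1 this
  rw [Finset.sum_congr rfl h1, Finset.sum_ite_eq', if_pos (Finset.mem_range.2 (by omega))]
  congr 1
  have h3 := Nat.choose_symm (n := p) (k := 1) (by omega)
  rw [h3, Nat.choose_one_right]

theorem coeff_m0_of_mem_J2 {k : Type u} [Field k] {x : MvPolynomial (Fin 2) k}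
    (hx : x ∈ J2 k p) : coeff (m0 p) x = 0 := by
  have hp2 := hp.out.two_le
  unfold J2 at hx
  rw [Ideal.mem_span_pair] at hx
  obtain ⟨a, b, rfl⟩ := hx
  rw [coeff_add, X_pow_eq_monomial, X_pow_eq_monomial, coeff_mul_monomial', coeff_mul_monomial',
    if_neg, if_neg, add_zero]
  · intro h
    have := h 1
    simp [m0] at this
    omega
  · intro h
    have := h 0
    simp [m0] at this
    omega

end coeffs

end Groth.Agent.Helper20.W2Q
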