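import Mathlib
import Groth.Agent.Lib.Helper20.W2quad4

open MvPolynomial

namespace Groth.Agent.Helper20.W2Q

universe u
variable {k : Type u} [Field k] (p : ℕ) [hp : Fact p.Prime] [CharP k p] (n : ℕ)

variable (k) in
/-- the ideal `(Σ xᵢyᵢ, xᵢ^p, yᵢ^p)` -/
noncomputable abbrev Iq : Ideal (MvPolynomial (Fin n × Fin 2) k) :=
  Ideal.span (insert (∑ i : Fin n, X (i, (0 : Fin 2)) * X (i, (1 : Fin 2)))
    (Set.range fun v : Fin n × Fin 2 => (X v : MvPolynomial (Fin n × Fin 2) k) ^ p))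

theorem Lam_mem_of_mem (hn : 3 ≤ n) {x : MvPolynomial (Fin n × Fin 2) k} (hx : x ∈ Iq k p n) :
    ∀ r, Lam k n (r * x) ∈ J2 k p := by
  induction hx using Submodule.span_induction with
  | mem y hy =>
    intro r
    rcases hy with rfl | ⟨v, rfl⟩
    · rw [mul_comm, Lam_f_mul n hn]
      exact zero_mem _
    · rw [mul_comm]
      exact Lam_Xpow_mul p n v r
  | zero =>
    intro r
    rw [mul_zero, map_zero]
    exact zero_mem _
  | add y z _ _ hy hz =>
    intro r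
    rw [mul_add, map_add]
    exact add_mem (hy r) (hz r)
  | smul a y _ hy =>
    intro r
    rw [smul_eq_mul, ← mul_assoc]
    exact hy (r * a)

theorem aeval_Wg_cast (Q : MvPolynomial (Fin n) ℤ) :
    aeval (fun i : Fin n => Wg k i.val) Q =
      MvPolynomial.map (Int.castRingHom k) (aeval (fun i : Fin n => Wg ℤ i.val) Q) := by
  have h2 : (fun i : Fin n => Wg k i.val) =
      (fun i : Fin n => (MvPolynomial.map (Int.castRingHom k)) (Wg ℤ i.val)) := by
    funext i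
    exact (Wg_map ℤ (Int.castRingHom k) i.val).symm
  rw [MvPolynomial.map_aeval, MvPolynomial.aeval_eq_eval₂Hom, h2]
  have h3 : algebraMap ℤ (MvPolynomial (Fin 2) k) =
      (MvPolynomial.map (Int.castRingHom k)).comp (algebraMap ℤ (MvPolynomial (Fin 2) ℤ)) :=
    Subsingleton.elim _ _
  rw [h3]

theorem coeff_Y (hn : 3 ≤ n) (Q : MvPolynomial (Fin n) ℤ)
    (hQ : (∑ i : Fin n, X i) ^ p = ∑ i : Fin n, X i ^ p + (p : MvPolynomial (Fin n) ℤ) * Q) :
    coeff (m0 p) (aeval (fun i : Fin n => Wg ℤ i.val) Q) = (-1) ^ (p + 1) := by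
  have hp0 : p ≠ 0 := hp.out.ne_zero
  have h := congrArg (aeval (fun i : Fin n => Wg ℤ i.val)) hQ
  rw [map_pow, map_sum, map_add, map_sum, map_mul, map_natCast] at h
  simp only [aeval_X, map_pow] at h
  rw [sum_Wg ℤ hn, zero_pow hp0, sum_Wg_fun ℤ (fun w => w ^ p) (zero_pow hp0) hn] at h
  have h2 := congrArg (coeff (m0 p)) h
  rw [coeff_zero, coeff_add, coeff_add, coeff_add, coeff_m0_X0_pow, coeff_m0_X1_pow, zero_add,
    zero_add, neg_pow, show ((-1 : MvPolynomial (Fin 2) ℤ) ^ p) = C ((-1 : ℤ) ^ p) by simp,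
    coeff_C_mul, coeff_m0_add_pow,
    show ((p : ℕ) : MvPolynomial (Fin 2) ℤ) = C ((p : ℕ) : ℤ) by simp, coeff_C_mul] at h2
  have hpz : ((p : ℕ) : ℤ) ≠ 0 := by exact_mod_cast hp0
  have h3 : ((p : ℕ) : ℤ) * (coeff (m0 p) (aeval (fun i : Fin n => Wg ℤ i.val) Q) - (-1) ^ (p + 1)) = 0 := by
    rw [pow_succ]
    linear_combination -h2
  rcases mul_eq_zero.1 h3 with h4 | h4
  · exact absurd h4 hpz
  · exact sub_eq_zero.1 h4

theorem not_mem (hn : 3 ≤ n) (Q : MvPolynomial (Fin n) ℤ)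
    (hQ : (∑ i : Fin n, X i) ^ p = ∑ i : Fin n, X i ^ p + (p : MvPolynomial (Fin n) ℤ) * Q) :
    aeval (fun i : Fin n => (X (i, (0 : Fin 2)) * X (i, (1 : Fin 2)) :
      MvPolynomial (Fin n × Fin 2) k)) Q ∉ Iq k p n := by
  intro hmem
  have h1 := Lam_mem_of_mem p n hn hmem 1
  rw [one_mul] at h1
  have h1' := Lam_aeval (k := k) n Q 1
  rw [mul_one, Lam_one, mul_one] at h1'
  rw [h1', aeval_Wg_cast] at h1
  have h2 := coeff_m0_of_mem_J2 p h1
  rw [coeff_map, coeff_Y p n hn Q hQ] at h2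
  simp only [eq_intCast, Int.cast_pow, Int.cast_neg, Int.cast_one] at h2
  exact pow_ne_zero _ (neg_ne_zero.2 one_ne_zero) h2

end Groth.Agent.Helper20.W2Q
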