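import Mathlib
import Groth.Agent.Lib.Helper20.W2quad5
import Groth.Agent.Lib.Helper20.W2lift

open MvPolynomial

namespace Groth.Agent.Helper20.W2Q

universe u

theorem sum_pow_prime (p : ℕ) [hp : Fact p.Prime] {S : Type*} [CommRing S] {ι : Type*}
    (s : Finset ι) (z : ι → S) :
    ∃ r : S, (∑ i ∈ s, z i) ^ p = ∑ i ∈ s, z i ^ p + (p : S) * r := by
  classical
  induction s using Finset.induction_on with
  | empty =>
    exact ⟨0, by simp [zero_pow hp.out.ne_zero]⟩
  | insert a s ha ih =>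
    obtain ⟨r, hr⟩ := ih
    obtain ⟨r', hr'⟩ := exists_add_pow_prime_eq hp.out (z a) (∑ i ∈ s, z i)
    refine ⟨r + z a * (∑ i ∈ s, z i) * r', ?_⟩
    rw [Finset.sum_insert ha, Finset.sum_insert ha, hr', hr]
    ring

open Groth.Agent.Helper20.W2 in
theorem not_liftable {k : Type u} [Field k] (p : ℕ) [hp : Fact p.Prime] [CharP k p]
    [PerfectRing k p] (n : ℕ) (hn : 3 ≤ n) :
    ¬ FrobAlg.IsW2Liftable p k (MvPolynomial (Fin n × Fin 2) k ⧸ Iq k p n) := by
  rintro ⟨A', _, ι, π, hL⟩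
  have hp2 := hp.out.two_le
  obtain ⟨Q, hQ⟩ := sum_pow_prime p (Finset.univ : Finset (Fin n))
    (fun i => (X i : MvPolynomial (Fin n) ℤ))
  have hX : ∀ v : Fin n × Fin 2, ∃ a : A', π a = Ideal.Quotient.mk (Iq k p n) (X v) :=
    fun v => hL.surj _
  choose T hT using hX
  have e := congrArg (aeval (fun i : Fin n => T (i, 0) * T (i, 1))) hQ
  rw [map_pow, map_sum, map_add, map_sum, map_mul, map_natCast] at e
  simp only [aeval_X, map_pow] at e
  -- the powers vanish
  have hpp : ∀ a b : A', (a * ((p : ℕ) : A')) * (b * ((p : ℕ) : A')) = 0 := by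
    intro a b
    have := p_mul_p_B (p := p) (k := k) ι
    calc (a * ((p : ℕ) : A')) * (b * ((p : ℕ) : A')) = a * b * (((p : ℕ) : A') * ((p : ℕ) : A')) := by ring
      _ = 0 := by rw [this, mul_zero]
  have hker : ∀ x : A', π x = 0 → ∃ c, c * ((p : ℕ) : A') = x := by
    intro x hx
    rw [← RingHom.mem_ker, ker_pi hL, Ideal.mem_span_singleton'] at hx
    exact hx
  have h1 : (∑ i : Fin n, T (i, 0) * T (i, 1)) ^ p = 0 := by
    have h2' : π (∑ i : Fin n, T (i, 0) * T (i, 1)) = Ideal.Quotient.mk (Iq k p n)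
        (∑ i : Fin n, X (i, (0 : Fin 2)) * X (i, (1 : Fin 2))) := by
      rw [map_sum, map_sum]
      apply Finset.sum_congr rfl
      intro i _
      rw [map_mul, map_mul, hT, hT]
    have h2 : π (∑ i : Fin n, T (i, 0) * T (i, 1)) = 0 := by
      rw [h2', Ideal.Quotient.eq_zero_iff_mem]
      exact Ideal.subset_span (Set.mem_insert _ _)
    obtain ⟨c, hc⟩ := hker _ h2
    rw [← hc]
    have hsq := pow_two (c * ((p : ℕ) : A'))
    rw [hpp] at hsq
    exact pow_eq_zero_of_le hp2 hsq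
  have h3 : ∀ v : Fin n × Fin 2, ∃ c, c * ((p : ℕ) : A') = T v ^ p := by
    intro v
    apply hker
    rw [map_pow, hT, ← map_pow, Ideal.Quotient.eq_zero_iff_mem]
    exact Ideal.subset_span (Set.mem_insert_of_mem _ ⟨v, rfl⟩)
  have h4 : ∑ i : Fin n, (T (i, 0) * T (i, 1)) ^ p = 0 := by
    apply Finset.sum_eq_zero
    intro i _
    obtain ⟨c, hc⟩ := h3 (i, 0)
    obtain ⟨c', hc'⟩ := h3 (i, 1)
    rw [mul_pow, ← hc, ← hc', hpp]
  rw [h1, h4, zero_add] at e
  have h5 := pi_eq_zero_of_p_mul hL _ e.symm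
  -- transport to the quotient
  have h6 : π (aeval (fun i : Fin n => T (i, 0) * T (i, 1)) Q) =
      Ideal.Quotient.mk (Iq k p n) (aeval (fun i : Fin n =>
        (X (i, (0 : Fin 2)) * X (i, (1 : Fin 2)) : MvPolynomial (Fin n × Fin 2) k)) Q) := by
    rw [MvPolynomial.map_aeval, MvPolynomial.map_aeval]
    have e1 : π.comp (algebraMap ℤ A') = (Ideal.Quotient.mk (Iq k p n)).comp
        (algebraMap ℤ (MvPolynomial (Fin n × Fin 2) k)) := Subsingleton.elim _ _
    have e2 : (fun i : Fin n => π (T (i, 0) * T (i, 1))) =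
        (fun i : Fin n => Ideal.Quotient.mk (Iq k p n)
          (X (i, (0 : Fin 2)) * X (i, (1 : Fin 2)))) := by
      funext i
      rw [map_mul, map_mul, hT, hT]
    rw [e1, e2]
  rw [h6, Ideal.Quotient.eq_zero_iff_mem] at h5
  exact not_mem p n hn Q hQ h5

end Groth.Agent.Helper20.W2Q
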