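import Mathlib
import Groth.Agent.Lib.Helper20.W2quad6

open MvPolynomial

namespace Groth.Agent.Helper20.W2Q

universe u
variable {k : Type u} [Field k] (p : ℕ) [hp : Fact p.Prime] [CharP k p] (n : ℕ)

theorem pow_p_mem (g : MvPolynomial (Fin n × Fin 2) k) :
    ∃ c : k, g ^ p - C c ∈ Iq k p n := by
  induction g using MvPolynomial.induction_on' with
  | monomial d c =>
    by_cases hd : d = 0
    · subst hd
      refine ⟨c ^ p, ?_⟩
      rw [monomial_pow, smul_zero, ← C_apply, sub_self]
      exact zero_mem _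
    · refine ⟨0, ?_⟩
      rw [map_zero, sub_zero, monomial_pow]
      obtain ⟨v, hv⟩ : ∃ v, d v ≠ 0 := by
        by_contra h
        push Not at h
        exact hd (Finsupp.ext h)
      have h1 : p • d = Finsupp.single v p + (p • d - Finsupp.single v p) := by
        rw [add_tsub_cancel_of_le]
        intro w
        simp only [Finsupp.single_apply, Finsupp.smul_apply, smul_eq_mul]
        split_ifs with hw
        · subst hw
          exact Nat.le_mul_of_pos_right p (Nat.pos_of_ne_zero hv)
        · exact Nat.zero_le _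
      rw [h1, ← one_mul (c ^ p), ← monomial_mul, ← X_pow_eq_monomial]
      exact Ideal.mul_mem_right _ _ (Ideal.subset_span (Set.mem_insert_of_mem _ ⟨v, rfl⟩))
  | add a b ha hb =>
    obtain ⟨c, hc⟩ := ha
    obtain ⟨c', hc'⟩ := hb
    refine ⟨c + c', ?_⟩
    rw [add_pow_char, map_add]
    have := Ideal.add_mem _ hc hc'
    convert this using 1
    ring

theorem Lam_C (c : k) : Lam k n (C c) = C c := by
  have hb : Bal n 0 := fun i => rfl
  have h1 : νmon k n 0 = 1 := by unfold νmon; simp
  rw [← monomial_zero', Lam_monomial, if_pos hb, h1, MvPolynomial.smul_eq_C_mul, mul_one]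

theorem not_mem' (hn : 3 ≤ n) (Q : MvPolynomial (Fin n) ℤ)
    (hQ : (∑ i : Fin n, X i) ^ p = ∑ i : Fin n, X i ^ p + (p : MvPolynomial (Fin n) ℤ) * Q)
    (c : k) :
    aeval (fun i : Fin n => (X (i, (0 : Fin 2)) * X (i, (1 : Fin 2)) :
      MvPolynomial (Fin n × Fin 2) k)) Q + C c ∉ Iq k p n := by
  intro hmem
  have h1 := Lam_mem_of_mem p n hn hmem 1
  rw [one_mul, map_add, Lam_C] at h1
  have h1' := Lam_aeval (k := k) n Q 1
  rw [mul_one, Lam_one, mul_one] at h1'
  rw [h1', aeval_Wg_cast] at h1
  have h2 := coeff_m0_of_mem_J2 p h1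
  have h3 : coeff (m0 p) (C c : MvPolynomial (Fin 2) k) = 0 := by
    rw [coeff_C, if_neg]
    intro h
    have := DFunLike.congr_fun h 1
    simp [m0] at this
  rw [coeff_add, h3, add_zero, coeff_map, coeff_Y p n hn Q hQ] at h2
  simp only [eq_intCast, Int.cast_pow, Int.cast_neg, Int.cast_one] at h2
  exact pow_ne_zero _ (neg_ne_zero.2 one_ne_zero) h2

end Groth.Agent.Helper20.W2Q
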