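import Mathlib
import Groth.Agent.Lib.Helper20.W2quad7

open MvPolynomial

namespace Groth.Agent.Helper20.W2Q

universe u

open Groth.Agent.Helper20.W2 in
theorem not_fliftable_aux {k : Type u} [Field k] (p : ℕ) [hp : Fact p.Prime] [CharP k p]
    [PerfectRing k p] (n : ℕ) (hn : 3 ≤ n) (If : Ideal (MvPolynomial (Fin n × Fin 2) k))
    (hf : (∑ i : Fin n, X (i, (0 : Fin 2)) * X (i, (1 : Fin 2)) :
          MvPolynomial (Fin n × Fin 2) k) ∈ If) (hle : If ≤ Iq k p n) :
    ¬ FrobAlg.IsFLiftable p k (MvPolynomial (Fin n × Fin 2) k ⧸ If) := by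
  rintro ⟨A', _, ι, π, Φ, hΦ⟩
  have hL := hΦ.toIsLift
  have hp2 := hp.out.two_le
  obtain ⟨Q, hQ⟩ := sum_pow_prime p (Finset.univ : Finset (Fin n))
    (fun i => (X i : MvPolynomial (Fin n) ℤ))
  have hX : ∀ v : Fin n × Fin 2, ∃ a : A', π a = Ideal.Quotient.mk If (X v) :=
    fun v => hL.surj _
  choose T hT using hX
  have e := congrArg (aeval (fun i : Fin n => T (i, 0) * T (i, 1))) hQ
  rw [map_pow, map_sum, map_add, map_sum, map_mul, map_natCast] at e
  simp only [aeval_X, map_pow] at e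
  have hpp : ((p : ℕ) : A') * ((p : ℕ) : A') = 0 := p_mul_p_B (p := p) (k := k) ι
  have hker : ∀ x : A', π x = 0 → ∃ c, ((p : ℕ) : A') * c = x := by
    intro x hx
    rw [← RingHom.mem_ker, ker_pi hL, Ideal.mem_span_singleton'] at hx
    obtain ⟨c, hc⟩ := hx
    exact ⟨c, by rw [mul_comm]; exact hc⟩
  -- F = Σ T T = p G
  have h2' : π (∑ i : Fin n, T (i, 0) * T (i, 1)) = Ideal.Quotient.mk If
      (∑ i : Fin n, X (i, (0 : Fin 2)) * X (i, (1 : Fin 2))) := by
    rw [map_sum, map_sum]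
    apply Finset.sum_congr rfl
    intro i _
    rw [map_mul, map_mul, hT, hT]
  have h2 : π (∑ i : Fin n, T (i, 0) * T (i, 1)) = 0 := by
    rw [h2', Ideal.Quotient.eq_zero_iff_mem]
    exact hf
  obtain ⟨G, hG⟩ := hker _ h2
  have hFp : (∑ i : Fin n, T (i, 0) * T (i, 1)) ^ p = 0 := by
    rw [← hG]
    have hsq := pow_two (((p : ℕ) : A') * G)
    rw [mul_mul_mul_comm, hpp, zero_mul] at hsq
    exact pow_eq_zero_of_le hp2 hsq
  -- Frobenius residues
  have hH : ∀ x : A', ∃ c, ((p : ℕ) : A') * c = Φ x - x ^ p := by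
    intro x
    apply hker
    rw [map_sub, hΦ.red, map_pow, sub_self]
  choose H hH using hH
  have hΦ' : ∀ x : A', Φ x = x ^ p + ((p : ℕ) : A') * H x := by
    intro x
    rw [hH]
    ring
  -- compute Φ F in two ways
  have hΦF1 : Φ (∑ i : Fin n, T (i, 0) * T (i, 1)) = ((p : ℕ) : A') * G ^ p := by
    rw [← hG, map_mul, map_natCast, hΦ' G, mul_add, ← mul_assoc, hpp, zero_mul, add_zero]
  have hΦF2 : Φ (∑ i : Fin n, T (i, 0) * T (i, 1)) =
      ∑ i : Fin n, (T (i, 0) * T (i, 1)) ^ p + ((p : ℕ) : A') *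
        ∑ i : Fin n, (T (i, 0) ^ p * H (T (i, 1)) + T (i, 1) ^ p * H (T (i, 0))) := by
    rw [map_sum, Finset.mul_sum, ← Finset.sum_add_distrib]
    apply Finset.sum_congr rfl
    intro i _
    rw [map_mul, hΦ' (T (i, 0)), hΦ' (T (i, 1)), mul_pow]
    have : (T (i, 0) ^ p + ((p : ℕ) : A') * H (T (i, 0))) * (T (i, 1) ^ p + ((p : ℕ) : A') * H (T (i, 1))) =
        T (i, 0) ^ p * T (i, 1) ^ p + ((p : ℕ) : A') * (T (i, 0) ^ p * H (T (i, 1)) + T (i, 1) ^ p * H (T (i, 0)))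
        + (((p : ℕ) : A') * ((p : ℕ) : A')) * (H (T (i, 0)) * H (T (i, 1))) := by ring
    rw [this, hpp, zero_mul, add_zero]
  have hkey : ((p : ℕ) : A') * (G ^ p + aeval (fun i : Fin n => T (i, 0) * T (i, 1)) Q -
      ∑ i : Fin n, (T (i, 0) ^ p * H (T (i, 1)) + T (i, 1) ^ p * H (T (i, 0)))) = 0 := by
    rw [hFp] at e
    have e' := hΦF1.symm.trans hΦF2
    linear_combination e' - e
  have h5 := pi_eq_zero_of_p_mul hL _ hkey
  -- transport to the polynomial ring
  obtain ⟨g, hg⟩ := Ideal.Quotient.mk_surjective (I := If) (π G)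
  have hh : ∀ v, ∃ h', Ideal.Quotient.mk If h' = π (H (T v)) :=
    fun v => Ideal.Quotient.mk_surjective _
  choose h' hh' using hh
  have h6 : π (aeval (fun i : Fin n => T (i, 0) * T (i, 1)) Q) =
      Ideal.Quotient.mk If (aeval (fun i : Fin n =>
        (X (i, (0 : Fin 2)) * X (i, (1 : Fin 2)) : MvPolynomial (Fin n × Fin 2) k)) Q) := by
    rw [MvPolynomial.map_aeval, MvPolynomial.map_aeval]
    have e1 : π.comp (algebraMap ℤ A') = (Ideal.Quotient.mk If).comp
        (algebraMap ℤ (MvPolynomial (Fin n × Fin 2) k)) := Subsingleton.elim _ _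
    have e2 : (fun i : Fin n => π (T (i, 0) * T (i, 1))) =
        (fun i : Fin n => Ideal.Quotient.mk If
          (X (i, (0 : Fin 2)) * X (i, (1 : Fin 2)))) := by
      funext i
      rw [map_mul, map_mul, hT, hT]
    rw [e1, e2]
  have h7 : π (G ^ p + aeval (fun i : Fin n => T (i, 0) * T (i, 1)) Q -
      ∑ i : Fin n, (T (i, 0) ^ p * H (T (i, 1)) + T (i, 1) ^ p * H (T (i, 0)))) =
      Ideal.Quotient.mk If (g ^ p + aeval (fun i : Fin n =>
        (X (i, (0 : Fin 2)) * X (i, (1 : Fin 2)) : MvPolynomial (Fin n × Fin 2) k)) Q -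
        ∑ i : Fin n, (X (i, 0) ^ p * h' (i, 1) + X (i, 1) ^ p * h' (i, 0))) := by
    rw [map_sub, map_add, map_pow, h6, map_sum, map_sub, map_add, map_pow, hg, map_sum]
    congr 1
    apply Finset.sum_congr rfl
    intro i _
    rw [map_add, map_mul, map_mul, map_pow, map_pow, hT, hT, map_add, map_mul, map_mul, map_pow,
      map_pow, hh', hh']
  rw [h7, Ideal.Quotient.eq_zero_iff_mem] at h5
  have h8 := hle h5
  obtain ⟨c, hc⟩ := pow_p_mem p n g
  have h9 : ∑ i : Fin n, ((X (i, 0) : MvPolynomial (Fin n × Fin 2) k) ^ p * h' (i, 1) +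
      X (i, 1) ^ p * h' (i, 0)) ∈ Iq k p n := by
    apply Ideal.sum_mem
    intro i _
    exact Ideal.add_mem _
      (Ideal.mul_mem_right _ _ (Ideal.subset_span (Set.mem_insert_of_mem _ ⟨(i, 0), rfl⟩)))
      (Ideal.mul_mem_right _ _ (Ideal.subset_span (Set.mem_insert_of_mem _ ⟨(i, 1), rfl⟩)))
  have h10 : aeval (fun i : Fin n => (X (i, (0 : Fin 2)) * X (i, (1 : Fin 2)) :
      MvPolynomial (Fin n × Fin 2) k)) Q + C c ∈ Iq k p n := by
    have := Ideal.sub_mem _ (Ideal.add_mem _ h8 h9) hc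
    convert this using 1
    ring
  exact not_mem' p n hn Q hQ c h10

theorem not_fliftable {k : Type u} [Field k] (p : ℕ) [hp : Fact p.Prime] [CharP k p]
    [PerfectRing k p] (n : ℕ) (hn : 3 ≤ n) :
    ¬ FrobAlg.IsFLiftable p k (MvPolynomial (Fin n × Fin 2) k ⧸ Ideal.span
        {(∑ i : Fin n, X (i, (0 : Fin 2)) * X (i, (1 : Fin 2)) :
          MvPolynomial (Fin n × Fin 2) k)}) :=
  not_fliftable_aux p n hn _ (Ideal.subset_span rfl)
    (Ideal.span_mono (Set.singleton_subset_iff.2 (Set.mem_insert _ _)))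

end Groth.Agent.Helper20.W2Q
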