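import Mathlib
import Groth.Agent.Lib.Helper20.W2form
import Groth.Agent.Lib.Helper20.W2frob

open WittVector

namespace Groth.Agent.Helper20.W2

universe u
variable {p : ℕ} [Fact p.Prime] {k : Type u} [Field k] [CharP k p] [PerfectRing k p]
  {A B : Type u} [CommRing A] [CommRing B] [Algebra k A] [Algebra k B]
  [Algebra A B] [IsScalarTower k A B]

/-- descending a map to `W₂(B)` along an `A`-linear retraction -/
theorem exists_theta_of_retraction (r : B →ₗ[A] A) (hr : ∀ a : A, r (algebraMap A B a) = a)
    {A' : Type u} [CommRing A'] (ιA : FrobAlg.W2 p k →+* A') (πA : A' →+* A)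
    (hcomm : πA.comp ιA = (algebraMap k A).comp (FrobAlg.res p k))
    (ψ : A' →+* FrobAlg.W2 p B)
    (hψ0 : ∀ a', (ψ a').coeff 0 = algebraMap A B (πA a'))
    (hψι : ψ.comp ιA = WittGrp.truncMap p 2 (algebraMap k B)) :
    ∃ θ : A' →+* FrobAlg.W2 p A,
      (FrobAlg.res p A).comp θ = πA ∧ θ.comp ιA = WittGrp.truncMap p 2 (algebraMap k A) := by
  have hpA : ((p : ℕ) : A) = 0 := p_eq_zero_A p k A
  have hlin : ∀ (x : A) (y : B), r (algebraMap A B x ^ p * y) = x ^ p * r y := by
    intro x y
    rw [← map_pow, ← Algebra.smul_def, map_smul, smul_eq_mul]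
  let θ : A' →+* FrobAlg.W2 p A :=
    { toFun := fun a' => mk2 p (πA a') (r ((ψ a').coeff 1))
      map_one' := by
        rw [map_one, map_one, coeff_one_one, map_zero, mk2_one]
      map_zero' := by
        rw [map_zero, map_zero, TruncatedWittVector.coeff_zero, map_zero, mk2_zero]
      map_add' := by
        intro a b
        apply ext2
        · rw [mk2_coeff_zero, coeff_zero_add, mk2_coeff_zero, mk2_coeff_zero, map_add]
        · rw [mk2_coeff_one, coeff_one_add, mk2_coeff_one, mk2_coeff_one, mk2_coeff_zero,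
            mk2_coeff_zero, map_add ψ, coeff_one_add, hψ0, hψ0, ← carry_map, map_add, map_add, hr]
      map_mul' := by
        intro a b
        apply ext2
        · rw [mk2_coeff_zero, coeff_zero_mul, mk2_coeff_zero, mk2_coeff_zero, map_mul]
        · rw [mk2_coeff_one, coeff_one_mul' hpA, mk2_coeff_one, mk2_coeff_one, mk2_coeff_zero,
            mk2_coeff_zero, map_mul ψ, coeff_one_mul' (p_eq_zero_A p k B), hψ0, hψ0, map_add,
            hlin, hlin] }
  have hθ : ∀ a', θ a' = mk2 p (πA a') (r ((ψ a').coeff 1)) := fun _ => rfl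
  refine ⟨θ, ?_, ?_⟩
  · ext a'
    rw [RingHom.comp_apply, FrobAlg.res_apply, hθ, mk2_coeff_zero]
  · refine RingHom.ext fun y => ?_
    rw [RingHom.comp_apply, hθ]
    have h1 := congrArg (fun f => f y) hcomm
    simp only [RingHom.comp_apply, FrobAlg.res_apply] at h1
    have h2 := congrArg (fun f => f y) hψι
    simp only [RingHom.comp_apply] at h2
    apply ext2
    · rw [mk2_coeff_zero, WittGrp.coeff_truncMap, h1]
    · rw [mk2_coeff_one, WittGrp.coeff_truncMap, h2, WittGrp.coeff_truncMap,
        IsScalarTower.algebraMap_apply k A B, hr]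

end Groth.Agent.Helper20.W2
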