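import Mathlib
import Groth.Agent.Lib.Helper20.W2
import Groth.Agent.Lib.Helper20.W2k
import Groth.Agent.Lib.Helper20.W2flat

open WittVector

namespace Groth.Agent.Helper20.W2

universe u

section split
variable {p : ℕ} [Fact p.Prime] {A : Type u} [CommRing A] [CharP A p] (φ : A →+ A)
  (hφ : ∀ a b : A, φ (a ^ p * b) = a * φ b) (hφ1 : φ 1 = 1)

include hφ in
theorem mem_splitIdeal_iff (x : FrobAlg.W2 p A) :
    x ∈ FrobAlg.splitIdeal p A φ ↔ x.coeff 0 = 0 ∧ φ (x.coeff 1) = 0 := by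
  constructor
  · intro hx
    unfold FrobAlg.splitIdeal at hx
    induction hx using Submodule.span_induction with
    | mem y hy => exact ⟨by simpa only [FrobAlg.res_apply] using hy.1, hy.2⟩
    | zero => exact ⟨TruncatedWittVector.coeff_zero _ _ _ _, by
        rw [TruncatedWittVector.coeff_zero, map_zero]⟩
    | add y z _ _ hy hz =>
      refine ⟨by rw [coeff_zero_add, hy.1, hz.1, add_zero], ?_⟩
      rw [coeff_one_add_of_coeff_zero hy.1 hz.1, map_add, hy.2, hz.2, add_zero]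
    | smul a y _ hy =>
      rw [smul_eq_mul]
      refine ⟨by rw [coeff_zero_mul, hy.1, mul_zero], ?_⟩
      rw [coeff_one_mul_of_coeff_zero a hy.1, hφ, hy.2, mul_zero]
  · intro h
    exact Ideal.subset_span ⟨by simpa only [FrobAlg.res_apply] using h.1, h.2⟩

include hφ hφ1 in
theorem mk_eq_p_mul {x : FrobAlg.W2 p A} (hx : x.coeff 0 = 0) :
    Ideal.Quotient.mk (FrobAlg.splitIdeal p A φ) x =
      ((p : ℕ) : FrobAlg.W2 p A ⧸ FrobAlg.splitIdeal p A φ) *
        Ideal.Quotient.mk (FrobAlg.splitIdeal p A φ) (mk2 p (φ (x.coeff 1)) 0) := by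
  rw [← map_natCast (Ideal.Quotient.mk (FrobAlg.splitIdeal p A φ)), ← map_mul, Ideal.Quotient.eq,
    mem_splitIdeal_iff φ hφ]
  refine ⟨by rw [coeff_zero_sub, hx, coeff_zero_p_mul, sub_zero], ?_⟩
  rw [coeff_one_sub_of_coeff_zero hx (coeff_zero_p_mul _), coeff_one_p_mul, mk2_coeff_zero,
    map_sub]
  have := hφ (φ (x.coeff 1)) 1
  rw [mul_one, hφ1, mul_one] at this
  rw [this, sub_self]

include hφ hφ1 in
theorem coeff_zero_eq_zero_of_p_mul_mem {x : FrobAlg.W2 p A}
    (hx : ((p : ℕ) : FrobAlg.W2 p A) * x ∈ FrobAlg.splitIdeal p A φ) : x.coeff 0 = 0 := by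
  have h1 := ((mem_splitIdeal_iff φ hφ _).1 hx).2
  rw [coeff_one_p_mul] at h1
  have := hφ (x.coeff 0) 1
  rw [mul_one, hφ1, mul_one] at this
  rw [← this, h1]

end split

end Groth.Agent.Helper20.W2
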