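import Mathlib
import Groth.Agent.Lib.Helper12.GeomBranches

/-!
# Equality case of the inequality `#branches ≤ δ + 1`
-/

set_option autoImplicit false
universe u

namespace Groth.Agent.Helper20.WedgeA

open Groth.Agent.Helper12.GeomBranches

variable {A : Type u} [CommRing A] [IsLocalRing A] {B : Type u} [CommRing B] [Algebra A B]

theorem core (S : Finset (MaximalSpectrum B))
    (hS : ∀ m' ∈ S, ∀ a ∈ IsLocalRing.maximalIdeal A, algebraMap A B a ∈ m'.asIdeal) :
    (∑ i : {m' // m' ∈ S}, Module.length A (B ⧸ i.1.asIdeal) ≤ 1 + δ' A B) ∧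
    (∑ i : {m' // m' ∈ S}, Module.length A (B ⧸ i.1.asIdeal) = 1 + δ' A B → δ' A B ≠ ⊤ →
      ∀ b : B, (∀ m' ∈ S, b ∈ m'.asIdeal) → b ∈ LinearMap.range (Algebra.linearMap A B)) := by
  classical
  let I : {m' // m' ∈ S} → Ideal B := fun i => i.1.asIdeal
  have hcop : Pairwise (Function.onFun IsCoprime I) := by
    intro i j hij
    haveI := i.1.isMaximal
    haveI := j.1.isMaximal
    apply Ideal.isCoprime_of_isMaximal
    intro h
    exact hij (Subtype.ext (MaximalSpectrum.ext h))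
  let g : B →ₗ[A] (∀ i : {m' // m' ∈ S}, B ⧸ I i) :=
    LinearMap.pi (fun i => (Ideal.Quotient.mkₐ A (I i)).toLinearMap)
  have hg : Function.Surjective g := by
    intro y
    obtain ⟨x', hx'⟩ := Ideal.quotientInfToPiQuotient_surj hcop y
    obtain ⟨x, rfl⟩ := Ideal.Quotient.mk_surjective x'
    refine ⟨x, ?_⟩
    rw [← hx']
    funext i
    rfl
  let h : A →ₗ[A] (∀ i : {m' // m' ∈ S}, B ⧸ I i) := g ∘ₗ Algebra.linearMap A B
  let N₀ : Submodule A (∀ i : {m' // m' ∈ S}, B ⧸ I i) := LinearMap.range h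
  have hlen : Module.length A (∀ i : {m' // m' ∈ S}, B ⧸ I i) =
      Module.length A N₀ + Module.length A ((∀ i : {m' // m' ∈ S}, B ⧸ I i) ⧸ N₀) :=
    Module.length_eq_add_of_exact N₀.subtype N₀.mkQ N₀.injective_subtype
      N₀.mkQ_surjective (LinearMap.exact_subtype_mkQ N₀)
  have h1 : Module.length A N₀ ≤ 1 := by
    have hk : IsLocalRing.maximalIdeal A ≤ LinearMap.ker h.rangeRestrict := by
      intro a ha
      rw [LinearMap.mem_ker]
      apply Subtype.ext
      funext i
      exact Ideal.Quotient.eq_zero_iff_mem.mpr (hS i.1 i.2 a ha)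
    let h' : (A ⧸ IsLocalRing.maximalIdeal A) →ₗ[A] N₀ :=
      Submodule.liftQ _ h.rangeRestrict hk
    have hh' : Function.Surjective h' := by
      intro y
      obtain ⟨a, ha⟩ := h.surjective_rangeRestrict y
      exact ⟨Submodule.Quotient.mk a, ha⟩
    exact (Module.length_le_of_surjective h' hh').trans length_residueField_le_one
  have hle : LinearMap.range (Algebra.linearMap A B) ≤ N₀.comap g := by
    rintro _ ⟨a, rfl⟩
    exact ⟨a, rfl⟩
  let ψ : (B ⧸ LinearMap.range (Algebra.linearMap A B)) →ₗ[A]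
      ((∀ i : {m' // m' ∈ S}, B ⧸ I i) ⧸ N₀) := Submodule.mapQ _ N₀ g hle
  have hψ : Function.Surjective ψ := by
    intro y
    obtain ⟨n, rfl⟩ := Submodule.Quotient.mk_surjective _ y
    obtain ⟨b, rfl⟩ := hg n
    exact ⟨Submodule.Quotient.mk b, rfl⟩
  have h2 : Module.length A ((∀ i : {m' // m' ∈ S}, B ⧸ I i) ⧸ N₀) ≤ δ' A B :=
    Module.length_le_of_surjective ψ hψ
  have hsum : ∑ i : {m' // m' ∈ S}, Module.length A (B ⧸ i.1.asIdeal) =
      Module.length A N₀ + Module.length A ((∀ i : {m' // m' ∈ S}, B ⧸ I i) ⧸ N₀) := by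
    rw [← Module.length_pi_of_fintype, hlen]
  refine ⟨by rw [hsum]; exact add_le_add h1 h2, ?_⟩
  intro heq hfin b hb
  have h3 : Module.length A ((∀ i : {m' // m' ∈ S}, B ⧸ I i) ⧸ N₀) = δ' A B := by
    apply le_antisymm h2
    have h4 : 1 + δ' A B ≤ 1 + Module.length A ((∀ i : {m' // m' ∈ S}, B ⧸ I i) ⧸ N₀) := by
      rw [← heq, hsum]
      exact add_le_add h1 le_rfl
    exact (ENat.add_le_add_iff_left ENat.one_ne_top).mp h4
  have hlen2 : δ' A B = Module.length A (LinearMap.ker ψ) +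
      Module.length A ((∀ i : {m' // m' ∈ S}, B ⧸ I i) ⧸ N₀) :=
    Module.length_eq_add_of_exact (LinearMap.ker ψ).subtype ψ (Submodule.injective_subtype _) hψ
      (LinearMap.exact_subtype_ker_map ψ)
  rw [h3] at hlen2
  have hker0 : Module.length A (LinearMap.ker ψ) = 0 := by
    have h5 : 0 + δ' A B = Module.length A (LinearMap.ker ψ) + δ' A B := by
      rw [zero_add]; exact hlen2
    exact (ENat.add_left_injective_of_ne_top hfin h5).symm
  have hsub : Subsingleton (LinearMap.ker ψ) := Module.length_eq_zero_iff.mp hker0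
  have hgb : g b = 0 := by
    funext i
    exact Ideal.Quotient.eq_zero_iff_mem.mpr (hb i.1 i.2)
  have hmem : (Submodule.Quotient.mk b : B ⧸ LinearMap.range (Algebra.linearMap A B)) ∈
      LinearMap.ker ψ := by
    rw [LinearMap.mem_ker]
    show Submodule.mapQ _ N₀ g hle (Submodule.Quotient.mk b) = 0
    rw [Submodule.mapQ_apply, hgb, Submodule.Quotient.mk_zero]
  have h6 : (⟨_, hmem⟩ : LinearMap.ker ψ) = 0 := Subsingleton.elim _ _
  have h0 : (Submodule.Quotient.mk b : B ⧸ LinearMap.range (Algebra.linearMap A B)) = 0 :=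
    congrArg Subtype.val h6
  exact (Submodule.Quotient.mk_eq_zero _).mp h0

theorem main [Algebra.IsIntegral A B] (n : ℕ) (hδ : δ' A B = n)
    (S : Finset (MaximalSpectrum B)) (hcard : S.card = n + 1) :
    (∀ m' : MaximalSpectrum B, Function.Surjective (algebraMap A (B ⧸ m'.asIdeal))) ∧
    (∀ b : B, (∀ m' : MaximalSpectrum B, b ∈ m'.asIdeal) →
      b ∈ LinearMap.range (Algebra.linearMap A B)) := by
  classical
  have hlo : ∀ m' : MaximalSpectrum B, ∀ a ∈ IsLocalRing.maximalIdeal A,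
      algebraMap A B a ∈ m'.asIdeal := by
    intro m' a ha
    haveI := m'.isMaximal
    have hmax : (m'.asIdeal.comap (algebraMap A B)).IsMaximal :=
      Ideal.isMaximal_comap_of_isIntegral_of_isMaximal m'.asIdeal
    have h1 : m'.asIdeal.comap (algebraMap A B) = IsLocalRing.maximalIdeal A :=
      IsLocalRing.eq_maximalIdeal hmax
    have h2 : a ∈ m'.asIdeal.comap (algebraMap A B) := by rw [h1]; exact ha
    exact h2
  have hpos : ∀ m' : MaximalSpectrum B, 1 ≤ Module.length A (B ⧸ m'.asIdeal) := by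
    intro m'
    haveI : Nontrivial (B ⧸ m'.asIdeal) := Ideal.Quotient.nontrivial_iff.mpr m'.isMaximal.ne_top
    exact Order.one_le_iff_pos.mpr Module.length_pos
  have hge : ∀ S' : Finset (MaximalSpectrum B),
      (S'.card : ℕ∞) ≤ ∑ i : {m' // m' ∈ S'}, Module.length A (B ⧸ i.1.asIdeal) := by
    intro S'
    calc (S'.card : ℕ∞) = ∑ i : {m' // m' ∈ S'}, (1 : ℕ∞) := by simp
      _ ≤ _ := Finset.sum_le_sum (fun i _ => hpos i.1)
  have hcore := fun S' : Finset (MaximalSpectrum B) => core (A := A) S' (fun m' _ => hlo m')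
  -- every maximal ideal is in `S`
  have hall : ∀ m' : MaximalSpectrum B, m' ∈ S := by
    intro m''
    by_contra hnot
    have h1 := (hge (insert m'' S)).trans (hcore (insert m'' S)).1
    rw [Finset.card_insert_of_notMem hnot, hcard, hδ] at h1
    have h2 : ((n + 1 + 1 : ℕ) : ℕ∞) ≤ ((1 + n : ℕ) : ℕ∞) := by
      push_cast
      exact h1
    have h3 := Nat.cast_le.mp h2
    omega
  have hsumeq : ∑ i : {m' // m' ∈ S}, Module.length A (B ⧸ i.1.asIdeal) = 1 + δ' A B := by
    apply le_antisymm (hcore S).1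
    have h1 := hge S
    rw [hcard] at h1
    rw [hδ]
    calc (1 : ℕ∞) + n = ((n + 1 : ℕ) : ℕ∞) := by push_cast; exact add_comm _ _
      _ ≤ _ := h1
  have hδfin : δ' A B ≠ ⊤ := by rw [hδ]; exact ENat.coe_ne_top n
  refine ⟨?_, fun b hb => (hcore S).2 hsumeq hδfin b (fun m' _ => hb m')⟩
  intro m'
  have hm' := hall m'
  -- the length is one
  have hone : Module.length A (B ⧸ m'.asIdeal) = 1 := by
    by_contra hne
    have hlt : 1 < Module.length A (B ⧸ m'.asIdeal) := lt_of_le_of_ne (hpos m') (Ne.symm hne)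
    have h2le : (1 : ℕ∞) + 1 ≤ Module.length A (B ⧸ m'.asIdeal) := Order.add_one_le_of_lt hlt
    let i₀ : {m' // m' ∈ S} := ⟨m', hm'⟩
    have hsplit := Finset.add_sum_erase (Finset.univ : Finset {m' // m' ∈ S})
      (fun i => Module.length A (B ⧸ i.1.asIdeal)) (Finset.mem_univ i₀)
    have hrest : (((Finset.univ : Finset {m' // m' ∈ S}).erase i₀).card : ℕ∞) ≤
        ∑ i ∈ (Finset.univ : Finset {m' // m' ∈ S}).erase i₀,
          Module.length A (B ⧸ i.1.asIdeal) := by
      calc (((Finset.univ : Finset {m' // m' ∈ S}).erase i₀).card : ℕ∞)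
          = ∑ i ∈ (Finset.univ : Finset {m' // m' ∈ S}).erase i₀, (1 : ℕ∞) := by simp
        _ ≤ _ := Finset.sum_le_sum (fun i _ => hpos i.1)
    have hcard' : ((Finset.univ : Finset {m' // m' ∈ S}).erase i₀).card = n := by
      rw [Finset.card_erase_of_mem (Finset.mem_univ _), Finset.card_univ, Fintype.card_coe, hcard]
      rfl
    rw [hcard'] at hrest
    have h7 : (1 : ℕ∞) + 1 + n ≤ 1 + δ' A B := by
      rw [← hsumeq, ← hsplit]
      exact add_le_add h2le hrest
    rw [hδ] at h7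
    have h8 : ((1 + 1 + n : ℕ) : ℕ∞) ≤ ((1 + n : ℕ) : ℕ∞) := by
      push_cast
      exact h7
    have h9 := Nat.cast_le.mp h8
    omega
  haveI : IsSimpleModule A (B ⧸ m'.asIdeal) := Module.length_eq_one_iff.mp hone
  haveI : Nontrivial (B ⧸ m'.asIdeal) := Ideal.Quotient.nontrivial_iff.mpr m'.isMaximal.ne_top
  rcases eq_bot_or_eq_top (LinearMap.range (Algebra.linearMap A (B ⧸ m'.asIdeal))) with hb | ht
  · exfalso
    have h1 : (1 : B ⧸ m'.asIdeal) ∈ LinearMap.range (Algebra.linearMap A (B ⧸ m'.asIdeal)) :=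
      ⟨1, by simp⟩
    rw [hb, Submodule.mem_bot] at h1
    exact one_ne_zero h1
  · intro x
    have hx : x ∈ LinearMap.range (Algebra.linearMap A (B ⧸ m'.asIdeal)) := by
      rw [ht]; trivial
    obtain ⟨a, ha⟩ := hx
    exact ⟨a, ha⟩

end Groth.Agent.Helper20.WedgeA
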