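import Mathlib
import Groth.Agent.Lib.Helper12.GeomBranches
import Groth.Agent.Lib.Helper12.NagataDimOne

/-!
# Embeddings over a separably closed residue field, the normalization of a reduced one-dimensional
local ring is locally a DVR, and transport of integral closures along a ring isomorphism
-/

set_option autoImplicit false
universe u

namespace Groth.Agent.Helper20.WedgeB

open Groth.Agent.Helper12.GeomBranches

section Emb

variable {A : Type u} [CommRing A] [IsLocalRing A] {B : Type u} [CommRing B] [Algebra A B]

lemma subsingleton_E [IsSepClosed (IsLocalRing.ResidueField A)] (m' : MaximalSpectrum B) :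
    Subsingleton (E (A := A) (AlgebraicClosure (IsLocalRing.ResidueField A)) m') := by
  constructor
  rintro ⟨σ, hσ⟩ ⟨τ, hτ⟩
  apply Subtype.ext
  show σ = τ
  haveI := m'.isMaximal
  letI : Field (B ⧸ m'.asIdeal) := Ideal.Quotient.field _
  let p := ringExpChar (IsLocalRing.ResidueField A)
  haveI : ExpChar (IsLocalRing.ResidueField A) p := ringExpChar.expChar _
  haveI : ExpChar (AlgebraicClosure (IsLocalRing.ResidueField A)) p :=
    expChar_of_injective_algebraMap
      (algebraMap (IsLocalRing.ResidueField A)
        (AlgebraicClosure (IsLocalRing.ResidueField A))).injective p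
  haveI : IsPurelyInseparable (IsLocalRing.ResidueField A)
      (AlgebraicClosure (IsLocalRing.ResidueField A)) := inferInstance
  refine RingHom.ext fun x => ?_
  obtain ⟨n, c, hc⟩ := IsPurelyInseparable.pow_mem (IsLocalRing.ResidueField A) p (σ x)
  obtain ⟨a, rfl⟩ := IsLocalRing.residue_surjective c
  have hσa : σ (algebraMap A (B ⧸ m'.asIdeal) a) =
      cΩ (A := A) (AlgebraicClosure (IsLocalRing.ResidueField A)) a :=
    congrArg (fun f => f a) hσ
  have hτa : τ (algebraMap A (B ⧸ m'.asIdeal) a) =
      cΩ (A := A) (AlgebraicClosure (IsLocalRing.ResidueField A)) a :=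
    congrArg (fun f => f a) hτ
  have hx : x ^ p ^ n = algebraMap A (B ⧸ m'.asIdeal) a := by
    apply σ.injective
    rw [map_pow, hσa, ← hc]
    rfl
  have h1 : τ x ^ p ^ n = σ x ^ p ^ n := by
    rw [← map_pow, ← map_pow, hx, hσa, hτa]
  have h2 : (σ x - τ x) ^ p ^ n = 0 := by
    rw [sub_pow_expChar_pow, h1, sub_self]
  have hpn : p ^ n ≠ 0 := pow_ne_zero n (expChar_pos (IsLocalRing.ResidueField A) p).ne'
  exact sub_eq_zero.mp ((pow_eq_zero_iff hpn).mp h2)

end Emb

section Transport

variable {A₁ R : Type u} [CommRing A₁] [CommRing R] (q : A₁ →+* R) (hq : Function.Bijective q)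

/-- the induced map on integral closures in the total fraction rings -/
noncomputable def Θ : ↥(integralClosure A₁ (FractionRing A₁)) →+*
    ↥(integralClosure R (FractionRing R)) where
  toFun x := ⟨fracMap q hq x.1, isIntegral_fracMap q hq x.2⟩
  map_one' := Subtype.ext (by simp)
  map_mul' x y := Subtype.ext (by simp)
  map_zero' := Subtype.ext (by simp)
  map_add' x y := Subtype.ext (by simp)

lemma Θ_coe (x : ↥(integralClosure A₁ (FractionRing A₁))) :
    ((Θ q hq x : ↥(integralClosure R (FractionRing R))) : FractionRing R) = fracMap q hq x.1 := rfl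

lemma Θ_injective : Function.Injective (Θ q hq) := by
  intro x y hxy
  apply Subtype.ext
  apply fracMap_injective q hq
  exact congrArg Subtype.val hxy

lemma Θ_surjective : Function.Surjective (Θ q hq) := by
  intro y
  obtain ⟨x, hx, hxy⟩ := exists_preimage_of_isIntegral q hq y.2
  exact ⟨⟨x, hx⟩, Subtype.ext hxy⟩

lemma Θ_algebraMap (a : A₁) :
    Θ q hq (algebraMap A₁ ↥(integralClosure A₁ (FractionRing A₁)) a) =
      algebraMap R ↥(integralClosure R (FractionRing R)) (q a) := by
  apply Subtype.ext
  rw [Θ_coe]
  exact fracMap_algebraMap q hq a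

end Transport

section Residue

lemma residue_surj {A B : Type u} [CommRing A] [CommRing B] [Algebra A B] (m' : MaximalSpectrum B)
    (key : ∀ b : B, ∃ a : A, b - algebraMap A B a ∈ m'.asIdeal) :
    Function.Surjective (⇑(IsLocalRing.residue (Localization.AtPrime m'.asIdeal)) ∘
      ⇑(algebraMap B (Localization.AtPrime m'.asIdeal)) ∘ ⇑(algebraMap A B)) := by
  haveI := m'.isMaximal
  intro x
  obtain ⟨b, rfl⟩ := Ideal.algebraMap_residueField_surjective m'.asIdeal x
  obtain ⟨a, ha⟩ := key b
  refine ⟨a, ?_⟩
  simp only [Function.comp_apply]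
  rw [IsScalarTower.algebraMap_apply B (Localization.AtPrime m'.asIdeal) m'.asIdeal.ResidueField,
    IsLocalRing.ResidueField.algebraMap_eq]
  symm
  rw [← sub_eq_zero, ← map_sub, ← map_sub, IsLocalRing.residue_eq_zero_iff,
    IsLocalization.AtPrime.to_map_mem_maximal_iff _ m'.asIdeal]
  exact ha

end Residue

section DVR

open Groth.Agent.Helper12.NagataDimOne

variable (A : Type u) [CommRing A] [IsLocalRing A] [IsReduced A] [IsNoetherianRing A]

theorem exists_nonZeroDivisor_mem_maximalIdeal (hdim : ringKrullDim A = 1) :
    ∃ s ∈ IsLocalRing.maximalIdeal A, s ∈ nonZeroDivisors A := by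
  classical
  have hmin : IsLocalRing.maximalIdeal A ∉ minimalPrimes A := by
    intro hm
    have h0 : Ring.KrullDimLE 0 A := by
      rw [Ring.krullDimLE_zero_iff]
      intro I hI
      have h1 : I ≤ IsLocalRing.maximalIdeal A := IsLocalRing.le_maximalIdeal hI.ne_top
      have h2 : IsLocalRing.maximalIdeal A ≤ I := hm.2 ⟨hI, bot_le⟩ h1
      rw [le_antisymm h1 h2]
      infer_instance
    have h3 : ringKrullDim A ≤ ((0 : ℕ) : WithBot ℕ∞) := Ring.krullDimLE_iff.mp h0
    rw [hdim] at h3
    exact absurd h3 (by decide)
  have hfin := minimalPrimes.finite_of_isNoetherianRing A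
  obtain ⟨s, hsm, hs⟩ : ∃ s ∈ IsLocalRing.maximalIdeal A, ∀ p : MinP A, s ∉ p.1 := by
    by_contra hcon
    push Not at hcon
    have hsub : ((IsLocalRing.maximalIdeal A : Ideal A) : Set A) ⊆
        ⋃ i ∈ (hfin.toFinset : Set (Ideal A)), ((fun I : Ideal A => I) i : Set A) := by
      intro x hx
      obtain ⟨p, hp⟩ := hcon x hx
      exact Set.mem_biUnion (by simpa using p.2) hp
    rw [Ideal.subset_union_prime (R := A) (s := hfin.toFinset) (f := fun I : Ideal A => I) ⊥ ⊥
      (fun i hi _ _ => by
        have : i ∈ minimalPrimes A := by simpa using hi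
        exact this.1.1)] at hsub
    obtain ⟨p, hp, hle⟩ := hsub
    have hp' : p ∈ minimalPrimes A := by simpa using hp
    have : p = IsLocalRing.maximalIdeal A :=
      le_antisymm (IsLocalRing.le_maximalIdeal hp'.1.1.ne_top) hle
    exact hmin (this ▸ hp')
  exact ⟨s, hsm, mem_nonZeroDivisors_of_forall_notMem hs⟩

theorem dvr_localization (hdim : ringKrullDim A = 1)
    [Module.Finite A ↥(integralClosure A (FractionRing A))]
    (m' : MaximalSpectrum ↥(integralClosure A (FractionRing A))) :
    ∃ _ : IsDomain (Localization.AtPrime m'.asIdeal),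
      IsDiscreteValuationRing (Localization.AtPrime m'.asIdeal) := by
  classical
  haveI := m'.isMaximal
  obtain ⟨hdom, hic⟩ := localization_normal m'.asIdeal
  refine ⟨hdom, ?_⟩
  haveI : IsNoetherianRing ↥(integralClosure A (FractionRing A)) :=
    IsNoetherianRing.of_finite A _
  haveI : IsNoetherianRing (Localization.AtPrime m'.asIdeal) :=
    IsLocalization.isNoetherianRing m'.asIdeal.primeCompl _ inferInstance
  haveI : Ring.KrullDimLE 1 A := Ring.krullDimLE_iff.mpr hdim.le
  have hlo : m'.asIdeal.comap (algebraMap A ↥(integralClosure A (FractionRing A))) =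
      IsLocalRing.maximalIdeal A :=
    IsLocalRing.eq_maximalIdeal (Ideal.isMaximal_comap_of_isIntegral_of_isMaximal m'.asIdeal)
  obtain ⟨s, hsm, hsnzd⟩ := exists_nonZeroDivisor_mem_maximalIdeal A hdim
  have hsB : algebraMap A ↥(integralClosure A (FractionRing A)) s ∈ m'.asIdeal := by
    have : s ∈ m'.asIdeal.comap (algebraMap A ↥(integralClosure A (FractionRing A))) := by
      rw [hlo]; exact hsm
    exact this
  have hne : algebraMap ↥(integralClosure A (FractionRing A)) (Localization.AtPrime m'.asIdeal)
      (algebraMap A ↥(integralClosure A (FractionRing A)) s) ≠ 0 := by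
    intro h0
    rw [IsLocalization.map_eq_zero_iff m'.asIdeal.primeCompl] at h0
    obtain ⟨t, ht⟩ := h0
    have h1 : ((t : ↥(integralClosure A (FractionRing A))) : FractionRing A) *
        algebraMap A (FractionRing A) s = 0 := by
      have := congrArg Subtype.val ht
      simpa using this
    have hunit : IsUnit (algebraMap A (FractionRing A) s) :=
      IsLocalization.map_units (FractionRing A) (⟨s, hsnzd⟩ : nonZeroDivisors A)
    have h2 : ((t : ↥(integralClosure A (FractionRing A))) : FractionRing A) = 0 := by
      rwa [hunit.mul_left_eq_zero] at h1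
    have h3 : (t : ↥(integralClosure A (FractionRing A))) = 0 := Subtype.ext h2
    exact (Ideal.mem_primeCompl_iff.mp t.2) (h3 ▸ zero_mem _)
  have hnf : ¬ IsField (Localization.AtPrime m'.asIdeal) := by
    intro hf
    have hmax0 : IsLocalRing.maximalIdeal (Localization.AtPrime m'.asIdeal) = ⊥ :=
      IsLocalRing.isField_iff_maximalIdeal_eq.mp hf
    have hmem : algebraMap ↥(integralClosure A (FractionRing A))
        (Localization.AtPrime m'.asIdeal)
        (algebraMap A ↥(integralClosure A (FractionRing A)) s) ∈
        IsLocalRing.maximalIdeal (Localization.AtPrime m'.asIdeal) := by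
      rw [← Localization.AtPrime.map_eq_maximalIdeal]
      exact Ideal.mem_map_of_mem _ hsB
    rw [hmax0] at hmem
    exact hne hmem
  have huniq : ∃! P : Ideal (Localization.AtPrime m'.asIdeal), P ≠ ⊥ ∧ P.IsPrime := by
    refine ⟨IsLocalRing.maximalIdeal _, ⟨?_, inferInstance⟩, ?_⟩
    · intro h
      exact hnf (IsLocalRing.isField_iff_maximalIdeal_eq.mpr h)
    · rintro Q ⟨hQ0, hQ⟩
      let qB : Ideal ↥(integralClosure A (FractionRing A)) :=
        Q.under ↥(integralClosure A (FractionRing A))
      haveI : qB.IsPrime := Ideal.comap_isPrime _ _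
      have hqle : qB ≤ m'.asIdeal := by
        have hle : Q ≤ IsLocalRing.maximalIdeal (Localization.AtPrime m'.asIdeal) :=
          IsLocalRing.le_maximalIdeal hQ.ne_top
        calc qB ≤ (IsLocalRing.maximalIdeal (Localization.AtPrime m'.asIdeal)).under
              ↥(integralClosure A (FractionRing A)) := Ideal.comap_mono hle
          _ = m'.asIdeal := Localization.AtPrime.under_maximalIdeal
      let pA : Ideal A := qB.comap (algebraMap A ↥(integralClosure A (FractionRing A)))
      haveI : pA.IsPrime := Ideal.comap_isPrime _ _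
      rcases Ring.krullDimLE_one_iff.mp ‹Ring.KrullDimLE 1 A› pA inferInstance with hpmin | hpmax
      · exfalso
        let q0 : Ideal ↥(integralClosure A (FractionRing A)) :=
          (⊥ : Ideal (Localization.AtPrime m'.asIdeal)).under ↥(integralClosure A (FractionRing A))
        haveI : (⊥ : Ideal (Localization.AtPrime m'.asIdeal)).IsPrime := Ideal.isPrime_bot
        haveI : q0.IsPrime := Ideal.comap_isPrime _ _
        have hq0le : q0 ≤ qB := Ideal.comap_mono bot_le
        have heq0 : q0 = qB := by
          by_contra hne0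
          have hlt : q0 < qB := lt_of_le_of_ne hq0le hne0
          have hlt' : q0.comap (algebraMap A ↥(integralClosure A (FractionRing A))) < pA :=
            Ideal.IsIntegral.comap_lt_comap hlt
          haveI : (q0.comap (algebraMap A ↥(integralClosure A (FractionRing A)))).IsPrime :=
            Ideal.comap_isPrime _ _
          have hy : (q0.comap (algebraMap A ↥(integralClosure A (FractionRing A)))).IsPrime ∧
              ⊥ ≤ q0.comap (algebraMap A ↥(integralClosure A (FractionRing A))) :=
            ⟨inferInstance, bot_le⟩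
          exact absurd (hpmin.2 hy hlt'.le) (not_le_of_gt hlt')
        apply hQ0
        have h1 : Q = Ideal.map (algebraMap ↥(integralClosure A (FractionRing A))
            (Localization.AtPrime m'.asIdeal)) qB :=
          (IsLocalization.map_under m'.asIdeal.primeCompl _ Q).symm
        rw [h1, ← heq0]
        exact IsLocalization.map_under m'.asIdeal.primeCompl _ ⊥
      · haveI hqmax : qB.IsMaximal := Ideal.isMaximal_of_isIntegral_of_isMaximal_comap qB hpmax
        have hqeq : qB = m'.asIdeal := hqmax.eq_of_le m'.isMaximal.ne_top hqle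
        exact Localization.AtPrime.eq_maximalIdeal_iff_under_eq.mp hqeq
  have h03 : IsDiscreteValuationRing (Localization.AtPrime m'.asIdeal) ↔
      IsIntegrallyClosed (Localization.AtPrime m'.asIdeal) ∧
        ∃! P : Ideal (Localization.AtPrime m'.asIdeal), P ≠ ⊥ ∧ P.IsPrime :=
    (IsDiscreteValuationRing.TFAE (Localization.AtPrime m'.asIdeal) hnf).out 0 3
  exact h03.mpr ⟨hic, huniq⟩

end DVR

end Groth.Agent.Helper20.WedgeB
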