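import Mathlib
import Groth.Agent.Lib.Helper20.KS1

/-!
# Polynomial expressions `P(M) = ⨁_i (M i)^{P_i}` and Krull–Schmidt
-/

set_option autoImplicit false
set_option maxHeartbeats 400000
set_option linter.unusedSectionVars false
set_option linter.unusedVariables false
universe u v
open CategoryTheory CategoryTheory.Limits Polynomial

namespace Groth.Agent.Helper20.WeilFin

/-- the index type of the summands of `P(M)`. -/
abbrev Idx (P : ℕ[X]) : Type := Σ i : Fin (P.natDegree + 1), Fin (P.coeff ↑i)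

/-- counting the summands with a given exponent. -/
lemma sum_idx (P : ℕ[X]) (v : ℕ) :
    (∑ a : Idx P, if (a.1 : ℕ) = v then 1 else 0) = P.coeff v := by
  rw [Fintype.sum_sigma]
  have h1 : ∀ i : Fin (P.natDegree + 1),
      (∑ _t : Fin (P.coeff ↑i), if (i : ℕ) = v then 1 else 0) =
        if (i : ℕ) = v then P.coeff (i : ℕ) else 0 := by
    intro i
    split_ifs with h
    · simp
    · simp
  simp_rw [h1]
  rw [Fin.sum_univ_eq_sum_range (fun n => if n = v then P.coeff n else 0) (P.natDegree + 1)]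
  rw [Finset.sum_ite_eq']
  split_ifs with h
  · rfl
  · rw [Finset.mem_range, not_lt] at h
    exact (Polynomial.coeff_eq_zero_of_natDegree_lt (by omega)).symm

/-- an exponent-preserving bijection of the index types forces equality of the polynomials. -/
theorem eq_of_equiv (P Q : ℕ[X]) (e : Idx P ≃ Idx Q) (h : ∀ a, ((e a).1 : ℕ) = (a.1 : ℕ)) :
    P = Q := by
  ext v
  rw [← sum_idx P v, ← sum_idx Q v]
  apply Fintype.sum_equiv e
  intro a
  rw [h a]

variable {C : Type u} [Category.{v} C] [Preadditive C] [HasFiniteBiproducts C]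
  [HasBinaryBiproducts C]

/-- flattening `P(M)`. -/
noncomputable def flat (P : ℕ[X]) (M : ℕ → C) :
    (∐ fun i : Fin (P.natDegree + 1) => ∐ fun _ : Fin (P.coeff ↑i) => M ↑i) ≅
      ∐ fun a : Idx P => M a.1 :=
  sigmaSigmaIso (fun i : Fin (P.natDegree + 1) => Fin (P.coeff ↑i)) (fun i _ => M ↑i)

/-- Krull–Schmidt for polynomial expressions. -/
theorem exists_equiv (P Q : ℕ[X]) (M : ℕ → C) (hloc : ∀ n, KS.IsLocalObj (M n))
    (hind : ∀ n, KS.IsIndecObj (M n))
    (φ : (∐ fun i : Fin (P.natDegree + 1) => ∐ fun _ : Fin (P.coeff ↑i) => M ↑i) ≅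
      (∐ fun i : Fin (Q.natDegree + 1) => ∐ fun _ : Fin (Q.coeff ↑i) => M ↑i)) :
    ∃ e : Idx P ≃ Idx Q, ∀ a, Nonempty (M a.1 ≅ M (e a).1) := by
  let eP : Idx P ≃ Fin (Fintype.card (Idx P)) := Fintype.equivFin _
  let eQ : Idx Q ≃ Fin (Fintype.card (Idx Q)) := Fintype.equivFin _
  let Fs : Fin (Fintype.card (Idx P)) → C := fun c => M (eP.symm c).1
  let Gs : Fin (Fintype.card (Idx Q)) → C := fun c => M (eQ.symm c).1
  let rP : (∐ fun a : Idx P => M a.1) ≅ ∐ Fs :=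
    Sigma.whiskerEquiv (f := fun a : Idx P => M a.1) (g := Fs) eP
      (fun a => eqToIso (by simp [Fs]))
  let rQ : (∐ fun a : Idx Q => M a.1) ≅ ∐ Gs :=
    Sigma.whiskerEquiv (f := fun a : Idx Q => M a.1) (g := Gs) eQ
      (fun a => eqToIso (by simp [Gs]))
  let ψ : ⨁ Fs ≅ ⨁ Gs :=
    biproduct.isoCoproduct Fs ≪≫ rP.symm ≪≫ (flat P M).symm ≪≫ φ ≪≫ flat Q M ≪≫ rQ ≪≫
      (biproduct.isoCoproduct Gs).symm
  obtain ⟨e, he⟩ := KS.ks _ _ Fs Gs (fun c => hloc _) (fun c => hind _) ψ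
  refine ⟨eP.trans (e.trans eQ.symm), fun a => ?_⟩
  obtain ⟨ι⟩ := he (eP a)
  have h1 : Fs (eP a) = M a.1 := by simp [Fs]
  exact ⟨eqToIso h1.symm ≪≫ ι⟩

/-- `P(M) ≅ M n` for `P = X^n`. -/
theorem nonempty_iso_X_pow (n : ℕ) (M : ℕ → C) :
    Nonempty ((∐ fun i : Fin ((X ^ n : ℕ[X]).natDegree + 1) =>
      ∐ fun _ : Fin ((X ^ n : ℕ[X]).coeff ↑i) => M ↑i) ≅ M n) := by
  have hcard : Fintype.card (Idx (X ^ n : ℕ[X])) = 1 := by
    have := sum_idx (X ^ n : ℕ[X]) n
    rw [Polynomial.coeff_X_pow, if_pos rfl] at this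
    rw [Fintype.card_eq_sum_ones]
    refine Eq.trans (Finset.sum_congr rfl ?_) this
    intro a _
    have ha : 0 < (X ^ n : ℕ[X]).coeff (a.1 : ℕ) := by
      rcases Nat.eq_zero_or_pos ((X ^ n : ℕ[X]).coeff (a.1 : ℕ)) with h0 | h0
      · exact (Fin.elim0 (h0 ▸ a.2))
      · exact h0
    rw [Polynomial.coeff_X_pow] at ha
    split_ifs at ha with h
    · rw [if_pos h]
    · exact absurd ha (lt_irrefl 0)
  obtain ⟨hu⟩ := Fintype.card_eq_one_iff_nonempty_unique.mp hcard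
  have hd : ((default : Idx (X ^ n : ℕ[X])).1 : ℕ) = n := by
    have ha : 0 < (X ^ n : ℕ[X]).coeff ((default : Idx (X ^ n : ℕ[X])).1 : ℕ) := by
      rcases Nat.eq_zero_or_pos ((X ^ n : ℕ[X]).coeff ((default : Idx (X ^ n : ℕ[X])).1 : ℕ))
        with h0 | h0
      · exact (Fin.elim0 (h0 ▸ (default : Idx (X ^ n : ℕ[X])).2))
      · exact h0
    rw [Polynomial.coeff_X_pow] at ha
    split_ifs at ha with h
    · exact h
    · exact absurd ha (lt_irrefl 0)
  exact ⟨flat (X ^ n : ℕ[X]) M ≪≫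
    coproductUniqueIso (fun a : Idx (X ^ n : ℕ[X]) => M a.1) ≪≫ eqToIso (by rw [hd])⟩

end Groth.Agent.Helper20.WeilFin
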