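import Mathlib
import Groth.Agent.Lib.Helper20.WeilFin1
import Groth.Agent.Lib.Helper20.KS4
import Groth.Agent.Lib.Helper20.StableIndec
import Groth.Agent.Lib.Helper13.TensorPow
import Groth.Agent.Lib.Helper13.InvDual
import Groth.Agent.Lib.Helper13.InvTensor
import Groth.Agent.Lib.Helper13.CurveDeg2

/-!
# Weil-finite invertible modules are torsion
-/

set_option autoImplicit false
set_option maxHeartbeats 400000
set_option linter.unusedSectionVars false
set_option linter.unusedVariables false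
set_option linter.style.haveILetI false
universe u
open CategoryTheory CategoryTheory.Limits AlgebraicGeometry Polynomial
open Groth.Agent.Helper13 Groth.Agent.Helper20.RankFn

namespace Groth.Agent.Helper20.WeilFin

variable {X : Scheme.{u}}

lemma isFinLocFreeOfRank_one_of_isInvertible (L : X.Modules) (hL : PicF.IsInvertible L) :
    FlatMod.IsFinLocFreeOfRank 1 L := fun x => by
  obtain ⟨U, hxU, ⟨e⟩⟩ := hL x
  exact ⟨U, hxU, ⟨e ≪≫
    (coproductUniqueIso (fun _ : Fin 1 => Coh.structureModule (U : Scheme.{u}))).symm⟩⟩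

/-- cancellation: `L^i ≅ L^{i+d}` forces `L^d ≅ O`. -/
theorem pow_trivial_of_iso (L : X.Modules) (hL : PicF.IsInvertible L) (i d : ℕ)
    (e : CohB1.tensorPow L i ≅ CohB1.tensorPow L (i + d)) :
    Nonempty (CohB1.tensorPow L d ≅ Coh.structureModule X) := by
  obtain ⟨N, hN, ⟨e1⟩, ⟨e2⟩⟩ :=
    InvDual.exists_inverse (CohB1.tensorPow L i) (Inv.isInvertible_tensorPow L hL i)
  exact ⟨(Tensor.lid _).symm ≪≫ Tensor.mapIso e2.symm (Iso.refl _) ≪≫ Tensor.assoc _ _ _ ≪≫
    Tensor.mapIso (Iso.refl N) (Tensor.powAdd L i d).symm ≪≫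
    Tensor.mapIso (Iso.refl N) e.symm ≪≫ e2⟩

/-- an invertible module on an integral scheme is nonzero and indecomposable. -/
theorem indec_of_isInvertible [IsIntegral X] (M : X.Modules) (hM : PicF.IsInvertible M) :
    ¬ IsZero M ∧ ∀ A B : X.Modules, Nonempty (M ≅ A ⊞ B) → IsZero A ∨ IsZero B := by
  have h1 := isFinLocFreeOfRank_one_of_isInvertible M hM
  have hfl : FlatMod.IsFinLocFree M := VBIndec.isFinLocFree_of_rank 1 M h1
  refine ⟨VBIndec.not_isZero_of_isFinLocFreeOfRank 1 Nat.one_pos M h1, ?_⟩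
  rintro A B ⟨φ⟩
  have hflA : FlatMod.IsFinLocFree A :=
    isFinLocFree_of_retract hfl (biprod.inl ≫ φ.inv) (φ.hom ≫ biprod.fst) (by simp)
  have hflB : FlatMod.IsFinLocFree B :=
    isFinLocFree_of_retract hfl (biprod.inr ≫ φ.inv) (φ.hom ≫ biprod.snd) (by simp)
  obtain ⟨x₀⟩ := (inferInstance : Nonempty X)
  have hrA := isFinLocFreeOfRank_of_preconnected A hflA x₀
  have hrB := isFinLocFreeOfRank_of_preconnected B hflB x₀
  have hsum : 1 = rk A x₀ + rk B x₀ := by
    rw [← rk_eq_of_isFinLocFreeOfRank M 1 h1 x₀]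
    exact rk_biprod φ hflA hflB x₀
  rcases Nat.eq_zero_or_pos (rk A x₀) with h0 | h0
  · left
    apply isZero_of_rk_eq_zero A hflA
    intro y
    rw [rk_eq_of_isFinLocFreeOfRank A _ hrA y, h0]
  · right
    apply isZero_of_rk_eq_zero B hflB
    intro y
    rw [rk_eq_of_isFinLocFreeOfRank B _ hrB y]
    omega

/-- **Weil-finite invertible modules are torsion.** -/
theorem exists_pow_trivial (k : Type u) [Field k] [X.Over (Spec (CommRingCat.of k))]
    [IsIntegral X] [IsProper (X ↘ Spec (CommRingCat.of k))] (L : X.Modules) (hL : PicF.IsInvertible L) (P Q : ℕ[X]) (hPQ : P ≠ Q)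
    (φ : (∐ fun i : Fin (P.natDegree + 1) => ∐ fun _ : Fin (P.coeff ↑i) => CohB1.tensorPow L ↑i) ≅
      (∐ fun i : Fin (Q.natDegree + 1) => ∐ fun _ : Fin (Q.coeff ↑i) => CohB1.tensorPow L ↑i)) :
    ∃ m : ℕ, 0 < m ∧ Nonempty (CohB1.tensorPow L m ≅ Coh.structureModule X) := by
  have hinv : ∀ n, PicF.IsInvertible (CohB1.tensorPow L n) := Inv.isInvertible_tensorPow L hL
  have hindec := fun n => indec_of_isInvertible (CohB1.tensorPow L n) (hinv n)
  have hloc : ∀ n, KS.IsLocalObj (CohB1.tensorPow L n) := fun n =>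
    ⟨(hindec n).1, VBIndec.local_of_indec k _
      (CurveDeg.isCoh_of_isInvertible _ (hinv n)) (hindec n).2⟩
  have hind : ∀ n, KS.IsIndecObj (CohB1.tensorPow L n) := fun n =>
    ⟨(hindec n).1, fun e he => IndecEnd.idem_trivial_of_indec (hindec n).2 e he⟩
  obtain ⟨e, he⟩ := exists_equiv P Q (fun n => CohB1.tensorPow L n) hloc hind φ
  by_contra hcon
  push Not at hcon
  apply hPQ
  apply eq_of_equiv P Q e
  intro a
  obtain ⟨ι⟩ := he a
  rcases lt_trichotomy ((e a).1 : ℕ) (a.1 : ℕ) with h | h | h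
  · exfalso
    obtain ⟨d, hd⟩ := Nat.exists_eq_add_of_lt h
    have hd' : (a.1 : ℕ) = ((e a).1 : ℕ) + (d + 1) := by omega
    obtain ⟨iso⟩ :=
      pow_trivial_of_iso L hL ((e a).1 : ℕ) (d + 1) (ι.symm ≪≫ eqToIso (by rw [hd']))
    exact (hcon (d + 1) (Nat.succ_pos d)).false iso
  · exact h
  · exfalso
    obtain ⟨d, hd⟩ := Nat.exists_eq_add_of_lt h
    have hd' : ((e a).1 : ℕ) = (a.1 : ℕ) + (d + 1) := by omega
    obtain ⟨iso⟩ := pow_trivial_of_iso L hL (a.1 : ℕ) (d + 1) (ι ≪≫ eqToIso (by rw [hd']))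
    exact (hcon (d + 1) (Nat.succ_pos d)).false iso

end Groth.Agent.Helper20.WeilFin
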