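import Mathlib

/-!
# The three-pointed line: no pair with prescribed vanishing (S16260)

`V ⊆ k[X]` is the image under `T P = X (X-1) P' - (a (X-1) + b X) P` of the polynomials of degree
at most `a+b+1` (`T P / (X^(a+1) (X-1)^(b+1))` is the derivative of `P / (X^a (X-1)^b)`).
-/

open Polynomial

namespace Groth.Agent.Helper20.Wronsk3

variable {k : Type*} [Field k] [CharZero k]

/-- The operator `T P = X (X-1) P' - (a (X-1) + b X) P`. -/
noncomputable def T (a b : ℕ) : k[X] →ₗ[k] k[X] :=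
  (LinearMap.mulLeft k (X * (X - 1) : k[X])).comp derivative
    - LinearMap.mulLeft k ((a : k[X]) * (X - 1) + (b : k[X]) * X)

lemma T_apply (a b : ℕ) (P : k[X]) :
    T a b P = X * (X - 1) * derivative P - ((a : k[X]) * (X - 1) + (b : k[X]) * X) * P := by
  simp [T, mul_assoc]

lemma T_X_pow (a b n : ℕ) :
    T a b ((X : k[X]) ^ n) = ((n : k) - a - b) • X ^ (n + 1) + ((a : k) - n) • X ^ n := by
  rw [T_apply, derivative_X_pow]
  rcases n with _ | n
  · simp [smul_eq_C_mul]
    ring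
  · simp [smul_eq_C_mul]
    ring

lemma T_X_sub_one_pow (a b n : ℕ) :
    T a b (((X : k[X]) - 1) ^ n) =
      ((n : k) - a - b) • (X - 1) ^ (n + 1) + ((n : k) - b) • (X - 1) ^ n := by
  rw [T_apply, derivative_pow]
  rcases n with _ | n
  · simp [smul_eq_C_mul]
    ring
  · simp [smul_eq_C_mul]
    ring

lemma T_top (a b : ℕ) (hb : 0 < b) :
    T a b ((X : k[X]) ^ (a + 1) * (X - 1) ^ b) = X ^ (a + 1) * (X - 1) ^ (b + 1) := by
  obtain ⟨b, rfl⟩ : ∃ b', b = b' + 1 := ⟨b - 1, by omega⟩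
  rw [T_apply, derivative_mul, derivative_X_pow, derivative_pow]
  simp
  ring

lemma T_ker (a b : ℕ) (ha : 0 < a) (hb : 0 < b) :
    T a b ((X : k[X]) ^ a * (X - 1) ^ b) = 0 := by
  obtain ⟨b, rfl⟩ : ∃ b', b = b' + 1 := ⟨b - 1, by omega⟩
  obtain ⟨a, rfl⟩ : ∃ a', a = a' + 1 := ⟨a - 1, by omega⟩
  rw [T_apply, derivative_mul, derivative_X_pow, derivative_pow]
  simp
  ring

/-- The image of the polynomials of degree at most `a+b+1`. -/
noncomputable def R (a b : ℕ) : Submodule k k[X] :=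
  Submodule.map (T a b) (degreeLE k ((a + b + 1 : ℕ) : WithBot ℕ))

lemma X_pow_mem (a b : ℕ) : ∀ s n : ℕ, n + s = a + b → a < n →
    (X : k[X]) ^ n ∈ R (k := k) a b := by
  intro s
  induction s with
  | zero =>
    intro n hn han
    have hne : ((a : k) - n) ≠ 0 := by
      intro h
      have : (a : k) = n := sub_eq_zero.mp h
      have := Nat.cast_injective this
      omega
    have hT : T a b ((X : k[X]) ^ n) = ((a : k) - n) • X ^ n := by
      rw [T_X_pow]
      have : ((n : k) - a - b) = 0 := by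
        have : (n : k) = a + b := by
          have : n = a + b := by omega
          rw [this]; push_cast; ring
        rw [this]; ring
      rw [this, zero_smul, zero_add]
    have hmem : T a b ((X : k[X]) ^ n) ∈ R (k := k) a b := by
      refine Submodule.mem_map_of_mem ?_
      rw [mem_degreeLE]
      refine (degree_X_pow_le n).trans ?_
      exact_mod_cast (by omega : n ≤ a + b + 1)
    have : (X : k[X]) ^ n = ((a : k) - n)⁻¹ • T a b ((X : k[X]) ^ n) := by
      rw [hT, smul_smul, inv_mul_cancel₀ hne, one_smul]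
    rw [this]
    exact Submodule.smul_mem _ _ hmem
  | succ s ih =>
    intro n hn han
    have hne : ((a : k) - n) ≠ 0 := by
      intro h
      have : (a : k) = n := sub_eq_zero.mp h
      have := Nat.cast_injective this
      omega
    have h1 : (X : k[X]) ^ (n + 1) ∈ R (k := k) a b := ih (n + 1) (by omega) (by omega)
    have hmem : T a b ((X : k[X]) ^ n) ∈ R (k := k) a b := by
      refine Submodule.mem_map_of_mem ?_
      rw [mem_degreeLE]
      refine (degree_X_pow_le n).trans ?_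
      exact_mod_cast (by omega : n ≤ a + b + 1)
    have : (X : k[X]) ^ n = ((a : k) - n)⁻¹ •
        (T a b ((X : k[X]) ^ n) - ((n : k) - a - b) • X ^ (n + 1)) := by
      rw [T_X_pow, add_sub_cancel_left, smul_smul, inv_mul_cancel₀ hne, one_smul]
    rw [this]
    exact Submodule.smul_mem _ _ (Submodule.sub_mem _ hmem (Submodule.smul_mem _ _ h1))

lemma natDegree_X_sub_one_pow_le (n : ℕ) : (((X : k[X]) - 1) ^ n).natDegree ≤ n := by
  have h1 : ((X : k[X]) - 1) = X - C 1 := by simp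
  rw [h1]
  refine natDegree_pow_le.trans ?_
  rw [natDegree_X_sub_C, mul_one]

lemma X_sub_one_pow_mem (a b : ℕ) : ∀ s n : ℕ, n + s = a + b → b < n →
    ((X : k[X]) - 1) ^ n ∈ R (k := k) a b := by
  intro s
  induction s with
  | zero =>
    intro n hn hbn
    have hne : ((n : k) - b) ≠ 0 := by
      intro h
      have : (n : k) = b := sub_eq_zero.mp h
      have := Nat.cast_injective this
      omega
    have hT : T a b (((X : k[X]) - 1) ^ n) = ((n : k) - b) • (X - 1) ^ n := by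
      rw [T_X_sub_one_pow]
      have : ((n : k) - a - b) = 0 := by
        have : (n : k) = a + b := by
          have : n = a + b := by omega
          rw [this]; push_cast; ring
        rw [this]; ring
      rw [this, zero_smul, zero_add]
    have hmem : T a b (((X : k[X]) - 1) ^ n) ∈ R (k := k) a b := by
      refine Submodule.mem_map_of_mem ?_
      rw [mem_degreeLE]
      refine degree_le_of_natDegree_le ?_
      exact (natDegree_X_sub_one_pow_le n).trans (by omega)
    have : ((X : k[X]) - 1) ^ n = ((n : k) - b)⁻¹ • T a b (((X : k[X]) - 1) ^ n) := by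
      rw [hT, smul_smul, inv_mul_cancel₀ hne, one_smul]
    rw [this]
    exact Submodule.smul_mem _ _ hmem
  | succ s ih =>
    intro n hn hbn
    have hne : ((n : k) - b) ≠ 0 := by
      intro h
      have : (n : k) = b := sub_eq_zero.mp h
      have := Nat.cast_injective this
      omega
    have h1 : ((X : k[X]) - 1) ^ (n + 1) ∈ R (k := k) a b := ih (n + 1) (by omega) (by omega)
    have hmem : T a b (((X : k[X]) - 1) ^ n) ∈ R (k := k) a b := by
      refine Submodule.mem_map_of_mem ?_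
      rw [mem_degreeLE]
      refine degree_le_of_natDegree_le ?_
      exact (natDegree_X_sub_one_pow_le n).trans (by omega)
    have : ((X : k[X]) - 1) ^ n = ((n : k) - b)⁻¹ •
        (T a b (((X : k[X]) - 1) ^ n) - ((n : k) - a - b) • (X - 1) ^ (n + 1)) := by
      rw [T_X_sub_one_pow, add_sub_cancel_left, smul_smul, inv_mul_cancel₀ hne, one_smul]
    rw [this]
    exact Submodule.smul_mem _ _ (Submodule.sub_mem _ hmem (Submodule.smul_mem _ _ h1))

lemma top_mem (a b : ℕ) (hb : 0 < b) :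
    (X : k[X]) ^ (a + 1) * (X - 1) ^ (b + 1) ∈ R (k := k) a b := by
  rw [← T_top a b hb]
  refine Submodule.mem_map_of_mem ?_
  rw [mem_degreeLE]
  refine degree_le_of_natDegree_le ?_
  refine natDegree_mul_le.trans ?_
  have h1 : ((X : k[X]) ^ (a + 1)).natDegree ≤ a + 1 := natDegree_X_pow_le _
  have h2 := natDegree_X_sub_one_pow_le (k := k) b
  omega

lemma V1_le (a b : ℕ) :
    (Ideal.span {(X : k[X]) ^ (a + 1)}).restrictScalars k ⊓ degreeLE k ((a + b : ℕ) : WithBot ℕ) ≤
      R (k := k) a b := by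
  rintro f ⟨hf1, hf2⟩
  have hdvd : (X : k[X]) ^ (a + 1) ∣ f := by
    have : f ∈ Ideal.span {(X : k[X]) ^ (a + 1)} := hf1
    exact Ideal.mem_span_singleton.mp this
  rw [X_pow_dvd_iff] at hdvd
  have hdeg : f.natDegree < a + b + 1 := by
    have : f.degree ≤ ((a + b : ℕ) : WithBot ℕ) := mem_degreeLE.mp hf2
    have := natDegree_le_of_degree_le this
    omega
  rw [as_sum_range' f (a + b + 1) hdeg]
  refine Submodule.sum_mem _ fun n hn => ?_
  rw [Finset.mem_range] at hn
  by_cases han : a < n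
  · rw [← C_mul_X_pow_eq_monomial, ← smul_eq_C_mul]
    exact Submodule.smul_mem _ _ (X_pow_mem a b (a + b - n) n (by omega) han)
  · rw [hdvd n (by omega)]
    simp

lemma V2_le (a b : ℕ) :
    (Ideal.span {((X : k[X]) - 1) ^ (b + 1)}).restrictScalars k ⊓
      degreeLE k ((a + b : ℕ) : WithBot ℕ) ≤ R (k := k) a b := by
  rintro f ⟨hf1, hf2⟩
  have hdvd : ((X : k[X]) - 1) ^ (b + 1) ∣ f := by
    have : f ∈ Ideal.span {((X : k[X]) - 1) ^ (b + 1)} := hf1
    exact Ideal.mem_span_singleton.mp this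
  set g : k[X] := f.comp (X + 1) with hg
  have hgdvd : (X : k[X]) ^ (b + 1) ∣ g := by
    obtain ⟨h, rfl⟩ := hdvd
    refine ⟨h.comp (X + 1), ?_⟩
    rw [hg, mul_comp, pow_comp, sub_comp, X_comp, one_comp, add_sub_cancel_right]
  rw [X_pow_dvd_iff] at hgdvd
  have hfg : f = g.comp (X - 1) := by
    rw [hg, comp_assoc]
    simp
  have hdeg : g.natDegree < a + b + 1 := by
    have h1 : f.degree ≤ ((a + b : ℕ) : WithBot ℕ) := mem_degreeLE.mp hf2
    have h2 := natDegree_le_of_degree_le h1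
    have h3 : g.natDegree = f.natDegree * ((X : k[X]) + 1).natDegree := natDegree_comp
    have h4 : ((X : k[X]) + 1).natDegree = 1 := by
      have : ((X : k[X]) + 1) = X + C 1 := by simp
      rw [this, natDegree_X_add_C]
    rw [h4, mul_one] at h3
    omega
  rw [hfg, as_sum_range' g (a + b + 1) hdeg]
  rw [← coe_compRingHom_apply, map_sum]
  refine Submodule.sum_mem _ fun n hn => ?_
  rw [Finset.mem_range] at hn
  rw [coe_compRingHom_apply, monomial_comp]
  by_cases hbn : b < n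
  · rw [← smul_eq_C_mul]
    exact Submodule.smul_mem _ _ (X_sub_one_pow_mem a b (a + b - n) n (by omega) hbn)
  · rw [hgdvd n (by omega)]
    simp

lemma V_le (a b : ℕ) (hb : 0 < b) :
    ((Ideal.span {(X : k[X]) ^ (a + 1)}).restrictScalars k ⊓
        degreeLE k ((a + b : ℕ) : WithBot ℕ)) ⊔
      ((Ideal.span {((X : k[X]) - 1) ^ (b + 1)}).restrictScalars k ⊓
        degreeLE k ((a + b : ℕ) : WithBot ℕ)) ⊔
      Submodule.span k {(X : k[X]) ^ (a + 1) * (X - 1) ^ (b + 1)} ≤ R (k := k) a b := by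
  refine sup_le (sup_le (V1_le a b) (V2_le a b)) ?_
  rw [Submodule.span_le, Set.singleton_subset_iff]
  exact top_mem a b hb

/-- Key lemma: if `P(p) = 0` and `(X-p)^n ∣ T P` with `p ≠ 0, 1`, then `(X-p)^(n+1) ∣ P`. -/
lemma pow_succ_dvd_of_dvd_T (a b : ℕ) (p : k) (hp0 : p ≠ 0) (hp1 : p ≠ 1) (P : k[X])
    (hP : P.eval p = 0) (n : ℕ) (h : (X - C p) ^ n ∣ T a b P) : (X - C p) ^ (n + 1) ∣ P := by
  by_cases hP0 : P = 0
  · rw [hP0]; exact dvd_zero _
  obtain ⟨Q, hPQ, hQ⟩ := exists_eq_pow_rootMultiplicity_mul_and_not_dvd P hP0 p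
  have hm : 0 < rootMultiplicity p P := (rootMultiplicity_pos hP0).mpr hP
  by_cases hle : n + 1 ≤ rootMultiplicity p P
  · exact (pow_dvd_pow _ hle).trans (pow_rootMultiplicity_dvd P p)
  exfalso
  obtain ⟨m, hm'⟩ : ∃ m, rootMultiplicity p P = m + 1 := ⟨rootMultiplicity p P - 1, by omega⟩
  rw [hm'] at hPQ
  have hmn : m + 1 ≤ n := by omega
  have hdiv : (X - C p) ^ (m + 1) ∣ T a b P := (pow_dvd_pow _ hmn).trans h
  have key : T a b P = (X - C p) ^ m * (X * (X - 1) * ((m + 1 : ℕ) : k[X]) * Q) +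
      (X - C p) ^ (m + 1) *
        (X * (X - 1) * derivative Q - ((a : k[X]) * (X - 1) + (b : k[X]) * X) * Q) := by
    rw [T_apply]
    conv_lhs => rw [hPQ]
    rw [derivative_mul, derivative_X_sub_C_pow]
    simp only [Nat.add_sub_cancel, map_natCast]
    ring
  have h2 : (X - C p) ^ (m + 1) ∣ (X - C p) ^ m * (X * (X - 1) * ((m + 1 : ℕ) : k[X]) * Q) := by
    have := (dvd_add_left (dvd_mul_right ((X - C p) ^ (m + 1)) _)).mp (key ▸ hdiv)
    exact this
  rw [pow_succ] at h2
  have hne : ((X : k[X]) - C p) ^ m ≠ 0 := pow_ne_zero _ (X_sub_C_ne_zero p)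
  have h3 : (X - C p) ∣ X * (X - 1) * ((m + 1 : ℕ) : k[X]) * Q :=
    (mul_dvd_mul_iff_left hne).mp h2
  rw [dvd_iff_isRoot, IsRoot.def] at h3
  rw [dvd_iff_isRoot, IsRoot.def] at hQ
  simp only [eval_mul, eval_X, eval_sub, eval_one, eval_natCast] at h3
  have hm1 : ((m + 1 : ℕ) : k) ≠ 0 := Nat.cast_ne_zero.mpr (by omega)
  have hp1' : p - 1 ≠ 0 := sub_ne_zero.mpr hp1
  exact (mul_ne_zero (mul_ne_zero (mul_ne_zero hp0 hp1') hm1) hQ) h3

lemma exists_ne_zero_of_finrank_pos {M : Type*} [AddCommGroup M] [Module k M]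
    (W : Submodule k M) (h : 1 ≤ Module.finrank k W) : ∃ x ∈ W, x ≠ 0 := by
  by_contra hne
  push Not at hne
  have : W = ⊥ := (Submodule.eq_bot_iff _).2 hne
  rw [this, finrank_bot] at h
  omega

lemma exists_pair_of_two_le_finrank {M : Type*} [AddCommGroup M] [Module k M]
    (W : Submodule k M) (h : 2 ≤ Module.finrank k W) :
    ∃ x ∈ W, ∃ y ∈ W, x ≠ 0 ∧ ∀ c : k, c • x ≠ y := by
  obtain ⟨x, hxW, hx0⟩ := exists_ne_zero_of_finrank_pos W (by omega)
  refine ⟨x, hxW, ?_⟩
  by_contra hne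
  push Not at hne
  have : Module.finrank k W ≤ 1 := by
    refine finrank_le_one (⟨x, hxW⟩ : W) fun w => ?_
    obtain ⟨c, hc⟩ := hne w.1 w.2 hx0
    exact ⟨c, Subtype.ext hc⟩
  omega

theorem main (a b i j : ℕ) (ha : 0 < a) (hb : 0 < b) (hi : 0 < i) (hiab : i ≤ a + b)
    (hj : i + j = a + b + 2)
    (V : Submodule k (Polynomial k))
    (hV : V = ((Ideal.span {(X : Polynomial k) ^ (a + 1)}).restrictScalars k ⊓
        Polynomial.degreeLE k ↑(a + b)) ⊔
      ((Ideal.span {((X : Polynomial k) - 1) ^ (b + 1)}).restrictScalars k ⊓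
        Polynomial.degreeLE k ↑(a + b)) ⊔
      Submodule.span k {(X : Polynomial k) ^ (a + 1) * (X - 1) ^ (b + 1)})
    (p q : k) (hp0 : p ≠ 0) (hp1 : p ≠ 1) (hq0 : q ≠ 0) (hq1 : q ≠ 1) :
    ¬ (1 ≤ Module.finrank k
          ↥(V ⊓ (Ideal.span {(X - C p) ^ i * (X - C q) ^ j}).restrictScalars k) ∧
       2 ≤ Module.finrank k
          ↥(V ⊓ (Ideal.span {(X - C p) ^ (i - 1) * (X - C q) ^ (j - 1)}).restrictScalars k)) := by
  rintro ⟨h1, h2⟩
  have hVR : V ≤ R (k := k) a b := by rw [hV]; exact V_le a b hb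
  set K : k[X] := X ^ a * (X - 1) ^ b with hK
  have hTK : T a b K = 0 := T_ker a b ha hb
  have hKdeg : K.natDegree ≤ a + b := by
    refine natDegree_mul_le.trans ?_
    have h1 : ((X : k[X]) ^ a).natDegree ≤ a := natDegree_X_pow_le _
    have h2 := natDegree_X_sub_one_pow_le (k := k) b
    omega
  have hKp : K.eval p ≠ 0 := by
    simp only [hK, eval_mul, eval_pow, eval_X, eval_sub, eval_one]
    exact mul_ne_zero (pow_ne_zero _ hp0) (pow_ne_zero _ (sub_ne_zero.mpr hp1))
  -- normalisation: subtract a multiple of `K` to vanish at `p`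
  have norm : ∀ f ∈ V, ∃ P : k[X], P.natDegree ≤ a + b + 1 ∧ T a b P = f ∧ P.eval p = 0 := by
    intro f hf
    obtain ⟨P, hP, rfl⟩ := hVR hf
    have hPd : P.natDegree ≤ a + b + 1 := by
      have : P.degree ≤ ((a + b + 1 : ℕ) : WithBot ℕ) := mem_degreeLE.mp hP
      exact natDegree_le_of_degree_le this
    refine ⟨P - C (P.eval p / K.eval p) * K, ?_, ?_, ?_⟩
    · refine (natDegree_sub_le _ _).trans (max_le hPd ?_)
      refine (natDegree_C_mul_le _ _).trans ?_
      omega
    · rw [map_sub, ← smul_eq_C_mul, map_smul, hTK, smul_zero, sub_zero]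
    · simp only [eval_sub, eval_mul, eval_C]
      field_simp
      ring
  by_cases hpq : p = q
  · -- the case `p = q`
    subst hpq
    obtain ⟨f, hfW, hf0⟩ := exists_ne_zero_of_finrank_pos _ h1
    obtain ⟨hfV, hfD⟩ := hfW
    have hfD' : (X - C p) ^ i * (X - C p) ^ j ∣ f := Ideal.mem_span_singleton.mp hfD
    rw [← pow_add] at hfD'
    obtain ⟨P, hPd, hTP, hPp⟩ := norm f hfV
    have hdvd := pow_succ_dvd_of_dvd_T a b p hp0 hp1 P hPp (i + j) (hTP ▸ hfD')
    have hP0 : P ≠ 0 := by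
      rintro rfl
      rw [map_zero] at hTP
      exact hf0 hTP.symm
    have := natDegree_le_of_dvd hdvd hP0
    rw [natDegree_pow, natDegree_X_sub_C, mul_one] at this
    omega
  · -- the case `p ≠ q`
    obtain ⟨f₁, hf₁W, f₂, hf₂W, hf₁0, hf₁₂⟩ := exists_pair_of_two_le_finrank _ h2
    obtain ⟨hf₁V, hf₁D⟩ := hf₁W
    obtain ⟨hf₂V, hf₂D⟩ := hf₂W
    have hf₁D' : (X - C p) ^ (i - 1) * (X - C q) ^ (j - 1) ∣ f₁ := Ideal.mem_span_singleton.mp hf₁D
    have hf₂D' : (X - C p) ^ (i - 1) * (X - C q) ^ (j - 1) ∣ f₂ := Ideal.mem_span_singleton.mp hf₂D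
    obtain ⟨P₁, hP₁d, hTP₁, hP₁p⟩ := norm f₁ hf₁V
    obtain ⟨P₂, hP₂d, hTP₂, hP₂p⟩ := norm f₂ hf₂V
    -- a combination vanishing at `p` and `q`
    have hex : ∃ P : k[X], P.natDegree ≤ a + b + 1 ∧ P.eval p = 0 ∧ P.eval q = 0 ∧
        T a b P ≠ 0 ∧ (X - C p) ^ (i - 1) * (X - C q) ^ (j - 1) ∣ T a b P := by
      by_cases h0 : P₁.eval q = 0
      · exact ⟨P₁, hP₁d, hP₁p, h0, by rw [hTP₁]; exact hf₁0, by rw [hTP₁]; exact hf₁D'⟩
      · refine ⟨C (P₂.eval q) * P₁ - C (P₁.eval q) * P₂, ?_, ?_, ?_, ?_, ?_⟩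
        · refine (natDegree_sub_le _ _).trans (max_le ?_ ?_)
          · exact (natDegree_C_mul_le _ _).trans hP₁d
          · exact (natDegree_C_mul_le _ _).trans hP₂d
        · simp [hP₁p, hP₂p]
        · simp only [eval_sub, eval_mul, eval_C]
          ring
        · rw [map_sub, ← smul_eq_C_mul, ← smul_eq_C_mul, map_smul, map_smul, hTP₁, hTP₂]
          intro hzero
          refine hf₁₂ (P₂.eval q / P₁.eval q) ?_
          have : P₁.eval q • f₂ = P₂.eval q • f₁ := (sub_eq_zero.mp hzero).symm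
          calc (P₂.eval q / P₁.eval q) • f₁ = (P₁.eval q)⁻¹ • (P₂.eval q • f₁) := by
                rw [smul_smul, div_eq_inv_mul]
            _ = (P₁.eval q)⁻¹ • (P₁.eval q • f₂) := by rw [this]
            _ = f₂ := by rw [smul_smul, inv_mul_cancel₀ h0, one_smul]
        · rw [map_sub, ← smul_eq_C_mul, ← smul_eq_C_mul, map_smul, map_smul, hTP₁, hTP₂]
          rw [smul_eq_C_mul, smul_eq_C_mul]
          exact dvd_sub (Dvd.dvd.mul_left hf₁D' _) (Dvd.dvd.mul_left hf₂D' _)
    obtain ⟨P, hPd, hPp, hPq, hTP0, hTPD⟩ := hex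
    have hdp : (X - C p) ^ (i - 1) ∣ T a b P := (dvd_mul_right _ _).trans hTPD
    have hdq : (X - C q) ^ (j - 1) ∣ T a b P := (dvd_mul_left _ _).trans hTPD
    have h3 := pow_succ_dvd_of_dvd_T a b p hp0 hp1 P hPp (i - 1) hdp
    have h4 := pow_succ_dvd_of_dvd_T a b q hq0 hq1 P hPq (j - 1) hdq
    have hi' : i - 1 + 1 = i := by omega
    have hj' : j - 1 + 1 = j := by omega
    rw [hi'] at h3
    rw [hj'] at h4
    have hcop : IsCoprime ((X - C p) ^ i) ((X - C q) ^ j) := by
      refine IsCoprime.pow ?_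
      refine isCoprime_X_sub_C_of_isUnit_sub ?_
      exact (sub_ne_zero.mpr hpq).isUnit
    have h5 : (X - C p) ^ i * (X - C q) ^ j ∣ P := hcop.mul_dvd h3 h4
    have hP0 : P ≠ 0 := by
      rintro rfl
      exact hTP0 (map_zero _)
    have := natDegree_le_of_dvd h5 hP0
    rw [natDegree_mul (pow_ne_zero _ (X_sub_C_ne_zero p)) (pow_ne_zero _ (X_sub_C_ne_zero q)),
      natDegree_pow, natDegree_pow, natDegree_X_sub_C, natDegree_X_sub_C, mul_one, mul_one] at this
    omega

end Groth.Agent.Helper20.Wronsk3
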